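import Mathlib
import Cfsg.Agent.Helper5.PPrimeCore

/-!
Sylow theory inside `P ⊔ N` for `N` a normal `p'`-subgroup (helper3).
-/

set_option autoImplicit false

namespace Cfsg.Agent.Helper3

open scoped Pointwise

variable {G : Type*} [Group G] [Finite G]

/-- `P` has index prime to `p` in `P ⊔ N`. -/
theorem not_dvd_relIndex_sup {p : ℕ} [Fact p.Prime] (N : Subgroup G) [N.Normal]
    (hN : (Nat.card N).Coprime p) (P : Subgroup G) : ¬ p ∣ P.relIndex (P ⊔ N) := by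
  intro hd
  have h1 : P.relIndex (P ⊔ N) * Nat.card P = Nat.card ↥(P ⊔ N) := by
    have := Subgroup.card_mul_index (P.subgroupOf (P ⊔ N))
    rw [Nat.card_congr (Subgroup.subgroupOfEquivOfLe (le_sup_left : P ≤ P ⊔ N)).toEquiv] at this
    rw [mul_comm]; exact this
  have h2 := Cfsg.Agent.Helper5.card_sup_dvd_of_normal P N
  rw [← h1, mul_comm] at h2
  have h3 : P.relIndex (P ⊔ N) ∣ Nat.card N :=
    (Nat.mul_dvd_mul_iff_left Nat.card_pos).1 h2
  have h4 : p ∣ Nat.card N := hd.trans h3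
  have := Nat.Coprime.eq_one_of_dvd hN.symm h4
  exact (Fact.out : p.Prime).one_lt.ne' this

/-- A `p`-subgroup of `P ⊔ N` is conjugate into `P` by an element of `P ⊔ N`. -/
theorem exists_conj_into {p : ℕ} [Fact p.Prime] (N : Subgroup G) [N.Normal]
    (hN : (Nat.card N).Coprime p) (P Z : Subgroup G) (hP : IsPGroup p P) (hZ : IsPGroup p Z)
    (hZle : Z ≤ P ⊔ N) : ∃ m ∈ P ⊔ N, ∀ z ∈ Z, m * z * m⁻¹ ∈ P := by
  set H := P ⊔ N with hH
  have hP' : IsPGroup p (P.subgroupOf H) := hP.comap_of_injective H.subtype H.subtype_injective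
  have hZ' : IsPGroup p (Z.subgroupOf H) := hZ.comap_of_injective H.subtype H.subtype_injective
  have hidxP : ¬ p ∣ (P.subgroupOf H).index := not_dvd_relIndex_sup N hN P
  let SP : Sylow p ↥H := hP'.toSylow hidxP
  obtain ⟨SZ, hSZ⟩ := hZ'.exists_le_sylow
  obtain ⟨m, hm⟩ := MulAction.exists_smul_eq ↥H SZ SP
  refine ⟨(m : G), m.2, ?_⟩
  intro z hz
  have hzH : z ∈ H := hZle hz
  have h1 : (⟨z, hzH⟩ : ↥H) ∈ (SZ : Subgroup ↥H) := by
    apply hSZ
    rw [Subgroup.mem_subgroupOf]; exact hz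
  have h2 : m * ⟨z, hzH⟩ * m⁻¹ ∈ ((m • SZ : Sylow p ↥H) : Subgroup ↥H) := by
    rw [Sylow.coe_subgroup_smul]
    have := Subgroup.smul_mem_pointwise_smul (⟨z, hzH⟩ : ↥H) (MulAut.conj m) (SZ : Subgroup ↥H) h1
    simpa [MulAut.smul_def] using this
  rw [hm] at h2
  have h3 : m * ⟨z, hzH⟩ * m⁻¹ ∈ P.subgroupOf H := h2
  rw [Subgroup.mem_subgroupOf] at h3
  simpa using h3

/-- A `p`-subgroup of `P ⊔ N` is conjugate into `P` by an element of `N`. -/
theorem exists_conj_into' {p : ℕ} [Fact p.Prime] (N : Subgroup G) [N.Normal]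
    (hN : (Nat.card N).Coprime p) (P Z : Subgroup G) (hP : IsPGroup p P) (hZ : IsPGroup p Z)
    (hZle : Z ≤ P ⊔ N) : ∃ n ∈ N, ∀ z ∈ Z, n * z * n⁻¹ ∈ P := by
  obtain ⟨m, hm, hmz⟩ := exists_conj_into N hN P Z hP hZ hZle
  rw [← SetLike.mem_coe, Subgroup.mul_normal, Set.mem_mul] at hm
  obtain ⟨u, hu, n, hn, rfl⟩ := hm
  refine ⟨n, hn, fun z hz => ?_⟩
  have := P.mul_mem (P.mul_mem (P.inv_mem hu) (hmz z hz)) hu
  have e : u⁻¹ * (u * n * z * (u * n)⁻¹) * u = n * z * n⁻¹ := by group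
  rwa [e] at this

end Cfsg.Agent.Helper3
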