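import Mathlib
import Cfsg.Prelude.Def_OddOrderLocal
import Cfsg.Agent.Helper1.Hall
import Cfsg.Agent.Helper1.SylowInt
import Cfsg.Agent.Helper1.Coprime
import Cfsg.Agent.Helper1.Basic
import Cfsg.Agent.Helper4.PCore

set_option autoImplicit false

/-!
Coprime action on a solvable group: invariant Hall subgroups.
-/

namespace Cfsg.Agent.Helper3

open scoped Pointwise
open Cfsg.Agent.Helper1

universe u

/-- `N = m * n` with `m` a `π`-number and `n` a `π'`-number. -/
structure PiDecomp (π : Set ℕ) (N m n : ℕ) : Prop where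
  eq : N = m * n
  left : ∀ p : ℕ, p.Prime → p ∣ m → p ∈ π
  right : ∀ p : ℕ, p.Prime → p ∣ n → p ∉ π

theorem PiDecomp.coprime {π : Set ℕ} {N m n : ℕ} (h : PiDecomp π N m n) : m.Coprime n :=
  Nat.Coprime.symm <| Nat.coprime_of_dvd fun k hk hkn hkm => h.right k hk hkn (h.left k hk hkm)

theorem exists_piDecomp (π : Set ℕ) (N : ℕ) (hN : N ≠ 0) : ∃ m n, PiDecomp π N m n := by
  induction N using Nat.recOnMul with
  | zero => exact absurd rfl hN
  | one =>
    exact ⟨1, 1, rfl, fun p hp h => absurd (Nat.dvd_one.1 h) hp.ne_one,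
      fun p hp h => absurd (Nat.dvd_one.1 h) hp.ne_one⟩
  | prime p hp =>
    by_cases hpπ : p ∈ π
    · refine ⟨p, 1, (mul_one p).symm, fun q hq h => ?_, fun q hq h => absurd (Nat.dvd_one.1 h) hq.ne_one⟩
      rwa [(Nat.prime_dvd_prime_iff_eq hq hp).1 h]
    · refine ⟨1, p, (one_mul p).symm, fun q hq h => absurd (Nat.dvd_one.1 h) hq.ne_one, fun q hq h => ?_⟩
      rwa [(Nat.prime_dvd_prime_iff_eq hq hp).1 h]
  | mul a b iha ihb =>
    have ha : a ≠ 0 := fun h => hN (by rw [h, zero_mul])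
    have hb : b ≠ 0 := fun h => hN (by rw [h, mul_zero])
    obtain ⟨m1, n1, h1⟩ := iha ha
    obtain ⟨m2, n2, h2⟩ := ihb hb
    refine ⟨m1 * m2, n1 * n2, ?_, fun q hq h => ?_, fun q hq h => ?_⟩
    · rw [h1.eq, h2.eq]; ring
    · rcases (Nat.Prime.dvd_mul hq).1 h with h | h
      · exact h1.left q hq h
      · exact h2.left q hq h
    · rcases (Nat.Prime.dvd_mul hq).1 h with h | h
      · exact h1.right q hq h
      · exact h2.right q hq h

theorem PiDecomp.pos_left {π : Set ℕ} {N m n : ℕ} (h : PiDecomp π N m n) (hN : N ≠ 0) : 0 < m := by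
  rcases Nat.eq_zero_or_pos m with h0 | h0
  · exact absurd (by rw [h.eq, h0, zero_mul]) hN
  · exact h0

theorem PiDecomp.pos_right {π : Set ℕ} {N m n : ℕ} (h : PiDecomp π N m n) (hN : N ≠ 0) : 0 < n := by
  rcases Nat.eq_zero_or_pos n with h0 | h0
  · exact absurd (by rw [h.eq, h0, mul_zero]) hN
  · exact h0

/-- uniqueness of the `π`-part -/
theorem PiDecomp.eq_of_mul {π : Set ℕ} {N m n a b : ℕ} (h : PiDecomp π N m n) (hN : N ≠ 0)
    (hab : a * b = N) (ha : ∀ p : ℕ, p.Prime → p ∣ a → p ∈ π)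
    (hb : ∀ p : ℕ, p.Prime → p ∈ π → ¬ p ∣ b) : a = m ∧ b = n := by
  have hmpos := h.pos_left hN
  have hnpos := h.pos_right hN
  have hmn : a * b = m * n := hab.trans h.eq
  have h1 : a.Coprime n := Nat.coprime_of_dvd fun k hk hka hkn => h.right k hk hkn (ha k hk hka)
  have h2 : b.Coprime m := Nat.coprime_of_dvd fun k hk hkb hkm => hb k hk (h.left k hk hkm) hkb
  have h3 : a ∣ m := h1.dvd_of_dvd_mul_right (hmn ▸ Dvd.intro b rfl)
  have h4 : b ∣ n := h2.dvd_of_dvd_mul_left (hmn ▸ Dvd.intro_left a rfl)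
  have h5 : a ≤ m := Nat.le_of_dvd hmpos h3
  have h6 : b ≤ n := Nat.le_of_dvd hnpos h4
  have hapos : 0 < a := Nat.pos_of_ne_zero fun h0 => hN (by rw [← hab, h0, zero_mul])
  have hbpos : 0 < b := Nat.pos_of_ne_zero fun h0 => hN (by rw [← hab, h0, mul_zero])
  constructor
  · rcases h5.lt_or_eq with h7 | h7
    · exfalso
      have : a * b < m * n := Nat.mul_lt_mul_of_lt_of_le h7 h6 hnpos
      omega
    · exact h7
  · rcases h6.lt_or_eq with h7 | h7
    · exfalso
      have : a * b < m * n := Nat.mul_lt_mul_of_le_of_lt h5 h7 hmpos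
      omega
    · exact h7

variable {X : Type u} [Group X]

theorem isPiHallOf_iff_card [Finite X] {π : Set ℕ} {H G : Subgroup X} {m n : ℕ}
    (hd : PiDecomp π (Nat.card G) m n) :
    Cfsg.IsPiHallOf π H G ↔ H ≤ G ∧ Nat.card H = m := by
  have hG0 : Nat.card G ≠ 0 := Nat.card_pos.ne'
  constructor
  · rintro ⟨hHG, h1, h2⟩
    refine ⟨hHG, ?_⟩
    have hmul : Nat.card H * H.relIndex G = Nat.card G := by
      rw [mul_comm]; exact relIndex_mul_card_of_le hHG
    exact (hd.eq_of_mul hG0 hmul h1 h2).1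
  · rintro ⟨hHG, hcard⟩
    have hmul : H.relIndex G * Nat.card H = Nat.card G := relIndex_mul_card_of_le hHG
    have hrel : H.relIndex G = n := by
      rw [hcard, hd.eq, mul_comm] at hmul
      exact Nat.eq_of_mul_eq_mul_left (hd.pos_left hG0) hmul
    refine ⟨hHG, fun p hp hpd => hd.left p hp (hcard ▸ hpd), fun p hp hpπ hpd => ?_⟩
    exact hd.right p hp (hrel ▸ hpd) hpπ

theorem hall_internal [Finite X] (G : Subgroup X) (hsolv : Group.IsSolvable G) {π : Set ℕ} {m n : ℕ}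
    (hd : PiDecomp π (Nat.card G) m n) :
    (∀ H K : Subgroup X, H ≤ G → K ≤ G → Nat.card H = m → Nat.card K = m →
      ∃ g ∈ G, MulAut.conj g • H = K) ∧
    (∀ K : Subgroup X, K ≤ G → (Nat.card K).Coprime n →
      ∃ H : Subgroup X, H ≤ G ∧ Nat.card H = m ∧ K ≤ H) := by
  have := hsolv
  exact HallProp.internal (hallProp_of_solvable _ G rfl) m n hd.eq hd.coprime

/-- Coprime action: existence of an invariant Hall `π`-subgroup. -/
theorem exists_invariant_hall [Finite X] (A G : Subgroup X)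
    (hAG : A ≤ Subgroup.normalizer (G : Set X)) (hcop : (Nat.card A).Coprime (Nat.card G))
    (hsolv : Group.IsSolvable G) (π : Set ℕ) :
    ∃ H : Subgroup X, Cfsg.IsPiHallOf π H G ∧ A ≤ Subgroup.normalizer (H : Set X) := by
  obtain ⟨m, n, hd⟩ := exists_piDecomp π (Nat.card G) Nat.card_pos.ne'
  obtain ⟨hC, hD⟩ := hall_internal G hsolv hd
  obtain ⟨H₀, hH₀G, hH₀, -⟩ := hD ⊥ bot_le (by rw [Subgroup.card_bot]; exact Nat.coprime_one_left n)
  obtain ⟨k, hk, hfix⟩ := glauberman_exists_subgroup A G hAG hcop (Or.inr hsolv) H₀ (by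
    intro a ha
    have h1 : MulAut.conj a • H₀ ≤ G := by
      have := conj_smul_mono hH₀G a
      rwa [conj_smul_eq_of_mem_normalizer (hAG ha)] at this
    obtain ⟨g, hg, hg'⟩ := hC H₀ (MulAut.conj a • H₀) hH₀G h1 hH₀ (by rw [card_conj_smul, hH₀])
    exact ⟨g, hg, hg'.symm⟩)
  refine ⟨MulAut.conj k • H₀, (isPiHallOf_iff_card hd).2 ⟨?_, by rw [card_conj_smul, hH₀]⟩,
    fun a ha => mem_normalizer_of_conj_smul_eq (hfix a ha)⟩
  have := conj_smul_mono hH₀G k
  rwa [conj_smul_eq_of_mem_normalizer (Subgroup.le_normalizer hk)] at this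

/-- Coprime action: invariant Hall `π`-subgroups are conjugate under the fixed points. -/
theorem invariant_hall_conj [Finite X] (A G : Subgroup X)
    (hAG : A ≤ Subgroup.normalizer (G : Set X)) (hcop : (Nat.card A).Coprime (Nat.card G))
    (hsolv : Group.IsSolvable G) (π : Set ℕ) (H₁ H₂ : Subgroup X)
    (h₁ : Cfsg.IsPiHallOf π H₁ G) (hA₁ : A ≤ Subgroup.normalizer (H₁ : Set X))
    (h₂ : Cfsg.IsPiHallOf π H₂ G) (hA₂ : A ≤ Subgroup.normalizer (H₂ : Set X)) :
    ∃ c ∈ G ⊓ Subgroup.centralizer (A : Set X), MulAut.conj c • H₁ = H₂ := by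
  obtain ⟨m, n, hd⟩ := exists_piDecomp π (Nat.card G) Nat.card_pos.ne'
  obtain ⟨hC, -⟩ := hall_internal G hsolv hd
  obtain ⟨hH₁G, hc₁⟩ := (isPiHallOf_iff_card hd).1 h₁
  obtain ⟨hH₂G, hc₂⟩ := (isPiHallOf_iff_card hd).1 h₂
  obtain ⟨g, hg, hg'⟩ := hC H₁ H₂ hH₁G hH₂G hc₁ hc₂
  exact glauberman_conj_subgroup A G hAG hcop (Or.inr hsolv) H₁ H₂
    (fun a ha => conj_smul_eq_of_mem_normalizer (hA₁ ha))
    (fun a ha => conj_smul_eq_of_mem_normalizer (hA₂ ha)) g hg hg'

theorem pCore_characteristic (p : ℕ) (G : Type*) [Group G] : (Cfsg.pCore p G).Characteristic := by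
  rw [Subgroup.characteristic_iff_map_le]
  intro φ
  unfold Cfsg.pCore
  rw [Subgroup.map_le_iff_le_comap]
  apply sSup_le
  intro N hN
  rw [← Subgroup.map_le_iff_le_comap]
  apply le_sSup
  exact ⟨hN.1.map φ.toMonoidHom φ.surjective, hN.2.map _⟩

theorem exists_normal_pgroup_le [Finite X] (G : Subgroup X) [G.Normal] (hsolv : Group.IsSolvable G)
    (hG : G ≠ ⊥) :
    ∃ (q : ℕ) (_ : Fact q.Prime) (M : Subgroup X), M.Normal ∧ M ≤ G ∧ M ≠ ⊥ ∧ IsPGroup q M := by
  have := hsolv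
  have : Nontrivial G := (Subgroup.nontrivial_iff_ne_bot G).2 hG
  obtain ⟨q, hq, M', hM'n, hM'ne, hM'q, -, -⟩ := exists_normal_pgroup_of_solvable G
  have := hq
  have hle : M' ≤ Cfsg.pCore q G := Cfsg.Agent.Helper4.le_pCore M' hM'n hM'q
  have := pCore_characteristic q G
  refine ⟨q, hq, (Cfsg.pCore q G).map G.subtype, ConjAct.normal_of_characteristic_of_normal,
    Subgroup.map_subtype_le _, ?_, ?_⟩
  · intro h
    rw [Subgroup.map_eq_bot_iff_of_injective _ G.subtype_injective] at h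
    exact hM'ne (le_bot_iff.1 (h ▸ hle))
  · exact (Cfsg.Agent.Helper4.pCore_isPGroup).map _

theorem normalizer_sup_le {A Y Z : Subgroup X}
    (hY : A ≤ Subgroup.normalizer (Y : Set X)) (hZ : A ≤ Subgroup.normalizer (Z : Set X)) :
    A ≤ Subgroup.normalizer ((Y ⊔ Z : Subgroup X) : Set X) := by
  intro a ha
  apply mem_normalizer_of_conj_smul_eq
  rw [Subgroup.smul_sup, conj_smul_eq_of_mem_normalizer (hY ha),
    conj_smul_eq_of_mem_normalizer (hZ ha)]

theorem exists_invariant_hall_ge_aux (π : Set ℕ) : ∀ (k : ℕ) (X : Type u) [Group X] [Finite X]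
    (A G : Subgroup X) [G.Normal], Nat.card G = k → (Nat.card A).Coprime (Nat.card G) →
    Group.IsSolvable G → ∀ U : Subgroup X, U ≤ G → A ≤ Subgroup.normalizer (U : Set X) →
    (∀ p : ℕ, p.Prime → p ∣ Nat.card U → p ∈ π) →
    ∃ H : Subgroup X, Cfsg.IsPiHallOf π H G ∧ A ≤ Subgroup.normalizer (H : Set X) ∧ U ≤ H := by
  intro k
  induction k using Nat.strong_induction_on with
  | _ k ih =>
  intro X _ _ A G _ hk hcop hsolv U hUG hAU hUπ
  by_cases hG : G = ⊥
  · have hU : U = ⊥ := le_bot_iff.1 (hG ▸ hUG)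
    refine ⟨U, ⟨hUG, hUπ, fun p hp _ hpd => ?_⟩, hAU, le_rfl⟩
    rw [hU, hG, Subgroup.relIndex_bot_right] at hpd
    exact hp.ne_one (Nat.dvd_one.1 hpd)
  obtain ⟨q, hq, M, hMn, hMG, hMne, hMq⟩ := exists_normal_pgroup_le G hsolv hG
  have hqp : q.Prime := hq.out
  obtain ⟨e, he⟩ := IsPGroup.iff_card.1 hMq
  have hMprime : ∀ p : ℕ, p.Prime → p ∣ Nat.card M → p = q := by
    intro p hp h
    rw [he] at h
    exact (Nat.prime_dvd_prime_iff_eq hp hqp).1 (hp.dvd_of_dvd_pow h)
  set f := QuotientGroup.mk' M with hf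
  have hfs : Function.Surjective f := QuotientGroup.mk'_surjective M
  have hGbn : (G.map f).Normal := Subgroup.Normal.map inferInstance f hfs
  have hcardG : Nat.card (G.map f) * Nat.card M = Nat.card G := card_map_mk'_mul_card M G hMG
  have hM1 : 1 < Nat.card M := (Subgroup.one_lt_card_iff_ne_bot M).2 hMne
  have hlt : Nat.card (G.map f) < k := by
    rw [← hk, ← hcardG]; exact lt_mul_of_one_lt_right Nat.card_pos hM1
  have hcopb : (Nat.card (A.map f)).Coprime (Nat.card (G.map f)) :=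
    Nat.Coprime.coprime_dvd_left (Subgroup.card_map_dvd A f)
      (Nat.Coprime.coprime_dvd_right (Subgroup.card_map_dvd G f) hcop)
  have hsolvb : Group.IsSolvable (G.map f) := by
    have := hsolv
    exact Group.isSolvable_of_surjective (f := f.subgroupMap G) (f.subgroupMap_surjective G)
  have hUb : U.map f ≤ G.map f := Subgroup.map_mono hUG
  have hAUb : A.map f ≤ Subgroup.normalizer ((U.map f : Subgroup (X ⧸ M)) : Set (X ⧸ M)) :=
    (Subgroup.map_mono hAU).trans (Subgroup.le_normalizer_map f)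
  have hUbπ : ∀ p : ℕ, p.Prime → p ∣ Nat.card (U.map f) → p ∈ π :=
    fun p hp h => hUπ p hp (h.trans (Subgroup.card_map_dvd U f))
  obtain ⟨Kb, hKb, hAKb, hUKb⟩ := ih _ hlt (X ⧸ M) (A.map f) (G.map f) rfl hcopb hsolvb (U.map f)
    hUb hAUb hUbπ
  set K := Kb.comap f with hK
  have hKG : K ≤ G := by
    have h1 : K ≤ (G.map f).comap f := Subgroup.comap_mono hKb.1
    rw [hf, QuotientGroup.comap_map_mk', sup_eq_right.2 hMG] at h1
    exact h1
  have hMK : M ≤ K := QuotientGroup.le_comap_mk' M Kb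
  have hUK : U ≤ K := (Subgroup.le_comap_map f U).trans (Subgroup.comap_mono hUKb)
  have hAK : A ≤ Subgroup.normalizer (K : Set X) := by
    intro a ha
    have h1 : f a ∈ Subgroup.normalizer (Kb : Set (X ⧸ M)) := hAKb (Subgroup.mem_map_of_mem f ha)
    have h2 : a ∈ (Subgroup.normalizer (Kb : Set (X ⧸ M))).comap f := h1
    rwa [Subgroup.comap_normalizer_eq_of_surjective _ hfs] at h2
  have hKcard : Nat.card K = Nat.card Kb * Nat.card M := card_comap_mk' M Kb
  have hrel : K.relIndex G = Kb.relIndex (G.map f) := Subgroup.relIndex_comap (H := Kb) f G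
  by_cases hqπ : q ∈ π
  · refine ⟨K, ⟨hKG, ?_, ?_⟩, hAK, hUK⟩
    · intro p hp hpd
      rw [hKcard] at hpd
      rcases (Nat.Prime.dvd_mul hp).1 hpd with h | h
      · exact hKb.2.1 p hp h
      · rw [hMprime p hp h]; exact hqπ
    · intro p hp hpπ
      rw [hrel]
      exact hKb.2.2 p hp hpπ
  · -- `q ∉ π`
    have hsolvK : Group.IsSolvable K := isSolvable_of_le hKG hsolv
    have hcopK : (Nat.card A).Coprime (Nat.card K) :=
      hcop.coprime_dvd_right (Subgroup.card_dvd_of_le hKG)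
    obtain ⟨H₁, hH₁, hAH₁⟩ := exists_invariant_hall A K hAK hcopK hsolvK π
    have hdK : PiDecomp π (Nat.card K) (Nat.card Kb) (Nat.card M) :=
      ⟨hKcard, hKb.2.1, fun p hp h => by rw [hMprime p hp h]; exact hqπ⟩
    obtain ⟨hH₁K, hH₁card⟩ := (isPiHallOf_iff_card hdK).1 hH₁
    have hH₁G : Cfsg.IsPiHallOf π H₁ G := by
      refine ⟨hH₁K.trans hKG, hH₁.2.1, fun p hp hpπ hpd => ?_⟩
      rw [← Subgroup.relIndex_mul_relIndex H₁ K G hH₁K hKG] at hpd
      rcases (Nat.Prime.dvd_mul hp).1 hpd with h | h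
      · exact hH₁.2.2 p hp hpπ h
      · rw [hrel] at h; exact hKb.2.2 p hp hpπ h
    have hMH₁ : H₁ ⊓ M = ⊥ := inf_eq_bot_of_coprime_card (hH₁card ▸ hdK.coprime)
    have hKeq : H₁ ⊔ M = K := by
      apply Subgroup.eq_of_le_of_card_ge (sup_le hH₁K hMK)
      rw [card_sup_of_disjoint_normal H₁ M hMH₁, hH₁card, hKcard]
    set UM := U ⊔ M with hUM
    have hUMK : UM ≤ K := sup_le hUK hMK
    have hAM : A ≤ Subgroup.normalizer (M : Set X) := by
      rw [Subgroup.normalizer_eq_top_iff.mpr hMn]; exact le_top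
    have hAUM : A ≤ Subgroup.normalizer (UM : Set X) := normalizer_sup_le hAU hAM
    set V := UM ⊓ H₁ with hV
    have hAV : A ≤ Subgroup.normalizer (V : Set X) := le_normalizer_inf hAUM hAH₁
    have hUMeq : V ⊔ M = UM := by
      apply le_antisymm (sup_le inf_le_left le_sup_right)
      intro g hg
      have hgK : g ∈ H₁ ⊔ M := hKeq ▸ hUMK hg
      obtain ⟨h, hh, m, hm, rfl⟩ := Subgroup.mem_sup_of_normal_right.mp hgK
      have hhUM : h ∈ UM := by
        have : h = (h * m) * m⁻¹ := by group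
        rw [this]; exact UM.mul_mem hg (UM.inv_mem (Subgroup.mem_sup_right hm))
      exact Subgroup.mul_mem _ (Subgroup.mem_sup_left ⟨hhUM, hh⟩) (Subgroup.mem_sup_right hm)
    have hUMcop : (Nat.card U).Coprime (Nat.card M) :=
      Nat.coprime_of_dvd fun p hp hpU hpM => hqπ (hMprime p hp hpM ▸ hUπ p hp hpU)
    have hUMdisj : U ⊓ M = ⊥ := inf_eq_bot_of_coprime_card hUMcop
    have hUMcard : Nat.card UM = Nat.card U * Nat.card M := card_sup_of_disjoint_normal U M hUMdisj
    have hVdisj : V ⊓ M = ⊥ := le_bot_iff.1 (hMH₁ ▸ inf_le_inf_right M inf_le_right)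
    have hVcard : Nat.card V * Nat.card M = Nat.card U * Nat.card M := by
      rw [← card_sup_of_disjoint_normal V M hVdisj, hUMeq, hUMcard]
    have hVU : Nat.card V = Nat.card U := Nat.eq_of_mul_eq_mul_right Nat.card_pos hVcard
    have hdUM : PiDecomp π (Nat.card UM) (Nat.card U) (Nat.card M) := ⟨hUMcard, hUπ, hdK.right⟩
    have hUhall : Cfsg.IsPiHallOf π U UM := (isPiHallOf_iff_card hdUM).2 ⟨le_sup_left, rfl⟩
    have hVhall : Cfsg.IsPiHallOf π V UM := (isPiHallOf_iff_card hdUM).2 ⟨inf_le_left, hVU⟩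
    have hsolvUM : Group.IsSolvable UM := isSolvable_of_le (hUMK.trans hKG) hsolv
    have hcopUM : (Nat.card A).Coprime (Nat.card UM) :=
      hcop.coprime_dvd_right (Subgroup.card_dvd_of_le (hUMK.trans hKG))
    obtain ⟨c, hc, hcVU⟩ := invariant_hall_conj A UM hAUM hcopUM hsolvUM π V U hVhall hAV hUhall hAU
    refine ⟨MulAut.conj c • H₁, ?_, ?_, ?_⟩
    · obtain ⟨m', n', hdG⟩ := exists_piDecomp π (Nat.card G) Nat.card_pos.ne'
      obtain ⟨h1, h2⟩ := (isPiHallOf_iff_card hdG).1 hH₁G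
      refine (isPiHallOf_iff_card hdG).2 ⟨?_, by rw [card_conj_smul, h2]⟩
      have := conj_smul_mono h1 c
      rwa [conj_smul_normal G c] at this
    · intro a ha
      apply mem_normalizer_of_conj_smul_eq
      have hca : a * c = c * a := (Subgroup.mem_centralizer_iff.1 hc.2) a ha
      rw [← mul_smul, ← map_mul, hca, map_mul, mul_smul, conj_smul_eq_of_mem_normalizer (hAH₁ ha)]
    · rw [← hcVU]
      exact conj_smul_mono inf_le_right c

/-- Coprime action: every invariant `π`-subgroup lies in an invariant Hall `π`-subgroup. -/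
theorem exists_invariant_hall_ge [Finite X] (A G : Subgroup X)
    (hAG : A ≤ Subgroup.normalizer (G : Set X)) (hcop : (Nat.card A).Coprime (Nat.card G))
    (hsolv : Group.IsSolvable G) (π : Set ℕ) (U : Subgroup X) (hUG : U ≤ G)
    (hAU : A ≤ Subgroup.normalizer (U : Set X))
    (hUπ : ∀ p : ℕ, p.Prime → p ∣ Nat.card U → p ∈ π) :
    ∃ H : Subgroup X, Cfsg.IsPiHallOf π H G ∧ A ≤ Subgroup.normalizer (H : Set X) ∧ U ≤ H := by
  set N := Subgroup.normalizer (G : Set X) with hN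
  have hGN : G ≤ N := Subgroup.le_normalizer
  have hGn : (G.subgroupOf N).Normal := Subgroup.normal_in_normalizer
  have hcard : Nat.card (G.subgroupOf N) = Nat.card G := card_subgroupOf_of_le hGN
  have hsolv' : Group.IsSolvable (G.subgroupOf N) := by
    have := hsolv
    exact Group.isSolvable_of_surjective (f := (Subgroup.subgroupOfEquivOfLe hGN).symm.toMonoidHom)
      (Subgroup.subgroupOfEquivOfLe hGN).symm.surjective
  obtain ⟨H', hH', hAH', hUH'⟩ := exists_invariant_hall_ge_aux π _ N (A.subgroupOf N)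
    (G.subgroupOf N) rfl (by rw [card_subgroupOf_of_le hAG, hcard]; exact hcop) hsolv'
    (U.subgroupOf N) (Subgroup.comap_mono hUG)
    (by
      rw [← Subgroup.subgroupOf_normalizer_eq (hUG.trans hGN)]
      exact Subgroup.comap_mono hAU)
    (by rw [card_subgroupOf_of_le (hUG.trans hGN)]; exact hUπ)
  obtain ⟨m, n, hd⟩ := exists_piDecomp π (Nat.card G) Nat.card_pos.ne'
  have hd' : PiDecomp π (Nat.card (G.subgroupOf N)) m n := by rw [hcard]; exact hd
  obtain ⟨h1, h2⟩ := (isPiHallOf_iff_card hd').1 hH'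
  refine ⟨H'.map N.subtype, (isPiHallOf_iff_card hd).2 ⟨?_, ?_⟩, ?_, ?_⟩
  · have := Subgroup.map_mono (f := N.subtype) h1
    rwa [Subgroup.map_subgroupOf_eq_of_le hGN] at this
  · rw [card_map_subtype, h2]
  · have := (Subgroup.map_mono (f := N.subtype) hAH').trans (Subgroup.le_normalizer_map N.subtype)
    rwa [Subgroup.map_subgroupOf_eq_of_le hAG] at this
  · have := Subgroup.map_mono (f := N.subtype) hUH'
    rwa [Subgroup.map_subgroupOf_eq_of_le (hUG.trans hGN)] at this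

end Cfsg.Agent.Helper3
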