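import Mathlib
import Cfsg.Prelude.Def_Transfer

set_option autoImplicit false

/-!
An irreducible module for a cyclic group over `ZMod q`, on which the generator `T` satisfies
`T ^ (q ^ e) = T`, has at most `q ^ e` elements.
-/

namespace Cfsg.Agent.Helper3.IrrCyclic

open Polynomial

theorem pow_eq_expand {q : ℕ} [hq : Fact q.Prime] (f : (ZMod q)[X]) (e : ℕ) :
    f ^ (q ^ e) = expand (ZMod q) (q ^ e) f := by
  induction e with
  | zero => simp
  | succ e ih =>
    rw [pow_succ, pow_mul, ih, ← ZMod.expand_card, expand_expand, mul_comm]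

theorem natDegree_X_pow_sub_X {K : Type*} [CommRing K] [Nontrivial K] {n : ℕ} (hn : 1 < n) :
    (X ^ n - X : K[X]).natDegree = n := by
  have h1 : (X : K[X]).degree < (X ^ n : K[X]).degree := by
    rw [degree_X_pow, degree_X]
    exact mod_cast hn
  rw [natDegree_eq_of_degree_eq (degree_sub_eq_left_of_degree_lt h1), natDegree_X_pow]

theorem card_le_of_irreducible {q : ℕ} [hq : Fact q.Prime] {V : Type*} [AddCommGroup V]
    [Module (ZMod q) V] [Finite V] (T : Module.End (ZMod q) V) (e : ℕ) (he : 0 < e)
    (hT : T ^ (q ^ e) = T)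
    (hsimple : ∀ W : Submodule (ZMod q) V, (∀ w ∈ W, T w ∈ W) → W = ⊥ ∨ W = ⊤) :
    Nat.card V ≤ q ^ e := by
  classical
  have hq1 : 1 < q := hq.out.one_lt
  have hn1 : 1 < q ^ e := Nat.one_lt_pow he.ne' hq1
  by_cases hV : ∀ v : V, v = 0
  · have : Subsingleton V := ⟨fun a b => by rw [hV a, hV b]⟩
    rw [Nat.card_unique]
    exact hn1.le
  push Not at hV
  obtain ⟨v, hv⟩ := hV
  set φ : (ZMod q)[X] →ₐ[ZMod q] Module.End (ZMod q) V := aeval T with hφ
  have hφX : φ X = T := aeval_X T
  have hcomm : ∀ f g, φ f * φ g = φ g * φ f := by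
    intro f g
    rw [← map_mul, ← map_mul, mul_comm]
  have hpow : ∀ f, φ f ^ (q ^ e) = φ f := by
    intro f
    rw [← map_pow, pow_eq_expand, hφ, expand_aeval, hT]
  -- nonzero elements are injective
  have hinj : ∀ f, φ f ≠ 0 → ∀ w, φ f w = 0 → w = 0 := by
    intro f hf w hw
    have hker := hsimple (LinearMap.ker (φ f)) (by
      intro w hw
      rw [LinearMap.mem_ker] at hw ⊢
      have : φ f (T w) = (φ f * φ X) w := by rw [hφX]; rfl
      rw [this, hcomm, Module.End.mul_apply, hw, map_zero])
    rcases hker with h | h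
    · have : w ∈ LinearMap.ker (φ f) := LinearMap.mem_ker.2 hw
      rw [h] at this
      exact (Submodule.mem_bot _).1 this
    · exfalso
      apply hf
      ext u
      have : u ∈ LinearMap.ker (φ f) := h ▸ Submodule.mem_top
      exact LinearMap.mem_ker.1 this
  -- the kernel ideal is prime
  set I : Ideal (ZMod q)[X] := RingHom.ker φ.toRingHom with hI
  have hmemI : ∀ f, f ∈ I ↔ φ f = 0 := fun f => RingHom.mem_ker
  have hone : φ 1 ≠ 0 := by
    rw [map_one]
    intro h
    apply hv
    have := congrArg (fun g : Module.End (ZMod q) V => g v) h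
    simpa using this
  have hIprime : I.IsPrime := by
    refine ⟨?_, ?_⟩
    · intro h
      apply hone
      rw [← hmemI, h]
      exact Submodule.mem_top
    · intro f g hfg
      rw [hmemI] at hfg ⊢
      by_contra hcon
      push Not at hcon
      obtain ⟨hf, hg⟩ := hcon
      rw [hmemI] at hg
      apply hg
      ext u
      have : φ f (φ g u) = 0 := by
        rw [← Module.End.mul_apply, ← map_mul, hfg]; rfl
      exact hinj f hf _ this
  -- surjectivity of `f ↦ φ f v`
  have hsurj : ∀ u : V, ∃ f, φ f v = u := by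
    let W : Submodule (ZMod q) V :=
      { carrier := {u | ∃ f, φ f v = u}
        add_mem' := by
          rintro a b ⟨f, rfl⟩ ⟨g, rfl⟩
          exact ⟨f + g, by rw [map_add]; rfl⟩
        zero_mem' := ⟨0, by rw [map_zero]; rfl⟩
        smul_mem' := by
          rintro c a ⟨f, rfl⟩
          exact ⟨c • f, by rw [map_smul]; rfl⟩ }
    have hW := hsimple W (by
      rintro w ⟨f, rfl⟩
      refine ⟨X * f, ?_⟩
      rw [map_mul, hφX]; rfl)
    rcases hW with h | h
    · exfalso
      apply hv
      have : v ∈ W := ⟨1, by rw [map_one]; rfl⟩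
      rw [h] at this
      exact (Submodule.mem_bot _).1 this
    · intro u
      have : u ∈ W := h ▸ Submodule.mem_top
      exact this
  choose F hF using hsurj
  let g : V → (ZMod q)[X] ⧸ I := fun u => Ideal.Quotient.mk I (F u)
  have hginj : Function.Injective g := by
    intro a b hab
    have h1 : F a - F b ∈ I := Ideal.Quotient.eq.1 hab
    rw [hmemI, map_sub, sub_eq_zero] at h1
    rw [← hF a, ← hF b, h1]
  have hroot : ∀ k : (ZMod q)[X] ⧸ I, k ^ (q ^ e) = k := by
    intro k
    obtain ⟨f, rfl⟩ := Ideal.Quotient.mk_surjective k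
    rw [← map_pow, Ideal.Quotient.eq, hmemI, map_sub, map_pow, hpow, sub_self]
  have : Fintype V := Fintype.ofFinite V
  set Z : Finset ((ZMod q)[X] ⧸ I) := Finset.univ.image g with hZ
  have hZcard : Z.card = Fintype.card V := by
    rw [hZ, Finset.card_image_of_injective _ hginj, Finset.card_univ]
  have hdeg := natDegree_X_pow_sub_X (K := (ZMod q)[X] ⧸ I) hn1
  have hne : (X ^ (q ^ e) - X : ((ZMod q)[X] ⧸ I)[X]) ≠ 0 := by
    intro h
    rw [h, natDegree_zero] at hdeg
    omega
  have hsub : Z.val ⊆ (X ^ (q ^ e) - X : ((ZMod q)[X] ⧸ I)[X]).roots := by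
    intro k _
    rw [mem_roots hne, IsRoot.def, eval_sub, eval_pow, eval_X, hroot, sub_self]
  have := card_le_degree_of_subset_roots hsub
  rw [hdeg, hZcard] at this
  rwa [Nat.card_eq_fintype_card]

universe u

/-- an element `x` with `x B x⁻¹ ⊆ B` normalizes `B` in a finite group. -/
theorem mem_normalizer_of_conj_le {G : Type u} [Group G] [Finite G] (B : Subgroup G) (x : G)
    (h : ∀ b ∈ B, x * b * x⁻¹ ∈ B) : x ∈ Subgroup.normalizer (B : Set G) := by
  have hpow : ∀ k : ℕ, ∀ b ∈ B, x ^ k * b * (x ^ k)⁻¹ ∈ B := by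
    intro k
    induction k with
    | zero => intro b hb; simpa using hb
    | succ k ih =>
      intro b hb
      have := h _ (ih b hb)
      have e : x ^ (k + 1) * b * (x ^ (k + 1))⁻¹ = x * (x ^ k * b * (x ^ k)⁻¹) * x⁻¹ := by
        rw [pow_succ']; group
      rw [e]; exact this
  have hinv : ∀ b ∈ B, x⁻¹ * b * x ∈ B := by
    intro b hb
    have hx : x ^ (orderOf x - 1) = x⁻¹ := by
      have h1 : x ^ (orderOf x - 1) * x = 1 := by
        rw [← pow_succ, Nat.sub_add_cancel (orderOf_pos x), pow_orderOf_eq_one]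
      exact eq_inv_of_mul_eq_one_left h1
    have := hpow (orderOf x - 1) b hb
    rw [hx, inv_inv] at this
    exact this
  rw [Subgroup.mem_normalizer_iff]
  intro b
  refine ⟨h b, fun hb => ?_⟩
  have := hinv _ hb
  simpa [mul_assoc] using this

/-- A minimal `⟨x⟩`-invariant elementary abelian `q`-subgroup `A`, with `x ^ (q ^ e) = x`, has at
most `q ^ e` elements. -/
theorem card_le_of_minimal_invariant {G : Type u} [Group G] [Finite G] {q : ℕ} [hq : Fact q.Prime]
    (A : Subgroup G) (hA : Cfsg.IsElementaryAbelian q A) (x : G)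
    (hxA : x ∈ Subgroup.normalizer (A : Set G)) (e : ℕ) (he : 0 < e) (hx : x ^ (q ^ e) = x)
    (hmin : ∀ B : Subgroup G, B ≤ A → x ∈ Subgroup.normalizer (B : Set G) → B = ⊥ ∨ B = A) :
    Nat.card A ≤ q ^ e := by
  obtain ⟨hAc, hAq⟩ := hA
  let _ : CommGroup ↥A := { (inferInstance : Group ↥A) with mul_comm := fun a b => mul_comm' a b }
  have hqV : ∀ v : Additive ↥A, q • v = 0 := by
    intro v
    have : (Additive.toMul v) ^ q = 1 := Subtype.ext (by
      rw [Subgroup.coe_pow, Subgroup.coe_one]; exact hAq _ (Additive.toMul v).2)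
    exact congrArg Additive.ofMul this
  have _i : Module (ZMod q) (Additive ↥A) := AddCommGroup.zmodModule hqV
  have hconj : ∀ a : ↥A, x * (a : G) * x⁻¹ ∈ A := fun a =>
    (Subgroup.mem_normalizer_iff.1 hxA a).1 a.2
  let c : ↥A →* ↥A :=
    { toFun := fun a => ⟨x * a * x⁻¹, hconj a⟩
      map_one' := by apply Subtype.ext; simp
      map_mul' := by intro a b; apply Subtype.ext; simp [mul_assoc] }
  let T : Additive ↥A →ₗ[ZMod q] Additive ↥A :=
    (MonoidHom.toAdditive c).toZModLinearMap q
  have hTapp : ∀ v : Additive ↥A, T v = Additive.ofMul (c (Additive.toMul v)) := fun v => rfl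
  let val : Additive ↥A → G := fun v => ((Additive.toMul v : ↥A) : G)
  have hval_inj : Function.Injective val := by
    intro a b hab
    have : (Additive.toMul a : ↥A) = Additive.toMul b := Subtype.ext hab
    exact Additive.toMul.injective this
  have hTval : ∀ v : Additive ↥A, val (T v) = x * val v * x⁻¹ := fun v => rfl
  have hTpow : ∀ (k : ℕ) (v : Additive ↥A), val ((T ^ k) v) = x ^ k * val v * (x ^ k)⁻¹ := by
    intro k
    induction k with
    | zero => intro v; simp
    | succ k ih =>
      intro v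
      rw [pow_succ', Module.End.mul_apply, hTval, ih, pow_succ']; group
  have hT : T ^ (q ^ e) = T := by
    ext v
    show val ((T ^ (q ^ e)) v) = val (T v)
    rw [hTpow, hx, hTval]
  have hcard : Nat.card (Additive ↥A) = Nat.card ↥A := rfl
  rw [← hcard]
  apply card_le_of_irreducible T e he hT
  intro W hW
  let B' : Subgroup ↥A :=
    { carrier := {a | Additive.ofMul a ∈ W}
      mul_mem' := by
        intro a b ha hb
        exact W.add_mem ha hb
      one_mem' := W.zero_mem
      inv_mem' := by
        intro a ha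
        exact W.neg_mem ha }
  have hB'mem : ∀ a : ↥A, a ∈ B' ↔ Additive.ofMul a ∈ W := fun a => Iff.rfl
  have hBA : B'.map A.subtype ≤ A := Subgroup.map_subtype_le _
  have hBx : x ∈ Subgroup.normalizer ((B'.map A.subtype : Subgroup G) : Set G) := by
    apply mem_normalizer_of_conj_le
    rintro _ ⟨b, hb, rfl⟩
    refine ⟨c b, ?_, rfl⟩
    exact hW _ hb
  rcases hmin _ hBA hBx with h | h
  · left
    rw [eq_bot_iff]
    intro w hw
    have h1 : ((Additive.toMul w : ↥A) : G) ∈ B'.map A.subtype := ⟨Additive.toMul w, hw, rfl⟩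
    rw [h, Subgroup.mem_bot] at h1
    rw [Submodule.mem_bot]
    have : Additive.toMul w = 1 := Subtype.ext h1
    exact congrArg Additive.ofMul this
  · right
    rw [eq_top_iff]
    intro v _
    have h1 : ((Additive.toMul v : ↥A) : G) ∈ B'.map A.subtype := by
      rw [h]; exact (Additive.toMul v).2
    obtain ⟨b, hb, hbv⟩ := h1
    have : b = Additive.toMul v := Subtype.ext hbv
    rw [this] at hb
    exact hb

end Cfsg.Agent.Helper3.IrrCyclic
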