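import Mathlib

/-!
# A checkable certificate bounding the order of a finitely generated group

Given a group `G` generated by `gens : Fin k → G`, a "Cayley table" `act : Fin n → Fin k → Fin n`,
a spanning tree given by words `word : Fin n → List (Fin k)`, a list of relators holding in `G`
and a list of deductions (each one a relator loop all of whose edges but one are already known),
we conclude `Nat.card G ≤ n`.  All side conditions are decidable.
-/

set_option autoImplicit false

namespace Cfsg.Agent.Helper3.CosetCert

universe u

variable {G : Type u} [Group G] {k n : ℕ}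

/-- product of a word -/
def prodL (gens : Fin k → G) (l : List (Fin k)) : G := (l.map gens).prod

theorem prodL_nil (gens : Fin k → G) : prodL gens [] = 1 := rfl

theorem prodL_cons (gens : Fin k → G) (s : Fin k) (l : List (Fin k)) :
    prodL gens (s :: l) = gens s * prodL gens l := by
  simp [prodL]

theorem prodL_append (gens : Fin k → G) (l₁ l₂ : List (Fin k)) :
    prodL gens (l₁ ++ l₂) = prodL gens l₁ * prodL gens l₂ := by
  simp [prodL]

/-- walk in the table -/
def walk (act : Fin n → Fin k → Fin n) : Fin n → List (Fin k) → Fin n
  | ω, [] => ω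
  | ω, s :: l => walk act (act ω s) l

theorem walk_append (act : Fin n → Fin k → Fin n) (ω : Fin n) (l₁ l₂ : List (Fin k)) :
    walk act ω (l₁ ++ l₂) = walk act (walk act ω l₁) l₂ := by
  induction l₁ generalizing ω with
  | nil => rfl
  | cons s l ih => exact ih (act ω s)

/-- edges along a walk -/
def edgesAlong (act : Fin n → Fin k → Fin n) : Fin n → List (Fin k) → List (Fin n × Fin k)
  | _, [] => []
  | ω, s :: l => (ω, s) :: edgesAlong act (act ω s) l

/-- An edge is good if the evaluation map is compatible with it. -/
def Good (gens : Fin k → G) (act : Fin n → Fin k → Fin n) (ev : Fin n → G)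
    (e : Fin n × Fin k) : Prop :=
  ev (act e.1 e.2) = ev e.1 * gens e.2

theorem ev_walk (gens : Fin k → G) (act : Fin n → Fin k → Fin n) (ev : Fin n → G)
    (ω : Fin n) (l : List (Fin k)) (h : ∀ e ∈ edgesAlong act ω l, Good gens act ev e) :
    ev (walk act ω l) = ev ω * prodL gens l := by
  induction l generalizing ω with
  | nil => simp [walk, prodL]
  | cons s l ih =>
    have h1 : Good gens act ev (ω, s) := h _ (by simp [edgesAlong])
    have h2 : ∀ e ∈ edgesAlong act (act ω s) l, Good gens act ev e := by
      intro e he
      exact h e (by simp [edgesAlong, he])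
    rw [walk, ih _ h2, prodL_cons, ← mul_assoc]
    congr 1

/-- A single deduction. -/
theorem deduce (gens : Fin k → G) (act : Fin n → Fin k → Fin n) (ev : Fin n → G)
    (ω : Fin n) (l₁ : List (Fin k)) (s : Fin k) (l₂ : List (Fin k))
    (hrel : prodL gens (l₁ ++ s :: l₂) = 1) (hloop : walk act ω (l₁ ++ s :: l₂) = ω)
    (h1 : ∀ e ∈ edgesAlong act ω l₁, Good gens act ev e)
    (h2 : ∀ e ∈ edgesAlong act (act (walk act ω l₁) s) l₂, Good gens act ev e) :
    Good gens act ev (walk act ω l₁, s) := by
  have e1 := ev_walk gens act ev ω l₁ h1
  have e2 := ev_walk gens act ev _ l₂ h2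
  have hw : walk act (act (walk act ω l₁) s) l₂ = ω := by
    have := hloop
    rw [walk_append] at this
    exact this
  rw [hw] at e2
  rw [prodL_append, prodL_cons] at hrel
  unfold Good
  simp only
  rw [e1]
  -- ev ω = ev ω' * P₂ ; P₁ * s * P₂ = 1
  have : prodL gens l₁ * gens s = (prodL gens l₂)⁻¹ := by
    rw [eq_inv_iff_mul_eq_one, mul_assoc]; exact hrel
  rw [mul_assoc, this, e2, mul_assoc, mul_inv_cancel, mul_one]

/-- check one step -/
def stepOK (act : Fin n → Fin k → Fin n) (R : List (List (Fin k)))
    (K : List (Fin n × Fin k)) (ω : Fin n) (l₁ : List (Fin k)) (s : Fin k)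
    (l₂ : List (Fin k)) : Bool :=
  decide ((l₁ ++ s :: l₂) ∈ R) && decide (walk act ω (l₁ ++ s :: l₂) = ω) &&
    (edgesAlong act ω l₁).all (fun e => decide (e ∈ K)) &&
    (edgesAlong act (act (walk act ω l₁) s) l₂).all (fun e => decide (e ∈ K))

/-- run the certificate -/
def run (act : Fin n → Fin k → Fin n) (R : List (List (Fin k))) :
    List (Fin n × Fin k) → List (Fin n × List (Fin k) × Fin k × List (Fin k)) →
      List (Fin n × Fin k)
  | K, [] => K
  | K, (ω, l₁, s, l₂) :: rest =>
    if stepOK act R K ω l₁ s l₂ then run act R ((walk act ω l₁, s) :: K) rest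
    else run act R K rest

theorem run_good (gens : Fin k → G) (act : Fin n → Fin k → Fin n) (ev : Fin n → G)
    (R : List (List (Fin k))) (hR : ∀ r ∈ R, prodL gens r = 1)
    (cert : List (Fin n × List (Fin k) × Fin k × List (Fin k)))
    (K : List (Fin n × Fin k)) (hK : ∀ e ∈ K, Good gens act ev e) :
    ∀ e ∈ run act R K cert, Good gens act ev e := by
  induction cert generalizing K with
  | nil => exact hK
  | cons c rest ih =>
    obtain ⟨ω, l₁, s, l₂⟩ := c
    unfold run
    split_ifs with hok
    · apply ih
      intro e he
      rcases List.mem_cons.1 he with rfl | he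
      · simp only [stepOK, Bool.and_eq_true, decide_eq_true_eq, List.all_eq_true] at hok
        obtain ⟨⟨⟨hr, hloop⟩, hk1⟩, hk2⟩ := hok
        exact deduce gens act ev ω l₁ s l₂ (hR _ hr) hloop (fun e he => hK e (hk1 e he))
          (fun e he => hK e (hk2 e he))
      · exact hK e he
    · exact ih K hK

/-- tree edges -/
def treeEdges (act : Fin n → Fin k → Fin n) (word : Fin n → List (Fin k)) :
    List (Fin n × Fin k) :=
  (List.finRange n ×ˢ List.finRange k).filter
    (fun e => decide (word (act e.1 e.2) = word e.1 ++ [e.2]))

theorem treeEdges_good (gens : Fin k → G) (act : Fin n → Fin k → Fin n)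
    (word : Fin n → List (Fin k)) :
    ∀ e ∈ treeEdges act word, Good gens act (fun ω => prodL gens (word ω)) e := by
  intro e he
  simp only [treeEdges, List.mem_filter, decide_eq_true_eq] at he
  unfold Good
  simp only
  rw [he.2, prodL_append, prodL_cons, prodL_nil, mul_one]

/-- The main theorem: a valid certificate gives a surjection from `Fin n` onto the group. -/
theorem surjective_of_cert (gens : Fin k → G) (hgen : Subgroup.closure (Set.range gens) = ⊤)
    (act : Fin n → Fin k → Fin n) (word : Fin n → List (Fin k)) (root : Fin n)
    (hroot : word root = [])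
    (R : List (List (Fin k))) (hR : ∀ r ∈ R, prodL gens r = 1)
    (cert : List (Fin n × List (Fin k) × Fin k × List (Fin k)))
    (hall : ∀ e : Fin n × Fin k, e ∈ run act R (treeEdges act word) cert) :
    Function.Surjective (fun ω : Fin n => prodL gens (word ω)) := by
  classical
  set ev : Fin n → G := fun ω => prodL gens (word ω) with hev
  have hgood : ∀ e : Fin n × Fin k, Good gens act ev e := fun e =>
    run_good gens act ev R hR cert _ (treeEdges_good gens act word) e (hall e)
  -- the range of ev is closed under right multiplication by generators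
  have hmul : ∀ (ω : Fin n) (s : Fin k), ev ω * gens s ∈ Set.range ev := by
    intro ω s
    exact ⟨act ω s, hgood (ω, s)⟩
  -- hence the range is everything
  have hall' : ∀ g : G, ∀ ω : Fin n, ev ω * g ∈ Set.range ev := by
    intro g
    have hg : g ∈ Subgroup.closure (Set.range gens) := by rw [hgen]; trivial
    induction hg using Subgroup.closure_induction with
    | mem x hx =>
      obtain ⟨s, rfl⟩ := hx
      exact fun ω => hmul ω s
    | one => intro ω; exact ⟨ω, by rw [mul_one]⟩
    | mul x y _ _ hx hy =>
      intro ω
      obtain ⟨ω', hω'⟩ := hx ω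
      obtain ⟨ω'', hω''⟩ := hy ω'
      exact ⟨ω'', by rw [hω'', hω', mul_assoc]⟩
    | inv x hx ih =>
      -- handle inverses through finiteness again
      intro ω
      have hfin : (Set.range ev).Finite := Set.finite_range ev
      have hmaps : Set.MapsTo (fun t => t * x) (Set.range ev) (Set.range ev) := by
        rintro _ ⟨ω', rfl⟩
        exact ih ω'
      have hinj : Set.InjOn (fun t => t * x) (Set.range ev) := by
        intro a _ b _ hab
        exact mul_right_cancel hab
      have hsurj : Set.SurjOn (fun t => t * x) (Set.range ev) (Set.range ev) :=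
        ((hfin.injOn_iff_bijOn_of_mapsTo hmaps).1 hinj).surjOn
      obtain ⟨t, ⟨ω', rfl⟩, ht⟩ := hsurj ⟨ω, rfl⟩
      refine ⟨ω', ?_⟩
      simp only at ht
      rw [← ht, mul_inv_cancel_right]
  intro g
  have h1 : ev root = 1 := by simp only [hev, hroot, prodL_nil]
  obtain ⟨ω, hω⟩ := hall' g root
  exact ⟨ω, by rw [hω, h1, one_mul]⟩

/-- A valid certificate shows the group is finite of order at most `n`. -/
theorem card_le_of_cert (gens : Fin k → G) (hgen : Subgroup.closure (Set.range gens) = ⊤)
    (act : Fin n → Fin k → Fin n) (word : Fin n → List (Fin k)) (root : Fin n)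
    (hroot : word root = [])
    (R : List (List (Fin k))) (hR : ∀ r ∈ R, prodL gens r = 1)
    (cert : List (Fin n × List (Fin k) × Fin k × List (Fin k)))
    (hall : ∀ e : Fin n × Fin k, e ∈ run act R (treeEdges act word) cert) :
    Finite G ∧ Nat.card G ≤ n := by
  have hs := surjective_of_cert gens hgen act word root hroot R hR cert hall
  refine ⟨Finite.of_surjective _ hs, ?_⟩
  have := Nat.card_le_card_of_surjective _ hs
  simpa using this

end Cfsg.Agent.Helper3.CosetCert
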