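import Mathlib
import Cfsg.Agent.Helper3.CosetCert

set_option autoImplicit false

/-!
The Coxeter presentation of the symmetric group of degree four:
`⟨s₀, s₁, s₂ | s_i² = (s₀s₁)³ = (s₁s₂)³ = (s₀s₂)² = 1⟩ ≅ S₄`, with a verified coset enumeration.
-/

namespace Cfsg.Agent.Helper3.S4Pres

open Cfsg.Agent.Helper3.CosetCert

def actTab : List (List ℕ) :=
  [[1, 2, 3],
   [0, 4, 5],
   [6, 0, 7],
   [5, 8, 0],
   [9, 1, 10],
   [3, 11, 1],
   [2, 9, 12],
   [12, 13, 2],
   [14, 3, 13],
   [4, 6, 15],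
   [15, 16, 4],
   [17, 5, 16],
   [7, 18, 6],
   [19, 7, 8],
   [8, 17, 19],
   [10, 20, 9],
   [21, 10, 11],
   [11, 14, 21],
   [22, 12, 20],
   [13, 22, 14],
   [23, 15, 18],
   [16, 23, 17],
   [18, 19, 23],
   [20, 21, 22]]

def wordTab : List (List (Fin 3)) :=
  [[],
   [0],
   [1],
   [2],
   [0, 1],
   [0, 2],
   [1, 0],
   [1, 2],
   [2, 1],
   [0, 1, 0],
   [0, 1, 2],
   [0, 2, 1],
   [1, 0, 2],
   [1, 2, 1],
   [2, 1, 0],
   [0, 1, 0, 2],
   [0, 1, 2, 1],
   [0, 2, 1, 0],
   [1, 0, 2, 1],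
   [1, 2, 1, 0],
   [0, 1, 0, 2, 1],
   [0, 1, 2, 1, 0],
   [1, 0, 2, 1, 0],
   [0, 1, 0, 2, 1, 0]]

def cert : List (Fin 24 × List (Fin 3) × Fin 3 × List (Fin 3)) :=
  [(0, [0], 0, []),
   (0, [1], 1, []),
   (0, [2], 2, []),
   (0, [0, 2], 0, [2]),
   (1, [1], 1, []),
   (1, [2], 2, []),
   (1, [0, 2], 0, [2]),
   (2, [0], 0, []),
   (2, [2], 2, []),
   (2, [0, 2], 0, [2]),
   (3, [1], 1, []),
   (4, [0], 0, []),
   (4, [2], 2, []),
   (4, [0], 1, [0, 1, 0, 1]),
   (4, [0, 2], 0, [2]),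
   (5, [1], 1, []),
   (6, [], 1, [1]),
   (6, [2], 2, []),
   (6, [0, 2], 0, [2]),
   (7, [1], 1, []),
   (7, [1], 2, [1, 2, 1, 2]),
   (8, [0], 0, []),
   (8, [], 2, [2]),
   (9, [2], 2, []),
   (9, [0, 2], 0, [2]),
   (10, [1], 1, []),
   (10, [1], 2, [1, 2, 1, 2]),
   (11, [0], 0, []),
   (11, [], 2, [2]),
   (11, [0], 1, [0, 1, 0, 1]),
   (12, [1], 1, []),
   (13, [0], 0, []),
   (13, [0], 2, [0, 2]),
   (14, [], 1, [1]),
   (14, [], 2, [2]),
   (15, [1], 1, []),
   (15, [1], 2, [1, 2, 1, 2]),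
   (16, [0], 0, []),
   (16, [0], 2, [0, 2]),
   (17, [], 2, [2]),
   (18, [0], 0, []),
   (18, [], 2, [2]),
   (18, [0], 1, [0, 1, 0, 1]),
   (19, [], 1, [1]),
   (20, [0], 0, []),
   (20, [0], 1, [0, 1, 0, 1]),
   (20, [0], 2, [0, 2]),
   (21, [], 1, [1]),
   (22, [], 2, [2])]

/-- The table as a function. -/
def act : Fin 24 → Fin 3 → Fin 24 := fun ω s =>
  ⟨((actTab.getD ω.val []).getD s.val 0) % 24, Nat.mod_lt _ (by norm_num)⟩

/-- The spanning tree words. -/
def word : Fin 24 → List (Fin 3) := fun ω => wordTab.getD ω.val []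

/-- The relators as words. -/
def R : List (List (Fin 3)) :=
  [[0, 0], [1, 1], [2, 2], [0, 1, 0, 1, 0, 1], [1, 2, 1, 2, 1, 2], [0, 2, 0, 2]]

set_option maxRecDepth 100000 in
theorem cert_ok : ∀ e : Fin 24 × Fin 3, e ∈ run act R (treeEdges act word) cert := by
  decide +kernel

/-- The relators of the presentation. -/
abbrev rels : Set (FreeGroup (Fin 3)) :=
  {FreeGroup.of (0 : Fin 3) ^ 2, FreeGroup.of (1 : Fin 3) ^ 2, FreeGroup.of (2 : Fin 3) ^ 2,
    (FreeGroup.of (0 : Fin 3) * FreeGroup.of 1) ^ 3, (FreeGroup.of (1 : Fin 3) * FreeGroup.of 2) ^ 3,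
    (FreeGroup.of (0 : Fin 3) * FreeGroup.of 2) ^ 2}

/-- the presented group -/
abbrev P := PresentedGroup rels

/-- The generators of the presented group. -/
def gens : Fin 3 → P := fun i => PresentedGroup.of i

theorem hR : ∀ r ∈ R, prodL gens r = 1 := by
  intro r hr
  simp only [R, List.mem_cons, List.not_mem_nil, or_false] at hr
  rcases hr with rfl | rfl | rfl | rfl | rfl | rfl
  · have : PresentedGroup.mk rels (FreeGroup.of (0 : Fin 3) ^ 2) = 1 :=
      PresentedGroup.one_of_mem (by simp [rels])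
    rw [map_pow] at this
    simpa [prodL, gens, pow_succ, mul_assoc, PresentedGroup.of] using this
  · have : PresentedGroup.mk rels (FreeGroup.of (1 : Fin 3) ^ 2) = 1 :=
      PresentedGroup.one_of_mem (by simp [rels])
    rw [map_pow] at this
    simpa [prodL, gens, pow_succ, mul_assoc, PresentedGroup.of] using this
  · have : PresentedGroup.mk rels (FreeGroup.of (2 : Fin 3) ^ 2) = 1 :=
      PresentedGroup.one_of_mem (by simp [rels])
    rw [map_pow] at this
    simpa [prodL, gens, pow_succ, mul_assoc, PresentedGroup.of] using this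
  · have : PresentedGroup.mk rels ((FreeGroup.of (0 : Fin 3) * FreeGroup.of 1) ^ 3) = 1 :=
      PresentedGroup.one_of_mem (by simp [rels])
    rw [map_pow, map_mul] at this
    simpa [prodL, gens, pow_succ, mul_assoc, PresentedGroup.of] using this
  · have : PresentedGroup.mk rels ((FreeGroup.of (1 : Fin 3) * FreeGroup.of 2) ^ 3) = 1 :=
      PresentedGroup.one_of_mem (by simp [rels])
    rw [map_pow, map_mul] at this
    simpa [prodL, gens, pow_succ, mul_assoc, PresentedGroup.of] using this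
  · have : PresentedGroup.mk rels ((FreeGroup.of (0 : Fin 3) * FreeGroup.of 2) ^ 2) = 1 :=
      PresentedGroup.one_of_mem (by simp [rels])
    rw [map_pow, map_mul] at this
    simpa [prodL, gens, pow_succ, mul_assoc, PresentedGroup.of] using this

theorem hgen : Subgroup.closure (Set.range gens) = ⊤ := PresentedGroup.closure_range_of rels

theorem surj : Function.Surjective (fun ω : Fin 24 => prodL gens (word ω)) :=
  surjective_of_cert gens hgen act word 0 (by decide) R hR cert cert_ok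

/-- images of the generators: the adjacent transpositions -/
def gS : Fin 3 → Equiv.Perm (Fin 4) := ![Equiv.swap 0 1, Equiv.swap 1 2, Equiv.swap 2 3]

theorem gS_rels : ∀ r ∈ rels, FreeGroup.lift gS r = 1 := by
  intro r hr
  simp only [rels, Set.mem_insert_iff, Set.mem_singleton_iff] at hr
  rcases hr with rfl | rfl | rfl | rfl | rfl | rfl
  · rw [map_pow, FreeGroup.lift_apply_of]; decide
  · rw [map_pow, FreeGroup.lift_apply_of]; decide
  · rw [map_pow, FreeGroup.lift_apply_of]; decide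
  · rw [map_pow, map_mul, FreeGroup.lift_apply_of, FreeGroup.lift_apply_of]; decide
  · rw [map_pow, map_mul, FreeGroup.lift_apply_of, FreeGroup.lift_apply_of]; decide
  · rw [map_pow, map_mul, FreeGroup.lift_apply_of, FreeGroup.lift_apply_of]; decide

/-- the homomorphism onto the symmetric group -/
def phi : P →* Equiv.Perm (Fin 4) := PresentedGroup.toGroup gS_rels

theorem phi_of (i : Fin 3) : phi (PresentedGroup.of i) = gS i := PresentedGroup.toGroup.of gS_rels

theorem phi_prodL (l : List (Fin 3)) : phi (prodL gens l) = prodL gS l := by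
  induction l with
  | nil => simp [prodL]
  | cons s l ih =>
    rw [prodL_cons, prodL_cons, map_mul, ih]
    congr 1

set_option maxRecDepth 100000 in
theorem gS_surj : ∀ g : Equiv.Perm (Fin 4), ∃ ω : Fin 24, prodL gS (word ω) = g := by
  decide +kernel

theorem phi_bijective : Function.Bijective phi := by
  have hfin : Finite P := Finite.of_surjective _ surj
  have hcard : Nat.card P ≤ 24 := by
    have := Nat.card_le_card_of_surjective _ surj
    simpa using this
  have hsurj : Function.Surjective phi := by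
    intro g
    obtain ⟨ω, hω⟩ := gS_surj g
    exact ⟨prodL gens (word ω), by rw [phi_prodL, hω]⟩
  have hA : Nat.card (Equiv.Perm (Fin 4)) = 24 := by
    rw [Nat.card_eq_fintype_card, Fintype.card_perm, Fintype.card_fin]
    rfl
  exact Function.Surjective.bijective_of_nat_card_le hsurj (by rw [hA]; exact hcard)

/-- the isomorphism -/
noncomputable def equiv : P ≃* Equiv.Perm (Fin 4) := MulEquiv.ofBijective phi phi_bijective

theorem equiv_of (i : Fin 3) : equiv (PresentedGroup.of i) = gS i := phi_of i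

/-- Elements of any group satisfying the Coxeter relations of type `A₃` are the images of the
adjacent transpositions under a homomorphism from `S₄`. -/
theorem exists_hom {G : Type*} [Group G] (a b c : G) (ha : a ^ 2 = 1) (hb : b ^ 2 = 1)
    (hc : c ^ 2 = 1) (hab : (a * b) ^ 3 = 1) (hbc : (b * c) ^ 3 = 1) (hac : (a * c) ^ 2 = 1) :
    ∃ φ : Equiv.Perm (Fin 4) →* G, φ (Equiv.swap 0 1) = a ∧ φ (Equiv.swap 1 2) = b ∧
      φ (Equiv.swap 2 3) = c := by
  have hrel : ∀ r ∈ rels, FreeGroup.lift (![a, b, c] : Fin 3 → G) r = 1 := by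
    intro r hr
    simp only [rels, Set.mem_insert_iff, Set.mem_singleton_iff] at hr
    rcases hr with rfl | rfl | rfl | rfl | rfl | rfl
    · rw [map_pow, FreeGroup.lift_apply_of]; exact ha
    · rw [map_pow, FreeGroup.lift_apply_of]; exact hb
    · rw [map_pow, FreeGroup.lift_apply_of]; exact hc
    · rw [map_pow, map_mul, FreeGroup.lift_apply_of, FreeGroup.lift_apply_of]; exact hab
    · rw [map_pow, map_mul, FreeGroup.lift_apply_of, FreeGroup.lift_apply_of]; exact hbc
    · rw [map_pow, map_mul, FreeGroup.lift_apply_of, FreeGroup.lift_apply_of]; exact hac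
  let ψ : P →* G := PresentedGroup.toGroup hrel
  have hψ : ∀ i : Fin 3, ψ (PresentedGroup.of i) = (![a, b, c] : Fin 3 → G) i := fun i =>
    PresentedGroup.toGroup.of hrel
  refine ⟨ψ.comp equiv.symm.toMonoidHom, ?_, ?_, ?_⟩
  · have : equiv.symm (Equiv.swap 0 1) = PresentedGroup.of (0 : Fin 3) := by
      rw [MulEquiv.symm_apply_eq, equiv_of]; rfl
    simp only [MonoidHom.comp_apply, MulEquiv.coe_toMonoidHom, this, hψ]
    rfl
  · have : equiv.symm (Equiv.swap 1 2) = PresentedGroup.of (1 : Fin 3) := by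
      rw [MulEquiv.symm_apply_eq, equiv_of]; rfl
    simp only [MonoidHom.comp_apply, MulEquiv.coe_toMonoidHom, this, hψ]
    rfl
  · have : equiv.symm (Equiv.swap 2 3) = PresentedGroup.of (2 : Fin 3) := by
      rw [MulEquiv.symm_apply_eq, equiv_of]; rfl
    simp only [MonoidHom.comp_apply, MulEquiv.coe_toMonoidHom, this, hψ]
    rfl

set_option maxRecDepth 100000 in
theorem exists_conj_prod : ∀ g : Equiv.Perm (Fin 4), g ≠ 1 → ∃ x y : Equiv.Perm (Fin 4),
    x * g * x⁻¹ * (y * g * y⁻¹) = Equiv.swap 0 1 * Equiv.swap 2 3 ∨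
      x * g * x⁻¹ = Equiv.swap 0 1 * Equiv.swap 2 3 := by
  decide +kernel

/-- every non-trivial normal subgroup of `S₄` contains `(0 1)(2 3)` -/
theorem mem_of_normal_ne_bot (N : Subgroup (Equiv.Perm (Fin 4))) [hN : N.Normal] (h : N ≠ ⊥) :
    Equiv.swap (0 : Fin 4) 1 * Equiv.swap 2 3 ∈ N := by
  obtain ⟨g, hg1⟩ := (Subgroup.ne_bot_iff_exists_ne_one).1 h
  obtain ⟨x, y, h1 | h1⟩ := exists_conj_prod g.1 (fun h => hg1 (Subtype.ext h))
  · rw [← h1]
    exact N.mul_mem (hN.conj_mem _ g.2 x) (hN.conj_mem _ g.2 y)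
  · rw [← h1]
    exact hN.conj_mem _ g.2 x

/-- a homomorphism from `S₄` not killing `(0 1)(2 3)` is injective -/
theorem injective_of_ne_one {G : Type*} [Group G] (φ : Equiv.Perm (Fin 4) →* G)
    (h : φ (Equiv.swap 0 1 * Equiv.swap 2 3) ≠ 1) : Function.Injective φ := by
  rw [← MonoidHom.ker_eq_bot_iff]
  by_contra hne
  exact h (MonoidHom.mem_ker.1 (mem_of_normal_ne_bot φ.ker hne))

end Cfsg.Agent.Helper3.S4Pres
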