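import Mathlib

set_option autoImplicit false

/-!
Marks of coset spaces and the numerical construction of a multiset of coset spaces whose
marks depend only on the order of the subgroup (within a given family of subgroups).
-/

namespace Cfsg.Agent.Helper3.Marks

open scoped Classical

variable {H : Type*} [Group H]

/-- number of fixed points of `L` on `H ⧸ D` -/
noncomputable def cmark (L D : Subgroup H) : ℕ := Nat.card {ξ : H ⧸ D // ∀ l ∈ L, l • ξ = ξ}

/-- the conjugate subgroup `h D h⁻¹` -/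
def cj (h : H) (L : Subgroup H) : Subgroup H := L.map (MulAut.conj h).toMonoidHom

theorem mem_cj (h : H) (L : Subgroup H) (x : H) : x ∈ cj h L ↔ h⁻¹ * x * h ∈ L := by
  unfold cj
  rw [Subgroup.mem_map_equiv, MulAut.conj_symm_apply]

theorem card_cj (h : H) (L : Subgroup H) : Nat.card (cj h L) = Nat.card L :=
  Subgroup.card_map_of_injective (MulAut.conj h).injective

theorem smul_mk_eq_iff (D : Subgroup H) (l h : H) :
    l • (QuotientGroup.mk h : H ⧸ D) = QuotientGroup.mk h ↔ h⁻¹ * l * h ∈ D := by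
  rw [MulAction.Quotient.smul_mk, smul_eq_mul, QuotientGroup.eq]
  constructor
  · intro h1
    have := D.inv_mem h1
    have e : ((l * h)⁻¹ * h)⁻¹ = h⁻¹ * l * h := by group
    rwa [e] at this
  · intro h1
    have := D.inv_mem h1
    have e : (h⁻¹ * l * h)⁻¹ = (l * h)⁻¹ * h := by group
    rwa [e] at this

theorem exists_le_cj_of_cmark_ne_zero [Finite H] {L D : Subgroup H} (h : cmark L D ≠ 0) :
    ∃ g : H, L ≤ cj g D := by
  unfold cmark at h
  have hne : Nonempty {ξ : H ⧸ D // ∀ l ∈ L, l • ξ = ξ} := by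
    by_contra hne
    rw [not_nonempty_iff] at hne
    exact h (Nat.card_eq_zero.mpr (Or.inl hne))
  obtain ⟨⟨ξ, hξ⟩⟩ := hne
  obtain ⟨g, rfl⟩ := QuotientGroup.mk_surjective ξ
  refine ⟨g, fun l hl => ?_⟩
  rw [mem_cj]
  exact (smul_mk_eq_iff D l g).mp (hξ l hl)

theorem cmark_cj (g : H) (L D : Subgroup H) : cmark (cj g L) D = cmark L D := by
  unfold cmark
  symm
  apply Nat.card_congr
  refine (MulAction.toPerm g : Equiv.Perm (H ⧸ D)).subtypeEquiv (fun ξ => ?_)
  constructor
  · intro h1 x hx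
    rw [mem_cj] at hx
    have h2 := h1 _ hx
    change x • (g • ξ) = g • ξ
    have : x • (g • ξ) = g • ((g⁻¹ * x * g) • ξ) := by
      rw [← mul_smul, ← mul_smul]; congr 1; group
    rw [this, h2]
  · intro h1 l hl
    have hx : g * l * g⁻¹ ∈ cj g L := by
      rw [mem_cj]
      have : g⁻¹ * (g * l * g⁻¹) * g = l := by group
      rw [this]; exact hl
    have h2 := h1 _ hx
    change (g * l * g⁻¹) • (g • ξ) = g • ξ at h2
    have : (g * l * g⁻¹) • (g • ξ) = g • (l • ξ) := by
      rw [← mul_smul, ← mul_smul]; congr 1; group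
    rw [this] at h2
    exact smul_left_cancel g h2

theorem cmark_self_ne_zero [Finite H] (D : Subgroup H) : cmark D D ≠ 0 := by
  unfold cmark
  have : Nonempty {ξ : H ⧸ D // ∀ l ∈ D, l • ξ = ξ} := by
    refine ⟨⟨QuotientGroup.mk 1, fun l hl => ?_⟩⟩
    rw [smul_mk_eq_iff]
    simpa using hl
  exact Nat.card_pos.ne'

/-- all subgroups, as a finset -/
noncomputable def allSub (H : Type*) [Group H] [Finite H] : Finset (Subgroup H) :=
  (Set.toFinite (Set.univ : Set (Subgroup H))).toFinset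

theorem mem_allSub [Finite H] (D : Subgroup H) : D ∈ allSub H := by
  unfold allSub
  simp

/-- the mark at `L` of the disjoint union of `c D` copies of `H ⧸ D` -/
noncomputable def M [Finite H] (c : Subgroup H → ℕ) (L : Subgroup H) : ℕ :=
  ∑ D ∈ allSub H, c D * cmark L D

theorem M_cj [Finite H] (c : Subgroup H → ℕ) (g : H) (L : Subgroup H) : M c (cj g L) = M c L := by
  unfold M
  apply Finset.sum_congr rfl
  intro D _
  rw [cmark_cj]

theorem mult_step [Finite H] (Pr : Subgroup H → Prop) (n : ℕ) (c : Subgroup H → ℕ)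
    (hc : ∀ D, c D ≠ 0 → Pr D)
    (hinv : ∀ D D', Pr D → Pr D' → Nat.card D = Nat.card D' → n < Nat.card D → M c D = M c D') :
    ∃ c' : Subgroup H → ℕ, (∀ D, c' D ≠ 0 → Pr D) ∧ (∀ D, c D ≠ 0 → c' D ≠ 0) ∧
      ∀ D D', Pr D → Pr D' → Nat.card D = Nat.card D' → n ≤ Nat.card D → M c' D = M c' D' := by
  obtain ⟨𝒟, h𝒟⟩ : ∃ 𝒟 : Finset (Subgroup H), ∀ D, D ∈ 𝒟 ↔ (Pr D ∧ Nat.card D = n) :=
    ⟨(allSub H).filter (fun D => Pr D ∧ Nat.card D = n), fun D => by
      rw [Finset.mem_filter]; simp [mem_allSub]⟩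
  obtain ⟨w, hw⟩ : ∃ w : Subgroup H → ℕ, ∀ D, w D = ∑ D' ∈ 𝒟, cmark D D' := ⟨_, fun _ => rfl⟩
  have hw_pos : ∀ D ∈ 𝒟, 0 < w D := by
    intro D hD
    rw [hw]
    have h1 : cmark D D ≤ ∑ D' ∈ 𝒟, cmark D D' :=
      Finset.single_le_sum (f := fun D' => cmark D D') (fun _ _ => Nat.zero_le _) hD
    have h2 := cmark_self_ne_zero D
    omega
  have hw_cj : ∀ g D, w (cj g D) = w D := by
    intro g D
    rw [hw, hw]
    apply Finset.sum_congr rfl
    intro D' _
    rw [cmark_cj]
  obtain ⟨W, hWdef⟩ : ∃ W : ℕ, W = ∏ D ∈ 𝒟, w D := ⟨_, rfl⟩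
  have hWpos : 0 < W := by
    rw [hWdef]; exact Finset.prod_pos hw_pos
  have hWdvd : ∀ D ∈ 𝒟, w D ∣ W := by
    intro D hD
    rw [hWdef]; exact Finset.dvd_prod_of_mem w hD
  obtain ⟨T, hTdef⟩ : ∃ T : ℕ, T = ∑ D ∈ 𝒟, M c D := ⟨_, rfl⟩
  have hT : ∀ D ∈ 𝒟, M c D ≤ T := by
    intro D hD
    rw [hTdef]
    exact Finset.single_le_sum (f := fun D => M c D) (fun _ _ => Nat.zero_le _) hD
  obtain ⟨e, he⟩ : ∃ e : Subgroup H → ℕ, ∀ D, e D =
      if (Pr D ∧ Nat.card D = n) then (W / w D) * (T - M c D) else 0 := ⟨_, fun _ => rfl⟩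
  -- the marks of the new multiplicity function
  have hM : ∀ L, M (fun D => W * c D + e D) L
      = W * M c L + ∑ D ∈ 𝒟, (W / w D) * (T - M c D) * cmark L D := by
    intro L
    unfold M
    have h1 : ∀ D ∈ allSub H, (W * c D + e D) * cmark L D
        = W * (c D * cmark L D) + e D * cmark L D := by
      intro D _; ring
    rw [Finset.sum_congr rfl h1, Finset.sum_add_distrib, ← Finset.mul_sum]
    congr 1
    have h2 : ∀ D ∈ allSub H, e D * cmark L D
        = if (Pr D ∧ Nat.card D = n) then (W / w D) * (T - M c D) * cmark L D else 0 := by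
      intro D _
      rw [he]
      split_ifs <;> simp
    rw [Finset.sum_congr rfl h2, ← Finset.sum_filter]
    apply Finset.sum_congr _ (fun _ _ => rfl)
    ext D
    rw [Finset.mem_filter, h𝒟]
    simp [mem_allSub]
  -- large subgroups
  have hbig : ∀ L : Subgroup H, n < Nat.card L → M (fun D => W * c D + e D) L = W * M c L := by
    intro L hL
    rw [hM L]
    have : ∑ D ∈ 𝒟, (W / w D) * (T - M c D) * cmark L D = 0 := by
      apply Finset.sum_eq_zero
      intro D hD
      have hD' := (h𝒟 D).mp hD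
      have : cmark L D = 0 := by
        by_contra hne
        obtain ⟨g, hg⟩ := exists_le_cj_of_cmark_ne_zero hne
        have h1 := Subgroup.card_le_of_le hg
        rw [card_cj, hD'.2] at h1
        omega
      rw [this, mul_zero]
    rw [this, add_zero]
  -- subgroups of order `n`
  have hmid : ∀ L, Pr L → Nat.card L = n → M (fun D => W * c D + e D) L = W * T := by
    intro L hPL hLn
    have hL𝒟 : L ∈ 𝒟 := (h𝒟 L).mpr ⟨hPL, hLn⟩
    rw [hM L]
    have h1 : ∀ D ∈ 𝒟, (W / w D) * (T - M c D) * cmark L D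
        = (W / w L) * (T - M c L) * cmark L D := by
      intro D hD
      have hD' := (h𝒟 D).mp hD
      by_cases hz : cmark L D = 0
      · rw [hz, mul_zero, mul_zero]
      · obtain ⟨g, hg⟩ := exists_le_cj_of_cmark_ne_zero hz
        have heq : L = cj g D := by
          apply Subgroup.eq_of_le_of_card_ge hg
          rw [card_cj, hD'.2, hLn]
        rw [heq, hw_cj, M_cj]
    rw [Finset.sum_congr rfl h1, ← Finset.mul_sum, ← hw L, mul_assoc, mul_comm (T - M c L),
      ← mul_assoc, Nat.div_mul_cancel (hWdvd L hL𝒟), ← mul_add,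
      Nat.add_sub_cancel' (hT L hL𝒟)]
  refine ⟨fun D => W * c D + e D, ?_, ?_, ?_⟩
  · intro D hD
    by_cases h1 : c D = 0
    · have h2 : e D ≠ 0 := by
        intro h2
        apply hD
        change W * c D + e D = 0
        rw [h1, h2, mul_zero]
      rw [he] at h2
      by_contra h3
      apply h2
      rw [if_neg (fun h => h3 h.1)]
    · exact hc D h1
  · intro D hD
    change W * c D + e D ≠ 0
    have : 0 < W * c D := Nat.mul_pos hWpos (Nat.pos_of_ne_zero hD)
    omega
  · intro D D' hD hD' hcard hn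
    rcases Nat.lt_or_ge n (Nat.card D) with h | h
    · rw [hbig D h, hbig D' (hcard ▸ h), hinv D D' hD hD' hcard h]
    · have h1 : Nat.card D = n := le_antisymm h hn
      rw [hmid D hD h1, hmid D' hD' (hcard ▸ h1)]

/-- the numerical theorem: multiplicities whose marks depend only on the order (within `Pr`) -/
theorem exists_mult [Finite H] (Pr : Subgroup H → Prop) (D₀ : Subgroup H) (h₀ : Pr D₀) :
    ∃ c : Subgroup H → ℕ, (∀ D, c D ≠ 0 → Pr D) ∧ c D₀ ≠ 0 ∧
      ∀ D D', Pr D → Pr D' → Nat.card D = Nat.card D' → M c D = M c D' := by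
  have aux : ∀ k : ℕ, ∃ c : Subgroup H → ℕ, (∀ D, c D ≠ 0 → Pr D) ∧ c D₀ ≠ 0 ∧
      ∀ D D', Pr D → Pr D' → Nat.card D = Nat.card D' → Nat.card H - k ≤ Nat.card D →
        M c D = M c D' := by
    intro k
    induction k with
    | zero =>
      obtain ⟨c, hc1, hc2, hc3⟩ := mult_step Pr (Nat.card H) (fun D => if D = D₀ then 1 else 0)
        (fun D hD => by
          by_cases h : D = D₀
          · rw [h]; exact h₀
          · simp [h] at hD)
        (fun D D' _ _ _ hlt => by
          have := Subgroup.card_le_card_group D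
          omega)
      refine ⟨c, hc1, hc2 D₀ (by simp), ?_⟩
      intro D D' hD hD' hcard hn
      exact hc3 D D' hD hD' hcard (by omega)
    | succ k ih =>
      obtain ⟨c, hc1, hc2, hc3⟩ := ih
      obtain ⟨c', hc1', hc2', hc3'⟩ := mult_step Pr (Nat.card H - (k + 1)) c hc1
        (fun D D' hD hD' hcard hlt => hc3 D D' hD hD' hcard (by omega))
      exact ⟨c', hc1', hc2' D₀ hc2, hc3'⟩
  obtain ⟨c, hc1, hc2, hc3⟩ := aux (Nat.card H)
  refine ⟨c, hc1, hc2, fun D D' hD hD' hcard => hc3 D D' hD hD' hcard ?_⟩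
  rw [Nat.sub_self]; exact Nat.zero_le _

end Cfsg.Agent.Helper3.Marks
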