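import Mathlib
import Cfsg.Agent.Helper3.MarksB

set_option autoImplicit false

/-!
The `H`-set `XC c`: the disjoint union of `c D` copies of `H ⧸ D`, its marks and stabilizers.
-/

namespace Cfsg.Agent.Helper3.Marks

open scoped Classical

universe u

variable {H : Type u} [Group H]

/-- the disjoint union of `c D` copies of `H ⧸ D` -/
structure XC (c : Subgroup H → ℕ) : Type u where
  /-- the component type -/
  D : Subgroup H
  /-- the component index -/
  i : Fin (c D)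
  /-- the coset -/
  ξ : H ⧸ D

instance XC.instSMul (c : Subgroup H → ℕ) : SMul H (XC c) where
  smul h x := ⟨x.D, x.i, h • x.ξ⟩

theorem XC.smul_def (c : Subgroup H → ℕ) (h : H) (x : XC c) :
    h • x = ⟨x.D, x.i, h • x.ξ⟩ := rfl

instance XC.instMulAction (c : Subgroup H → ℕ) : MulAction H (XC c) where
  one_smul := by
    intro x
    rw [XC.smul_def, one_smul]
  mul_smul := by
    intro a b x
    rw [XC.smul_def, XC.smul_def, XC.smul_def, mul_smul]

/-- `XC c` as a sigma type -/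
def XC.toSigma (c : Subgroup H → ℕ) : XC c ≃ Σ D : Subgroup H, Fin (c D) × (H ⧸ D) where
  toFun x := ⟨x.D, x.i, x.ξ⟩
  invFun y := ⟨y.1, y.2.1, y.2.2⟩
  left_inv := fun _ => rfl
  right_inv := fun _ => rfl

instance XC.instFinite [Finite H] (c : Subgroup H → ℕ) : Finite (XC c) :=
  Finite.of_equiv _ (XC.toSigma c).symm

theorem XC.smul_eq_iff (c : Subgroup H → ℕ) (h : H) (x : XC c) :
    h • x = x ↔ h • x.ξ = x.ξ := by
  rw [XC.smul_def]
  constructor
  · intro h1
    have h2 := congrArg (XC.toSigma c) h1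
    have h3 := (Sigma.mk.inj_iff.mp h2).2
    exact (Prod.mk.injEq _ _ _ _ ▸ (eq_of_heq h3) : _ ∧ _).2
  · intro h1
    rw [h1]

/-- the fixed points of `L` on `XC c` -/
def XC.fixEquiv (c : Subgroup H → ℕ) (L : Subgroup H) :
    {x : XC c // ∀ l ∈ L, l • x = x} ≃
      Σ D : Subgroup H, Fin (c D) × {ξ : H ⧸ D // ∀ l ∈ L, l • ξ = ξ} where
  toFun x := ⟨x.1.D, x.1.i, ⟨x.1.ξ, fun l hl => (XC.smul_eq_iff c l x.1).mp (x.2 l hl)⟩⟩
  invFun y := ⟨⟨y.1, y.2.1, y.2.2.1⟩, fun l hl =>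
    (XC.smul_eq_iff c l ⟨y.1, y.2.1, y.2.2.1⟩).mpr (y.2.2.2 l hl)⟩
  left_inv := fun _ => rfl
  right_inv := fun _ => rfl

theorem XC.card_fix [Finite H] (c : Subgroup H → ℕ) (L : Subgroup H) :
    Nat.card {x : XC c // ∀ l ∈ L, l • x = x} = M c L := by
  rw [Nat.card_congr (XC.fixEquiv c L)]
  have : Fintype (Subgroup H) := Fintype.ofFinite _
  rw [Nat.card_sigma]
  unfold M
  have : (Finset.univ : Finset (Subgroup H)) = allSub H := by
    ext D
    simp [mem_allSub]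
  rw [this]
  apply Finset.sum_congr rfl
  intro D _
  rw [Nat.card_prod, Nat.card_fin]
  rfl

/-- stabilizers in `XC c` are conjugates of the subgroups `D` with `c D ≠ 0` -/
theorem XC.exists_stab (c : Subgroup H → ℕ) (x : XC c) :
    ∃ (D : Subgroup H) (g : H), c D ≠ 0 ∧ ∀ l : H, l • x = x ↔ l ∈ cj g D := by
  obtain ⟨D, i, ξ⟩ := x
  obtain ⟨g, rfl⟩ := QuotientGroup.mk_surjective ξ
  refine ⟨D, g, ?_, fun l => ?_⟩
  · intro h0
    rw [h0] at i
    exact i.elim0
  · rw [XC.smul_eq_iff, mem_cj]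
    exact smul_mk_eq_iff D l g

/-- the base point of a component -/
theorem XC.exists_point (c : Subgroup H → ℕ) (D : Subgroup H) (hD : c D ≠ 0) :
    ∃ x : XC c, ∀ l : H, l • x = x ↔ l ∈ D := by
  refine ⟨⟨D, ⟨0, Nat.pos_of_ne_zero hD⟩, QuotientGroup.mk 1⟩, fun l => ?_⟩
  rw [XC.smul_eq_iff]
  have := smul_mk_eq_iff D l 1
  simpa using this

/-- The stable set: an `H`-set with all stabilizers in the family `Pr`, with a point whose
stabilizer is `D₀`, and whose marks on `Pr` depend only on the order. -/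
theorem exists_stable_set [Finite H] (Pr : Subgroup H → Prop)
    (hcj : ∀ g D, Pr D → Pr (cj g D)) (hle : ∀ D D', D ≤ D' → Pr D' → Pr D)
    (D₀ : Subgroup H) (h₀ : Pr D₀) :
    ∃ (X : Type u) (_ : Finite X) (_ : MulAction H X),
      (∀ x : X, ∃ D : Subgroup H, Pr D ∧ ∀ l : H, l • x = x ↔ l ∈ D) ∧
      (∃ x₀ : X, ∀ l : H, l • x₀ = x₀ ↔ l ∈ D₀) ∧
      (∀ D D' : Subgroup H, Pr D → Pr D' → Nat.card D = Nat.card D' →
        Nat.card {x : X // ∀ l ∈ D, l • x = x} = Nat.card {x : X // ∀ l ∈ D', l • x = x}) ∧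
      (∀ D : Subgroup H, ¬ Pr D → Nat.card {x : X // ∀ l ∈ D, l • x = x} = 0) := by
  obtain ⟨c, hc1, hc2, hc3⟩ := exists_mult Pr D₀ h₀
  have hstab : ∀ x : XC c, ∃ D : Subgroup H, Pr D ∧ ∀ l : H, l • x = x ↔ l ∈ D := by
    intro x
    obtain ⟨D, g, hD, hx⟩ := XC.exists_stab c x
    exact ⟨cj g D, hcj g D (hc1 D hD), hx⟩
  refine ⟨XC c, inferInstance, inferInstance, hstab, XC.exists_point c D₀ hc2, ?_, ?_⟩
  · intro D D' hD hD' hcard
    rw [XC.card_fix, XC.card_fix]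
    exact hc3 D D' hD hD' hcard
  · intro D hD
    apply Nat.card_eq_zero.mpr
    left
    constructor
    rintro ⟨x, hx⟩
    obtain ⟨D', hD', hx'⟩ := hstab x
    apply hD
    apply hle D D' _ hD'
    intro l hl
    exact (hx' l).mp (hx l hl)

end Cfsg.Agent.Helper3.Marks
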