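import Mathlib

set_option autoImplicit false

/-!
Burnside's "table of marks" theorem: two finite permutation representations of a finite group
with the same numbers of fixed points for all subgroups are isomorphic.
-/

namespace Cfsg.Agent.Helper3.Marks

open scoped Classical

variable {K : Type*} [Group K] {X : Type*} {Y : Type*}

/-- fixed points of a subgroup under a permutation representation -/
def fix (ρ : K →* Equiv.Perm X) (L : Subgroup K) : Set X := {x | ∀ k ∈ L, ρ k x = x}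

theorem mem_fix (ρ : K →* Equiv.Perm X) (L : Subgroup K) (x : X) :
    x ∈ fix ρ L ↔ ∀ k ∈ L, ρ k x = x := Iff.rfl

/-- stabilizer of a point -/
def stab (ρ : K →* Equiv.Perm X) (x : X) : Subgroup K where
  carrier := {k | ρ k x = x}
  mul_mem' := by
    intro a b ha hb
    change ρ a x = x at ha
    change ρ b x = x at hb
    change ρ (a * b) x = x
    rw [map_mul, Equiv.Perm.mul_apply, hb, ha]
  one_mem' := by
    change ρ 1 x = x
    rw [map_one]; rfl
  inv_mem' := by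
    intro a ha
    change ρ a x = x at ha
    change ρ a⁻¹ x = x
    rw [map_inv, Equiv.Perm.inv_eq_iff_eq]
    exact ha.symm

theorem mem_stab (ρ : K →* Equiv.Perm X) (x : X) (k : K) : k ∈ stab ρ x ↔ ρ k x = x := Iff.rfl

theorem mem_fix_iff_le (ρ : K →* Equiv.Perm X) (L : Subgroup K) (x : X) :
    x ∈ fix ρ L ↔ L ≤ stab ρ x := Iff.rfl

/-- orbit of a point -/
def orb (ρ : K →* Equiv.Perm X) (x : X) : Set X := Set.range (fun k => ρ k x)

theorem mem_orb_self (ρ : K →* Equiv.Perm X) (x : X) : x ∈ orb ρ x :=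
  ⟨1, by simp⟩

theorem map_mem_orb (ρ : K →* Equiv.Perm X) (x : X) (k : K) {z : X} (hz : z ∈ orb ρ x) :
    ρ k z ∈ orb ρ x := by
  obtain ⟨k', rfl⟩ := hz
  exact ⟨k * k', by simp [map_mul]⟩

theorem mem_orb_of_map_mem (ρ : K →* Equiv.Perm X) (x : X) (k : K) {z : X}
    (hz : ρ k z ∈ orb ρ x) : z ∈ orb ρ x := by
  have := map_mem_orb ρ x k⁻¹ hz
  simpa using this

theorem mem_stab_map (ρ : K →* Equiv.Perm X) (x : X) (k k' : K) :
    k' ∈ stab ρ (ρ k x) ↔ k⁻¹ * k' * k ∈ stab ρ x := by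
  rw [mem_stab, mem_stab, map_mul, map_mul, map_inv, Equiv.Perm.mul_apply, Equiv.Perm.mul_apply,
    Equiv.Perm.inv_eq_iff_eq]

/-- transport between two orbits with equal stabilizers -/
theorem exists_orbit_map (ρ : K →* Equiv.Perm X) (σ : K →* Equiv.Perm Y) (ξ : X) (η : Y)
    (h : stab ρ ξ = stab σ η) :
    ∃ f : X → Y, (∀ k, f (ρ k ξ) = σ k η) ∧ Set.BijOn f (orb ρ ξ) (orb σ η) := by
  have key : ∀ k k' : K, ρ k ξ = ρ k' ξ ↔ σ k η = σ k' η := by
    intro k k'
    have h1 : ρ k ξ = ρ k' ξ ↔ k'⁻¹ * k ∈ stab ρ ξ := by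
      rw [mem_stab, map_mul, map_inv, Equiv.Perm.mul_apply, Equiv.Perm.inv_eq_iff_eq]
    have h2 : σ k η = σ k' η ↔ k'⁻¹ * k ∈ stab σ η := by
      rw [mem_stab, map_mul, map_inv, Equiv.Perm.mul_apply, Equiv.Perm.inv_eq_iff_eq]
    rw [h1, h2, h]
  refine ⟨fun x => if hx : ∃ k, ρ k ξ = x then σ (Classical.choose hx) η else η, ?_, ?_⟩
  have hf : ∀ k, (fun x => if hx : ∃ k, ρ k ξ = x then σ (Classical.choose hx) η else η) (ρ k ξ)
      = σ k η := by
    intro k
    have hx : ∃ k', ρ k' ξ = ρ k ξ := ⟨k, rfl⟩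
    simp only [dif_pos hx]
    exact (key _ _).mp (Classical.choose_spec hx)
  · exact hf
  · have hf : ∀ k, (fun x => if hx : ∃ k, ρ k ξ = x then σ (Classical.choose hx) η else η) (ρ k ξ)
        = σ k η := by
      intro k
      have hx : ∃ k', ρ k' ξ = ρ k ξ := ⟨k, rfl⟩
      simp only [dif_pos hx]
      exact (key _ _).mp (Classical.choose_spec hx)
    refine ⟨?_, ?_, ?_⟩
    · rintro _ ⟨k, rfl⟩
      rw [hf]; exact ⟨k, rfl⟩
    · rintro _ ⟨k, rfl⟩ _ ⟨k', rfl⟩ hkk'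
      rw [hf, hf] at hkk'
      exact (key _ _).mpr hkk'
    · rintro _ ⟨k, rfl⟩
      exact ⟨ρ k ξ, ⟨k, rfl⟩, hf k⟩

theorem stab_orbit_map (ρ : K →* Equiv.Perm X) (σ : K →* Equiv.Perm Y) (ξ : X) (η : Y)
    (h : stab ρ ξ = stab σ η) (f : X → Y) (hf : ∀ k, f (ρ k ξ) = σ k η) :
    ∀ x ∈ orb ρ ξ, stab σ (f x) = stab ρ x := by
  rintro _ ⟨k, rfl⟩
  ext k'
  change k' ∈ stab σ (f (ρ k ξ)) ↔ k' ∈ stab ρ (ρ k ξ)
  rw [hf, mem_stab_map, mem_stab_map, h]

theorem fix_bot (ρ : K →* Equiv.Perm X) : fix ρ ⊥ = Set.univ := by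
  ext x
  simp only [Set.mem_univ, iff_true]
  intro k hk
  rw [Subgroup.mem_bot] at hk
  rw [hk, map_one]; rfl

theorem marks_bijOn [Finite K] [Finite X] [Finite Y] [Nonempty Y] (ρ : K →* Equiv.Perm X)
    (σ : K →* Equiv.Perm Y) (n : ℕ) :
    ∀ (A : Set X) (B : Set Y), A.ncard = n → (∀ k, ∀ x ∈ A, ρ k x ∈ A) →
    (∀ k, ∀ y ∈ B, σ k y ∈ B) →
    (∀ L : Subgroup K, (A ∩ fix ρ L).ncard = (B ∩ fix σ L).ncard) →
    ∃ f : X → Y, Set.BijOn f A B ∧ ∀ k, ∀ x ∈ A, f (ρ k x) = σ k (f x) := by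
  induction n using Nat.strong_induction_on with
  | _ n ih =>
  intro A B hn hA hB hm
  rcases Set.eq_empty_or_nonempty A with hAe | hAne
  · have hB0 : B = ∅ := by
      have h1 := hm ⊥
      rw [fix_bot, fix_bot, Set.inter_univ, Set.inter_univ, hAe, Set.ncard_empty] at h1
      exact (Set.ncard_eq_zero (Set.toFinite B)).mp h1.symm
    refine ⟨fun _ => Classical.arbitrary Y, ?_, ?_⟩
    · rw [hAe, hB0]; exact Set.bijOn_empty _
    · intro k x hx
      rw [hAe] at hx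
      exact absurd hx (Set.notMem_empty x)
  · -- choose a subgroup of maximal order with a fixed point in `A`
    have hS : ({L : Subgroup K | (A ∩ fix ρ L).Nonempty} : Set (Subgroup K)).Nonempty := by
      refine ⟨⊥, ?_⟩
      change (A ∩ fix ρ ⊥).Nonempty
      rw [fix_bot, Set.inter_univ]; exact hAne
    obtain ⟨L, hL, hmax⟩ := Set.exists_max_image _ (fun L : Subgroup K => Nat.card L)
      (Set.toFinite _) hS
    change (A ∩ fix ρ L).Nonempty at hL
    obtain ⟨ξ, hξA, hξL⟩ := hL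
    have hpos : ∀ L' : Subgroup K, (B ∩ fix σ L').Nonempty → (A ∩ fix ρ L').Nonempty := by
      intro L' h'
      rw [← Set.ncard_pos (Set.toFinite _)] at h' ⊢
      rw [hm L']; exact h'
    have hLB : (B ∩ fix σ L).Nonempty := by
      have h' : (A ∩ fix ρ L).Nonempty := ⟨ξ, hξA, hξL⟩
      rw [← Set.ncard_pos (Set.toFinite _)] at h' ⊢
      rw [← hm L]; exact h'
    obtain ⟨η, hηB, hηL⟩ := hLB
    have hsξ : stab ρ ξ = L := by
      symm
      apply Subgroup.eq_of_le_of_card_ge ((mem_fix_iff_le ρ L ξ).mp hξL)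
      apply hmax
      exact ⟨ξ, hξA, (mem_fix_iff_le ρ _ ξ).mpr le_rfl⟩
    have hsη : stab σ η = L := by
      symm
      apply Subgroup.eq_of_le_of_card_ge ((mem_fix_iff_le σ L η).mp hηL)
      apply hmax
      exact hpos _ ⟨η, hηB, (mem_fix_iff_le σ _ η).mpr le_rfl⟩
    have hst : stab ρ ξ = stab σ η := by rw [hsξ, hsη]
    obtain ⟨f₀, hf₀, hbij₀⟩ := exists_orbit_map ρ σ ξ η hst
    have hstab₀ := stab_orbit_map ρ σ ξ η hst f₀ hf₀
    have hOA : orb ρ ξ ⊆ A := by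
      rintro _ ⟨k, rfl⟩
      exact hA k ξ hξA
    have hOB : orb σ η ⊆ B := by
      rintro _ ⟨k, rfl⟩
      exact hB k η hηB
    -- marks of the orbits agree
    have hmO : ∀ L' : Subgroup K, (orb ρ ξ ∩ fix ρ L').ncard = (orb σ η ∩ fix σ L').ncard := by
      intro L'
      have hb : Set.BijOn f₀ (orb ρ ξ ∩ fix ρ L') (orb σ η ∩ fix σ L') := by
        refine ⟨?_, ?_, ?_⟩
        · rintro x ⟨hxO, hxL⟩
          refine ⟨hbij₀.mapsTo hxO, ?_⟩
          rw [mem_fix_iff_le, hstab₀ x hxO]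
          exact hxL
        · exact hbij₀.injOn.mono Set.inter_subset_left
        · rintro y ⟨hyO, hyL⟩
          obtain ⟨x, hxO, rfl⟩ := hbij₀.surjOn hyO
          refine ⟨x, ⟨hxO, ?_⟩, rfl⟩
          rw [mem_fix_iff_le, ← hstab₀ x hxO]
          exact hyL
      rw [← hb.image_eq, hb.injOn.ncard_image]
    -- the complements
    have hA' : ∀ k, ∀ x ∈ A \ orb ρ ξ, ρ k x ∈ A \ orb ρ ξ := by
      rintro k x ⟨hxA, hxO⟩
      exact ⟨hA k x hxA, fun h => hxO (mem_orb_of_map_mem ρ ξ k h)⟩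
    have hB' : ∀ k, ∀ y ∈ B \ orb σ η, σ k y ∈ B \ orb σ η := by
      rintro k y ⟨hyB, hyO⟩
      exact ⟨hB k y hyB, fun h => hyO (mem_orb_of_map_mem σ η k h)⟩
    have hm' : ∀ L' : Subgroup K,
        ((A \ orb ρ ξ) ∩ fix ρ L').ncard = ((B \ orb σ η) ∩ fix σ L').ncard := by
      intro L'
      have e1 : (A \ orb ρ ξ) ∩ fix ρ L' = (A ∩ fix ρ L') \ (orb ρ ξ ∩ fix ρ L') := by
        ext x
        simp only [Set.mem_inter_iff, Set.mem_sdiff]
        tauto
      have e2 : (B \ orb σ η) ∩ fix σ L' = (B ∩ fix σ L') \ (orb σ η ∩ fix σ L') := by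
        ext x
        simp only [Set.mem_inter_iff, Set.mem_sdiff]
        tauto
      rw [e1, e2, Set.ncard_sdiff (Set.inter_subset_inter_left _ hOA) (Set.toFinite _),
        Set.ncard_sdiff (Set.inter_subset_inter_left _ hOB) (Set.toFinite _), hm L', hmO L']
    have hlt : (A \ orb ρ ξ).ncard < n := by
      rw [← hn]
      apply Set.ncard_lt_ncard _ (Set.toFinite A)
      refine ⟨Set.sdiff_subset, fun h => ?_⟩
      exact (h hξA).2 (mem_orb_self ρ ξ)
    obtain ⟨f₁, hbij₁, heq₁⟩ := ih _ hlt (A \ orb ρ ξ) (B \ orb σ η) rfl hA' hB' hm'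
    refine ⟨fun x => if x ∈ orb ρ ξ then f₀ x else f₁ x, ?_, ?_⟩
    · refine ⟨?_, ?_, ?_⟩
      · intro x hxA
        by_cases hxO : x ∈ orb ρ ξ
        · simp only [if_pos hxO]
          exact hOB (hbij₀.mapsTo hxO)
        · simp only [if_neg hxO]
          exact (hbij₁.mapsTo ⟨hxA, hxO⟩).1
      · intro x hxA x' hx'A hxx'
        by_cases hxO : x ∈ orb ρ ξ <;> by_cases hx'O : x' ∈ orb ρ ξ
        · simp only [if_pos hxO, if_pos hx'O] at hxx'
          exact hbij₀.injOn hxO hx'O hxx'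
        · simp only [if_pos hxO, if_neg hx'O] at hxx'
          exfalso
          have h1 := hbij₀.mapsTo hxO
          have h2 := (hbij₁.mapsTo ⟨hx'A, hx'O⟩).2
          rw [hxx'] at h1
          exact h2 h1
        · simp only [if_neg hxO, if_pos hx'O] at hxx'
          exfalso
          have h1 := hbij₀.mapsTo hx'O
          have h2 := (hbij₁.mapsTo ⟨hxA, hxO⟩).2
          rw [← hxx'] at h1
          exact h2 h1
        · simp only [if_neg hxO, if_neg hx'O] at hxx'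
          exact hbij₁.injOn ⟨hxA, hxO⟩ ⟨hx'A, hx'O⟩ hxx'
      · intro y hyB
        by_cases hyO : y ∈ orb σ η
        · obtain ⟨x, hxO, rfl⟩ := hbij₀.surjOn hyO
          exact ⟨x, hOA hxO, by simp only [if_pos hxO]⟩
        · obtain ⟨x, ⟨hxA, hxO⟩, rfl⟩ := hbij₁.surjOn ⟨hyB, hyO⟩
          exact ⟨x, hxA, by simp only [if_neg hxO]⟩
    · intro k x hxA
      by_cases hxO : x ∈ orb ρ ξ
      · have hkO : ρ k x ∈ orb ρ ξ := map_mem_orb ρ ξ k hxO
        simp only [if_pos hxO, if_pos hkO]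
        obtain ⟨k', rfl⟩ := hxO
        have : ρ k (ρ k' ξ) = ρ (k * k') ξ := by rw [map_mul]; rfl
        rw [this, hf₀, hf₀, map_mul]; rfl
      · have hkO : ρ k x ∉ orb ρ ξ := fun h => hxO (mem_orb_of_map_mem ρ ξ k h)
        simp only [if_neg hxO, if_neg hkO]
        exact heq₁ k x ⟨hxA, hxO⟩

/-- **Burnside's marks theorem.** -/
theorem exists_equiv_of_marks [Finite K] [Finite X] [Finite Y] (ρ : K →* Equiv.Perm X)
    (σ : K →* Equiv.Perm Y)
    (hm : ∀ L : Subgroup K, (fix ρ L).ncard = (fix σ L).ncard) :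
    ∃ e : X ≃ Y, ∀ k x, e (ρ k x) = σ k (e x) := by
  rcases isEmpty_or_nonempty Y with hY | hY
  · have hX : IsEmpty X := by
      have h1 := hm ⊥
      rw [fix_bot, fix_bot, Set.ncard_univ, Set.ncard_univ] at h1
      have : Nat.card Y = 0 := Nat.card_eq_zero.mpr (Or.inl hY)
      rw [this] at h1
      rcases Nat.card_eq_zero.mp h1 with h | h
      · exact h
      · exact absurd ‹Finite X› (not_finite_iff_infinite.mpr h)
    exact ⟨Equiv.equivOfIsEmpty X Y, fun k x => isEmptyElim x⟩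
  · obtain ⟨f, hbij, heq⟩ := marks_bijOn ρ σ _ Set.univ Set.univ rfl (fun _ _ _ => Set.mem_univ _)
      (fun _ _ _ => Set.mem_univ _) (fun L => by rw [Set.univ_inter, Set.univ_inter]; exact hm L)
    have hb : Function.Bijective f := Set.bijOn_univ.mp hbij
    exact ⟨Equiv.ofBijective f hb, fun k x => heq k x (Set.mem_univ _)⟩

end Cfsg.Agent.Helper3.Marks
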