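import Mathlib
import Cfsg.Agent.Helper3.MarksA
import Cfsg.Agent.Helper3.MarksB

set_option autoImplicit false

/-!
A congruence for marks: two permutation representations of `K` whose marks agree on all subgroups
strictly containing a normal subgroup `D₀` (which acts trivially) have numbers of points congruent
modulo the index of `D₀`.
-/

namespace Cfsg.Agent.Helper3.Marks

open scoped Classical

variable {K : Type*} [Group K] {X : Type*} {Y : Type*}

theorem marks_ncard_eq [Finite K] [Finite X] [Finite Y] (ρ : K →* Equiv.Perm X)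
    (σ : K →* Equiv.Perm Y) (𝓛 : Set (Subgroup K)) (n : ℕ) :
    ∀ (A : Set X) (B : Set Y), A.ncard = n → (∀ k, ∀ x ∈ A, ρ k x ∈ A) →
    (∀ k, ∀ y ∈ B, σ k y ∈ B) → (∀ x ∈ A, stab ρ x ∈ 𝓛) → (∀ y ∈ B, stab σ y ∈ 𝓛) →
    (∀ L ∈ 𝓛, (A ∩ fix ρ L).ncard = (B ∩ fix σ L).ncard) → A.ncard = B.ncard := by
  induction n using Nat.strong_induction_on with
  | _ n ih =>
  intro A B hn hA hB hsA hsB hm
  rcases Set.eq_empty_or_nonempty A with hAe | hAne
  · have hB0 : B = ∅ := by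
      by_contra hne
      obtain ⟨y, hy⟩ := Set.nonempty_iff_ne_empty.mpr hne
      have h1 := hm _ (hsB y hy)
      rw [hAe, Set.empty_inter, Set.ncard_empty] at h1
      have h2 : (B ∩ fix σ (stab σ y)).Nonempty := ⟨y, hy, (mem_fix_iff_le σ _ y).mpr le_rfl⟩
      rw [← Set.ncard_pos (Set.toFinite _)] at h2
      omega
    rw [hAe, hB0, Set.ncard_empty, Set.ncard_empty]
  · have hS : ({L : Subgroup K | (A ∩ fix ρ L).Nonempty} : Set (Subgroup K)).Nonempty := by
      refine ⟨⊥, ?_⟩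
      change (A ∩ fix ρ ⊥).Nonempty
      rw [fix_bot, Set.inter_univ]; exact hAne
    obtain ⟨L, hL, hmax⟩ := Set.exists_max_image _ (fun L : Subgroup K => Nat.card L)
      (Set.toFinite _) hS
    change (A ∩ fix ρ L).Nonempty at hL
    obtain ⟨ξ, hξA, hξL⟩ := hL
    have hsξ : stab ρ ξ = L := by
      symm
      apply Subgroup.eq_of_le_of_card_ge ((mem_fix_iff_le ρ L ξ).mp hξL)
      apply hmax
      exact ⟨ξ, hξA, (mem_fix_iff_le ρ _ ξ).mpr le_rfl⟩
    have hL𝓛 : L ∈ 𝓛 := hsξ ▸ hsA ξ hξA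
    have hLB : (B ∩ fix σ L).Nonempty := by
      have h' : (A ∩ fix ρ L).Nonempty := ⟨ξ, hξA, hξL⟩
      rw [← Set.ncard_pos (Set.toFinite _)] at h' ⊢
      rw [← hm L hL𝓛]; exact h'
    obtain ⟨η, hηB, hηL⟩ := hLB
    have hsη : stab σ η = L := by
      symm
      apply Subgroup.eq_of_le_of_card_ge ((mem_fix_iff_le σ L η).mp hηL)
      apply hmax
      have h' : (B ∩ fix σ (stab σ η)).Nonempty := ⟨η, hηB, (mem_fix_iff_le σ _ η).mpr le_rfl⟩
      change (A ∩ fix ρ (stab σ η)).Nonempty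
      rw [← Set.ncard_pos (Set.toFinite _)] at h' ⊢
      rw [hm _ (hsB η hηB)]; exact h'
    have hst : stab ρ ξ = stab σ η := by rw [hsξ, hsη]
    obtain ⟨f₀, hf₀, hbij₀⟩ := exists_orbit_map ρ σ ξ η hst
    have hstab₀ := stab_orbit_map ρ σ ξ η hst f₀ hf₀
    have hOA : orb ρ ξ ⊆ A := by
      rintro _ ⟨k, rfl⟩
      exact hA k ξ hξA
    have hOB : orb σ η ⊆ B := by
      rintro _ ⟨k, rfl⟩
      exact hB k η hηB
    have hmO : ∀ L' : Subgroup K, (orb ρ ξ ∩ fix ρ L').ncard = (orb σ η ∩ fix σ L').ncard := by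
      intro L'
      have hb : Set.BijOn f₀ (orb ρ ξ ∩ fix ρ L') (orb σ η ∩ fix σ L') := by
        refine ⟨?_, ?_, ?_⟩
        · rintro x ⟨hxO, hxL⟩
          refine ⟨hbij₀.mapsTo hxO, ?_⟩
          rw [mem_fix_iff_le, hstab₀ x hxO]
          exact hxL
        · exact hbij₀.injOn.mono Set.inter_subset_left
        · rintro y ⟨hyO, hyL⟩
          obtain ⟨x, hxO, rfl⟩ := hbij₀.surjOn hyO
          refine ⟨x, ⟨hxO, ?_⟩, rfl⟩
          rw [mem_fix_iff_le, ← hstab₀ x hxO]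
          exact hyL
      rw [← hb.image_eq, hb.injOn.ncard_image]
    have hOcard : (orb ρ ξ).ncard = (orb σ η).ncard := by
      rw [← hbij₀.image_eq, hbij₀.injOn.ncard_image]
    have hA' : ∀ k, ∀ x ∈ A \ orb ρ ξ, ρ k x ∈ A \ orb ρ ξ := by
      rintro k x ⟨hxA, hxO⟩
      exact ⟨hA k x hxA, fun h => hxO (mem_orb_of_map_mem ρ ξ k h)⟩
    have hB' : ∀ k, ∀ y ∈ B \ orb σ η, σ k y ∈ B \ orb σ η := by
      rintro k y ⟨hyB, hyO⟩
      exact ⟨hB k y hyB, fun h => hyO (mem_orb_of_map_mem σ η k h)⟩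
    have hm' : ∀ L' ∈ 𝓛,
        ((A \ orb ρ ξ) ∩ fix ρ L').ncard = ((B \ orb σ η) ∩ fix σ L').ncard := by
      intro L' hL'
      have e1 : (A \ orb ρ ξ) ∩ fix ρ L' = (A ∩ fix ρ L') \ (orb ρ ξ ∩ fix ρ L') := by
        ext x
        simp only [Set.mem_inter_iff, Set.mem_sdiff]
        tauto
      have e2 : (B \ orb σ η) ∩ fix σ L' = (B ∩ fix σ L') \ (orb σ η ∩ fix σ L') := by
        ext x
        simp only [Set.mem_inter_iff, Set.mem_sdiff]
        tauto
      rw [e1, e2, Set.ncard_sdiff (Set.inter_subset_inter_left _ hOA) (Set.toFinite _),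
        Set.ncard_sdiff (Set.inter_subset_inter_left _ hOB) (Set.toFinite _), hm L' hL', hmO L']
    have hlt : (A \ orb ρ ξ).ncard < n := by
      rw [← hn]
      apply Set.ncard_lt_ncard _ (Set.toFinite A)
      refine ⟨Set.sdiff_subset, fun h => ?_⟩
      exact (h hξA).2 (mem_orb_self ρ ξ)
    have h1 := ih _ hlt (A \ orb ρ ξ) (B \ orb σ η) rfl hA' hB'
      (fun x hx => hsA x hx.1) (fun y hy => hsB y hy.1) hm'
    have h2 := Set.ncard_sdiff_add_ncard_of_subset hOA (Set.toFinite A)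
    have h3 := Set.ncard_sdiff_add_ncard_of_subset hOB (Set.toFinite B)
    omega

/-- the size of an orbit -/
theorem ncard_orb [Finite K] [Finite X] (ρ : K →* Equiv.Perm X) (x : X) :
    (orb ρ x).ncard = (stab ρ x).index := by
  have hst : stab ρ x = stab (MulAction.toPermHom K (K ⧸ stab ρ x))
      (QuotientGroup.mk 1 : K ⧸ stab ρ x) := by
    ext k
    rw [mem_stab (MulAction.toPermHom K (K ⧸ stab ρ x))]
    change k ∈ stab ρ x ↔ k • (QuotientGroup.mk 1 : K ⧸ stab ρ x) = QuotientGroup.mk 1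
    rw [smul_mk_eq_iff]
    simp
  obtain ⟨f, -, hbij⟩ := exists_orbit_map ρ (MulAction.toPermHom K (K ⧸ stab ρ x)) x
    (QuotientGroup.mk 1) hst
  have huniv : orb (MulAction.toPermHom K (K ⧸ stab ρ x)) (QuotientGroup.mk 1 : K ⧸ stab ρ x)
      = Set.univ := by
    ext ξ
    simp only [Set.mem_univ, iff_true]
    obtain ⟨k, rfl⟩ := QuotientGroup.mk_surjective ξ
    refine ⟨k, ?_⟩
    change k • (QuotientGroup.mk 1 : K ⧸ stab ρ x) = QuotientGroup.mk k
    rw [MulAction.Quotient.smul_mk, smul_eq_mul, mul_one]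
  rw [← hbij.injOn.ncard_image, hbij.image_eq, huniv, Set.ncard_univ]
  rfl

/-- an invariant set all of whose points have stabilizer `D₀` has cardinality divisible by the
index of `D₀` -/
theorem index_dvd_ncard_of_stab_eq [Finite K] [Finite X] (ρ : K →* Equiv.Perm X)
    (D₀ : Subgroup K) (n : ℕ) : ∀ (A : Set X), A.ncard = n → (∀ k, ∀ x ∈ A, ρ k x ∈ A) →
    (∀ x ∈ A, stab ρ x = D₀) → D₀.index ∣ A.ncard := by
  induction n using Nat.strong_induction_on with
  | _ n ih =>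
  intro A hn hA hs
  rcases Set.eq_empty_or_nonempty A with hAe | ⟨ξ, hξ⟩
  · rw [hAe, Set.ncard_empty]; exact dvd_zero _
  · have hOA : orb ρ ξ ⊆ A := by
      rintro _ ⟨k, rfl⟩
      exact hA k ξ hξ
    have hA' : ∀ k, ∀ x ∈ A \ orb ρ ξ, ρ k x ∈ A \ orb ρ ξ := by
      rintro k x ⟨hxA, hxO⟩
      exact ⟨hA k x hxA, fun h => hxO (mem_orb_of_map_mem ρ ξ k h)⟩
    have hlt : (A \ orb ρ ξ).ncard < n := by
      rw [← hn]
      apply Set.ncard_lt_ncard _ (Set.toFinite A)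
      refine ⟨Set.sdiff_subset, fun h => ?_⟩
      exact (h hξ).2 (mem_orb_self ρ ξ)
    have h1 := ih _ hlt (A \ orb ρ ξ) rfl hA' (fun x hx => hs x hx.1)
    have h2 := Set.ncard_sdiff_add_ncard_of_subset hOA (Set.toFinite A)
    rw [← h2]
    apply dvd_add h1
    rw [ncard_orb, hs ξ hξ]

/-- the congruence for marks -/
theorem ncard_modEq [Finite K] [Finite X] [Finite Y] (ρ : K →* Equiv.Perm X)
    (σ : K →* Equiv.Perm Y) (D₀ : Subgroup K) [hn : D₀.Normal] (A : Set X) (B : Set Y)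
    (hA : ∀ k, ∀ x ∈ A, ρ k x ∈ A) (hB : ∀ k, ∀ y ∈ B, σ k y ∈ B)
    (hsA : ∀ x ∈ A, D₀ ≤ stab ρ x) (hsB : ∀ y ∈ B, D₀ ≤ stab σ y)
    (hm : ∀ L : Subgroup K, D₀ < L → (A ∩ fix ρ L).ncard = (B ∩ fix σ L).ncard) :
    A.ncard ≡ B.ncard [MOD D₀.index] := by
  -- stabilizers of translates
  have hstabρ : ∀ k x, stab ρ x = D₀ → stab ρ (ρ k x) = D₀ := by
    intro k x hx
    ext k'
    rw [mem_stab_map, hx]
    constructor
    · intro h
      have := hn.conj_mem _ h k
      have e : k * (k⁻¹ * k' * k) * k⁻¹ = k' := by group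
      rwa [e] at this
    · intro h
      have := hn.conj_mem _ h k⁻¹
      rwa [inv_inv] at this
  have hstabσ : ∀ k y, stab σ y = D₀ → stab σ (σ k y) = D₀ := by
    intro k y hy
    ext k'
    rw [mem_stab_map, hy]
    constructor
    · intro h
      have := hn.conj_mem _ h k
      have e : k * (k⁻¹ * k' * k) * k⁻¹ = k' := by group
      rwa [e] at this
    · intro h
      have := hn.conj_mem _ h k⁻¹
      rwa [inv_inv] at this
  have hstabρ' : ∀ k x, stab ρ (ρ k x) = D₀ → stab ρ x = D₀ := by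
    intro k x hx
    have := hstabρ k⁻¹ _ hx
    simpa using this
  have hstabσ' : ∀ k y, stab σ (σ k y) = D₀ → stab σ y = D₀ := by
    intro k y hy
    have := hstabσ k⁻¹ _ hy
    simpa using this
  -- the singular parts have the same cardinality
  have h1 : ({x ∈ A | stab ρ x ≠ D₀} : Set X).ncard = ({y ∈ B | stab σ y ≠ D₀} : Set Y).ncard := by
    apply marks_ncard_eq ρ σ {L | D₀ < L} _ _ _ rfl
    · rintro k x ⟨hxA, hx⟩
      exact ⟨hA k x hxA, fun h => hx (hstabρ' k x h)⟩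
    · rintro k y ⟨hyB, hy⟩
      exact ⟨hB k y hyB, fun h => hy (hstabσ' k y h)⟩
    · rintro x ⟨hxA, hx⟩
      exact lt_of_le_of_ne (hsA x hxA) (Ne.symm hx)
    · rintro y ⟨hyB, hy⟩
      exact lt_of_le_of_ne (hsB y hyB) (Ne.symm hy)
    · intro L hL
      have e1 : ({x ∈ A | stab ρ x ≠ D₀} : Set X) ∩ fix ρ L = A ∩ fix ρ L := by
        ext x
        constructor
        · rintro ⟨⟨hxA, -⟩, hxL⟩
          exact ⟨hxA, hxL⟩
        · rintro ⟨hxA, hxL⟩
          refine ⟨⟨hxA, fun h => ?_⟩, hxL⟩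
          have h2 : L ≤ stab ρ x := (mem_fix_iff_le ρ L x).mp hxL
          rw [h] at h2
          exact absurd hL (not_lt_of_ge h2)
      have e2 : ({y ∈ B | stab σ y ≠ D₀} : Set Y) ∩ fix σ L = B ∩ fix σ L := by
        ext y
        constructor
        · rintro ⟨⟨hyB, -⟩, hyL⟩
          exact ⟨hyB, hyL⟩
        · rintro ⟨hyB, hyL⟩
          refine ⟨⟨hyB, fun h => ?_⟩, hyL⟩
          have h2 : L ≤ stab σ y := (mem_fix_iff_le σ L y).mp hyL
          rw [h] at h2
          exact absurd hL (not_lt_of_ge h2)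
      rw [e1, e2]
      exact hm L hL
  -- the free parts are divisible by the index
  have h2 : D₀.index ∣ ({x ∈ A | stab ρ x = D₀} : Set X).ncard := by
    apply index_dvd_ncard_of_stab_eq ρ D₀ _ _ rfl
    · rintro k x ⟨hxA, hx⟩
      exact ⟨hA k x hxA, hstabρ k x hx⟩
    · rintro x ⟨-, hx⟩
      exact hx
  have h3 : D₀.index ∣ ({y ∈ B | stab σ y = D₀} : Set Y).ncard := by
    apply index_dvd_ncard_of_stab_eq σ D₀ _ _ rfl
    · rintro k y ⟨hyB, hy⟩
      exact ⟨hB k y hyB, hstabσ k y hy⟩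
    · rintro y ⟨-, hy⟩
      exact hy
  have h4 : A.ncard = ({x ∈ A | stab ρ x ≠ D₀} : Set X).ncard
      + ({x ∈ A | stab ρ x = D₀} : Set X).ncard := by
    rw [← Set.ncard_union_eq _ (Set.toFinite _) (Set.toFinite _)]
    · congr 1
      ext x
      simp only [Set.mem_union, Set.mem_ofPred_eq]
      tauto
    · rw [Set.disjoint_left]
      rintro x ⟨-, hx⟩ ⟨-, hx'⟩
      exact hx hx'
  have h5 : B.ncard = ({y ∈ B | stab σ y ≠ D₀} : Set Y).ncard
      + ({y ∈ B | stab σ y = D₀} : Set Y).ncard := by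
    rw [← Set.ncard_union_eq _ (Set.toFinite _) (Set.toFinite _)]
    · congr 1
      ext y
      simp only [Set.mem_union, Set.mem_ofPred_eq]
      tauto
    · rw [Set.disjoint_left]
      rintro y ⟨-, hy⟩ ⟨-, hy'⟩
      exact hy hy'
  rw [h4, h5, h1]
  apply Nat.ModEq.add_left
  exact ((Nat.modEq_zero_iff_dvd.mpr h2).trans (Nat.modEq_zero_iff_dvd.mpr h3).symm)

end Cfsg.Agent.Helper3.Marks
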