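import Mathlib
import Cfsg.Agent.Helper3.MarksC
import Cfsg.Agent.Helper3.MarksD

set_option autoImplicit false

/-!
The congruence between the marks of a subgroup and of a "fully normalized" conjugate.
-/

namespace Cfsg.Agent.Helper3.Marks

open scoped Classical

universe u

variable {H : Type u} [Group H]

/-- marks of a pulled-back action -/
theorem ncard_fix_comp' {K X : Type*} [Group K] [MulAction H X] (j : K →* H)
    (L : Subgroup K) :
    (fix ((MulAction.toPermHom H X).comp j) L).ncard
      = Nat.card {x : X // ∀ d ∈ L.map j, d • x = x} := by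
  rw [← Nat.card_coe_set_eq]
  apply Nat.card_congr
  apply Equiv.subtypeEquivRight
  intro x
  constructor
  · rintro hx _ ⟨k, hk, rfl⟩
    exact hx k hk
  · intro hx k hk
    exact hx (j k) ⟨k, hk, rfl⟩

theorem ncard_fix_comp_XC [Finite H] {K : Type*} [Group K] (c : Subgroup H → ℕ) (j : K →* H)
    (L : Subgroup K) :
    (fix ((MulAction.toPermHom H (XC c)).comp j) L).ncard = M c (L.map j) := by
  rw [ncard_fix_comp', XC.card_fix]

theorem fix_anti {K X : Type*} [Group K] (ρ : K →* Equiv.Perm X) {L L' : Subgroup K}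
    (h : L ≤ L') : fix ρ L' ⊆ fix ρ L :=
  fun _ hx k hk => hx k (h hk)

theorem map_mem_fix_of_normal {K X : Type*} [Group K] (ρ : K →* Equiv.Perm X) (D₀ : Subgroup K)
    [hn : D₀.Normal] (k : K) {x : X} (hx : x ∈ fix ρ D₀) : ρ k x ∈ fix ρ D₀ := by
  intro d hd
  have h1 : k⁻¹ * d * k ∈ D₀ := by
    have := hn.conj_mem d hd k⁻¹
    rwa [inv_inv] at this
  have h2 := hx _ h1
  have h3 : ρ d (ρ k x) = ρ k (ρ (k⁻¹ * d * k) x) := by
    rw [← Equiv.Perm.mul_apply, ← Equiv.Perm.mul_apply, ← map_mul, ← map_mul]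
    congr 2
    group
  rw [h3, h2]

/-- the mark of `D` on `H ⧸ D` is the index of `D` in its normalizer -/
theorem cmark_self_eq [Finite H] (D : Subgroup H) :
    cmark D D = (D.subgroupOf (Subgroup.normalizer (D : Set H))).index := by
  unfold cmark
  rw [Subgroup.index]
  refine Eq.trans ?_ (Nat.card_congr (Sylow.fixedPointsMulLeftCosetsEquivQuotient D))
  apply Nat.card_congr
  apply Equiv.subtypeEquivRight
  intro ξ
  rw [MulAction.mem_fixedPoints]
  constructor
  · intro h m
    exact h m.1 m.2
  · intro h l hl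
    exact h ⟨l, hl⟩

theorem cmark_self_dvd_card [Finite H] (D : Subgroup H) : cmark D D ∣ Nat.card H := by
  rw [cmark_self_eq]
  exact (Subgroup.index_dvd_card _).trans (Subgroup.card_subgroup_dvd_card _)

/-- the congruence -/
theorem M_modEq [Finite H] (c : Subgroup H → ℕ) (D' Ds : Subgroup H)
    (ρ : ↥(Subgroup.normalizer (D' : Set H)) →* H)
    (hρ : (D'.subgroupOf (Subgroup.normalizer (D' : Set H))).map ρ = Ds)
    (h : ∀ L : Subgroup ↥(Subgroup.normalizer (D' : Set H)),
      D'.subgroupOf (Subgroup.normalizer (D' : Set H)) < L →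
        M c (L.map (Subgroup.normalizer (D' : Set H)).subtype) = M c (L.map ρ)) :
    M c D' ≡ M c Ds [MOD cmark D' D'] := by
  have hn : (D'.subgroupOf (Subgroup.normalizer (D' : Set H))).Normal :=
    Subgroup.normal_in_normalizer
  have hA : (fix ((MulAction.toPermHom H (XC c)).comp (Subgroup.normalizer (D' : Set H)).subtype)
      (D'.subgroupOf (Subgroup.normalizer (D' : Set H)))).ncard = M c D' := by
    rw [ncard_fix_comp_XC, Subgroup.subgroupOf_map_subtype,
      inf_eq_left.mpr Subgroup.le_normalizer]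
  have hB : (fix ((MulAction.toPermHom H (XC c)).comp ρ)
      (D'.subgroupOf (Subgroup.normalizer (D' : Set H)))).ncard = M c Ds := by
    rw [ncard_fix_comp_XC, hρ]
  rw [← hA, ← hB, cmark_self_eq]
  apply ncard_modEq
  · intro k x hx
    exact map_mem_fix_of_normal _ _ k hx
  · intro k x hx
    exact map_mem_fix_of_normal _ _ k hx
  · intro x hx
    exact (mem_fix_iff_le _ _ x).mp hx
  · intro x hx
    exact (mem_fix_iff_le _ _ x).mp hx
  · intro L hL
    rw [Set.inter_eq_right.mpr (fix_anti _ hL.le), Set.inter_eq_right.mpr (fix_anti _ hL.le),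
      ncard_fix_comp_XC, ncard_fix_comp_XC]
    exact h L hL

end Cfsg.Agent.Helper3.Marks
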