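import Mathlib
import Cfsg.Agent.Helper3.MarksE

set_option autoImplicit false

/-!
The abstract stabilization theorem: given "saturation data" on the subgroups of a finite group `H`,
every multiset of coset spaces that is stable on large subgroups can be enlarged, adding only small
coset spaces, to a stable one.
-/

namespace Cfsg.Agent.Helper3.Marks

open scoped Classical

universe u

variable {H : Type u} [Group H]

theorem cj_one (D : Subgroup H) : cj 1 D = D := by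
  ext x
  rw [mem_cj]
  simp

theorem cj_cj (g g' : H) (D : Subgroup H) : cj g (cj g' D) = cj (g * g') D := by
  ext x
  rw [mem_cj, mem_cj, mem_cj]
  have : g'⁻¹ * (g⁻¹ * x * g) * g' = (g * g')⁻¹ * x * (g * g') := by group
  rw [this]

/-- the conjugacy class of a subgroup -/
def ccls (D : Subgroup H) : Set (Subgroup H) := {D' | ∃ g, D' = cj g D}

theorem ccls_cj (g : H) (D : Subgroup H) : ccls (cj g D) = ccls D := by
  ext D'
  constructor
  · rintro ⟨g', rfl⟩
    exact ⟨g' * g, cj_cj g' g D⟩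
  · rintro ⟨g', rfl⟩
    refine ⟨g' * g⁻¹, ?_⟩
    rw [cj_cj, inv_mul_cancel_right]

/-- a canonical representative of a set of subgroups -/
noncomputable def repOf (C : Set (Subgroup H)) : Subgroup H :=
  if h : C.Nonempty then Classical.choose h else ⊥

theorem repOf_mem {C : Set (Subgroup H)} (h : C.Nonempty) : repOf C ∈ C := by
  unfold repOf
  rw [dif_pos h]
  exact Classical.choose_spec h

/-- the canonical representative of the conjugacy class -/
noncomputable def rH (D : Subgroup H) : Subgroup H := repOf (ccls D)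

theorem rH_mem (D : Subgroup H) : rH D ∈ ccls D :=
  repOf_mem ⟨D, 1, (cj_one D).symm⟩

theorem rH_cj (g : H) (D : Subgroup H) : rH (cj g D) = rH D := by
  unfold rH
  rw [ccls_cj]

theorem rH_rH (D : Subgroup H) : rH (rH D) = rH D := by
  obtain ⟨g, hg⟩ := rH_mem D
  conv_lhs => rw [hg, rH_cj]

/-- abstract saturation data on the subgroups of `H` -/
structure SatData (H : Type u) [Group H] where
  /-- the family of admissible subgroups -/
  Pr : Subgroup H → Prop
  /-- conjugacy in the system -/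
  rel : Subgroup H → Subgroup H → Prop
  rel_symm : ∀ D D', rel D D' → rel D' D
  rel_trans : ∀ D D' D'', rel D D' → rel D' D'' → rel D D''
  rel_cj : ∀ g D, rel D (cj g D)
  rel_card : ∀ D D', rel D D' → Nat.card D = Nat.card D'
  rel_pr : ∀ D D', rel D D' → Pr D → Pr D'
  pr_le : ∀ D D', D ≤ D' → Pr D' → Pr D
  far : ∀ D, Pr D → ∃ Ds, rel D Ds ∧ ∀ D', rel D' Ds →
    ∃ ρ : ↥(Subgroup.normalizer (D' : Set H)) →* H,
      (D'.subgroupOf (Subgroup.normalizer (D' : Set H))).map ρ = Ds ∧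
      ∀ L : Subgroup ↥(Subgroup.normalizer (D' : Set H)),
        rel (L.map (Subgroup.normalizer (D' : Set H)).subtype) (L.map ρ)

namespace SatData

variable (𝒮 : SatData H)

theorem rel_refl (D : Subgroup H) : 𝒮.rel D D := by
  have := 𝒮.rel_cj 1 D
  rwa [cj_one] at this

theorem pr_cj (g : H) (D : Subgroup H) (hD : 𝒮.Pr D) : 𝒮.Pr (cj g D) :=
  𝒮.rel_pr _ _ (𝒮.rel_cj g D) hD

/-- the class of a subgroup -/
def cls (D : Subgroup H) : Set (Subgroup H) := {D' | 𝒮.rel D D'}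

theorem cls_eq {D D' : Subgroup H} (h : 𝒮.rel D D') : 𝒮.cls D = 𝒮.cls D' := by
  ext D''
  exact ⟨fun h' => 𝒮.rel_trans _ _ _ (𝒮.rel_symm _ _ h) h', fun h' => 𝒮.rel_trans _ _ _ h h'⟩

/-- the "fully normalized" property -/
def IsFar (Ds : Subgroup H) : Prop := ∀ D', 𝒮.rel D' Ds →
    ∃ ρ : ↥(Subgroup.normalizer (D' : Set H)) →* H,
      (D'.subgroupOf (Subgroup.normalizer (D' : Set H))).map ρ = Ds ∧
      ∀ L : Subgroup ↥(Subgroup.normalizer (D' : Set H)),
        𝒮.rel (L.map (Subgroup.normalizer (D' : Set H)).subtype) (L.map ρ)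

/-- the canonical fully normalized representative of the class -/
noncomputable def far' (D : Subgroup H) : Subgroup H :=
  repOf {Ds | Ds ∈ 𝒮.cls D ∧ 𝒮.IsFar Ds}

theorem far'_spec {D : Subgroup H} (hD : 𝒮.Pr D) : 𝒮.rel D (𝒮.far' D) ∧ 𝒮.IsFar (𝒮.far' D) := by
  obtain ⟨Ds, h1, h2⟩ := 𝒮.far D hD
  exact repOf_mem (C := {Ds | Ds ∈ 𝒮.cls D ∧ 𝒮.IsFar Ds}) ⟨Ds, h1, h2⟩

theorem far'_eq {D D' : Subgroup H} (h : 𝒮.rel D D') : 𝒮.far' D = 𝒮.far' D' := by
  unfold far'
  rw [𝒮.cls_eq h]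

end SatData

theorem card_lt_of_lt' [Finite H] {L L' : Subgroup H} (h : L < L') : Nat.card L < Nat.card L' := by
  by_contra hle
  push Not at hle
  exact h.ne (Subgroup.eq_of_le_of_card_ge h.le hle)

theorem M_eq_zero [Finite H] (𝒮 : SatData H) (c : Subgroup H → ℕ) (hc : ∀ D, c D ≠ 0 → 𝒮.Pr D)
    (L : Subgroup H) (hL : ¬ 𝒮.Pr L) : M c L = 0 := by
  unfold M
  apply Finset.sum_eq_zero
  intro D _
  by_contra hne
  have h1 : c D ≠ 0 := fun h => hne (by rw [h, zero_mul])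
  have h2 : cmark L D ≠ 0 := fun h => hne (by rw [h, mul_zero])
  obtain ⟨g, hg⟩ := exists_le_cj_of_cmark_ne_zero h2
  exact hL (𝒮.pr_le _ _ hg (𝒮.pr_cj g D (hc D h1)))

theorem sat_step [Finite H] (𝒮 : SatData H) (n : ℕ) (c : Subgroup H → ℕ)
    (hc : ∀ D, c D ≠ 0 → 𝒮.Pr D)
    (hinv : ∀ D D', 𝒮.Pr D → 𝒮.rel D D' → n < Nat.card D → M c D = M c D') :
    ∃ c' : Subgroup H → ℕ, (∀ D, c' D ≠ 0 → 𝒮.Pr D) ∧ (∀ D, c D ≤ c' D) ∧
      (∀ D : Subgroup H, Nat.card D ≠ n → c' D = c D) ∧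
      ∀ D D', 𝒮.Pr D → 𝒮.rel D D' → n ≤ Nat.card D → M c' D = M c' D' := by
  have hinv' : ∀ L L', 𝒮.rel L L' → n < Nat.card L → M c L = M c L' := by
    intro L L' hrel hlt
    by_cases hL : 𝒮.Pr L
    · exact hinv L L' hL hrel hlt
    · rw [M_eq_zero 𝒮 c hc L hL, M_eq_zero 𝒮 c hc L'
        (fun h => hL (𝒮.rel_pr _ _ (𝒮.rel_symm _ _ hrel) h))]
  -- the congruence
  have hcong : ∀ D, 𝒮.Pr D → Nat.card D = n → M c D ≡ M c (𝒮.far' D) [MOD cmark D D] := by
    intro D hD hDn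
    obtain ⟨hrel, hfar⟩ := 𝒮.far'_spec hD
    obtain ⟨ρ, hρ, hρL⟩ := hfar D hrel
    apply M_modEq c D _ ρ hρ
    intro L hL
    apply hinv' _ _ (hρL L)
    have h1 := card_lt_of_lt' hL
    rw [Subgroup.card_map_of_injective (Subgroup.subtype_injective _)]
    have h2 : Nat.card (D.subgroupOf (Subgroup.normalizer (D : Set H))) = Nat.card D :=
      Nat.card_congr (Subgroup.subgroupOfEquivOfLe Subgroup.le_normalizer).toEquiv
    omega
  obtain ⟨𝒟, h𝒟⟩ : ∃ 𝒟 : Finset (Subgroup H), ∀ D, D ∈ 𝒟 ↔ (𝒮.Pr D ∧ Nat.card D = n) :=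
    ⟨(allSub H).filter (fun D => 𝒮.Pr D ∧ Nat.card D = n), fun D => by
      rw [Finset.mem_filter]; simp [mem_allSub]⟩
  obtain ⟨B, hBdef⟩ : ∃ B : ℕ, B = ∑ D ∈ 𝒟, M c D := ⟨_, rfl⟩
  have hB : ∀ D ∈ 𝒟, M c D ≤ B := by
    intro D hD
    rw [hBdef]
    exact Finset.single_le_sum (f := fun D => M c D) (fun _ _ => Nat.zero_le _) hD
  obtain ⟨t, ht⟩ : ∃ t : Subgroup H → ℕ, ∀ D, t D = M c (𝒮.far' D) + B * Nat.card H :=
    ⟨_, fun _ => rfl⟩
  have hcardH : 0 < Nat.card H := Nat.card_pos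
  have ht_le : ∀ D, 𝒮.Pr D → Nat.card D = n → M c D ≤ t D := by
    intro D hD hDn
    have h1 := hB D ((h𝒟 D).mpr ⟨hD, hDn⟩)
    rw [ht]
    have : B ≤ B * Nat.card H := Nat.le_mul_of_pos_right B hcardH
    omega
  have ht_rel : ∀ D D', 𝒮.rel D D' → t D = t D' := by
    intro D D' h
    rw [ht, ht, 𝒮.far'_eq h]
  have ht_dvd : ∀ D, 𝒮.Pr D → Nat.card D = n → cmark D D ∣ t D - M c D := by
    intro D hD hDn
    rw [← Nat.modEq_iff_dvd' (ht_le D hD hDn), ht]
    have h1 : B * Nat.card H ≡ 0 [MOD cmark D D] :=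
      Nat.modEq_zero_iff_dvd.mpr (Dvd.dvd.mul_left (cmark_self_dvd_card D) B)
    have h2 := (hcong D hD hDn).add h1.symm
    rwa [add_zero] at h2
  obtain ⟨e, he⟩ : ∃ e : Subgroup H → ℕ, ∀ D, e D =
      if (𝒮.Pr D ∧ Nat.card D = n ∧ rH D = D) then (t D - M c D) / cmark D D else 0 :=
    ⟨_, fun _ => rfl⟩
  have hM : ∀ L, M (fun D => c D + e D) L = M c L + ∑ D ∈ allSub H, e D * cmark L D := by
    intro L
    unfold M
    rw [← Finset.sum_add_distrib]
    apply Finset.sum_congr rfl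
    intro D _
    ring
  have hbig : ∀ L : Subgroup H, n < Nat.card L → M (fun D => c D + e D) L = M c L := by
    intro L hL
    rw [hM L]
    have : ∑ D ∈ allSub H, e D * cmark L D = 0 := by
      apply Finset.sum_eq_zero
      intro D _
      by_contra hne
      have h1 : e D ≠ 0 := fun h => hne (by rw [h, zero_mul])
      have h2 : cmark L D ≠ 0 := fun h => hne (by rw [h, mul_zero])
      rw [he] at h1
      have h3 : 𝒮.Pr D ∧ Nat.card D = n ∧ rH D = D := by
        by_contra h3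
        exact h1 (if_neg h3)
      obtain ⟨g, hg⟩ := exists_le_cj_of_cmark_ne_zero h2
      have h4 := Subgroup.card_le_of_le hg
      rw [card_cj, h3.2.1] at h4
      omega
    rw [this, add_zero]
  have hmid : ∀ L, 𝒮.Pr L → Nat.card L = n → M (fun D => c D + e D) L = t L := by
    intro L hPL hLn
    rw [hM L]
    obtain ⟨g, hg⟩ := rH_mem L
    have hR1 : 𝒮.Pr (rH L) := hg ▸ 𝒮.pr_cj g L hPL
    have hR2 : Nat.card (rH L) = n := by rw [hg, card_cj, hLn]
    have hLR : L = cj g⁻¹ (rH L) := by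
      rw [hg, cj_cj, inv_mul_cancel, cj_one]
    have hsum : ∑ D ∈ allSub H, e D * cmark L D = e (rH L) * cmark L (rH L) := by
      apply Finset.sum_eq_single (rH L)
      · intro D _ hDne
        by_contra hne
        have h1 : e D ≠ 0 := fun h => hne (by rw [h, zero_mul])
        have h2 : cmark L D ≠ 0 := fun h => hne (by rw [h, mul_zero])
        rw [he] at h1
        have h3 : 𝒮.Pr D ∧ Nat.card D = n ∧ rH D = D := by
          by_contra h3
          exact h1 (if_neg h3)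
        obtain ⟨g', hg'⟩ := exists_le_cj_of_cmark_ne_zero h2
        have heq : L = cj g' D := by
          apply Subgroup.eq_of_le_of_card_ge hg'
          rw [card_cj, h3.2.1, hLn]
        apply hDne
        rw [heq, rH_cj, h3.2.2]
      · intro h
        exact absurd (mem_allSub _) h
    rw [hsum, he, if_pos ⟨hR1, hR2, rH_rH L⟩]
    have h1 : cmark L (rH L) = cmark (rH L) (rH L) := by
      have := cmark_cj g⁻¹ (rH L) (rH L)
      rw [← hLR] at this
      exact this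
    rw [h1, Nat.div_mul_cancel (ht_dvd (rH L) hR1 hR2)]
    have h2 : t (rH L) = t L := by
      rw [hg]; exact (ht_rel _ _ (𝒮.rel_cj g L)).symm
    have h3 : M c (rH L) = M c L := by rw [hg, M_cj]
    rw [h2, h3]
    have := ht_le L hPL hLn
    omega
  refine ⟨fun D => c D + e D, ?_, fun D => Nat.le_add_right _ _, ?_, ?_⟩
  · intro D hD
    by_cases h1 : c D = 0
    · have h2 : e D ≠ 0 := by
        intro h2
        apply hD
        change c D + e D = 0
        rw [h1, h2]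
      rw [he] at h2
      by_contra h3
      exact h2 (if_neg (fun h => h3 h.1))
    · exact hc D h1
  · intro D hD
    change c D + e D = c D
    rw [he, if_neg (fun h => hD h.2.1), add_zero]
  · intro D D' hD hrel hn
    have hcard := 𝒮.rel_card _ _ hrel
    have hD' := 𝒮.rel_pr _ _ hrel hD
    rcases Nat.lt_or_ge n (Nat.card D) with h | h
    · rw [hbig D h, hbig D' (hcard ▸ h), hinv D D' hD hrel h]
    · have h1 : Nat.card D = n := le_antisymm h hn
      rw [hmid D hD h1, hmid D' hD' (hcard ▸ h1), ht_rel _ _ hrel]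

/-- the abstract stabilization theorem -/
theorem exists_mult_sat [Finite H] (𝒮 : SatData H) (k₀ : ℕ) (c₀ : Subgroup H → ℕ)
    (hc₀ : ∀ D, c₀ D ≠ 0 → 𝒮.Pr D)
    (hstab₀ : ∀ D D', 𝒮.Pr D → 𝒮.rel D D' → k₀ < Nat.card D → M c₀ D = M c₀ D') :
    ∃ c : Subgroup H → ℕ, (∀ D, c D ≠ 0 → 𝒮.Pr D) ∧ (∀ D, c₀ D ≤ c D) ∧
      (∀ D : Subgroup H, k₀ < Nat.card D → c D = c₀ D) ∧
      ∀ D D', 𝒮.Pr D → 𝒮.rel D D' → M c D = M c D' := by
  have aux : ∀ k : ℕ, ∃ c : Subgroup H → ℕ, (∀ D, c D ≠ 0 → 𝒮.Pr D) ∧ (∀ D, c₀ D ≤ c D) ∧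
      (∀ D : Subgroup H, k₀ < Nat.card D → c D = c₀ D) ∧
      ∀ D D', 𝒮.Pr D → 𝒮.rel D D' → k₀ - k < Nat.card D → M c D = M c D' := by
    intro k
    induction k with
    | zero => exact ⟨c₀, hc₀, fun _ => le_rfl, fun _ _ => rfl, fun D D' hD hrel hlt =>
        hstab₀ D D' hD hrel (by omega)⟩
    | succ k ih =>
      obtain ⟨c, hc1, hc2, hc3, hc4⟩ := ih
      obtain ⟨c', hc1', hc2', hc3', hc4'⟩ := sat_step 𝒮 (k₀ - k) c hc1 hc4
      refine ⟨c', hc1', fun D => (hc2 D).trans (hc2' D), ?_, ?_⟩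
      · intro D hD
        rw [hc3' D (by omega), hc3 D hD]
      · intro D D' hD hrel hlt
        exact hc4' D D' hD hrel (by omega)
  obtain ⟨c, hc1, hc2, hc3, hc4⟩ := aux k₀
  refine ⟨c, hc1, hc2, hc3, fun D D' hD hrel => hc4 D D' hD hrel ?_⟩
  rw [Nat.sub_self]
  exact Nat.card_pos

end Cfsg.Agent.Helper3.Marks
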