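import Mathlib
import Cfsg.Prelude.Def_FusionSystem
import Cfsg.Agent.Lead.Fusion
import Cfsg.Agent.Lead.FusionConj
import Cfsg.Agent.Lead.FusionSat
import Cfsg.Agent.Lead.FusionInner
import Cfsg.Agent.Lead.GroupFusion
import Cfsg.Agent.Helper3.MarksF

set_option autoImplicit false

/-!
A saturated fusion system over `T` gives saturation data on the subgroups of the group `↥T`.
-/

namespace Cfsg.Agent.Helper3.Char

open Cfsg Cfsg.FusionSystem Cfsg.Agent.Lead Cfsg.Agent.Helper3.Marks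

universe u

variable {Γ : Type u} [Group Γ] {T : Subgroup Γ}

/-- a subgroup of `↥T` as a subgroup of `Γ` -/
def up (D : Subgroup T) : Subgroup Γ := D.map T.subtype

theorem up_le (D : Subgroup T) : up D ≤ T := by
  rintro _ ⟨x, _, rfl⟩
  exact x.2

theorem mem_up (D : Subgroup T) (x : Γ) : x ∈ up D ↔ ∃ h : x ∈ T, (⟨x, h⟩ : T) ∈ D := by
  constructor
  · rintro ⟨y, hy, rfl⟩
    exact ⟨y.2, hy⟩
  · rintro ⟨h, hx⟩
    exact ⟨⟨x, h⟩, hx, rfl⟩

theorem up_injective : Function.Injective (up : Subgroup T → Subgroup Γ) :=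
  Subgroup.map_injective T.subtype_injective

theorem up_mono {D D' : Subgroup T} (h : D ≤ D') : up D ≤ up D' := Subgroup.map_mono h

theorem card_up (D : Subgroup T) : Nat.card (up D) = Nat.card D :=
  Subgroup.card_map_of_injective T.subtype_injective

theorem up_subgroupOf {Q : Subgroup Γ} (hQ : Q ≤ T) : up (Q.subgroupOf T) = Q := by
  unfold up
  rw [Subgroup.subgroupOf_map_subtype, inf_eq_left.mpr hQ]

theorem up_cj (g : T) (D : Subgroup T) :
    up (cj g D) = (up D).map (MulAut.conj (g : Γ)).toMonoidHom := by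
  ext x
  constructor
  · rintro ⟨y, hy, rfl⟩
    rw [SetLike.mem_coe, mem_cj] at hy
    refine ⟨((g⁻¹ * y * g : T) : Γ), ⟨_, hy, rfl⟩, ?_⟩
    simp [mul_assoc]
  · rintro ⟨_, ⟨y, hy, rfl⟩, rfl⟩
    refine ⟨g * y * g⁻¹, ?_, by simp⟩
    rw [SetLike.mem_coe, mem_cj]
    have : g⁻¹ * (g * y * g⁻¹) * g = y := by group
    rw [this]; exact hy

theorem isConj_cj (E : FusionSystem T) (g : T) (D : Subgroup T) :
    E.IsConj (up D) (up (cj g D)) := by
  refine ⟨conjHom (up D) g, E.conj_mem (up_le D) g.2, ?_⟩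
  rw [range_conjHom, up_cj]

theorem coe_mem_normalizerIn (D' : Subgroup T) (n : T)
    (hn : n ∈ Subgroup.normalizer (D' : Set T)) : (n : Γ) ∈ normalizerIn T (up D') := by
  refine Subgroup.mem_inf.mpr ⟨n.2, ?_⟩
  rw [Subgroup.mem_normalizer_iff]
  rw [Subgroup.mem_normalizer_iff] at hn
  intro x
  constructor
  · rintro ⟨y, hy, rfl⟩
    exact ⟨n * y * n⁻¹, (hn y).mp hy, by simp⟩
  · rintro ⟨y', hy', hxy⟩
    have hxT : x ∈ T := by
      have : x = (n : Γ)⁻¹ * (y' : Γ) * (n : Γ) := by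
        change (y' : Γ) = _ at hxy
        rw [hxy]; group
      rw [this]
      exact T.mul_mem (T.mul_mem (T.inv_mem n.2) y'.2) n.2
    refine ⟨⟨x, hxT⟩, ?_, rfl⟩
    rw [SetLike.mem_coe, hn]
    have : n * ⟨x, hxT⟩ * n⁻¹ = y' := by
      apply Subtype.ext
      change (n : Γ) * x * (n : Γ)⁻¹ = (y' : Γ)
      exact hxy.symm
    rw [this]; exact hy'

/-- the inclusion of the normalizer in `↥T` into the normalizer in `Γ` -/
def toNorm (D' : Subgroup T) :
    ↥(Subgroup.normalizer (D' : Set T)) →* ↥(normalizerIn T (up D')) :=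
  (T.subtype.comp (Subgroup.normalizer (D' : Set T)).subtype).codRestrict _
    (fun n => coe_mem_normalizerIn D' n.1 n.2)

theorem toNorm_coe (D' : Subgroup T) (n : ↥(Subgroup.normalizer (D' : Set T))) :
    ((toNorm D' n : ↥(normalizerIn T (up D'))) : Γ) = ((n : T) : Γ) := rfl

theorem exists_far [Finite T] (p : ℕ) [Fact p.Prime] (hT : IsPGroup p T) (E : FusionSystem T)
    {Q : Subgroup Γ} (h₁ : E.IsFullyAutomized p Q) (h₂ : E.IsReceptive Q) (D' : Subgroup T)
    (hD' : E.IsConj (up D') Q) :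
    ∃ ρ : ↥(Subgroup.normalizer (D' : Set T)) →* T,
      up ((D'.subgroupOf (Subgroup.normalizer (D' : Set T))).map ρ) = Q ∧
      ∀ L : Subgroup ↥(Subgroup.normalizer (D' : Set T)),
        E.IsConj (up (L.map (Subgroup.normalizer (D' : Set T)).subtype)) (up (L.map ρ)) := by
  obtain ⟨ρ₀, hρ₀, -, hρ₀Q⟩ := Fusion.exists_hom_normalizerIn p hT E h₁ h₂ hD'
  refine ⟨(ρ₀.comp (toNorm D')).codRestrict T (fun n => Fusion.map_mem E hρ₀ _), ?_, ?_⟩
  · rw [← hρ₀Q]
    ext x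
    constructor
    · rintro ⟨_, ⟨n, hn, rfl⟩, rfl⟩
      rw [SetLike.mem_coe, Subgroup.mem_subgroupOf] at hn
      refine ⟨toNorm D' n, ?_, rfl⟩
      rw [SetLike.mem_coe, Subgroup.mem_subgroupOf, toNorm_coe]
      exact ⟨n.1, hn, rfl⟩
    · rintro ⟨m, hm, rfl⟩
      rw [SetLike.mem_coe, Subgroup.mem_subgroupOf] at hm
      obtain ⟨y, hy, hym⟩ := hm
      have hyN : y ∈ Subgroup.normalizer (D' : Set T) := Subgroup.le_normalizer hy
      refine ⟨_, ⟨⟨y, hyN⟩, ?_, rfl⟩, ?_⟩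
      · rw [SetLike.mem_coe, Subgroup.mem_subgroupOf]
        exact hy
      · change ρ₀ (toNorm D' ⟨y, hyN⟩) = ρ₀ m
        congr 1
        exact Subtype.ext hym
  · intro L
    have hle : up (L.map (Subgroup.normalizer (D' : Set T)).subtype) ≤ normalizerIn T (up D') := by
      rintro _ ⟨_, ⟨n, _, rfl⟩, rfl⟩
      exact coe_mem_normalizerIn D' n.1 n.2
    refine ⟨_, Fusion.restrict_mem E hρ₀ hle, ?_⟩
    ext x
    constructor
    · rintro ⟨⟨_, _, ⟨n, hn, rfl⟩, rfl⟩, rfl⟩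
      refine ⟨_, ⟨n, hn, rfl⟩, ?_⟩
      change ρ₀ (toNorm D' n) = ρ₀ _
      congr 1
    · rintro ⟨_, ⟨n, hn, rfl⟩, rfl⟩
      refine ⟨⟨((n : T) : Γ), ⟨_, ⟨n, hn, rfl⟩, rfl⟩⟩, ?_⟩
      change ρ₀ _ = ρ₀ (toNorm D' n)
      congr 1

/-- the saturation data of a saturated fusion system, for a family of subgroups closed under
conjugacy in the system and under taking subgroups -/
noncomputable def satData [Finite T] (p : ℕ) [Fact p.Prime] (hT : IsPGroup p T)
    (E : FusionSystem T) (hE : E.IsSaturated p) (PrΓ : Subgroup Γ → Prop)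
    (hPr_conj : ∀ P Q, E.IsConj P Q → PrΓ P → PrΓ Q)
    (hPr_le : ∀ P Q, P ≤ Q → PrΓ Q → PrΓ P) : SatData T where
  Pr D := PrΓ (up D)
  rel D D' := E.IsConj (up D) (up D')
  rel_symm _ _ h := Fusion.isConj_symm E h
  rel_trans _ _ _ h h' := Fusion.isConj_trans E h h'
  rel_cj g D := isConj_cj E g D
  rel_card D D' h := by
    rw [← card_up D, ← card_up D']
    exact Fusion.card_eq_of_isConj E h
  rel_pr _ _ h hD := hPr_conj _ _ h hD
  pr_le _ _ h hD := hPr_le _ _ (up_mono h) hD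
  far D _ := by
    obtain ⟨Q, hQ, hQ₁, hQ₂⟩ := hE (up D) (up_le D)
    have hQT : Q ≤ T := Fusion.isConj_tgt_le E hQ
    refine ⟨Q.subgroupOf T, ?_, ?_⟩
    · rw [up_subgroupOf hQT]; exact hQ
    · intro D' hD'
      rw [up_subgroupOf hQT] at hD'
      obtain ⟨ρ, hρ₁, hρ₂⟩ := exists_far p hT E hQ₁ hQ₂ D' hD'
      refine ⟨ρ, ?_, hρ₂⟩
      apply up_injective
      rw [hρ₁, up_subgroupOf hQT]

end Cfsg.Agent.Helper3.Char
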