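import Mathlib
import Cfsg.Prelude.Def_FusionSystem
import Cfsg.Agent.Lead.Fusion
import Cfsg.Agent.Lead.FusionConj

set_option autoImplicit false

/-!
Sets of pairs contained in the graph of a map of a fusion system, and their closure properties.
-/

namespace Cfsg.Agent.Helper3.Park

open Cfsg Cfsg.FusionSystem Cfsg.Agent.Lead

variable {Ω : Type*} [Group Ω] {S : Subgroup Ω}

/-- a set of pairs contained in the graph of a map of the system -/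
def IsFSet (F : FusionSystem S) (T : Set (Ω × Ω)) : Prop :=
  ∃ (Q : Subgroup Ω) (ψ : Q →* Ω), ψ ∈ F.Hom Q ∧ ∀ p ∈ T, ∃ h : p.1 ∈ Q, ψ ⟨p.1, h⟩ = p.2

theorem IsFSet.mono (F : FusionSystem S) {T T' : Set (Ω × Ω)} (h : T ⊆ T') (hT : IsFSet F T') :
    IsFSet F T := by
  obtain ⟨Q, ψ, hψ, hT⟩ := hT
  exact ⟨Q, ψ, hψ, fun p hp => hT p (h hp)⟩

/-- the diagonal -/
theorem isFSet_diag (F : FusionSystem S) : IsFSet F {p | p.1 ∈ S ∧ p.1 = p.2} := by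
  refine ⟨S, S.subtype, Fusion.subtype_mem F le_rfl, ?_⟩
  rintro ⟨a, b⟩ ⟨ha, hab⟩
  exact ⟨ha, hab⟩

/-- conjugation of both coordinates by elements of `S` -/
theorem IsFSet.conj (F : FusionSystem S) {T : Set (Ω × Ω)} (hT : IsFSet F T) {a₀ b₀ : Ω}
    (ha₀ : a₀ ∈ S) (hb₀ : b₀ ∈ S) :
    IsFSet F {q | ∃ p ∈ T, q = (a₀ * p.1 * a₀⁻¹, b₀ * p.2 * b₀⁻¹)} := by
  obtain ⟨Q, ψ, hψ, hT⟩ := hT
  have hQS : Q ≤ S := Fusion.src_le F hψ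
  -- the conjugate subgroup
  obtain ⟨Q', hQ'⟩ : ∃ Q' : Subgroup Ω, ∀ y, y ∈ Q' ↔ a₀⁻¹ * y * a₀ ∈ Q :=
    ⟨Q.map (MulAut.conj a₀).toMonoidHom, fun y => by
      rw [Subgroup.mem_map_equiv, MulAut.conj_symm_apply]⟩
  have hQ'S : Q' ≤ S := by
    intro y hy
    have h1 := hQS ((hQ' y).mp hy)
    have : y = a₀ * (a₀⁻¹ * y * a₀) * a₀⁻¹ := by group
    rw [this]
    exact S.mul_mem (S.mul_mem ha₀ h1) (S.inv_mem ha₀)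
  have h1 : conjHom Q' a₀⁻¹ ∈ F.Hom Q' := F.conj_mem hQ'S (S.inv_mem ha₀)
  have h1v : ∀ y : Q', conjHom Q' a₀⁻¹ y ∈ Q := by
    intro y
    have := (hQ' y).mp y.2
    change a₀⁻¹ * (y : Ω) * a₀⁻¹⁻¹ ∈ Q
    rwa [inv_inv]
  obtain ⟨χ₂, hχ₂, hχ₂v⟩ := Fusion.comp_mem' F h1 hψ h1v
  have h3 : conjHom S b₀ ∈ F.Hom S := F.conj_mem le_rfl hb₀
  obtain ⟨χ₃, hχ₃, hχ₃v⟩ := Fusion.comp_mem' F hχ₂ h3 (fun y => Fusion.map_mem F hχ₂ y)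
  refine ⟨Q', χ₃, hχ₃, ?_⟩
  rintro _ ⟨⟨a, b⟩, hp, rfl⟩
  obtain ⟨ha, hab⟩ := hT _ hp
  change ψ ⟨a, ha⟩ = b at hab
  have hmem : a₀ * a * a₀⁻¹ ∈ Q' := by
    rw [hQ']
    have : a₀⁻¹ * (a₀ * a * a₀⁻¹) * a₀ = a := by group
    rw [this]; exact ha
  refine ⟨hmem, ?_⟩
  change χ₃ ⟨a₀ * a * a₀⁻¹, hmem⟩ = b₀ * b * b₀⁻¹
  rw [hχ₃v]
  change b₀ * χ₂ ⟨a₀ * a * a₀⁻¹, hmem⟩ * b₀⁻¹ = b₀ * b * b₀⁻¹
  rw [hχ₂v]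
  have : (⟨conjHom Q' a₀⁻¹ ⟨a₀ * a * a₀⁻¹, hmem⟩, h1v _⟩ : Q) = ⟨a, ha⟩ := by
    apply Subtype.ext
    change a₀⁻¹ * (a₀ * a * a₀⁻¹) * a₀⁻¹⁻¹ = a
    group
  rw [this, hab]

/-- twisting the first coordinate by a map of the system -/
theorem IsFSet.twist (F : FusionSystem S) {P : Subgroup Ω} {φ : P →* Ω} (hφ : φ ∈ F.Hom P)
    {T : Set (Ω × Ω)} (hT : IsFSet F T) :
    IsFSet F {q | ∃ p ∈ T, ∃ h : p.1 ∈ P, q = (φ ⟨p.1, h⟩, p.2)} := by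
  obtain ⟨Q, ψ, hψ, hT⟩ := hT
  have hφ₁ : φ.comp (Subgroup.inclusion (inf_le_left : P ⊓ Q ≤ P)) ∈ F.Hom (P ⊓ Q) :=
    Fusion.restrict_mem F hφ inf_le_left
  have hψ₁ : ψ.comp (Subgroup.inclusion (inf_le_right : P ⊓ Q ≤ Q)) ∈ F.Hom (P ⊓ Q) :=
    Fusion.restrict_mem F hψ inf_le_right
  obtain ⟨χ, hχ, hχinv, hχr⟩ := Fusion.exists_inv F hφ₁ rfl
  have hχv : ∀ z, χ z ∈ P ⊓ Q := by
    intro z
    have : χ z ∈ χ.range := ⟨z, rfl⟩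
    rw [hχr] at this
    exact this
  obtain ⟨ψ', hψ', hψ'v⟩ := Fusion.comp_mem' F hχ hψ₁ hχv
  refine ⟨_, ψ', hψ', ?_⟩
  rintro _ ⟨⟨a, b⟩, hp, haP, rfl⟩
  obtain ⟨haQ, hab⟩ := hT _ hp
  change ψ ⟨a, haQ⟩ = b at hab
  have hmem : φ ⟨a, haP⟩ ∈
      (φ.comp (Subgroup.inclusion (inf_le_left : P ⊓ Q ≤ P))).range :=
    ⟨⟨a, ⟨haP, haQ⟩⟩, rfl⟩
  refine ⟨hmem, ?_⟩
  change ψ' ⟨φ ⟨a, haP⟩, hmem⟩ = b
  rw [hψ'v]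
  have h1 := hχinv ⟨a, ⟨haP, haQ⟩⟩ hmem
  have h2 : (⟨χ ⟨φ ⟨a, haP⟩, hmem⟩, hχv _⟩ : ↥(P ⊓ Q)) = ⟨a, ⟨haP, haQ⟩⟩ :=
    Subtype.ext h1
  rw [h2]
  exact hab

/-- untwisting the first coordinate -/
theorem IsFSet.untwist (F : FusionSystem S) {P : Subgroup Ω} {φ : P →* Ω} (hφ : φ ∈ F.Hom P)
    {T : Set (Ω × Ω)} (hTP : ∀ p ∈ T, p.1 ∈ P)
    (hT : IsFSet F {q | ∃ p ∈ T, ∃ h : p.1 ∈ P, q = (φ ⟨p.1, h⟩, p.2)}) :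
    IsFSet F T := by
  obtain ⟨Q', ψ', hψ', hT⟩ := hT
  -- `Q = {x ∈ P | φ x ∈ Q'}`
  have hle : (Q'.comap φ).map P.subtype ≤ P := by
    rintro _ ⟨x, _, rfl⟩
    exact x.2
  have hφ₂ := Fusion.restrict_mem F hφ hle
  have hv : ∀ y : ↥((Q'.comap φ).map P.subtype),
      (φ.comp (Subgroup.inclusion hle)) y ∈ Q' := by
    rintro ⟨_, x, hx, rfl⟩
    change φ (Subgroup.inclusion hle ⟨P.subtype x, _⟩) ∈ Q'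
    have : Subgroup.inclusion hle ⟨P.subtype x, ⟨x, hx, rfl⟩⟩ = x := Subtype.ext rfl
    rw [this]
    exact hx
  obtain ⟨ψ, hψ, hψv⟩ := Fusion.comp_mem' F hφ₂ hψ' hv
  refine ⟨_, ψ, hψ, ?_⟩
  rintro ⟨a, b⟩ hp
  have haP : a ∈ P := hTP _ hp
  obtain ⟨haQ', hab⟩ := hT (φ ⟨a, haP⟩, b) ⟨(a, b), hp, haP, rfl⟩
  change ψ' ⟨φ ⟨a, haP⟩, haQ'⟩ = b at hab
  have hmem : a ∈ (Q'.comap φ).map P.subtype := ⟨⟨a, haP⟩, haQ', rfl⟩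
  refine ⟨hmem, ?_⟩
  change ψ ⟨a, hmem⟩ = b
  rw [hψv]
  have : (⟨(φ.comp (Subgroup.inclusion hle)) ⟨a, hmem⟩, hv _⟩ : Q') = ⟨φ ⟨a, haP⟩, haQ'⟩ :=
    Subtype.ext rfl
  rw [this]
  exact hab

/-- a homomorphism whose inverse graph lies in the system belongs to the system -/
theorem mem_of_isFSet_inv (F : FusionSystem S) {P : Subgroup Ω} (φ : P →* Ω)
    (hT : IsFSet F {q | ∃ x : P, q = (φ x, (x : Ω))}) : φ ∈ F.Hom P := by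
  obtain ⟨Q, ρ, hρ, hT⟩ := hT
  have hx : ∀ x : P, ∃ h : φ x ∈ Q, ρ ⟨φ x, h⟩ = (x : Ω) := fun x => hT (φ x, x) ⟨x, rfl⟩
  have hRQ : φ.range ≤ Q := by
    rintro _ ⟨x, rfl⟩
    exact (hx x).1
  have hρ₁ := Fusion.restrict_mem F hρ hRQ
  have hr : (ρ.comp (Subgroup.inclusion hRQ)).range = P := by
    ext y
    constructor
    · rintro ⟨⟨_, x, rfl⟩, rfl⟩
      obtain ⟨h1, h2⟩ := hx x
      change ρ ⟨φ x, _⟩ ∈ P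
      rw [h2]; exact x.2
    · intro hy
      obtain ⟨h1, h2⟩ := hx ⟨y, hy⟩
      exact ⟨⟨φ ⟨y, hy⟩, ⟨_, rfl⟩⟩, h2⟩
  obtain ⟨χ, hχ, hχinv, -⟩ := Fusion.exists_inv F hρ₁ hr
  have : χ = φ := by
    ext x
    obtain ⟨h1, h2⟩ := hx x
    have h3 : (ρ.comp (Subgroup.inclusion hRQ)) ⟨φ x, ⟨x, rfl⟩⟩ = (x : Ω) := h2
    have h4 := hχinv ⟨φ x, ⟨x, rfl⟩⟩ (by rw [h3]; exact x.2)
    have h5 : (⟨(ρ.comp (Subgroup.inclusion hRQ)) ⟨φ x, ⟨x, rfl⟩⟩, by rw [h3]; exact x.2⟩ : P)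
        = x := Subtype.ext h3
    rw [h5] at h4
    exact h4
  rw [← this]; exact hχ

end Cfsg.Agent.Helper3.Park
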