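import Mathlib
import Cfsg.Prelude.Def_FusionSystem
import Cfsg.Agent.Lead.FusionProduct
import Cfsg.Agent.Lead.FusionProdSat
import Cfsg.Agent.Lead.FusionAut
import Cfsg.Agent.Helper3.ParkA
import Cfsg.Agent.Helper3.CharA

set_option autoImplicit false

/-!
The product system `F × F` over `S × S` and the family of subgroups contained in the graph of a map
of `F`.
-/

namespace Cfsg.Agent.Helper3.Char

open Cfsg Cfsg.FusionSystem Cfsg.Agent.Lead Cfsg.Agent.Helper3.Marks Cfsg.Agent.Helper3.Park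

universe u

variable {Ω : Type u} [Group Ω] {S : Subgroup Ω}

/-- composing the second coordinate with a map of the system -/
theorem IsFSet.post (F : FusionSystem S) {P₂ : Subgroup Ω} {φ₂ : P₂ →* Ω} (hφ₂ : φ₂ ∈ F.Hom P₂)
    {T : Set (Ω × Ω)} (hT : IsFSet F T) :
    IsFSet F {q | ∃ p ∈ T, ∃ h : p.2 ∈ P₂, q = (p.1, φ₂ ⟨p.2, h⟩)} := by
  obtain ⟨R, ψ, hψ, hT⟩ := hT
  have hle : (P₂.comap ψ).map R.subtype ≤ R := by
    rintro _ ⟨x, _, rfl⟩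
    exact x.2
  have hψ₂ := Fusion.restrict_mem F hψ hle
  have hv : ∀ y : ↥((P₂.comap ψ).map R.subtype),
      (ψ.comp (Subgroup.inclusion hle)) y ∈ P₂ := by
    rintro ⟨_, x, hx, rfl⟩
    change ψ (Subgroup.inclusion hle ⟨R.subtype x, _⟩) ∈ P₂
    have : Subgroup.inclusion hle ⟨R.subtype x, ⟨x, hx, rfl⟩⟩ = x := Subtype.ext rfl
    rw [this]
    exact hx
  obtain ⟨ψ', hψ', hψ'v⟩ := Fusion.comp_mem' F hψ₂ hφ₂ hv
  refine ⟨_, ψ', hψ', ?_⟩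
  rintro _ ⟨⟨a, b⟩, hp, hb, rfl⟩
  obtain ⟨haR, hab⟩ := hT _ hp
  change ψ ⟨a, haR⟩ = b at hab
  have hmem : a ∈ (P₂.comap ψ).map R.subtype := by
    refine ⟨⟨a, haR⟩, ?_, rfl⟩
    rw [SetLike.mem_coe, Subgroup.mem_comap, hab]
    exact hb
  refine ⟨hmem, ?_⟩
  change ψ' ⟨a, hmem⟩ = φ₂ ⟨b, hb⟩
  rw [hψ'v]
  congr 1
  exact Subtype.ext hab

/-- the family of subgroups of `Ω × Ω` contained in the graph of a map of the system -/
def PrΓ (F : FusionSystem S) (P : Subgroup (Ω × Ω)) : Prop := IsFSet F (P : Set (Ω × Ω))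

theorem PrΓ_le (F : FusionSystem S) (P Q : Subgroup (Ω × Ω)) (h : P ≤ Q) (hQ : PrΓ F Q) :
    PrΓ F P := IsFSet.mono F h hQ

theorem PrΓ_conj (F : FusionSystem S) (P Q : Subgroup (Ω × Ω))
    (h : (Fusion.productSystem F F).IsConj P Q) (hP : PrΓ F P) : PrΓ F Q := by
  obtain ⟨φ, ⟨-, φ₁, hφ₁, φ₂, hφ₂, hprod⟩, rfl⟩ := h
  have h1 := IsFSet.twist F hφ₁ hP
  have h2 := IsFSet.post F hφ₂ h1
  apply IsFSet.mono F _ h2
  rintro _ ⟨x, rfl⟩
  rw [hprod x (Fusion.fst_mem_map P x) (Fusion.snd_mem_map P x)]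
  exact ⟨_, ⟨x.1, x.2, Fusion.fst_mem_map P x, rfl⟩, Fusion.snd_mem_map P x, rfl⟩

instance finiteProd [Finite S] : Finite ↥(S.prod S) :=
  Finite.of_equiv _ (Subgroup.prodEquiv S S).symm.toEquiv

/-- elements of `↥(S.prod S)` -/
def mkT (a b : S) : ↥(S.prod S) := ⟨((a : Ω), (b : Ω)), ⟨a.2, b.2⟩⟩

theorem mkT_mul (a b a' b' : S) : mkT a b * mkT a' b' = mkT (a * a') (b * b') := rfl

theorem mkT_inv (a b : S) : (mkT a b)⁻¹ = mkT a⁻¹ b⁻¹ := rfl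

theorem mkT_eta (t : ↥(S.prod S)) : mkT ⟨t.1.1, t.2.1⟩ ⟨t.1.2, t.2.2⟩ = t := rfl

theorem mkT_inj {a b a' b' : S} (h : mkT a b = mkT a' b') : a = a' ∧ b = b' := by
  have h1 := congrArg (fun t : ↥(S.prod S) => (t : Ω × Ω)) h
  change (((a : Ω), (b : Ω)) : Ω × Ω) = ((a' : Ω), (b' : Ω)) at h1
  exact ⟨Subtype.ext (congrArg Prod.fst h1), Subtype.ext (congrArg Prod.snd h1)⟩

/-- the twisted diagonal of an automorphism of `S` -/
def dg (β : MulAut S) : Subgroup ↥(S.prod S) where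
  carrier := {t | β ⟨t.1.1, t.2.1⟩ = ⟨t.1.2, t.2.2⟩}
  mul_mem' := by
    intro t t' ht ht'
    change β ⟨t.1.1, t.2.1⟩ = ⟨t.1.2, t.2.2⟩ at ht
    change β ⟨t'.1.1, t'.2.1⟩ = ⟨t'.1.2, t'.2.2⟩ at ht'
    change β (⟨t.1.1, t.2.1⟩ * ⟨t'.1.1, t'.2.1⟩) = ⟨t.1.2, t.2.2⟩ * ⟨t'.1.2, t'.2.2⟩
    rw [map_mul, ht, ht']
  one_mem' := by
    change β 1 = 1
    exact map_one β
  inv_mem' := by
    intro t ht
    change β ⟨t.1.1, t.2.1⟩ = ⟨t.1.2, t.2.2⟩ at ht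
    change β (⟨t.1.1, t.2.1⟩)⁻¹ = (⟨t.1.2, t.2.2⟩)⁻¹
    rw [map_inv, ht]

theorem mkT_mem_dg (β : MulAut S) (a b : S) : mkT a b ∈ dg β ↔ β a = b := Iff.rfl

theorem card_dg [Finite S] (β : MulAut S) : Nat.card (dg β) = Nat.card S := by
  symm
  apply Nat.card_congr
  refine Equiv.ofBijective (fun a => ⟨mkT a (β a), (mkT_mem_dg β a (β a)).mpr rfl⟩) ⟨?_, ?_⟩
  · intro a a' h
    exact (mkT_inj (congrArg Subtype.val h)).1
  · rintro ⟨t, ht⟩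
    refine ⟨⟨t.1.1, t.2.1⟩, ?_⟩
    apply Subtype.ext
    change mkT ⟨t.1.1, t.2.1⟩ (β ⟨t.1.1, t.2.1⟩) = t
    have : β ⟨t.1.1, t.2.1⟩ = ⟨t.1.2, t.2.2⟩ := ht
    rw [this]
    rfl

theorem pr_dg (F : FusionSystem S) (β : MulAut S) (hβ : β ∈ F.autGroup S) :
    PrΓ F (up (dg β)) := by
  rw [Fusion.mem_autGroup_iff F le_rfl] at hβ
  refine ⟨S, _, hβ, ?_⟩
  rintro _ ⟨t, ht, rfl⟩
  refine ⟨t.2.1, ?_⟩
  have : β ⟨t.1.1, t.2.1⟩ = ⟨t.1.2, t.2.2⟩ := ht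
  change ((β ⟨t.1.1, t.2.1⟩ : S) : Ω) = t.1.2
  rw [this]

theorem exists_dg_of_pr [Finite S] (F : FusionSystem S) (D : Subgroup ↥(S.prod S))
    (hD : PrΓ F (up D)) (hcard : Nat.card S ≤ Nat.card D) :
    ∃ β ∈ F.autGroup S, D = dg β := by
  obtain ⟨Q, ψ, hψ, hT⟩ := hD
  have hQS : Q ≤ S := Fusion.src_le F hψ
  have hD' : ∀ t ∈ D, ∃ h : (t : Ω × Ω).1 ∈ Q, ψ ⟨(t : Ω × Ω).1, h⟩ = (t : Ω × Ω).2 :=
    fun t ht => hT _ ⟨t, ht, rfl⟩
  -- the first projection is injective on `D`, hence bijective onto `S`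
  have hinj : Function.Injective (fun t : D => (⟨(t : ↥(S.prod S)).1.1, (t : ↥(S.prod S)).2.1⟩ : S)) := by
    intro t t' h
    have h1 : (t : ↥(S.prod S)).1.1 = (t' : ↥(S.prod S)).1.1 := congrArg Subtype.val h
    obtain ⟨h2, h3⟩ := hD' t.1 t.2
    obtain ⟨h2', h3'⟩ := hD' t'.1 t'.2
    have h4 : (t : ↥(S.prod S)).1.2 = (t' : ↥(S.prod S)).1.2 := by
      rw [← h3, ← h3']
      congr 1
      exact Subtype.ext h1
    apply Subtype.ext
    apply Subtype.ext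
    exact Prod.ext h1 h4
  have hbij : Function.Bijective
      (fun t : D => (⟨(t : ↥(S.prod S)).1.1, (t : ↥(S.prod S)).2.1⟩ : S)) := by
    have : Finite D := inferInstance
    rw [Nat.bijective_iff_injective_and_card]
    refine ⟨hinj, le_antisymm ?_ hcard⟩
    exact Nat.card_le_card_of_injective _ hinj
  have hSQ : S ≤ Q := by
    intro a ha
    obtain ⟨t, ht⟩ := hbij.2 ⟨a, ha⟩
    obtain ⟨h2, -⟩ := hD' t.1 t.2
    have : (t : ↥(S.prod S)).1.1 = a := congrArg Subtype.val ht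
    rwa [this] at h2
  have hQeq : Q = S := le_antisymm hQS hSQ
  subst hQeq
  -- `ψ` is an automorphism of `S`
  have hψinj := F.injective_of_mem hψ
  have hψS : ∀ x : Q, ψ x ∈ Q := fun x => Fusion.map_mem F hψ x
  have hψ'bij : Function.Bijective (ψ.codRestrict Q hψS) := by
    rw [← Finite.injective_iff_bijective]
    intro x y hxy
    exact hψinj (congrArg Subtype.val hxy)
  refine ⟨MulEquiv.ofBijective (ψ.codRestrict Q hψS) hψ'bij, ?_, ?_⟩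
  · rw [Fusion.mem_autGroup_iff F le_rfl]
    convert hψ using 1
    ext x
    rfl
  · apply Subgroup.eq_of_le_of_card_ge
    · intro t ht
      obtain ⟨h2, h3⟩ := hD' t ht
      change (MulEquiv.ofBijective (ψ.codRestrict Q hψS) hψ'bij) ⟨t.1.1, t.2.1⟩ = ⟨t.1.2, t.2.2⟩
      apply Subtype.ext
      exact h3
    · rw [card_dg]; exact hcard

end Cfsg.Agent.Helper3.Char
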