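import Mathlib
import Cfsg.Agent.Helper3.CharB

set_option autoImplicit false

/-!
The top level: twisted diagonals of automorphisms of `S`, their conjugacy and their marks.
-/

namespace Cfsg.Agent.Helper3.Char

open Cfsg Cfsg.FusionSystem Cfsg.Agent.Lead Cfsg.Agent.Helper3.Marks Cfsg.Agent.Helper3.Park

open scoped Classical

universe u

variable {Ω : Type u} [Group Ω] {S : Subgroup Ω}

theorem dg_injective {α β : MulAut S} (h : dg α = dg β) : α = β := by
  ext a
  have h1 : mkT a (α a) ∈ dg α := (mkT_mem_dg α a (α a)).mpr rfl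
  rw [h] at h1
  exact congrArg Subtype.val ((mkT_mem_dg β a (α a)).mp h1).symm

theorem mem_cj_dg (a₀ b₀ : S) (α : MulAut S) (a b : S) :
    mkT a b ∈ cj (mkT a₀ b₀) (dg α) ↔ α (a₀⁻¹ * a * a₀) = b₀⁻¹ * b * b₀ := by
  rw [mem_cj, mkT_inv, mkT_mul, mkT_mul, mkT_mem_dg]

theorem cj_dg (a₀ b₀ : S) (α : MulAut S) :
    cj (mkT a₀ b₀) (dg α) = dg (MulAut.conj (b₀ * (α a₀)⁻¹) * α) := by
  ext t
  rw [← mkT_eta t, mem_cj_dg, mkT_mem_dg]
  rw [MulAut.mul_apply, MulAut.conj_apply, map_mul, map_mul, map_inv]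
  constructor
  · intro h
    have : α ⟨t.1.1, t.2.1⟩ = α a₀ * (b₀⁻¹ * ⟨t.1.2, t.2.2⟩ * b₀) * (α a₀)⁻¹ := by
      rw [← h]; group
    rw [this]; group
  · intro h
    rw [← h]; group

theorem cj_dg_conj (s : S) (α : MulAut S) :
    cj (mkT 1 s) (dg α) = dg (MulAut.conj s * α) := by
  rw [cj_dg, map_one, inv_one, mul_one]

/-- the automorphism `id × α` of `↥(S.prod S)` -/
def twistEquiv (α : MulAut S) : ↥(S.prod S) ≃* ↥(S.prod S) :=
  ((Subgroup.prodEquiv S S).trans ((MulEquiv.refl S).prodCongr α)).trans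
    (Subgroup.prodEquiv S S).symm

theorem twistEquiv_symm_mkT (α : MulAut S) (a b : S) :
    (twistEquiv α).symm (mkT a b) = mkT a (α.symm b) := rfl

theorem map_twistEquiv_dg_one (α : MulAut S) :
    (dg (1 : MulAut S)).map (twistEquiv α).toMonoidHom = dg α := by
  ext t
  rw [Subgroup.mem_map_equiv, ← mkT_eta t, twistEquiv_symm_mkT, mkT_mem_dg, mkT_mem_dg]
  rw [MulAut.one_apply]
  constructor
  · intro h
    rw [h, MulEquiv.apply_symm_apply]
  · intro h
    rw [← h, MulEquiv.symm_apply_apply]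

theorem cmark_self_mul_card {H : Type*} [Group H] [Finite H] (D : Subgroup H) :
    cmark D D * Nat.card D = Nat.card (Subgroup.normalizer (D : Set H)) := by
  rw [cmark_self_eq, ← Subgroup.index_mul_card (D.subgroupOf (Subgroup.normalizer (D : Set H)))]
  congr 1
  exact (Nat.card_congr (Subgroup.subgroupOfEquivOfLe Subgroup.le_normalizer).toEquiv).symm

theorem cmark_self_map_equiv {H : Type*} [Group H] [Finite H] (θ : H ≃* H) (D : Subgroup H) :
    cmark (D.map θ.toMonoidHom) (D.map θ.toMonoidHom) = cmark D D := by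
  have h1 := cmark_self_mul_card (D.map θ.toMonoidHom)
  have h2 := cmark_self_mul_card D
  have h3 : Nat.card (D.map θ.toMonoidHom) = Nat.card D :=
    Subgroup.card_map_of_injective θ.injective
  have h4 : Nat.card (Subgroup.normalizer ((D.map θ.toMonoidHom : Subgroup H) : Set H))
      = Nat.card (Subgroup.normalizer (D : Set H)) := by
    rw [← Subgroup.map_equiv_normalizer_eq]
    exact Subgroup.card_map_of_injective θ.injective
  rw [h3, h4, ← h2] at h1
  exact Nat.eq_of_mul_eq_mul_right Nat.card_pos h1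

theorem cmark_dg [Finite S] (α : MulAut S) :
    cmark (dg α) (dg α) = cmark (dg (1 : MulAut S)) (dg (1 : MulAut S)) := by
  rw [← map_twistEquiv_dg_one α, cmark_self_map_equiv]

end Cfsg.Agent.Helper3.Char
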