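import Mathlib
import Cfsg.Agent.Lead.FusionSat
import Cfsg.Agent.Lead.FusionInner
import Cfsg.Agent.Helper3.CharC

set_option autoImplicit false

/-!
A transversal of `Inn(S)` in `Aut_F(S)` and the top-level multiplicity function.
-/

namespace Cfsg.Agent.Helper3.Char

open Cfsg Cfsg.FusionSystem Cfsg.Agent.Lead Cfsg.Agent.Helper3.Marks Cfsg.Agent.Helper3.Park

open scoped Classical

universe u

variable {Ω : Type u} [Group Ω] {S : Subgroup Ω}

/-- a transversal of `Inn(S)` in `Aut_F(S)`, of order prime to `p` -/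
theorem exists_transversal [Finite S] (p : ℕ) [Fact p.Prime] (F : FusionSystem S)
    (hF : F.IsSaturated p) :
    ∃ A : Finset (MulAut S), (1 : MulAut S) ∈ A ∧ (∀ α ∈ A, α ∈ F.autGroup S) ∧
      (∀ β ∈ F.autGroup S, ∃ α ∈ A, (∃ s : S, β = MulAut.conj s * α) ∧
        ∀ α' ∈ A, (∃ s : S, β = MulAut.conj s * α') → α' = α) ∧
      ¬ p ∣ A.card := by
  obtain ⟨-, R, hR⟩ := Fusion.top_fullyAutomized p F hF
  obtain ⟨Tset, hT, h1T⟩ := Subgroup.exists_isComplement_right (R : Subgroup (F.autGroup S)) 1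
  have hfin : Tset.Finite := Set.toFinite Tset
  have hkey : ∀ (β : MulAut S) (hβ : β ∈ F.autGroup S) (t : F.autGroup S),
      (⟨β, hβ⟩ : F.autGroup S) * t⁻¹ ∈ (R : Subgroup (F.autGroup S)) ↔
        ∃ s : S, β = MulAut.conj s * (t : MulAut S) := by
    intro β hβ t
    rw [hR, Subgroup.mem_subgroupOf, mem_autInducedBy_iff]
    constructor
    · rintro ⟨g, hg, h⟩
      refine ⟨⟨g, hg⟩, ?_⟩
      have h1 : β * (t : MulAut S)⁻¹ = MulAut.conj (⟨g, hg⟩ : S) := by
        ext x
        exact h x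
      rw [← h1, inv_mul_cancel_right]
    · rintro ⟨s, hs⟩
      refine ⟨s, s.2, fun x => ?_⟩
      have h1 : β * (t : MulAut S)⁻¹ = MulAut.conj s := by
        rw [hs, mul_inv_cancel_right]
      change (((β * (t : MulAut S)⁻¹) x : S) : Ω) = _
      rw [h1]
      rfl
  refine ⟨hfin.toFinset.image Subtype.val, ?_, ?_, ?_, ?_⟩
  · exact Finset.mem_image.mpr ⟨1, hfin.mem_toFinset.mpr h1T, rfl⟩
  · intro α hα
    obtain ⟨t, -, rfl⟩ := Finset.mem_image.mp hα
    exact t.2
  · intro β hβ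
    obtain ⟨⟨t, htT⟩, ht1, ht2⟩ :=
      (Subgroup.isComplement_iff_existsUnique_mul_inv_mem.mp hT) ⟨β, hβ⟩
    refine ⟨t, Finset.mem_image.mpr ⟨t, hfin.mem_toFinset.mpr htT, rfl⟩,
      (hkey β hβ t).mp ht1, ?_⟩
    intro α' hα' hs
    obtain ⟨t', ht'T, rfl⟩ := Finset.mem_image.mp hα'
    have ht'T' : t' ∈ Tset := hfin.mem_toFinset.mp ht'T
    have := ht2 ⟨t', ht'T'⟩ ((hkey β hβ t').mpr hs)
    exact congrArg (fun x : Tset => ((x : F.autGroup S) : MulAut S)) this
  · rw [Finset.card_image_of_injective _ Subtype.val_injective, ← Set.ncard_eq_toFinset_card Tset hfin,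
      hT.ncard_right]
    have : (R : Subgroup (F.autGroup S)).FiniteIndex := inferInstance
    exact R.not_dvd_index

/-- the top-level multiplicity function of a finite set of automorphisms -/
noncomputable def c0 (A : Finset (MulAut S)) (D : Subgroup ↥(S.prod S)) : ℕ :=
  (A.filter (fun α => dg α = D)).card

theorem M_c0 [Finite S] (A : Finset (MulAut S)) (L : Subgroup ↥(S.prod S)) :
    M (c0 A) L = ∑ α ∈ A, cmark L (dg α) := by
  unfold M c0
  have h1 : ∀ D ∈ allSub ↥(S.prod S), (A.filter (fun α => dg α = D)).card * cmark L D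
      = ∑ α ∈ A, if dg α = D then cmark L (dg α) else 0 := by
    intro D _
    rw [Finset.card_filter, Finset.sum_mul]
    apply Finset.sum_congr rfl
    intro α _
    split_ifs with h
    · rw [one_mul, h]
    · rw [zero_mul]
  rw [Finset.sum_congr rfl h1, Finset.sum_comm]
  apply Finset.sum_congr rfl
  intro α _
  rw [Finset.sum_ite_eq]
  simp [mem_allSub]

theorem sum_c0 [Finite S] (A : Finset (MulAut S)) :
    ∑ D ∈ allSub ↥(S.prod S), c0 A D = A.card := by
  unfold c0
  have h1 : ∀ D ∈ allSub ↥(S.prod S), (A.filter (fun α => dg α = D)).card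
      = ∑ α ∈ A, if dg α = D then 1 else 0 := by
    intro D _
    rw [Finset.card_filter]
  rw [Finset.sum_congr rfl h1, Finset.sum_comm]
  have h2 : ∀ α ∈ A, (∑ D ∈ allSub ↥(S.prod S), if dg α = D then 1 else 0) = 1 := by
    intro α _
    rw [Finset.sum_ite_eq]
    simp [mem_allSub]
  rw [Finset.sum_congr rfl h2]
  simp

theorem c0_ne_zero {A : Finset (MulAut S)} {D : Subgroup ↥(S.prod S)} (h : c0 A D ≠ 0) :
    ∃ α ∈ A, dg α = D := by
  unfold c0 at h
  obtain ⟨α, hα⟩ := Finset.card_pos.mp (Nat.pos_of_ne_zero h)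
  rw [Finset.mem_filter] at hα
  exact ⟨α, hα.1, hα.2⟩

/-- the marks of the top-level multiplicity function on the top-level diagonals -/
theorem M_c0_dg [Finite S] (F : FusionSystem S) (A : Finset (MulAut S))
    (hA2 : ∀ β ∈ F.autGroup S, ∃ α ∈ A, (∃ s : S, β = MulAut.conj s * α) ∧
        ∀ α' ∈ A, (∃ s : S, β = MulAut.conj s * α') → α' = α)
    (β : MulAut S) (hβ : β ∈ F.autGroup S) :
    M (c0 A) (dg β) = cmark (dg (1 : MulAut S)) (dg (1 : MulAut S)) := by
  rw [M_c0]
  obtain ⟨α₀, hα₀A, ⟨s, hs⟩, huniq⟩ := hA2 β hβ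
  rw [Finset.sum_eq_single α₀]
  · rw [hs, ← cj_dg_conj, cmark_cj, cmark_dg]
  · intro α hαA hne
    by_contra hcm
    obtain ⟨g, hg⟩ := exists_le_cj_of_cmark_ne_zero hcm
    rw [← mkT_eta g, cj_dg] at hg
    have heq := Subgroup.eq_of_le_of_card_ge hg (by rw [card_dg, card_dg])
    exact hne (huniq α hαA ⟨_, dg_injective heq⟩)
  · intro h
    exact absurd hα₀A h

end Cfsg.Agent.Helper3.Char
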