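import Mathlib
import Cfsg.Agent.Lead.FusionProdSat
import Cfsg.Agent.Helper3.CharD

set_option autoImplicit false

/-!
The characteristic biset of a saturated fusion system (Broto–Levi–Oliver).
-/

namespace Cfsg.Agent.Helper3.Char

open Cfsg Cfsg.FusionSystem Cfsg.Agent.Lead Cfsg.Agent.Helper3.Marks Cfsg.Agent.Helper3.Park

open scoped Classical

universe u

variable {Ω : Type u} [Group Ω] {S : Subgroup Ω}

theorem card_XC {H : Type u} [Group H] [Finite H] (c : Subgroup H → ℕ) :
    Nat.card (XC c) = ∑ D ∈ allSub H, c D * D.index := by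
  rw [Nat.card_congr (XC.toSigma c)]
  have : Fintype (Subgroup H) := Fintype.ofFinite _
  rw [Nat.card_sigma]
  have : (Finset.univ : Finset (Subgroup H)) = allSub H := by
    ext D
    simp [mem_allSub]
  rw [this]
  apply Finset.sum_congr rfl
  intro D _
  rw [Nat.card_prod, Nat.card_fin]
  rfl

theorem card_le_of_pr [Finite S] (F : FusionSystem S) (D : Subgroup ↥(S.prod S))
    (hD : PrΓ F (up D)) : Nat.card D ≤ Nat.card S := by
  obtain ⟨Q, ψ, hψ, hT⟩ := hD
  have hD' : ∀ t ∈ D, ∃ h : (t : Ω × Ω).1 ∈ Q, ψ ⟨(t : Ω × Ω).1, h⟩ = (t : Ω × Ω).2 :=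
    fun t ht => hT _ ⟨t, ht, rfl⟩
  have hinj : Function.Injective
      (fun t : D => (⟨(t : ↥(S.prod S)).1.1, (t : ↥(S.prod S)).2.1⟩ : S)) := by
    intro t t' h
    have h1 : (t : ↥(S.prod S)).1.1 = (t' : ↥(S.prod S)).1.1 := congrArg Subtype.val h
    obtain ⟨h2, h3⟩ := hD' t.1 t.2
    obtain ⟨h2', h3'⟩ := hD' t'.1 t'.2
    have h4 : (t : ↥(S.prod S)).1.2 = (t' : ↥(S.prod S)).1.2 := by
      rw [← h3, ← h3']
      congr 1
      exact Subtype.ext h1
    apply Subtype.ext
    apply Subtype.ext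
    exact Prod.ext h1 h4
  exact Nat.card_le_card_of_injective _ hinj

theorem card_prodS [Finite S] : Nat.card ↥(S.prod S) = Nat.card S * Nat.card S := by
  rw [Nat.card_congr (Subgroup.prodEquiv S S).toEquiv, Nat.card_prod]

theorem isPGroup_prodS (p : ℕ) [Fact p.Prime] [Finite S] (hS : IsPGroup p S) :
    IsPGroup p ↥(S.prod S) := by
  obtain ⟨a, ha⟩ := IsPGroup.iff_card.mp hS
  apply IsPGroup.of_card (n := a + a)
  rw [card_prodS, ha, pow_add]

/-- **The characteristic biset** (in numerical form): multiplicities `c` of the coset spaces of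
`S × S` such that the resulting `S × S`-set has all point stabilizers in the graphs of maps of the
system, contains the diagonal orbit, has marks stable under the product system, and has
`|X| / |S|` prime to `p`. -/
theorem exists_char_mult [Finite S] (p : ℕ) [Fact p.Prime] (hS : IsPGroup p S)
    (F : FusionSystem S) (hF : F.IsSaturated p) :
    ∃ c : Subgroup ↥(S.prod S) → ℕ,
      (∀ D, c D ≠ 0 → PrΓ F (up D)) ∧ c (dg (1 : MulAut S)) ≠ 0 ∧
      (∀ D D', PrΓ F (up D) → (Fusion.productSystem F F).IsConj (up D) (up D') →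
        M c D = M c D') ∧
      ∃ n : ℕ, Nat.card (XC c) = Nat.card S * n ∧ ¬ p ∣ n := by
  have hT : IsPGroup p ↥(S.prod S) := isPGroup_prodS p hS
  have hE : (Fusion.productSystem F F).IsSaturated p :=
    ProdSat.main p hS hS F F hF hF _ (Fusion.productSystem_isProductSystem F F)
  obtain ⟨𝒮, h𝒮⟩ : ∃ 𝒮 : SatData ↥(S.prod S), 𝒮 = satData p hT (Fusion.productSystem F F) hE
    (PrΓ F) (PrΓ_conj F) (PrΓ_le F) := ⟨_, rfl⟩
  have hPr : ∀ D, 𝒮.Pr D ↔ PrΓ F (up D) := by
    intro D; rw [h𝒮]; rfl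
  have hrel : ∀ D D', 𝒮.rel D D' ↔ (Fusion.productSystem F F).IsConj (up D) (up D') := by
    intro D D'; rw [h𝒮]; rfl
  obtain ⟨A, hA0, hA1, hA2, hA3⟩ := exists_transversal p F hF
  have hSpos : 0 < Nat.card S := Nat.card_pos
  -- the top level
  have hc₀ : ∀ D, c0 A D ≠ 0 → 𝒮.Pr D := by
    intro D hD
    obtain ⟨α, hαA, rfl⟩ := c0_ne_zero hD
    rw [hPr]
    exact pr_dg F α (hA1 α hαA)
  have hc₀card : ∀ D, c0 A D ≠ 0 → Nat.card D = Nat.card S := by
    intro D hD
    obtain ⟨α, hαA, rfl⟩ := c0_ne_zero hD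
    exact card_dg α
  have hstab₀ : ∀ D D', 𝒮.Pr D → 𝒮.rel D D' → Nat.card S - 1 < Nat.card D →
      M (c0 A) D = M (c0 A) D' := by
    intro D D' hD hDD' hlt
    have hD' := 𝒮.rel_pr _ _ hDD' hD
    have hcard := 𝒮.rel_card _ _ hDD'
    rw [hPr] at hD hD'
    obtain ⟨β, hβ, rfl⟩ := exists_dg_of_pr F D hD (by omega)
    obtain ⟨β', hβ', rfl⟩ := exists_dg_of_pr F D' hD' (by omega)
    rw [M_c0_dg F A hA2 β hβ, M_c0_dg F A hA2 β' hβ']
  obtain ⟨c, hc1, hc2, hc3, hc4⟩ := exists_mult_sat 𝒮 (Nat.card S - 1) (c0 A) hc₀ hstab₀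
  refine ⟨c, fun D hD => (hPr D).mp (hc1 D hD), ?_, ?_, ?_⟩
  · have h1 : c0 A (dg (1 : MulAut S)) ≠ 0 := by
      unfold c0
      apply Finset.card_ne_zero.mpr
      exact ⟨1, Finset.mem_filter.mpr ⟨hA0, rfl⟩⟩
    have := hc2 (dg (1 : MulAut S))
    omega
  · intro D D' hD hDD'
    exact hc4 D D' ((hPr D).mpr hD) ((hrel D D').mpr hDD')
  · -- the count
    obtain ⟨s, hs⟩ := IsPGroup.iff_card.mp hS
    have hdata : ∀ D, c D ≠ 0 → Nat.card D ∣ Nat.card S ∧
        (Nat.card D ≠ Nat.card S → p ∣ Nat.card S / Nat.card D) := by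
      intro D hD
      have hle := card_le_of_pr F D ((hPr D).mp (hc1 D hD))
      obtain ⟨j, hj⟩ := IsPGroup.iff_card.mp (hT.to_subgroup D)
      rw [hj, hs] at hle ⊢
      have hp1 : 1 < p := (Fact.out : p.Prime).one_lt
      have hjs : j ≤ s := (Nat.pow_le_pow_iff_right hp1).mp hle
      refine ⟨pow_dvd_pow p hjs, fun hne => ?_⟩
      have hlt : j < s := by
        rcases Nat.lt_or_ge j s with h | h
        · exact h
        · exfalso
          apply hne
          rw [le_antisymm hjs h]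
      rw [Nat.pow_div hjs (Fact.out : p.Prime).pos]
      exact dvd_pow_self p (by omega)
    refine ⟨∑ D ∈ allSub ↥(S.prod S), c D * (Nat.card S / Nat.card D), ?_, ?_⟩
    · rw [card_XC, Finset.mul_sum]
      apply Finset.sum_congr rfl
      intro D _
      by_cases hD : c D = 0
      · rw [hD, zero_mul, zero_mul, mul_zero]
      · obtain ⟨hdvd, -⟩ := hdata D hD
        have h1 := Subgroup.index_mul_card D
        rw [card_prodS] at h1
        have hDpos : 0 < Nat.card D := Nat.card_pos
        have h2 : D.index = Nat.card S * (Nat.card S / Nat.card D) := by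
          apply Nat.eq_of_mul_eq_mul_right hDpos
          rw [h1, mul_assoc, Nat.div_mul_cancel hdvd]
        rw [h2]; ring
    · -- modulo `p` only the top level counts
      have hterm : ∀ D, ∃ r : ℕ, c D * (Nat.card S / Nat.card D) = c0 A D + p * r := by
        intro D
        by_cases hcard : Nat.card D = Nat.card S
        · refine ⟨0, ?_⟩
          rw [hc3 D (by omega), hcard, Nat.div_self hSpos, mul_one, mul_zero, add_zero]
        · have h0 : c0 A D = 0 := by
            by_contra h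
            exact hcard (hc₀card D h)
          by_cases hD : c D = 0
          · exact ⟨0, by rw [hD, h0, zero_mul, mul_zero, add_zero]⟩
          · obtain ⟨r, hr⟩ := (hdata D hD).2 hcard
            exact ⟨c D * r, by rw [h0, hr, zero_add]; ring⟩
      choose r hr using hterm
      intro hdvd
      apply hA3
      rw [Finset.sum_congr rfl (fun D _ => hr D), Finset.sum_add_distrib, sum_c0,
        ← Finset.mul_sum] at hdvd
      exact (Nat.dvd_add_left (dvd_mul_right p _)).mp hdvd

end Cfsg.Agent.Helper3.Char
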