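import Mathlib
import Cfsg.Prelude.Def_FusionSystem
import Cfsg.Agent.Helper3.MarksA
import Cfsg.Agent.Helper3.MarksC
import Cfsg.Agent.Helper3.ParkA

set_option autoImplicit false

/-!
Park's theorem: every fusion system over a finite group `S` is realized inside a finite group.
-/

namespace Cfsg.Agent.Helper3.Park

open Cfsg Cfsg.FusionSystem Cfsg.Agent.Lead Cfsg.Agent.Helper3.Marks

universe u

variable {Ω : Type u} [Group Ω] {S : Subgroup Ω}

/-- the pairs (in `Ω × Ω`) of a subgroup of `S × S` -/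
def pairs (L : Subgroup (S × S)) : Set (Ω × Ω) :=
  (fun d : S × S => ((d.1 : Ω), (d.2 : Ω))) '' (L : Set (S × S))

/-- subgroups of `S × S` contained in the graph of a map of the system -/
def IsFSub (F : FusionSystem S) (L : Subgroup (S × S)) : Prop := IsFSet F (pairs L)

theorem IsFSub.le (F : FusionSystem S) (D D' : Subgroup (S × S)) (h : D ≤ D')
    (hD' : IsFSub F D') : IsFSub F D :=
  IsFSet.mono F (Set.image_mono h) hD'

theorem IsFSub.cj (F : FusionSystem S) (g : S × S) (D : Subgroup (S × S)) (hD : IsFSub F D) :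
    IsFSub F (cj g D) := by
  have h1 := IsFSet.conj F hD g.1.2 g.2.2
  apply IsFSet.mono F _ h1
  rintro _ ⟨d, hd, rfl⟩
  have hd' : g⁻¹ * d * g ∈ D := (mem_cj g D d).mp hd
  refine ⟨_, ⟨_, hd', rfl⟩, ?_⟩
  have : d = g * (g⁻¹ * d * g) * g⁻¹ := by group
  conv_lhs => rw [this]
  rfl

/-- the diagonal subgroup of `S × S` -/
def diag (S : Subgroup Ω) : Subgroup (S × S) := (MonoidHom.id S).graph

theorem mem_diag (d : S × S) : d ∈ diag S ↔ d.1 = d.2 := by
  unfold diag
  rw [MonoidHom.mem_graph]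
  rfl

theorem isFSub_diag (F : FusionSystem S) : IsFSub F (diag S) := by
  apply IsFSet.mono F _ (isFSet_diag F)
  rintro _ ⟨d, hd, rfl⟩
  have := (mem_diag d).mp hd
  refine ⟨d.1.2, ?_⟩
  change (d.1 : Ω) = (d.2 : Ω)
  rw [this]

/-- marks of a pulled-back action -/
theorem ncard_fix_comp {K H X : Type*} [Group K] [Group H] [MulAction H X] (j : K →* H)
    (L : Subgroup K) :
    (fix ((MulAction.toPermHom H X).comp j) L).ncard
      = Nat.card {x : X // ∀ d ∈ L.map j, d • x = x} := by
  rw [← Nat.card_coe_set_eq]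
  apply Nat.card_congr
  apply Equiv.subtypeEquivRight
  intro x
  constructor
  · rintro hx _ ⟨k, hk, rfl⟩
    exact hx k hk
  · intro hx k hk
    exact hx (j k) ⟨k, hk, rfl⟩

/-- the two embeddings of `P × S` into `S × S` -/
theorem isFSub_map_iff (F : FusionSystem S) {P : Subgroup Ω} (hP : P ≤ S) {φ : P →* Ω}
    (hφ : φ ∈ F.Hom P) (hφS : ∀ x : P, φ x ∈ S) (L : Subgroup (P × S)) :
    IsFSub F (L.map ((Subgroup.inclusion hP).prodMap (MonoidHom.id S))) ↔
      IsFSub F (L.map ((φ.codRestrict S hφS).prodMap (MonoidHom.id S))) := by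
  have hTP : ∀ p ∈ pairs (L.map ((Subgroup.inclusion hP).prodMap (MonoidHom.id S))), p.1 ∈ P := by
    rintro _ ⟨_, ⟨k, _, rfl⟩, rfl⟩
    exact k.1.2
  have hset : pairs (L.map ((φ.codRestrict S hφS).prodMap (MonoidHom.id S)))
      = {q | ∃ p ∈ pairs (L.map ((Subgroup.inclusion hP).prodMap (MonoidHom.id S))),
          ∃ h : p.1 ∈ P, q = (φ ⟨p.1, h⟩, p.2)} := by
    ext q
    constructor
    · rintro ⟨_, ⟨k, hk, rfl⟩, rfl⟩
      exact ⟨_, ⟨_, ⟨k, hk, rfl⟩, rfl⟩, k.1.2, rfl⟩
    · rintro ⟨_, ⟨_, ⟨k, hk, rfl⟩, rfl⟩, h, rfl⟩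
      exact ⟨_, ⟨k, hk, rfl⟩, rfl⟩
  unfold IsFSub
  rw [hset]
  exact ⟨fun h => IsFSet.twist F hφ h, fun h => IsFSet.untwist F hφ hTP h⟩

/-- **Park's theorem**: every fusion system over a finite group is realized by a finite group. -/
theorem park [Finite S] (F : FusionSystem S) :
    ∃ (G : Type u) (_ : Group G) (_ : Finite G) (ι : ↥S →* G), F.IsRealizedBy ι := by
  obtain ⟨X, hXf, hXa, hstab, ⟨x₀, hx₀⟩, hmarks, hzero⟩ :=
    exists_stable_set (H := S × S) (IsFSub F) (IsFSub.cj F) (IsFSub.le F) (diag S) (isFSub_diag F)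
  -- the group
  obtain ⟨G, hG⟩ : ∃ G : Subgroup (Equiv.Perm X), G = Subgroup.centralizer
    (Set.range (fun b : S => (MulAction.toPerm (((1 : S), b) : S × S) : Equiv.Perm X))) := ⟨_, rfl⟩
  have hGmem : ∀ g : Equiv.Perm X, g ∈ G ↔ ∀ (b : S) (x : X),
      g ((((1 : S), b) : S × S) • x) = (((1 : S), b) : S × S) • g x := by
    intro g
    rw [hG, Subgroup.mem_centralizer_iff]
    constructor
    · intro h b x
      have := h _ ⟨b, rfl⟩
      have h2 := congrArg (fun f : Equiv.Perm X => f x) this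
      exact h2.symm
    · rintro h _ ⟨b, rfl⟩
      ext x
      exact (h b x).symm
  have hι : ∀ a : S, (MulAction.toPermHom (S × S) X).comp (MonoidHom.inl S S) a ∈ G := by
    intro a
    rw [hGmem]
    intro b x
    change (a, (1 : S)) • (((1 : S), b) • x) = ((1 : S), b) • ((a, (1 : S)) • x)
    rw [← mul_smul, ← mul_smul]
    congr 1
    ext <;> simp
  obtain ⟨ι, hιdef⟩ : ∃ ι : ↥S →* G, ∀ (a : S) (x : X),
      (ι a : Equiv.Perm X) x = ((a, (1 : S)) : S × S) • x :=
    ⟨((MulAction.toPermHom (S × S) X).comp (MonoidHom.inl S S)).codRestrict G hι,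
      fun a x => rfl⟩
  refine ⟨G, inferInstance, inferInstance, ι, ?_, ?_⟩
  · -- injectivity
    rw [injective_iff_map_eq_one]
    intro a ha
    have h1 := hιdef a x₀
    rw [ha] at h1
    change x₀ = _ at h1
    have h2 := (hx₀ _).mp h1.symm
    rw [mem_diag] at h2
    exact h2
  · intro P hP φ hφS
    constructor
    · -- a map of the system is a conjugation
      intro hφ
      have : Finite P := Finite.of_injective _ (Subgroup.inclusion_injective hP)
      have hm : ∀ L : Subgroup (P × S),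
          (fix ((MulAction.toPermHom (S × S) X).comp
            ((Subgroup.inclusion hP).prodMap (MonoidHom.id S))) L).ncard
          = (fix ((MulAction.toPermHom (S × S) X).comp
            ((φ.codRestrict S hφS).prodMap (MonoidHom.id S))) L).ncard := by
        intro L
        rw [ncard_fix_comp, ncard_fix_comp]
        have hiff := isFSub_map_iff F hP hφ hφS L
        by_cases h1 : IsFSub F (L.map ((Subgroup.inclusion hP).prodMap (MonoidHom.id S)))
        · apply hmarks _ _ h1 (hiff.mp h1)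
          have hinj1 : Function.Injective
              ((Subgroup.inclusion hP).prodMap (MonoidHom.id S)) := by
            rintro ⟨x, b⟩ ⟨y, b'⟩ hxy
            have h1 := congrArg Prod.fst hxy
            have h2 := congrArg Prod.snd hxy
            change Subgroup.inclusion hP x = Subgroup.inclusion hP y at h1
            change b = b' at h2
            rw [Subgroup.inclusion_injective hP h1, h2]
          have hinj2 : Function.Injective
              ((φ.codRestrict S hφS).prodMap (MonoidHom.id S)) := by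
            rintro ⟨x, b⟩ ⟨y, b'⟩ hxy
            have h1 := congrArg Prod.fst hxy
            have h2 := congrArg Prod.snd hxy
            change (φ.codRestrict S hφS) x = (φ.codRestrict S hφS) y at h1
            change b = b' at h2
            have h3 : φ x = φ y := congrArg Subtype.val h1
            rw [F.injective_of_mem hφ h3, h2]
          rw [Subgroup.card_map_of_injective hinj1, Subgroup.card_map_of_injective hinj2]
        · rw [hzero _ h1, hzero _ (fun h => h1 (hiff.mpr h))]
      obtain ⟨e, he⟩ := exists_equiv_of_marks _ _ hm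
      have heG : e ∈ G := by
        rw [hGmem]
        intro b x
        have := he ((1 : P), b) x
        change e ((((Subgroup.inclusion hP) 1, b) : S × S) • x)
          = (((φ.codRestrict S hφS) 1, b) : S × S) • e x at this
        rw [map_one, map_one] at this
        exact this
      refine ⟨⟨e, heG⟩, fun x => ?_⟩
      rw [eq_mul_inv_iff_mul_eq]
      apply Subtype.ext
      apply Equiv.ext
      intro y
      change (ι ⟨φ x, hφS x⟩ : Equiv.Perm X) (e y) = e ((ι ⟨x, hP x.2⟩ : Equiv.Perm X) y)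
      rw [hιdef, hιdef]
      have := he (x, (1 : S)) y
      exact this.symm
    · -- a conjugation is a map of the system
      rintro ⟨g, hg⟩
      obtain ⟨D, hD, hDη⟩ := hstab ((g : Equiv.Perm X) x₀)
      apply mem_of_isFSet_inv F φ
      apply IsFSet.mono F _ hD
      rintro _ ⟨x, rfl⟩
      have hxS : (x : Ω) ∈ S := hP x.2
      refine ⟨((⟨φ x, hφS x⟩ : S), (⟨x, hxS⟩ : S)), ?_, rfl⟩
      rw [SetLike.mem_coe, ← hDη]
      -- `(φ x, x) • g x₀ = g x₀`
      have h1' : (ι ⟨φ x, hφS x⟩ : Equiv.Perm X) ((g : Equiv.Perm X) x₀)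
          = (g : Equiv.Perm X) ((ι ⟨x, hxS⟩ : Equiv.Perm X) x₀) := by
        rw [hg x]
        simp
      have h1 : ((⟨φ x, hφS x⟩ : S), (1 : S)) • (g : Equiv.Perm X) x₀
          = (g : Equiv.Perm X) (((⟨x, hxS⟩ : S), (1 : S)) • x₀) := by
        rw [← hιdef, ← hιdef]
        exact h1'
      have h2 : (((⟨x, hxS⟩ : S), (1 : S)) : S × S) • x₀
          = (((1 : S), (⟨x, hxS⟩ : S)⁻¹) : S × S) • x₀ := by
        have h3 : (((⟨x, hxS⟩ : S), (⟨x, hxS⟩ : S)) : S × S) • x₀ = x₀ := by
          rw [hx₀, mem_diag]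
        have h4 : (((⟨x, hxS⟩ : S), (1 : S)) : S × S)
            = ((1 : S), (⟨x, hxS⟩ : S)⁻¹) * ((⟨x, hxS⟩ : S), (⟨x, hxS⟩ : S)) := by
          ext <;> simp
        rw [h4, mul_smul, h3]
      have h5 : (g : Equiv.Perm X) ((((1 : S), (⟨x, hxS⟩ : S)⁻¹) : S × S) • x₀)
          = (((1 : S), (⟨x, hxS⟩ : S)⁻¹) : S × S) • (g : Equiv.Perm X) x₀ :=
        (hGmem g).mp g.2 _ _
      rw [h2, h5] at h1
      have h6 : (((⟨φ x, hφS x⟩ : S), (⟨x, hxS⟩ : S)) : S × S)
          = ((1 : S), (⟨x, hxS⟩ : S)) * ((⟨φ x, hφS x⟩ : S), (1 : S)) := by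
        ext <;> simp
      rw [h6, mul_smul, h1, ← mul_smul]
      have h7 : (((1 : S), (⟨x, hxS⟩ : S)) : S × S) * ((1 : S), (⟨x, hxS⟩ : S)⁻¹) = 1 := by
        ext <;> simp
      rw [h7, one_smul]

end Cfsg.Agent.Helper3.Park
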