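import Mathlib
import Cfsg.Agent.Helper3.CharE
import Cfsg.Agent.Helper3.MarksA
import Cfsg.Agent.Helper3.ParkB

set_option autoImplicit false

/-!
The characteristic biset of a saturated fusion system as an `S × S`-set, and the realization of
the maps of the system by automorphisms of the biset as a right `S`-set.
-/

namespace Cfsg.Agent.Helper3.Char

open Cfsg Cfsg.FusionSystem Cfsg.Agent.Lead Cfsg.Agent.Helper3.Marks Cfsg.Agent.Helper3.Park

universe u

variable {Ω : Type u} [Group Ω] {S : Subgroup Ω}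

/-- **The characteristic biset** of a saturated fusion system, as an `S × S`-set. -/
theorem exists_char_biset [Finite S] (p : ℕ) [Fact p.Prime] (hS : IsPGroup p S)
    (F : FusionSystem S) (hF : F.IsSaturated p) :
    ∃ (X : Type u) (_ : Finite X) (_ : MulAction ↥(S.prod S) X),
      (∀ x : X, ∃ D : Subgroup ↥(S.prod S), PrΓ F (up D) ∧
        ∀ l : ↥(S.prod S), l • x = x ↔ l ∈ D) ∧
      (∃ x₀ : X, ∀ l : ↥(S.prod S), l • x₀ = x₀ ↔ l ∈ dg (1 : MulAut S)) ∧
      (∀ D D' : Subgroup ↥(S.prod S), PrΓ F (up D) →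
        (Fusion.productSystem F F).IsConj (up D) (up D') →
        Nat.card {x : X // ∀ l ∈ D, l • x = x} = Nat.card {x : X // ∀ l ∈ D', l • x = x}) ∧
      ∃ n : ℕ, Nat.card X = Nat.card S * n ∧ ¬ p ∣ n := by
  obtain ⟨c, hc1, hc2, hc3, hc4⟩ := exists_char_mult p hS F hF
  refine ⟨XC c, inferInstance, inferInstance, ?_, XC.exists_point c _ hc2, ?_, hc4⟩
  · intro x
    obtain ⟨D, g, hD, hx⟩ := XC.exists_stab c x
    exact ⟨cj g D, PrΓ_conj F _ _ (isConj_cj _ g D) (hc1 D hD), hx⟩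
  · intro D D' hD hDD'
    rw [XC.card_fix, XC.card_fix]
    exact hc3 D D' hD hDD'

section Biset

variable {X : Type u} [MulAction ↥(S.prod S) X]

/-- subgroups outside the family have no fixed points -/
theorem card_fix_eq_zero (F : FusionSystem S)
    (hstab : ∀ x : X, ∃ D : Subgroup ↥(S.prod S), PrΓ F (up D) ∧
        ∀ l : ↥(S.prod S), l • x = x ↔ l ∈ D)
    (D : Subgroup ↥(S.prod S)) (hD : ¬ PrΓ F (up D)) :
    Nat.card {x : X // ∀ l ∈ D, l • x = x} = 0 := by
  apply Nat.card_eq_zero.mpr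
  left
  constructor
  rintro ⟨x, hx⟩
  obtain ⟨D', hD', hx'⟩ := hstab x
  apply hD
  apply PrΓ_le F _ _ (up_mono _) hD'
  intro l hl
  exact (hx' l).mp (hx l hl)

/-- twisting the first coordinate by a map of the system is a conjugation in the product
system -/
theorem twist_isConj (F : FusionSystem S) {P : Subgroup Ω} {φ : P →* Ω}
    (hφ : φ ∈ F.Hom P) (W W' : Subgroup (Ω × Ω)) (hW : ∀ w ∈ W, w.1 ∈ P ∧ w.2 ∈ S)
    (hW' : ∀ w', w' ∈ W' ↔ ∃ w ∈ W, ∃ h : w.1 ∈ P, w' = (φ ⟨w.1, h⟩, w.2)) :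
    (Fusion.productSystem F F).IsConj W W' := by
  have hP : P ≤ S := Fusion.src_le F hφ
  have hW1 : W.map (MonoidHom.fst Ω Ω) ≤ P := by
    rintro _ ⟨w, hw, rfl⟩
    exact (hW w hw).1
  have hW2 : W.map (MonoidHom.snd Ω Ω) ≤ S := by
    rintro _ ⟨w, hw, rfl⟩
    exact (hW w hw).2
  have hWS : W ≤ S.prod S := fun w hw => ⟨hP (hW w hw).1, (hW w hw).2⟩
  refine ⟨Fusion.prodHom W (φ.comp (Subgroup.inclusion hW1)) (W.map (MonoidHom.snd Ω Ω)).subtype,
    ⟨hWS, _, Fusion.restrict_mem F hφ hW1, _, Fusion.subtype_mem F hW2,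
      Fusion.prodHom_isProdOf _ _ _⟩, ?_⟩
  ext w'
  rw [hW']
  constructor
  · rintro ⟨x, rfl⟩
    exact ⟨x.1, x.2, (hW x.1 x.2).1, rfl⟩
  · rintro ⟨w, hw, h, rfl⟩
    exact ⟨⟨w, hw⟩, rfl⟩

/-- the homomorphism `(x, b) ↦ (f x, b)` into `↥(S.prod S)` -/
def prodIn {P : Type*} [Group P] (f : P →* S) : P × S →* ↥(S.prod S) where
  toFun k := mkT (f k.1) k.2
  map_one' := by rw [Prod.fst_one, Prod.snd_one, map_one]; rfl
  map_mul' := by
    intro k k'
    rw [Prod.fst_mul, Prod.snd_mul, map_mul, ← mkT_mul]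

/-- the maps of the system are realized by automorphisms of the right `S`-set `X` -/
theorem exists_perm_of_mem [Finite S] [Finite X] (F : FusionSystem S)
    (hstab : ∀ x : X, ∃ D : Subgroup ↥(S.prod S), PrΓ F (up D) ∧
        ∀ l : ↥(S.prod S), l • x = x ↔ l ∈ D)
    (hmarks : ∀ D D' : Subgroup ↥(S.prod S), PrΓ F (up D) →
        (Fusion.productSystem F F).IsConj (up D) (up D') →
        Nat.card {x : X // ∀ l ∈ D, l • x = x} = Nat.card {x : X // ∀ l ∈ D', l • x = x})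
    {P : Subgroup Ω} (hP : P ≤ S) {φ : P →* Ω} (hφ : φ ∈ F.Hom P) :
    ∃ e : Equiv.Perm X, ∀ (x : P) (b : S) (w : X),
      e (mkT (S := S) ⟨(x : Ω), hP x.2⟩ b • w)
        = mkT (S := S) ⟨φ x, Fusion.map_mem F hφ x⟩ b • e w := by
  have : Finite P := Finite.of_injective _ (Subgroup.inclusion_injective hP)
  have hm : ∀ L : Subgroup (P × S),
      (fix ((MulAction.toPermHom ↥(S.prod S) X).comp (prodIn (Subgroup.inclusion hP))) L).ncard
      = (fix ((MulAction.toPermHom ↥(S.prod S) X).comp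
          (prodIn (φ.codRestrict S (fun x => Fusion.map_mem F hφ x)))) L).ncard := by
    intro L
    rw [ncard_fix_comp, ncard_fix_comp]
    have hconj : (Fusion.productSystem F F).IsConj
        (up (L.map (prodIn (Subgroup.inclusion hP))))
        (up (L.map (prodIn (φ.codRestrict S (fun x => Fusion.map_mem F hφ x))))) := by
      apply twist_isConj F hφ
      · rintro _ ⟨_, ⟨k, hk, rfl⟩, rfl⟩
        exact ⟨k.1.2, k.2.2⟩
      · intro w'
        constructor
        · rintro ⟨_, ⟨k, hk, rfl⟩, rfl⟩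
          exact ⟨((k.1 : Ω), (k.2 : Ω)), ⟨_, ⟨k, hk, rfl⟩, rfl⟩, k.1.2, rfl⟩
        · rintro ⟨_, ⟨_, ⟨k, hk, rfl⟩, rfl⟩, h, rfl⟩
          exact ⟨_, ⟨k, hk, rfl⟩, rfl⟩
    by_cases h1 : PrΓ F (up (L.map (prodIn (Subgroup.inclusion hP))))
    · exact hmarks _ _ h1 hconj
    · rw [card_fix_eq_zero F hstab _ h1, card_fix_eq_zero F hstab _
        (fun h => h1 (PrΓ_conj F _ _ (Fusion.isConj_symm _ hconj) h))]
  obtain ⟨e, he⟩ := exists_equiv_of_marks _ _ hm
  exact ⟨e, fun x b w => he (x, b) w⟩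

end Biset

end Cfsg.Agent.Helper3.Char
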