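import Mathlib
import Cfsg.Agent.Helper3.CharB

set_option autoImplicit false

/-!
The automorphism group of a free right `S`-set `X` (given as an `S × S`-set), the stabilizer of a
right orbit and its index.
-/

namespace Cfsg.Agent.Helper3.Char

open Cfsg Cfsg.FusionSystem Cfsg.Agent.Lead Cfsg.Agent.Helper3.Marks Cfsg.Agent.Helper3.Park

universe u

variable {Ω : Type u} [Group Ω] {S : Subgroup Ω}

open scoped IsMulCommutative in
/-- a variant of `MonoidHom.transfer_eq_pow` where the conjugates need only be controlled after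
applying the homomorphism -/
theorem transfer_eq_pow_of_key {G : Type*} [Group G] {H : Subgroup G} {A : Type*} [CommGroup A]
    (ϕ : H →* A) [H.FiniteIndex] (g : G) (a : A)
    (key : ∀ (k : ℕ) (g₀ : G) (hk : g₀⁻¹ * g ^ k * g₀ ∈ H), ϕ ⟨g₀⁻¹ * g ^ k * g₀, hk⟩ = a ^ k) :
    MonoidHom.transfer ϕ g = a ^ H.index := by
  classical
  let := H.fintypeQuotientOfFiniteIndex
  rw [MonoidHom.transfer_eq_prod_quotient_orbitRel_zpowers_quot]
  rw [Subgroup.index_eq_sum_minimalPeriod H g, ← Finset.prod_pow_eq_pow_sum]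
  apply Finset.prod_congr rfl
  intro q _
  exact key _ _ _

/-- the index of a subgroup from a surjection whose fibres are its left cosets -/
theorem index_eq_card_of_surjective {G : Type*} [Group G] (H : Subgroup G) {Y : Type*}
    (f : G → Y) (hsurj : Function.Surjective f)
    (hf : ∀ a b : G, f a = f b ↔ a⁻¹ * b ∈ H) : H.index = Nat.card Y := by
  rw [Subgroup.index_eq_card]
  have hwd : ∀ a b : G, QuotientGroup.leftRel H a b → f a = f b := by
    intro a b hab
    rw [QuotientGroup.leftRel_apply] at hab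
    exact (hf a b).mpr hab
  apply Nat.card_congr
  refine Equiv.ofBijective (Quotient.lift (s := QuotientGroup.leftRel H) f hwd) ⟨?_, ?_⟩
  · intro q q'
    induction q using QuotientGroup.induction_on with
    | H a =>
      induction q' using QuotientGroup.induction_on with
      | H b =>
        intro h
        have h' : f a = f b := h
        exact QuotientGroup.eq.mpr ((hf a b).mp h')
  · intro y
    obtain ⟨g, rfl⟩ := hsurj y
    exact ⟨(g : G ⧸ H), rfl⟩

section Biset

variable {X : Type u} [MulAction ↥(S.prod S) X]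

theorem mkT_one_one : mkT (1 : S) (1 : S) = 1 := rfl

variable (S X) in
/-- the automorphism group of `X` as a right `S`-set -/
def autR : Subgroup (Equiv.Perm X) :=
  Subgroup.centralizer
    (Set.range (fun b : S => (MulAction.toPerm (mkT (1 : S) b) : Equiv.Perm X)))

theorem mem_autR (g : Equiv.Perm X) :
    g ∈ autR S X ↔ ∀ (b : S) (x : X), g (mkT (1 : S) b • x) = mkT (1 : S) b • g x := by
  unfold autR
  rw [Subgroup.mem_centralizer_iff]
  constructor
  · intro h b x
    have := h _ ⟨b, rfl⟩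
    have h2 := congrArg (fun f : Equiv.Perm X => f x) this
    exact h2.symm
  · rintro h _ ⟨b, rfl⟩
    ext x
    exact (h b x).symm

theorem autR_apply_smul (g : autR S X) (b : S) (x : X) :
    (g : Equiv.Perm X) (mkT (1 : S) b • x) = mkT (1 : S) b • (g : Equiv.Perm X) x :=
  (mem_autR g.1).mp g.2 b x

/-- the inclusion of the left factor -/
def inlT (S : Subgroup Ω) : S →* ↥(S.prod S) where
  toFun a := mkT a 1
  map_one' := rfl
  map_mul' := by
    intro a a'
    rw [mkT_mul, one_mul]

variable (S X) in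
/-- the left action, as a homomorphism to the automorphism group of the right `S`-set -/
def iotaR : S →* autR S X :=
  ((MulAction.toPermHom ↥(S.prod S) X).comp (inlT S)).codRestrict (autR S X) (by
    intro a
    rw [mem_autR]
    intro b x
    change mkT a 1 • (mkT (1 : S) b • x) = mkT (1 : S) b • (mkT a 1 • x)
    rw [← mul_smul, ← mul_smul, mkT_mul, mkT_mul, one_mul, mul_one, mul_one, one_mul])

theorem iotaR_apply (a : S) (x : X) :
    ((iotaR S X a : autR S X) : Equiv.Perm X) x = mkT a 1 • x := rfl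

variable (S) in
/-- the stabilizer of the right orbit of `x₀` -/
def stabR (x₀ : X) : Subgroup (autR S X) where
  carrier := {g | ∃ t : S, (g : Equiv.Perm X) x₀ = mkT (1 : S) t • x₀}
  one_mem' := ⟨1, by rw [mkT_one_one, one_smul]; rfl⟩
  mul_mem' := by
    rintro g g' ⟨t, ht⟩ ⟨t', ht'⟩
    refine ⟨t' * t, ?_⟩
    change (g : Equiv.Perm X) ((g' : Equiv.Perm X) x₀) = _
    rw [ht', autR_apply_smul, ht, ← mul_smul, mkT_mul, one_mul]
  inv_mem' := by
    rintro g ⟨t, ht⟩
    refine ⟨t⁻¹, ?_⟩
    change (g : Equiv.Perm X)⁻¹ x₀ = _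
    rw [Equiv.Perm.inv_eq_iff_eq, autR_apply_smul, ht, ← mul_smul, mkT_mul, one_mul,
      inv_mul_cancel, mkT_one_one, one_smul]

theorem mem_stabR (x₀ : X) (g : autR S X) :
    g ∈ stabR S x₀ ↔ ∃ t : S, (g : Equiv.Perm X) x₀ = mkT (1 : S) t • x₀ := Iff.rfl

/-- the right translation attached to an element of the stabilizer of the right orbit -/
noncomputable def tauR (x₀ : X) (g : stabR S x₀) : S := Classical.choose g.2

theorem tauR_spec (x₀ : X) (g : stabR S x₀) :
    ((g : autR S X) : Equiv.Perm X) x₀ = mkT (1 : S) (tauR x₀ g) • x₀ := Classical.choose_spec g.2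

theorem eq_of_smul_eq {x : X} (hfree : ∀ b : S, mkT (1 : S) b • x = x → b = 1) {b b' : S}
    (h : mkT (1 : S) b • x = mkT (1 : S) b' • x) : b = b' := by
  have h1 : mkT (1 : S) (b'⁻¹ * b) • x = x := by
    have : mkT (1 : S) (b'⁻¹ * b) = mkT (1 : S) b'⁻¹ * mkT (1 : S) b := by
      rw [mkT_mul, one_mul]
    rw [this, mul_smul, h, ← mul_smul, mkT_mul, one_mul, inv_mul_cancel, mkT_one_one, one_smul]
  have h2 := hfree _ h1
  exact (inv_mul_eq_one.mp h2).symm

theorem tauR_eq {x₀ : X} (hfree : ∀ b : S, mkT (1 : S) b • x₀ = x₀ → b = 1) (g : stabR S x₀) (t : S)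
    (h : ((g : autR S X) : Equiv.Perm X) x₀ = mkT (1 : S) t • x₀) : tauR x₀ g = t := by
  apply eq_of_smul_eq hfree
  rw [← tauR_spec, h]

/-- the homomorphism from the stabilizer of the right orbit of `x₀` induced by a homomorphism from
`S` to a commutative group -/
noncomputable def phiR {A : Type*} [CommGroup A] {x₀ : X}
    (hfree : ∀ b : S, mkT (1 : S) b • x₀ = x₀ → b = 1) (θ : S →* A) : stabR S x₀ →* A where
  toFun g := θ (tauR x₀ g)⁻¹
  map_one' := by
    rw [tauR_eq hfree 1 1 (by rw [mkT_one_one, one_smul]; rfl), inv_one, map_one]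
  map_mul' := by
    intro g g'
    have h : (((g * g' : stabR S x₀) : autR S X) : Equiv.Perm X) x₀
        = mkT (1 : S) (tauR x₀ g' * tauR x₀ g) • x₀ := by
      change ((g : autR S X) : Equiv.Perm X) (((g' : autR S X) : Equiv.Perm X) x₀) = _
      rw [tauR_spec x₀ g', autR_apply_smul, tauR_spec x₀ g, ← mul_smul, mkT_mul, one_mul]
    rw [tauR_eq hfree (g * g') _ h, mul_inv_rev, map_mul]

theorem phiR_apply {A : Type*} [CommGroup A] {x₀ : X}
    (hfree : ∀ b : S, mkT (1 : S) b • x₀ = x₀ → b = 1) (θ : S →* A) (g : stabR S x₀) :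
    phiR hfree θ g = θ (tauR x₀ g)⁻¹ := rfl

/-- the basic relation: a conjugate of a left translation lying in the stabilizer of the right
orbit of `x₀` gives an element of a point stabilizer -/
theorem smul_conj_eq {x₀ : X} (g₀ : autR S X) (a : S)
    (hh : g₀⁻¹ * iotaR S X a * g₀ ∈ stabR S x₀) :
    mkT a (tauR x₀ ⟨_, hh⟩)⁻¹ • (g₀ : Equiv.Perm X) x₀ = (g₀ : Equiv.Perm X) x₀ := by
  have h1 := tauR_spec x₀ ⟨_, hh⟩
  change (g₀ : Equiv.Perm X)⁻¹ (mkT a 1 • (g₀ : Equiv.Perm X) x₀) = _ at h1
  rw [Equiv.Perm.inv_eq_iff_eq, autR_apply_smul] at h1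
  have h2 : mkT a (tauR x₀ ⟨_, hh⟩)⁻¹ = mkT (1 : S) (tauR x₀ ⟨_, hh⟩)⁻¹ * mkT a 1 := by
    rw [mkT_mul, one_mul, mul_one]
  rw [h2, mul_smul, h1, ← mul_smul, mkT_mul, one_mul, inv_mul_cancel, mkT_one_one, one_smul]

end Biset

end Cfsg.Agent.Helper3.Char
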