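import Mathlib
import Cfsg.Agent.Helper3.CharG

set_option autoImplicit false

/-!
The index of the stabilizer of a right orbit in the automorphism group of a free right `S`-set.
-/

namespace Cfsg.Agent.Helper3.Char

open Cfsg Cfsg.FusionSystem Cfsg.Agent.Lead Cfsg.Agent.Helper3.Marks Cfsg.Agent.Helper3.Park

universe u

variable {Ω : Type u} [Group Ω] {S : Subgroup Ω}

section Biset

variable {X : Type u} [MulAction ↥(S.prod S) X]

variable (S X) in
/-- the right orbit relation -/
def rSetoid : Setoid X where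
  r w w' := ∃ b : S, w' = mkT (1 : S) b • w
  iseqv := by
    refine ⟨fun w => ⟨1, by rw [mkT_one_one, one_smul]⟩, ?_, ?_⟩
    · rintro w w' ⟨b, rfl⟩
      exact ⟨b⁻¹, by rw [← mul_smul, mkT_mul, one_mul, inv_mul_cancel, mkT_one_one, one_smul]⟩
    · rintro w w' w'' ⟨b, rfl⟩ ⟨b', rfl⟩
      exact ⟨b' * b, by rw [← mul_smul, mkT_mul, one_mul]⟩

variable (S X) in
/-- the set of right orbits -/
abbrev QR : Type u := Quotient (rSetoid S X)

variable (S) in
/-- the class of a point -/
def clsR (w : X) : QR S X := Quotient.mk (rSetoid S X) w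

variable (S) in
theorem clsR_eq_iff (w w' : X) : clsR S w = clsR S w' ↔ ∃ b : S, w' = mkT (1 : S) b • w :=
  Quotient.eq (r := rSetoid S X)

variable (S) in
theorem clsR_smul (b : S) (w : X) : clsR S (mkT (1 : S) b • w) = clsR S w :=
  ((clsR_eq_iff S w _).mpr ⟨b, rfl⟩).symm

/-- representatives of the right orbits -/
noncomputable def repR (q : QR S X) : X := Quotient.out q

theorem clsR_repR (q : QR S X) : clsR S (repR q) = q := Quotient.out_eq q

variable (S) in
theorem exists_eq_smul_repR (w : X) : ∃ b : S, w = mkT (1 : S) b • repR (clsR S w) :=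
  (clsR_eq_iff S _ w).mp (clsR_repR (clsR S w))

variable (S) in
/-- the coordinate of a point with respect to the representative of its right orbit -/
noncomputable def betaR (w : X) : S := Classical.choose (exists_eq_smul_repR S w)

variable (S) in
theorem betaR_spec (w : X) : w = mkT (1 : S) (betaR S w) • repR (clsR S w) :=
  Classical.choose_spec (exists_eq_smul_repR S w)

theorem betaR_eq (hfree : ∀ (b : S) (x : X), mkT (1 : S) b • x = x → b = 1) (w : X) (q : QR S X)
    (b : S) (h : w = mkT (1 : S) b • repR q) : betaR S w = b := by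
  have hq : clsR S w = q := by
    rw [h, clsR_smul, clsR_repR]
  have h1 := betaR_spec S w
  rw [hq] at h1
  apply eq_of_smul_eq (hfree · (repR q))
  rw [← h1, h]

/-- the map induced by a permutation of the right orbits -/
noncomputable def mapOfPerm (π : Equiv.Perm (QR S X)) (w : X) : X :=
  mkT (1 : S) (betaR S w) • repR (π (clsR S w))

theorem clsR_mapOfPerm (π : Equiv.Perm (QR S X)) (w : X) :
    clsR S (mapOfPerm π w) = π (clsR S w) := by
  unfold mapOfPerm
  rw [clsR_smul, clsR_repR]

theorem betaR_mapOfPerm (hfree : ∀ (b : S) (x : X), mkT (1 : S) b • x = x → b = 1)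
    (π : Equiv.Perm (QR S X)) (w : X) : betaR S (mapOfPerm π w) = betaR S w :=
  betaR_eq hfree _ _ _ rfl

theorem mapOfPerm_mapOfPerm (hfree : ∀ (b : S) (x : X), mkT (1 : S) b • x = x → b = 1)
    (π π' : Equiv.Perm (QR S X)) (h : ∀ q, π' (π q) = q) (w : X) :
    mapOfPerm π' (mapOfPerm π w) = w := by
  change mkT (1 : S) (betaR S (mapOfPerm π w)) • repR (π' (clsR S (mapOfPerm π w))) = w
  rw [betaR_mapOfPerm hfree, clsR_mapOfPerm, h]
  exact (betaR_spec S w).symm

theorem mapOfPerm_smul (hfree : ∀ (b : S) (x : X), mkT (1 : S) b • x = x → b = 1)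
    (π : Equiv.Perm (QR S X)) (b : S) (w : X) :
    mapOfPerm π (mkT (1 : S) b • w) = mkT (1 : S) b • mapOfPerm π w := by
  unfold mapOfPerm
  have h1 : betaR S (mkT (1 : S) b • w) = b * betaR S w := by
    apply betaR_eq hfree _ (clsR S w)
    conv_lhs => rw [betaR_spec S w]
    rw [← mul_smul, mkT_mul, one_mul]
  rw [h1, clsR_smul, ← mul_smul, mkT_mul, one_mul]

/-- the automorphism of the right `S`-set induced by a permutation of the right orbits -/
noncomputable def permOfPerm (hfree : ∀ (b : S) (x : X), mkT (1 : S) b • x = x → b = 1)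
    (π : Equiv.Perm (QR S X)) : Equiv.Perm X where
  toFun := mapOfPerm π
  invFun := mapOfPerm π⁻¹
  left_inv := mapOfPerm_mapOfPerm hfree π π⁻¹ (fun q => by simp)
  right_inv := mapOfPerm_mapOfPerm hfree π⁻¹ π (fun q => by simp)

theorem permOfPerm_mem (hfree : ∀ (b : S) (x : X), mkT (1 : S) b • x = x → b = 1)
    (π : Equiv.Perm (QR S X)) : permOfPerm hfree π ∈ autR S X := by
  rw [mem_autR]
  intro b x
  exact mapOfPerm_smul hfree π b x

/-- the number of right orbits -/
theorem card_QR_mul [Finite S] [Finite X]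
    (hfree : ∀ (b : S) (x : X), mkT (1 : S) b • x = x → b = 1) :
    Nat.card (QR S X) * Nat.card S = Nat.card X := by
  rw [← Nat.card_prod]
  apply Nat.card_congr
  refine ⟨fun y => mkT (1 : S) y.2 • repR y.1, fun w => (clsR S w, betaR S w), ?_, ?_⟩
  · rintro ⟨q, b⟩
    have h1 : clsR S (mkT (1 : S) b • repR q) = q := by rw [clsR_smul, clsR_repR]
    have h2 : betaR S (mkT (1 : S) b • repR q) = b := betaR_eq hfree _ q b rfl
    exact Prod.ext h1 h2
  · intro w
    exact (betaR_spec S w).symm

/-- **the index of the stabilizer of a right orbit** -/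
theorem index_stabR [Finite S] [Finite X]
    (hfree : ∀ (b : S) (x : X), mkT (1 : S) b • x = x → b = 1) (x₀ : X) :
    (stabR S x₀).index * Nat.card S = Nat.card X := by
  classical
  rw [← card_QR_mul hfree]
  congr 1
  apply index_eq_card_of_surjective (stabR S x₀)
    (fun g : autR S X => clsR S ((g : Equiv.Perm X) x₀))
  · intro q
    refine ⟨⟨permOfPerm hfree (Equiv.swap (clsR S x₀) q), permOfPerm_mem hfree _⟩, ?_⟩
    change clsR S (mapOfPerm _ x₀) = q
    rw [clsR_mapOfPerm, Equiv.swap_apply_left]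
  · intro a b
    change clsR S ((a : Equiv.Perm X) x₀) = clsR S ((b : Equiv.Perm X) x₀) ↔ _
    rw [clsR_eq_iff, mem_stabR]
    constructor
    · rintro ⟨t, ht⟩
      refine ⟨t, ?_⟩
      change (a : Equiv.Perm X)⁻¹ ((b : Equiv.Perm X) x₀) = _
      rw [Equiv.Perm.inv_eq_iff_eq, autR_apply_smul, ht]
    · rintro ⟨t, ht⟩
      refine ⟨t, ?_⟩
      change (a : Equiv.Perm X)⁻¹ ((b : Equiv.Perm X) x₀) = _ at ht
      rw [Equiv.Perm.inv_eq_iff_eq, autR_apply_smul] at ht
      exact ht

end Biset

end Cfsg.Agent.Helper3.Char
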