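import Mathlib
import Cfsg.Prelude.Def_Characters
import Cfsg.Prelude.Def_Blocks
import Cfsg.Agent.Helper6.WeakOrth
import Cfsg.Agent.Helper6.CoprimeClass
import Cfsg.Agent.Helper6.BurnsideSimple
import Cfsg.Agent.Helper6.PowCongr
import Cfsg.Agent.Helper6.BlockEquiv
import Cfsg.Agent.Helper6.BlockBasic2
import Cfsg.Agent.Helper6.RepEigen
import Cfsg.Agent.Helper6.DefectClass
import Cfsg.Agent.Helper6.DadeIso

/-!
# Kazarin's theorem, character-theoretic core

If `x` has a class of `p`-power size, `r ≠ p` is a prime dividing `|G|` and not dividing the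
order of `x`, then `x` lies in a proper normal subgroup of `G`.  The proof uses the principal
`r`-block: every member `χ` has `χ(x)/χ(1) ≡ 1`, so by Burnside's lemma the members of
`p'`-degree have `x` in their kernel, and weak block orthogonality between `1` and an element of
order `r` shows that there is a non-principal one.
-/

set_option autoImplicit false
set_option linter.style.haveILetI false

namespace Cfsg.Agent.Helper3.Kazarin

open Cfsg.Agent.Helper6
open Module Representation
open scoped ComplexConjugate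

universe u

variable {G : Type u} [Group G]

/-- A root of unity of order prime to `r` which is congruent to `1` modulo `M ∋ r` is `1`. -/
theorem root_eq_one_of_mem {M : Ideal Cfsg.AlgInt} (hM : M.IsMaximal) {r : ℕ} (hr : r.Prime)
    (hrM : (r : Cfsg.AlgInt) ∈ M) (w : Cfsg.AlgInt) (m : ℕ) (hm : ¬ r ∣ m) (hw : w ^ m = 1)
    (h1 : 1 - w ∈ M) : w = 1 := by
  by_contra hne
  have hsum : ∑ j ∈ Finset.range m, w ^ j = 0 := by
    have h := geom_sum_mul w m
    rw [hw, sub_self] at h
    rcases mul_eq_zero.mp h with h | h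
    · exact h
    · exact absurd (sub_eq_zero.mp h) hne
  have hmem : (m : Cfsg.AlgInt) ∈ M := by
    have h2 : (m : Cfsg.AlgInt) = ∑ j ∈ Finset.range m, (1 - w ^ j) := by
      rw [Finset.sum_sub_distrib, hsum, sub_zero]
      simp
    rw [h2]
    apply Ideal.sum_mem
    intro j _
    obtain ⟨c, hc⟩ := sub_dvd_pow_sub_pow (1 : Cfsg.AlgInt) w j
    rw [one_pow] at hc
    rw [hc]
    exact M.mul_mem_right _ h1
  exact natCast_not_mem_of_not_dvd hM hr hrM hm hmem


/-- **Core of Kazarin's theorem.** -/
theorem exists_proper_normal [Finite G] (x : G) {p : ℕ} (hp : p.Prime) (k : ℕ)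
    (hx : (Subgroup.centralizer ({x} : Set G)).index = p ^ k)
    {r : ℕ} (hr : r.Prime) (hrp : r ≠ p) (hrG : r ∣ Nat.card G) (hrx : ¬ r ∣ orderOf x) :
    ∃ K : Subgroup G, K.Normal ∧ K ≠ ⊤ ∧ x ∈ K := by
  classical
  by_contra hno
  push Not at hno
  haveI := Fintype.ofFinite G
  haveI : Finite (Cfsg.IrrCharacter G) := irr_finite
  haveI : Fintype (Cfsg.IrrCharacter G) := Fintype.ofFinite _
  haveI : Fact r.Prime := ⟨hr⟩
  obtain ⟨M, -, hM, hrM⟩ := exists_isPModular r hr
  let χ₁ : Cfsg.IrrCharacter G := ⟨fun _ => 1, isIrrCharacter_one⟩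
  set B : Set (Cfsg.IrrCharacter G) := Cfsg.principalBlock M G with hBdef
  have hB : Cfsg.IsPBlock M B := ⟨χ₁, rfl⟩
  have hχ₁B : χ₁ ∈ B := mem_blockOf_self hM χ₁
  obtain ⟨y, hy⟩ := exists_prime_orderOf_dvd_card' r hrG
  have h1reg : ¬ r ∣ orderOf (1 : G) := by
    rw [orderOf_one]
    exact fun h => hr.one_lt.ne' (Nat.dvd_one.mp h)
  have hwo := weak_block_orthogonality hM r hrM B hB 1 y h1reg (by rw [hy])
  have hrpk : ¬ r ∣ p ^ k := by
    intro h
    have := hr.dvd_of_dvd_pow h
    exact hrp ((Nat.prime_dvd_prime_iff_eq hr hp).mp this)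
  have hpkM : ((p ^ k : ℕ) : Cfsg.AlgInt) ∉ M := natCast_not_mem_of_not_dvd hM hr hrM hrpk
  -- claim
  have hclaim : ∀ χ : Cfsg.IrrCharacter G, χ ∈ B → χ ≠ χ₁ →
      ∃ β : ℂ, IsIntegral ℤ β ∧ (χ : G → ℂ) 1 * conj ((χ : G → ℂ) y) = (p : ℂ) * β := by
    intro χ hχB hχ1
    obtain ⟨n, ρ, hirr, hρ⟩ := χ.2
    haveI := hirr
    have hχ1' : (χ : G → ℂ) 1 = (n : ℂ) := by
      rw [← hρ, char_one]
      simp
    have hconj : conj ((χ : G → ℂ) y) = (χ : G → ℂ) y⁻¹ :=
      (IsCharacter.inv_eq_conj (IsIrrCharacter.isCharacter χ.2) y).symm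
    by_cases hpn : p ∣ n
    · obtain ⟨m, hm⟩ := hpn
      refine ⟨(m : ℂ) * (χ : G → ℂ) y⁻¹, ?_, ?_⟩
      · apply IsIntegral.mul
        · exact isIntegral_algebraMap (R := ℤ) (A := ℂ) (x := (m : ℤ))
        · rw [← hρ]
          exact isIntegral_char ρ y⁻¹
      · rw [hχ1', hm, hconj]
        push_cast
        ring
    · exfalso
      have hfr : finrank ℂ (Fin n → ℂ) = n := by simp
      have hcop : Nat.Coprime (finrank ℂ (Fin n → ℂ))
          (Subgroup.centralizer ({x} : Set G)).index := by
        rw [hx, hfr]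
        apply Nat.Coprime.pow_right
        exact ((Nat.Prime.coprime_iff_not_dvd hp).mpr hpn).symm
      have hsb : Cfsg.MemLocalIdeal M (Cfsg.centralChar (fun _ : G => (1 : ℂ)) x -
          Cfsg.centralChar (χ : G → ℂ) x) := hχB x
      unfold Cfsg.centralChar at hsb
      rw [hx, hχ1'] at hsb
      haveI : Nontrivial (Fin n → ℂ) := irr_nontrivial ρ
      have hn0 : n ≠ 0 := by
        intro h
        have : 0 < finrank ℂ (Fin n → ℂ) := Module.finrank_pos
        rw [hfr, h] at this
        exact lt_irrefl _ this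
      have hnC : (n : ℂ) ≠ 0 := by exact_mod_cast hn0
      rcases char_eq_zero_or_norm_eq_of_coprime ρ x hcop with h0 | hnorm
      · rw [← hρ, h0, mul_zero, zero_div, sub_zero, div_one, mul_one] at hsb
        have : Cfsg.MemLocalIdeal M (((p ^ k : ℕ) : Cfsg.AlgInt) : ℂ) := by
          convert hsb using 1
          simp
        exact hpkM ((memLocalIdeal_coe_iff hM _).mp this)
      · obtain ⟨ω, hω⟩ := (norm_char_eq_iff ρ x).mp hnorm
        have hχx : (χ : G → ℂ) x = (n : ℂ) * ω := by
          rw [← hρ]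
          unfold Representation.character
          rw [hω, map_smul, LinearMap.trace_id, hfr, smul_eq_mul, mul_comm]
        -- ω ^ orderOf x = 1
        have hωpow : ω ^ orderOf x = 1 := by
          have h1 : ρ (x ^ orderOf x) = 1 := by rw [pow_orderOf_eq_one, map_one]
          rw [map_pow, hω] at h1
          have h2 : (ω • (LinearMap.id : (Fin n → ℂ) →ₗ[ℂ] (Fin n → ℂ))) ^ orderOf x =
              (ω ^ orderOf x) • (LinearMap.id : (Fin n → ℂ) →ₗ[ℂ] (Fin n → ℂ)) := by
            rw [smul_pow]
            congr 1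
            exact one_pow _
          rw [h2] at h1
          obtain ⟨v, hv⟩ := exists_ne (0 : Fin n → ℂ)
          have h3 := LinearMap.congr_fun h1 v
          simp only [LinearMap.smul_apply, LinearMap.id_coe, id_eq, Module.End.one_apply] at h3
          have h4 : (ω ^ orderOf x - 1) • v = 0 := by rw [sub_smul, h3, one_smul, sub_self]
          rcases smul_eq_zero.mp h4 with h | h
          · exact sub_eq_zero.mp h
          · exact absurd h hv
        have hωint : IsIntegral ℤ ω := by
          apply IsIntegral.of_pow (orderOf_pos x)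
          rw [hωpow]
          exact isIntegral_one
        let w : Cfsg.AlgInt := ⟨ω, (mem_integralClosure_iff ℤ ℂ).mpr hωint⟩
        have hwpow : w ^ orderOf x = 1 := Subtype.ext (by
          change ω ^ orderOf x = 1
          exact hωpow)
        have hmem : ((p ^ k : ℕ) : Cfsg.AlgInt) * (1 - w) ∈ M := by
          rw [← memLocalIdeal_coe_iff hM]
          convert hsb using 1
          rw [hχx]
          change ((p ^ k : ℕ) : ℂ) * (1 - ω) = _
          field_simp
        have hw1 : 1 - w ∈ M := by
          rcases hM.isPrime.mem_or_mem hmem with h | h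
          · exact absurd h hpkM
          · exact h
        have hw : w = 1 := root_eq_one_of_mem hM hr hrM w (orderOf x) hrx hwpow hw1
        have hω1 : ω = 1 := congrArg Subtype.val hw
        rw [hω1, one_smul] at hω
        -- kernel of ρ
        let N : Subgroup G := (Representation.asGroupHom ρ).ker
        have hNmem : ∀ z : G, z ∈ N ↔ ρ z = 1 := by
          intro z
          rw [MonoidHom.mem_ker]
          constructor
          · intro h
            have := congrArg Units.val h
            rwa [Representation.asGroupHom_apply] at this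
          · intro h
            apply Units.ext
            rw [Representation.asGroupHom_apply]
            exact h
        have hxN : x ∈ N := (hNmem x).mpr hω
        have hNtop : N = ⊤ := by
          by_contra hne
          exact hno N inferInstance hne hxN
        apply hχ1
        apply Subtype.ext
        change (χ : G → ℂ) = fun _ => 1
        rw [← hρ]
        apply char_eq_one_of_trivial ρ hirr
        intro z
        apply (hNmem z).mp
        rw [hNtop]
        trivial
  -- the sum
  rw [finsum_mem_eq_sum_ite] at hwo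
  rw [← Finset.add_sum_erase Finset.univ _ (Finset.mem_univ χ₁), if_pos hχ₁B] at hwo
  have hβ : ∀ χ : Cfsg.IrrCharacter G, ∃ β : ℂ, IsIntegral ℤ β ∧ (χ ≠ χ₁ →
      (if χ ∈ B then (χ : G → ℂ) 1 * conj ((χ : G → ℂ) y) else 0) = (p : ℂ) * β) := by
    intro χ
    by_cases hχB : χ ∈ B
    · by_cases hχ1 : χ = χ₁
      · exact ⟨0, isIntegral_zero, fun h => absurd hχ1 h⟩
      · obtain ⟨β, hβ1, hβ2⟩ := hclaim χ hχB hχ1
        exact ⟨β, hβ1, fun _ => by rw [if_pos hχB, hβ2]⟩
    · exact ⟨0, isIntegral_zero, fun _ => by rw [if_neg hχB, mul_zero]⟩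
  choose β hβint hβeq using hβ
  have hrest : ∑ χ ∈ Finset.univ.erase χ₁,
      (if χ ∈ B then (χ : G → ℂ) 1 * conj ((χ : G → ℂ) y) else 0) =
      (p : ℂ) * ∑ χ ∈ Finset.univ.erase χ₁, β χ := by
    rw [Finset.mul_sum]
    apply Finset.sum_congr rfl
    intro χ hχ
    exact hβeq χ (Finset.mem_erase.mp hχ).1
  rw [hrest] at hwo
  have h1 : ((1 : ℕ) : ℂ) = (p : ℂ) * (-∑ χ ∈ Finset.univ.erase χ₁, β χ) := by
    have : (χ₁ : G → ℂ) 1 * conj ((χ₁ : G → ℂ) y) = 1 := by simp [χ₁]
    rw [this] at hwo
    push_cast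
    linear_combination hwo
  have hdvd : p ∣ 1 := by
    apply nat_dvd_of_isIntegral 1 p hp.ne_zero _ _ h1
    apply IsIntegral.neg
    apply IsIntegral.sum
    intro χ _
    exact hβint χ
  exact hp.one_lt.ne' (Nat.dvd_one.mp hdvd)

end Cfsg.Agent.Helper3.Kazarin
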