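import Mathlib
import Cfsg.Agent.Helper2.Signalizer1
import Cfsg.Agent.Helper6.BurnsidePQ
import Cfsg.Agent.Helper3.KazarinA

/-!
# Kazarin's theorem: an element with a class of prime power size lies in a solvable normal
subgroup
-/

set_option autoImplicit false
set_option linter.style.haveILetI false

namespace Cfsg.Agent.Helper3.Kazarin

universe u

variable {G : Type u} [Group G]

/-- The solvable radical of a finite group. -/
theorem exists_solvable_radical [Finite G] :
    ∃ R : Subgroup G, R.Characteristic ∧ Group.IsSolvable R ∧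
      ∀ N : Subgroup G, N.Normal → Group.IsSolvable N → N ≤ R := by
  classical
  let S : Set (Subgroup G) := {N | N.Normal ∧ Group.IsSolvable N}
  have hSfin : S.Finite := Set.toFinite S
  have hSne : S.Nonempty := ⟨⊥, inferInstance, inferInstance⟩
  obtain ⟨R, hRS, hRmax⟩ := hSfin.exists_maximal hSne
  have hRn : R.Normal := hRS.1
  have hRs : Group.IsSolvable R := hRS.2
  have hmax : ∀ N : Subgroup G, N.Normal → Group.IsSolvable N → N ≤ R := by
    intro N hNn hNs
    have h1 : (R ⊔ N) ∈ S := by
      refine ⟨inferInstance, ?_⟩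
      apply Cfsg.Agent.Helper2.isSolvable_sup_of_le_normalizer hRs hNs
      rw [Subgroup.normalizer_eq_top]
      exact le_top
    exact le_trans le_sup_right (hRmax h1 le_sup_left)
  refine ⟨R, ?_, hRs, hmax⟩
  rw [Subgroup.characteristic_iff_map_le]
  intro φ
  apply hmax
  · exact hRn.map φ.toMonoidHom φ.surjective
  · exact Group.isSolvable_of_surjective
      (f := (R.equivMapOfInjective φ.toMonoidHom φ.injective).toMonoidHom)
      (R.equivMapOfInjective φ.toMonoidHom φ.injective).surjective

theorem card_relIndex_mul {A K : Subgroup G} (h : A ≤ K) :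
    A.relIndex K * Nat.card A = Nat.card K := by
  have := (A.subgroupOf K).index_mul_card
  rw [Nat.card_congr (Subgroup.subgroupOfEquivOfLe h).toEquiv] at this
  exact this

/-- For `K` normal, `|K : K ∩ C|` divides `|G : C|`. -/
theorem relIndex_dvd_index_of_normal_right [Finite G] (C K : Subgroup G) [K.Normal] :
    C.relIndex K ∣ C.index := by
  have h1 : C.relIndex (C ⊔ K) ∣ C.index := Subgroup.relIndex_dvd_index_of_le le_sup_left
  suffices h : C.relIndex K = C.relIndex (C ⊔ K) by rwa [h]
  have e1 : K.relIndex C * Nat.card (K ⊓ C : Subgroup G) = Nat.card C := by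
    rw [← Subgroup.inf_relIndex_right K C]
    exact card_relIndex_mul inf_le_right
  have e2 : C.relIndex K * Nat.card (K ⊓ C : Subgroup G) = Nat.card K := by
    rw [← Subgroup.inf_relIndex_right C K, inf_comm]
    exact card_relIndex_mul inf_le_left
  have e3 : C.relIndex (C ⊔ K) * Nat.card C = Nat.card (C ⊔ K : Subgroup G) :=
    card_relIndex_mul le_sup_left
  have e4 : K.relIndex C * Nat.card K = Nat.card (C ⊔ K : Subgroup G) := by
    rw [← Subgroup.relIndex_sup_right C K]
    exact card_relIndex_mul le_sup_right
  have hpos : 0 < K.relIndex C * Nat.card (K ⊓ C : Subgroup G) := by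
    rw [e1]
    exact Nat.card_pos
  have h5 : C.relIndex K * (K.relIndex C * Nat.card (K ⊓ C : Subgroup G)) =
      C.relIndex (C ⊔ K) * (K.relIndex C * Nat.card (K ⊓ C : Subgroup G)) := by
    calc C.relIndex K * (K.relIndex C * Nat.card (K ⊓ C : Subgroup G))
        = K.relIndex C * (C.relIndex K * Nat.card (K ⊓ C : Subgroup G)) := by ring
      _ = Nat.card (C ⊔ K : Subgroup G) := by rw [e2, e4]
      _ = C.relIndex (C ⊔ K) * (K.relIndex C * Nat.card (K ⊓ C : Subgroup G)) := by
          rw [e1, e3]
  exact Nat.eq_of_mul_eq_mul_right hpos h5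

/-- Class size in a normal subgroup divides the class size in the whole group. -/
theorem index_centralizer_subtype_dvd [Finite G] (K : Subgroup G) [K.Normal] (x : K) :
    (Subgroup.centralizer ({x} : Set K)).index ∣
      (Subgroup.centralizer ({(x : G)} : Set G)).index := by
  have h : Subgroup.centralizer ({x} : Set K) =
      (Subgroup.centralizer ({(x : G)} : Set G)).subgroupOf K := by
    ext y
    rw [Subgroup.mem_subgroupOf, Subgroup.mem_centralizer_iff, Subgroup.mem_centralizer_iff]
    simp only [Set.mem_singleton_iff, forall_eq]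
    constructor
    · intro h
      have := congrArg Subtype.val h
      simpa using this
    · intro h
      apply Subtype.ext
      simpa using h
  rw [h]
  exact relIndex_dvd_index_of_normal_right _ K

theorem index_centralizer_pow_dvd [Finite G] (x : G) (j : ℕ) :
    (Subgroup.centralizer ({x ^ j} : Set G)).index ∣
      (Subgroup.centralizer ({x} : Set G)).index := by
  apply Subgroup.index_dvd_of_le
  intro y hy
  rw [Subgroup.mem_centralizer_iff] at hy ⊢
  simp only [Set.mem_singleton_iff, forall_eq] at hy ⊢
  have hc : Commute x y := hy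
  exact (hc.pow_left j).eq


/-- A group whose order involves only the primes `p` and `q` is solvable (Burnside). -/
theorem isSolvable_of_two_primes [Finite G] {p q : ℕ} (hp : p.Prime) (hq : q.Prime)
    (h : ∀ r : ℕ, r.Prime → r ∣ Nat.card G → r ≠ p → r = q) : Group.IsSolvable G := by
  have hN0 : Nat.card G ≠ 0 := Nat.card_pos.ne'
  obtain ⟨a, n', hpn', hN⟩ := Nat.exists_eq_pow_mul_and_not_dvd hN0 p hp.ne_one
  have hn'0 : n' ≠ 0 := by
    intro h0
    rw [h0, mul_zero] at hN
    exact hN0 hN
  obtain ⟨b, n'', hqn'', hn'⟩ := Nat.exists_eq_pow_mul_and_not_dvd hn'0 q hq.ne_one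
  have hn''1 : n'' = 1 := by
    by_contra hne
    obtain ⟨r, hr, hrn⟩ := Nat.exists_prime_and_dvd hne
    have hrn' : r ∣ n' := by rw [hn']; exact Dvd.dvd.mul_left hrn _
    have hrN : r ∣ Nat.card G := by rw [hN]; exact Dvd.dvd.mul_left hrn' _
    by_cases hrp : r = p
    · exact hpn' (hrp ▸ hrn')
    · exact hqn'' (h r hr hrN hrp ▸ hrn)
  apply Cfsg.Agent.Helper6.burnside_pq_aux p q a b hp hq _ G rfl
  rw [hN, hn', hn''1, mul_one]

theorem kazarin_aux (n : ℕ) : ∀ (G : Type u) [Group G] [Finite G], Nat.card G = n →
    ∀ (x : G) (p : ℕ), p.Prime → ∀ k : ℕ,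
      (Subgroup.centralizer ({x} : Set G)).index = p ^ k →
    ∃ N : Subgroup G, N.Normal ∧ Group.IsSolvable N ∧ x ∈ N := by
  induction n using Nat.strong_induction_on with
  | _ n ih =>
    intro G _ _ hn x p hp k hx
    obtain ⟨R, hRchar, hRsolv, hRmax⟩ := exists_solvable_radical (G := G)
    haveI := hRchar
    have hRn : R.Normal := inferInstance
    refine ⟨R, hRn, hRsolv, ?_⟩
    have key : ∀ m : ℕ, ∀ z : G, orderOf z = m →
        (∃ j : ℕ, (Subgroup.centralizer ({z} : Set G)).index = p ^ j) → z ∈ R := by
      intro m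
      induction m using Nat.strong_induction_on with
      | _ m ihm =>
        intro z hzm hz
        by_contra hzR
        obtain ⟨j, hj⟩ := hz
        have hm0 : 0 < m := by rw [← hzm]; exact orderOf_pos z
        have hpow : ∀ q : ℕ, q.Prime → q ∣ m → z ^ q ∈ R := by
          intro q hq hqm
          apply ihm (orderOf (z ^ q)) _ (z ^ q) rfl
          · have hd := index_centralizer_pow_dvd z q
            rw [hj] at hd
            obtain ⟨j', -, hj'⟩ := (Nat.dvd_prime_pow hp).mp hd
            exact ⟨j', hj'⟩
          · rw [orderOf_pow_of_dvd hq.ne_zero (hzm ▸ hqm), hzm]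
            exact Nat.div_lt_self hm0 hq.one_lt
        have hm1 : m ≠ 1 := by
          intro h
          rw [h, orderOf_eq_one_iff] at hzm
          exact hzR (hzm ▸ R.one_mem)
        obtain ⟨q, hq, hqm⟩ := Nat.exists_prime_and_dvd hm1
        have huniq : ∀ {q' : ℕ}, q'.Prime → q' ∣ m → q' = q := by
          intro q' hq' hq'm
          by_contra hne
          have hcop : Nat.Coprime q' q := (Nat.coprime_primes hq' hq).mpr hne
          apply hzR
          have h1 : ((z : G) : G ⧸ R) ^ q = 1 := by
            rw [← QuotientGroup.mk_pow]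
            exact (QuotientGroup.eq_one_iff _).mpr (hpow q hq hqm)
          have h2 : ((z : G) : G ⧸ R) ^ q' = 1 := by
            rw [← QuotientGroup.mk_pow]
            exact (QuotientGroup.eq_one_iff _).mpr (hpow q' hq' hq'm)
          have h3 := pow_gcd_eq_one.mpr ⟨h2, h1⟩
          rw [Nat.Coprime.gcd_eq_one hcop, pow_one] at h3
          exact (QuotientGroup.eq_one_iff z).mp h3
        have hma : m = q ^ m.primeFactorsList.length :=
          Nat.eq_prime_pow_of_unique_prime_dvd hm0.ne' huniq
        by_cases hex : ∃ r : ℕ, r.Prime ∧ r ∣ Nat.card G ∧ r ≠ p ∧ r ≠ q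
        · obtain ⟨r, hr, hrG, hrp, hrq⟩ := hex
          have hrz : ¬ r ∣ orderOf z := by
            rw [hzm, hma]
            intro h
            exact hrq ((Nat.prime_dvd_prime_iff_eq hr hq).mp (hr.dvd_of_dvd_pow h))
          obtain ⟨K, hKn, hKtop, hzK⟩ := exists_proper_normal z hp j hj hr hrp hrG hrz
          haveI := hKn
          have hKcard : Nat.card K < n := by
            rw [← hn]
            apply lt_of_le_of_ne (Subgroup.card_le_card_group K)
            intro h
            exact hKtop (Subgroup.card_eq_iff_eq_top K |>.mp h)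
          have hd := index_centralizer_subtype_dvd K ⟨z, hzK⟩
          rw [hj] at hd
          obtain ⟨j', -, hj'⟩ := (Nat.dvd_prime_pow hp).mp hd
          obtain ⟨N', hN'n, hN's, hzN'⟩ := ih _ hKcard K rfl ⟨z, hzK⟩ p hp j' hj'
          obtain ⟨RK, hRKchar, hRKsolv, hRKmax⟩ := exists_solvable_radical (G := K)
          haveI := hRKchar
          have hnorm : (RK.map K.subtype).Normal := ConjAct.normal_of_characteristic_of_normal
          have hsolv : Group.IsSolvable (RK.map K.subtype) :=
            Group.isSolvable_of_surjective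
              (f := (RK.equivMapOfInjective K.subtype K.subtype_injective).toMonoidHom)
              (RK.equivMapOfInjective K.subtype K.subtype_injective).surjective
          have hle : RK.map K.subtype ≤ R := hRmax _ hnorm hsolv
          exact hzR (hle ⟨⟨z, hzK⟩, hRKmax N' hN'n hN's hzN', rfl⟩)
        · push Not at hex
          have hGsolv : Group.IsSolvable G := isSolvable_of_two_primes hp hq hex
          have hle : (⊤ : Subgroup G) ≤ R := hRmax ⊤ inferInstance inferInstance
          exact hzR (hle trivial)
    exact key (orderOf x) x rfl ⟨k, hx⟩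

/-- **Kazarin's theorem.** An element whose class has prime power size lies in a solvable normal
subgroup. -/
theorem kazarin [Finite G] (x : G) {p : ℕ} (hp : p.Prime) (k : ℕ)
    (hx : (Subgroup.centralizer ({x} : Set G)).index = p ^ k) :
    ∃ N : Subgroup G, N.Normal ∧ Group.IsSolvable N ∧ x ∈ N :=
  kazarin_aux _ G rfl x p hp k hx

theorem kazarin_normalClosure [Finite G] (x : G) {p : ℕ} (hp : p.Prime) (k : ℕ)
    (hx : (Subgroup.centralizer ({x} : Set G)).index = p ^ k) :
    Group.IsSolvable ↥(Subgroup.normalClosure ({x} : Set G)) := by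
  obtain ⟨N, hNn, hNs, hxN⟩ := kazarin x hp k hx
  haveI := hNn
  have hle : Subgroup.normalClosure ({x} : Set G) ≤ N :=
    Subgroup.normalClosure_le_normal (Set.singleton_subset_iff.mpr hxN)
  exact Group.isSolvable_of_isSolvable_injective (Subgroup.inclusion_injective hle)

end Cfsg.Agent.Helper3.Kazarin
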