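import Mathlib
import Cfsg.Prelude.Def_Spor_Conway
import Cfsg.Agent.Helper9.LeechAct.Lin
import Cfsg.Agent.Helper9.Leech.Center

/-!
# Outer automorphisms of the first Conway group: the data of a rigid generating triple

Letters of `Cfsg.Agent.Helper9.LeechAct`: the permutation `x ↦ x + 1` of the 24 points (order 23),
the permutation `x ↦ 2 x` (order 11, it normalises the first), the change of sign on the dodecad
formed by `0` and the squares, and a word `dWord` whose automorphism has order 3, commutes with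
`x ↦ 2 x`, and is inverted by the change of sign.
-/

set_option autoImplicit false
set_option maxRecDepth 100000

namespace Cfsg.Agent.Helper3.Co1O

open Cfsg Cfsg.Agent.Helper9.Golay Cfsg.Agent.Helper9.Leech Cfsg.Agent.Helper9.LeechAct

/-- the letter of the permutation `x ↦ x + 1`. -/
def aLet : LLet := { isXi := false, t := [1, 2, 3, 4, 5, 6, 7, 8, 9, 10, 11, 12, 13, 14, 15, 16, 17, 18, 19, 20, 21, 22, 0, 23], t' := [22, 0, 1, 2, 3, 4, 5, 6, 7, 8, 9, 10, 11, 12, 13, 14, 15, 16, 17, 18, 19, 20, 21, 23], m := 0x0 }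

/-- the letter of the permutation `x ↦ 2 x`. -/
def cLet : LLet := { isXi := false, t := [0, 2, 4, 6, 8, 10, 12, 14, 16, 18, 20, 22, 1, 3, 5, 7, 9, 11, 13, 15, 17, 19, 21, 23], t' := [0, 12, 1, 13, 2, 14, 3, 15, 4, 16, 5, 17, 6, 18, 7, 19, 8, 20, 9, 21, 10, 22, 11, 23], m := 0x0 }

/-- the letter of the change of sign on the dodecad of `0` and the squares. -/
def tLet : LLet := { isXi := false, t := [0, 1, 2, 3, 4, 5, 6, 7, 8, 9, 10, 11, 12, 13, 14, 15, 16, 17, 18, 19, 20, 21, 22, 23], t' := [0, 1, 2, 3, 4, 5, 6, 7, 8, 9, 10, 11, 12, 13, 14, 15, 16, 17, 18, 19, 20, 21, 22, 23], m := 0x5335f }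

/-- a word whose automorphism has order 3 and commutes with `x ↦ 2 x`. -/
def dWord : List LLet :=
  [{ isXi := false, t := [0, 1, 2, 3, 4, 5, 6, 7, 8, 9, 10, 11, 12, 13, 14, 15, 16, 17, 18, 19, 20, 21, 22, 23], t' := [0, 1, 2, 3, 4, 5, 6, 7, 8, 9, 10, 11, 12, 13, 14, 15, 16, 17, 18, 19, 20, 21, 22, 23], m := 0x0 },
    { isXi := true, t := [], t' := [], m := 0 },
    { isXi := false, t := [0, 4, 8, 12, 16, 20, 1, 5, 9, 13, 17, 21, 2, 6, 10, 14, 18, 22, 3, 7, 11, 15, 19, 23], t' := [0, 6, 12, 18, 1, 7, 13, 19, 2, 8, 14, 20, 3, 9, 15, 21, 4, 10, 16, 22, 5, 11, 17, 23], m := 0x0 },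
    { isXi := true, t := [], t' := [], m := 0 },
    { isXi := false, t := [8, 10, 12, 14, 16, 18, 20, 22, 1, 3, 5, 7, 9, 11, 13, 15, 17, 19, 21, 0, 2, 4, 6, 23], t' := [19, 8, 20, 9, 21, 10, 22, 11, 0, 12, 1, 13, 2, 14, 3, 15, 4, 16, 5, 17, 6, 18, 7, 23], m := 0x803da },
    { isXi := true, t := [], t' := [], m := 0 },
    { isXi := false, t := [21, 23, 2, 18, 12, 9, 20, 14, 4, 6, 3, 10, 7, 16, 1, 13, 19, 17, 15, 11, 5, 0, 8, 22], t' := [21, 14, 2, 10, 8, 20, 9, 12, 22, 5, 11, 19, 4, 15, 7, 18, 13, 17, 3, 16, 6, 0, 23, 1], m := 0x0 },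
    { isXi := true, t := [], t' := [], m := 0 },
    { isXi := false, t := [1, 5, 7, 13, 14, 22, 9, 15, 6, 16, 17, 12, 11, 18, 0, 8, 20, 19, 23, 21, 10, 2, 4, 3], t' := [14, 0, 21, 23, 22, 1, 8, 2, 15, 6, 20, 12, 11, 3, 4, 7, 9, 10, 13, 17, 16, 19, 5, 18], m := 0xe07210 }]

theorem lets_ok : (aLet :: cLet :: tLet :: dWord).all letOK = true := by decide +kernel

/-- the automorphism of `x ↦ x + 1`. -/
def aEl : ↥Co0 := ⟨wordEl [aLet], wordEl_mem _⟩

/-- the automorphism of `x ↦ 2 x`. -/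
def cEl : ↥Co0 := ⟨wordEl [cLet], wordEl_mem _⟩

/-- the change of sign on the dodecad. -/
def tEl : ↥Co0 := ⟨wordEl [tLet], wordEl_mem _⟩

/-- the automorphism of order 3. -/
def dEl : ↥Co0 := ⟨wordEl dWord, wordEl_mem _⟩

end Cfsg.Agent.Helper3.Co1O
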