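import Mathlib

set_option autoImplicit false

/-!
# Commutator subgroups of groups generated by pairwise commuting-mod-`C` elements

`commutator_le_of_generators`: if `C` is normal, `S` generates the group and the commutators of members of `S` lie in
`C`, then the derived subgroup lies in `C`.

`exists_surjective_of_le_zpowers`: a subgroup of `zpowers c`, where `c ^ n = 1`, is a homomorphic image of
`Multiplicative (ZMod n)`.
-/

namespace Cfsg.Agent.Helper3

open scoped commutatorElement

theorem commutator_le_of_generators {Γ : Type*} [Group Γ] (C : Subgroup Γ) [C.Normal] (S : Set Γ)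
    (hS : Subgroup.closure S = ⊤) (h : ∀ s ∈ S, ∀ t ∈ S, ⁅s, t⁆ ∈ C) : commutator Γ ≤ C := by
  have hk : ∀ s ∈ S, ∀ t ∈ S, (QuotientGroup.mk' C s) * (QuotientGroup.mk' C t) =
      (QuotientGroup.mk' C t) * (QuotientGroup.mk' C s) := by
    intro s hs t ht
    rw [← commutatorElement_eq_one_iff_mul_comm, ← map_commutatorElement, QuotientGroup.mk'_apply,
      QuotientGroup.eq_one_iff]
    exact h s hs t ht
  have htop : Subgroup.closure ((QuotientGroup.mk' C) '' S) = ⊤ := by
    rw [← MonoidHom.map_closure, hS, ← MonoidHom.range_eq_map, MonoidHom.range_eq_top]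
    exact QuotientGroup.mk'_surjective C
  -- every generator is central in the quotient
  have hcen : ∀ s ∈ S, QuotientGroup.mk' C s ∈ Subgroup.center (Γ ⧸ C) := by
    intro s hs
    have h1 : Subgroup.closure ((QuotientGroup.mk' C) '' S) ≤
        Subgroup.centralizer {QuotientGroup.mk' C s} := by
      rw [Subgroup.closure_le]
      rintro _ ⟨t, ht, rfl⟩
      rw [SetLike.mem_coe, Subgroup.mem_centralizer_iff]
      intro w hw
      rw [Set.mem_singleton_iff] at hw
      rw [hw]
      exact hk s hs t ht
    rw [htop] at h1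
    rw [Subgroup.mem_center_iff]
    intro g
    have := h1 (Subgroup.mem_top g)
    rw [Subgroup.mem_centralizer_iff] at this
    exact (this _ rfl).symm
  have hcomm : ∀ a b : Γ ⧸ C, a * b = b * a := by
    intro a b
    have ha : a ∈ Subgroup.center (Γ ⧸ C) := by
      have h2 : Subgroup.closure ((QuotientGroup.mk' C) '' S) ≤ Subgroup.center (Γ ⧸ C) := by
        rw [Subgroup.closure_le]
        rintro _ ⟨t, ht, rfl⟩
        exact hcen t ht
      rw [htop] at h2
      exact h2 (Subgroup.mem_top a)
    rw [Subgroup.mem_center_iff] at ha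
    exact (ha b).symm
  rw [commutator_eq_closure, Subgroup.closure_le]
  rintro _ ⟨u, v, rfl⟩
  rw [SetLike.mem_coe, ← QuotientGroup.eq_one_iff, ← QuotientGroup.mk'_apply, map_commutatorElement,
    commutatorElement_eq_one_iff_mul_comm]
  exact hcomm _ _

theorem exists_surjective_of_le_zpowers {Γ : Type*} [Group Γ] (K : Subgroup Γ) (c : Γ) (n : ℕ)
    (hc : c ^ n = 1) (hK : K ≤ Subgroup.zpowers c) :
    ∃ π : Multiplicative (ZMod n) →* K, Function.Surjective π := by
  have hcyc : IsCyclic K := by
    have : IsCyclic (K.subgroupOf (Subgroup.zpowers c)) := inferInstance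
    exact isCyclic_of_surjective (Subgroup.subgroupOfEquivOfLe hK).toMonoidHom
      (Subgroup.subgroupOfEquivOfLe hK).surjective
  obtain ⟨d, hd⟩ := hcyc.exists_generator
  have hdn : d ^ n = 1 := by
    obtain ⟨k, hk⟩ := Subgroup.mem_zpowers_iff.mp (hK d.2)
    apply Subtype.ext
    rw [Subgroup.coe_pow, Subgroup.coe_one, ← hk, ← zpow_natCast, ← zpow_mul, mul_comm, zpow_mul,
      zpow_natCast, hc, one_zpow]
  let f : ℤ →+ Additive K := zmultiplesHom (Additive K) (Additive.ofMul d)
  have hf : f n = 0 := by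
    change (n : ℤ) • Additive.ofMul d = 0
    rw [natCast_zsmul, ← ofMul_pow, hdn, ofMul_one]
  refine ⟨AddMonoidHom.toMultiplicativeLeft (ZMod.lift n ⟨f, hf⟩), ?_⟩
  intro w
  obtain ⟨j, hj⟩ := Subgroup.mem_zpowers_iff.mp (hd w)
  refine ⟨Multiplicative.ofAdd ((j : ℤ) : ZMod n), ?_⟩
  change Additive.toMul (ZMod.lift n ⟨f, hf⟩ ((j : ℤ) : ZMod n)) = w
  rw [ZMod.lift_coe]
  change Additive.toMul (j • Additive.ofMul d) = w
  rw [← ofMul_zpow, toMul_ofMul, hj]

end Cfsg.Agent.Helper3
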