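import Mathlib
import Cfsg.Prelude.Def_KGroupFacts

/-!
Helper lemmas (helper3): transfer argument for stem extensions.  If `σ : Γ →* G` is a stem extension
and `U ≤ G` is a subgroup whose full preimage `H` satisfies `H' ∩ ker σ = 1`, then every element of
`ker σ` has order dividing the index of `U`.
-/

set_option autoImplicit false

namespace Cfsg.Agent.Helper3.Stem

open scoped commutatorElement

/-- Transfer: a central element of `Γ'` lying in a subgroup `H` of finite index has its
`[Γ:H]`-th power in `H'`. -/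
theorem pow_index_mem_commutator {Γ : Type*} [Group Γ] (H : Subgroup Γ) [H.FiniteIndex]
    (z : Γ) (hzc : z ∈ Subgroup.center Γ) (hz' : z ∈ commutator Γ) :
    ∃ h : z ^ H.index ∈ H, (⟨z ^ H.index, h⟩ : H) ∈ commutator H := by
  have key : ∀ (k : ℕ) (g₀ : Γ), g₀⁻¹ * z ^ k * g₀ ∈ H → g₀⁻¹ * z ^ k * g₀ = z ^ k := by
    intro k g₀ _
    have hc : z ^ k ∈ Subgroup.center Γ := Subgroup.pow_mem _ hzc k
    rw [Subgroup.mem_center_iff] at hc
    rw [mul_assoc, ← hc g₀, inv_mul_cancel_left]
  refine ⟨MonoidHom.transfer_eq_pow_aux z key, ?_⟩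
  have h1 := MonoidHom.transfer_eq_pow (Abelianization.of (G := H)) z key
  have h2 : MonoidHom.transfer (Abelianization.of (G := H)) z = 1 := by
    have := Abelianization.commutator_subset_ker
      (MonoidHom.transfer (Abelianization.of (G := H))) hz'
    exact this
  rw [h2] at h1
  rw [← Abelianization.ker_of, MonoidHom.mem_ker]
  exact h1.symm

/-- A subgroup `U` of `G` is *good* for `σ` if the commutator subgroup of its full preimage meets
the kernel trivially. -/
def Good {Γ G : Type*} [Group Γ] [Group G] (σ : Γ →* G) (U : Subgroup G) : Prop :=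
  ∀ x : U.comap σ, x ∈ commutator (U.comap σ) → (x : Γ) ∈ σ.ker → x = 1

/-- Key consequence of transfer: elements of the kernel of a stem extension are killed by the index
of any good subgroup. -/
theorem pow_index_eq_one_of_good {Γ G : Type*} [Group Γ] [Group G] [Finite Γ] (σ : Γ →* G)
    (hσ : Cfsg.IsStemExtension σ) (U : Subgroup G) (hU : Good σ U) (z : Γ) (hz : z ∈ σ.ker) :
    z ^ U.index = 1 := by
  obtain ⟨hsurj, hcen, hder⟩ := hσ
  obtain ⟨h, hmem⟩ := pow_index_mem_commutator (U.comap σ) z (hcen hz) (hder hz)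
  have hidx : (U.comap σ).index = U.index := Subgroup.index_comap_of_surjective U hsurj
  have h1 := hU ⟨z ^ (U.comap σ).index, h⟩ hmem (Subgroup.pow_mem _ hz _)
  have h2 := congrArg (fun x : U.comap σ => (x : Γ)) h1
  simp only [Subgroup.coe_one] at h2
  rw [← hidx]
  exact h2

/-- If the preimage of `U` is commutative then `U` is good. -/
theorem good_of_comm {Γ G : Type*} [Group Γ] [Group G] (σ : Γ →* G) (U : Subgroup G)
    (h : ∀ x y : Γ, σ x ∈ U → σ y ∈ U → x * y = y * x) : Good σ U := by
  intro x hx _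
  have hbot : commutator (U.comap σ) = ⊥ := by
    rw [commutator_def, Subgroup.commutator_eq_bot_iff_le_centralizer]
    intro a _
    rw [Subgroup.mem_centralizer_iff]
    intro b _
    apply Subtype.ext
    rw [Subgroup.coe_mul, Subgroup.coe_mul]
    exact h b a b.2 a.2
  rw [hbot, Subgroup.mem_bot] at hx
  exact hx

/-- A cyclic subgroup is good for any central extension. -/
theorem good_of_isCyclic {Γ G : Type*} [Group Γ] [Group G] (σ : Γ →* G)
    (hcen : σ.ker ≤ Subgroup.center Γ) (hsurj : Function.Surjective σ)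
    (U : Subgroup G) [hU : IsCyclic U] : Good σ U := by
  apply good_of_comm
  obtain ⟨⟨u, hu⟩, hgen⟩ := hU.exists_generator
  obtain ⟨a, rfl⟩ := hsurj u
  -- every element of the preimage is `a ^ k * z`
  have key : ∀ x : Γ, σ x ∈ U → ∃ k : ℤ, ∃ z ∈ Subgroup.center Γ, x = a ^ k * z := by
    intro x hx
    obtain ⟨k, hk⟩ := Subgroup.mem_zpowers_iff.mp (hgen ⟨σ x, hx⟩)
    have hk' : σ a ^ k = σ x := by
      have := congrArg (fun y : U => (y : G)) hk
      simpa using this
    refine ⟨k, (a ^ k)⁻¹ * x, hcen ?_, by group⟩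
    rw [MonoidHom.mem_ker, map_mul, map_inv, map_zpow, hk', inv_mul_cancel]
  intro x y hx hy
  obtain ⟨k, z, hz, rfl⟩ := key x hx
  obtain ⟨l, w, hw, rfl⟩ := key y hy
  rw [Subgroup.mem_center_iff] at hz hw
  have hc : a ^ k * a ^ l = a ^ l * a ^ k := by rw [← zpow_add, ← zpow_add, add_comm]
  calc a ^ k * z * (a ^ l * w) = a ^ k * (z * a ^ l) * w := by group
    _ = a ^ k * (a ^ l * z) * w := by rw [hz]
    _ = (a ^ k * a ^ l) * (z * w) := by group
    _ = (a ^ l * a ^ k) * (w * z) := by rw [hc, hw z]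
    _ = a ^ l * (a ^ k * w) * z := by group
    _ = a ^ l * (w * a ^ k) * z := by rw [hw]
    _ = a ^ l * w * (a ^ k * z) := by group

end Cfsg.Agent.Helper3.Stem
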