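import Mathlib
import Cfsg.Agent.Helper3.StemA

/-!
Helper lemmas (helper3): in a central extension of a (generalised) quaternion group the commutator
subgroup meets the kernel trivially; hence quaternion subgroups are good for the transfer argument.
-/

set_option autoImplicit false

namespace Cfsg.Agent.Helper3.Stem

open scoped commutatorElement

theorem comm_mul_left {H : Type*} [Group H] (g₁ g₂ h : H) :
    ⁅g₁ * g₂, h⁆ = g₁ * ⁅g₂, h⁆ * g₁⁻¹ * ⁅g₁, h⁆ := by
  simp only [commutatorElement_def]; group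

/-- Central factors can be dropped from commutators. -/
theorem comm_mul_central {H : Type*} [Group H] (x y z w : H) (hz : z ∈ Subgroup.center H)
    (hw : w ∈ Subgroup.center H) : ⁅x * z, y * w⁆ = ⁅x, y⁆ := by
  have h1 : ∀ g h u : H, u ∈ Subgroup.center H → ⁅g * u, h⁆ = ⁅g, h⁆ := by
    intro g h u hu
    have : ⁅u, h⁆ = 1 := by
      rw [commutatorElement_eq_one_iff_commute]
      rw [Subgroup.mem_center_iff] at hu
      exact (hu h).symm
    rw [comm_mul_left, this, mul_one, mul_inv_cancel, one_mul]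
  rw [h1 _ _ _ hz, ← commutatorElement_inv, h1 _ _ _ hw, commutatorElement_inv]

/-- Core computation for central extensions of quaternion-like groups. -/
theorem quat_core {H : Type*} [Group H] (Z : Subgroup H) (hZ : Z ≤ Subgroup.center H) (n : ℕ)
    (a b z₁ z₂ : H) (hz₁ : z₁ ∈ Z) (hz₂ : z₂ ∈ Z)
    (hform : ∀ h : H, ∃ k : ℤ, ∃ z ∈ Z, h = a ^ k * z ∨ h = a ^ k * b * z)
    (hba : b * a * b⁻¹ = a⁻¹ * z₁) (hb2 : b * b = a ^ (n : ℤ) * z₂)
    (hord : ∀ k : ℤ, a ^ k ∈ Z → (2 * (n : ℤ)) ∣ k) : commutator H ⊓ Z = ⊥ := by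
  have cz : ∀ (m : ℤ) (g : H), g * z₁ ^ m = z₁ ^ m * g := by
    intro m g
    have := hZ (Subgroup.zpow_mem _ hz₁ m)
    rw [Subgroup.mem_center_iff] at this
    exact this g
  have cz₂ : ∀ (g : H), g * z₂ = z₂ * g := by
    intro g
    have := hZ hz₂
    rw [Subgroup.mem_center_iff] at this
    exact this g
  have hA : ∀ m : ℤ, b * a ^ m * b⁻¹ = a ^ (-m) * z₁ ^ m := by
    intro m
    have hcomm : Commute a⁻¹ z₁ := by
      have := cz 1 a⁻¹
      rw [zpow_one] at this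
      exact this
    rw [← conj_zpow, hba, hcomm.mul_zpow, inv_zpow, zpow_neg]
  obtain ⟨c, hcdef⟩ : ∃ c : H, c = a ^ (-2 : ℤ) * z₁ := ⟨_, rfl⟩
  have hc : ∀ m : ℤ, c ^ m = a ^ (-2 * m) * z₁ ^ m := by
    intro m
    have hcomm : Commute (a ^ (-2 : ℤ)) z₁ := by
      have := cz 1 (a ^ (-2 : ℤ))
      rw [zpow_one] at this
      exact this
    rw [hcdef, hcomm.mul_zpow, ← zpow_mul]
  -- the four commutator computations
  have h1 : ∀ k l : ℤ, ⁅a ^ k, a ^ l⁆ = 1 := by
    intro k l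
    rw [commutatorElement_def]; group
  have h2 : ∀ k l : ℤ, ⁅a ^ k, a ^ l * b⁆ = c ^ (-k) := by
    intro k l
    have e1 : ⁅a ^ k, a ^ l * b⁆ = a ^ k * a ^ l * (b * a ^ (-k) * b⁻¹) * a ^ (-l) := by
      rw [commutatorElement_def]; group
    rw [e1, hA, neg_neg, hc]
    have := cz (-k) (a ^ (-l))
    calc a ^ k * a ^ l * (a ^ k * z₁ ^ (-k)) * a ^ (-l)
        = a ^ k * a ^ l * a ^ k * (z₁ ^ (-k) * a ^ (-l)) := by group
      _ = a ^ k * a ^ l * a ^ k * (a ^ (-l) * z₁ ^ (-k)) := by rw [this]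
      _ = a ^ (-2 * -k) * z₁ ^ (-k) := by group
  have h3 : ∀ k l : ℤ, ⁅a ^ k * b, a ^ l⁆ = c ^ l := by
    intro k l
    rw [← commutatorElement_inv, h2, zpow_neg, inv_inv]
  have h4 : ∀ k l : ℤ, ⁅a ^ k * b, a ^ l * b⁆ = c ^ (l - k) := by
    intro k l
    have e1 : ⁅a ^ k * b, a ^ l * b⁆ = a ^ k * (b * a ^ (l - k) * b⁻¹) * a ^ (-l) := by
      rw [commutatorElement_def]; group
    rw [e1, hA, hc]
    have := cz (l - k) (a ^ (-l))
    calc a ^ k * (a ^ (-(l - k)) * z₁ ^ (l - k)) * a ^ (-l)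
        = a ^ k * a ^ (-(l - k)) * (z₁ ^ (l - k) * a ^ (-l)) := by group
      _ = a ^ k * a ^ (-(l - k)) * (a ^ (-l) * z₁ ^ (l - k)) := by rw [this]
      _ = a ^ (-2 * (l - k)) * z₁ ^ (l - k) := by group
  -- `c ^ n = 1`
  have hcn : c ^ (n : ℤ) = 1 := by
    have e1 : b * (b * b) * b⁻¹ = b * b := by group
    rw [hb2] at e1
    have e2 : b * (a ^ (n : ℤ) * z₂) * b⁻¹ = (b * a ^ (n : ℤ) * b⁻¹) * z₂ := by
      calc b * (a ^ (n : ℤ) * z₂) * b⁻¹ = b * a ^ (n : ℤ) * (z₂ * b⁻¹) := by group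
        _ = b * a ^ (n : ℤ) * (b⁻¹ * z₂) := by rw [cz₂]
        _ = (b * a ^ (n : ℤ) * b⁻¹) * z₂ := by group
    rw [e2, hA, mul_left_inj] at e1
    -- e1 : a ^ (-n) * z₁ ^ n = a ^ n
    rw [hc]
    have e3 : a ^ (-2 * (n : ℤ)) * z₁ ^ (n : ℤ) = a ^ (-(n : ℤ)) * (a ^ (-(n : ℤ)) * z₁ ^ (n : ℤ)) := by
      group
    rw [e3, e1]; group
  -- all commutators lie in `zpowers c`
  have hle : commutator H ≤ Subgroup.zpowers c := by
    rw [commutator_eq_closure, Subgroup.closure_le]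
    rintro _ ⟨g₁, g₂, rfl⟩
    obtain ⟨k, z, hz, hg₁⟩ := hform g₁
    obtain ⟨l, w, hw, hg₂⟩ := hform g₂
    rw [SetLike.mem_coe, Subgroup.mem_zpowers_iff]
    rcases hg₁ with rfl | rfl <;> rcases hg₂ with rfl | rfl
    · exact ⟨0, by rw [comm_mul_central _ _ _ _ (hZ hz) (hZ hw), h1, zpow_zero]⟩
    · exact ⟨-k, by rw [comm_mul_central _ _ _ _ (hZ hz) (hZ hw), h2]⟩
    · exact ⟨l, by rw [comm_mul_central _ _ _ _ (hZ hz) (hZ hw), h3]⟩
    · exact ⟨l - k, by rw [comm_mul_central _ _ _ _ (hZ hz) (hZ hw), h4]⟩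
  rw [eq_bot_iff]
  rintro x ⟨hx1, hx2⟩
  obtain ⟨m, rfl⟩ := Subgroup.mem_zpowers_iff.mp (hle hx1)
  rw [Subgroup.mem_bot]
  rw [SetLike.mem_coe, hc] at hx2
  have h5 : a ^ (-2 * m) ∈ Z := by
    have := Z.mul_mem hx2 (Z.inv_mem (Z.zpow_mem hz₁ m))
    rwa [mul_inv_cancel_right] at this
  obtain ⟨t, ht⟩ := hord _ h5
  have hm : m = (n : ℤ) * (-t) := by linarith
  rw [hm, zpow_mul, hcn, one_zpow]

end Cfsg.Agent.Helper3.Stem

namespace Cfsg.Agent.Helper3.Stem

open scoped commutatorElement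

/-- In a central extension of the quaternion group the commutator subgroup meets the kernel
trivially. -/
theorem quat_central_ext {H : Type*} [Group H] {n : ℕ} [NeZero n] (τ : H →* QuaternionGroup n)
    (hτ : Function.Surjective τ) (hcen : τ.ker ≤ Subgroup.center H) :
    commutator H ⊓ τ.ker = ⊥ := by
  obtain ⟨a, ha⟩ := hτ (QuaternionGroup.a 1)
  obtain ⟨b, hb⟩ := hτ (QuaternionGroup.xa 0)
  have hABA : (QuaternionGroup.a 1 : QuaternionGroup n) * QuaternionGroup.xa 0 * QuaternionGroup.a 1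
      = QuaternionGroup.xa 0 := by
    simp
  have hBB : (QuaternionGroup.xa 0 : QuaternionGroup n) * QuaternionGroup.xa 0
      = QuaternionGroup.a 1 ^ n := by
    rw [QuaternionGroup.a_one_pow]; simp
  have hpow : ∀ i : ZMod (2 * n), (QuaternionGroup.a i : QuaternionGroup n) = τ (a ^ ((i.val : ℕ) : ℤ)) := by
    intro i
    rw [zpow_natCast, map_pow, ha, QuaternionGroup.a_one_pow, ZMod.natCast_zmod_val]
  refine quat_core τ.ker hcen n a b (a * (b * a * b⁻¹)) ((a ^ (n : ℤ))⁻¹ * (b * b)) ?_ ?_ ?_ ?_ ?_ ?_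
  · rw [MonoidHom.mem_ker]
    simp only [map_mul, map_inv, ha, hb]
    calc (QuaternionGroup.a 1 : QuaternionGroup n) * (QuaternionGroup.xa 0 * QuaternionGroup.a 1 *
          (QuaternionGroup.xa 0)⁻¹)
        = (QuaternionGroup.a 1 * QuaternionGroup.xa 0 * QuaternionGroup.a 1) *
          (QuaternionGroup.xa 0)⁻¹ := by group
      _ = 1 := by rw [hABA, mul_inv_cancel]
  · rw [MonoidHom.mem_ker]
    simp only [map_mul, map_inv, zpow_natCast, map_pow, ha, hb]
    rw [hBB, inv_mul_cancel]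
  · intro h
    rcases hh : τ h with i | i
    · refine ⟨((i.val : ℕ) : ℤ), (a ^ ((i.val : ℕ) : ℤ))⁻¹ * h, ?_, Or.inl (by group)⟩
      rw [MonoidHom.mem_ker, map_mul, map_inv, ← hpow, hh, inv_mul_cancel]
    · refine ⟨(((-i).val : ℕ) : ℤ), (a ^ (((-i).val : ℕ) : ℤ) * b)⁻¹ * h, ?_, Or.inr (by group)⟩
      rw [MonoidHom.mem_ker, map_mul, map_inv, map_mul, ← hpow, hh, hb]
      simp
  · group
  · group
  · intro k hk
    rw [MonoidHom.mem_ker, map_zpow, ha, ← orderOf_dvd_iff_zpow_eq_one,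
      QuaternionGroup.orderOf_a_one] at hk
    push_cast at hk
    exact hk

/-- Subgroups isomorphic to a quaternion group are good. -/
theorem good_of_quaternion {Γ G : Type*} [Group Γ] [Group G] (σ : Γ →* G)
    (hcen : σ.ker ≤ Subgroup.center Γ) (hsurj : Function.Surjective σ)
    (U : Subgroup G) {n : ℕ} [NeZero n] (e : U ≃* QuaternionGroup n) : Good σ U := by
  intro x hx hker
  let τ : U.comap σ →* QuaternionGroup n := e.toMonoidHom.comp (σ.subgroupComap U)
  have hτ : Function.Surjective τ := by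
    intro y
    obtain ⟨g, hg⟩ := hsurj (e.symm y : G)
    refine ⟨⟨g, ?_⟩, ?_⟩
    · rw [Subgroup.mem_comap, hg]; exact (e.symm y).2
    · change e ((σ.subgroupComap U) _) = y
      have : (σ.subgroupComap U) ⟨g, by rw [Subgroup.mem_comap, hg]; exact (e.symm y).2⟩ = e.symm y := by
        apply Subtype.ext
        exact hg
      rw [this, MulEquiv.apply_symm_apply]
  have hker_iff : ∀ y : U.comap σ, y ∈ τ.ker ↔ (y : Γ) ∈ σ.ker := by
    intro y
    rw [MonoidHom.mem_ker, MonoidHom.mem_ker]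
    change e ((σ.subgroupComap U) y) = 1 ↔ _
    rw [MulEquiv.map_eq_one_iff]
    constructor
    · intro h
      have := congrArg (fun u : U => (u : G)) h
      exact this
    · intro h
      apply Subtype.ext
      exact h
  have hcen' : τ.ker ≤ Subgroup.center (U.comap σ) := by
    intro y hy
    have h1 := hcen ((hker_iff y).mp hy)
    rw [Subgroup.mem_center_iff] at h1 ⊢
    intro g
    apply Subtype.ext
    exact h1 g
  have h := quat_central_ext τ hτ hcen'
  have hx' : x ∈ commutator (U.comap σ) ⊓ τ.ker := ⟨hx, (hker_iff x).mpr hker⟩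
  rw [h, Subgroup.mem_bot] at hx'
  exact hx'

end Cfsg.Agent.Helper3.Stem
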