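import Mathlib
import Cfsg.Agent.Helper3.StemB

/-!
Helper lemmas (helper3): more good subgroups for the transfer argument: metacyclic groups with a
cyclic subgroup of index two (semidihedral groups in particular), and abelian groups of rank two
and odd exponent admitting an automorphism (induced from the big group) of determinant `-1`.
-/

set_option autoImplicit false

namespace Cfsg.Agent.Helper3.Stem

open scoped commutatorElement

/-- Core computation: a group `H` with central subgroup `Z` such that `H = ⟨a⟩Z ∪ ⟨a⟩bZ`,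
`b a b⁻¹ = a ^ r * z₁` and `b² = a ^ s * z₂`.  If `a ^ k ∈ Z` only for `m ∣ k`, and `m ∣ (r-1) k`
implies `k ∈ (r+1)ℤ + sℤ`, then `H' ∩ Z = 1`. -/
theorem meta_core {H : Type*} [Group H] (Z : Subgroup H) (hZ : Z ≤ Subgroup.center H) (m r s : ℤ)
    (a b z₁ z₂ : H) (hz₁ : z₁ ∈ Z) (hz₂ : z₂ ∈ Z)
    (hform : ∀ h : H, ∃ k : ℤ, ∃ z ∈ Z, h = a ^ k * z ∨ h = a ^ k * b * z)
    (hba : b * a * b⁻¹ = a ^ r * z₁) (hb2 : b * b = a ^ s * z₂)
    (hord : ∀ k : ℤ, a ^ k ∈ Z → m ∣ k)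
    (hdiv : ∀ k : ℤ, m ∣ (r - 1) * k → ∃ i j : ℤ, k = (r + 1) * i + s * j) :
    commutator H ⊓ Z = ⊥ := by
  have cz : ∀ (k : ℤ) (g : H), g * z₁ ^ k = z₁ ^ k * g := by
    intro k g
    have := hZ (Subgroup.zpow_mem _ hz₁ k)
    rw [Subgroup.mem_center_iff] at this
    exact this g
  have cz₂ : ∀ (g : H), g * z₂ = z₂ * g := by
    intro g
    have := hZ hz₂
    rw [Subgroup.mem_center_iff] at this
    exact this g
  have hA : ∀ k : ℤ, b * a ^ k * b⁻¹ = a ^ (r * k) * z₁ ^ k := by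
    intro k
    have hcomm : Commute (a ^ r) z₁ := by
      have := cz 1 (a ^ r)
      rw [zpow_one] at this
      exact this
    rw [← conj_zpow, hba, hcomm.mul_zpow, ← zpow_mul]
  obtain ⟨c, hcdef⟩ : ∃ c : H, c = a ^ (r - 1) * z₁ := ⟨_, rfl⟩
  have hc : ∀ k : ℤ, c ^ k = a ^ ((r - 1) * k) * z₁ ^ k := by
    intro k
    have hcomm : Commute (a ^ (r - 1)) z₁ := by
      have := cz 1 (a ^ (r - 1))
      rw [zpow_one] at this
      exact this
    rw [hcdef, hcomm.mul_zpow, ← zpow_mul]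
  have h1 : ∀ k l : ℤ, ⁅a ^ k, a ^ l⁆ = 1 := by
    intro k l
    rw [commutatorElement_def]; group
  have h2 : ∀ k l : ℤ, ⁅a ^ k, a ^ l * b⁆ = c ^ (-k) := by
    intro k l
    have e1 : ⁅a ^ k, a ^ l * b⁆ = a ^ k * a ^ l * (b * a ^ (-k) * b⁻¹) * a ^ (-l) := by
      rw [commutatorElement_def]; group
    rw [e1, hA, hc]
    have := cz (-k) (a ^ (-l))
    calc a ^ k * a ^ l * (a ^ (r * -k) * z₁ ^ (-k)) * a ^ (-l)
        = a ^ k * a ^ l * a ^ (r * -k) * (z₁ ^ (-k) * a ^ (-l)) := by group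
      _ = a ^ k * a ^ l * a ^ (r * -k) * (a ^ (-l) * z₁ ^ (-k)) := by rw [this]
      _ = a ^ ((r - 1) * -k) * z₁ ^ (-k) := by group
  have h3 : ∀ k l : ℤ, ⁅a ^ k * b, a ^ l⁆ = c ^ l := by
    intro k l
    rw [← commutatorElement_inv, h2, zpow_neg, inv_inv]
  have h4 : ∀ k l : ℤ, ⁅a ^ k * b, a ^ l * b⁆ = c ^ (l - k) := by
    intro k l
    have e1 : ⁅a ^ k * b, a ^ l * b⁆ = a ^ k * (b * a ^ (l - k) * b⁻¹) * a ^ (-l) := by
      rw [commutatorElement_def]; group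
    rw [e1, hA, hc]
    have := cz (l - k) (a ^ (-l))
    calc a ^ k * (a ^ (r * (l - k)) * z₁ ^ (l - k)) * a ^ (-l)
        = a ^ k * a ^ (r * (l - k)) * (z₁ ^ (l - k) * a ^ (-l)) := by group
      _ = a ^ k * a ^ (r * (l - k)) * (a ^ (-l) * z₁ ^ (l - k)) := by rw [this]
      _ = a ^ ((r - 1) * (l - k)) * z₁ ^ (l - k) := by group
  -- `c ^ s = 1`
  have hcs : c ^ s = 1 := by
    have e1 : b * (b * b) * b⁻¹ = b * b := by group
    rw [hb2] at e1
    have e2 : b * (a ^ s * z₂) * b⁻¹ = (b * a ^ s * b⁻¹) * z₂ := by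
      calc b * (a ^ s * z₂) * b⁻¹ = b * a ^ s * (z₂ * b⁻¹) := by group
        _ = b * a ^ s * (b⁻¹ * z₂) := by rw [cz₂]
        _ = (b * a ^ s * b⁻¹) * z₂ := by group
    rw [e2, hA, mul_left_inj] at e1
    -- e1 : a ^ (r * s) * z₁ ^ s = a ^ s
    rw [hc]
    have e3 : a ^ ((r - 1) * s) * z₁ ^ s = a ^ (-s) * (a ^ (r * s) * z₁ ^ s) := by group
    rw [e3, e1]; group
  -- `c ^ (r + 1) = 1`
  have hcr : c ^ (r + 1) = 1 := by
    -- `b * b` commutes with `a`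
    have e0 : (b * b) * a * (b * b)⁻¹ = a := by
      rw [hb2]
      have hz2' : ∀ g : H, z₂ * g = g * z₂ := fun g => (cz₂ g).symm
      calc a ^ s * z₂ * a * (a ^ s * z₂)⁻¹ = a ^ s * (z₂ * a) * z₂⁻¹ * a ^ (-s) := by group
        _ = a ^ s * (a * z₂) * z₂⁻¹ * a ^ (-s) := by rw [hz2']
        _ = a := by group
    have e1 : (b * b) * a * (b * b)⁻¹ = b * (b * a * b⁻¹) * b⁻¹ := by group
    rw [e1, hba] at e0
    have e2 : b * (a ^ r * z₁) * b⁻¹ = (b * a ^ r * b⁻¹) * z₁ := by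
      have := cz 1 b⁻¹
      rw [zpow_one] at this
      calc b * (a ^ r * z₁) * b⁻¹ = b * a ^ r * (z₁ * b⁻¹) := by group
        _ = b * a ^ r * (b⁻¹ * z₁) := by rw [this]
        _ = (b * a ^ r * b⁻¹) * z₁ := by group
    rw [e2, hA] at e0
    -- e0 : a ^ (r * r) * z₁ ^ r * z₁ = a
    rw [hc]
    have e3 : a ^ ((r - 1) * (r + 1)) * z₁ ^ (r + 1) = a⁻¹ * (a ^ (r * r) * z₁ ^ r * z₁) := by
      group
    rw [e3, e0, inv_mul_cancel]
  have hle : commutator H ≤ Subgroup.zpowers c := by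
    rw [commutator_eq_closure, Subgroup.closure_le]
    rintro _ ⟨g₁, g₂, rfl⟩
    obtain ⟨k, z, hz, hg₁⟩ := hform g₁
    obtain ⟨l, w, hw, hg₂⟩ := hform g₂
    rw [SetLike.mem_coe, Subgroup.mem_zpowers_iff]
    rcases hg₁ with rfl | rfl <;> rcases hg₂ with rfl | rfl
    · exact ⟨0, by rw [comm_mul_central _ _ _ _ (hZ hz) (hZ hw), h1, zpow_zero]⟩
    · exact ⟨-k, by rw [comm_mul_central _ _ _ _ (hZ hz) (hZ hw), h2]⟩
    · exact ⟨l, by rw [comm_mul_central _ _ _ _ (hZ hz) (hZ hw), h3]⟩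
    · exact ⟨l - k, by rw [comm_mul_central _ _ _ _ (hZ hz) (hZ hw), h4]⟩
  rw [eq_bot_iff]
  rintro x ⟨hx1, hx2⟩
  obtain ⟨k, rfl⟩ := Subgroup.mem_zpowers_iff.mp (hle hx1)
  rw [Subgroup.mem_bot]
  rw [SetLike.mem_coe, hc] at hx2
  have h5 : a ^ ((r - 1) * k) ∈ Z := by
    have := Z.mul_mem hx2 (Z.inv_mem (Z.zpow_mem hz₁ k))
    rwa [mul_inv_cancel_right] at this
  obtain ⟨i, j, hij⟩ := hdiv k (hord _ h5)
  rw [hij, zpow_add, zpow_mul, zpow_mul, hcr, hcs, one_zpow, one_zpow, mul_one]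

/-- Subgroups `U = ⟨A⟩ ∪ ⟨A⟩B` with `B A B⁻¹ = A ^ r`, `B² = A ^ s`, `A` of order `m`, are good as
soon as `m ∣ (r-1) k` implies `k ∈ (r+1)ℤ + sℤ` (e.g. semidihedral groups: `m = 2 ^ e`,
`r = 2 ^ (e-1) - 1`, `s = 0`; generalised quaternion groups: `m = 2n`, `r = -1`, `s = n`). -/
theorem good_of_meta {Γ G : Type*} [Group Γ] [Group G] (σ : Γ →* G)
    (hcen : σ.ker ≤ Subgroup.center Γ) (hsurj : Function.Surjective σ)
    (U : Subgroup G) (A B : G) (hA : A ∈ U) (hB : B ∈ U) (m r s : ℤ)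
    (hform : ∀ u ∈ U, ∃ k : ℤ, u = A ^ k ∨ u = A ^ k * B)
    (hBA : B * A * B⁻¹ = A ^ r) (hB2 : B * B = A ^ s) (hord : ∀ k : ℤ, A ^ k = 1 → m ∣ k)
    (hdiv : ∀ k : ℤ, m ∣ (r - 1) * k → ∃ i j : ℤ, k = (r + 1) * i + s * j) : Good σ U := by
  intro x hx hker
  obtain ⟨a₀, ha₀⟩ := hsurj A
  obtain ⟨b₀, hb₀⟩ := hsurj B
  let a : U.comap σ := ⟨a₀, by rw [Subgroup.mem_comap, ha₀]; exact hA⟩
  let b : U.comap σ := ⟨b₀, by rw [Subgroup.mem_comap, hb₀]; exact hB⟩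
  let Z : Subgroup (U.comap σ) := σ.ker.subgroupOf (U.comap σ)
  have hZmem : ∀ y : U.comap σ, y ∈ Z ↔ σ (y : Γ) = 1 := by
    intro y
    rw [Subgroup.mem_subgroupOf, MonoidHom.mem_ker]
  have hZ : Z ≤ Subgroup.center (U.comap σ) := by
    intro y hy
    have h1 := hcen ((hZmem y).mp hy)
    rw [Subgroup.mem_center_iff] at h1 ⊢
    intro g
    apply Subtype.ext
    exact h1 g
  have hσa : ∀ k : ℤ, σ ((a ^ k : U.comap σ) : Γ) = A ^ k := by
    intro k
    rw [Subgroup.coe_zpow, map_zpow]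
    change σ a₀ ^ k = _
    rw [ha₀]
  have h := meta_core Z hZ m r s a b ((a ^ r)⁻¹ * (b * a * b⁻¹)) ((a ^ s)⁻¹ * (b * b)) ?_ ?_ ?_ ?_
    ?_ ?_ hdiv
  · have hx' : x ∈ commutator (U.comap σ) ⊓ Z := ⟨hx, (hZmem x).mpr hker⟩
    rw [h, Subgroup.mem_bot] at hx'
    exact hx'
  · rw [hZmem]
    simp only [Subgroup.coe_mul, Subgroup.coe_inv, map_mul, map_inv, hσa]
    change (A ^ r)⁻¹ * (σ b₀ * σ a₀ * (σ b₀)⁻¹) = 1
    rw [ha₀, hb₀, hBA, inv_mul_cancel]
  · rw [hZmem]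
    simp only [Subgroup.coe_mul, Subgroup.coe_inv, map_mul, map_inv, hσa]
    change (A ^ s)⁻¹ * (σ b₀ * σ b₀) = 1
    rw [hb₀, hB2, inv_mul_cancel]
  · intro y
    obtain ⟨k, hk⟩ := hform (σ (y : Γ)) y.2
    rcases hk with hk | hk
    · refine ⟨k, (a ^ k)⁻¹ * y, ?_, Or.inl (by group)⟩
      rw [hZmem, Subgroup.coe_mul, Subgroup.coe_inv, map_mul, map_inv, hσa, hk, inv_mul_cancel]
    · refine ⟨k, (a ^ k * b)⁻¹ * y, ?_, Or.inr (by group)⟩
      rw [hZmem, Subgroup.coe_mul, Subgroup.coe_inv, Subgroup.coe_mul, map_mul, map_inv, map_mul,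
        hσa, hk]
      change (A ^ k * σ b₀)⁻¹ * (A ^ k * B) = 1
      rw [hb₀, inv_mul_cancel]
  · group
  · group
  · intro k hk
    rw [hZmem, hσa] at hk
    exact hord k hk

/-- Commutators only depend on the images in a central quotient. -/
theorem comm_congr' {Γ G : Type*} [Group Γ] [Group G] (σ : Γ →* G)
    (hcen : σ.ker ≤ Subgroup.center Γ) {g₁ g₂ g₁' g₂' : Γ} (h1 : σ g₁ = σ g₁')
    (h2 : σ g₂ = σ g₂') : ⁅g₁, g₂⁆ = ⁅g₁', g₂'⁆ := by
  have e1 : g₁ = g₁' * (g₁'⁻¹ * g₁) := by group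
  have e2 : g₂ = g₂' * (g₂'⁻¹ * g₂) := by group
  rw [e1, e2]
  apply comm_mul_central
  · apply hcen
    rw [MonoidHom.mem_ker, map_mul, map_inv, h1, inv_mul_cancel]
  · apply hcen
    rw [MonoidHom.mem_ker, map_mul, map_inv, h2, inv_mul_cancel]

/-- Abelian subgroups `U = ⟨A⟩⟨B⟩` with `A` of odd order are good when some element of the big
group centralises `A` and inverts `B`. -/
theorem good_of_rank_two {Γ G : Type*} [Group Γ] [Group G] (σ : Γ →* G)
    (hcen : σ.ker ≤ Subgroup.center Γ) (hsurj : Function.Surjective σ)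
    (U : Subgroup G) (A B T : G) (n : ℕ) (hn : Odd n)
    (hform : ∀ u ∈ U, ∃ i j : ℤ, u = A ^ i * B ^ j) (hAB : A * B = B * A) (hAn : A ^ n = 1)
    (hTA : T * A * T⁻¹ = A) (hTB : T * B * T⁻¹ = B⁻¹) : Good σ U := by
  apply good_of_comm
  obtain ⟨a, ha⟩ := hsurj A
  obtain ⟨b, hb⟩ := hsurj B
  obtain ⟨t, ht⟩ := hsurj T
  obtain ⟨c, hcdef⟩ : ∃ c : Γ, c = ⁅a, b⁆ := ⟨_, rfl⟩
  have hcker : c ∈ σ.ker := by
    rw [hcdef, MonoidHom.mem_ker, map_commutatorElement, ha, hb,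
      commutatorElement_eq_one_iff_mul_comm, hAB]
  have hcc : ∀ g : Γ, g * c = c * g := by
    intro g
    have := hcen hcker
    rw [Subgroup.mem_center_iff] at this
    exact this g
  -- `c = c⁻¹`
  have hc2 : c = c⁻¹ := by
    have e1 : ⁅t * a * t⁻¹, t * b * t⁻¹⁆ = ⁅a, b⁻¹⁆ := by
      apply comm_congr' σ hcen
      · rw [map_mul, map_mul, map_inv, ht, ha, hTA]
      · rw [map_mul, map_mul, map_inv, map_inv, ht, hb, hTB]
    rw [← conjugate_commutatorElement, ← hcdef, hcc, mul_inv_cancel_right] at e1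
    have e2 : ⁅a, b⁻¹⁆ = b⁻¹ * ⁅a, b⁆⁻¹ * b := by
      simp only [commutatorElement_def]; group
    rw [e2, ← hcdef] at e1
    have hci : b⁻¹ * c⁻¹ = c⁻¹ * b⁻¹ := by
      have := hcc b
      calc b⁻¹ * c⁻¹ = (c * b)⁻¹ := by group
        _ = (b * c)⁻¹ := by rw [this]
        _ = c⁻¹ * b⁻¹ := by group
    rw [hci, inv_mul_cancel_right] at e1
    exact e1
  -- `c ^ n = 1`
  have hpow : ∀ k : ℕ, ⁅a ^ k, b⁆ = c ^ k := by
    intro k
    induction k with
    | zero => rw [pow_zero, pow_zero, commutatorElement_one_left]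
    | succ k ih =>
      rw [pow_succ', comm_mul_left, ih, ← hcdef]
      have : a * c ^ k = c ^ k * a := by
        have := hcen (Subgroup.pow_mem _ hcker k)
        rw [Subgroup.mem_center_iff] at this
        exact this a
      rw [this, mul_inv_cancel_right, pow_succ]
  have hcn : c ^ n = 1 := by
    rw [← hpow]
    have hz : a ^ n ∈ Subgroup.center Γ := by
      apply hcen
      rw [MonoidHom.mem_ker, map_pow, ha, hAn]
    rw [Subgroup.mem_center_iff] at hz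
    rw [commutatorElement_eq_one_iff_mul_comm]
    exact (hz b).symm
  have hc1 : c = 1 := by
    obtain ⟨k, hk⟩ := hn
    have h2 : c * c = 1 := by
      nth_rewrite 1 [hc2]
      exact inv_mul_cancel c
    have : c ^ n = c := by
      rw [hk, pow_succ, pow_mul, pow_two, h2, one_pow, one_mul]
    rw [← this, hcn]
  have hab : a * b = b * a := by
    rw [← commutatorElement_eq_one_iff_mul_comm, ← hcdef, hc1]
  -- normal form in the preimage
  have key : ∀ x : Γ, σ x ∈ U → ∃ i j : ℤ, ∃ z ∈ Subgroup.center Γ, x = a ^ i * b ^ j * z := by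
    intro x hx
    obtain ⟨i, j, hij⟩ := hform _ hx
    refine ⟨i, j, (a ^ i * b ^ j)⁻¹ * x, hcen ?_, by group⟩
    rw [MonoidHom.mem_ker, map_mul, map_inv, map_mul, map_zpow, map_zpow, ha, hb, hij,
      inv_mul_cancel]
  intro x y hx hy
  obtain ⟨i, j, z, hz, rfl⟩ := key x hx
  obtain ⟨k, l, w, hw, rfl⟩ := key y hy
  rw [Subgroup.mem_center_iff] at hz hw
  have hcab : Commute a b := hab
  have h1 : Commute (a ^ i * b ^ j) (a ^ k * b ^ l) := by
    apply Commute.mul_left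
    · exact Commute.mul_right (Commute.zpow_zpow_self a i k) (hcab.zpow_zpow i l)
    · exact Commute.mul_right (hcab.symm.zpow_zpow j k) (Commute.zpow_zpow_self b j l)
  have h1' : a ^ i * b ^ j * (a ^ k * b ^ l) = a ^ k * b ^ l * (a ^ i * b ^ j) := h1
  calc a ^ i * b ^ j * z * (a ^ k * b ^ l * w)
      = a ^ i * b ^ j * (z * (a ^ k * b ^ l)) * w := by group
    _ = a ^ i * b ^ j * ((a ^ k * b ^ l) * z) * w := by rw [hz]
    _ = (a ^ i * b ^ j * (a ^ k * b ^ l)) * (z * w) := by group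
    _ = (a ^ k * b ^ l * (a ^ i * b ^ j)) * (w * z) := by rw [h1', hw z]
    _ = a ^ k * b ^ l * ((a ^ i * b ^ j) * w) * z := by group
    _ = a ^ k * b ^ l * (w * (a ^ i * b ^ j)) * z := by rw [hw]
    _ = a ^ k * b ^ l * w * (a ^ i * b ^ j * z) := by group

/-- If every prime admits a good subgroup of index prime to it, the stem extension is trivial. -/
theorem ker_eq_bot_of_forall_good {Γ G : Type*} [Group Γ] [Group G] [Finite Γ] (σ : Γ →* G)
    (hσ : Cfsg.IsStemExtension σ)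
    (h : ∀ s : ℕ, s.Prime → ∃ U : Subgroup G, ¬ s ∣ U.index ∧ Good σ U) : σ.ker = ⊥ := by
  by_contra hne
  obtain ⟨z, hz, hz1⟩ : ∃ z ∈ σ.ker, z ≠ 1 := by
    by_contra hcon
    push Not at hcon
    apply hne
    rw [eq_bot_iff]
    intro x hx
    rw [Subgroup.mem_bot]
    exact hcon x hx
  have hord : orderOf z ≠ 1 := by
    rw [Ne, orderOf_eq_one_iff]; exact hz1
  obtain ⟨s, hs, hsd⟩ := Nat.exists_prime_and_dvd hord
  obtain ⟨U, hU1, hU2⟩ := h s hs
  have h1 := pow_index_eq_one_of_good σ hσ U hU2 z hz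
  exact hU1 (hsd.trans (orderOf_dvd_of_pow_eq_one h1))

/-- If `s²` does not divide `|G|` then the Sylow `s`-subgroups are cyclic, hence good. -/
theorem exists_good_of_not_sq_dvd {Γ G : Type*} [Group Γ] [Group G] [Finite G] (σ : Γ →* G)
    (hcen : σ.ker ≤ Subgroup.center Γ) (hsurj : Function.Surjective σ) (s : ℕ) (hs : s.Prime)
    (h : ¬ s ^ 2 ∣ Nat.card G) : ∃ U : Subgroup G, ¬ s ∣ U.index ∧ Good σ U := by
  have : Fact s.Prime := ⟨hs⟩
  let P : Sylow s G := default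
  have hcard := P.card_eq_multiplicity
  have hle : (Nat.card G).factorization s ≤ 1 := by
    by_contra hcon
    push Not at hcon
    apply h
    exact (pow_dvd_pow s hcon).trans (Nat.ordProj_dvd _ _)
  have hcyc : IsCyclic (P : Subgroup G) := by
    rcases Nat.le_one_iff_eq_zero_or_eq_one.mp hle with h0 | h1
    · rw [h0, pow_zero] at hcard
      have : Subsingleton (P : Subgroup G) := (Nat.card_eq_one_iff_unique.mp hcard).1
      exact isCyclic_of_subsingleton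
    · rw [h1, pow_one] at hcard
      exact isCyclic_of_prime_card hcard
  exact ⟨P, P.not_dvd_index, good_of_isCyclic σ hcen hsurj _⟩

end Cfsg.Agent.Helper3.Stem
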