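import Mathlib
import Cfsg.Prelude.Def_KGroupFacts

set_option autoImplicit false

namespace Cfsg.Agent.Helper3.SchurMult

universe u v w

open scoped commutatorElement

section general

variable {G : Type*} [Group G]

theorem comm_mul_central_left {a b z : G} (hz : z ∈ Subgroup.center G) : ⁅a * z, b⁆ = ⁅a, b⁆ := by
  rw [commutatorElement_def, commutatorElement_def, mul_inv_rev]
  have h := Subgroup.mem_center_iff.1 hz
  have : a * z * b * (z⁻¹ * a⁻¹) * b⁻¹ = a * (z * b) * z⁻¹ * a⁻¹ * b⁻¹ := by group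
  rw [this, ← h b]; group

theorem comm_mul_central_right {a b z : G} (hz : z ∈ Subgroup.center G) : ⁅a, b * z⁆ = ⁅a, b⁆ := by
  rw [commutatorElement_def, commutatorElement_def, mul_inv_rev]
  have h := Subgroup.mem_center_iff.1 hz
  have : a * (b * z) * a⁻¹ * (z⁻¹ * b⁻¹) = a * b * (z * a⁻¹) * z⁻¹ * b⁻¹ := by group
  rw [this, ← h a⁻¹]; group

/-- If the centre has finite index, the set of commutators is finite. -/
theorem finite_commutatorSet_of_finiteIndex_center [h : (Subgroup.center G).FiniteIndex] :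
    Finite (commutatorSet G) := by
  have hfin : Finite (G ⧸ Subgroup.center G) := Subgroup.finite_quotient_of_finiteIndex
  have key : commutatorSet G ⊆ Set.range
      (fun p : (G ⧸ Subgroup.center G) × (G ⧸ Subgroup.center G) =>
        (⁅(p.1.out : G), (p.2.out : G)⁆ : G)) := by
    rintro g ⟨a, b, rfl⟩
    refine ⟨(QuotientGroup.mk a, QuotientGroup.mk b), ?_⟩
    have ha : a⁻¹ * (QuotientGroup.mk a : G ⧸ Subgroup.center G).out ∈ Subgroup.center G :=
      QuotientGroup.eq.1 (QuotientGroup.out_eq' _).symm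
    have hb : b⁻¹ * (QuotientGroup.mk b : G ⧸ Subgroup.center G).out ∈ Subgroup.center G :=
      QuotientGroup.eq.1 (QuotientGroup.out_eq' _).symm
    have e1 : (QuotientGroup.mk a : G ⧸ Subgroup.center G).out
        = a * (a⁻¹ * (QuotientGroup.mk a : G ⧸ Subgroup.center G).out) := by group
    have e2 : (QuotientGroup.mk b : G ⧸ Subgroup.center G).out
        = b * (b⁻¹ * (QuotientGroup.mk b : G ⧸ Subgroup.center G).out) := by group
    simp only
    rw [e1, e2, comm_mul_central_left ha, comm_mul_central_right hb]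
  exact Set.Finite.subset (Set.finite_range _) key

theorem finite_commutator_of_finiteIndex_center [h : (Subgroup.center G).FiniteIndex] :
    Finite (commutator G) := by
  have := finite_commutatorSet_of_finiteIndex_center (G := G)
  infer_instance

theorem exists_section_of_free {A : Type*} [CommGroup A] {L : Type*} [AddCommGroup L]
    [Module.Free ℤ L] [Module.Finite ℤ L] (ψ : A →* Multiplicative L) :
    ∃ S : Subgroup A, S ⊓ ψ.ker = ⊥ ∧ S ⊔ ψ.ker = ⊤ := by
  let ψ' : Additive A →ₗ[ℤ] L := (MonoidHom.toAdditiveLeft ψ).toIntLinearMap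
  have hψ' : ∀ a : A, ψ' (Additive.ofMul a) = Multiplicative.toAdd (ψ a) := fun a => rfl
  let g : Additive A →ₗ[ℤ] LinearMap.range ψ' := ψ'.rangeRestrict
  have hg : Function.Surjective g := LinearMap.surjective_rangeRestrict ψ'
  obtain ⟨h, hh⟩ := Module.projective_lifting_property g LinearMap.id hg
  have hh' : ∀ b, g (h b) = b := fun b => DFunLike.congr_fun hh b
  let S : Subgroup A :=
    { carrier := {a | ∃ b, Additive.toMul (h b) = a}
      mul_mem' := by
        rintro _ _ ⟨b, rfl⟩ ⟨c, rfl⟩
        exact ⟨b + c, by rw [map_add]; rfl⟩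
      one_mem' := ⟨0, by rw [map_zero]; rfl⟩
      inv_mem' := by
        rintro _ ⟨b, rfl⟩
        exact ⟨-b, by rw [map_neg]; rfl⟩ }
  refine ⟨S, ?_, ?_⟩
  · rw [eq_bot_iff]
    rintro a ⟨⟨b, rfl⟩, hker⟩
    have hker : ψ (Additive.toMul (h b)) = 1 := MonoidHom.mem_ker.1 hker
    have h1 : ψ' (h b) = 0 := by
      have := hψ' (Additive.toMul (h b))
      rw [hker] at this
      exact this
    have h2 : ((g (h b) : LinearMap.range ψ') : L) = 0 := h1
    rw [hh'] at h2
    have h3 : b = 0 := Subtype.ext h2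
    rw [h3, map_zero]
    rfl
  · rw [eq_top_iff]
    intro a _
    set b := g (Additive.ofMul a) with hb
    have hs : Additive.toMul (h b) ∈ S := ⟨b, rfl⟩
    have hk : (Additive.toMul (h b))⁻¹ * a ∈ ψ.ker := by
      rw [MonoidHom.mem_ker, map_mul, map_inv]
      have h1 : ψ (Additive.toMul (h b)) = ψ a := by
        have e1 : ((g (h b) : LinearMap.range ψ') : L) = ψ' (h b) := rfl
        rw [hh', hb] at e1
        have e2 : ((g (Additive.ofMul a) : LinearMap.range ψ') : L) = ψ' (Additive.ofMul a) := rfl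
        rw [e2] at e1
        have e3 := hψ' (Additive.toMul (h b))
        have e4 := hψ' a
        have e5 : ψ' (Additive.ofMul (Additive.toMul (h b))) = ψ' (h b) := rfl
        rw [e5, ← e1, e4] at e3
        exact (Multiplicative.toAdd.injective e3).symm
      rw [h1, inv_mul_cancel]
    have : a = Additive.toMul (h b) * ((Additive.toMul (h b))⁻¹ * a) := by group
    rw [this]
    exact Subgroup.mul_mem_sup hs hk



theorem finite_of_finite_ker {Γ : Type*} {Q : Type*} [Group Γ] [Group Q] [Finite Q] (σ : Γ →* Q)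
    [Finite σ.ker] : Finite Γ := by
  have e1 := Subgroup.groupEquivQuotientProdSubgroup (s := σ.ker)
  have : Finite (Γ ⧸ σ.ker) :=
    Finite.of_equiv _ (QuotientGroup.quotientKerEquivRange σ).toEquiv.symm
  exact Finite.of_equiv _ e1.symm

theorem normal_of_le_center {G : Type*} [Group G] (N : Subgroup G)
    (hN : N ≤ Subgroup.center G) : N.Normal := by
  constructor
  intro n hn g
  have := Subgroup.mem_center_iff.1 (hN hn) g
  rw [this, mul_inv_cancel_right]
  exact hn

end general

section cover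
variable {Q : Type u} [Group Q] {X : Type w} (f : X → Q)

/-- the presentation map -/
def pres : FreeGroup X →* Q := FreeGroup.lift f

theorem pres_of (x : X) : pres f (FreeGroup.of x) = f x := by
  unfold pres; simp

/-- `[F, R]` -/
def relComm : Subgroup (FreeGroup X) := ⁅(⊤ : Subgroup (FreeGroup X)), (pres f).ker⁆

instance relComm_normal : (relComm f).Normal := by unfold relComm; infer_instance

theorem relComm_le_ker : relComm f ≤ (pres f).ker :=
  Subgroup.commutator_le_right ⊤ (pres f).ker

theorem relComm_le_commutator : relComm f ≤ commutator (FreeGroup X) := by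
  unfold relComm
  rw [commutator_def]
  exact Subgroup.commutator_mono le_rfl le_top

/-- the "free central extension" `F/[F,R]`. -/
abbrev Cov := FreeGroup X ⧸ relComm f

/-- `F/[F,R] → Q`. -/
def covMap : Cov f →* Q := QuotientGroup.lift (relComm f) (pres f) (relComm_le_ker f)

theorem covMap_mk (a : FreeGroup X) : covMap f (QuotientGroup.mk a) = pres f a := rfl

theorem covMap_surjective (h : Function.Surjective (pres f)) : Function.Surjective (covMap f) := by
  intro q
  obtain ⟨a, rfl⟩ := h q
  exact ⟨QuotientGroup.mk a, rfl⟩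

theorem covKer_le_center : (covMap f).ker ≤ Subgroup.center (Cov f) := by
  intro c hc
  obtain ⟨a, rfl⟩ := QuotientGroup.mk_surjective c
  rw [Subgroup.mem_center_iff]
  intro d
  obtain ⟨b, rfl⟩ := QuotientGroup.mk_surjective d
  have ha : a ∈ (pres f).ker := hc
  have h1 : ⁅b, a⁆ ∈ relComm f := Subgroup.commutator_mem_commutator (Subgroup.mem_top b) ha
  have h2 : (QuotientGroup.mk ⁅b, a⁆ : Cov f) = 1 := (QuotientGroup.eq_one_iff _).2 h1
  rw [commutatorElement_def] at h2
  have h3 : (QuotientGroup.mk b : Cov f) * QuotientGroup.mk a * (QuotientGroup.mk b)⁻¹ *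
      (QuotientGroup.mk a)⁻¹ = 1 := h2
  calc (QuotientGroup.mk b : Cov f) * QuotientGroup.mk a
      = ((QuotientGroup.mk b : Cov f) * QuotientGroup.mk a * (QuotientGroup.mk b)⁻¹ *
        (QuotientGroup.mk a)⁻¹) * (QuotientGroup.mk a * QuotientGroup.mk b) := by group
    _ = QuotientGroup.mk a * QuotientGroup.mk b := by rw [h3, one_mul]

/-- projectivity of the free central extension. -/
theorem cov_lift {E : Type v} [Group E] (ξ : E →* Q) (hξ : Function.Surjective ξ)
    (hc : ξ.ker ≤ Subgroup.center E) : ∃ φ : Cov f →* E, ξ.comp φ = covMap f := by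
  choose s hs using hξ
  let φ₀ : FreeGroup X →* E := FreeGroup.lift (fun x => s (f x))
  have h0 : ∀ a, ξ (φ₀ a) = pres f a := by
    intro a
    have : ξ.comp φ₀ = pres f := by
      ext x
      simp [φ₀, pres, hs]
    exact DFunLike.congr_fun this a
  have hker : relComm f ≤ φ₀.ker := by
    unfold relComm
    rw [Subgroup.commutator_le]
    intro a _ b hb
    rw [MonoidHom.mem_ker, map_commutatorElement]
    have hb' : φ₀ b ∈ Subgroup.center E := by
      apply hc
      rw [MonoidHom.mem_ker, h0]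
      exact hb
    rw [commutatorElement_eq_one_iff_commute]
    exact ((Subgroup.mem_center_iff.1 hb') (φ₀ a))
  refine ⟨QuotientGroup.lift (relComm f) φ₀ hker, ?_⟩
  apply MonoidHom.ext
  intro c
  obtain ⟨a, rfl⟩ := QuotientGroup.mk_surjective c
  exact h0 a

/-- the map to the (free abelian) abelianization of `F`. -/
def covAb : Cov f →* Abelianization (FreeGroup X) :=
  QuotientGroup.lift (relComm f) Abelianization.of (by
    rw [Abelianization.ker_of]; exact relComm_le_commutator f)

theorem covAb_mk (a : FreeGroup X) : covAb f (QuotientGroup.mk a) = Abelianization.of a := rfl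

theorem covAb_ker : (covAb f).ker = commutator (Cov f) := by
  apply le_antisymm
  · intro c hc
    obtain ⟨a, rfl⟩ := QuotientGroup.mk_surjective c
    rw [MonoidHom.mem_ker, covAb_mk, ← MonoidHom.mem_ker, Abelianization.ker_of] at hc
    have : (QuotientGroup.mk' (relComm f)) a ∈ (commutator (FreeGroup X)).map
        (QuotientGroup.mk' (relComm f)) := Subgroup.mem_map_of_mem _ hc
    rw [commutator_def, Subgroup.map_commutator, ← MonoidHom.range_eq_map,
      MonoidHom.range_eq_top.2 (QuotientGroup.mk'_surjective _)] at this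
    exact this
  · exact Abelianization.commutator_subset_ker (covAb f)

/-- the Hopf multiplier `(R ∩ F')/[F,R]` as a subgroup of `F/[F,R]`. -/
def mult : Subgroup (Cov f) := (covMap f).ker ⊓ commutator (Cov f)

theorem mult_le_center : mult f ≤ Subgroup.center (Cov f) :=
  inf_le_left.trans (covKer_le_center f)

theorem ker_finiteIndex [Finite Q] (h : Function.Surjective (pres f)) :
    (covMap f).ker.FiniteIndex := by
  constructor
  rw [Subgroup.index_ker, MonoidHom.range_eq_top.2 (covMap_surjective f h)]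
  rw [Nat.card_congr (Subgroup.topEquiv (G := Q)).toEquiv]
  exact Nat.card_pos.ne'

theorem center_finiteIndex [Finite Q] (h : Function.Surjective (pres f)) :
    (Subgroup.center (Cov f)).FiniteIndex := by
  have := ker_finiteIndex f h
  exact Subgroup.finiteIndex_of_le (covKer_le_center f)

theorem commutator_finite [Finite Q] (h : Function.Surjective (pres f)) :
    Finite (commutator (Cov f)) := by
  have := center_finiteIndex f h
  exact finite_commutator_of_finiteIndex_center

theorem mult_finite [Finite Q] (h : Function.Surjective (pres f)) : Finite (mult f) := by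
  have := commutator_finite f h
  exact Finite.of_injective (fun x : mult f => (⟨x.1, x.2.2⟩ : commutator (Cov f)))
    (fun a b hab => Subtype.ext (Subtype.mk.inj hab))

/-- commutative group structure on a central subgroup -/
@[reducible] def commGroupOfCentral {G : Type*} [Group G] (N : Subgroup G)
    (hN : N ≤ Subgroup.center G) : CommGroup N :=
  { (inferInstance : Group N) with
    mul_comm := fun a b => Subtype.ext ((Subgroup.mem_center_iff.1 (hN b.2) a.1)) }

theorem exists_complement_in [Finite X] (N : Subgroup (Cov f)) (hN : N ≤ (covMap f).ker) :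
    ∃ S : Subgroup (Cov f), S ≤ N ∧ S ⊓ commutator (Cov f) = ⊥ ∧
      N ≤ S ⊔ (N ⊓ commutator (Cov f)) := by
  let _ : CommGroup N := commGroupOfCentral N (hN.trans (covKer_le_center f))
  let ψ : N →* Multiplicative (FreeAbelianGroup X) :=
    { toFun := fun n => Multiplicative.ofAdd (Additive.ofMul (covAb f n.1) : FreeAbelianGroup X)
      map_one' := by simp; rfl
      map_mul' := by intro a b; simp; rfl }
  have hψ : ∀ n : N, ψ n = 1 ↔ n.1 ∈ commutator (Cov f) := by
    intro n
    rw [← covAb_ker, MonoidHom.mem_ker]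
    constructor
    · intro h
      exact h
    · intro h
      exact h
  obtain ⟨S₀, h1, h2⟩ := exists_section_of_free ψ
  refine ⟨S₀.map N.subtype, Subgroup.map_subtype_le S₀, ?_, ?_⟩
  · rw [eq_bot_iff]
    rintro x ⟨⟨n, hn, rfl⟩, hx⟩
    have : n ∈ S₀ ⊓ ψ.ker := ⟨hn, (hψ n).2 hx⟩
    rw [h1, Subgroup.mem_bot] at this
    rw [this]
    exact Subgroup.one_mem _
  · intro n hn
    have : (⟨n, hn⟩ : N) ∈ S₀ ⊔ ψ.ker := by rw [h2]; exact Subgroup.mem_top _
    obtain ⟨s, hs, k, hk, hsk⟩ := Subgroup.mem_sup.1 this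
    have e : n = s.1 * k.1 := by
      have := congrArg Subtype.val hsk
      exact this.symm
    rw [e]
    exact Subgroup.mul_mem_sup (Subgroup.mem_map_of_mem _ hs) ⟨k.2, (hψ k).1 hk⟩

end cover

section schurCover
variable {Q : Type u} [Group Q] {X : Type w} (f : X → Q) (S : Subgroup (Cov f)) [S.Normal]

/-- the map `F/[F,R]/S → Q`. -/
def coverMap (hS1 : S ≤ (covMap f).ker) : Cov f ⧸ S →* Q := QuotientGroup.lift S (covMap f) hS1

theorem coverMap_mk (hS1 : S ≤ (covMap f).ker) (c : Cov f) :
    coverMap f S hS1 (QuotientGroup.mk c) = covMap f c := rfl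

theorem coverMap_surjective (hS1 : S ≤ (covMap f).ker) (h : Function.Surjective (pres f)) :
    Function.Surjective (coverMap f S hS1) := by
  intro q
  obtain ⟨c, rfl⟩ := covMap_surjective f h q
  exact ⟨QuotientGroup.mk c, rfl⟩

theorem mem_coverMap_ker (hS1 : S ≤ (covMap f).ker) (x : Cov f ⧸ S) :
    x ∈ (coverMap f S hS1).ker ↔ ∃ c ∈ (covMap f).ker, (QuotientGroup.mk c : Cov f ⧸ S) = x := by
  constructor
  · intro hx
    obtain ⟨c, rfl⟩ := QuotientGroup.mk_surjective x
    exact ⟨c, hx, rfl⟩
  · rintro ⟨c, hc, rfl⟩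
    exact hc

theorem map_commutator_le : (commutator (Cov f)).map (QuotientGroup.mk' S) ≤
    commutator (Cov f ⧸ S) := by
  rw [commutator_def, Subgroup.map_commutator, commutator_def]
  exact Subgroup.commutator_mono le_top le_top

theorem coverMap_isStem (hS1 : S ≤ (covMap f).ker) (hS3 : (covMap f).ker ≤ S ⊔ mult f)
    (h : Function.Surjective (pres f)) : Cfsg.IsStemExtension (coverMap f S hS1) := by
  refine ⟨coverMap_surjective f S hS1 h, ?_, ?_⟩
  · intro x hx
    obtain ⟨c, hc, rfl⟩ := (mem_coverMap_ker f S hS1 x).1 hx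
    rw [Subgroup.mem_center_iff]
    intro y
    obtain ⟨d, rfl⟩ := QuotientGroup.mk_surjective y
    have := Subgroup.mem_center_iff.1 (covKer_le_center f hc) d
    rw [← QuotientGroup.mk_mul, ← QuotientGroup.mk_mul, this]
  · intro x hx
    obtain ⟨c, hc, rfl⟩ := (mem_coverMap_ker f S hS1 x).1 hx
    obtain ⟨s, hs, m, hm, rfl⟩ := Subgroup.mem_sup_of_normal_left.1 (hS3 hc)
    have e : (QuotientGroup.mk (s * m) : Cov f ⧸ S) = QuotientGroup.mk m := by
      rw [QuotientGroup.mk_mul, (QuotientGroup.eq_one_iff s).2 hs, one_mul]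
    rw [e]
    exact map_commutator_le f S (Subgroup.mem_map_of_mem _ hm.2)

/-- the multiplier is isomorphic to the kernel of the cover. -/
theorem mult_equiv_ker (hS1 : S ≤ (covMap f).ker) (hS2 : S ⊓ commutator (Cov f) = ⊥)
    (hS3 : (covMap f).ker ≤ S ⊔ mult f) :
    Nonempty (mult f ≃* (coverMap f S hS1).ker) := by
  let φ : mult f →* (coverMap f S hS1).ker :=
    { toFun := fun m => ⟨QuotientGroup.mk m.1, (mem_coverMap_ker f S hS1 _).2 ⟨m.1, m.2.1, rfl⟩⟩
      map_one' := rfl
      map_mul' := fun a b => rfl }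
  refine ⟨MulEquiv.ofBijective φ ⟨?_, ?_⟩⟩
  · rw [injective_iff_map_eq_one]
    intro m hm
    have h1 : (QuotientGroup.mk m.1 : Cov f ⧸ S) = 1 := congrArg Subtype.val hm
    have h2 : m.1 ∈ S := (QuotientGroup.eq_one_iff _).1 h1
    have h3 : m.1 ∈ S ⊓ commutator (Cov f) := ⟨h2, m.2.2⟩
    rw [hS2, Subgroup.mem_bot] at h3
    exact Subtype.ext h3
  · rintro ⟨x, hx⟩
    obtain ⟨c, hc, rfl⟩ := (mem_coverMap_ker f S hS1 x).1 hx
    obtain ⟨s, hs, m, hm, rfl⟩ := Subgroup.mem_sup_of_normal_left.1 (hS3 hc)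
    refine ⟨⟨m, hm⟩, ?_⟩
    apply Subtype.ext
    change (QuotientGroup.mk m : Cov f ⧸ S) = QuotientGroup.mk (s * m)
    rw [QuotientGroup.mk_mul, (QuotientGroup.eq_one_iff s).2 hs, one_mul]

theorem cover_finite [Finite Q] (hS1 : S ≤ (covMap f).ker) (hS2 : S ⊓ commutator (Cov f) = ⊥)
    (hS3 : (covMap f).ker ≤ S ⊔ mult f) (h : Function.Surjective (pres f)) :
    Finite (Cov f ⧸ S) := by
  obtain ⟨e⟩ := mult_equiv_ker f S hS1 hS2 hS3
  have := mult_finite f h
  have : Finite (coverMap f S hS1).ker := Finite.of_equiv _ e.toEquiv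
  exact finite_of_finite_ker (coverMap f S hS1)

end schurCover

section universal
variable {Q : Type u} [Group Q] {X : Type w} (f : X → Q)

theorem commutator_le_map {E : Type v} [Group E] (ξ : E →* Q) (hc : ξ.ker ≤ Subgroup.center E)
    (φ : Cov f →* E) (hφ : ξ.comp φ = covMap f) (hsurj : Function.Surjective (pres f)) :
    commutator E ≤ (commutator (Cov f)).map φ := by
  have hφ' : ∀ c, ξ (φ c) = covMap f c := fun c => DFunLike.congr_fun hφ c
  have hdecomp : ∀ e : E, ∃ c : Cov f, (φ c)⁻¹ * e ∈ Subgroup.center E := by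
    intro e
    obtain ⟨c, hc'⟩ := covMap_surjective f hsurj (ξ e)
    refine ⟨c, hc ?_⟩
    rw [MonoidHom.mem_ker, map_mul, map_inv, hφ', hc', inv_mul_cancel]
  rw [commutator_eq_closure, Subgroup.closure_le]
  rintro _ ⟨e₁, e₂, rfl⟩
  obtain ⟨c₁, h1⟩ := hdecomp e₁
  obtain ⟨c₂, h2⟩ := hdecomp e₂
  have e1 : e₁ = φ c₁ * ((φ c₁)⁻¹ * e₁) := by group
  have e2 : e₂ = φ c₂ * ((φ c₂)⁻¹ * e₂) := by group
  rw [e1, e2, comm_mul_central_left h1, comm_mul_central_right h2, ← map_commutatorElement]
  exact Subgroup.mem_map_of_mem _ (Subgroup.commutator_mem_commutator (Subgroup.mem_top _)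
    (Subgroup.mem_top _))

theorem map_mult_eq {E : Type v} [Group E] (ξ : E →* Q) (hc : ξ.ker ≤ Subgroup.center E)
    (φ : Cov f →* E) (hφ : ξ.comp φ = covMap f) (hsurj : Function.Surjective (pres f)) :
    (mult f).map φ = ξ.ker ⊓ commutator E := by
  have hφ' : ∀ c, ξ (φ c) = covMap f c := fun c => DFunLike.congr_fun hφ c
  apply le_antisymm
  · rintro _ ⟨m, hm, rfl⟩
    refine ⟨?_, ?_⟩
    · have h0 : covMap f m = 1 := MonoidHom.mem_ker.1 hm.1
      exact MonoidHom.mem_ker.2 (by rw [hφ', h0])
    · have : φ m ∈ (commutator (Cov f)).map φ := Subgroup.mem_map_of_mem _ hm.2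
      rw [commutator_def, Subgroup.map_commutator] at this
      rw [commutator_def]
      exact Subgroup.commutator_mono le_top le_top this
  · rintro e ⟨he1, he2⟩
    obtain ⟨c, hc1, rfl⟩ := commutator_le_map f ξ hc φ hφ hsurj he2
    refine ⟨c, ⟨?_, hc1⟩, rfl⟩
    have h0 : ξ (φ c) = 1 := MonoidHom.mem_ker.1 he1
    exact MonoidHom.mem_ker.2 (by rw [← hφ', h0])

theorem lift_surjective_of_stem {E : Type v} [Group E] (ξ : E →* Q)
    (hξ : Cfsg.IsStemExtension ξ)
    (φ : Cov f →* E) (hφ : ξ.comp φ = covMap f) (hsurj : Function.Surjective (pres f)) :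
    Function.Surjective φ := by
  have hφ' : ∀ c, ξ (φ c) = covMap f c := fun c => DFunLike.congr_fun hφ c
  intro e
  obtain ⟨c, hc'⟩ := covMap_surjective f hsurj (ξ e)
  have h1 : (φ c)⁻¹ * e ∈ ξ.ker := by
    rw [MonoidHom.mem_ker, map_mul, map_inv, hφ', hc', inv_mul_cancel]
  obtain ⟨d, _, hd⟩ := commutator_le_map f ξ hξ.2.1 φ hφ hsurj (hξ.2.2 h1)
  refine ⟨c * d, ?_⟩
  rw [map_mul, hd]
  group

/-- the kernel of any stem extension is an image of the Hopf multiplier. -/
theorem exists_surjective_mult_ker {Δ : Type v} [Group Δ] (τ : Δ →* Q)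
    (hτ : Cfsg.IsStemExtension τ) (hsurj : Function.Surjective (pres f)) :
    ∃ π : mult f →* τ.ker, Function.Surjective π := by
  obtain ⟨φ, hφ⟩ := cov_lift f τ hτ.1 hτ.2.1
  have hφ' : ∀ c, τ (φ c) = covMap f c := fun c => DFunLike.congr_fun hφ c
  have hmap := map_mult_eq f τ hτ.2.1 φ hφ hsurj
  have hker : τ.ker ⊓ commutator Δ = τ.ker := inf_eq_left.2 hτ.2.2
  rw [hker] at hmap
  let π : mult f →* τ.ker :=
    { toFun := fun m => ⟨φ m.1, by rw [← hmap]; exact Subgroup.mem_map_of_mem _ m.2⟩
      map_one' := by apply Subtype.ext; simp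
      map_mul' := by intro a b; apply Subtype.ext; simp }
  refine ⟨π, ?_⟩
  rintro ⟨k, hk⟩
  rw [← hmap] at hk
  obtain ⟨m, hm, rfl⟩ := hk
  exact ⟨⟨m, hm⟩, rfl⟩

end universal

end Cfsg.Agent.Helper3.SchurMult
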