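import Mathlib
import Cfsg.Prelude.Def_KGroupFacts
import Cfsg.Agent.Helper3.SchurMultA

set_option autoImplicit false

namespace Cfsg.Agent.Helper3.SchurMult

universe u v w w'

open scoped commutatorElement

section
variable {Q : Type u} [Group Q] [Finite Q] {X : Type w} [Finite X] (f : X → Q)

theorem exists_schur_complement :
    ∃ S : Subgroup (Cov f), S ≤ (covMap f).ker ∧ S ⊓ commutator (Cov f) = ⊥ ∧
      (covMap f).ker ≤ S ⊔ mult f :=
  exists_complement_in f (covMap f).ker le_rfl

/-- existence of a Schur cover built from the presentation. -/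
theorem exists_cover (hsurj : Function.Surjective (pres f)) :
    ∃ (Γ : Type w) (_ : Group Γ) (_ : Finite Γ) (σ : Γ →* Q),
      Cfsg.IsStemExtension σ ∧ Nonempty (mult f ≃* σ.ker) := by
  obtain ⟨S, hS1, hS2, hS3⟩ := exists_schur_complement f
  have hn : S.Normal := normal_of_le_center S (hS1.trans (covKer_le_center f))
  exact ⟨Cov f ⧸ S, inferInstance, cover_finite f S hS1 hS2 hS3 hsurj, coverMap f S hS1,
    coverMap_isStem f S hS1 hS3 hsurj, mult_equiv_ker f S hS1 hS2 hS3⟩

theorem card_mult_le {X' : Type w'} [Finite X'] (f' : X' → Q)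
    (hsurj : Function.Surjective (pres f)) (hsurj' : Function.Surjective (pres f')) :
    Nat.card (mult f') ≤ Nat.card (mult f) := by
  obtain ⟨Γ, _, _, σ, hσ, ⟨e⟩⟩ := exists_cover f' hsurj'
  obtain ⟨π, hπ⟩ := exists_surjective_mult_ker f σ hσ hsurj
  have := mult_finite f hsurj
  rw [Nat.card_congr e.toEquiv]
  exact Nat.card_le_card_of_surjective π hπ

theorem card_mult_eq {X' : Type w'} [Finite X'] (f' : X' → Q)
    (hsurj : Function.Surjective (pres f)) (hsurj' : Function.Surjective (pres f')) :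
    Nat.card (mult f') = Nat.card (mult f) :=
  le_antisymm (card_mult_le f f' hsurj hsurj') (card_mult_le f' f hsurj' hsurj)

end

section char
variable {Q : Type u} [Group Q] [Finite Q]

theorem pres_id_surjective : Function.Surjective (pres (id : Q → Q)) := by
  intro q
  exact ⟨FreeGroup.of q, pres_of _ q⟩

/-- the Hopf multiplier of the canonical presentation is "the" Schur multiplier. -/
theorem hasSchurMultiplier_mult :
    @Cfsg.HasSchurMultiplier Q _ (mult (id : Q → Q))
      (commGroupOfCentral _ (mult_le_center (id : Q → Q))) := by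
  refine ⟨?_, ?_⟩
  · obtain ⟨Γ, hG, hF, σ, hσ, ⟨e⟩⟩ := exists_cover (id : Q → Q) pres_id_surjective
    exact ⟨Γ, hG, hF, σ, hσ, ⟨e.symm⟩⟩
  · intro Γ _ _ σ hσ
    exact exists_surjective_mult_ker (id : Q → Q) σ hσ pres_id_surjective

/-- any `A` with `HasSchurMultiplier Q A` is isomorphic to the Hopf multiplier of any
finite presentation. -/
theorem equiv_of_hasSchurMultiplier {A : Type v} [CommGroup A] (hA : Cfsg.HasSchurMultiplier Q A)
    {X : Type w} [Finite X] (f : X → Q) (hsurj : Function.Surjective (pres f)) :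
    Nonempty (mult f ≃* A) := by
  obtain ⟨⟨Γ₀, hG, hF, σ₀, hσ₀, ⟨e₀⟩⟩, hA2⟩ := hA
  obtain ⟨π, hπ⟩ := exists_surjective_mult_ker f σ₀ hσ₀ hsurj
  have hfin := mult_finite f hsurj
  -- a cover in the universe of Q
  obtain ⟨Γ, hG', hF', σ, hσ, ⟨e⟩⟩ := exists_cover (id : Q → Q) pres_id_surjective
  obtain ⟨π', hπ'⟩ := hA2 Γ σ hσ
  have hfinA : Finite A := Finite.of_surjective (e₀ ∘ π) (e₀.surjective.comp hπ)
  have h1 : Nat.card (mult (id : Q → Q)) ≤ Nat.card A := by
    rw [Nat.card_congr e.toEquiv]
    exact Nat.card_le_card_of_surjective π' hπ'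
  have h2 : Nat.card (mult f) = Nat.card (mult (id : Q → Q)) :=
    card_mult_eq (id : Q → Q) f pres_id_surjective hsurj
  have h3 : Nat.card A ≤ Nat.card (mult f) :=
    Nat.card_le_card_of_surjective (e₀ ∘ π) (e₀.surjective.comp hπ)
  have hcard : Nat.card (mult f) = Nat.card A := by omega
  have hbij : Function.Bijective (e₀.toMonoidHom.comp π) :=
    Function.Surjective.bijective_of_nat_card_le (f := e₀.toMonoidHom.comp π)
      (e₀.surjective.comp hπ) hcard.le
  exact ⟨MulEquiv.ofBijective (e₀.toMonoidHom.comp π) hbij⟩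

end char

end Cfsg.Agent.Helper3.SchurMult
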