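import Mathlib
import Cfsg.Prelude.Def_KGroupFacts

set_option autoImplicit false

namespace Cfsg.Agent.Helper3

universe u

/-- The identity map is a stem extension. -/
theorem isStemExtension_id (G : Type u) [Group G] : Cfsg.IsStemExtension (MonoidHom.id G) := by
  refine ⟨Function.surjective_id, ?_, ?_⟩
  · intro x hx
    rw [MonoidHom.mem_ker, MonoidHom.id_apply] at hx
    rw [hx]; exact Subgroup.one_mem _
  · intro x hx
    rw [MonoidHom.mem_ker, MonoidHom.id_apply] at hx
    rw [hx]; exact Subgroup.one_mem _

/-- To show that a finite group has trivial Schur multiplier it suffices to show that every finite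
stem extension has trivial kernel. -/
theorem hasCyclicSchurMultiplier_one_of {G : Type u} [Group G] [Finite G]
    (h : ∀ (Γ : Type u) [Group Γ] [Finite Γ] (σ : Γ →* G), Cfsg.IsStemExtension σ → σ.ker = ⊥) :
    Cfsg.HasCyclicSchurMultiplier G 1 := by
  refine ⟨⟨G, inferInstance, inferInstance, MonoidHom.id G, isStemExtension_id G, ⟨?_⟩⟩, ?_⟩
  · have hk : ∀ x : (MonoidHom.id G).ker, x = 1 := by
      intro x
      apply Subtype.ext
      have := x.2
      rw [MonoidHom.mem_ker, MonoidHom.id_apply] at this
      exact this
    exact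
      { toFun := fun _ => 1
        invFun := fun _ => 1
        left_inv := fun x => (hk x).symm
        right_inv := fun y => Subsingleton.elim _ _
        map_mul' := fun _ _ => by simp }
  · intro Γ _ _ σ hσ
    refine ⟨1, ?_⟩
    intro y
    refine ⟨1, ?_⟩
    have hy : (y : Γ) ∈ (⊥ : Subgroup Γ) := (h Γ σ hσ) ▸ y.2
    rw [Subgroup.mem_bot] at hy
    apply Subtype.ext
    simp [hy]

end Cfsg.Agent.Helper3
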