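import Mathlib
import Cfsg.Agent.Helper3.Co1ZGr
import Cfsg.Agent.Helper2.Co2MXDat

/-!
# Generators of the first Conway group for the Schur multiplier: checks of words, part EX, definition

Each word is checked to be the identity or the negation on the 24 vectors with one coordinate 8, six
vectors at a time (`Co1ZG.blockChk`).
-/

set_option autoImplicit false
set_option maxRecDepth 100000

namespace Cfsg.Agent.Helper3.Co1ZG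

open Cfsg.Agent.Helper2.Co2M

/-- the new words of the top stage. -/
def EX : List (List ℕ) := [[8, 7, 7, 8, 7, 7, 0, 0, 3, 3, 3, 1, 1, 1, 2, 2],
  [8, 2, 6, 8, 6, 4, 0, 5, 9, 5, 1, 7, 3, 6, 2, 6, 5, 0, 5, 1, 5, 0, 0, 0],
  [8, 6, 6, 8, 6, 2, 7, 1, 4, 4, 9, 0, 7, 2, 5, 7, 5, 2, 7, 2, 0, 7, 1, 5, 2, 4],
  [8, 7, 0, 9, 6, 2, 2, 1, 9, 1, 1, 5, 1, 6, 6, 6, 3, 0, 2, 1, 1, 7, 3, 7, 0],
  [8, 0, 2, 9, 3, 3, 3, 7, 7, 9, 1, 3, 6, 0, 7, 5, 1, 5, 7, 5, 5, 3, 1, 2, 2, 7],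
  [9, 0, 8, 7, 7, 3, 6, 6],
  [9, 2, 8, 7, 7, 3, 0, 0, 2, 2, 1, 3, 1, 2, 1, 2, 6, 6],
  [9, 4, 8, 7, 7, 2, 4, 1, 3, 5, 2, 2, 2, 1, 3, 3, 5, 3, 6, 6],
  [9, 0, 0, 8, 7, 7, 3, 3, 6, 6]]

end Cfsg.Agent.Helper3.Co1ZG
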