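import Mathlib
import Cfsg.Agent.Helper3.Co1ZGr
import Cfsg.Agent.Helper3.Co1ZGb0

/-!
# Generators of the first Conway group for the Schur multiplier: checks of words, part EX 2

Each word is checked to be the identity or the negation on the 24 vectors with one coordinate 8, six
vectors at a time (`Co1ZG.blockChk`).
-/

set_option autoImplicit false
set_option maxRecDepth 100000

namespace Cfsg.Agent.Helper3.Co1ZG

open Cfsg.Agent.Helper2.Co2M

theorem ex_3_b0 : blockChk true (EX.getD 3 []) 0 = true := by decide +kernel

theorem ex_3_b1 : blockChk true (EX.getD 3 []) 6 = true := by decide +kernel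

theorem ex_3_b2 : blockChk true (EX.getD 3 []) 12 = true := by decide +kernel

theorem ex_3_b3 : blockChk true (EX.getD 3 []) 18 = true := by decide +kernel

theorem ex_3 : RelOK true (EX.getD 3 []) := relOK_of_blocks ex_3_b0 ex_3_b1 ex_3_b2 ex_3_b3

theorem ex_4_b0 : blockChk false (EX.getD 4 []) 0 = true := by decide +kernel

theorem ex_4_b1 : blockChk false (EX.getD 4 []) 6 = true := by decide +kernel

theorem ex_4_b2 : blockChk false (EX.getD 4 []) 12 = true := by decide +kernel

theorem ex_4_b3 : blockChk false (EX.getD 4 []) 18 = true := by decide +kernel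

theorem ex_4 : RelOK false (EX.getD 4 []) := relOK_of_blocks ex_4_b0 ex_4_b1 ex_4_b2 ex_4_b3

theorem ex_5_b0 : blockChk false (EX.getD 5 []) 0 = true := by decide +kernel

theorem ex_5_b1 : blockChk false (EX.getD 5 []) 6 = true := by decide +kernel

theorem ex_5_b2 : blockChk false (EX.getD 5 []) 12 = true := by decide +kernel

theorem ex_5_b3 : blockChk false (EX.getD 5 []) 18 = true := by decide +kernel

theorem ex_5 : RelOK false (EX.getD 5 []) := relOK_of_blocks ex_5_b0 ex_5_b1 ex_5_b2 ex_5_b3

end Cfsg.Agent.Helper3.Co1ZG
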