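import Mathlib
import Cfsg.Agent.Helper3.Co1ZGr
import Cfsg.Agent.Helper3.Co1ZGb1
import Cfsg.Agent.Helper3.Co1ZGb2
import Cfsg.Agent.Helper3.Co1ZGb3

/-!
# Generators of the first Conway group for the Schur multiplier: checks of words, part EX, summary

Each word is checked to be the identity or the negation on the 24 vectors with one coordinate 8, six
vectors at a time (`Co1ZG.blockChk`).
-/

set_option autoImplicit false
set_option maxRecDepth 100000

namespace Cfsg.Agent.Helper3.Co1ZG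

open Cfsg.Agent.Helper2.Co2M

theorem ex_all : ∀ r ∈ EX, ∃ s, RelOK s r := by
  intro r hr
  have e : EX = [EX.getD 0 [], EX.getD 1 [], EX.getD 2 [], EX.getD 3 [], EX.getD 4 [], EX.getD 5 [], EX.getD 6 [], EX.getD 7 [], EX.getD 8 []] := by decide
  rw [e] at hr
  simp only [List.mem_cons, List.not_mem_nil, or_false] at hr
  rcases hr with rfl | rfl | rfl | rfl | rfl | rfl | rfl | rfl | rfl
  · exact ⟨_, ex_0⟩
  · exact ⟨_, ex_1⟩
  · exact ⟨_, ex_2⟩
  · exact ⟨_, ex_3⟩
  · exact ⟨_, ex_4⟩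
  · exact ⟨_, ex_5⟩
  · exact ⟨_, ex_6⟩
  · exact ⟨_, ex_7⟩
  · exact ⟨_, ex_8⟩

end Cfsg.Agent.Helper3.Co1ZG
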