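import Mathlib
import Cfsg.Agent.Helper3.Co1ZGr

/-!
# Generators of the first Conway group for the Schur multiplier: checks of words, part inverses

Each word is checked to be the identity or the negation on the 24 vectors with one coordinate 8, six
vectors at a time (`Co1ZG.blockChk`).
-/

set_option autoImplicit false
set_option maxRecDepth 100000

namespace Cfsg.Agent.Helper3.Co1ZG


theorem inv_0_b0 : blockChk false ([0, 1]) 0 = true := by decide +kernel

theorem inv_0_b1 : blockChk false ([0, 1]) 6 = true := by decide +kernel

theorem inv_0_b2 : blockChk false ([0, 1]) 12 = true := by decide +kernel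

theorem inv_0_b3 : blockChk false ([0, 1]) 18 = true := by decide +kernel

theorem inv_0 : RelOK false ([0, 1]) := relOK_of_blocks inv_0_b0 inv_0_b1 inv_0_b2 inv_0_b3

theorem inv_1_b0 : blockChk false ([2, 3]) 0 = true := by decide +kernel

theorem inv_1_b1 : blockChk false ([2, 3]) 6 = true := by decide +kernel

theorem inv_1_b2 : blockChk false ([2, 3]) 12 = true := by decide +kernel

theorem inv_1_b3 : blockChk false ([2, 3]) 18 = true := by decide +kernel

theorem inv_1 : RelOK false ([2, 3]) := relOK_of_blocks inv_1_b0 inv_1_b1 inv_1_b2 inv_1_b3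

theorem inv_2_b0 : blockChk false ([4, 5]) 0 = true := by decide +kernel

theorem inv_2_b1 : blockChk false ([4, 5]) 6 = true := by decide +kernel

theorem inv_2_b2 : blockChk false ([4, 5]) 12 = true := by decide +kernel

theorem inv_2_b3 : blockChk false ([4, 5]) 18 = true := by decide +kernel

theorem inv_2 : RelOK false ([4, 5]) := relOK_of_blocks inv_2_b0 inv_2_b1 inv_2_b2 inv_2_b3

theorem inv_3_b0 : blockChk false ([6, 7]) 0 = true := by decide +kernel

theorem inv_3_b1 : blockChk false ([6, 7]) 6 = true := by decide +kernel

theorem inv_3_b2 : blockChk false ([6, 7]) 12 = true := by decide +kernel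

theorem inv_3_b3 : blockChk false ([6, 7]) 18 = true := by decide +kernel

theorem inv_3 : RelOK false ([6, 7]) := relOK_of_blocks inv_3_b0 inv_3_b1 inv_3_b2 inv_3_b3

theorem inv_4_b0 : blockChk false ([8, 9]) 0 = true := by decide +kernel

theorem inv_4_b1 : blockChk false ([8, 9]) 6 = true := by decide +kernel

theorem inv_4_b2 : blockChk false ([8, 9]) 12 = true := by decide +kernel

theorem inv_4_b3 : blockChk false ([8, 9]) 18 = true := by decide +kernel

theorem inv_4 : RelOK false ([8, 9]) := relOK_of_blocks inv_4_b0 inv_4_b1 inv_4_b2 inv_4_b3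

theorem inv_5_b0 : blockChk false ([10, 11]) 0 = true := by decide +kernel

theorem inv_5_b1 : blockChk false ([10, 11]) 6 = true := by decide +kernel

theorem inv_5_b2 : blockChk false ([10, 11]) 12 = true := by decide +kernel

theorem inv_5_b3 : blockChk false ([10, 11]) 18 = true := by decide +kernel

theorem inv_5 : RelOK false ([10, 11]) := relOK_of_blocks inv_5_b0 inv_5_b1 inv_5_b2 inv_5_b3

theorem inv_6_b0 : blockChk false ([12, 13]) 0 = true := by decide +kernel

theorem inv_6_b1 : blockChk false ([12, 13]) 6 = true := by decide +kernel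

theorem inv_6_b2 : blockChk false ([12, 13]) 12 = true := by decide +kernel

theorem inv_6_b3 : blockChk false ([12, 13]) 18 = true := by decide +kernel

theorem inv_6 : RelOK false ([12, 13]) := relOK_of_blocks inv_6_b0 inv_6_b1 inv_6_b2 inv_6_b3

theorem inv_7_b0 : blockChk false ([14, 15]) 0 = true := by decide +kernel

theorem inv_7_b1 : blockChk false ([14, 15]) 6 = true := by decide +kernel

theorem inv_7_b2 : blockChk false ([14, 15]) 12 = true := by decide +kernel

theorem inv_7_b3 : blockChk false ([14, 15]) 18 = true := by decide +kernel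

theorem inv_7 : RelOK false ([14, 15]) := relOK_of_blocks inv_7_b0 inv_7_b1 inv_7_b2 inv_7_b3

theorem inv_8_b0 : blockChk false ([16, 17]) 0 = true := by decide +kernel

theorem inv_8_b1 : blockChk false ([16, 17]) 6 = true := by decide +kernel

theorem inv_8_b2 : blockChk false ([16, 17]) 12 = true := by decide +kernel

theorem inv_8_b3 : blockChk false ([16, 17]) 18 = true := by decide +kernel

theorem inv_8 : RelOK false ([16, 17]) := relOK_of_blocks inv_8_b0 inv_8_b1 inv_8_b2 inv_8_b3

theorem inv_9_b0 : blockChk false ([18, 19]) 0 = true := by decide +kernel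

theorem inv_9_b1 : blockChk false ([18, 19]) 6 = true := by decide +kernel

theorem inv_9_b2 : blockChk false ([18, 19]) 12 = true := by decide +kernel

theorem inv_9_b3 : blockChk false ([18, 19]) 18 = true := by decide +kernel

theorem inv_9 : RelOK false ([18, 19]) := relOK_of_blocks inv_9_b0 inv_9_b1 inv_9_b2 inv_9_b3

end Cfsg.Agent.Helper3.Co1ZG
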