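import Mathlib
import Cfsg.Agent.Helper3.Co1ZGr

/-!
# Generators of the first Conway group for the Schur multiplier: checks of words, part powers

Each word is checked to be the identity or the negation on the 24 vectors with one coordinate 8, six
vectors at a time (`Co1ZG.blockChk`).
-/

set_option autoImplicit false
set_option maxRecDepth 100000

namespace Cfsg.Agent.Helper3.Co1ZG


theorem pow_0_b0 : blockChk false (List.replicate 7 0) 0 = true := by decide +kernel

theorem pow_0_b1 : blockChk false (List.replicate 7 0) 6 = true := by decide +kernel

theorem pow_0_b2 : blockChk false (List.replicate 7 0) 12 = true := by decide +kernel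

theorem pow_0_b3 : blockChk false (List.replicate 7 0) 18 = true := by decide +kernel

theorem pow_0 : RelOK false (List.replicate 7 0) := relOK_of_blocks pow_0_b0 pow_0_b1 pow_0_b2 pow_0_b3

theorem pow_1_b0 : blockChk false (List.replicate 7 2) 0 = true := by decide +kernel

theorem pow_1_b1 : blockChk false (List.replicate 7 2) 6 = true := by decide +kernel

theorem pow_1_b2 : blockChk false (List.replicate 7 2) 12 = true := by decide +kernel

theorem pow_1_b3 : blockChk false (List.replicate 7 2) 18 = true := by decide +kernel

theorem pow_1 : RelOK false (List.replicate 7 2) := relOK_of_blocks pow_1_b0 pow_1_b1 pow_1_b2 pow_1_b3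

theorem pow_2_b0 : blockChk false (List.replicate 11 4) 0 = true := by decide +kernel

theorem pow_2_b1 : blockChk false (List.replicate 11 4) 6 = true := by decide +kernel

theorem pow_2_b2 : blockChk false (List.replicate 11 4) 12 = true := by decide +kernel

theorem pow_2_b3 : blockChk false (List.replicate 11 4) 18 = true := by decide +kernel

theorem pow_2 : RelOK false (List.replicate 11 4) := relOK_of_blocks pow_2_b0 pow_2_b1 pow_2_b2 pow_2_b3

theorem pow_3_b0 : blockChk false (List.replicate 11 6) 0 = true := by decide +kernel

theorem pow_3_b1 : blockChk false (List.replicate 11 6) 6 = true := by decide +kernel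

theorem pow_3_b2 : blockChk false (List.replicate 11 6) 12 = true := by decide +kernel

theorem pow_3_b3 : blockChk false (List.replicate 11 6) 18 = true := by decide +kernel

theorem pow_3 : RelOK false (List.replicate 11 6) := relOK_of_blocks pow_3_b0 pow_3_b1 pow_3_b2 pow_3_b3

theorem pow_4_b0 : blockChk false (List.replicate 11 8) 0 = true := by decide +kernel

theorem pow_4_b1 : blockChk false (List.replicate 11 8) 6 = true := by decide +kernel

theorem pow_4_b2 : blockChk false (List.replicate 11 8) 12 = true := by decide +kernel

theorem pow_4_b3 : blockChk false (List.replicate 11 8) 18 = true := by decide +kernel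

theorem pow_4 : RelOK false (List.replicate 11 8) := relOK_of_blocks pow_4_b0 pow_4_b1 pow_4_b2 pow_4_b3

theorem pow_00_b0 : blockChk false ((List.replicate 7 [0, 0]).flatten) 0 = true := by decide +kernel

theorem pow_00_b1 : blockChk false ((List.replicate 7 [0, 0]).flatten) 6 = true := by decide +kernel

theorem pow_00_b2 : blockChk false ((List.replicate 7 [0, 0]).flatten) 12 = true := by decide +kernel

theorem pow_00_b3 : blockChk false ((List.replicate 7 [0, 0]).flatten) 18 = true := by decide +kernel

theorem pow_00 : RelOK false ((List.replicate 7 [0, 0]).flatten) := relOK_of_blocks pow_00_b0 pow_00_b1 pow_00_b2 pow_00_b3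

end Cfsg.Agent.Helper3.Co1ZG
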