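import Mathlib
import Cfsg.Agent.Helper3.Co1ZGr

/-!
# Generators of the first Conway group for the Schur multiplier: checks of words, part the Sylow 7-subgroup and the negation

Each word is checked to be the identity or the negation on the 24 vectors with one coordinate 8, six
vectors at a time (`Co1ZG.blockChk`).
-/

set_option autoImplicit false
set_option maxRecDepth 100000

namespace Cfsg.Agent.Helper3.Co1ZG


theorem x7_pow_b0 : blockChk false (List.replicate 7 10) 0 = true := by decide +kernel

theorem x7_pow_b1 : blockChk false (List.replicate 7 10) 6 = true := by decide +kernel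

theorem x7_pow_b2 : blockChk false (List.replicate 7 10) 12 = true := by decide +kernel

theorem x7_pow_b3 : blockChk false (List.replicate 7 10) 18 = true := by decide +kernel

theorem x7_pow : RelOK false (List.replicate 7 10) := relOK_of_blocks x7_pow_b0 x7_pow_b1 x7_pow_b2 x7_pow_b3

theorem y7_pow_b0 : blockChk false (List.replicate 7 12) 0 = true := by decide +kernel

theorem y7_pow_b1 : blockChk false (List.replicate 7 12) 6 = true := by decide +kernel

theorem y7_pow_b2 : blockChk false (List.replicate 7 12) 12 = true := by decide +kernel

theorem y7_pow_b3 : blockChk false (List.replicate 7 12) 18 = true := by decide +kernel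

theorem y7_pow : RelOK false (List.replicate 7 12) := relOK_of_blocks y7_pow_b0 y7_pow_b1 y7_pow_b2 y7_pow_b3

theorem xy7_comm_b0 : blockChk false ([10, 12, 11, 13]) 0 = true := by decide +kernel

theorem xy7_comm_b1 : blockChk false ([10, 12, 11, 13]) 6 = true := by decide +kernel

theorem xy7_comm_b2 : blockChk false ([10, 12, 11, 13]) 12 = true := by decide +kernel

theorem xy7_comm_b3 : blockChk false ([10, 12, 11, 13]) 18 = true := by decide +kernel

theorem xy7_comm : RelOK false ([10, 12, 11, 13]) := relOK_of_blocks xy7_comm_b0 xy7_comm_b1 xy7_comm_b2 xy7_comm_b3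

theorem nx7_b0 : blockChk false ([14, 10, 15, 11, 11]) 0 = true := by decide +kernel

theorem nx7_b1 : blockChk false ([14, 10, 15, 11, 11]) 6 = true := by decide +kernel

theorem nx7_b2 : blockChk false ([14, 10, 15, 11, 11]) 12 = true := by decide +kernel

theorem nx7_b3 : blockChk false ([14, 10, 15, 11, 11]) 18 = true := by decide +kernel

theorem nx7 : RelOK false ([14, 10, 15, 11, 11]) := relOK_of_blocks nx7_b0 nx7_b1 nx7_b2 nx7_b3

theorem ny7_b0 : blockChk false ([14, 12, 15, 13]) 0 = true := by decide +kernel

theorem ny7_b1 : blockChk false ([14, 12, 15, 13]) 6 = true := by decide +kernel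

theorem ny7_b2 : blockChk false ([14, 12, 15, 13]) 12 = true := by decide +kernel

theorem ny7_b3 : blockChk false ([14, 12, 15, 13]) 18 = true := by decide +kernel

theorem ny7 : RelOK false ([14, 12, 15, 13]) := relOK_of_blocks ny7_b0 ny7_b1 ny7_b2 ny7_b3

theorem comm_neg_b0 : blockChk true ([16, 18, 17, 19]) 0 = true := by decide +kernel

theorem comm_neg_b1 : blockChk true ([16, 18, 17, 19]) 6 = true := by decide +kernel

theorem comm_neg_b2 : blockChk true ([16, 18, 17, 19]) 12 = true := by decide +kernel

theorem comm_neg_b3 : blockChk true ([16, 18, 17, 19]) 18 = true := by decide +kernel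

theorem comm_neg : RelOK true ([16, 18, 17, 19]) := relOK_of_blocks comm_neg_b0 comm_neg_b1 comm_neg_b2 comm_neg_b3

end Cfsg.Agent.Helper3.Co1ZG
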