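import Mathlib
import Cfsg.Agent.Helper3.Co1ZGr
import Cfsg.Agent.Helper2.Co2MXDat

/-!
# Generators of the first Conway group for the Schur multiplier: checks of words, part X.CC2 a

Each word is checked to be the identity or the negation on the 24 vectors with one coordinate 8, six
vectors at a time (`Co1ZG.blockChk`).
-/

set_option autoImplicit false
set_option maxRecDepth 100000

namespace Cfsg.Agent.Helper3.Co1ZG

open Cfsg.Agent.Helper2.Co2M

theorem cc2_0_b0 : blockChk false (X.CC2.getD 0 []) 0 = true := by decide +kernel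

theorem cc2_0_b1 : blockChk false (X.CC2.getD 0 []) 6 = true := by decide +kernel

theorem cc2_0_b2 : blockChk false (X.CC2.getD 0 []) 12 = true := by decide +kernel

theorem cc2_0_b3 : blockChk false (X.CC2.getD 0 []) 18 = true := by decide +kernel

theorem cc2_0 : RelOK false (X.CC2.getD 0 []) := relOK_of_blocks cc2_0_b0 cc2_0_b1 cc2_0_b2 cc2_0_b3

theorem cc2_1_b0 : blockChk false (X.CC2.getD 1 []) 0 = true := by decide +kernel

theorem cc2_1_b1 : blockChk false (X.CC2.getD 1 []) 6 = true := by decide +kernel

theorem cc2_1_b2 : blockChk false (X.CC2.getD 1 []) 12 = true := by decide +kernel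

theorem cc2_1_b3 : blockChk false (X.CC2.getD 1 []) 18 = true := by decide +kernel

theorem cc2_1 : RelOK false (X.CC2.getD 1 []) := relOK_of_blocks cc2_1_b0 cc2_1_b1 cc2_1_b2 cc2_1_b3

theorem cc2_2_b0 : blockChk false (X.CC2.getD 2 []) 0 = true := by decide +kernel

theorem cc2_2_b1 : blockChk false (X.CC2.getD 2 []) 6 = true := by decide +kernel

theorem cc2_2_b2 : blockChk false (X.CC2.getD 2 []) 12 = true := by decide +kernel

theorem cc2_2_b3 : blockChk false (X.CC2.getD 2 []) 18 = true := by decide +kernel

theorem cc2_2 : RelOK false (X.CC2.getD 2 []) := relOK_of_blocks cc2_2_b0 cc2_2_b1 cc2_2_b2 cc2_2_b3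

theorem cc2_3_b0 : blockChk false (X.CC2.getD 3 []) 0 = true := by decide +kernel

theorem cc2_3_b1 : blockChk false (X.CC2.getD 3 []) 6 = true := by decide +kernel

theorem cc2_3_b2 : blockChk false (X.CC2.getD 3 []) 12 = true := by decide +kernel

theorem cc2_3_b3 : blockChk false (X.CC2.getD 3 []) 18 = true := by decide +kernel

theorem cc2_3 : RelOK false (X.CC2.getD 3 []) := relOK_of_blocks cc2_3_b0 cc2_3_b1 cc2_3_b2 cc2_3_b3

end Cfsg.Agent.Helper3.Co1ZG
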