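import Mathlib
import Cfsg.Agent.Helper3.Co1ZGr
import Cfsg.Agent.Helper2.Co2MXDat

/-!
# Generators of the first Conway group for the Schur multiplier: checks of words, part X.CC3 b

Each word is checked to be the identity or the negation on the 24 vectors with one coordinate 8, six
vectors at a time (`Co1ZG.blockChk`).
-/

set_option autoImplicit false
set_option maxRecDepth 100000

namespace Cfsg.Agent.Helper3.Co1ZG

open Cfsg.Agent.Helper2.Co2M

theorem cc3_4_b0 : blockChk false (X.CC3.getD 4 []) 0 = true := by decide +kernel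

theorem cc3_4_b1 : blockChk false (X.CC3.getD 4 []) 6 = true := by decide +kernel

theorem cc3_4_b2 : blockChk false (X.CC3.getD 4 []) 12 = true := by decide +kernel

theorem cc3_4_b3 : blockChk false (X.CC3.getD 4 []) 18 = true := by decide +kernel

theorem cc3_4 : RelOK false (X.CC3.getD 4 []) := relOK_of_blocks cc3_4_b0 cc3_4_b1 cc3_4_b2 cc3_4_b3

theorem cc3_5_b0 : blockChk false (X.CC3.getD 5 []) 0 = true := by decide +kernel

theorem cc3_5_b1 : blockChk false (X.CC3.getD 5 []) 6 = true := by decide +kernel

theorem cc3_5_b2 : blockChk false (X.CC3.getD 5 []) 12 = true := by decide +kernel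

theorem cc3_5_b3 : blockChk false (X.CC3.getD 5 []) 18 = true := by decide +kernel

theorem cc3_5 : RelOK false (X.CC3.getD 5 []) := relOK_of_blocks cc3_5_b0 cc3_5_b1 cc3_5_b2 cc3_5_b3

theorem cc3_6_b0 : blockChk false (X.CC3.getD 6 []) 0 = true := by decide +kernel

theorem cc3_6_b1 : blockChk false (X.CC3.getD 6 []) 6 = true := by decide +kernel

theorem cc3_6_b2 : blockChk false (X.CC3.getD 6 []) 12 = true := by decide +kernel

theorem cc3_6_b3 : blockChk false (X.CC3.getD 6 []) 18 = true := by decide +kernel

theorem cc3_6 : RelOK false (X.CC3.getD 6 []) := relOK_of_blocks cc3_6_b0 cc3_6_b1 cc3_6_b2 cc3_6_b3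

theorem cc3_7_b0 : blockChk false (X.CC3.getD 7 []) 0 = true := by decide +kernel

theorem cc3_7_b1 : blockChk false (X.CC3.getD 7 []) 6 = true := by decide +kernel

theorem cc3_7_b2 : blockChk false (X.CC3.getD 7 []) 12 = true := by decide +kernel

theorem cc3_7_b3 : blockChk false (X.CC3.getD 7 []) 18 = true := by decide +kernel

theorem cc3_7 : RelOK false (X.CC3.getD 7 []) := relOK_of_blocks cc3_7_b0 cc3_7_b1 cc3_7_b2 cc3_7_b3

end Cfsg.Agent.Helper3.Co1ZG
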