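import Mathlib
import Cfsg.Agent.Helper3.Co1ZGr
import Cfsg.Agent.Helper2.Co2MXDat
import Cfsg.Agent.Helper3.Co1ZGd4a
import Cfsg.Agent.Helper3.Co1ZGd4b

/-!
# Generators of the first Conway group for the Schur multiplier: checks of words, part X.CC4, summary

Each word is checked to be the identity or the negation on the 24 vectors with one coordinate 8, six
vectors at a time (`Co1ZG.blockChk`).
-/

set_option autoImplicit false
set_option maxRecDepth 100000

namespace Cfsg.Agent.Helper3.Co1ZG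

open Cfsg.Agent.Helper2.Co2M

theorem cc4_all : ∀ r ∈ X.CC4, ∃ s, RelOK s r := by
  intro r hr
  have e : X.CC4 = [X.CC4.getD 0 [], X.CC4.getD 1 [], X.CC4.getD 2 [], X.CC4.getD 3 [], X.CC4.getD 4 [], X.CC4.getD 5 [], X.CC4.getD 6 [], X.CC4.getD 7 []] := by decide
  rw [e] at hr
  simp only [List.mem_cons, List.not_mem_nil, or_false] at hr
  rcases hr with rfl | rfl | rfl | rfl | rfl | rfl | rfl | rfl
  · exact ⟨_, cc4_0⟩
  · exact ⟨_, cc4_1⟩
  · exact ⟨_, cc4_2⟩
  · exact ⟨_, cc4_3⟩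
  · exact ⟨_, cc4_4⟩
  · exact ⟨_, cc4_5⟩
  · exact ⟨_, cc4_6⟩
  · exact ⟨_, cc4_7⟩

end Cfsg.Agent.Helper3.Co1ZG
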