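import Mathlib
import Cfsg.Agent.Helper3.Co1ZGb
import Cfsg.Agent.Helper3.Co1ZGc1
import Cfsg.Agent.Helper3.Co1ZGc2
import Cfsg.Agent.Helper3.Co1ZGc3
import Cfsg.Agent.Helper3.Co1ZGd0
import Cfsg.Agent.Helper3.Co1ZGd1
import Cfsg.Agent.Helper3.Co1ZGd2
import Cfsg.Agent.Helper3.Co1ZGd3
import Cfsg.Agent.Helper3.Co1ZGd4
import Cfsg.Agent.Helper3.Co1ZGd5
import Cfsg.Agent.Helper3.Co1ZGd6
import Cfsg.Agent.Helper2.Co2MXGen
import Cfsg.Agent.Helper2.TwB

/-!
# Generators of the first Conway group for the Schur multiplier: the stages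

The images `gQ i` of the five generators in the quotient by the centre satisfy the words of the
presentation of the stabiliser of a minimal vector (first four generators) and the words of the top
stage.
-/

set_option autoImplicit false

namespace Cfsg.Agent.Helper3.Co1ZG

open Cfsg Cfsg.Agent.Helper5.StemP Cfsg.Agent.Helper2.Tw Cfsg.Agent.Helper2.Co2M

theorem gQ'_odd_of {i : ℕ} (h : RelOK false [2 * i, 2 * i + 1])
    (hr : ∀ c ∈ [2 * i, 2 * i + 1], rowChk c = true) : gQ' (2 * i + 1) = (gQ i)⁻¹ := by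
  have h1 := rel_of_ok hr h
  rw [List.map_cons, List.map_cons, List.map_nil, List.prod_cons, List.prod_cons, List.prod_nil,
    mul_one] at h1
  exact (inv_eq_of_mul_eq_one_right h1).symm

theorem gQ'_odd : ∀ i, i < 10 → gQ' (2 * i + 1) = (gQ i)⁻¹ := by
  intro i hi
  have hr : ∀ c ∈ [2 * i, 2 * i + 1], rowChk c = true := by
    apply rows_ok'
    intro c hc
    simp only [List.mem_cons, List.not_mem_nil, or_false] at hc
    omega
  interval_cases i
  · exact gQ'_odd_of inv_0 hr
  · exact gQ'_odd_of inv_1 hr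
  · exact gQ'_odd_of inv_2 hr
  · exact gQ'_odd_of inv_3 hr
  · exact gQ'_odd_of inv_4 hr
  · exact gQ'_odd_of inv_5 hr
  · exact gQ'_odd_of inv_6 hr
  · exact gQ'_odd_of inv_7 hr
  · exact gQ'_odd_of inv_8 hr
  · exact gQ'_odd_of inv_9 hr

theorem lval_gQ (c : ℕ) (hc : c < 20) : lval gQ c = gQ' c := by
  unfold lval
  by_cases h : c % 2 = 0
  · rw [if_pos h]
    unfold gQ
    congr 1
    omega
  · rw [if_neg h, ← gQ'_odd (c / 2) (by omega)]
    congr 1
    omega

theorem word_lval (r : List ℕ) (hr : ∀ c ∈ r, c < 20) :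
    (r.map (lval gQ)).prod = (r.map gQ').prod := by
  congr 1
  apply List.map_congr_left
  intro c hc
  exact lval_gQ c (hr c hc)

/-- a word that passes the check is trivial in the quotient, as a word in the generators. -/
theorem rel_lval {s : Bool} {r : List ℕ} (hr : ∀ c ∈ r, c < 20) (h : RelOK s r) :
    (r.map (lval gQ)).prod = 1 := by
  rw [word_lval r hr]
  exact rel_of_ok (rows_ok' hr) h

theorem CC_chk : ∀ r ∈ X.CC, ∃ s, RelOK s r := by
  intro r hr
  unfold X.CC at hr
  simp only [List.mem_append] at hr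
  rcases hr with (((((h | h) | h) | h) | h) | h) | h
  · exact cc0_all r h
  · exact cc1_all r h
  · exact cc2_all r h
  · exact cc3_all r h
  · exact cc4_all r h
  · exact cc5_all r h
  · exact cc6_all r h

theorem EX_lt : ∀ r ∈ EX, ∀ c ∈ r, c < 2 * 5 := by decide

theorem gQ_pow_of {i n : ℕ} (hi : 2 * i < 20) (h : RelOK false (List.replicate n (2 * i))) :
    gQ i ^ n = 1 := by
  have hr : ∀ c ∈ List.replicate n (2 * i), c < 20 := by
    intro c hc
    rw [List.eq_of_mem_replicate hc]
    exact hi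
  have h1 := rel_of_ok (rows_ok' hr) h
  rwa [List.map_replicate, List.prod_replicate] at h1

theorem gQ_pow : ∀ i, i < 5 → gQ i ^ X.mm i = 1 := by
  intro i hi
  interval_cases i
  · exact gQ_pow_of (by norm_num) pow_0
  · exact gQ_pow_of (by norm_num) pow_1
  · exact gQ_pow_of (by norm_num) pow_2
  · exact gQ_pow_of (by norm_num) pow_3
  · exact gQ_pow_of (by norm_num) pow_4

/-- the words of the top stage. -/
def CT : List (List ℕ) := EX ++ X.CC

theorem lt20_of_lt {r : List ℕ} {d : ℕ} (hd : 2 * d ≤ 20) (h : ∀ c ∈ r, c < 2 * d) :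
    ∀ c ∈ r, c < 20 := fun c hc => lt_of_lt_of_le (h c hc) hd

/-- the stage of the stabiliser of a minimal vector, in the quotient by the centre. -/
theorem stage4 : Stage gQ X.mm 4 X.CC where
  lt := X.CC_lt
  rel := fun r hr => rel_lval (lt20_of_lt (d := 4) (by norm_num) (X.CC_lt r hr)) (CC_chk r hr).choose_spec
  pow := fun i hi => gQ_pow i (by omega)

theorem CT_lt : ∀ r ∈ CT, ∀ c ∈ r, c < 2 * 5 := by
  intro r hr
  rcases List.mem_append.mp hr with h | h
  · exact EX_lt r h
  · intro c hc
    have := X.CC_lt r h c hc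
    omega

/-- the top stage. -/
theorem stage5 : Stage gQ X.mm 5 CT where
  lt := CT_lt
  rel := by
    intro r hr
    rcases List.mem_append.mp hr with h | h
    · exact rel_lval (lt20_of_lt (d := 5) (by norm_num) (CT_lt r hr)) (ex_all r h).choose_spec
    · exact rel_lval (lt20_of_lt (d := 5) (by norm_num) (CT_lt r hr)) (CC_chk r h).choose_spec
  pow := gQ_pow

end Cfsg.Agent.Helper3.Co1ZG
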