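import Mathlib
import Cfsg.Agent.Helper3.Co1ZS
import Cfsg.Agent.Helper2.Co2MCov
import Cfsg.Agent.Helper4.CovFin
import Cfsg.Agent.Helper9.Co2O.Final
import Cfsg.Agent.Helper9.Leech.Co2Simple

/-!
# The base of the tower for the Schur multiplier of the first Conway group

The covering group of exponent 60 of the presentation `Cfsg.Agent.Helper2.Co2M.X` of the stabiliser
of a minimal vector has the order of this group (its Schur multiplier is trivial), so it is simple;
its image in the quotient of the automorphism group of the lattice by the centre is not trivial, so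
it has the same order: the bound of the lower stage.
-/

set_option autoImplicit false

namespace Cfsg.Agent.Helper3.Co1ZG

open Cfsg Cfsg.Agent.Helper5 Cfsg.Agent.Helper5.StemP Cfsg.Agent.Helper5.LP Cfsg.Agent.Helper5.LTC
  Cfsg.Agent.Helper2.Tw Cfsg.Agent.Helper2.Co2M Cfsg.Agent.Helper4.CovFin
  Cfsg.Agent.Helper9.Golay Cfsg.Agent.Helper9.Leech Cfsg.Agent.Helper9.LeechAct

/-- the presented group (exponent 1) has at most the order of the group. -/
theorem card_cov1 : Finite (CovG 4 X.mm X.CC X.CC 1) ∧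
    Nat.card (CovG 4 X.mm X.CC X.CC 1) ≤ Nat.card P := by
  have := X.card_cov.1
  obtain ⟨h1, h2, h3⟩ := finite_of_finite 4 X.mm X.CC 1 10 (by norm_num) X.CC_lt
  refine ⟨h1, ?_⟩
  have hz : zsub 4 X.mm X.CC 1 = ⊥ := by
    rw [Subgroup.eq_bot_iff_forall]
    intro z hz
    have := zsub_pow 4 X.mm X.CC 1 X.CC_lt z hz
    rwa [pow_one] at this
  rw [hz, Subgroup.card_bot, mul_one, X.card_cov.2] at h3
  exact h3

theorem mm_dvd : ∀ i, i < 4 → X.mm i ∣ 77 := by decide

/-- the covering group of exponent 60 of the presentation of the stabiliser. -/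
theorem card_cov60 : Finite (CovG 4 X.mm X.CC X.CC 60) ∧
    Nat.card (CovG 4 X.mm X.CC X.CC 60) = 42305421312000 := by
  obtain ⟨hfin, hdvd⟩ := card_dvd_of_cyclic (P := P) 4 X.mm X.CC 60 (by norm_num) X.CC_lt
    X.stageC.lt2 X.g X.g_closure X.g_pow X.stageC.rel2 card_cov1 77 mm_dvd (by decide) 1
    Nat.one_pos main
  refine ⟨hfin, ?_⟩
  have h1 : Nat.gcd 1 60 = 1 := by decide
  rw [h1, mul_one, card_P] at hdvd
  have h2 : Nat.card P ≤ Nat.card (CovG 4 X.mm X.CC X.CC 60) :=
    Nat.card_le_card_of_surjective _ (X.stageC.pi_surj 60 X.g_closure)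
  rw [card_P] at h2
  exact le_antisymm (Nat.le_of_dvd (by norm_num) hdvd) h2

/-- the second Conway group of the definitions as a stabiliser in the automorphism group. -/
def co2Equiv : ↥Spor.Co2 ≃* ↥(MulAction.stabilizer ↥Co0 Spor.leechU) where
  toFun g := ⟨⟨g.1, ((Cfsg.Agent.Helper9.Co2O.mem_Co2_iff g.1).1 g.2).1⟩, by
    rw [MulAction.mem_stabilizer_iff]
    exact ((Cfsg.Agent.Helper9.Co2O.mem_Co2_iff g.1).1 g.2).2⟩
  invFun k := ⟨k.1.1, (Cfsg.Agent.Helper9.Co2O.mem_Co2_iff k.1.1).2 ⟨k.1.2, k.2⟩⟩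
  left_inv _ := rfl
  right_inv _ := rfl
  map_mul' _ _ := rfl

theorem simple_P : IsSimpleGroup P := by
  obtain ⟨⟨e⟩, -⟩ := model
  have h1 := (co2_simple_card Spor.leechU Cfsg.Agent.Helper9.Co2O.normU).1
  have h2 : IsSimpleGroup ↥Spor.Co2 := co2Equiv.isSimpleGroup
  exact e.symm.isSimpleGroup

theorem simple_cov60 : IsSimpleGroup (CovG 4 X.mm X.CC X.CC 60) := by
  have := card_cov60.1
  have hs := X.stageC.pi_surj 60 X.g_closure
  have hb : Function.Bijective (X.stageC.pi 60) := by
    apply hs.bijective_of_nat_card_le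
    rw [card_cov60.2, card_P]
  have := simple_P
  exact (MulEquiv.ofBijective (X.stageC.pi 60) hb).isSimpleGroup

/-- the image of a simple group under a homomorphism that does not kill some element is a simple
group of the same order. -/
theorem simple_range_of_ne {P' G' : Type*} [Group P'] [Group G'] (n : ℕ)
    (hP : IsSimpleGroup P' ∧ Nat.card P' = n) (f : P' →* G') (x : P') (hf : f x ≠ 1) :
    IsSimpleGroup ↥f.range ∧ Nat.card ↥f.range = n := by
  have := hP.1
  have hinj : Function.Injective f := by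
    rw [← MonoidHom.ker_eq_bot_iff]
    rcases (inferInstance : (f.ker).Normal).eq_bot_or_eq_top with h | h
    · exact h
    · exfalso
      apply hf
      have : x ∈ f.ker := by rw [h]; exact Subgroup.mem_top _
      exact this
  have e : P' ≃* ↥f.range := MonoidHom.ofInjective hinj
  exact ⟨e.symm.isSimpleGroup_congr.2 hP.1, by
    rw [← Nat.card_congr e.toEquiv]; exact hP.2⟩

end Cfsg.Agent.Helper3.Co1ZG
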