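import Mathlib
import Cfsg.Agent.Helper3.Co1ZGr
import Cfsg.Agent.Helper9.LeechAct.Bridge

/-!
# Generators of the first Conway group for the Schur multiplier: letters that are not central

A letter that moves one of the 24 vectors with one coordinate 8 to a vector which is neither this
vector nor its opposite has a non-trivial image in the quotient by the centre.
-/

set_option autoImplicit false
set_option maxRecDepth 100000

namespace Cfsg.Agent.Helper3.Co1ZG

open Cfsg Cfsg.Agent.Helper9.Golay Cfsg.Agent.Helper9.Leech Cfsg.Agent.Helper9.LeechAct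

/-- the letter moves the vector whose coordinate `k` is 8 to a vector which is neither this one nor its
opposite. -/
def moveChk (c k : ℕ) : Bool :=
  !(wv [c] (e8L k) == expL false 1 k) && !(wv [c] (e8L k) == expL true 1 k)

theorem expL_length (s : Bool) (n k : ℕ) : (expL s n k).length = 24 := by
  unfold expL
  rw [List.length_map, e8L_length]

/-- the coordinates of the image of a vector with one coordinate 8 under a letter. -/
theorem gw_e8 {c k : ℕ} (hc : rowChk c = true) (hk : k < 24) :
    ((((8 : ℤ) ^ 1) • gw c (e8 (mkPt k)) : ↥leechLattice) : GolayPt → ℤ) =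
      toVec (wv [c] (e8L k)) := by
  have hr : ∀ c' ∈ [c], rowChk c' = true := by
    intro c' hc'
    rw [List.mem_singleton] at hc'
    rw [hc']
    exact hc
  have hx : ((e8 (mkPt k) : ↥leechLattice) : GolayPt → ℤ) = toVec (e8L k) := by
    rw [e8_coe' (mkPt k), ptIdx_mkPt k hk]
  have h := wv_apply [c] hr (e8L_length k) hx
  rw [List.map_cons, List.map_nil, List.prod_cons, List.prod_nil, mul_one, List.length_cons,
    List.length_nil] at h
  exact h

theorem gw_ne_of_move {c k : ℕ} (hc : rowChk c = true) (hk : k < 24) (h : moveChk c k = true) :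
    gw c ≠ 1 ∧ gw c ≠ negPerm := by
  unfold moveChk at h
  rw [Bool.and_eq_true, Bool.not_eq_true', Bool.not_eq_true', beq_eq_false_iff_ne,
    beq_eq_false_iff_ne] at h
  have h0 := gw_e8 hc hk
  have hlen : (wv [c] (e8L k)).length = 24 := by
    apply wv_length _ _ _ (e8L_length k)
    intro c' hc'
    rw [List.mem_singleton] at hc'
    rw [hc']
    exact hc
  constructor
  · intro h1
    apply h.1
    apply toVec_inj hlen (expL_length _ _ _)
    rw [← h0, h1]
    funext q
    unfold expL
    rw [toVec_map _ (by rw [cond_false, mul_zero]), cond_false, AddSubgroup.coe_zsmul,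
      Pi.smul_apply, smul_eq_mul, ← ptIdx_mkPt k hk, ← e8_coe' (mkPt k), ptIdx_mkPt k hk]
    rfl
  · intro h1
    apply h.2
    apply toVec_inj hlen (expL_length _ _ _)
    rw [← h0, h1]
    funext q
    unfold expL
    rw [toVec_map _ (by rw [cond_true, mul_zero, neg_zero]), cond_true, AddSubgroup.coe_zsmul,
      Pi.smul_apply, smul_eq_mul, ← ptIdx_mkPt k hk, ← e8_coe' (mkPt k), ptIdx_mkPt k hk]
    change (8 : ℤ) ^ 1 * (-((e8 (mkPt k) : ↥leechLattice) : GolayPt → ℤ) q) = _
    rw [mul_neg]

/-- a letter that moves a vector with one coordinate 8 off its line is not central. -/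
theorem gQ'_ne_one {c k : ℕ} (hc : rowChk c = true) (hk : k < 24) (h : moveChk c k = true) :
    gQ' c ≠ 1 := by
  intro h1
  unfold gQ' at h1
  rw [QuotientGroup.eq_one_iff] at h1
  have h2 := Subgroup.mem_center_iff.mp h1
  obtain ⟨n1, n2⟩ := gw_ne_of_move hc hk h
  rcases central_eq (z := gw c) (gw_mem c) (by
    intro f hf
    have := h2 ⟨f, hf⟩
    exact (congrArg (fun w : ↥Co0 => (w : Equiv.Perm ↥leechLattice)) this).symm) with h3 | h3
  · exact n1 h3
  · exact n2 h3

theorem move_0 : moveChk 0 0 = true := by decide +kernel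

theorem move_10 : moveChk 10 0 = true := by decide +kernel

theorem move_12 : moveChk 12 0 = true := by decide +kernel

end Cfsg.Agent.Helper3.Co1ZG
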