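import Cfsg.Agent.Helper3.Co1ZJu0
import Cfsg.Agent.Helper3.Co1ZJu1
import Cfsg.Agent.Helper3.Co1ZJu2
import Cfsg.Agent.Helper3.Co1ZJu3
import Cfsg.Agent.Helper3.Co1ZJu4
import Cfsg.Agent.Helper3.Co1ZJu5
import Cfsg.Agent.Helper3.Co1ZJu6
import Cfsg.Agent.Helper3.Co1ZJu7
import Cfsg.Agent.Helper3.Co1ZJu8
import Cfsg.Agent.Helper3.Co1ZJu9
import Cfsg.Agent.Helper3.Co1ZJu10
import Cfsg.Agent.Helper3.Co1ZJu11
import Cfsg.Agent.Helper3.Co1ZJu12
import Cfsg.Agent.Helper3.Co1ZJu13
import Cfsg.Agent.Helper3.Co1ZJu14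
import Cfsg.Agent.Helper3.Co1ZJu15
import Cfsg.Agent.Helper3.Co1ZJu16
import Cfsg.Agent.Helper3.Co1ZJu17
import Cfsg.Agent.Helper3.Co1ZJu18
import Cfsg.Agent.Helper3.Co1ZJu19
import Cfsg.Agent.Helper3.Co1ZJu20
import Cfsg.Agent.Helper3.Co1ZJu21
import Cfsg.Agent.Helper3.Co1ZJu22
import Cfsg.Agent.Helper3.Co1ZJu23
import Cfsg.Agent.Helper3.Co1ZJu24
import Cfsg.Agent.Helper3.Co1ZJu25
import Cfsg.Agent.Helper3.Co1ZJu26
import Cfsg.Agent.Helper3.Co1ZJu27
import Cfsg.Agent.Helper3.Co1ZJu28
import Cfsg.Agent.Helper3.Co1ZJu29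
import Cfsg.Agent.Helper3.Co1ZJu30
import Cfsg.Agent.Helper3.Co1ZJu31
import Cfsg.Agent.Helper3.Co1ZJu32
import Cfsg.Agent.Helper3.Co1ZJu33
import Cfsg.Agent.Helper3.Co1ZJu34
import Cfsg.Agent.Helper3.Co1ZJu35
import Cfsg.Agent.Helper3.Co1ZJu36
import Cfsg.Agent.Helper3.Co1ZJu37
import Cfsg.Agent.Helper3.Co1ZJu38
import Cfsg.Agent.Helper3.Co1ZJu39
import Cfsg.Agent.Helper3.Co1ZJu40
import Cfsg.Agent.Helper3.Co1ZJu41
import Cfsg.Agent.Helper3.Co1ZJu42
import Cfsg.Agent.Helper3.Co1ZJu43
import Cfsg.Agent.Helper3.Co1ZJu44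
import Cfsg.Agent.Helper3.Co1ZJu45
import Cfsg.Agent.Helper3.Co1ZJu46
import Cfsg.Agent.Helper3.Co1ZJu47
import Cfsg.Agent.Helper3.Co1ZJu48
import Cfsg.Agent.Helper3.Co1ZJu49
import Cfsg.Agent.Helper3.Co1ZJu50
import Cfsg.Agent.Helper3.Co1ZJu51
import Cfsg.Agent.Helper3.Co1ZJu52
import Cfsg.Agent.Helper3.Co1ZJu53
import Cfsg.Agent.Helper3.Co1ZJu54
import Cfsg.Agent.Helper3.Co1ZJu55
import Cfsg.Agent.Helper3.Co1ZJu56
import Cfsg.Agent.Helper3.Co1ZJu57
import Cfsg.Agent.Helper3.Co1ZJu58
import Cfsg.Agent.Helper3.Co1ZJu59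
import Cfsg.Agent.Helper3.Co1ZJu60
import Cfsg.Agent.Helper3.Co1ZJu61
import Cfsg.Agent.Helper3.Co1ZJu62
import Cfsg.Agent.Helper3.Co1ZJu63
import Cfsg.Agent.Helper3.Co1ZJu64
import Cfsg.Agent.Helper3.Co1ZJu65
import Cfsg.Agent.Helper3.Co1ZJu66
import Cfsg.Agent.Helper3.Co1ZJu67
import Cfsg.Agent.Helper3.Co1ZJu68
import Cfsg.Agent.Helper3.Co1ZJu69
import Cfsg.Agent.Helper3.Co1ZJu70
import Cfsg.Agent.Helper3.Co1ZJu71
import Cfsg.Agent.Helper3.Co1ZJu72
import Cfsg.Agent.Helper3.Co1ZJu73
import Cfsg.Agent.Helper3.Co1ZJu74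
import Cfsg.Agent.Helper3.Co1ZJu75
import Cfsg.Agent.Helper3.Co1ZJu76
import Cfsg.Agent.Helper3.Co1ZJu77
import Cfsg.Agent.Helper3.Co1ZJu78
import Cfsg.Agent.Helper3.Co1ZJu79
import Cfsg.Agent.Helper3.Co1ZJu80
import Cfsg.Agent.Helper3.Co1ZJu81
import Cfsg.Agent.Helper3.Co1ZJu82
import Cfsg.Agent.Helper3.Co1ZJu83
import Cfsg.Agent.Helper3.Co1ZJu84
import Cfsg.Agent.Helper3.Co1ZJu85
import Cfsg.Agent.Helper3.Co1ZJu86
import Cfsg.Agent.Helper3.Co1ZJu87
import Cfsg.Agent.Helper3.Co1ZJu88
import Cfsg.Agent.Helper3.Co1ZJu89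
import Cfsg.Agent.Helper3.Co1ZJu90
import Cfsg.Agent.Helper3.Co1ZJu91
import Cfsg.Agent.Helper3.Co1ZJu92
import Cfsg.Agent.Helper3.Co1ZJu93
import Cfsg.Agent.Helper3.Co1ZJu94
import Cfsg.Agent.Helper3.Co1ZJu95
import Cfsg.Agent.Helper3.Co1ZJu96
import Cfsg.Agent.Helper3.Co1ZJu97
import Cfsg.Agent.Helper3.Co1ZJu98
import Cfsg.Agent.Helper3.Co1ZJu99
import Cfsg.Agent.Helper3.Co1ZJu100
import Cfsg.Agent.Helper3.Co1ZJu101
import Cfsg.Agent.Helper3.Co1ZJu102
import Cfsg.Agent.Helper3.Co1ZJu103
import Cfsg.Agent.Helper3.Co1ZJu104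
import Cfsg.Agent.Helper3.Co1ZJu105
import Cfsg.Agent.Helper3.Co1ZJu106
import Cfsg.Agent.Helper3.Co1ZJu107
import Cfsg.Agent.Helper3.Co1ZJu108
import Cfsg.Agent.Helper3.Co1ZJu109
import Cfsg.Agent.Helper3.Co1ZJu110
import Cfsg.Agent.Helper3.Co1ZJu111
import Cfsg.Agent.Helper3.Co1ZJu112
import Cfsg.Agent.Helper3.Co1ZJu113
import Cfsg.Agent.Helper3.Co1ZJu114
import Cfsg.Agent.Helper3.Co1ZJu115
import Cfsg.Agent.Helper3.Co1ZJu116
import Cfsg.Agent.Helper3.Co1ZJu117
import Cfsg.Agent.Helper3.Co1ZJu118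
import Cfsg.Agent.Helper3.Co1ZJu119
import Cfsg.Agent.Helper3.Co1ZJu120
import Cfsg.Agent.Helper3.Co1ZJu121
import Cfsg.Agent.Helper3.Co1ZJu122
import Cfsg.Agent.Helper3.Co1ZJu123
import Cfsg.Agent.Helper3.Co1ZJu124
import Cfsg.Agent.Helper3.Co1ZJu125
import Cfsg.Agent.Helper3.Co1ZJu126
import Cfsg.Agent.Helper3.Co1ZJu127
import Cfsg.Agent.Helper3.Co1ZJu128
import Cfsg.Agent.Helper3.Co1ZJu129
import Cfsg.Agent.Helper3.Co1ZJu130
import Cfsg.Agent.Helper3.Co1ZJu131
import Cfsg.Agent.Helper3.Co1ZJu132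
import Cfsg.Agent.Helper3.Co1ZJu133
import Cfsg.Agent.Helper3.Co1ZJu134
import Cfsg.Agent.Helper3.Co1ZJu135
import Cfsg.Agent.Helper3.Co1ZJu136
import Cfsg.Agent.Helper3.Co1ZJu137
import Cfsg.Agent.Helper3.Co1ZJu138
import Cfsg.Agent.Helper3.Co1ZJu139
import Cfsg.Agent.Helper3.Co1ZJu140
import Cfsg.Agent.Helper3.Co1ZJu141
import Cfsg.Agent.Helper3.Co1ZJu142
import Cfsg.Agent.Helper3.Co1ZJu143
import Cfsg.Agent.Helper3.Co1ZJu144
import Cfsg.Agent.Helper3.Co1ZJu145
import Cfsg.Agent.Helper3.Co1ZJu146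
import Cfsg.Agent.Helper3.Co1ZJu147
import Cfsg.Agent.Helper3.Co1ZJu148
import Cfsg.Agent.Helper3.Co1ZJu149
import Cfsg.Agent.Helper3.Co1ZJu150
import Cfsg.Agent.Helper3.Co1ZJu151
import Cfsg.Agent.Helper3.Co1ZJu152
import Cfsg.Agent.Helper3.Co1ZJu153
import Cfsg.Agent.Helper3.Co1ZJu154
import Cfsg.Agent.Helper3.Co1ZJu155
import Cfsg.Agent.Helper3.Co1ZJu156
import Cfsg.Agent.Helper3.Co1ZJu157
import Cfsg.Agent.Helper3.Co1ZJu158
import Cfsg.Agent.Helper3.Co1ZJu159
import Cfsg.Agent.Helper3.Co1ZJu160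
import Cfsg.Agent.Helper3.Co1ZJu161
import Cfsg.Agent.Helper3.Co1ZJu162
import Cfsg.Agent.Helper3.Co1ZJu163
import Cfsg.Agent.Helper3.Co1ZJu164
import Cfsg.Agent.Helper3.Co1ZJu165
import Cfsg.Agent.Helper3.Co1ZJu166
import Cfsg.Agent.Helper3.Co1ZJu167
import Cfsg.Agent.Helper3.Co1ZJu168
import Cfsg.Agent.Helper3.Co1ZJu169
import Cfsg.Agent.Helper3.Co1ZJu170
import Cfsg.Agent.Helper3.Co1ZJu171
import Cfsg.Agent.Helper3.Co1ZJu172
import Cfsg.Agent.Helper3.Co1ZJu173
import Cfsg.Agent.Helper3.Co1ZJu174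
import Cfsg.Agent.Helper3.Co1ZTb0
import Cfsg.Agent.Helper3.Co1ZTb1
import Cfsg.Agent.Helper3.Co1ZTb2
import Cfsg.Agent.Helper3.Co1ZTb3
import Cfsg.Agent.Helper3.Co1ZTb4
import Cfsg.Agent.Helper3.Co1ZTb5
import Cfsg.Agent.Helper3.Co1ZTb6
import Cfsg.Agent.Helper3.Co1ZTb7
import Cfsg.Agent.Helper3.Co1ZTb8
import Cfsg.Agent.Helper3.Co1ZTb9
import Cfsg.Agent.Helper3.Co1ZTb10
import Cfsg.Agent.Helper3.Co1ZTb11
import Cfsg.Agent.Helper3.Co1ZTb12
import Cfsg.Agent.Helper3.Co1ZTb13
import Cfsg.Agent.Helper3.Co1ZTb14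
import Cfsg.Agent.Helper3.Co1ZTb15
import Cfsg.Agent.Helper3.Co1ZTb16
import Cfsg.Agent.Helper3.Co1ZTb17
import Cfsg.Agent.Helper3.Co1ZTb18
import Cfsg.Agent.Helper3.Co1ZTb19
import Cfsg.Agent.Helper3.Co1ZTb20
import Cfsg.Agent.Helper3.Co1ZTb21
import Cfsg.Agent.Helper3.Co1ZTb22
import Cfsg.Agent.Helper3.Co1ZTb23
import Cfsg.Agent.Helper3.Co1ZTb24
import Cfsg.Agent.Helper3.Co1ZTb25
import Cfsg.Agent.Helper3.Co1ZTb26
import Cfsg.Agent.Helper3.Co1ZTb27
import Cfsg.Agent.Helper3.Co1ZTb28
import Cfsg.Agent.Helper3.Co1ZTb29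
import Cfsg.Agent.Helper3.Co1ZTb30
import Cfsg.Agent.Helper3.Co1ZTb31
import Cfsg.Agent.Helper3.Co1ZTb32
import Cfsg.Agent.Helper3.Co1ZTb33
import Cfsg.Agent.Helper3.Co1ZTb34
import Cfsg.Agent.Helper3.Co1ZTb35
import Cfsg.Agent.Helper3.Co1ZTb36
import Cfsg.Agent.Helper3.Co1ZTb37
import Cfsg.Agent.Helper3.Co1ZTb38
import Cfsg.Agent.Helper3.Co1ZTb39
import Cfsg.Agent.Helper3.Co1ZTb40
import Cfsg.Agent.Helper3.Co1ZTb41
import Cfsg.Agent.Helper3.Co1ZTb42
import Cfsg.Agent.Helper3.Co1ZTb43
import Cfsg.Agent.Helper3.Co1ZTb44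
import Cfsg.Agent.Helper3.Co1ZTb45
import Cfsg.Agent.Helper3.Co1ZTb46
import Cfsg.Agent.Helper3.Co1ZTb47
import Cfsg.Agent.Helper3.Co1ZTb48
import Cfsg.Agent.Helper3.Co1ZTb49
import Cfsg.Agent.Helper3.Co1ZTb50
import Cfsg.Agent.Helper3.Co1ZTb51
import Cfsg.Agent.Helper3.Co1ZTb52
import Cfsg.Agent.Helper3.Co1ZTb53
import Cfsg.Agent.Helper3.Co1ZTb54
import Cfsg.Agent.Helper3.Co1ZTb55
import Cfsg.Agent.Helper3.Co1ZTb56
import Cfsg.Agent.Helper3.Co1ZTb57
import Cfsg.Agent.Helper3.Co1ZTb58
import Cfsg.Agent.Helper3.Co1ZTb59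
import Cfsg.Agent.Helper3.Co1ZTb60
import Cfsg.Agent.Helper3.Co1ZTb61
import Cfsg.Agent.Helper3.Co1ZTb62
import Cfsg.Agent.Helper3.Co1ZTb63
import Cfsg.Agent.Helper3.Co1ZTb64
import Cfsg.Agent.Helper3.Co1ZTb65
import Cfsg.Agent.Helper3.Co1ZTb66
import Cfsg.Agent.Helper3.Co1ZTb67
import Cfsg.Agent.Helper3.Co1ZTb68
import Cfsg.Agent.Helper3.Co1ZTb69
import Cfsg.Agent.Helper3.Co1ZTb70
import Cfsg.Agent.Helper3.Co1ZTb71
import Cfsg.Agent.Helper3.Co1ZTb72
import Cfsg.Agent.Helper3.Co1ZTb73
import Cfsg.Agent.Helper3.Co1ZTb74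
import Cfsg.Agent.Helper3.Co1ZTb75
import Cfsg.Agent.Helper3.Co1ZTb76
import Cfsg.Agent.Helper3.Co1ZTb77
import Cfsg.Agent.Helper3.Co1ZTb78
import Cfsg.Agent.Helper3.Co1ZTb79
import Cfsg.Agent.Helper3.Co1ZTb80
import Cfsg.Agent.Helper3.Co1ZTb81
import Cfsg.Agent.Helper3.Co1ZTb82
import Cfsg.Agent.Helper3.Co1ZTb83
import Cfsg.Agent.Helper3.Co1ZTb84
import Cfsg.Agent.Helper3.Co1ZTb85
import Cfsg.Agent.Helper3.Co1ZTb86
import Cfsg.Agent.Helper3.Co1ZTb87
import Cfsg.Agent.Helper3.Co1ZTb88
import Cfsg.Agent.Helper3.Co1ZTb89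
import Cfsg.Agent.Helper3.Co1ZTb90
import Cfsg.Agent.Helper3.Co1ZTb91
import Cfsg.Agent.Helper3.Co1ZTb92
import Cfsg.Agent.Helper3.Co1ZTb93
import Cfsg.Agent.Helper3.Co1ZTb94
import Cfsg.Agent.Helper3.Co1ZTb95

/-! generated labelled Todd-Coxeter certificate, summary: Co1Z -/

set_option autoImplicit false
set_option maxRecDepth 1000000

namespace Cfsg.Agent.Helper3.Co1Z
open Cfsg.Agent.Helper5.LTC Cfsg.Agent.Helper3.LTCW

theorem upto_0 : ∀ j, j < 0 → ∃ r, checkFactW cert j r = true := fun j hj => absurd hj (by omega)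

theorem upto_1 : ∀ j, j < 500 → ∃ r, checkFactW cert j r = true :=
  upto_stepW cert upto_0 ju_0_0 500 len_0_0 chk_0_0

theorem upto_2 : ∀ j, j < 1000 → ∃ r, checkFactW cert j r = true :=
  upto_stepW cert upto_1 ju_0_1 500 len_0_1 chk_0_1

theorem upto_3 : ∀ j, j < 1500 → ∃ r, checkFactW cert j r = true :=
  upto_stepW cert upto_2 ju_0_2 500 len_0_2 chk_0_2

theorem upto_4 : ∀ j, j < 2000 → ∃ r, checkFactW cert j r = true :=
  upto_stepW cert upto_3 ju_0_3 500 len_0_3 chk_0_3

theorem upto_5 : ∀ j, j < 2500 → ∃ r, checkFactW cert j r = true :=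
  upto_stepW cert upto_4 ju_0_4 500 len_0_4 chk_0_4

theorem upto_6 : ∀ j, j < 3000 → ∃ r, checkFactW cert j r = true :=
  upto_stepW cert upto_5 ju_0_5 500 len_0_5 chk_0_5

theorem upto_7 : ∀ j, j < 3500 → ∃ r, checkFactW cert j r = true :=
  upto_stepW cert upto_6 ju_1_0 500 len_1_0 chk_1_0

theorem upto_8 : ∀ j, j < 4000 → ∃ r, checkFactW cert j r = true :=
  upto_stepW cert upto_7 ju_1_1 500 len_1_1 chk_1_1

theorem upto_9 : ∀ j, j < 4500 → ∃ r, checkFactW cert j r = true :=
  upto_stepW cert upto_8 ju_1_2 500 len_1_2 chk_1_2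

theorem upto_10 : ∀ j, j < 5000 → ∃ r, checkFactW cert j r = true :=
  upto_stepW cert upto_9 ju_1_3 500 len_1_3 chk_1_3

theorem upto_11 : ∀ j, j < 5500 → ∃ r, checkFactW cert j r = true :=
  upto_stepW cert upto_10 ju_1_4 500 len_1_4 chk_1_4

theorem upto_12 : ∀ j, j < 6000 → ∃ r, checkFactW cert j r = true :=
  upto_stepW cert upto_11 ju_1_5 500 len_1_5 chk_1_5

theorem upto_13 : ∀ j, j < 6500 → ∃ r, checkFactW cert j r = true :=
  upto_stepW cert upto_12 ju_2_0 500 len_2_0 chk_2_0

theorem upto_14 : ∀ j, j < 7000 → ∃ r, checkFactW cert j r = true :=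
  upto_stepW cert upto_13 ju_2_1 500 len_2_1 chk_2_1

theorem upto_15 : ∀ j, j < 7500 → ∃ r, checkFactW cert j r = true :=
  upto_stepW cert upto_14 ju_2_2 500 len_2_2 chk_2_2

theorem upto_16 : ∀ j, j < 8000 → ∃ r, checkFactW cert j r = true :=
  upto_stepW cert upto_15 ju_2_3 500 len_2_3 chk_2_3

theorem upto_17 : ∀ j, j < 8500 → ∃ r, checkFactW cert j r = true :=
  upto_stepW cert upto_16 ju_2_4 500 len_2_4 chk_2_4

theorem upto_18 : ∀ j, j < 9000 → ∃ r, checkFactW cert j r = true :=
  upto_stepW cert upto_17 ju_2_5 500 len_2_5 chk_2_5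

theorem upto_19 : ∀ j, j < 9500 → ∃ r, checkFactW cert j r = true :=
  upto_stepW cert upto_18 ju_3_0 500 len_3_0 chk_3_0

theorem upto_20 : ∀ j, j < 10000 → ∃ r, checkFactW cert j r = true :=
  upto_stepW cert upto_19 ju_3_1 500 len_3_1 chk_3_1

theorem upto_21 : ∀ j, j < 10500 → ∃ r, checkFactW cert j r = true :=
  upto_stepW cert upto_20 ju_3_2 500 len_3_2 chk_3_2

theorem upto_22 : ∀ j, j < 11000 → ∃ r, checkFactW cert j r = true :=
  upto_stepW cert upto_21 ju_3_3 500 len_3_3 chk_3_3

theorem upto_23 : ∀ j, j < 11500 → ∃ r, checkFactW cert j r = true :=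
  upto_stepW cert upto_22 ju_3_4 500 len_3_4 chk_3_4

theorem upto_24 : ∀ j, j < 12000 → ∃ r, checkFactW cert j r = true :=
  upto_stepW cert upto_23 ju_3_5 500 len_3_5 chk_3_5

theorem upto_25 : ∀ j, j < 12500 → ∃ r, checkFactW cert j r = true :=
  upto_stepW cert upto_24 ju_4_0 500 len_4_0 chk_4_0

theorem upto_26 : ∀ j, j < 13000 → ∃ r, checkFactW cert j r = true :=
  upto_stepW cert upto_25 ju_4_1 500 len_4_1 chk_4_1

theorem upto_27 : ∀ j, j < 13500 → ∃ r, checkFactW cert j r = true :=
  upto_stepW cert upto_26 ju_4_2 500 len_4_2 chk_4_2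

theorem upto_28 : ∀ j, j < 14000 → ∃ r, checkFactW cert j r = true :=
  upto_stepW cert upto_27 ju_4_3 500 len_4_3 chk_4_3

theorem upto_29 : ∀ j, j < 14500 → ∃ r, checkFactW cert j r = true :=
  upto_stepW cert upto_28 ju_4_4 500 len_4_4 chk_4_4

theorem upto_30 : ∀ j, j < 15000 → ∃ r, checkFactW cert j r = true :=
  upto_stepW cert upto_29 ju_4_5 500 len_4_5 chk_4_5

theorem upto_31 : ∀ j, j < 15500 → ∃ r, checkFactW cert j r = true :=
  upto_stepW cert upto_30 ju_5_0 500 len_5_0 chk_5_0

theorem upto_32 : ∀ j, j < 16000 → ∃ r, checkFactW cert j r = true :=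
  upto_stepW cert upto_31 ju_5_1 500 len_5_1 chk_5_1

theorem upto_33 : ∀ j, j < 16500 → ∃ r, checkFactW cert j r = true :=
  upto_stepW cert upto_32 ju_5_2 500 len_5_2 chk_5_2

theorem upto_34 : ∀ j, j < 17000 → ∃ r, checkFactW cert j r = true :=
  upto_stepW cert upto_33 ju_5_3 500 len_5_3 chk_5_3

theorem upto_35 : ∀ j, j < 17500 → ∃ r, checkFactW cert j r = true :=
  upto_stepW cert upto_34 ju_5_4 500 len_5_4 chk_5_4

theorem upto_36 : ∀ j, j < 18000 → ∃ r, checkFactW cert j r = true :=
  upto_stepW cert upto_35 ju_5_5 500 len_5_5 chk_5_5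

theorem upto_37 : ∀ j, j < 18500 → ∃ r, checkFactW cert j r = true :=
  upto_stepW cert upto_36 ju_6_0 500 len_6_0 chk_6_0

theorem upto_38 : ∀ j, j < 19000 → ∃ r, checkFactW cert j r = true :=
  upto_stepW cert upto_37 ju_6_1 500 len_6_1 chk_6_1

theorem upto_39 : ∀ j, j < 19500 → ∃ r, checkFactW cert j r = true :=
  upto_stepW cert upto_38 ju_6_2 500 len_6_2 chk_6_2

theorem upto_40 : ∀ j, j < 20000 → ∃ r, checkFactW cert j r = true :=
  upto_stepW cert upto_39 ju_6_3 500 len_6_3 chk_6_3

theorem upto_41 : ∀ j, j < 20500 → ∃ r, checkFactW cert j r = true :=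
  upto_stepW cert upto_40 ju_6_4 500 len_6_4 chk_6_4

theorem upto_42 : ∀ j, j < 21000 → ∃ r, checkFactW cert j r = true :=
  upto_stepW cert upto_41 ju_6_5 500 len_6_5 chk_6_5

theorem upto_43 : ∀ j, j < 21500 → ∃ r, checkFactW cert j r = true :=
  upto_stepW cert upto_42 ju_7_0 500 len_7_0 chk_7_0

theorem upto_44 : ∀ j, j < 22000 → ∃ r, checkFactW cert j r = true :=
  upto_stepW cert upto_43 ju_7_1 500 len_7_1 chk_7_1

theorem upto_45 : ∀ j, j < 22500 → ∃ r, checkFactW cert j r = true :=
  upto_stepW cert upto_44 ju_7_2 500 len_7_2 chk_7_2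

theorem upto_46 : ∀ j, j < 23000 → ∃ r, checkFactW cert j r = true :=
  upto_stepW cert upto_45 ju_7_3 500 len_7_3 chk_7_3

theorem upto_47 : ∀ j, j < 23500 → ∃ r, checkFactW cert j r = true :=
  upto_stepW cert upto_46 ju_7_4 500 len_7_4 chk_7_4

theorem upto_48 : ∀ j, j < 24000 → ∃ r, checkFactW cert j r = true :=
  upto_stepW cert upto_47 ju_7_5 500 len_7_5 chk_7_5

theorem upto_49 : ∀ j, j < 24500 → ∃ r, checkFactW cert j r = true :=
  upto_stepW cert upto_48 ju_8_0 500 len_8_0 chk_8_0

theorem upto_50 : ∀ j, j < 25000 → ∃ r, checkFactW cert j r = true :=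
  upto_stepW cert upto_49 ju_8_1 500 len_8_1 chk_8_1

theorem upto_51 : ∀ j, j < 25500 → ∃ r, checkFactW cert j r = true :=
  upto_stepW cert upto_50 ju_8_2 500 len_8_2 chk_8_2

theorem upto_52 : ∀ j, j < 26000 → ∃ r, checkFactW cert j r = true :=
  upto_stepW cert upto_51 ju_8_3 500 len_8_3 chk_8_3

theorem upto_53 : ∀ j, j < 26500 → ∃ r, checkFactW cert j r = true :=
  upto_stepW cert upto_52 ju_8_4 500 len_8_4 chk_8_4

theorem upto_54 : ∀ j, j < 27000 → ∃ r, checkFactW cert j r = true :=
  upto_stepW cert upto_53 ju_8_5 500 len_8_5 chk_8_5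

theorem upto_55 : ∀ j, j < 27500 → ∃ r, checkFactW cert j r = true :=
  upto_stepW cert upto_54 ju_9_0 500 len_9_0 chk_9_0

theorem upto_56 : ∀ j, j < 28000 → ∃ r, checkFactW cert j r = true :=
  upto_stepW cert upto_55 ju_9_1 500 len_9_1 chk_9_1

theorem upto_57 : ∀ j, j < 28500 → ∃ r, checkFactW cert j r = true :=
  upto_stepW cert upto_56 ju_9_2 500 len_9_2 chk_9_2

theorem upto_58 : ∀ j, j < 29000 → ∃ r, checkFactW cert j r = true :=
  upto_stepW cert upto_57 ju_9_3 500 len_9_3 chk_9_3

theorem upto_59 : ∀ j, j < 29500 → ∃ r, checkFactW cert j r = true :=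
  upto_stepW cert upto_58 ju_9_4 500 len_9_4 chk_9_4

theorem upto_60 : ∀ j, j < 30000 → ∃ r, checkFactW cert j r = true :=
  upto_stepW cert upto_59 ju_9_5 500 len_9_5 chk_9_5

theorem upto_61 : ∀ j, j < 30500 → ∃ r, checkFactW cert j r = true :=
  upto_stepW cert upto_60 ju_10_0 500 len_10_0 chk_10_0

theorem upto_62 : ∀ j, j < 31000 → ∃ r, checkFactW cert j r = true :=
  upto_stepW cert upto_61 ju_10_1 500 len_10_1 chk_10_1

theorem upto_63 : ∀ j, j < 31500 → ∃ r, checkFactW cert j r = true :=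
  upto_stepW cert upto_62 ju_10_2 500 len_10_2 chk_10_2

theorem upto_64 : ∀ j, j < 32000 → ∃ r, checkFactW cert j r = true :=
  upto_stepW cert upto_63 ju_10_3 500 len_10_3 chk_10_3

theorem upto_65 : ∀ j, j < 32500 → ∃ r, checkFactW cert j r = true :=
  upto_stepW cert upto_64 ju_10_4 500 len_10_4 chk_10_4

theorem upto_66 : ∀ j, j < 33000 → ∃ r, checkFactW cert j r = true :=
  upto_stepW cert upto_65 ju_10_5 500 len_10_5 chk_10_5

theorem upto_67 : ∀ j, j < 33500 → ∃ r, checkFactW cert j r = true :=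
  upto_stepW cert upto_66 ju_11_0 500 len_11_0 chk_11_0

theorem upto_68 : ∀ j, j < 34000 → ∃ r, checkFactW cert j r = true :=
  upto_stepW cert upto_67 ju_11_1 500 len_11_1 chk_11_1

theorem upto_69 : ∀ j, j < 34500 → ∃ r, checkFactW cert j r = true :=
  upto_stepW cert upto_68 ju_11_2 500 len_11_2 chk_11_2

theorem upto_70 : ∀ j, j < 35000 → ∃ r, checkFactW cert j r = true :=
  upto_stepW cert upto_69 ju_11_3 500 len_11_3 chk_11_3

theorem upto_71 : ∀ j, j < 35500 → ∃ r, checkFactW cert j r = true :=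
  upto_stepW cert upto_70 ju_11_4 500 len_11_4 chk_11_4

theorem upto_72 : ∀ j, j < 36000 → ∃ r, checkFactW cert j r = true :=
  upto_stepW cert upto_71 ju_11_5 500 len_11_5 chk_11_5

theorem upto_73 : ∀ j, j < 36500 → ∃ r, checkFactW cert j r = true :=
  upto_stepW cert upto_72 ju_12_0 500 len_12_0 chk_12_0

theorem upto_74 : ∀ j, j < 37000 → ∃ r, checkFactW cert j r = true :=
  upto_stepW cert upto_73 ju_12_1 500 len_12_1 chk_12_1

theorem upto_75 : ∀ j, j < 37500 → ∃ r, checkFactW cert j r = true :=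
  upto_stepW cert upto_74 ju_12_2 500 len_12_2 chk_12_2

theorem upto_76 : ∀ j, j < 38000 → ∃ r, checkFactW cert j r = true :=
  upto_stepW cert upto_75 ju_12_3 500 len_12_3 chk_12_3

theorem upto_77 : ∀ j, j < 38500 → ∃ r, checkFactW cert j r = true :=
  upto_stepW cert upto_76 ju_12_4 500 len_12_4 chk_12_4

theorem upto_78 : ∀ j, j < 39000 → ∃ r, checkFactW cert j r = true :=
  upto_stepW cert upto_77 ju_12_5 500 len_12_5 chk_12_5

theorem upto_79 : ∀ j, j < 39500 → ∃ r, checkFactW cert j r = true :=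
  upto_stepW cert upto_78 ju_13_0 500 len_13_0 chk_13_0

theorem upto_80 : ∀ j, j < 40000 → ∃ r, checkFactW cert j r = true :=
  upto_stepW cert upto_79 ju_13_1 500 len_13_1 chk_13_1

theorem upto_81 : ∀ j, j < 40500 → ∃ r, checkFactW cert j r = true :=
  upto_stepW cert upto_80 ju_13_2 500 len_13_2 chk_13_2

theorem upto_82 : ∀ j, j < 41000 → ∃ r, checkFactW cert j r = true :=
  upto_stepW cert upto_81 ju_13_3 500 len_13_3 chk_13_3

theorem upto_83 : ∀ j, j < 41500 → ∃ r, checkFactW cert j r = true :=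
  upto_stepW cert upto_82 ju_13_4 500 len_13_4 chk_13_4

theorem upto_84 : ∀ j, j < 42000 → ∃ r, checkFactW cert j r = true :=
  upto_stepW cert upto_83 ju_13_5 500 len_13_5 chk_13_5

theorem upto_85 : ∀ j, j < 42500 → ∃ r, checkFactW cert j r = true :=
  upto_stepW cert upto_84 ju_14_0 500 len_14_0 chk_14_0

theorem upto_86 : ∀ j, j < 43000 → ∃ r, checkFactW cert j r = true :=
  upto_stepW cert upto_85 ju_14_1 500 len_14_1 chk_14_1

theorem upto_87 : ∀ j, j < 43500 → ∃ r, checkFactW cert j r = true :=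
  upto_stepW cert upto_86 ju_14_2 500 len_14_2 chk_14_2

theorem upto_88 : ∀ j, j < 44000 → ∃ r, checkFactW cert j r = true :=
  upto_stepW cert upto_87 ju_14_3 500 len_14_3 chk_14_3

theorem upto_89 : ∀ j, j < 44500 → ∃ r, checkFactW cert j r = true :=
  upto_stepW cert upto_88 ju_14_4 500 len_14_4 chk_14_4

theorem upto_90 : ∀ j, j < 45000 → ∃ r, checkFactW cert j r = true :=
  upto_stepW cert upto_89 ju_14_5 500 len_14_5 chk_14_5

theorem upto_91 : ∀ j, j < 45500 → ∃ r, checkFactW cert j r = true :=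
  upto_stepW cert upto_90 ju_15_0 500 len_15_0 chk_15_0

theorem upto_92 : ∀ j, j < 46000 → ∃ r, checkFactW cert j r = true :=
  upto_stepW cert upto_91 ju_15_1 500 len_15_1 chk_15_1

theorem upto_93 : ∀ j, j < 46500 → ∃ r, checkFactW cert j r = true :=
  upto_stepW cert upto_92 ju_15_2 500 len_15_2 chk_15_2

theorem upto_94 : ∀ j, j < 47000 → ∃ r, checkFactW cert j r = true :=
  upto_stepW cert upto_93 ju_15_3 500 len_15_3 chk_15_3

theorem upto_95 : ∀ j, j < 47500 → ∃ r, checkFactW cert j r = true :=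
  upto_stepW cert upto_94 ju_15_4 500 len_15_4 chk_15_4

theorem upto_96 : ∀ j, j < 48000 → ∃ r, checkFactW cert j r = true :=
  upto_stepW cert upto_95 ju_15_5 500 len_15_5 chk_15_5

theorem upto_97 : ∀ j, j < 48500 → ∃ r, checkFactW cert j r = true :=
  upto_stepW cert upto_96 ju_16_0 500 len_16_0 chk_16_0

theorem upto_98 : ∀ j, j < 49000 → ∃ r, checkFactW cert j r = true :=
  upto_stepW cert upto_97 ju_16_1 500 len_16_1 chk_16_1

theorem upto_99 : ∀ j, j < 49500 → ∃ r, checkFactW cert j r = true :=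
  upto_stepW cert upto_98 ju_16_2 500 len_16_2 chk_16_2

theorem upto_100 : ∀ j, j < 50000 → ∃ r, checkFactW cert j r = true :=
  upto_stepW cert upto_99 ju_16_3 500 len_16_3 chk_16_3

theorem upto_101 : ∀ j, j < 50500 → ∃ r, checkFactW cert j r = true :=
  upto_stepW cert upto_100 ju_16_4 500 len_16_4 chk_16_4

theorem upto_102 : ∀ j, j < 51000 → ∃ r, checkFactW cert j r = true :=
  upto_stepW cert upto_101 ju_16_5 500 len_16_5 chk_16_5

theorem upto_103 : ∀ j, j < 51500 → ∃ r, checkFactW cert j r = true :=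
  upto_stepW cert upto_102 ju_17_0 500 len_17_0 chk_17_0

theorem upto_104 : ∀ j, j < 52000 → ∃ r, checkFactW cert j r = true :=
  upto_stepW cert upto_103 ju_17_1 500 len_17_1 chk_17_1

theorem upto_105 : ∀ j, j < 52500 → ∃ r, checkFactW cert j r = true :=
  upto_stepW cert upto_104 ju_17_2 500 len_17_2 chk_17_2

theorem upto_106 : ∀ j, j < 53000 → ∃ r, checkFactW cert j r = true :=
  upto_stepW cert upto_105 ju_17_3 500 len_17_3 chk_17_3

theorem upto_107 : ∀ j, j < 53500 → ∃ r, checkFactW cert j r = true :=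
  upto_stepW cert upto_106 ju_17_4 500 len_17_4 chk_17_4

theorem upto_108 : ∀ j, j < 54000 → ∃ r, checkFactW cert j r = true :=
  upto_stepW cert upto_107 ju_17_5 500 len_17_5 chk_17_5

theorem upto_109 : ∀ j, j < 54500 → ∃ r, checkFactW cert j r = true :=
  upto_stepW cert upto_108 ju_18_0 500 len_18_0 chk_18_0

theorem upto_110 : ∀ j, j < 55000 → ∃ r, checkFactW cert j r = true :=
  upto_stepW cert upto_109 ju_18_1 500 len_18_1 chk_18_1

theorem upto_111 : ∀ j, j < 55500 → ∃ r, checkFactW cert j r = true :=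
  upto_stepW cert upto_110 ju_18_2 500 len_18_2 chk_18_2

theorem upto_112 : ∀ j, j < 56000 → ∃ r, checkFactW cert j r = true :=
  upto_stepW cert upto_111 ju_18_3 500 len_18_3 chk_18_3

theorem upto_113 : ∀ j, j < 56500 → ∃ r, checkFactW cert j r = true :=
  upto_stepW cert upto_112 ju_18_4 500 len_18_4 chk_18_4

theorem upto_114 : ∀ j, j < 57000 → ∃ r, checkFactW cert j r = true :=
  upto_stepW cert upto_113 ju_18_5 500 len_18_5 chk_18_5

theorem upto_115 : ∀ j, j < 57500 → ∃ r, checkFactW cert j r = true :=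
  upto_stepW cert upto_114 ju_19_0 500 len_19_0 chk_19_0

theorem upto_116 : ∀ j, j < 58000 → ∃ r, checkFactW cert j r = true :=
  upto_stepW cert upto_115 ju_19_1 500 len_19_1 chk_19_1

theorem upto_117 : ∀ j, j < 58500 → ∃ r, checkFactW cert j r = true :=
  upto_stepW cert upto_116 ju_19_2 500 len_19_2 chk_19_2

theorem upto_118 : ∀ j, j < 59000 → ∃ r, checkFactW cert j r = true :=
  upto_stepW cert upto_117 ju_19_3 500 len_19_3 chk_19_3

theorem upto_119 : ∀ j, j < 59500 → ∃ r, checkFactW cert j r = true :=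
  upto_stepW cert upto_118 ju_19_4 500 len_19_4 chk_19_4

theorem upto_120 : ∀ j, j < 60000 → ∃ r, checkFactW cert j r = true :=
  upto_stepW cert upto_119 ju_19_5 500 len_19_5 chk_19_5

theorem upto_121 : ∀ j, j < 60500 → ∃ r, checkFactW cert j r = true :=
  upto_stepW cert upto_120 ju_20_0 500 len_20_0 chk_20_0

theorem upto_122 : ∀ j, j < 61000 → ∃ r, checkFactW cert j r = true :=
  upto_stepW cert upto_121 ju_20_1 500 len_20_1 chk_20_1

theorem upto_123 : ∀ j, j < 61500 → ∃ r, checkFactW cert j r = true :=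
  upto_stepW cert upto_122 ju_20_2 500 len_20_2 chk_20_2

theorem upto_124 : ∀ j, j < 62000 → ∃ r, checkFactW cert j r = true :=
  upto_stepW cert upto_123 ju_20_3 500 len_20_3 chk_20_3

theorem upto_125 : ∀ j, j < 62500 → ∃ r, checkFactW cert j r = true :=
  upto_stepW cert upto_124 ju_20_4 500 len_20_4 chk_20_4

theorem upto_126 : ∀ j, j < 63000 → ∃ r, checkFactW cert j r = true :=
  upto_stepW cert upto_125 ju_20_5 500 len_20_5 chk_20_5

theorem upto_127 : ∀ j, j < 63500 → ∃ r, checkFactW cert j r = true :=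
  upto_stepW cert upto_126 ju_21_0 500 len_21_0 chk_21_0

theorem upto_128 : ∀ j, j < 64000 → ∃ r, checkFactW cert j r = true :=
  upto_stepW cert upto_127 ju_21_1 500 len_21_1 chk_21_1

theorem upto_129 : ∀ j, j < 64500 → ∃ r, checkFactW cert j r = true :=
  upto_stepW cert upto_128 ju_21_2 500 len_21_2 chk_21_2

theorem upto_130 : ∀ j, j < 65000 → ∃ r, checkFactW cert j r = true :=
  upto_stepW cert upto_129 ju_21_3 500 len_21_3 chk_21_3

theorem upto_131 : ∀ j, j < 65500 → ∃ r, checkFactW cert j r = true :=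
  upto_stepW cert upto_130 ju_21_4 500 len_21_4 chk_21_4

theorem upto_132 : ∀ j, j < 66000 → ∃ r, checkFactW cert j r = true :=
  upto_stepW cert upto_131 ju_21_5 500 len_21_5 chk_21_5

theorem upto_133 : ∀ j, j < 66500 → ∃ r, checkFactW cert j r = true :=
  upto_stepW cert upto_132 ju_22_0 500 len_22_0 chk_22_0

theorem upto_134 : ∀ j, j < 67000 → ∃ r, checkFactW cert j r = true :=
  upto_stepW cert upto_133 ju_22_1 500 len_22_1 chk_22_1

theorem upto_135 : ∀ j, j < 67500 → ∃ r, checkFactW cert j r = true :=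
  upto_stepW cert upto_134 ju_22_2 500 len_22_2 chk_22_2

theorem upto_136 : ∀ j, j < 68000 → ∃ r, checkFactW cert j r = true :=
  upto_stepW cert upto_135 ju_22_3 500 len_22_3 chk_22_3

theorem upto_137 : ∀ j, j < 68500 → ∃ r, checkFactW cert j r = true :=
  upto_stepW cert upto_136 ju_22_4 500 len_22_4 chk_22_4

theorem upto_138 : ∀ j, j < 69000 → ∃ r, checkFactW cert j r = true :=
  upto_stepW cert upto_137 ju_22_5 500 len_22_5 chk_22_5

theorem upto_139 : ∀ j, j < 69500 → ∃ r, checkFactW cert j r = true :=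
  upto_stepW cert upto_138 ju_23_0 500 len_23_0 chk_23_0

theorem upto_140 : ∀ j, j < 70000 → ∃ r, checkFactW cert j r = true :=
  upto_stepW cert upto_139 ju_23_1 500 len_23_1 chk_23_1

theorem upto_141 : ∀ j, j < 70500 → ∃ r, checkFactW cert j r = true :=
  upto_stepW cert upto_140 ju_23_2 500 len_23_2 chk_23_2

theorem upto_142 : ∀ j, j < 71000 → ∃ r, checkFactW cert j r = true :=
  upto_stepW cert upto_141 ju_23_3 500 len_23_3 chk_23_3

theorem upto_143 : ∀ j, j < 71500 → ∃ r, checkFactW cert j r = true :=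
  upto_stepW cert upto_142 ju_23_4 500 len_23_4 chk_23_4

theorem upto_144 : ∀ j, j < 72000 → ∃ r, checkFactW cert j r = true :=
  upto_stepW cert upto_143 ju_23_5 500 len_23_5 chk_23_5

theorem upto_145 : ∀ j, j < 72500 → ∃ r, checkFactW cert j r = true :=
  upto_stepW cert upto_144 ju_24_0 500 len_24_0 chk_24_0

theorem upto_146 : ∀ j, j < 73000 → ∃ r, checkFactW cert j r = true :=
  upto_stepW cert upto_145 ju_24_1 500 len_24_1 chk_24_1

theorem upto_147 : ∀ j, j < 73500 → ∃ r, checkFactW cert j r = true :=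
  upto_stepW cert upto_146 ju_24_2 500 len_24_2 chk_24_2

theorem upto_148 : ∀ j, j < 74000 → ∃ r, checkFactW cert j r = true :=
  upto_stepW cert upto_147 ju_24_3 500 len_24_3 chk_24_3

theorem upto_149 : ∀ j, j < 74500 → ∃ r, checkFactW cert j r = true :=
  upto_stepW cert upto_148 ju_24_4 500 len_24_4 chk_24_4

theorem upto_150 : ∀ j, j < 75000 → ∃ r, checkFactW cert j r = true :=
  upto_stepW cert upto_149 ju_24_5 500 len_24_5 chk_24_5

theorem upto_151 : ∀ j, j < 75500 → ∃ r, checkFactW cert j r = true :=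
  upto_stepW cert upto_150 ju_25_0 500 len_25_0 chk_25_0

theorem upto_152 : ∀ j, j < 76000 → ∃ r, checkFactW cert j r = true :=
  upto_stepW cert upto_151 ju_25_1 500 len_25_1 chk_25_1

theorem upto_153 : ∀ j, j < 76500 → ∃ r, checkFactW cert j r = true :=
  upto_stepW cert upto_152 ju_25_2 500 len_25_2 chk_25_2

theorem upto_154 : ∀ j, j < 77000 → ∃ r, checkFactW cert j r = true :=
  upto_stepW cert upto_153 ju_25_3 500 len_25_3 chk_25_3

theorem upto_155 : ∀ j, j < 77500 → ∃ r, checkFactW cert j r = true :=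
  upto_stepW cert upto_154 ju_25_4 500 len_25_4 chk_25_4

theorem upto_156 : ∀ j, j < 78000 → ∃ r, checkFactW cert j r = true :=
  upto_stepW cert upto_155 ju_25_5 500 len_25_5 chk_25_5

theorem upto_157 : ∀ j, j < 78500 → ∃ r, checkFactW cert j r = true :=
  upto_stepW cert upto_156 ju_26_0 500 len_26_0 chk_26_0

theorem upto_158 : ∀ j, j < 79000 → ∃ r, checkFactW cert j r = true :=
  upto_stepW cert upto_157 ju_26_1 500 len_26_1 chk_26_1

theorem upto_159 : ∀ j, j < 79500 → ∃ r, checkFactW cert j r = true :=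
  upto_stepW cert upto_158 ju_26_2 500 len_26_2 chk_26_2

theorem upto_160 : ∀ j, j < 80000 → ∃ r, checkFactW cert j r = true :=
  upto_stepW cert upto_159 ju_26_3 500 len_26_3 chk_26_3

theorem upto_161 : ∀ j, j < 80500 → ∃ r, checkFactW cert j r = true :=
  upto_stepW cert upto_160 ju_26_4 500 len_26_4 chk_26_4

theorem upto_162 : ∀ j, j < 81000 → ∃ r, checkFactW cert j r = true :=
  upto_stepW cert upto_161 ju_26_5 500 len_26_5 chk_26_5

theorem upto_163 : ∀ j, j < 81500 → ∃ r, checkFactW cert j r = true :=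
  upto_stepW cert upto_162 ju_27_0 500 len_27_0 chk_27_0

theorem upto_164 : ∀ j, j < 82000 → ∃ r, checkFactW cert j r = true :=
  upto_stepW cert upto_163 ju_27_1 500 len_27_1 chk_27_1

theorem upto_165 : ∀ j, j < 82500 → ∃ r, checkFactW cert j r = true :=
  upto_stepW cert upto_164 ju_27_2 500 len_27_2 chk_27_2

theorem upto_166 : ∀ j, j < 83000 → ∃ r, checkFactW cert j r = true :=
  upto_stepW cert upto_165 ju_27_3 500 len_27_3 chk_27_3

theorem upto_167 : ∀ j, j < 83500 → ∃ r, checkFactW cert j r = true :=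
  upto_stepW cert upto_166 ju_27_4 500 len_27_4 chk_27_4

theorem upto_168 : ∀ j, j < 84000 → ∃ r, checkFactW cert j r = true :=
  upto_stepW cert upto_167 ju_27_5 500 len_27_5 chk_27_5

theorem upto_169 : ∀ j, j < 84500 → ∃ r, checkFactW cert j r = true :=
  upto_stepW cert upto_168 ju_28_0 500 len_28_0 chk_28_0

theorem upto_170 : ∀ j, j < 85000 → ∃ r, checkFactW cert j r = true :=
  upto_stepW cert upto_169 ju_28_1 500 len_28_1 chk_28_1

theorem upto_171 : ∀ j, j < 85500 → ∃ r, checkFactW cert j r = true :=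
  upto_stepW cert upto_170 ju_28_2 500 len_28_2 chk_28_2

theorem upto_172 : ∀ j, j < 86000 → ∃ r, checkFactW cert j r = true :=
  upto_stepW cert upto_171 ju_28_3 500 len_28_3 chk_28_3

theorem upto_173 : ∀ j, j < 86500 → ∃ r, checkFactW cert j r = true :=
  upto_stepW cert upto_172 ju_28_4 500 len_28_4 chk_28_4

theorem upto_174 : ∀ j, j < 87000 → ∃ r, checkFactW cert j r = true :=
  upto_stepW cert upto_173 ju_28_5 500 len_28_5 chk_28_5

theorem upto_175 : ∀ j, j < 87500 → ∃ r, checkFactW cert j r = true :=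
  upto_stepW cert upto_174 ju_29_0 500 len_29_0 chk_29_0

theorem upto_176 : ∀ j, j < 88000 → ∃ r, checkFactW cert j r = true :=
  upto_stepW cert upto_175 ju_29_1 500 len_29_1 chk_29_1

theorem upto_177 : ∀ j, j < 88500 → ∃ r, checkFactW cert j r = true :=
  upto_stepW cert upto_176 ju_29_2 500 len_29_2 chk_29_2

theorem upto_178 : ∀ j, j < 89000 → ∃ r, checkFactW cert j r = true :=
  upto_stepW cert upto_177 ju_29_3 500 len_29_3 chk_29_3

theorem upto_179 : ∀ j, j < 89500 → ∃ r, checkFactW cert j r = true :=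
  upto_stepW cert upto_178 ju_29_4 500 len_29_4 chk_29_4

theorem upto_180 : ∀ j, j < 90000 → ∃ r, checkFactW cert j r = true :=
  upto_stepW cert upto_179 ju_29_5 500 len_29_5 chk_29_5

theorem upto_181 : ∀ j, j < 90500 → ∃ r, checkFactW cert j r = true :=
  upto_stepW cert upto_180 ju_30_0 500 len_30_0 chk_30_0

theorem upto_182 : ∀ j, j < 91000 → ∃ r, checkFactW cert j r = true :=
  upto_stepW cert upto_181 ju_30_1 500 len_30_1 chk_30_1

theorem upto_183 : ∀ j, j < 91500 → ∃ r, checkFactW cert j r = true :=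
  upto_stepW cert upto_182 ju_30_2 500 len_30_2 chk_30_2

theorem upto_184 : ∀ j, j < 92000 → ∃ r, checkFactW cert j r = true :=
  upto_stepW cert upto_183 ju_30_3 500 len_30_3 chk_30_3

theorem upto_185 : ∀ j, j < 92500 → ∃ r, checkFactW cert j r = true :=
  upto_stepW cert upto_184 ju_30_4 500 len_30_4 chk_30_4

theorem upto_186 : ∀ j, j < 93000 → ∃ r, checkFactW cert j r = true :=
  upto_stepW cert upto_185 ju_30_5 500 len_30_5 chk_30_5

theorem upto_187 : ∀ j, j < 93500 → ∃ r, checkFactW cert j r = true :=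
  upto_stepW cert upto_186 ju_31_0 500 len_31_0 chk_31_0

theorem upto_188 : ∀ j, j < 94000 → ∃ r, checkFactW cert j r = true :=
  upto_stepW cert upto_187 ju_31_1 500 len_31_1 chk_31_1

theorem upto_189 : ∀ j, j < 94500 → ∃ r, checkFactW cert j r = true :=
  upto_stepW cert upto_188 ju_31_2 500 len_31_2 chk_31_2

theorem upto_190 : ∀ j, j < 95000 → ∃ r, checkFactW cert j r = true :=
  upto_stepW cert upto_189 ju_31_3 500 len_31_3 chk_31_3

theorem upto_191 : ∀ j, j < 95500 → ∃ r, checkFactW cert j r = true :=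
  upto_stepW cert upto_190 ju_31_4 500 len_31_4 chk_31_4

theorem upto_192 : ∀ j, j < 96000 → ∃ r, checkFactW cert j r = true :=
  upto_stepW cert upto_191 ju_31_5 500 len_31_5 chk_31_5

theorem upto_193 : ∀ j, j < 96500 → ∃ r, checkFactW cert j r = true :=
  upto_stepW cert upto_192 ju_32_0 500 len_32_0 chk_32_0

theorem upto_194 : ∀ j, j < 97000 → ∃ r, checkFactW cert j r = true :=
  upto_stepW cert upto_193 ju_32_1 500 len_32_1 chk_32_1

theorem upto_195 : ∀ j, j < 97500 → ∃ r, checkFactW cert j r = true :=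
  upto_stepW cert upto_194 ju_32_2 500 len_32_2 chk_32_2

theorem upto_196 : ∀ j, j < 98000 → ∃ r, checkFactW cert j r = true :=
  upto_stepW cert upto_195 ju_32_3 500 len_32_3 chk_32_3

theorem upto_197 : ∀ j, j < 98500 → ∃ r, checkFactW cert j r = true :=
  upto_stepW cert upto_196 ju_32_4 500 len_32_4 chk_32_4

theorem upto_198 : ∀ j, j < 99000 → ∃ r, checkFactW cert j r = true :=
  upto_stepW cert upto_197 ju_32_5 500 len_32_5 chk_32_5

theorem upto_199 : ∀ j, j < 99500 → ∃ r, checkFactW cert j r = true :=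
  upto_stepW cert upto_198 ju_33_0 500 len_33_0 chk_33_0

theorem upto_200 : ∀ j, j < 100000 → ∃ r, checkFactW cert j r = true :=
  upto_stepW cert upto_199 ju_33_1 500 len_33_1 chk_33_1

theorem upto_201 : ∀ j, j < 100500 → ∃ r, checkFactW cert j r = true :=
  upto_stepW cert upto_200 ju_33_2 500 len_33_2 chk_33_2

theorem upto_202 : ∀ j, j < 101000 → ∃ r, checkFactW cert j r = true :=
  upto_stepW cert upto_201 ju_33_3 500 len_33_3 chk_33_3

theorem upto_203 : ∀ j, j < 101500 → ∃ r, checkFactW cert j r = true :=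
  upto_stepW cert upto_202 ju_33_4 500 len_33_4 chk_33_4

theorem upto_204 : ∀ j, j < 102000 → ∃ r, checkFactW cert j r = true :=
  upto_stepW cert upto_203 ju_33_5 500 len_33_5 chk_33_5

theorem upto_205 : ∀ j, j < 102500 → ∃ r, checkFactW cert j r = true :=
  upto_stepW cert upto_204 ju_34_0 500 len_34_0 chk_34_0

theorem upto_206 : ∀ j, j < 103000 → ∃ r, checkFactW cert j r = true :=
  upto_stepW cert upto_205 ju_34_1 500 len_34_1 chk_34_1

theorem upto_207 : ∀ j, j < 103500 → ∃ r, checkFactW cert j r = true :=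
  upto_stepW cert upto_206 ju_34_2 500 len_34_2 chk_34_2

theorem upto_208 : ∀ j, j < 104000 → ∃ r, checkFactW cert j r = true :=
  upto_stepW cert upto_207 ju_34_3 500 len_34_3 chk_34_3

theorem upto_209 : ∀ j, j < 104500 → ∃ r, checkFactW cert j r = true :=
  upto_stepW cert upto_208 ju_34_4 500 len_34_4 chk_34_4

theorem upto_210 : ∀ j, j < 105000 → ∃ r, checkFactW cert j r = true :=
  upto_stepW cert upto_209 ju_34_5 500 len_34_5 chk_34_5

theorem upto_211 : ∀ j, j < 105500 → ∃ r, checkFactW cert j r = true :=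
  upto_stepW cert upto_210 ju_35_0 500 len_35_0 chk_35_0

theorem upto_212 : ∀ j, j < 106000 → ∃ r, checkFactW cert j r = true :=
  upto_stepW cert upto_211 ju_35_1 500 len_35_1 chk_35_1

theorem upto_213 : ∀ j, j < 106500 → ∃ r, checkFactW cert j r = true :=
  upto_stepW cert upto_212 ju_35_2 500 len_35_2 chk_35_2

theorem upto_214 : ∀ j, j < 107000 → ∃ r, checkFactW cert j r = true :=
  upto_stepW cert upto_213 ju_35_3 500 len_35_3 chk_35_3

theorem upto_215 : ∀ j, j < 107500 → ∃ r, checkFactW cert j r = true :=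
  upto_stepW cert upto_214 ju_35_4 500 len_35_4 chk_35_4

theorem upto_216 : ∀ j, j < 108000 → ∃ r, checkFactW cert j r = true :=
  upto_stepW cert upto_215 ju_35_5 500 len_35_5 chk_35_5

theorem upto_217 : ∀ j, j < 108500 → ∃ r, checkFactW cert j r = true :=
  upto_stepW cert upto_216 ju_36_0 500 len_36_0 chk_36_0

theorem upto_218 : ∀ j, j < 109000 → ∃ r, checkFactW cert j r = true :=
  upto_stepW cert upto_217 ju_36_1 500 len_36_1 chk_36_1

theorem upto_219 : ∀ j, j < 109500 → ∃ r, checkFactW cert j r = true :=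
  upto_stepW cert upto_218 ju_36_2 500 len_36_2 chk_36_2

theorem upto_220 : ∀ j, j < 110000 → ∃ r, checkFactW cert j r = true :=
  upto_stepW cert upto_219 ju_36_3 500 len_36_3 chk_36_3

theorem upto_221 : ∀ j, j < 110500 → ∃ r, checkFactW cert j r = true :=
  upto_stepW cert upto_220 ju_36_4 500 len_36_4 chk_36_4

theorem upto_222 : ∀ j, j < 111000 → ∃ r, checkFactW cert j r = true :=
  upto_stepW cert upto_221 ju_36_5 500 len_36_5 chk_36_5

theorem upto_223 : ∀ j, j < 111500 → ∃ r, checkFactW cert j r = true :=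
  upto_stepW cert upto_222 ju_37_0 500 len_37_0 chk_37_0

theorem upto_224 : ∀ j, j < 112000 → ∃ r, checkFactW cert j r = true :=
  upto_stepW cert upto_223 ju_37_1 500 len_37_1 chk_37_1

theorem upto_225 : ∀ j, j < 112500 → ∃ r, checkFactW cert j r = true :=
  upto_stepW cert upto_224 ju_37_2 500 len_37_2 chk_37_2

theorem upto_226 : ∀ j, j < 113000 → ∃ r, checkFactW cert j r = true :=
  upto_stepW cert upto_225 ju_37_3 500 len_37_3 chk_37_3

theorem upto_227 : ∀ j, j < 113500 → ∃ r, checkFactW cert j r = true :=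
  upto_stepW cert upto_226 ju_37_4 500 len_37_4 chk_37_4

theorem upto_228 : ∀ j, j < 114000 → ∃ r, checkFactW cert j r = true :=
  upto_stepW cert upto_227 ju_37_5 500 len_37_5 chk_37_5

theorem upto_229 : ∀ j, j < 114500 → ∃ r, checkFactW cert j r = true :=
  upto_stepW cert upto_228 ju_38_0 500 len_38_0 chk_38_0

theorem upto_230 : ∀ j, j < 115000 → ∃ r, checkFactW cert j r = true :=
  upto_stepW cert upto_229 ju_38_1 500 len_38_1 chk_38_1

theorem upto_231 : ∀ j, j < 115500 → ∃ r, checkFactW cert j r = true :=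
  upto_stepW cert upto_230 ju_38_2 500 len_38_2 chk_38_2

theorem upto_232 : ∀ j, j < 116000 → ∃ r, checkFactW cert j r = true :=
  upto_stepW cert upto_231 ju_38_3 500 len_38_3 chk_38_3

theorem upto_233 : ∀ j, j < 116500 → ∃ r, checkFactW cert j r = true :=
  upto_stepW cert upto_232 ju_38_4 500 len_38_4 chk_38_4

theorem upto_234 : ∀ j, j < 117000 → ∃ r, checkFactW cert j r = true :=
  upto_stepW cert upto_233 ju_38_5 500 len_38_5 chk_38_5

theorem upto_235 : ∀ j, j < 117500 → ∃ r, checkFactW cert j r = true :=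
  upto_stepW cert upto_234 ju_39_0 500 len_39_0 chk_39_0

theorem upto_236 : ∀ j, j < 118000 → ∃ r, checkFactW cert j r = true :=
  upto_stepW cert upto_235 ju_39_1 500 len_39_1 chk_39_1

theorem upto_237 : ∀ j, j < 118500 → ∃ r, checkFactW cert j r = true :=
  upto_stepW cert upto_236 ju_39_2 500 len_39_2 chk_39_2

theorem upto_238 : ∀ j, j < 119000 → ∃ r, checkFactW cert j r = true :=
  upto_stepW cert upto_237 ju_39_3 500 len_39_3 chk_39_3

theorem upto_239 : ∀ j, j < 119500 → ∃ r, checkFactW cert j r = true :=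
  upto_stepW cert upto_238 ju_39_4 500 len_39_4 chk_39_4

theorem upto_240 : ∀ j, j < 120000 → ∃ r, checkFactW cert j r = true :=
  upto_stepW cert upto_239 ju_39_5 500 len_39_5 chk_39_5

theorem upto_241 : ∀ j, j < 120500 → ∃ r, checkFactW cert j r = true :=
  upto_stepW cert upto_240 ju_40_0 500 len_40_0 chk_40_0

theorem upto_242 : ∀ j, j < 121000 → ∃ r, checkFactW cert j r = true :=
  upto_stepW cert upto_241 ju_40_1 500 len_40_1 chk_40_1

theorem upto_243 : ∀ j, j < 121500 → ∃ r, checkFactW cert j r = true :=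
  upto_stepW cert upto_242 ju_40_2 500 len_40_2 chk_40_2

theorem upto_244 : ∀ j, j < 122000 → ∃ r, checkFactW cert j r = true :=
  upto_stepW cert upto_243 ju_40_3 500 len_40_3 chk_40_3

theorem upto_245 : ∀ j, j < 122500 → ∃ r, checkFactW cert j r = true :=
  upto_stepW cert upto_244 ju_40_4 500 len_40_4 chk_40_4

theorem upto_246 : ∀ j, j < 123000 → ∃ r, checkFactW cert j r = true :=
  upto_stepW cert upto_245 ju_40_5 500 len_40_5 chk_40_5

theorem upto_247 : ∀ j, j < 123500 → ∃ r, checkFactW cert j r = true :=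
  upto_stepW cert upto_246 ju_41_0 500 len_41_0 chk_41_0

theorem upto_248 : ∀ j, j < 124000 → ∃ r, checkFactW cert j r = true :=
  upto_stepW cert upto_247 ju_41_1 500 len_41_1 chk_41_1

theorem upto_249 : ∀ j, j < 124500 → ∃ r, checkFactW cert j r = true :=
  upto_stepW cert upto_248 ju_41_2 500 len_41_2 chk_41_2

theorem upto_250 : ∀ j, j < 125000 → ∃ r, checkFactW cert j r = true :=
  upto_stepW cert upto_249 ju_41_3 500 len_41_3 chk_41_3

theorem upto_251 : ∀ j, j < 125500 → ∃ r, checkFactW cert j r = true :=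
  upto_stepW cert upto_250 ju_41_4 500 len_41_4 chk_41_4

theorem upto_252 : ∀ j, j < 126000 → ∃ r, checkFactW cert j r = true :=
  upto_stepW cert upto_251 ju_41_5 500 len_41_5 chk_41_5

theorem upto_253 : ∀ j, j < 126500 → ∃ r, checkFactW cert j r = true :=
  upto_stepW cert upto_252 ju_42_0 500 len_42_0 chk_42_0

theorem upto_254 : ∀ j, j < 127000 → ∃ r, checkFactW cert j r = true :=
  upto_stepW cert upto_253 ju_42_1 500 len_42_1 chk_42_1

theorem upto_255 : ∀ j, j < 127500 → ∃ r, checkFactW cert j r = true :=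
  upto_stepW cert upto_254 ju_42_2 500 len_42_2 chk_42_2

theorem upto_256 : ∀ j, j < 128000 → ∃ r, checkFactW cert j r = true :=
  upto_stepW cert upto_255 ju_42_3 500 len_42_3 chk_42_3

theorem upto_257 : ∀ j, j < 128500 → ∃ r, checkFactW cert j r = true :=
  upto_stepW cert upto_256 ju_42_4 500 len_42_4 chk_42_4

theorem upto_258 : ∀ j, j < 129000 → ∃ r, checkFactW cert j r = true :=
  upto_stepW cert upto_257 ju_42_5 500 len_42_5 chk_42_5

theorem upto_259 : ∀ j, j < 129500 → ∃ r, checkFactW cert j r = true :=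
  upto_stepW cert upto_258 ju_43_0 500 len_43_0 chk_43_0

theorem upto_260 : ∀ j, j < 130000 → ∃ r, checkFactW cert j r = true :=
  upto_stepW cert upto_259 ju_43_1 500 len_43_1 chk_43_1

theorem upto_261 : ∀ j, j < 130500 → ∃ r, checkFactW cert j r = true :=
  upto_stepW cert upto_260 ju_43_2 500 len_43_2 chk_43_2

theorem upto_262 : ∀ j, j < 131000 → ∃ r, checkFactW cert j r = true :=
  upto_stepW cert upto_261 ju_43_3 500 len_43_3 chk_43_3

theorem upto_263 : ∀ j, j < 131500 → ∃ r, checkFactW cert j r = true :=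
  upto_stepW cert upto_262 ju_43_4 500 len_43_4 chk_43_4

theorem upto_264 : ∀ j, j < 132000 → ∃ r, checkFactW cert j r = true :=
  upto_stepW cert upto_263 ju_43_5 500 len_43_5 chk_43_5

theorem upto_265 : ∀ j, j < 132500 → ∃ r, checkFactW cert j r = true :=
  upto_stepW cert upto_264 ju_44_0 500 len_44_0 chk_44_0

theorem upto_266 : ∀ j, j < 133000 → ∃ r, checkFactW cert j r = true :=
  upto_stepW cert upto_265 ju_44_1 500 len_44_1 chk_44_1

theorem upto_267 : ∀ j, j < 133500 → ∃ r, checkFactW cert j r = true :=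
  upto_stepW cert upto_266 ju_44_2 500 len_44_2 chk_44_2

theorem upto_268 : ∀ j, j < 134000 → ∃ r, checkFactW cert j r = true :=
  upto_stepW cert upto_267 ju_44_3 500 len_44_3 chk_44_3

theorem upto_269 : ∀ j, j < 134500 → ∃ r, checkFactW cert j r = true :=
  upto_stepW cert upto_268 ju_44_4 500 len_44_4 chk_44_4

theorem upto_270 : ∀ j, j < 135000 → ∃ r, checkFactW cert j r = true :=
  upto_stepW cert upto_269 ju_44_5 500 len_44_5 chk_44_5

theorem upto_271 : ∀ j, j < 135500 → ∃ r, checkFactW cert j r = true :=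
  upto_stepW cert upto_270 ju_45_0 500 len_45_0 chk_45_0

theorem upto_272 : ∀ j, j < 136000 → ∃ r, checkFactW cert j r = true :=
  upto_stepW cert upto_271 ju_45_1 500 len_45_1 chk_45_1

theorem upto_273 : ∀ j, j < 136500 → ∃ r, checkFactW cert j r = true :=
  upto_stepW cert upto_272 ju_45_2 500 len_45_2 chk_45_2

theorem upto_274 : ∀ j, j < 137000 → ∃ r, checkFactW cert j r = true :=
  upto_stepW cert upto_273 ju_45_3 500 len_45_3 chk_45_3

theorem upto_275 : ∀ j, j < 137500 → ∃ r, checkFactW cert j r = true :=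
  upto_stepW cert upto_274 ju_45_4 500 len_45_4 chk_45_4

theorem upto_276 : ∀ j, j < 138000 → ∃ r, checkFactW cert j r = true :=
  upto_stepW cert upto_275 ju_45_5 500 len_45_5 chk_45_5

theorem upto_277 : ∀ j, j < 138500 → ∃ r, checkFactW cert j r = true :=
  upto_stepW cert upto_276 ju_46_0 500 len_46_0 chk_46_0

theorem upto_278 : ∀ j, j < 139000 → ∃ r, checkFactW cert j r = true :=
  upto_stepW cert upto_277 ju_46_1 500 len_46_1 chk_46_1

theorem upto_279 : ∀ j, j < 139500 → ∃ r, checkFactW cert j r = true :=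
  upto_stepW cert upto_278 ju_46_2 500 len_46_2 chk_46_2

theorem upto_280 : ∀ j, j < 140000 → ∃ r, checkFactW cert j r = true :=
  upto_stepW cert upto_279 ju_46_3 500 len_46_3 chk_46_3

theorem upto_281 : ∀ j, j < 140500 → ∃ r, checkFactW cert j r = true :=
  upto_stepW cert upto_280 ju_46_4 500 len_46_4 chk_46_4

theorem upto_282 : ∀ j, j < 141000 → ∃ r, checkFactW cert j r = true :=
  upto_stepW cert upto_281 ju_46_5 500 len_46_5 chk_46_5

theorem upto_283 : ∀ j, j < 141500 → ∃ r, checkFactW cert j r = true :=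
  upto_stepW cert upto_282 ju_47_0 500 len_47_0 chk_47_0

theorem upto_284 : ∀ j, j < 142000 → ∃ r, checkFactW cert j r = true :=
  upto_stepW cert upto_283 ju_47_1 500 len_47_1 chk_47_1

theorem upto_285 : ∀ j, j < 142500 → ∃ r, checkFactW cert j r = true :=
  upto_stepW cert upto_284 ju_47_2 500 len_47_2 chk_47_2

theorem upto_286 : ∀ j, j < 143000 → ∃ r, checkFactW cert j r = true :=
  upto_stepW cert upto_285 ju_47_3 500 len_47_3 chk_47_3

theorem upto_287 : ∀ j, j < 143500 → ∃ r, checkFactW cert j r = true :=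
  upto_stepW cert upto_286 ju_47_4 500 len_47_4 chk_47_4

theorem upto_288 : ∀ j, j < 144000 → ∃ r, checkFactW cert j r = true :=
  upto_stepW cert upto_287 ju_47_5 500 len_47_5 chk_47_5

theorem upto_289 : ∀ j, j < 144500 → ∃ r, checkFactW cert j r = true :=
  upto_stepW cert upto_288 ju_48_0 500 len_48_0 chk_48_0

theorem upto_290 : ∀ j, j < 145000 → ∃ r, checkFactW cert j r = true :=
  upto_stepW cert upto_289 ju_48_1 500 len_48_1 chk_48_1

theorem upto_291 : ∀ j, j < 145500 → ∃ r, checkFactW cert j r = true :=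
  upto_stepW cert upto_290 ju_48_2 500 len_48_2 chk_48_2

theorem upto_292 : ∀ j, j < 146000 → ∃ r, checkFactW cert j r = true :=
  upto_stepW cert upto_291 ju_48_3 500 len_48_3 chk_48_3

theorem upto_293 : ∀ j, j < 146500 → ∃ r, checkFactW cert j r = true :=
  upto_stepW cert upto_292 ju_48_4 500 len_48_4 chk_48_4

theorem upto_294 : ∀ j, j < 147000 → ∃ r, checkFactW cert j r = true :=
  upto_stepW cert upto_293 ju_48_5 500 len_48_5 chk_48_5

theorem upto_295 : ∀ j, j < 147500 → ∃ r, checkFactW cert j r = true :=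
  upto_stepW cert upto_294 ju_49_0 500 len_49_0 chk_49_0

theorem upto_296 : ∀ j, j < 148000 → ∃ r, checkFactW cert j r = true :=
  upto_stepW cert upto_295 ju_49_1 500 len_49_1 chk_49_1

theorem upto_297 : ∀ j, j < 148500 → ∃ r, checkFactW cert j r = true :=
  upto_stepW cert upto_296 ju_49_2 500 len_49_2 chk_49_2

theorem upto_298 : ∀ j, j < 149000 → ∃ r, checkFactW cert j r = true :=
  upto_stepW cert upto_297 ju_49_3 500 len_49_3 chk_49_3

theorem upto_299 : ∀ j, j < 149500 → ∃ r, checkFactW cert j r = true :=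
  upto_stepW cert upto_298 ju_49_4 500 len_49_4 chk_49_4

theorem upto_300 : ∀ j, j < 150000 → ∃ r, checkFactW cert j r = true :=
  upto_stepW cert upto_299 ju_49_5 500 len_49_5 chk_49_5

theorem upto_301 : ∀ j, j < 150500 → ∃ r, checkFactW cert j r = true :=
  upto_stepW cert upto_300 ju_50_0 500 len_50_0 chk_50_0

theorem upto_302 : ∀ j, j < 151000 → ∃ r, checkFactW cert j r = true :=
  upto_stepW cert upto_301 ju_50_1 500 len_50_1 chk_50_1

theorem upto_303 : ∀ j, j < 151500 → ∃ r, checkFactW cert j r = true :=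
  upto_stepW cert upto_302 ju_50_2 500 len_50_2 chk_50_2

theorem upto_304 : ∀ j, j < 152000 → ∃ r, checkFactW cert j r = true :=
  upto_stepW cert upto_303 ju_50_3 500 len_50_3 chk_50_3

theorem upto_305 : ∀ j, j < 152500 → ∃ r, checkFactW cert j r = true :=
  upto_stepW cert upto_304 ju_50_4 500 len_50_4 chk_50_4

theorem upto_306 : ∀ j, j < 153000 → ∃ r, checkFactW cert j r = true :=
  upto_stepW cert upto_305 ju_50_5 500 len_50_5 chk_50_5

theorem upto_307 : ∀ j, j < 153500 → ∃ r, checkFactW cert j r = true :=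
  upto_stepW cert upto_306 ju_51_0 500 len_51_0 chk_51_0

theorem upto_308 : ∀ j, j < 154000 → ∃ r, checkFactW cert j r = true :=
  upto_stepW cert upto_307 ju_51_1 500 len_51_1 chk_51_1

theorem upto_309 : ∀ j, j < 154500 → ∃ r, checkFactW cert j r = true :=
  upto_stepW cert upto_308 ju_51_2 500 len_51_2 chk_51_2

theorem upto_310 : ∀ j, j < 155000 → ∃ r, checkFactW cert j r = true :=
  upto_stepW cert upto_309 ju_51_3 500 len_51_3 chk_51_3

theorem upto_311 : ∀ j, j < 155500 → ∃ r, checkFactW cert j r = true :=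
  upto_stepW cert upto_310 ju_51_4 500 len_51_4 chk_51_4

theorem upto_312 : ∀ j, j < 156000 → ∃ r, checkFactW cert j r = true :=
  upto_stepW cert upto_311 ju_51_5 500 len_51_5 chk_51_5

theorem upto_313 : ∀ j, j < 156500 → ∃ r, checkFactW cert j r = true :=
  upto_stepW cert upto_312 ju_52_0 500 len_52_0 chk_52_0

theorem upto_314 : ∀ j, j < 157000 → ∃ r, checkFactW cert j r = true :=
  upto_stepW cert upto_313 ju_52_1 500 len_52_1 chk_52_1

theorem upto_315 : ∀ j, j < 157500 → ∃ r, checkFactW cert j r = true :=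
  upto_stepW cert upto_314 ju_52_2 500 len_52_2 chk_52_2

theorem upto_316 : ∀ j, j < 158000 → ∃ r, checkFactW cert j r = true :=
  upto_stepW cert upto_315 ju_52_3 500 len_52_3 chk_52_3

theorem upto_317 : ∀ j, j < 158500 → ∃ r, checkFactW cert j r = true :=
  upto_stepW cert upto_316 ju_52_4 500 len_52_4 chk_52_4

theorem upto_318 : ∀ j, j < 159000 → ∃ r, checkFactW cert j r = true :=
  upto_stepW cert upto_317 ju_52_5 500 len_52_5 chk_52_5

theorem upto_319 : ∀ j, j < 159500 → ∃ r, checkFactW cert j r = true :=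
  upto_stepW cert upto_318 ju_53_0 500 len_53_0 chk_53_0

theorem upto_320 : ∀ j, j < 160000 → ∃ r, checkFactW cert j r = true :=
  upto_stepW cert upto_319 ju_53_1 500 len_53_1 chk_53_1

theorem upto_321 : ∀ j, j < 160500 → ∃ r, checkFactW cert j r = true :=
  upto_stepW cert upto_320 ju_53_2 500 len_53_2 chk_53_2

theorem upto_322 : ∀ j, j < 161000 → ∃ r, checkFactW cert j r = true :=
  upto_stepW cert upto_321 ju_53_3 500 len_53_3 chk_53_3

theorem upto_323 : ∀ j, j < 161500 → ∃ r, checkFactW cert j r = true :=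
  upto_stepW cert upto_322 ju_53_4 500 len_53_4 chk_53_4

theorem upto_324 : ∀ j, j < 162000 → ∃ r, checkFactW cert j r = true :=
  upto_stepW cert upto_323 ju_53_5 500 len_53_5 chk_53_5

theorem upto_325 : ∀ j, j < 162500 → ∃ r, checkFactW cert j r = true :=
  upto_stepW cert upto_324 ju_54_0 500 len_54_0 chk_54_0

theorem upto_326 : ∀ j, j < 163000 → ∃ r, checkFactW cert j r = true :=
  upto_stepW cert upto_325 ju_54_1 500 len_54_1 chk_54_1

theorem upto_327 : ∀ j, j < 163500 → ∃ r, checkFactW cert j r = true :=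
  upto_stepW cert upto_326 ju_54_2 500 len_54_2 chk_54_2

theorem upto_328 : ∀ j, j < 164000 → ∃ r, checkFactW cert j r = true :=
  upto_stepW cert upto_327 ju_54_3 500 len_54_3 chk_54_3

theorem upto_329 : ∀ j, j < 164500 → ∃ r, checkFactW cert j r = true :=
  upto_stepW cert upto_328 ju_54_4 500 len_54_4 chk_54_4

theorem upto_330 : ∀ j, j < 165000 → ∃ r, checkFactW cert j r = true :=
  upto_stepW cert upto_329 ju_54_5 500 len_54_5 chk_54_5

theorem upto_331 : ∀ j, j < 165500 → ∃ r, checkFactW cert j r = true :=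
  upto_stepW cert upto_330 ju_55_0 500 len_55_0 chk_55_0

theorem upto_332 : ∀ j, j < 166000 → ∃ r, checkFactW cert j r = true :=
  upto_stepW cert upto_331 ju_55_1 500 len_55_1 chk_55_1

theorem upto_333 : ∀ j, j < 166500 → ∃ r, checkFactW cert j r = true :=
  upto_stepW cert upto_332 ju_55_2 500 len_55_2 chk_55_2

theorem upto_334 : ∀ j, j < 167000 → ∃ r, checkFactW cert j r = true :=
  upto_stepW cert upto_333 ju_55_3 500 len_55_3 chk_55_3

theorem upto_335 : ∀ j, j < 167500 → ∃ r, checkFactW cert j r = true :=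
  upto_stepW cert upto_334 ju_55_4 500 len_55_4 chk_55_4

theorem upto_336 : ∀ j, j < 168000 → ∃ r, checkFactW cert j r = true :=
  upto_stepW cert upto_335 ju_55_5 500 len_55_5 chk_55_5

theorem upto_337 : ∀ j, j < 168500 → ∃ r, checkFactW cert j r = true :=
  upto_stepW cert upto_336 ju_56_0 500 len_56_0 chk_56_0

theorem upto_338 : ∀ j, j < 169000 → ∃ r, checkFactW cert j r = true :=
  upto_stepW cert upto_337 ju_56_1 500 len_56_1 chk_56_1

theorem upto_339 : ∀ j, j < 169500 → ∃ r, checkFactW cert j r = true :=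
  upto_stepW cert upto_338 ju_56_2 500 len_56_2 chk_56_2

theorem upto_340 : ∀ j, j < 170000 → ∃ r, checkFactW cert j r = true :=
  upto_stepW cert upto_339 ju_56_3 500 len_56_3 chk_56_3

theorem upto_341 : ∀ j, j < 170500 → ∃ r, checkFactW cert j r = true :=
  upto_stepW cert upto_340 ju_56_4 500 len_56_4 chk_56_4

theorem upto_342 : ∀ j, j < 171000 → ∃ r, checkFactW cert j r = true :=
  upto_stepW cert upto_341 ju_56_5 500 len_56_5 chk_56_5

theorem upto_343 : ∀ j, j < 171500 → ∃ r, checkFactW cert j r = true :=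
  upto_stepW cert upto_342 ju_57_0 500 len_57_0 chk_57_0

theorem upto_344 : ∀ j, j < 172000 → ∃ r, checkFactW cert j r = true :=
  upto_stepW cert upto_343 ju_57_1 500 len_57_1 chk_57_1

theorem upto_345 : ∀ j, j < 172500 → ∃ r, checkFactW cert j r = true :=
  upto_stepW cert upto_344 ju_57_2 500 len_57_2 chk_57_2

theorem upto_346 : ∀ j, j < 173000 → ∃ r, checkFactW cert j r = true :=
  upto_stepW cert upto_345 ju_57_3 500 len_57_3 chk_57_3

theorem upto_347 : ∀ j, j < 173500 → ∃ r, checkFactW cert j r = true :=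
  upto_stepW cert upto_346 ju_57_4 500 len_57_4 chk_57_4

theorem upto_348 : ∀ j, j < 174000 → ∃ r, checkFactW cert j r = true :=
  upto_stepW cert upto_347 ju_57_5 500 len_57_5 chk_57_5

theorem upto_349 : ∀ j, j < 174500 → ∃ r, checkFactW cert j r = true :=
  upto_stepW cert upto_348 ju_58_0 500 len_58_0 chk_58_0

theorem upto_350 : ∀ j, j < 175000 → ∃ r, checkFactW cert j r = true :=
  upto_stepW cert upto_349 ju_58_1 500 len_58_1 chk_58_1

theorem upto_351 : ∀ j, j < 175500 → ∃ r, checkFactW cert j r = true :=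
  upto_stepW cert upto_350 ju_58_2 500 len_58_2 chk_58_2

theorem upto_352 : ∀ j, j < 176000 → ∃ r, checkFactW cert j r = true :=
  upto_stepW cert upto_351 ju_58_3 500 len_58_3 chk_58_3

theorem upto_353 : ∀ j, j < 176500 → ∃ r, checkFactW cert j r = true :=
  upto_stepW cert upto_352 ju_58_4 500 len_58_4 chk_58_4

theorem upto_354 : ∀ j, j < 177000 → ∃ r, checkFactW cert j r = true :=
  upto_stepW cert upto_353 ju_58_5 500 len_58_5 chk_58_5

theorem upto_355 : ∀ j, j < 177500 → ∃ r, checkFactW cert j r = true :=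
  upto_stepW cert upto_354 ju_59_0 500 len_59_0 chk_59_0

theorem upto_356 : ∀ j, j < 178000 → ∃ r, checkFactW cert j r = true :=
  upto_stepW cert upto_355 ju_59_1 500 len_59_1 chk_59_1

theorem upto_357 : ∀ j, j < 178500 → ∃ r, checkFactW cert j r = true :=
  upto_stepW cert upto_356 ju_59_2 500 len_59_2 chk_59_2

theorem upto_358 : ∀ j, j < 179000 → ∃ r, checkFactW cert j r = true :=
  upto_stepW cert upto_357 ju_59_3 500 len_59_3 chk_59_3

theorem upto_359 : ∀ j, j < 179500 → ∃ r, checkFactW cert j r = true :=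
  upto_stepW cert upto_358 ju_59_4 500 len_59_4 chk_59_4

theorem upto_360 : ∀ j, j < 180000 → ∃ r, checkFactW cert j r = true :=
  upto_stepW cert upto_359 ju_59_5 500 len_59_5 chk_59_5

theorem upto_361 : ∀ j, j < 180500 → ∃ r, checkFactW cert j r = true :=
  upto_stepW cert upto_360 ju_60_0 500 len_60_0 chk_60_0

theorem upto_362 : ∀ j, j < 181000 → ∃ r, checkFactW cert j r = true :=
  upto_stepW cert upto_361 ju_60_1 500 len_60_1 chk_60_1

theorem upto_363 : ∀ j, j < 181500 → ∃ r, checkFactW cert j r = true :=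
  upto_stepW cert upto_362 ju_60_2 500 len_60_2 chk_60_2

theorem upto_364 : ∀ j, j < 182000 → ∃ r, checkFactW cert j r = true :=
  upto_stepW cert upto_363 ju_60_3 500 len_60_3 chk_60_3

theorem upto_365 : ∀ j, j < 182500 → ∃ r, checkFactW cert j r = true :=
  upto_stepW cert upto_364 ju_60_4 500 len_60_4 chk_60_4

theorem upto_366 : ∀ j, j < 183000 → ∃ r, checkFactW cert j r = true :=
  upto_stepW cert upto_365 ju_60_5 500 len_60_5 chk_60_5

theorem upto_367 : ∀ j, j < 183500 → ∃ r, checkFactW cert j r = true :=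
  upto_stepW cert upto_366 ju_61_0 500 len_61_0 chk_61_0

theorem upto_368 : ∀ j, j < 184000 → ∃ r, checkFactW cert j r = true :=
  upto_stepW cert upto_367 ju_61_1 500 len_61_1 chk_61_1

theorem upto_369 : ∀ j, j < 184500 → ∃ r, checkFactW cert j r = true :=
  upto_stepW cert upto_368 ju_61_2 500 len_61_2 chk_61_2

theorem upto_370 : ∀ j, j < 185000 → ∃ r, checkFactW cert j r = true :=
  upto_stepW cert upto_369 ju_61_3 500 len_61_3 chk_61_3

theorem upto_371 : ∀ j, j < 185500 → ∃ r, checkFactW cert j r = true :=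
  upto_stepW cert upto_370 ju_61_4 500 len_61_4 chk_61_4

theorem upto_372 : ∀ j, j < 186000 → ∃ r, checkFactW cert j r = true :=
  upto_stepW cert upto_371 ju_61_5 500 len_61_5 chk_61_5

theorem upto_373 : ∀ j, j < 186500 → ∃ r, checkFactW cert j r = true :=
  upto_stepW cert upto_372 ju_62_0 500 len_62_0 chk_62_0

theorem upto_374 : ∀ j, j < 187000 → ∃ r, checkFactW cert j r = true :=
  upto_stepW cert upto_373 ju_62_1 500 len_62_1 chk_62_1

theorem upto_375 : ∀ j, j < 187500 → ∃ r, checkFactW cert j r = true :=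
  upto_stepW cert upto_374 ju_62_2 500 len_62_2 chk_62_2

theorem upto_376 : ∀ j, j < 188000 → ∃ r, checkFactW cert j r = true :=
  upto_stepW cert upto_375 ju_62_3 500 len_62_3 chk_62_3

theorem upto_377 : ∀ j, j < 188500 → ∃ r, checkFactW cert j r = true :=
  upto_stepW cert upto_376 ju_62_4 500 len_62_4 chk_62_4

theorem upto_378 : ∀ j, j < 189000 → ∃ r, checkFactW cert j r = true :=
  upto_stepW cert upto_377 ju_62_5 500 len_62_5 chk_62_5

theorem upto_379 : ∀ j, j < 189500 → ∃ r, checkFactW cert j r = true :=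
  upto_stepW cert upto_378 ju_63_0 500 len_63_0 chk_63_0

theorem upto_380 : ∀ j, j < 190000 → ∃ r, checkFactW cert j r = true :=
  upto_stepW cert upto_379 ju_63_1 500 len_63_1 chk_63_1

theorem upto_381 : ∀ j, j < 190500 → ∃ r, checkFactW cert j r = true :=
  upto_stepW cert upto_380 ju_63_2 500 len_63_2 chk_63_2

theorem upto_382 : ∀ j, j < 191000 → ∃ r, checkFactW cert j r = true :=
  upto_stepW cert upto_381 ju_63_3 500 len_63_3 chk_63_3

theorem upto_383 : ∀ j, j < 191500 → ∃ r, checkFactW cert j r = true :=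
  upto_stepW cert upto_382 ju_63_4 500 len_63_4 chk_63_4

theorem upto_384 : ∀ j, j < 192000 → ∃ r, checkFactW cert j r = true :=
  upto_stepW cert upto_383 ju_63_5 500 len_63_5 chk_63_5

theorem upto_385 : ∀ j, j < 192500 → ∃ r, checkFactW cert j r = true :=
  upto_stepW cert upto_384 ju_64_0 500 len_64_0 chk_64_0

theorem upto_386 : ∀ j, j < 193000 → ∃ r, checkFactW cert j r = true :=
  upto_stepW cert upto_385 ju_64_1 500 len_64_1 chk_64_1

theorem upto_387 : ∀ j, j < 193500 → ∃ r, checkFactW cert j r = true :=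
  upto_stepW cert upto_386 ju_64_2 500 len_64_2 chk_64_2

theorem upto_388 : ∀ j, j < 194000 → ∃ r, checkFactW cert j r = true :=
  upto_stepW cert upto_387 ju_64_3 500 len_64_3 chk_64_3

theorem upto_389 : ∀ j, j < 194500 → ∃ r, checkFactW cert j r = true :=
  upto_stepW cert upto_388 ju_64_4 500 len_64_4 chk_64_4

theorem upto_390 : ∀ j, j < 195000 → ∃ r, checkFactW cert j r = true :=
  upto_stepW cert upto_389 ju_64_5 500 len_64_5 chk_64_5

theorem upto_391 : ∀ j, j < 195500 → ∃ r, checkFactW cert j r = true :=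
  upto_stepW cert upto_390 ju_65_0 500 len_65_0 chk_65_0

theorem upto_392 : ∀ j, j < 196000 → ∃ r, checkFactW cert j r = true :=
  upto_stepW cert upto_391 ju_65_1 500 len_65_1 chk_65_1

theorem upto_393 : ∀ j, j < 196500 → ∃ r, checkFactW cert j r = true :=
  upto_stepW cert upto_392 ju_65_2 500 len_65_2 chk_65_2

theorem upto_394 : ∀ j, j < 197000 → ∃ r, checkFactW cert j r = true :=
  upto_stepW cert upto_393 ju_65_3 500 len_65_3 chk_65_3

theorem upto_395 : ∀ j, j < 197500 → ∃ r, checkFactW cert j r = true :=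
  upto_stepW cert upto_394 ju_65_4 500 len_65_4 chk_65_4

theorem upto_396 : ∀ j, j < 198000 → ∃ r, checkFactW cert j r = true :=
  upto_stepW cert upto_395 ju_65_5 500 len_65_5 chk_65_5

theorem upto_397 : ∀ j, j < 198500 → ∃ r, checkFactW cert j r = true :=
  upto_stepW cert upto_396 ju_66_0 500 len_66_0 chk_66_0

theorem upto_398 : ∀ j, j < 199000 → ∃ r, checkFactW cert j r = true :=
  upto_stepW cert upto_397 ju_66_1 500 len_66_1 chk_66_1

theorem upto_399 : ∀ j, j < 199500 → ∃ r, checkFactW cert j r = true :=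
  upto_stepW cert upto_398 ju_66_2 500 len_66_2 chk_66_2

theorem upto_400 : ∀ j, j < 200000 → ∃ r, checkFactW cert j r = true :=
  upto_stepW cert upto_399 ju_66_3 500 len_66_3 chk_66_3

theorem upto_401 : ∀ j, j < 200500 → ∃ r, checkFactW cert j r = true :=
  upto_stepW cert upto_400 ju_66_4 500 len_66_4 chk_66_4

theorem upto_402 : ∀ j, j < 201000 → ∃ r, checkFactW cert j r = true :=
  upto_stepW cert upto_401 ju_66_5 500 len_66_5 chk_66_5

theorem upto_403 : ∀ j, j < 201500 → ∃ r, checkFactW cert j r = true :=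
  upto_stepW cert upto_402 ju_67_0 500 len_67_0 chk_67_0

theorem upto_404 : ∀ j, j < 202000 → ∃ r, checkFactW cert j r = true :=
  upto_stepW cert upto_403 ju_67_1 500 len_67_1 chk_67_1

theorem upto_405 : ∀ j, j < 202500 → ∃ r, checkFactW cert j r = true :=
  upto_stepW cert upto_404 ju_67_2 500 len_67_2 chk_67_2

theorem upto_406 : ∀ j, j < 203000 → ∃ r, checkFactW cert j r = true :=
  upto_stepW cert upto_405 ju_67_3 500 len_67_3 chk_67_3

theorem upto_407 : ∀ j, j < 203500 → ∃ r, checkFactW cert j r = true :=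
  upto_stepW cert upto_406 ju_67_4 500 len_67_4 chk_67_4

theorem upto_408 : ∀ j, j < 204000 → ∃ r, checkFactW cert j r = true :=
  upto_stepW cert upto_407 ju_67_5 500 len_67_5 chk_67_5

theorem upto_409 : ∀ j, j < 204500 → ∃ r, checkFactW cert j r = true :=
  upto_stepW cert upto_408 ju_68_0 500 len_68_0 chk_68_0

theorem upto_410 : ∀ j, j < 205000 → ∃ r, checkFactW cert j r = true :=
  upto_stepW cert upto_409 ju_68_1 500 len_68_1 chk_68_1

theorem upto_411 : ∀ j, j < 205500 → ∃ r, checkFactW cert j r = true :=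
  upto_stepW cert upto_410 ju_68_2 500 len_68_2 chk_68_2

theorem upto_412 : ∀ j, j < 206000 → ∃ r, checkFactW cert j r = true :=
  upto_stepW cert upto_411 ju_68_3 500 len_68_3 chk_68_3

theorem upto_413 : ∀ j, j < 206500 → ∃ r, checkFactW cert j r = true :=
  upto_stepW cert upto_412 ju_68_4 500 len_68_4 chk_68_4

theorem upto_414 : ∀ j, j < 207000 → ∃ r, checkFactW cert j r = true :=
  upto_stepW cert upto_413 ju_68_5 500 len_68_5 chk_68_5

theorem upto_415 : ∀ j, j < 207500 → ∃ r, checkFactW cert j r = true :=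
  upto_stepW cert upto_414 ju_69_0 500 len_69_0 chk_69_0

theorem upto_416 : ∀ j, j < 208000 → ∃ r, checkFactW cert j r = true :=
  upto_stepW cert upto_415 ju_69_1 500 len_69_1 chk_69_1

theorem upto_417 : ∀ j, j < 208500 → ∃ r, checkFactW cert j r = true :=
  upto_stepW cert upto_416 ju_69_2 500 len_69_2 chk_69_2

theorem upto_418 : ∀ j, j < 209000 → ∃ r, checkFactW cert j r = true :=
  upto_stepW cert upto_417 ju_69_3 500 len_69_3 chk_69_3

theorem upto_419 : ∀ j, j < 209500 → ∃ r, checkFactW cert j r = true :=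
  upto_stepW cert upto_418 ju_69_4 500 len_69_4 chk_69_4

theorem upto_420 : ∀ j, j < 210000 → ∃ r, checkFactW cert j r = true :=
  upto_stepW cert upto_419 ju_69_5 500 len_69_5 chk_69_5

theorem upto_421 : ∀ j, j < 210500 → ∃ r, checkFactW cert j r = true :=
  upto_stepW cert upto_420 ju_70_0 500 len_70_0 chk_70_0

theorem upto_422 : ∀ j, j < 211000 → ∃ r, checkFactW cert j r = true :=
  upto_stepW cert upto_421 ju_70_1 500 len_70_1 chk_70_1

theorem upto_423 : ∀ j, j < 211500 → ∃ r, checkFactW cert j r = true :=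
  upto_stepW cert upto_422 ju_70_2 500 len_70_2 chk_70_2

theorem upto_424 : ∀ j, j < 212000 → ∃ r, checkFactW cert j r = true :=
  upto_stepW cert upto_423 ju_70_3 500 len_70_3 chk_70_3

theorem upto_425 : ∀ j, j < 212500 → ∃ r, checkFactW cert j r = true :=
  upto_stepW cert upto_424 ju_70_4 500 len_70_4 chk_70_4

theorem upto_426 : ∀ j, j < 213000 → ∃ r, checkFactW cert j r = true :=
  upto_stepW cert upto_425 ju_70_5 500 len_70_5 chk_70_5

theorem upto_427 : ∀ j, j < 213500 → ∃ r, checkFactW cert j r = true :=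
  upto_stepW cert upto_426 ju_71_0 500 len_71_0 chk_71_0

theorem upto_428 : ∀ j, j < 214000 → ∃ r, checkFactW cert j r = true :=
  upto_stepW cert upto_427 ju_71_1 500 len_71_1 chk_71_1

theorem upto_429 : ∀ j, j < 214500 → ∃ r, checkFactW cert j r = true :=
  upto_stepW cert upto_428 ju_71_2 500 len_71_2 chk_71_2

theorem upto_430 : ∀ j, j < 215000 → ∃ r, checkFactW cert j r = true :=
  upto_stepW cert upto_429 ju_71_3 500 len_71_3 chk_71_3

theorem upto_431 : ∀ j, j < 215500 → ∃ r, checkFactW cert j r = true :=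
  upto_stepW cert upto_430 ju_71_4 500 len_71_4 chk_71_4

theorem upto_432 : ∀ j, j < 216000 → ∃ r, checkFactW cert j r = true :=
  upto_stepW cert upto_431 ju_71_5 500 len_71_5 chk_71_5

theorem upto_433 : ∀ j, j < 216500 → ∃ r, checkFactW cert j r = true :=
  upto_stepW cert upto_432 ju_72_0 500 len_72_0 chk_72_0

theorem upto_434 : ∀ j, j < 217000 → ∃ r, checkFactW cert j r = true :=
  upto_stepW cert upto_433 ju_72_1 500 len_72_1 chk_72_1

theorem upto_435 : ∀ j, j < 217500 → ∃ r, checkFactW cert j r = true :=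
  upto_stepW cert upto_434 ju_72_2 500 len_72_2 chk_72_2

theorem upto_436 : ∀ j, j < 218000 → ∃ r, checkFactW cert j r = true :=
  upto_stepW cert upto_435 ju_72_3 500 len_72_3 chk_72_3

theorem upto_437 : ∀ j, j < 218500 → ∃ r, checkFactW cert j r = true :=
  upto_stepW cert upto_436 ju_72_4 500 len_72_4 chk_72_4

theorem upto_438 : ∀ j, j < 219000 → ∃ r, checkFactW cert j r = true :=
  upto_stepW cert upto_437 ju_72_5 500 len_72_5 chk_72_5

theorem upto_439 : ∀ j, j < 219500 → ∃ r, checkFactW cert j r = true :=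
  upto_stepW cert upto_438 ju_73_0 500 len_73_0 chk_73_0

theorem upto_440 : ∀ j, j < 220000 → ∃ r, checkFactW cert j r = true :=
  upto_stepW cert upto_439 ju_73_1 500 len_73_1 chk_73_1

theorem upto_441 : ∀ j, j < 220500 → ∃ r, checkFactW cert j r = true :=
  upto_stepW cert upto_440 ju_73_2 500 len_73_2 chk_73_2

theorem upto_442 : ∀ j, j < 221000 → ∃ r, checkFactW cert j r = true :=
  upto_stepW cert upto_441 ju_73_3 500 len_73_3 chk_73_3

theorem upto_443 : ∀ j, j < 221500 → ∃ r, checkFactW cert j r = true :=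
  upto_stepW cert upto_442 ju_73_4 500 len_73_4 chk_73_4

theorem upto_444 : ∀ j, j < 222000 → ∃ r, checkFactW cert j r = true :=
  upto_stepW cert upto_443 ju_73_5 500 len_73_5 chk_73_5

theorem upto_445 : ∀ j, j < 222500 → ∃ r, checkFactW cert j r = true :=
  upto_stepW cert upto_444 ju_74_0 500 len_74_0 chk_74_0

theorem upto_446 : ∀ j, j < 223000 → ∃ r, checkFactW cert j r = true :=
  upto_stepW cert upto_445 ju_74_1 500 len_74_1 chk_74_1

theorem upto_447 : ∀ j, j < 223500 → ∃ r, checkFactW cert j r = true :=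
  upto_stepW cert upto_446 ju_74_2 500 len_74_2 chk_74_2

theorem upto_448 : ∀ j, j < 224000 → ∃ r, checkFactW cert j r = true :=
  upto_stepW cert upto_447 ju_74_3 500 len_74_3 chk_74_3

theorem upto_449 : ∀ j, j < 224500 → ∃ r, checkFactW cert j r = true :=
  upto_stepW cert upto_448 ju_74_4 500 len_74_4 chk_74_4

theorem upto_450 : ∀ j, j < 225000 → ∃ r, checkFactW cert j r = true :=
  upto_stepW cert upto_449 ju_74_5 500 len_74_5 chk_74_5

theorem upto_451 : ∀ j, j < 225500 → ∃ r, checkFactW cert j r = true :=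
  upto_stepW cert upto_450 ju_75_0 500 len_75_0 chk_75_0

theorem upto_452 : ∀ j, j < 226000 → ∃ r, checkFactW cert j r = true :=
  upto_stepW cert upto_451 ju_75_1 500 len_75_1 chk_75_1

theorem upto_453 : ∀ j, j < 226500 → ∃ r, checkFactW cert j r = true :=
  upto_stepW cert upto_452 ju_75_2 500 len_75_2 chk_75_2

theorem upto_454 : ∀ j, j < 227000 → ∃ r, checkFactW cert j r = true :=
  upto_stepW cert upto_453 ju_75_3 500 len_75_3 chk_75_3

theorem upto_455 : ∀ j, j < 227500 → ∃ r, checkFactW cert j r = true :=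
  upto_stepW cert upto_454 ju_75_4 500 len_75_4 chk_75_4

theorem upto_456 : ∀ j, j < 228000 → ∃ r, checkFactW cert j r = true :=
  upto_stepW cert upto_455 ju_75_5 500 len_75_5 chk_75_5

theorem upto_457 : ∀ j, j < 228500 → ∃ r, checkFactW cert j r = true :=
  upto_stepW cert upto_456 ju_76_0 500 len_76_0 chk_76_0

theorem upto_458 : ∀ j, j < 229000 → ∃ r, checkFactW cert j r = true :=
  upto_stepW cert upto_457 ju_76_1 500 len_76_1 chk_76_1

theorem upto_459 : ∀ j, j < 229500 → ∃ r, checkFactW cert j r = true :=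
  upto_stepW cert upto_458 ju_76_2 500 len_76_2 chk_76_2

theorem upto_460 : ∀ j, j < 230000 → ∃ r, checkFactW cert j r = true :=
  upto_stepW cert upto_459 ju_76_3 500 len_76_3 chk_76_3

theorem upto_461 : ∀ j, j < 230500 → ∃ r, checkFactW cert j r = true :=
  upto_stepW cert upto_460 ju_76_4 500 len_76_4 chk_76_4

theorem upto_462 : ∀ j, j < 231000 → ∃ r, checkFactW cert j r = true :=
  upto_stepW cert upto_461 ju_76_5 500 len_76_5 chk_76_5

theorem upto_463 : ∀ j, j < 231500 → ∃ r, checkFactW cert j r = true :=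
  upto_stepW cert upto_462 ju_77_0 500 len_77_0 chk_77_0

theorem upto_464 : ∀ j, j < 232000 → ∃ r, checkFactW cert j r = true :=
  upto_stepW cert upto_463 ju_77_1 500 len_77_1 chk_77_1

theorem upto_465 : ∀ j, j < 232500 → ∃ r, checkFactW cert j r = true :=
  upto_stepW cert upto_464 ju_77_2 500 len_77_2 chk_77_2

theorem upto_466 : ∀ j, j < 233000 → ∃ r, checkFactW cert j r = true :=
  upto_stepW cert upto_465 ju_77_3 500 len_77_3 chk_77_3

theorem upto_467 : ∀ j, j < 233500 → ∃ r, checkFactW cert j r = true :=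
  upto_stepW cert upto_466 ju_77_4 500 len_77_4 chk_77_4

theorem upto_468 : ∀ j, j < 234000 → ∃ r, checkFactW cert j r = true :=
  upto_stepW cert upto_467 ju_77_5 500 len_77_5 chk_77_5

theorem upto_469 : ∀ j, j < 234500 → ∃ r, checkFactW cert j r = true :=
  upto_stepW cert upto_468 ju_78_0 500 len_78_0 chk_78_0

theorem upto_470 : ∀ j, j < 235000 → ∃ r, checkFactW cert j r = true :=
  upto_stepW cert upto_469 ju_78_1 500 len_78_1 chk_78_1

theorem upto_471 : ∀ j, j < 235500 → ∃ r, checkFactW cert j r = true :=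
  upto_stepW cert upto_470 ju_78_2 500 len_78_2 chk_78_2

theorem upto_472 : ∀ j, j < 236000 → ∃ r, checkFactW cert j r = true :=
  upto_stepW cert upto_471 ju_78_3 500 len_78_3 chk_78_3

theorem upto_473 : ∀ j, j < 236500 → ∃ r, checkFactW cert j r = true :=
  upto_stepW cert upto_472 ju_78_4 500 len_78_4 chk_78_4

theorem upto_474 : ∀ j, j < 237000 → ∃ r, checkFactW cert j r = true :=
  upto_stepW cert upto_473 ju_78_5 500 len_78_5 chk_78_5

theorem upto_475 : ∀ j, j < 237500 → ∃ r, checkFactW cert j r = true :=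
  upto_stepW cert upto_474 ju_79_0 500 len_79_0 chk_79_0

theorem upto_476 : ∀ j, j < 238000 → ∃ r, checkFactW cert j r = true :=
  upto_stepW cert upto_475 ju_79_1 500 len_79_1 chk_79_1

theorem upto_477 : ∀ j, j < 238500 → ∃ r, checkFactW cert j r = true :=
  upto_stepW cert upto_476 ju_79_2 500 len_79_2 chk_79_2

theorem upto_478 : ∀ j, j < 239000 → ∃ r, checkFactW cert j r = true :=
  upto_stepW cert upto_477 ju_79_3 500 len_79_3 chk_79_3

theorem upto_479 : ∀ j, j < 239500 → ∃ r, checkFactW cert j r = true :=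
  upto_stepW cert upto_478 ju_79_4 500 len_79_4 chk_79_4

theorem upto_480 : ∀ j, j < 240000 → ∃ r, checkFactW cert j r = true :=
  upto_stepW cert upto_479 ju_79_5 500 len_79_5 chk_79_5

theorem upto_481 : ∀ j, j < 240500 → ∃ r, checkFactW cert j r = true :=
  upto_stepW cert upto_480 ju_80_0 500 len_80_0 chk_80_0

theorem upto_482 : ∀ j, j < 241000 → ∃ r, checkFactW cert j r = true :=
  upto_stepW cert upto_481 ju_80_1 500 len_80_1 chk_80_1

theorem upto_483 : ∀ j, j < 241500 → ∃ r, checkFactW cert j r = true :=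
  upto_stepW cert upto_482 ju_80_2 500 len_80_2 chk_80_2

theorem upto_484 : ∀ j, j < 242000 → ∃ r, checkFactW cert j r = true :=
  upto_stepW cert upto_483 ju_80_3 500 len_80_3 chk_80_3

theorem upto_485 : ∀ j, j < 242500 → ∃ r, checkFactW cert j r = true :=
  upto_stepW cert upto_484 ju_80_4 500 len_80_4 chk_80_4

theorem upto_486 : ∀ j, j < 243000 → ∃ r, checkFactW cert j r = true :=
  upto_stepW cert upto_485 ju_80_5 500 len_80_5 chk_80_5

theorem upto_487 : ∀ j, j < 243500 → ∃ r, checkFactW cert j r = true :=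
  upto_stepW cert upto_486 ju_81_0 500 len_81_0 chk_81_0

theorem upto_488 : ∀ j, j < 244000 → ∃ r, checkFactW cert j r = true :=
  upto_stepW cert upto_487 ju_81_1 500 len_81_1 chk_81_1

theorem upto_489 : ∀ j, j < 244500 → ∃ r, checkFactW cert j r = true :=
  upto_stepW cert upto_488 ju_81_2 500 len_81_2 chk_81_2

theorem upto_490 : ∀ j, j < 245000 → ∃ r, checkFactW cert j r = true :=
  upto_stepW cert upto_489 ju_81_3 500 len_81_3 chk_81_3

theorem upto_491 : ∀ j, j < 245500 → ∃ r, checkFactW cert j r = true :=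
  upto_stepW cert upto_490 ju_81_4 500 len_81_4 chk_81_4

theorem upto_492 : ∀ j, j < 246000 → ∃ r, checkFactW cert j r = true :=
  upto_stepW cert upto_491 ju_81_5 500 len_81_5 chk_81_5

theorem upto_493 : ∀ j, j < 246500 → ∃ r, checkFactW cert j r = true :=
  upto_stepW cert upto_492 ju_82_0 500 len_82_0 chk_82_0

theorem upto_494 : ∀ j, j < 247000 → ∃ r, checkFactW cert j r = true :=
  upto_stepW cert upto_493 ju_82_1 500 len_82_1 chk_82_1

theorem upto_495 : ∀ j, j < 247500 → ∃ r, checkFactW cert j r = true :=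
  upto_stepW cert upto_494 ju_82_2 500 len_82_2 chk_82_2

theorem upto_496 : ∀ j, j < 248000 → ∃ r, checkFactW cert j r = true :=
  upto_stepW cert upto_495 ju_82_3 500 len_82_3 chk_82_3

theorem upto_497 : ∀ j, j < 248500 → ∃ r, checkFactW cert j r = true :=
  upto_stepW cert upto_496 ju_82_4 500 len_82_4 chk_82_4

theorem upto_498 : ∀ j, j < 249000 → ∃ r, checkFactW cert j r = true :=
  upto_stepW cert upto_497 ju_82_5 500 len_82_5 chk_82_5

theorem upto_499 : ∀ j, j < 249500 → ∃ r, checkFactW cert j r = true :=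
  upto_stepW cert upto_498 ju_83_0 500 len_83_0 chk_83_0

theorem upto_500 : ∀ j, j < 250000 → ∃ r, checkFactW cert j r = true :=
  upto_stepW cert upto_499 ju_83_1 500 len_83_1 chk_83_1

theorem upto_501 : ∀ j, j < 250500 → ∃ r, checkFactW cert j r = true :=
  upto_stepW cert upto_500 ju_83_2 500 len_83_2 chk_83_2

theorem upto_502 : ∀ j, j < 251000 → ∃ r, checkFactW cert j r = true :=
  upto_stepW cert upto_501 ju_83_3 500 len_83_3 chk_83_3

theorem upto_503 : ∀ j, j < 251500 → ∃ r, checkFactW cert j r = true :=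
  upto_stepW cert upto_502 ju_83_4 500 len_83_4 chk_83_4

theorem upto_504 : ∀ j, j < 252000 → ∃ r, checkFactW cert j r = true :=
  upto_stepW cert upto_503 ju_83_5 500 len_83_5 chk_83_5

theorem upto_505 : ∀ j, j < 252500 → ∃ r, checkFactW cert j r = true :=
  upto_stepW cert upto_504 ju_84_0 500 len_84_0 chk_84_0

theorem upto_506 : ∀ j, j < 253000 → ∃ r, checkFactW cert j r = true :=
  upto_stepW cert upto_505 ju_84_1 500 len_84_1 chk_84_1

theorem upto_507 : ∀ j, j < 253500 → ∃ r, checkFactW cert j r = true :=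
  upto_stepW cert upto_506 ju_84_2 500 len_84_2 chk_84_2

theorem upto_508 : ∀ j, j < 254000 → ∃ r, checkFactW cert j r = true :=
  upto_stepW cert upto_507 ju_84_3 500 len_84_3 chk_84_3

theorem upto_509 : ∀ j, j < 254500 → ∃ r, checkFactW cert j r = true :=
  upto_stepW cert upto_508 ju_84_4 500 len_84_4 chk_84_4

theorem upto_510 : ∀ j, j < 255000 → ∃ r, checkFactW cert j r = true :=
  upto_stepW cert upto_509 ju_84_5 500 len_84_5 chk_84_5

theorem upto_511 : ∀ j, j < 255500 → ∃ r, checkFactW cert j r = true :=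
  upto_stepW cert upto_510 ju_85_0 500 len_85_0 chk_85_0

theorem upto_512 : ∀ j, j < 256000 → ∃ r, checkFactW cert j r = true :=
  upto_stepW cert upto_511 ju_85_1 500 len_85_1 chk_85_1

theorem upto_513 : ∀ j, j < 256500 → ∃ r, checkFactW cert j r = true :=
  upto_stepW cert upto_512 ju_85_2 500 len_85_2 chk_85_2

theorem upto_514 : ∀ j, j < 257000 → ∃ r, checkFactW cert j r = true :=
  upto_stepW cert upto_513 ju_85_3 500 len_85_3 chk_85_3

theorem upto_515 : ∀ j, j < 257500 → ∃ r, checkFactW cert j r = true :=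
  upto_stepW cert upto_514 ju_85_4 500 len_85_4 chk_85_4

theorem upto_516 : ∀ j, j < 258000 → ∃ r, checkFactW cert j r = true :=
  upto_stepW cert upto_515 ju_85_5 500 len_85_5 chk_85_5

theorem upto_517 : ∀ j, j < 258500 → ∃ r, checkFactW cert j r = true :=
  upto_stepW cert upto_516 ju_86_0 500 len_86_0 chk_86_0

theorem upto_518 : ∀ j, j < 259000 → ∃ r, checkFactW cert j r = true :=
  upto_stepW cert upto_517 ju_86_1 500 len_86_1 chk_86_1

theorem upto_519 : ∀ j, j < 259500 → ∃ r, checkFactW cert j r = true :=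
  upto_stepW cert upto_518 ju_86_2 500 len_86_2 chk_86_2

theorem upto_520 : ∀ j, j < 260000 → ∃ r, checkFactW cert j r = true :=
  upto_stepW cert upto_519 ju_86_3 500 len_86_3 chk_86_3

theorem upto_521 : ∀ j, j < 260500 → ∃ r, checkFactW cert j r = true :=
  upto_stepW cert upto_520 ju_86_4 500 len_86_4 chk_86_4

theorem upto_522 : ∀ j, j < 261000 → ∃ r, checkFactW cert j r = true :=
  upto_stepW cert upto_521 ju_86_5 500 len_86_5 chk_86_5

theorem upto_523 : ∀ j, j < 261500 → ∃ r, checkFactW cert j r = true :=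
  upto_stepW cert upto_522 ju_87_0 500 len_87_0 chk_87_0

theorem upto_524 : ∀ j, j < 262000 → ∃ r, checkFactW cert j r = true :=
  upto_stepW cert upto_523 ju_87_1 500 len_87_1 chk_87_1

theorem upto_525 : ∀ j, j < 262500 → ∃ r, checkFactW cert j r = true :=
  upto_stepW cert upto_524 ju_87_2 500 len_87_2 chk_87_2

theorem upto_526 : ∀ j, j < 263000 → ∃ r, checkFactW cert j r = true :=
  upto_stepW cert upto_525 ju_87_3 500 len_87_3 chk_87_3

theorem upto_527 : ∀ j, j < 263500 → ∃ r, checkFactW cert j r = true :=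
  upto_stepW cert upto_526 ju_87_4 500 len_87_4 chk_87_4

theorem upto_528 : ∀ j, j < 264000 → ∃ r, checkFactW cert j r = true :=
  upto_stepW cert upto_527 ju_87_5 500 len_87_5 chk_87_5

theorem upto_529 : ∀ j, j < 264500 → ∃ r, checkFactW cert j r = true :=
  upto_stepW cert upto_528 ju_88_0 500 len_88_0 chk_88_0

theorem upto_530 : ∀ j, j < 265000 → ∃ r, checkFactW cert j r = true :=
  upto_stepW cert upto_529 ju_88_1 500 len_88_1 chk_88_1

theorem upto_531 : ∀ j, j < 265500 → ∃ r, checkFactW cert j r = true :=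
  upto_stepW cert upto_530 ju_88_2 500 len_88_2 chk_88_2

theorem upto_532 : ∀ j, j < 266000 → ∃ r, checkFactW cert j r = true :=
  upto_stepW cert upto_531 ju_88_3 500 len_88_3 chk_88_3

theorem upto_533 : ∀ j, j < 266500 → ∃ r, checkFactW cert j r = true :=
  upto_stepW cert upto_532 ju_88_4 500 len_88_4 chk_88_4

theorem upto_534 : ∀ j, j < 267000 → ∃ r, checkFactW cert j r = true :=
  upto_stepW cert upto_533 ju_88_5 500 len_88_5 chk_88_5

theorem upto_535 : ∀ j, j < 267500 → ∃ r, checkFactW cert j r = true :=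
  upto_stepW cert upto_534 ju_89_0 500 len_89_0 chk_89_0

theorem upto_536 : ∀ j, j < 268000 → ∃ r, checkFactW cert j r = true :=
  upto_stepW cert upto_535 ju_89_1 500 len_89_1 chk_89_1

theorem upto_537 : ∀ j, j < 268500 → ∃ r, checkFactW cert j r = true :=
  upto_stepW cert upto_536 ju_89_2 500 len_89_2 chk_89_2

theorem upto_538 : ∀ j, j < 269000 → ∃ r, checkFactW cert j r = true :=
  upto_stepW cert upto_537 ju_89_3 500 len_89_3 chk_89_3

theorem upto_539 : ∀ j, j < 269500 → ∃ r, checkFactW cert j r = true :=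
  upto_stepW cert upto_538 ju_89_4 500 len_89_4 chk_89_4

theorem upto_540 : ∀ j, j < 270000 → ∃ r, checkFactW cert j r = true :=
  upto_stepW cert upto_539 ju_89_5 500 len_89_5 chk_89_5

theorem upto_541 : ∀ j, j < 270500 → ∃ r, checkFactW cert j r = true :=
  upto_stepW cert upto_540 ju_90_0 500 len_90_0 chk_90_0

theorem upto_542 : ∀ j, j < 271000 → ∃ r, checkFactW cert j r = true :=
  upto_stepW cert upto_541 ju_90_1 500 len_90_1 chk_90_1

theorem upto_543 : ∀ j, j < 271500 → ∃ r, checkFactW cert j r = true :=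
  upto_stepW cert upto_542 ju_90_2 500 len_90_2 chk_90_2

theorem upto_544 : ∀ j, j < 272000 → ∃ r, checkFactW cert j r = true :=
  upto_stepW cert upto_543 ju_90_3 500 len_90_3 chk_90_3

theorem upto_545 : ∀ j, j < 272500 → ∃ r, checkFactW cert j r = true :=
  upto_stepW cert upto_544 ju_90_4 500 len_90_4 chk_90_4

theorem upto_546 : ∀ j, j < 273000 → ∃ r, checkFactW cert j r = true :=
  upto_stepW cert upto_545 ju_90_5 500 len_90_5 chk_90_5

theorem upto_547 : ∀ j, j < 273500 → ∃ r, checkFactW cert j r = true :=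
  upto_stepW cert upto_546 ju_91_0 500 len_91_0 chk_91_0

theorem upto_548 : ∀ j, j < 274000 → ∃ r, checkFactW cert j r = true :=
  upto_stepW cert upto_547 ju_91_1 500 len_91_1 chk_91_1

theorem upto_549 : ∀ j, j < 274500 → ∃ r, checkFactW cert j r = true :=
  upto_stepW cert upto_548 ju_91_2 500 len_91_2 chk_91_2

theorem upto_550 : ∀ j, j < 275000 → ∃ r, checkFactW cert j r = true :=
  upto_stepW cert upto_549 ju_91_3 500 len_91_3 chk_91_3

theorem upto_551 : ∀ j, j < 275500 → ∃ r, checkFactW cert j r = true :=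
  upto_stepW cert upto_550 ju_91_4 500 len_91_4 chk_91_4

theorem upto_552 : ∀ j, j < 276000 → ∃ r, checkFactW cert j r = true :=
  upto_stepW cert upto_551 ju_91_5 500 len_91_5 chk_91_5

theorem upto_553 : ∀ j, j < 276500 → ∃ r, checkFactW cert j r = true :=
  upto_stepW cert upto_552 ju_92_0 500 len_92_0 chk_92_0

theorem upto_554 : ∀ j, j < 277000 → ∃ r, checkFactW cert j r = true :=
  upto_stepW cert upto_553 ju_92_1 500 len_92_1 chk_92_1

theorem upto_555 : ∀ j, j < 277500 → ∃ r, checkFactW cert j r = true :=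
  upto_stepW cert upto_554 ju_92_2 500 len_92_2 chk_92_2

theorem upto_556 : ∀ j, j < 278000 → ∃ r, checkFactW cert j r = true :=
  upto_stepW cert upto_555 ju_92_3 500 len_92_3 chk_92_3

theorem upto_557 : ∀ j, j < 278500 → ∃ r, checkFactW cert j r = true :=
  upto_stepW cert upto_556 ju_92_4 500 len_92_4 chk_92_4

theorem upto_558 : ∀ j, j < 279000 → ∃ r, checkFactW cert j r = true :=
  upto_stepW cert upto_557 ju_92_5 500 len_92_5 chk_92_5

theorem upto_559 : ∀ j, j < 279500 → ∃ r, checkFactW cert j r = true :=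
  upto_stepW cert upto_558 ju_93_0 500 len_93_0 chk_93_0

theorem upto_560 : ∀ j, j < 280000 → ∃ r, checkFactW cert j r = true :=
  upto_stepW cert upto_559 ju_93_1 500 len_93_1 chk_93_1

theorem upto_561 : ∀ j, j < 280500 → ∃ r, checkFactW cert j r = true :=
  upto_stepW cert upto_560 ju_93_2 500 len_93_2 chk_93_2

theorem upto_562 : ∀ j, j < 281000 → ∃ r, checkFactW cert j r = true :=
  upto_stepW cert upto_561 ju_93_3 500 len_93_3 chk_93_3

theorem upto_563 : ∀ j, j < 281500 → ∃ r, checkFactW cert j r = true :=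
  upto_stepW cert upto_562 ju_93_4 500 len_93_4 chk_93_4

theorem upto_564 : ∀ j, j < 282000 → ∃ r, checkFactW cert j r = true :=
  upto_stepW cert upto_563 ju_93_5 500 len_93_5 chk_93_5

theorem upto_565 : ∀ j, j < 282500 → ∃ r, checkFactW cert j r = true :=
  upto_stepW cert upto_564 ju_94_0 500 len_94_0 chk_94_0

theorem upto_566 : ∀ j, j < 283000 → ∃ r, checkFactW cert j r = true :=
  upto_stepW cert upto_565 ju_94_1 500 len_94_1 chk_94_1

theorem upto_567 : ∀ j, j < 283500 → ∃ r, checkFactW cert j r = true :=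
  upto_stepW cert upto_566 ju_94_2 500 len_94_2 chk_94_2

theorem upto_568 : ∀ j, j < 284000 → ∃ r, checkFactW cert j r = true :=
  upto_stepW cert upto_567 ju_94_3 500 len_94_3 chk_94_3

theorem upto_569 : ∀ j, j < 284500 → ∃ r, checkFactW cert j r = true :=
  upto_stepW cert upto_568 ju_94_4 500 len_94_4 chk_94_4

theorem upto_570 : ∀ j, j < 285000 → ∃ r, checkFactW cert j r = true :=
  upto_stepW cert upto_569 ju_94_5 500 len_94_5 chk_94_5

theorem upto_571 : ∀ j, j < 285500 → ∃ r, checkFactW cert j r = true :=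
  upto_stepW cert upto_570 ju_95_0 500 len_95_0 chk_95_0

theorem upto_572 : ∀ j, j < 286000 → ∃ r, checkFactW cert j r = true :=
  upto_stepW cert upto_571 ju_95_1 500 len_95_1 chk_95_1

theorem upto_573 : ∀ j, j < 286500 → ∃ r, checkFactW cert j r = true :=
  upto_stepW cert upto_572 ju_95_2 500 len_95_2 chk_95_2

theorem upto_574 : ∀ j, j < 287000 → ∃ r, checkFactW cert j r = true :=
  upto_stepW cert upto_573 ju_95_3 500 len_95_3 chk_95_3

theorem upto_575 : ∀ j, j < 287500 → ∃ r, checkFactW cert j r = true :=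
  upto_stepW cert upto_574 ju_95_4 500 len_95_4 chk_95_4

theorem upto_576 : ∀ j, j < 288000 → ∃ r, checkFactW cert j r = true :=
  upto_stepW cert upto_575 ju_95_5 500 len_95_5 chk_95_5

theorem upto_577 : ∀ j, j < 288500 → ∃ r, checkFactW cert j r = true :=
  upto_stepW cert upto_576 ju_96_0 500 len_96_0 chk_96_0

theorem upto_578 : ∀ j, j < 289000 → ∃ r, checkFactW cert j r = true :=
  upto_stepW cert upto_577 ju_96_1 500 len_96_1 chk_96_1

theorem upto_579 : ∀ j, j < 289500 → ∃ r, checkFactW cert j r = true :=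
  upto_stepW cert upto_578 ju_96_2 500 len_96_2 chk_96_2

theorem upto_580 : ∀ j, j < 290000 → ∃ r, checkFactW cert j r = true :=
  upto_stepW cert upto_579 ju_96_3 500 len_96_3 chk_96_3

theorem upto_581 : ∀ j, j < 290500 → ∃ r, checkFactW cert j r = true :=
  upto_stepW cert upto_580 ju_96_4 500 len_96_4 chk_96_4

theorem upto_582 : ∀ j, j < 291000 → ∃ r, checkFactW cert j r = true :=
  upto_stepW cert upto_581 ju_96_5 500 len_96_5 chk_96_5

theorem upto_583 : ∀ j, j < 291500 → ∃ r, checkFactW cert j r = true :=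
  upto_stepW cert upto_582 ju_97_0 500 len_97_0 chk_97_0

theorem upto_584 : ∀ j, j < 292000 → ∃ r, checkFactW cert j r = true :=
  upto_stepW cert upto_583 ju_97_1 500 len_97_1 chk_97_1

theorem upto_585 : ∀ j, j < 292500 → ∃ r, checkFactW cert j r = true :=
  upto_stepW cert upto_584 ju_97_2 500 len_97_2 chk_97_2

theorem upto_586 : ∀ j, j < 293000 → ∃ r, checkFactW cert j r = true :=
  upto_stepW cert upto_585 ju_97_3 500 len_97_3 chk_97_3

theorem upto_587 : ∀ j, j < 293500 → ∃ r, checkFactW cert j r = true :=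
  upto_stepW cert upto_586 ju_97_4 500 len_97_4 chk_97_4

theorem upto_588 : ∀ j, j < 294000 → ∃ r, checkFactW cert j r = true :=
  upto_stepW cert upto_587 ju_97_5 500 len_97_5 chk_97_5

theorem upto_589 : ∀ j, j < 294500 → ∃ r, checkFactW cert j r = true :=
  upto_stepW cert upto_588 ju_98_0 500 len_98_0 chk_98_0

theorem upto_590 : ∀ j, j < 295000 → ∃ r, checkFactW cert j r = true :=
  upto_stepW cert upto_589 ju_98_1 500 len_98_1 chk_98_1

theorem upto_591 : ∀ j, j < 295500 → ∃ r, checkFactW cert j r = true :=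
  upto_stepW cert upto_590 ju_98_2 500 len_98_2 chk_98_2

theorem upto_592 : ∀ j, j < 296000 → ∃ r, checkFactW cert j r = true :=
  upto_stepW cert upto_591 ju_98_3 500 len_98_3 chk_98_3

theorem upto_593 : ∀ j, j < 296500 → ∃ r, checkFactW cert j r = true :=
  upto_stepW cert upto_592 ju_98_4 500 len_98_4 chk_98_4

theorem upto_594 : ∀ j, j < 297000 → ∃ r, checkFactW cert j r = true :=
  upto_stepW cert upto_593 ju_98_5 500 len_98_5 chk_98_5

theorem upto_595 : ∀ j, j < 297500 → ∃ r, checkFactW cert j r = true :=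
  upto_stepW cert upto_594 ju_99_0 500 len_99_0 chk_99_0

theorem upto_596 : ∀ j, j < 298000 → ∃ r, checkFactW cert j r = true :=
  upto_stepW cert upto_595 ju_99_1 500 len_99_1 chk_99_1

theorem upto_597 : ∀ j, j < 298500 → ∃ r, checkFactW cert j r = true :=
  upto_stepW cert upto_596 ju_99_2 500 len_99_2 chk_99_2

theorem upto_598 : ∀ j, j < 299000 → ∃ r, checkFactW cert j r = true :=
  upto_stepW cert upto_597 ju_99_3 500 len_99_3 chk_99_3

theorem upto_599 : ∀ j, j < 299500 → ∃ r, checkFactW cert j r = true :=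
  upto_stepW cert upto_598 ju_99_4 500 len_99_4 chk_99_4

theorem upto_600 : ∀ j, j < 300000 → ∃ r, checkFactW cert j r = true :=
  upto_stepW cert upto_599 ju_99_5 500 len_99_5 chk_99_5

theorem upto_601 : ∀ j, j < 300500 → ∃ r, checkFactW cert j r = true :=
  upto_stepW cert upto_600 ju_100_0 500 len_100_0 chk_100_0

theorem upto_602 : ∀ j, j < 301000 → ∃ r, checkFactW cert j r = true :=
  upto_stepW cert upto_601 ju_100_1 500 len_100_1 chk_100_1

theorem upto_603 : ∀ j, j < 301500 → ∃ r, checkFactW cert j r = true :=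
  upto_stepW cert upto_602 ju_100_2 500 len_100_2 chk_100_2

theorem upto_604 : ∀ j, j < 302000 → ∃ r, checkFactW cert j r = true :=
  upto_stepW cert upto_603 ju_100_3 500 len_100_3 chk_100_3

theorem upto_605 : ∀ j, j < 302500 → ∃ r, checkFactW cert j r = true :=
  upto_stepW cert upto_604 ju_100_4 500 len_100_4 chk_100_4

theorem upto_606 : ∀ j, j < 303000 → ∃ r, checkFactW cert j r = true :=
  upto_stepW cert upto_605 ju_100_5 500 len_100_5 chk_100_5

theorem upto_607 : ∀ j, j < 303500 → ∃ r, checkFactW cert j r = true :=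
  upto_stepW cert upto_606 ju_101_0 500 len_101_0 chk_101_0

theorem upto_608 : ∀ j, j < 304000 → ∃ r, checkFactW cert j r = true :=
  upto_stepW cert upto_607 ju_101_1 500 len_101_1 chk_101_1

theorem upto_609 : ∀ j, j < 304500 → ∃ r, checkFactW cert j r = true :=
  upto_stepW cert upto_608 ju_101_2 500 len_101_2 chk_101_2

theorem upto_610 : ∀ j, j < 305000 → ∃ r, checkFactW cert j r = true :=
  upto_stepW cert upto_609 ju_101_3 500 len_101_3 chk_101_3

theorem upto_611 : ∀ j, j < 305500 → ∃ r, checkFactW cert j r = true :=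
  upto_stepW cert upto_610 ju_101_4 500 len_101_4 chk_101_4

theorem upto_612 : ∀ j, j < 306000 → ∃ r, checkFactW cert j r = true :=
  upto_stepW cert upto_611 ju_101_5 500 len_101_5 chk_101_5

theorem upto_613 : ∀ j, j < 306500 → ∃ r, checkFactW cert j r = true :=
  upto_stepW cert upto_612 ju_102_0 500 len_102_0 chk_102_0

theorem upto_614 : ∀ j, j < 307000 → ∃ r, checkFactW cert j r = true :=
  upto_stepW cert upto_613 ju_102_1 500 len_102_1 chk_102_1

theorem upto_615 : ∀ j, j < 307500 → ∃ r, checkFactW cert j r = true :=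
  upto_stepW cert upto_614 ju_102_2 500 len_102_2 chk_102_2

theorem upto_616 : ∀ j, j < 308000 → ∃ r, checkFactW cert j r = true :=
  upto_stepW cert upto_615 ju_102_3 500 len_102_3 chk_102_3

theorem upto_617 : ∀ j, j < 308500 → ∃ r, checkFactW cert j r = true :=
  upto_stepW cert upto_616 ju_102_4 500 len_102_4 chk_102_4

theorem upto_618 : ∀ j, j < 309000 → ∃ r, checkFactW cert j r = true :=
  upto_stepW cert upto_617 ju_102_5 500 len_102_5 chk_102_5

theorem upto_619 : ∀ j, j < 309500 → ∃ r, checkFactW cert j r = true :=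
  upto_stepW cert upto_618 ju_103_0 500 len_103_0 chk_103_0

theorem upto_620 : ∀ j, j < 310000 → ∃ r, checkFactW cert j r = true :=
  upto_stepW cert upto_619 ju_103_1 500 len_103_1 chk_103_1

theorem upto_621 : ∀ j, j < 310500 → ∃ r, checkFactW cert j r = true :=
  upto_stepW cert upto_620 ju_103_2 500 len_103_2 chk_103_2

theorem upto_622 : ∀ j, j < 311000 → ∃ r, checkFactW cert j r = true :=
  upto_stepW cert upto_621 ju_103_3 500 len_103_3 chk_103_3

theorem upto_623 : ∀ j, j < 311500 → ∃ r, checkFactW cert j r = true :=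
  upto_stepW cert upto_622 ju_103_4 500 len_103_4 chk_103_4

theorem upto_624 : ∀ j, j < 312000 → ∃ r, checkFactW cert j r = true :=
  upto_stepW cert upto_623 ju_103_5 500 len_103_5 chk_103_5

theorem upto_625 : ∀ j, j < 312500 → ∃ r, checkFactW cert j r = true :=
  upto_stepW cert upto_624 ju_104_0 500 len_104_0 chk_104_0

theorem upto_626 : ∀ j, j < 313000 → ∃ r, checkFactW cert j r = true :=
  upto_stepW cert upto_625 ju_104_1 500 len_104_1 chk_104_1

theorem upto_627 : ∀ j, j < 313500 → ∃ r, checkFactW cert j r = true :=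
  upto_stepW cert upto_626 ju_104_2 500 len_104_2 chk_104_2

theorem upto_628 : ∀ j, j < 314000 → ∃ r, checkFactW cert j r = true :=
  upto_stepW cert upto_627 ju_104_3 500 len_104_3 chk_104_3

theorem upto_629 : ∀ j, j < 314500 → ∃ r, checkFactW cert j r = true :=
  upto_stepW cert upto_628 ju_104_4 500 len_104_4 chk_104_4

theorem upto_630 : ∀ j, j < 315000 → ∃ r, checkFactW cert j r = true :=
  upto_stepW cert upto_629 ju_104_5 500 len_104_5 chk_104_5

theorem upto_631 : ∀ j, j < 315500 → ∃ r, checkFactW cert j r = true :=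
  upto_stepW cert upto_630 ju_105_0 500 len_105_0 chk_105_0

theorem upto_632 : ∀ j, j < 316000 → ∃ r, checkFactW cert j r = true :=
  upto_stepW cert upto_631 ju_105_1 500 len_105_1 chk_105_1

theorem upto_633 : ∀ j, j < 316500 → ∃ r, checkFactW cert j r = true :=
  upto_stepW cert upto_632 ju_105_2 500 len_105_2 chk_105_2

theorem upto_634 : ∀ j, j < 317000 → ∃ r, checkFactW cert j r = true :=
  upto_stepW cert upto_633 ju_105_3 500 len_105_3 chk_105_3

theorem upto_635 : ∀ j, j < 317500 → ∃ r, checkFactW cert j r = true :=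
  upto_stepW cert upto_634 ju_105_4 500 len_105_4 chk_105_4

theorem upto_636 : ∀ j, j < 318000 → ∃ r, checkFactW cert j r = true :=
  upto_stepW cert upto_635 ju_105_5 500 len_105_5 chk_105_5

theorem upto_637 : ∀ j, j < 318500 → ∃ r, checkFactW cert j r = true :=
  upto_stepW cert upto_636 ju_106_0 500 len_106_0 chk_106_0

theorem upto_638 : ∀ j, j < 319000 → ∃ r, checkFactW cert j r = true :=
  upto_stepW cert upto_637 ju_106_1 500 len_106_1 chk_106_1

theorem upto_639 : ∀ j, j < 319500 → ∃ r, checkFactW cert j r = true :=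
  upto_stepW cert upto_638 ju_106_2 500 len_106_2 chk_106_2

theorem upto_640 : ∀ j, j < 320000 → ∃ r, checkFactW cert j r = true :=
  upto_stepW cert upto_639 ju_106_3 500 len_106_3 chk_106_3

theorem upto_641 : ∀ j, j < 320500 → ∃ r, checkFactW cert j r = true :=
  upto_stepW cert upto_640 ju_106_4 500 len_106_4 chk_106_4

theorem upto_642 : ∀ j, j < 321000 → ∃ r, checkFactW cert j r = true :=
  upto_stepW cert upto_641 ju_106_5 500 len_106_5 chk_106_5

theorem upto_643 : ∀ j, j < 321500 → ∃ r, checkFactW cert j r = true :=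
  upto_stepW cert upto_642 ju_107_0 500 len_107_0 chk_107_0

theorem upto_644 : ∀ j, j < 322000 → ∃ r, checkFactW cert j r = true :=
  upto_stepW cert upto_643 ju_107_1 500 len_107_1 chk_107_1

theorem upto_645 : ∀ j, j < 322500 → ∃ r, checkFactW cert j r = true :=
  upto_stepW cert upto_644 ju_107_2 500 len_107_2 chk_107_2

theorem upto_646 : ∀ j, j < 323000 → ∃ r, checkFactW cert j r = true :=
  upto_stepW cert upto_645 ju_107_3 500 len_107_3 chk_107_3

theorem upto_647 : ∀ j, j < 323500 → ∃ r, checkFactW cert j r = true :=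
  upto_stepW cert upto_646 ju_107_4 500 len_107_4 chk_107_4

theorem upto_648 : ∀ j, j < 324000 → ∃ r, checkFactW cert j r = true :=
  upto_stepW cert upto_647 ju_107_5 500 len_107_5 chk_107_5

theorem upto_649 : ∀ j, j < 324500 → ∃ r, checkFactW cert j r = true :=
  upto_stepW cert upto_648 ju_108_0 500 len_108_0 chk_108_0

theorem upto_650 : ∀ j, j < 325000 → ∃ r, checkFactW cert j r = true :=
  upto_stepW cert upto_649 ju_108_1 500 len_108_1 chk_108_1

theorem upto_651 : ∀ j, j < 325500 → ∃ r, checkFactW cert j r = true :=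
  upto_stepW cert upto_650 ju_108_2 500 len_108_2 chk_108_2

theorem upto_652 : ∀ j, j < 326000 → ∃ r, checkFactW cert j r = true :=
  upto_stepW cert upto_651 ju_108_3 500 len_108_3 chk_108_3

theorem upto_653 : ∀ j, j < 326500 → ∃ r, checkFactW cert j r = true :=
  upto_stepW cert upto_652 ju_108_4 500 len_108_4 chk_108_4

theorem upto_654 : ∀ j, j < 327000 → ∃ r, checkFactW cert j r = true :=
  upto_stepW cert upto_653 ju_108_5 500 len_108_5 chk_108_5

theorem upto_655 : ∀ j, j < 327500 → ∃ r, checkFactW cert j r = true :=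
  upto_stepW cert upto_654 ju_109_0 500 len_109_0 chk_109_0

theorem upto_656 : ∀ j, j < 328000 → ∃ r, checkFactW cert j r = true :=
  upto_stepW cert upto_655 ju_109_1 500 len_109_1 chk_109_1

theorem upto_657 : ∀ j, j < 328500 → ∃ r, checkFactW cert j r = true :=
  upto_stepW cert upto_656 ju_109_2 500 len_109_2 chk_109_2

theorem upto_658 : ∀ j, j < 329000 → ∃ r, checkFactW cert j r = true :=
  upto_stepW cert upto_657 ju_109_3 500 len_109_3 chk_109_3

theorem upto_659 : ∀ j, j < 329500 → ∃ r, checkFactW cert j r = true :=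
  upto_stepW cert upto_658 ju_109_4 500 len_109_4 chk_109_4

theorem upto_660 : ∀ j, j < 330000 → ∃ r, checkFactW cert j r = true :=
  upto_stepW cert upto_659 ju_109_5 500 len_109_5 chk_109_5

theorem upto_661 : ∀ j, j < 330500 → ∃ r, checkFactW cert j r = true :=
  upto_stepW cert upto_660 ju_110_0 500 len_110_0 chk_110_0

theorem upto_662 : ∀ j, j < 331000 → ∃ r, checkFactW cert j r = true :=
  upto_stepW cert upto_661 ju_110_1 500 len_110_1 chk_110_1

theorem upto_663 : ∀ j, j < 331500 → ∃ r, checkFactW cert j r = true :=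
  upto_stepW cert upto_662 ju_110_2 500 len_110_2 chk_110_2

theorem upto_664 : ∀ j, j < 332000 → ∃ r, checkFactW cert j r = true :=
  upto_stepW cert upto_663 ju_110_3 500 len_110_3 chk_110_3

theorem upto_665 : ∀ j, j < 332500 → ∃ r, checkFactW cert j r = true :=
  upto_stepW cert upto_664 ju_110_4 500 len_110_4 chk_110_4

theorem upto_666 : ∀ j, j < 333000 → ∃ r, checkFactW cert j r = true :=
  upto_stepW cert upto_665 ju_110_5 500 len_110_5 chk_110_5

theorem upto_667 : ∀ j, j < 333500 → ∃ r, checkFactW cert j r = true :=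
  upto_stepW cert upto_666 ju_111_0 500 len_111_0 chk_111_0

theorem upto_668 : ∀ j, j < 334000 → ∃ r, checkFactW cert j r = true :=
  upto_stepW cert upto_667 ju_111_1 500 len_111_1 chk_111_1

theorem upto_669 : ∀ j, j < 334500 → ∃ r, checkFactW cert j r = true :=
  upto_stepW cert upto_668 ju_111_2 500 len_111_2 chk_111_2

theorem upto_670 : ∀ j, j < 335000 → ∃ r, checkFactW cert j r = true :=
  upto_stepW cert upto_669 ju_111_3 500 len_111_3 chk_111_3

theorem upto_671 : ∀ j, j < 335500 → ∃ r, checkFactW cert j r = true :=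
  upto_stepW cert upto_670 ju_111_4 500 len_111_4 chk_111_4

theorem upto_672 : ∀ j, j < 336000 → ∃ r, checkFactW cert j r = true :=
  upto_stepW cert upto_671 ju_111_5 500 len_111_5 chk_111_5

theorem upto_673 : ∀ j, j < 336500 → ∃ r, checkFactW cert j r = true :=
  upto_stepW cert upto_672 ju_112_0 500 len_112_0 chk_112_0

theorem upto_674 : ∀ j, j < 337000 → ∃ r, checkFactW cert j r = true :=
  upto_stepW cert upto_673 ju_112_1 500 len_112_1 chk_112_1

theorem upto_675 : ∀ j, j < 337500 → ∃ r, checkFactW cert j r = true :=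
  upto_stepW cert upto_674 ju_112_2 500 len_112_2 chk_112_2

theorem upto_676 : ∀ j, j < 338000 → ∃ r, checkFactW cert j r = true :=
  upto_stepW cert upto_675 ju_112_3 500 len_112_3 chk_112_3

theorem upto_677 : ∀ j, j < 338500 → ∃ r, checkFactW cert j r = true :=
  upto_stepW cert upto_676 ju_112_4 500 len_112_4 chk_112_4

theorem upto_678 : ∀ j, j < 339000 → ∃ r, checkFactW cert j r = true :=
  upto_stepW cert upto_677 ju_112_5 500 len_112_5 chk_112_5

theorem upto_679 : ∀ j, j < 339500 → ∃ r, checkFactW cert j r = true :=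
  upto_stepW cert upto_678 ju_113_0 500 len_113_0 chk_113_0

theorem upto_680 : ∀ j, j < 340000 → ∃ r, checkFactW cert j r = true :=
  upto_stepW cert upto_679 ju_113_1 500 len_113_1 chk_113_1

theorem upto_681 : ∀ j, j < 340500 → ∃ r, checkFactW cert j r = true :=
  upto_stepW cert upto_680 ju_113_2 500 len_113_2 chk_113_2

theorem upto_682 : ∀ j, j < 341000 → ∃ r, checkFactW cert j r = true :=
  upto_stepW cert upto_681 ju_113_3 500 len_113_3 chk_113_3

theorem upto_683 : ∀ j, j < 341500 → ∃ r, checkFactW cert j r = true :=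
  upto_stepW cert upto_682 ju_113_4 500 len_113_4 chk_113_4

theorem upto_684 : ∀ j, j < 342000 → ∃ r, checkFactW cert j r = true :=
  upto_stepW cert upto_683 ju_113_5 500 len_113_5 chk_113_5

theorem upto_685 : ∀ j, j < 342500 → ∃ r, checkFactW cert j r = true :=
  upto_stepW cert upto_684 ju_114_0 500 len_114_0 chk_114_0

theorem upto_686 : ∀ j, j < 343000 → ∃ r, checkFactW cert j r = true :=
  upto_stepW cert upto_685 ju_114_1 500 len_114_1 chk_114_1

theorem upto_687 : ∀ j, j < 343500 → ∃ r, checkFactW cert j r = true :=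
  upto_stepW cert upto_686 ju_114_2 500 len_114_2 chk_114_2

theorem upto_688 : ∀ j, j < 344000 → ∃ r, checkFactW cert j r = true :=
  upto_stepW cert upto_687 ju_114_3 500 len_114_3 chk_114_3

theorem upto_689 : ∀ j, j < 344500 → ∃ r, checkFactW cert j r = true :=
  upto_stepW cert upto_688 ju_114_4 500 len_114_4 chk_114_4

theorem upto_690 : ∀ j, j < 345000 → ∃ r, checkFactW cert j r = true :=
  upto_stepW cert upto_689 ju_114_5 500 len_114_5 chk_114_5

theorem upto_691 : ∀ j, j < 345500 → ∃ r, checkFactW cert j r = true :=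
  upto_stepW cert upto_690 ju_115_0 500 len_115_0 chk_115_0

theorem upto_692 : ∀ j, j < 346000 → ∃ r, checkFactW cert j r = true :=
  upto_stepW cert upto_691 ju_115_1 500 len_115_1 chk_115_1

theorem upto_693 : ∀ j, j < 346500 → ∃ r, checkFactW cert j r = true :=
  upto_stepW cert upto_692 ju_115_2 500 len_115_2 chk_115_2

theorem upto_694 : ∀ j, j < 347000 → ∃ r, checkFactW cert j r = true :=
  upto_stepW cert upto_693 ju_115_3 500 len_115_3 chk_115_3

theorem upto_695 : ∀ j, j < 347500 → ∃ r, checkFactW cert j r = true :=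
  upto_stepW cert upto_694 ju_115_4 500 len_115_4 chk_115_4

theorem upto_696 : ∀ j, j < 348000 → ∃ r, checkFactW cert j r = true :=
  upto_stepW cert upto_695 ju_115_5 500 len_115_5 chk_115_5

theorem upto_697 : ∀ j, j < 348500 → ∃ r, checkFactW cert j r = true :=
  upto_stepW cert upto_696 ju_116_0 500 len_116_0 chk_116_0

theorem upto_698 : ∀ j, j < 349000 → ∃ r, checkFactW cert j r = true :=
  upto_stepW cert upto_697 ju_116_1 500 len_116_1 chk_116_1

theorem upto_699 : ∀ j, j < 349500 → ∃ r, checkFactW cert j r = true :=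
  upto_stepW cert upto_698 ju_116_2 500 len_116_2 chk_116_2

theorem upto_700 : ∀ j, j < 350000 → ∃ r, checkFactW cert j r = true :=
  upto_stepW cert upto_699 ju_116_3 500 len_116_3 chk_116_3

theorem upto_701 : ∀ j, j < 350500 → ∃ r, checkFactW cert j r = true :=
  upto_stepW cert upto_700 ju_116_4 500 len_116_4 chk_116_4

theorem upto_702 : ∀ j, j < 351000 → ∃ r, checkFactW cert j r = true :=
  upto_stepW cert upto_701 ju_116_5 500 len_116_5 chk_116_5

theorem upto_703 : ∀ j, j < 351500 → ∃ r, checkFactW cert j r = true :=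
  upto_stepW cert upto_702 ju_117_0 500 len_117_0 chk_117_0

theorem upto_704 : ∀ j, j < 352000 → ∃ r, checkFactW cert j r = true :=
  upto_stepW cert upto_703 ju_117_1 500 len_117_1 chk_117_1

theorem upto_705 : ∀ j, j < 352500 → ∃ r, checkFactW cert j r = true :=
  upto_stepW cert upto_704 ju_117_2 500 len_117_2 chk_117_2

theorem upto_706 : ∀ j, j < 353000 → ∃ r, checkFactW cert j r = true :=
  upto_stepW cert upto_705 ju_117_3 500 len_117_3 chk_117_3

theorem upto_707 : ∀ j, j < 353500 → ∃ r, checkFactW cert j r = true :=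
  upto_stepW cert upto_706 ju_117_4 500 len_117_4 chk_117_4

theorem upto_708 : ∀ j, j < 354000 → ∃ r, checkFactW cert j r = true :=
  upto_stepW cert upto_707 ju_117_5 500 len_117_5 chk_117_5

theorem upto_709 : ∀ j, j < 354500 → ∃ r, checkFactW cert j r = true :=
  upto_stepW cert upto_708 ju_118_0 500 len_118_0 chk_118_0

theorem upto_710 : ∀ j, j < 355000 → ∃ r, checkFactW cert j r = true :=
  upto_stepW cert upto_709 ju_118_1 500 len_118_1 chk_118_1

theorem upto_711 : ∀ j, j < 355500 → ∃ r, checkFactW cert j r = true :=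
  upto_stepW cert upto_710 ju_118_2 500 len_118_2 chk_118_2

theorem upto_712 : ∀ j, j < 356000 → ∃ r, checkFactW cert j r = true :=
  upto_stepW cert upto_711 ju_118_3 500 len_118_3 chk_118_3

theorem upto_713 : ∀ j, j < 356500 → ∃ r, checkFactW cert j r = true :=
  upto_stepW cert upto_712 ju_118_4 500 len_118_4 chk_118_4

theorem upto_714 : ∀ j, j < 357000 → ∃ r, checkFactW cert j r = true :=
  upto_stepW cert upto_713 ju_118_5 500 len_118_5 chk_118_5

theorem upto_715 : ∀ j, j < 357500 → ∃ r, checkFactW cert j r = true :=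
  upto_stepW cert upto_714 ju_119_0 500 len_119_0 chk_119_0

theorem upto_716 : ∀ j, j < 358000 → ∃ r, checkFactW cert j r = true :=
  upto_stepW cert upto_715 ju_119_1 500 len_119_1 chk_119_1

theorem upto_717 : ∀ j, j < 358500 → ∃ r, checkFactW cert j r = true :=
  upto_stepW cert upto_716 ju_119_2 500 len_119_2 chk_119_2

theorem upto_718 : ∀ j, j < 359000 → ∃ r, checkFactW cert j r = true :=
  upto_stepW cert upto_717 ju_119_3 500 len_119_3 chk_119_3

theorem upto_719 : ∀ j, j < 359500 → ∃ r, checkFactW cert j r = true :=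
  upto_stepW cert upto_718 ju_119_4 500 len_119_4 chk_119_4

theorem upto_720 : ∀ j, j < 360000 → ∃ r, checkFactW cert j r = true :=
  upto_stepW cert upto_719 ju_119_5 500 len_119_5 chk_119_5

theorem upto_721 : ∀ j, j < 360500 → ∃ r, checkFactW cert j r = true :=
  upto_stepW cert upto_720 ju_120_0 500 len_120_0 chk_120_0

theorem upto_722 : ∀ j, j < 361000 → ∃ r, checkFactW cert j r = true :=
  upto_stepW cert upto_721 ju_120_1 500 len_120_1 chk_120_1

theorem upto_723 : ∀ j, j < 361500 → ∃ r, checkFactW cert j r = true :=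
  upto_stepW cert upto_722 ju_120_2 500 len_120_2 chk_120_2

theorem upto_724 : ∀ j, j < 362000 → ∃ r, checkFactW cert j r = true :=
  upto_stepW cert upto_723 ju_120_3 500 len_120_3 chk_120_3

theorem upto_725 : ∀ j, j < 362500 → ∃ r, checkFactW cert j r = true :=
  upto_stepW cert upto_724 ju_120_4 500 len_120_4 chk_120_4

theorem upto_726 : ∀ j, j < 363000 → ∃ r, checkFactW cert j r = true :=
  upto_stepW cert upto_725 ju_120_5 500 len_120_5 chk_120_5

theorem upto_727 : ∀ j, j < 363500 → ∃ r, checkFactW cert j r = true :=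
  upto_stepW cert upto_726 ju_121_0 500 len_121_0 chk_121_0

theorem upto_728 : ∀ j, j < 364000 → ∃ r, checkFactW cert j r = true :=
  upto_stepW cert upto_727 ju_121_1 500 len_121_1 chk_121_1

theorem upto_729 : ∀ j, j < 364500 → ∃ r, checkFactW cert j r = true :=
  upto_stepW cert upto_728 ju_121_2 500 len_121_2 chk_121_2

theorem upto_730 : ∀ j, j < 365000 → ∃ r, checkFactW cert j r = true :=
  upto_stepW cert upto_729 ju_121_3 500 len_121_3 chk_121_3

theorem upto_731 : ∀ j, j < 365500 → ∃ r, checkFactW cert j r = true :=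
  upto_stepW cert upto_730 ju_121_4 500 len_121_4 chk_121_4

theorem upto_732 : ∀ j, j < 366000 → ∃ r, checkFactW cert j r = true :=
  upto_stepW cert upto_731 ju_121_5 500 len_121_5 chk_121_5

theorem upto_733 : ∀ j, j < 366500 → ∃ r, checkFactW cert j r = true :=
  upto_stepW cert upto_732 ju_122_0 500 len_122_0 chk_122_0

theorem upto_734 : ∀ j, j < 367000 → ∃ r, checkFactW cert j r = true :=
  upto_stepW cert upto_733 ju_122_1 500 len_122_1 chk_122_1

theorem upto_735 : ∀ j, j < 367500 → ∃ r, checkFactW cert j r = true :=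
  upto_stepW cert upto_734 ju_122_2 500 len_122_2 chk_122_2

theorem upto_736 : ∀ j, j < 368000 → ∃ r, checkFactW cert j r = true :=
  upto_stepW cert upto_735 ju_122_3 500 len_122_3 chk_122_3

theorem upto_737 : ∀ j, j < 368500 → ∃ r, checkFactW cert j r = true :=
  upto_stepW cert upto_736 ju_122_4 500 len_122_4 chk_122_4

theorem upto_738 : ∀ j, j < 369000 → ∃ r, checkFactW cert j r = true :=
  upto_stepW cert upto_737 ju_122_5 500 len_122_5 chk_122_5

theorem upto_739 : ∀ j, j < 369500 → ∃ r, checkFactW cert j r = true :=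
  upto_stepW cert upto_738 ju_123_0 500 len_123_0 chk_123_0

theorem upto_740 : ∀ j, j < 370000 → ∃ r, checkFactW cert j r = true :=
  upto_stepW cert upto_739 ju_123_1 500 len_123_1 chk_123_1

theorem upto_741 : ∀ j, j < 370500 → ∃ r, checkFactW cert j r = true :=
  upto_stepW cert upto_740 ju_123_2 500 len_123_2 chk_123_2

theorem upto_742 : ∀ j, j < 371000 → ∃ r, checkFactW cert j r = true :=
  upto_stepW cert upto_741 ju_123_3 500 len_123_3 chk_123_3

theorem upto_743 : ∀ j, j < 371500 → ∃ r, checkFactW cert j r = true :=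
  upto_stepW cert upto_742 ju_123_4 500 len_123_4 chk_123_4

theorem upto_744 : ∀ j, j < 372000 → ∃ r, checkFactW cert j r = true :=
  upto_stepW cert upto_743 ju_123_5 500 len_123_5 chk_123_5

theorem upto_745 : ∀ j, j < 372500 → ∃ r, checkFactW cert j r = true :=
  upto_stepW cert upto_744 ju_124_0 500 len_124_0 chk_124_0

theorem upto_746 : ∀ j, j < 373000 → ∃ r, checkFactW cert j r = true :=
  upto_stepW cert upto_745 ju_124_1 500 len_124_1 chk_124_1

theorem upto_747 : ∀ j, j < 373500 → ∃ r, checkFactW cert j r = true :=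
  upto_stepW cert upto_746 ju_124_2 500 len_124_2 chk_124_2

theorem upto_748 : ∀ j, j < 374000 → ∃ r, checkFactW cert j r = true :=
  upto_stepW cert upto_747 ju_124_3 500 len_124_3 chk_124_3

theorem upto_749 : ∀ j, j < 374500 → ∃ r, checkFactW cert j r = true :=
  upto_stepW cert upto_748 ju_124_4 500 len_124_4 chk_124_4

theorem upto_750 : ∀ j, j < 375000 → ∃ r, checkFactW cert j r = true :=
  upto_stepW cert upto_749 ju_124_5 500 len_124_5 chk_124_5

theorem upto_751 : ∀ j, j < 375500 → ∃ r, checkFactW cert j r = true :=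
  upto_stepW cert upto_750 ju_125_0 500 len_125_0 chk_125_0

theorem upto_752 : ∀ j, j < 376000 → ∃ r, checkFactW cert j r = true :=
  upto_stepW cert upto_751 ju_125_1 500 len_125_1 chk_125_1

theorem upto_753 : ∀ j, j < 376500 → ∃ r, checkFactW cert j r = true :=
  upto_stepW cert upto_752 ju_125_2 500 len_125_2 chk_125_2

theorem upto_754 : ∀ j, j < 377000 → ∃ r, checkFactW cert j r = true :=
  upto_stepW cert upto_753 ju_125_3 500 len_125_3 chk_125_3

theorem upto_755 : ∀ j, j < 377500 → ∃ r, checkFactW cert j r = true :=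
  upto_stepW cert upto_754 ju_125_4 500 len_125_4 chk_125_4

theorem upto_756 : ∀ j, j < 378000 → ∃ r, checkFactW cert j r = true :=
  upto_stepW cert upto_755 ju_125_5 500 len_125_5 chk_125_5

theorem upto_757 : ∀ j, j < 378500 → ∃ r, checkFactW cert j r = true :=
  upto_stepW cert upto_756 ju_126_0 500 len_126_0 chk_126_0

theorem upto_758 : ∀ j, j < 379000 → ∃ r, checkFactW cert j r = true :=
  upto_stepW cert upto_757 ju_126_1 500 len_126_1 chk_126_1

theorem upto_759 : ∀ j, j < 379500 → ∃ r, checkFactW cert j r = true :=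
  upto_stepW cert upto_758 ju_126_2 500 len_126_2 chk_126_2

theorem upto_760 : ∀ j, j < 380000 → ∃ r, checkFactW cert j r = true :=
  upto_stepW cert upto_759 ju_126_3 500 len_126_3 chk_126_3

theorem upto_761 : ∀ j, j < 380500 → ∃ r, checkFactW cert j r = true :=
  upto_stepW cert upto_760 ju_126_4 500 len_126_4 chk_126_4

theorem upto_762 : ∀ j, j < 381000 → ∃ r, checkFactW cert j r = true :=
  upto_stepW cert upto_761 ju_126_5 500 len_126_5 chk_126_5

theorem upto_763 : ∀ j, j < 381500 → ∃ r, checkFactW cert j r = true :=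
  upto_stepW cert upto_762 ju_127_0 500 len_127_0 chk_127_0

theorem upto_764 : ∀ j, j < 382000 → ∃ r, checkFactW cert j r = true :=
  upto_stepW cert upto_763 ju_127_1 500 len_127_1 chk_127_1

theorem upto_765 : ∀ j, j < 382500 → ∃ r, checkFactW cert j r = true :=
  upto_stepW cert upto_764 ju_127_2 500 len_127_2 chk_127_2

theorem upto_766 : ∀ j, j < 383000 → ∃ r, checkFactW cert j r = true :=
  upto_stepW cert upto_765 ju_127_3 500 len_127_3 chk_127_3

theorem upto_767 : ∀ j, j < 383500 → ∃ r, checkFactW cert j r = true :=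
  upto_stepW cert upto_766 ju_127_4 500 len_127_4 chk_127_4

theorem upto_768 : ∀ j, j < 384000 → ∃ r, checkFactW cert j r = true :=
  upto_stepW cert upto_767 ju_127_5 500 len_127_5 chk_127_5

theorem upto_769 : ∀ j, j < 384500 → ∃ r, checkFactW cert j r = true :=
  upto_stepW cert upto_768 ju_128_0 500 len_128_0 chk_128_0

theorem upto_770 : ∀ j, j < 385000 → ∃ r, checkFactW cert j r = true :=
  upto_stepW cert upto_769 ju_128_1 500 len_128_1 chk_128_1

theorem upto_771 : ∀ j, j < 385500 → ∃ r, checkFactW cert j r = true :=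
  upto_stepW cert upto_770 ju_128_2 500 len_128_2 chk_128_2

theorem upto_772 : ∀ j, j < 386000 → ∃ r, checkFactW cert j r = true :=
  upto_stepW cert upto_771 ju_128_3 500 len_128_3 chk_128_3

theorem upto_773 : ∀ j, j < 386500 → ∃ r, checkFactW cert j r = true :=
  upto_stepW cert upto_772 ju_128_4 500 len_128_4 chk_128_4

theorem upto_774 : ∀ j, j < 387000 → ∃ r, checkFactW cert j r = true :=
  upto_stepW cert upto_773 ju_128_5 500 len_128_5 chk_128_5

theorem upto_775 : ∀ j, j < 387500 → ∃ r, checkFactW cert j r = true :=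
  upto_stepW cert upto_774 ju_129_0 500 len_129_0 chk_129_0

theorem upto_776 : ∀ j, j < 388000 → ∃ r, checkFactW cert j r = true :=
  upto_stepW cert upto_775 ju_129_1 500 len_129_1 chk_129_1

theorem upto_777 : ∀ j, j < 388500 → ∃ r, checkFactW cert j r = true :=
  upto_stepW cert upto_776 ju_129_2 500 len_129_2 chk_129_2

theorem upto_778 : ∀ j, j < 389000 → ∃ r, checkFactW cert j r = true :=
  upto_stepW cert upto_777 ju_129_3 500 len_129_3 chk_129_3

theorem upto_779 : ∀ j, j < 389500 → ∃ r, checkFactW cert j r = true :=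
  upto_stepW cert upto_778 ju_129_4 500 len_129_4 chk_129_4

theorem upto_780 : ∀ j, j < 390000 → ∃ r, checkFactW cert j r = true :=
  upto_stepW cert upto_779 ju_129_5 500 len_129_5 chk_129_5

theorem upto_781 : ∀ j, j < 390500 → ∃ r, checkFactW cert j r = true :=
  upto_stepW cert upto_780 ju_130_0 500 len_130_0 chk_130_0

theorem upto_782 : ∀ j, j < 391000 → ∃ r, checkFactW cert j r = true :=
  upto_stepW cert upto_781 ju_130_1 500 len_130_1 chk_130_1

theorem upto_783 : ∀ j, j < 391500 → ∃ r, checkFactW cert j r = true :=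
  upto_stepW cert upto_782 ju_130_2 500 len_130_2 chk_130_2

theorem upto_784 : ∀ j, j < 392000 → ∃ r, checkFactW cert j r = true :=
  upto_stepW cert upto_783 ju_130_3 500 len_130_3 chk_130_3

theorem upto_785 : ∀ j, j < 392500 → ∃ r, checkFactW cert j r = true :=
  upto_stepW cert upto_784 ju_130_4 500 len_130_4 chk_130_4

theorem upto_786 : ∀ j, j < 393000 → ∃ r, checkFactW cert j r = true :=
  upto_stepW cert upto_785 ju_130_5 500 len_130_5 chk_130_5

theorem upto_787 : ∀ j, j < 393500 → ∃ r, checkFactW cert j r = true :=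
  upto_stepW cert upto_786 ju_131_0 500 len_131_0 chk_131_0

theorem upto_788 : ∀ j, j < 394000 → ∃ r, checkFactW cert j r = true :=
  upto_stepW cert upto_787 ju_131_1 500 len_131_1 chk_131_1

theorem upto_789 : ∀ j, j < 394500 → ∃ r, checkFactW cert j r = true :=
  upto_stepW cert upto_788 ju_131_2 500 len_131_2 chk_131_2

theorem upto_790 : ∀ j, j < 395000 → ∃ r, checkFactW cert j r = true :=
  upto_stepW cert upto_789 ju_131_3 500 len_131_3 chk_131_3

theorem upto_791 : ∀ j, j < 395500 → ∃ r, checkFactW cert j r = true :=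
  upto_stepW cert upto_790 ju_131_4 500 len_131_4 chk_131_4

theorem upto_792 : ∀ j, j < 396000 → ∃ r, checkFactW cert j r = true :=
  upto_stepW cert upto_791 ju_131_5 500 len_131_5 chk_131_5

theorem upto_793 : ∀ j, j < 396500 → ∃ r, checkFactW cert j r = true :=
  upto_stepW cert upto_792 ju_132_0 500 len_132_0 chk_132_0

theorem upto_794 : ∀ j, j < 397000 → ∃ r, checkFactW cert j r = true :=
  upto_stepW cert upto_793 ju_132_1 500 len_132_1 chk_132_1

theorem upto_795 : ∀ j, j < 397500 → ∃ r, checkFactW cert j r = true :=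
  upto_stepW cert upto_794 ju_132_2 500 len_132_2 chk_132_2

theorem upto_796 : ∀ j, j < 398000 → ∃ r, checkFactW cert j r = true :=
  upto_stepW cert upto_795 ju_132_3 500 len_132_3 chk_132_3

theorem upto_797 : ∀ j, j < 398500 → ∃ r, checkFactW cert j r = true :=
  upto_stepW cert upto_796 ju_132_4 500 len_132_4 chk_132_4

theorem upto_798 : ∀ j, j < 399000 → ∃ r, checkFactW cert j r = true :=
  upto_stepW cert upto_797 ju_132_5 500 len_132_5 chk_132_5

theorem upto_799 : ∀ j, j < 399500 → ∃ r, checkFactW cert j r = true :=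
  upto_stepW cert upto_798 ju_133_0 500 len_133_0 chk_133_0

theorem upto_800 : ∀ j, j < 400000 → ∃ r, checkFactW cert j r = true :=
  upto_stepW cert upto_799 ju_133_1 500 len_133_1 chk_133_1

theorem upto_801 : ∀ j, j < 400500 → ∃ r, checkFactW cert j r = true :=
  upto_stepW cert upto_800 ju_133_2 500 len_133_2 chk_133_2

theorem upto_802 : ∀ j, j < 401000 → ∃ r, checkFactW cert j r = true :=
  upto_stepW cert upto_801 ju_133_3 500 len_133_3 chk_133_3

theorem upto_803 : ∀ j, j < 401500 → ∃ r, checkFactW cert j r = true :=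
  upto_stepW cert upto_802 ju_133_4 500 len_133_4 chk_133_4

theorem upto_804 : ∀ j, j < 402000 → ∃ r, checkFactW cert j r = true :=
  upto_stepW cert upto_803 ju_133_5 500 len_133_5 chk_133_5

theorem upto_805 : ∀ j, j < 402500 → ∃ r, checkFactW cert j r = true :=
  upto_stepW cert upto_804 ju_134_0 500 len_134_0 chk_134_0

theorem upto_806 : ∀ j, j < 403000 → ∃ r, checkFactW cert j r = true :=
  upto_stepW cert upto_805 ju_134_1 500 len_134_1 chk_134_1

theorem upto_807 : ∀ j, j < 403500 → ∃ r, checkFactW cert j r = true :=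
  upto_stepW cert upto_806 ju_134_2 500 len_134_2 chk_134_2

theorem upto_808 : ∀ j, j < 404000 → ∃ r, checkFactW cert j r = true :=
  upto_stepW cert upto_807 ju_134_3 500 len_134_3 chk_134_3

theorem upto_809 : ∀ j, j < 404500 → ∃ r, checkFactW cert j r = true :=
  upto_stepW cert upto_808 ju_134_4 500 len_134_4 chk_134_4

theorem upto_810 : ∀ j, j < 405000 → ∃ r, checkFactW cert j r = true :=
  upto_stepW cert upto_809 ju_134_5 500 len_134_5 chk_134_5

theorem upto_811 : ∀ j, j < 405500 → ∃ r, checkFactW cert j r = true :=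
  upto_stepW cert upto_810 ju_135_0 500 len_135_0 chk_135_0

theorem upto_812 : ∀ j, j < 406000 → ∃ r, checkFactW cert j r = true :=
  upto_stepW cert upto_811 ju_135_1 500 len_135_1 chk_135_1

theorem upto_813 : ∀ j, j < 406500 → ∃ r, checkFactW cert j r = true :=
  upto_stepW cert upto_812 ju_135_2 500 len_135_2 chk_135_2

theorem upto_814 : ∀ j, j < 407000 → ∃ r, checkFactW cert j r = true :=
  upto_stepW cert upto_813 ju_135_3 500 len_135_3 chk_135_3

theorem upto_815 : ∀ j, j < 407500 → ∃ r, checkFactW cert j r = true :=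
  upto_stepW cert upto_814 ju_135_4 500 len_135_4 chk_135_4

theorem upto_816 : ∀ j, j < 408000 → ∃ r, checkFactW cert j r = true :=
  upto_stepW cert upto_815 ju_135_5 500 len_135_5 chk_135_5

theorem upto_817 : ∀ j, j < 408500 → ∃ r, checkFactW cert j r = true :=
  upto_stepW cert upto_816 ju_136_0 500 len_136_0 chk_136_0

theorem upto_818 : ∀ j, j < 409000 → ∃ r, checkFactW cert j r = true :=
  upto_stepW cert upto_817 ju_136_1 500 len_136_1 chk_136_1

theorem upto_819 : ∀ j, j < 409500 → ∃ r, checkFactW cert j r = true :=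
  upto_stepW cert upto_818 ju_136_2 500 len_136_2 chk_136_2

theorem upto_820 : ∀ j, j < 410000 → ∃ r, checkFactW cert j r = true :=
  upto_stepW cert upto_819 ju_136_3 500 len_136_3 chk_136_3

theorem upto_821 : ∀ j, j < 410500 → ∃ r, checkFactW cert j r = true :=
  upto_stepW cert upto_820 ju_136_4 500 len_136_4 chk_136_4

theorem upto_822 : ∀ j, j < 411000 → ∃ r, checkFactW cert j r = true :=
  upto_stepW cert upto_821 ju_136_5 500 len_136_5 chk_136_5

theorem upto_823 : ∀ j, j < 411500 → ∃ r, checkFactW cert j r = true :=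
  upto_stepW cert upto_822 ju_137_0 500 len_137_0 chk_137_0

theorem upto_824 : ∀ j, j < 412000 → ∃ r, checkFactW cert j r = true :=
  upto_stepW cert upto_823 ju_137_1 500 len_137_1 chk_137_1

theorem upto_825 : ∀ j, j < 412500 → ∃ r, checkFactW cert j r = true :=
  upto_stepW cert upto_824 ju_137_2 500 len_137_2 chk_137_2

theorem upto_826 : ∀ j, j < 413000 → ∃ r, checkFactW cert j r = true :=
  upto_stepW cert upto_825 ju_137_3 500 len_137_3 chk_137_3

theorem upto_827 : ∀ j, j < 413500 → ∃ r, checkFactW cert j r = true :=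
  upto_stepW cert upto_826 ju_137_4 500 len_137_4 chk_137_4

theorem upto_828 : ∀ j, j < 414000 → ∃ r, checkFactW cert j r = true :=
  upto_stepW cert upto_827 ju_137_5 500 len_137_5 chk_137_5

theorem upto_829 : ∀ j, j < 414500 → ∃ r, checkFactW cert j r = true :=
  upto_stepW cert upto_828 ju_138_0 500 len_138_0 chk_138_0

theorem upto_830 : ∀ j, j < 415000 → ∃ r, checkFactW cert j r = true :=
  upto_stepW cert upto_829 ju_138_1 500 len_138_1 chk_138_1

theorem upto_831 : ∀ j, j < 415500 → ∃ r, checkFactW cert j r = true :=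
  upto_stepW cert upto_830 ju_138_2 500 len_138_2 chk_138_2

theorem upto_832 : ∀ j, j < 416000 → ∃ r, checkFactW cert j r = true :=
  upto_stepW cert upto_831 ju_138_3 500 len_138_3 chk_138_3

theorem upto_833 : ∀ j, j < 416500 → ∃ r, checkFactW cert j r = true :=
  upto_stepW cert upto_832 ju_138_4 500 len_138_4 chk_138_4

theorem upto_834 : ∀ j, j < 417000 → ∃ r, checkFactW cert j r = true :=
  upto_stepW cert upto_833 ju_138_5 500 len_138_5 chk_138_5

theorem upto_835 : ∀ j, j < 417500 → ∃ r, checkFactW cert j r = true :=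
  upto_stepW cert upto_834 ju_139_0 500 len_139_0 chk_139_0

theorem upto_836 : ∀ j, j < 418000 → ∃ r, checkFactW cert j r = true :=
  upto_stepW cert upto_835 ju_139_1 500 len_139_1 chk_139_1

theorem upto_837 : ∀ j, j < 418500 → ∃ r, checkFactW cert j r = true :=
  upto_stepW cert upto_836 ju_139_2 500 len_139_2 chk_139_2

theorem upto_838 : ∀ j, j < 419000 → ∃ r, checkFactW cert j r = true :=
  upto_stepW cert upto_837 ju_139_3 500 len_139_3 chk_139_3

theorem upto_839 : ∀ j, j < 419500 → ∃ r, checkFactW cert j r = true :=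
  upto_stepW cert upto_838 ju_139_4 500 len_139_4 chk_139_4

theorem upto_840 : ∀ j, j < 420000 → ∃ r, checkFactW cert j r = true :=
  upto_stepW cert upto_839 ju_139_5 500 len_139_5 chk_139_5

theorem upto_841 : ∀ j, j < 420500 → ∃ r, checkFactW cert j r = true :=
  upto_stepW cert upto_840 ju_140_0 500 len_140_0 chk_140_0

theorem upto_842 : ∀ j, j < 421000 → ∃ r, checkFactW cert j r = true :=
  upto_stepW cert upto_841 ju_140_1 500 len_140_1 chk_140_1

theorem upto_843 : ∀ j, j < 421500 → ∃ r, checkFactW cert j r = true :=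
  upto_stepW cert upto_842 ju_140_2 500 len_140_2 chk_140_2

theorem upto_844 : ∀ j, j < 422000 → ∃ r, checkFactW cert j r = true :=
  upto_stepW cert upto_843 ju_140_3 500 len_140_3 chk_140_3

theorem upto_845 : ∀ j, j < 422500 → ∃ r, checkFactW cert j r = true :=
  upto_stepW cert upto_844 ju_140_4 500 len_140_4 chk_140_4

theorem upto_846 : ∀ j, j < 423000 → ∃ r, checkFactW cert j r = true :=
  upto_stepW cert upto_845 ju_140_5 500 len_140_5 chk_140_5

theorem upto_847 : ∀ j, j < 423500 → ∃ r, checkFactW cert j r = true :=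
  upto_stepW cert upto_846 ju_141_0 500 len_141_0 chk_141_0

theorem upto_848 : ∀ j, j < 424000 → ∃ r, checkFactW cert j r = true :=
  upto_stepW cert upto_847 ju_141_1 500 len_141_1 chk_141_1

theorem upto_849 : ∀ j, j < 424500 → ∃ r, checkFactW cert j r = true :=
  upto_stepW cert upto_848 ju_141_2 500 len_141_2 chk_141_2

theorem upto_850 : ∀ j, j < 425000 → ∃ r, checkFactW cert j r = true :=
  upto_stepW cert upto_849 ju_141_3 500 len_141_3 chk_141_3

theorem upto_851 : ∀ j, j < 425500 → ∃ r, checkFactW cert j r = true :=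
  upto_stepW cert upto_850 ju_141_4 500 len_141_4 chk_141_4

theorem upto_852 : ∀ j, j < 426000 → ∃ r, checkFactW cert j r = true :=
  upto_stepW cert upto_851 ju_141_5 500 len_141_5 chk_141_5

theorem upto_853 : ∀ j, j < 426500 → ∃ r, checkFactW cert j r = true :=
  upto_stepW cert upto_852 ju_142_0 500 len_142_0 chk_142_0

theorem upto_854 : ∀ j, j < 427000 → ∃ r, checkFactW cert j r = true :=
  upto_stepW cert upto_853 ju_142_1 500 len_142_1 chk_142_1

theorem upto_855 : ∀ j, j < 427500 → ∃ r, checkFactW cert j r = true :=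
  upto_stepW cert upto_854 ju_142_2 500 len_142_2 chk_142_2

theorem upto_856 : ∀ j, j < 428000 → ∃ r, checkFactW cert j r = true :=
  upto_stepW cert upto_855 ju_142_3 500 len_142_3 chk_142_3

theorem upto_857 : ∀ j, j < 428500 → ∃ r, checkFactW cert j r = true :=
  upto_stepW cert upto_856 ju_142_4 500 len_142_4 chk_142_4

theorem upto_858 : ∀ j, j < 429000 → ∃ r, checkFactW cert j r = true :=
  upto_stepW cert upto_857 ju_142_5 500 len_142_5 chk_142_5

theorem upto_859 : ∀ j, j < 429500 → ∃ r, checkFactW cert j r = true :=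
  upto_stepW cert upto_858 ju_143_0 500 len_143_0 chk_143_0

theorem upto_860 : ∀ j, j < 430000 → ∃ r, checkFactW cert j r = true :=
  upto_stepW cert upto_859 ju_143_1 500 len_143_1 chk_143_1

theorem upto_861 : ∀ j, j < 430500 → ∃ r, checkFactW cert j r = true :=
  upto_stepW cert upto_860 ju_143_2 500 len_143_2 chk_143_2

theorem upto_862 : ∀ j, j < 431000 → ∃ r, checkFactW cert j r = true :=
  upto_stepW cert upto_861 ju_143_3 500 len_143_3 chk_143_3

theorem upto_863 : ∀ j, j < 431500 → ∃ r, checkFactW cert j r = true :=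
  upto_stepW cert upto_862 ju_143_4 500 len_143_4 chk_143_4

theorem upto_864 : ∀ j, j < 432000 → ∃ r, checkFactW cert j r = true :=
  upto_stepW cert upto_863 ju_143_5 500 len_143_5 chk_143_5

theorem upto_865 : ∀ j, j < 432500 → ∃ r, checkFactW cert j r = true :=
  upto_stepW cert upto_864 ju_144_0 500 len_144_0 chk_144_0

theorem upto_866 : ∀ j, j < 433000 → ∃ r, checkFactW cert j r = true :=
  upto_stepW cert upto_865 ju_144_1 500 len_144_1 chk_144_1

theorem upto_867 : ∀ j, j < 433500 → ∃ r, checkFactW cert j r = true :=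
  upto_stepW cert upto_866 ju_144_2 500 len_144_2 chk_144_2

theorem upto_868 : ∀ j, j < 434000 → ∃ r, checkFactW cert j r = true :=
  upto_stepW cert upto_867 ju_144_3 500 len_144_3 chk_144_3

theorem upto_869 : ∀ j, j < 434500 → ∃ r, checkFactW cert j r = true :=
  upto_stepW cert upto_868 ju_144_4 500 len_144_4 chk_144_4

theorem upto_870 : ∀ j, j < 435000 → ∃ r, checkFactW cert j r = true :=
  upto_stepW cert upto_869 ju_144_5 500 len_144_5 chk_144_5

theorem upto_871 : ∀ j, j < 435500 → ∃ r, checkFactW cert j r = true :=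
  upto_stepW cert upto_870 ju_145_0 500 len_145_0 chk_145_0

theorem upto_872 : ∀ j, j < 436000 → ∃ r, checkFactW cert j r = true :=
  upto_stepW cert upto_871 ju_145_1 500 len_145_1 chk_145_1

theorem upto_873 : ∀ j, j < 436500 → ∃ r, checkFactW cert j r = true :=
  upto_stepW cert upto_872 ju_145_2 500 len_145_2 chk_145_2

theorem upto_874 : ∀ j, j < 437000 → ∃ r, checkFactW cert j r = true :=
  upto_stepW cert upto_873 ju_145_3 500 len_145_3 chk_145_3

theorem upto_875 : ∀ j, j < 437500 → ∃ r, checkFactW cert j r = true :=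
  upto_stepW cert upto_874 ju_145_4 500 len_145_4 chk_145_4

theorem upto_876 : ∀ j, j < 438000 → ∃ r, checkFactW cert j r = true :=
  upto_stepW cert upto_875 ju_145_5 500 len_145_5 chk_145_5

theorem upto_877 : ∀ j, j < 438500 → ∃ r, checkFactW cert j r = true :=
  upto_stepW cert upto_876 ju_146_0 500 len_146_0 chk_146_0

theorem upto_878 : ∀ j, j < 439000 → ∃ r, checkFactW cert j r = true :=
  upto_stepW cert upto_877 ju_146_1 500 len_146_1 chk_146_1

theorem upto_879 : ∀ j, j < 439500 → ∃ r, checkFactW cert j r = true :=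
  upto_stepW cert upto_878 ju_146_2 500 len_146_2 chk_146_2

theorem upto_880 : ∀ j, j < 440000 → ∃ r, checkFactW cert j r = true :=
  upto_stepW cert upto_879 ju_146_3 500 len_146_3 chk_146_3

theorem upto_881 : ∀ j, j < 440500 → ∃ r, checkFactW cert j r = true :=
  upto_stepW cert upto_880 ju_146_4 500 len_146_4 chk_146_4

theorem upto_882 : ∀ j, j < 441000 → ∃ r, checkFactW cert j r = true :=
  upto_stepW cert upto_881 ju_146_5 500 len_146_5 chk_146_5

theorem upto_883 : ∀ j, j < 441500 → ∃ r, checkFactW cert j r = true :=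
  upto_stepW cert upto_882 ju_147_0 500 len_147_0 chk_147_0

theorem upto_884 : ∀ j, j < 442000 → ∃ r, checkFactW cert j r = true :=
  upto_stepW cert upto_883 ju_147_1 500 len_147_1 chk_147_1

theorem upto_885 : ∀ j, j < 442500 → ∃ r, checkFactW cert j r = true :=
  upto_stepW cert upto_884 ju_147_2 500 len_147_2 chk_147_2

theorem upto_886 : ∀ j, j < 443000 → ∃ r, checkFactW cert j r = true :=
  upto_stepW cert upto_885 ju_147_3 500 len_147_3 chk_147_3

theorem upto_887 : ∀ j, j < 443500 → ∃ r, checkFactW cert j r = true :=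
  upto_stepW cert upto_886 ju_147_4 500 len_147_4 chk_147_4

theorem upto_888 : ∀ j, j < 444000 → ∃ r, checkFactW cert j r = true :=
  upto_stepW cert upto_887 ju_147_5 500 len_147_5 chk_147_5

theorem upto_889 : ∀ j, j < 444500 → ∃ r, checkFactW cert j r = true :=
  upto_stepW cert upto_888 ju_148_0 500 len_148_0 chk_148_0

theorem upto_890 : ∀ j, j < 445000 → ∃ r, checkFactW cert j r = true :=
  upto_stepW cert upto_889 ju_148_1 500 len_148_1 chk_148_1

theorem upto_891 : ∀ j, j < 445500 → ∃ r, checkFactW cert j r = true :=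
  upto_stepW cert upto_890 ju_148_2 500 len_148_2 chk_148_2

theorem upto_892 : ∀ j, j < 446000 → ∃ r, checkFactW cert j r = true :=
  upto_stepW cert upto_891 ju_148_3 500 len_148_3 chk_148_3

theorem upto_893 : ∀ j, j < 446500 → ∃ r, checkFactW cert j r = true :=
  upto_stepW cert upto_892 ju_148_4 500 len_148_4 chk_148_4

theorem upto_894 : ∀ j, j < 447000 → ∃ r, checkFactW cert j r = true :=
  upto_stepW cert upto_893 ju_148_5 500 len_148_5 chk_148_5

theorem upto_895 : ∀ j, j < 447500 → ∃ r, checkFactW cert j r = true :=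
  upto_stepW cert upto_894 ju_149_0 500 len_149_0 chk_149_0

theorem upto_896 : ∀ j, j < 448000 → ∃ r, checkFactW cert j r = true :=
  upto_stepW cert upto_895 ju_149_1 500 len_149_1 chk_149_1

theorem upto_897 : ∀ j, j < 448500 → ∃ r, checkFactW cert j r = true :=
  upto_stepW cert upto_896 ju_149_2 500 len_149_2 chk_149_2

theorem upto_898 : ∀ j, j < 449000 → ∃ r, checkFactW cert j r = true :=
  upto_stepW cert upto_897 ju_149_3 500 len_149_3 chk_149_3

theorem upto_899 : ∀ j, j < 449500 → ∃ r, checkFactW cert j r = true :=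
  upto_stepW cert upto_898 ju_149_4 500 len_149_4 chk_149_4

theorem upto_900 : ∀ j, j < 450000 → ∃ r, checkFactW cert j r = true :=
  upto_stepW cert upto_899 ju_149_5 500 len_149_5 chk_149_5

theorem upto_901 : ∀ j, j < 450500 → ∃ r, checkFactW cert j r = true :=
  upto_stepW cert upto_900 ju_150_0 500 len_150_0 chk_150_0

theorem upto_902 : ∀ j, j < 451000 → ∃ r, checkFactW cert j r = true :=
  upto_stepW cert upto_901 ju_150_1 500 len_150_1 chk_150_1

theorem upto_903 : ∀ j, j < 451500 → ∃ r, checkFactW cert j r = true :=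
  upto_stepW cert upto_902 ju_150_2 500 len_150_2 chk_150_2

theorem upto_904 : ∀ j, j < 452000 → ∃ r, checkFactW cert j r = true :=
  upto_stepW cert upto_903 ju_150_3 500 len_150_3 chk_150_3

theorem upto_905 : ∀ j, j < 452500 → ∃ r, checkFactW cert j r = true :=
  upto_stepW cert upto_904 ju_150_4 500 len_150_4 chk_150_4

theorem upto_906 : ∀ j, j < 453000 → ∃ r, checkFactW cert j r = true :=
  upto_stepW cert upto_905 ju_150_5 500 len_150_5 chk_150_5

theorem upto_907 : ∀ j, j < 453500 → ∃ r, checkFactW cert j r = true :=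
  upto_stepW cert upto_906 ju_151_0 500 len_151_0 chk_151_0

theorem upto_908 : ∀ j, j < 454000 → ∃ r, checkFactW cert j r = true :=
  upto_stepW cert upto_907 ju_151_1 500 len_151_1 chk_151_1

theorem upto_909 : ∀ j, j < 454500 → ∃ r, checkFactW cert j r = true :=
  upto_stepW cert upto_908 ju_151_2 500 len_151_2 chk_151_2

theorem upto_910 : ∀ j, j < 455000 → ∃ r, checkFactW cert j r = true :=
  upto_stepW cert upto_909 ju_151_3 500 len_151_3 chk_151_3

theorem upto_911 : ∀ j, j < 455500 → ∃ r, checkFactW cert j r = true :=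
  upto_stepW cert upto_910 ju_151_4 500 len_151_4 chk_151_4

theorem upto_912 : ∀ j, j < 456000 → ∃ r, checkFactW cert j r = true :=
  upto_stepW cert upto_911 ju_151_5 500 len_151_5 chk_151_5

theorem upto_913 : ∀ j, j < 456500 → ∃ r, checkFactW cert j r = true :=
  upto_stepW cert upto_912 ju_152_0 500 len_152_0 chk_152_0

theorem upto_914 : ∀ j, j < 457000 → ∃ r, checkFactW cert j r = true :=
  upto_stepW cert upto_913 ju_152_1 500 len_152_1 chk_152_1

theorem upto_915 : ∀ j, j < 457500 → ∃ r, checkFactW cert j r = true :=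
  upto_stepW cert upto_914 ju_152_2 500 len_152_2 chk_152_2

theorem upto_916 : ∀ j, j < 458000 → ∃ r, checkFactW cert j r = true :=
  upto_stepW cert upto_915 ju_152_3 500 len_152_3 chk_152_3

theorem upto_917 : ∀ j, j < 458500 → ∃ r, checkFactW cert j r = true :=
  upto_stepW cert upto_916 ju_152_4 500 len_152_4 chk_152_4

theorem upto_918 : ∀ j, j < 459000 → ∃ r, checkFactW cert j r = true :=
  upto_stepW cert upto_917 ju_152_5 500 len_152_5 chk_152_5

theorem upto_919 : ∀ j, j < 459500 → ∃ r, checkFactW cert j r = true :=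
  upto_stepW cert upto_918 ju_153_0 500 len_153_0 chk_153_0

theorem upto_920 : ∀ j, j < 460000 → ∃ r, checkFactW cert j r = true :=
  upto_stepW cert upto_919 ju_153_1 500 len_153_1 chk_153_1

theorem upto_921 : ∀ j, j < 460500 → ∃ r, checkFactW cert j r = true :=
  upto_stepW cert upto_920 ju_153_2 500 len_153_2 chk_153_2

theorem upto_922 : ∀ j, j < 461000 → ∃ r, checkFactW cert j r = true :=
  upto_stepW cert upto_921 ju_153_3 500 len_153_3 chk_153_3

theorem upto_923 : ∀ j, j < 461500 → ∃ r, checkFactW cert j r = true :=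
  upto_stepW cert upto_922 ju_153_4 500 len_153_4 chk_153_4

theorem upto_924 : ∀ j, j < 462000 → ∃ r, checkFactW cert j r = true :=
  upto_stepW cert upto_923 ju_153_5 500 len_153_5 chk_153_5

theorem upto_925 : ∀ j, j < 462500 → ∃ r, checkFactW cert j r = true :=
  upto_stepW cert upto_924 ju_154_0 500 len_154_0 chk_154_0

theorem upto_926 : ∀ j, j < 463000 → ∃ r, checkFactW cert j r = true :=
  upto_stepW cert upto_925 ju_154_1 500 len_154_1 chk_154_1

theorem upto_927 : ∀ j, j < 463500 → ∃ r, checkFactW cert j r = true :=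
  upto_stepW cert upto_926 ju_154_2 500 len_154_2 chk_154_2

theorem upto_928 : ∀ j, j < 464000 → ∃ r, checkFactW cert j r = true :=
  upto_stepW cert upto_927 ju_154_3 500 len_154_3 chk_154_3

theorem upto_929 : ∀ j, j < 464500 → ∃ r, checkFactW cert j r = true :=
  upto_stepW cert upto_928 ju_154_4 500 len_154_4 chk_154_4

theorem upto_930 : ∀ j, j < 465000 → ∃ r, checkFactW cert j r = true :=
  upto_stepW cert upto_929 ju_154_5 500 len_154_5 chk_154_5

theorem upto_931 : ∀ j, j < 465500 → ∃ r, checkFactW cert j r = true :=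
  upto_stepW cert upto_930 ju_155_0 500 len_155_0 chk_155_0

theorem upto_932 : ∀ j, j < 466000 → ∃ r, checkFactW cert j r = true :=
  upto_stepW cert upto_931 ju_155_1 500 len_155_1 chk_155_1

theorem upto_933 : ∀ j, j < 466500 → ∃ r, checkFactW cert j r = true :=
  upto_stepW cert upto_932 ju_155_2 500 len_155_2 chk_155_2

theorem upto_934 : ∀ j, j < 467000 → ∃ r, checkFactW cert j r = true :=
  upto_stepW cert upto_933 ju_155_3 500 len_155_3 chk_155_3

theorem upto_935 : ∀ j, j < 467500 → ∃ r, checkFactW cert j r = true :=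
  upto_stepW cert upto_934 ju_155_4 500 len_155_4 chk_155_4

theorem upto_936 : ∀ j, j < 468000 → ∃ r, checkFactW cert j r = true :=
  upto_stepW cert upto_935 ju_155_5 500 len_155_5 chk_155_5

theorem upto_937 : ∀ j, j < 468500 → ∃ r, checkFactW cert j r = true :=
  upto_stepW cert upto_936 ju_156_0 500 len_156_0 chk_156_0

theorem upto_938 : ∀ j, j < 469000 → ∃ r, checkFactW cert j r = true :=
  upto_stepW cert upto_937 ju_156_1 500 len_156_1 chk_156_1

theorem upto_939 : ∀ j, j < 469500 → ∃ r, checkFactW cert j r = true :=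
  upto_stepW cert upto_938 ju_156_2 500 len_156_2 chk_156_2

theorem upto_940 : ∀ j, j < 470000 → ∃ r, checkFactW cert j r = true :=
  upto_stepW cert upto_939 ju_156_3 500 len_156_3 chk_156_3

theorem upto_941 : ∀ j, j < 470500 → ∃ r, checkFactW cert j r = true :=
  upto_stepW cert upto_940 ju_156_4 500 len_156_4 chk_156_4

theorem upto_942 : ∀ j, j < 471000 → ∃ r, checkFactW cert j r = true :=
  upto_stepW cert upto_941 ju_156_5 500 len_156_5 chk_156_5

theorem upto_943 : ∀ j, j < 471500 → ∃ r, checkFactW cert j r = true :=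
  upto_stepW cert upto_942 ju_157_0 500 len_157_0 chk_157_0

theorem upto_944 : ∀ j, j < 472000 → ∃ r, checkFactW cert j r = true :=
  upto_stepW cert upto_943 ju_157_1 500 len_157_1 chk_157_1

theorem upto_945 : ∀ j, j < 472500 → ∃ r, checkFactW cert j r = true :=
  upto_stepW cert upto_944 ju_157_2 500 len_157_2 chk_157_2

theorem upto_946 : ∀ j, j < 473000 → ∃ r, checkFactW cert j r = true :=
  upto_stepW cert upto_945 ju_157_3 500 len_157_3 chk_157_3

theorem upto_947 : ∀ j, j < 473500 → ∃ r, checkFactW cert j r = true :=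
  upto_stepW cert upto_946 ju_157_4 500 len_157_4 chk_157_4

theorem upto_948 : ∀ j, j < 474000 → ∃ r, checkFactW cert j r = true :=
  upto_stepW cert upto_947 ju_157_5 500 len_157_5 chk_157_5

theorem upto_949 : ∀ j, j < 474500 → ∃ r, checkFactW cert j r = true :=
  upto_stepW cert upto_948 ju_158_0 500 len_158_0 chk_158_0

theorem upto_950 : ∀ j, j < 475000 → ∃ r, checkFactW cert j r = true :=
  upto_stepW cert upto_949 ju_158_1 500 len_158_1 chk_158_1

theorem upto_951 : ∀ j, j < 475500 → ∃ r, checkFactW cert j r = true :=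
  upto_stepW cert upto_950 ju_158_2 500 len_158_2 chk_158_2

theorem upto_952 : ∀ j, j < 476000 → ∃ r, checkFactW cert j r = true :=
  upto_stepW cert upto_951 ju_158_3 500 len_158_3 chk_158_3

theorem upto_953 : ∀ j, j < 476500 → ∃ r, checkFactW cert j r = true :=
  upto_stepW cert upto_952 ju_158_4 500 len_158_4 chk_158_4

theorem upto_954 : ∀ j, j < 477000 → ∃ r, checkFactW cert j r = true :=
  upto_stepW cert upto_953 ju_158_5 500 len_158_5 chk_158_5

theorem upto_955 : ∀ j, j < 477500 → ∃ r, checkFactW cert j r = true :=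
  upto_stepW cert upto_954 ju_159_0 500 len_159_0 chk_159_0

theorem upto_956 : ∀ j, j < 478000 → ∃ r, checkFactW cert j r = true :=
  upto_stepW cert upto_955 ju_159_1 500 len_159_1 chk_159_1

theorem upto_957 : ∀ j, j < 478500 → ∃ r, checkFactW cert j r = true :=
  upto_stepW cert upto_956 ju_159_2 500 len_159_2 chk_159_2

theorem upto_958 : ∀ j, j < 479000 → ∃ r, checkFactW cert j r = true :=
  upto_stepW cert upto_957 ju_159_3 500 len_159_3 chk_159_3

theorem upto_959 : ∀ j, j < 479500 → ∃ r, checkFactW cert j r = true :=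
  upto_stepW cert upto_958 ju_159_4 500 len_159_4 chk_159_4

theorem upto_960 : ∀ j, j < 480000 → ∃ r, checkFactW cert j r = true :=
  upto_stepW cert upto_959 ju_159_5 500 len_159_5 chk_159_5

theorem upto_961 : ∀ j, j < 480500 → ∃ r, checkFactW cert j r = true :=
  upto_stepW cert upto_960 ju_160_0 500 len_160_0 chk_160_0

theorem upto_962 : ∀ j, j < 481000 → ∃ r, checkFactW cert j r = true :=
  upto_stepW cert upto_961 ju_160_1 500 len_160_1 chk_160_1

theorem upto_963 : ∀ j, j < 481500 → ∃ r, checkFactW cert j r = true :=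
  upto_stepW cert upto_962 ju_160_2 500 len_160_2 chk_160_2

theorem upto_964 : ∀ j, j < 482000 → ∃ r, checkFactW cert j r = true :=
  upto_stepW cert upto_963 ju_160_3 500 len_160_3 chk_160_3

theorem upto_965 : ∀ j, j < 482500 → ∃ r, checkFactW cert j r = true :=
  upto_stepW cert upto_964 ju_160_4 500 len_160_4 chk_160_4

theorem upto_966 : ∀ j, j < 483000 → ∃ r, checkFactW cert j r = true :=
  upto_stepW cert upto_965 ju_160_5 500 len_160_5 chk_160_5

theorem upto_967 : ∀ j, j < 483500 → ∃ r, checkFactW cert j r = true :=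
  upto_stepW cert upto_966 ju_161_0 500 len_161_0 chk_161_0

theorem upto_968 : ∀ j, j < 484000 → ∃ r, checkFactW cert j r = true :=
  upto_stepW cert upto_967 ju_161_1 500 len_161_1 chk_161_1

theorem upto_969 : ∀ j, j < 484500 → ∃ r, checkFactW cert j r = true :=
  upto_stepW cert upto_968 ju_161_2 500 len_161_2 chk_161_2

theorem upto_970 : ∀ j, j < 485000 → ∃ r, checkFactW cert j r = true :=
  upto_stepW cert upto_969 ju_161_3 500 len_161_3 chk_161_3

theorem upto_971 : ∀ j, j < 485500 → ∃ r, checkFactW cert j r = true :=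
  upto_stepW cert upto_970 ju_161_4 500 len_161_4 chk_161_4

theorem upto_972 : ∀ j, j < 486000 → ∃ r, checkFactW cert j r = true :=
  upto_stepW cert upto_971 ju_161_5 500 len_161_5 chk_161_5

theorem upto_973 : ∀ j, j < 486500 → ∃ r, checkFactW cert j r = true :=
  upto_stepW cert upto_972 ju_162_0 500 len_162_0 chk_162_0

theorem upto_974 : ∀ j, j < 487000 → ∃ r, checkFactW cert j r = true :=
  upto_stepW cert upto_973 ju_162_1 500 len_162_1 chk_162_1

theorem upto_975 : ∀ j, j < 487500 → ∃ r, checkFactW cert j r = true :=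
  upto_stepW cert upto_974 ju_162_2 500 len_162_2 chk_162_2

theorem upto_976 : ∀ j, j < 488000 → ∃ r, checkFactW cert j r = true :=
  upto_stepW cert upto_975 ju_162_3 500 len_162_3 chk_162_3

theorem upto_977 : ∀ j, j < 488500 → ∃ r, checkFactW cert j r = true :=
  upto_stepW cert upto_976 ju_162_4 500 len_162_4 chk_162_4

theorem upto_978 : ∀ j, j < 489000 → ∃ r, checkFactW cert j r = true :=
  upto_stepW cert upto_977 ju_162_5 500 len_162_5 chk_162_5

theorem upto_979 : ∀ j, j < 489500 → ∃ r, checkFactW cert j r = true :=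
  upto_stepW cert upto_978 ju_163_0 500 len_163_0 chk_163_0

theorem upto_980 : ∀ j, j < 490000 → ∃ r, checkFactW cert j r = true :=
  upto_stepW cert upto_979 ju_163_1 500 len_163_1 chk_163_1

theorem upto_981 : ∀ j, j < 490500 → ∃ r, checkFactW cert j r = true :=
  upto_stepW cert upto_980 ju_163_2 500 len_163_2 chk_163_2

theorem upto_982 : ∀ j, j < 491000 → ∃ r, checkFactW cert j r = true :=
  upto_stepW cert upto_981 ju_163_3 500 len_163_3 chk_163_3

theorem upto_983 : ∀ j, j < 491500 → ∃ r, checkFactW cert j r = true :=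
  upto_stepW cert upto_982 ju_163_4 500 len_163_4 chk_163_4

theorem upto_984 : ∀ j, j < 492000 → ∃ r, checkFactW cert j r = true :=
  upto_stepW cert upto_983 ju_163_5 500 len_163_5 chk_163_5

theorem upto_985 : ∀ j, j < 492500 → ∃ r, checkFactW cert j r = true :=
  upto_stepW cert upto_984 ju_164_0 500 len_164_0 chk_164_0

theorem upto_986 : ∀ j, j < 493000 → ∃ r, checkFactW cert j r = true :=
  upto_stepW cert upto_985 ju_164_1 500 len_164_1 chk_164_1

theorem upto_987 : ∀ j, j < 493500 → ∃ r, checkFactW cert j r = true :=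
  upto_stepW cert upto_986 ju_164_2 500 len_164_2 chk_164_2

theorem upto_988 : ∀ j, j < 494000 → ∃ r, checkFactW cert j r = true :=
  upto_stepW cert upto_987 ju_164_3 500 len_164_3 chk_164_3

theorem upto_989 : ∀ j, j < 494500 → ∃ r, checkFactW cert j r = true :=
  upto_stepW cert upto_988 ju_164_4 500 len_164_4 chk_164_4

theorem upto_990 : ∀ j, j < 495000 → ∃ r, checkFactW cert j r = true :=
  upto_stepW cert upto_989 ju_164_5 500 len_164_5 chk_164_5

theorem upto_991 : ∀ j, j < 495500 → ∃ r, checkFactW cert j r = true :=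
  upto_stepW cert upto_990 ju_165_0 500 len_165_0 chk_165_0

theorem upto_992 : ∀ j, j < 496000 → ∃ r, checkFactW cert j r = true :=
  upto_stepW cert upto_991 ju_165_1 500 len_165_1 chk_165_1

theorem upto_993 : ∀ j, j < 496500 → ∃ r, checkFactW cert j r = true :=
  upto_stepW cert upto_992 ju_165_2 500 len_165_2 chk_165_2

theorem upto_994 : ∀ j, j < 497000 → ∃ r, checkFactW cert j r = true :=
  upto_stepW cert upto_993 ju_165_3 500 len_165_3 chk_165_3

theorem upto_995 : ∀ j, j < 497500 → ∃ r, checkFactW cert j r = true :=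
  upto_stepW cert upto_994 ju_165_4 500 len_165_4 chk_165_4

theorem upto_996 : ∀ j, j < 498000 → ∃ r, checkFactW cert j r = true :=
  upto_stepW cert upto_995 ju_165_5 500 len_165_5 chk_165_5

theorem upto_997 : ∀ j, j < 498500 → ∃ r, checkFactW cert j r = true :=
  upto_stepW cert upto_996 ju_166_0 500 len_166_0 chk_166_0

theorem upto_998 : ∀ j, j < 499000 → ∃ r, checkFactW cert j r = true :=
  upto_stepW cert upto_997 ju_166_1 500 len_166_1 chk_166_1

theorem upto_999 : ∀ j, j < 499500 → ∃ r, checkFactW cert j r = true :=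
  upto_stepW cert upto_998 ju_166_2 500 len_166_2 chk_166_2

theorem upto_1000 : ∀ j, j < 500000 → ∃ r, checkFactW cert j r = true :=
  upto_stepW cert upto_999 ju_166_3 500 len_166_3 chk_166_3

theorem upto_1001 : ∀ j, j < 500500 → ∃ r, checkFactW cert j r = true :=
  upto_stepW cert upto_1000 ju_166_4 500 len_166_4 chk_166_4

theorem upto_1002 : ∀ j, j < 501000 → ∃ r, checkFactW cert j r = true :=
  upto_stepW cert upto_1001 ju_166_5 500 len_166_5 chk_166_5

theorem upto_1003 : ∀ j, j < 501500 → ∃ r, checkFactW cert j r = true :=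
  upto_stepW cert upto_1002 ju_167_0 500 len_167_0 chk_167_0

theorem upto_1004 : ∀ j, j < 502000 → ∃ r, checkFactW cert j r = true :=
  upto_stepW cert upto_1003 ju_167_1 500 len_167_1 chk_167_1

theorem upto_1005 : ∀ j, j < 502500 → ∃ r, checkFactW cert j r = true :=
  upto_stepW cert upto_1004 ju_167_2 500 len_167_2 chk_167_2

theorem upto_1006 : ∀ j, j < 503000 → ∃ r, checkFactW cert j r = true :=
  upto_stepW cert upto_1005 ju_167_3 500 len_167_3 chk_167_3

theorem upto_1007 : ∀ j, j < 503500 → ∃ r, checkFactW cert j r = true :=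
  upto_stepW cert upto_1006 ju_167_4 500 len_167_4 chk_167_4

theorem upto_1008 : ∀ j, j < 504000 → ∃ r, checkFactW cert j r = true :=
  upto_stepW cert upto_1007 ju_167_5 500 len_167_5 chk_167_5

theorem upto_1009 : ∀ j, j < 504500 → ∃ r, checkFactW cert j r = true :=
  upto_stepW cert upto_1008 ju_168_0 500 len_168_0 chk_168_0

theorem upto_1010 : ∀ j, j < 505000 → ∃ r, checkFactW cert j r = true :=
  upto_stepW cert upto_1009 ju_168_1 500 len_168_1 chk_168_1

theorem upto_1011 : ∀ j, j < 505500 → ∃ r, checkFactW cert j r = true :=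
  upto_stepW cert upto_1010 ju_168_2 500 len_168_2 chk_168_2

theorem upto_1012 : ∀ j, j < 506000 → ∃ r, checkFactW cert j r = true :=
  upto_stepW cert upto_1011 ju_168_3 500 len_168_3 chk_168_3

theorem upto_1013 : ∀ j, j < 506500 → ∃ r, checkFactW cert j r = true :=
  upto_stepW cert upto_1012 ju_168_4 500 len_168_4 chk_168_4

theorem upto_1014 : ∀ j, j < 507000 → ∃ r, checkFactW cert j r = true :=
  upto_stepW cert upto_1013 ju_168_5 500 len_168_5 chk_168_5

theorem upto_1015 : ∀ j, j < 507500 → ∃ r, checkFactW cert j r = true :=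
  upto_stepW cert upto_1014 ju_169_0 500 len_169_0 chk_169_0

theorem upto_1016 : ∀ j, j < 508000 → ∃ r, checkFactW cert j r = true :=
  upto_stepW cert upto_1015 ju_169_1 500 len_169_1 chk_169_1

theorem upto_1017 : ∀ j, j < 508500 → ∃ r, checkFactW cert j r = true :=
  upto_stepW cert upto_1016 ju_169_2 500 len_169_2 chk_169_2

theorem upto_1018 : ∀ j, j < 509000 → ∃ r, checkFactW cert j r = true :=
  upto_stepW cert upto_1017 ju_169_3 500 len_169_3 chk_169_3

theorem upto_1019 : ∀ j, j < 509500 → ∃ r, checkFactW cert j r = true :=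
  upto_stepW cert upto_1018 ju_169_4 500 len_169_4 chk_169_4

theorem upto_1020 : ∀ j, j < 510000 → ∃ r, checkFactW cert j r = true :=
  upto_stepW cert upto_1019 ju_169_5 500 len_169_5 chk_169_5

theorem upto_1021 : ∀ j, j < 510500 → ∃ r, checkFactW cert j r = true :=
  upto_stepW cert upto_1020 ju_170_0 500 len_170_0 chk_170_0

theorem upto_1022 : ∀ j, j < 511000 → ∃ r, checkFactW cert j r = true :=
  upto_stepW cert upto_1021 ju_170_1 500 len_170_1 chk_170_1

theorem upto_1023 : ∀ j, j < 511500 → ∃ r, checkFactW cert j r = true :=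
  upto_stepW cert upto_1022 ju_170_2 500 len_170_2 chk_170_2

theorem upto_1024 : ∀ j, j < 512000 → ∃ r, checkFactW cert j r = true :=
  upto_stepW cert upto_1023 ju_170_3 500 len_170_3 chk_170_3

theorem upto_1025 : ∀ j, j < 512500 → ∃ r, checkFactW cert j r = true :=
  upto_stepW cert upto_1024 ju_170_4 500 len_170_4 chk_170_4

theorem upto_1026 : ∀ j, j < 513000 → ∃ r, checkFactW cert j r = true :=
  upto_stepW cert upto_1025 ju_170_5 500 len_170_5 chk_170_5

theorem upto_1027 : ∀ j, j < 513500 → ∃ r, checkFactW cert j r = true :=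
  upto_stepW cert upto_1026 ju_171_0 500 len_171_0 chk_171_0

theorem upto_1028 : ∀ j, j < 514000 → ∃ r, checkFactW cert j r = true :=
  upto_stepW cert upto_1027 ju_171_1 500 len_171_1 chk_171_1

theorem upto_1029 : ∀ j, j < 514500 → ∃ r, checkFactW cert j r = true :=
  upto_stepW cert upto_1028 ju_171_2 500 len_171_2 chk_171_2

theorem upto_1030 : ∀ j, j < 515000 → ∃ r, checkFactW cert j r = true :=
  upto_stepW cert upto_1029 ju_171_3 500 len_171_3 chk_171_3

theorem upto_1031 : ∀ j, j < 515500 → ∃ r, checkFactW cert j r = true :=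
  upto_stepW cert upto_1030 ju_171_4 500 len_171_4 chk_171_4

theorem upto_1032 : ∀ j, j < 516000 → ∃ r, checkFactW cert j r = true :=
  upto_stepW cert upto_1031 ju_171_5 500 len_171_5 chk_171_5

theorem upto_1033 : ∀ j, j < 516500 → ∃ r, checkFactW cert j r = true :=
  upto_stepW cert upto_1032 ju_172_0 500 len_172_0 chk_172_0

theorem upto_1034 : ∀ j, j < 517000 → ∃ r, checkFactW cert j r = true :=
  upto_stepW cert upto_1033 ju_172_1 500 len_172_1 chk_172_1

theorem upto_1035 : ∀ j, j < 517500 → ∃ r, checkFactW cert j r = true :=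
  upto_stepW cert upto_1034 ju_172_2 500 len_172_2 chk_172_2

theorem upto_1036 : ∀ j, j < 518000 → ∃ r, checkFactW cert j r = true :=
  upto_stepW cert upto_1035 ju_172_3 500 len_172_3 chk_172_3

theorem upto_1037 : ∀ j, j < 518500 → ∃ r, checkFactW cert j r = true :=
  upto_stepW cert upto_1036 ju_172_4 500 len_172_4 chk_172_4

theorem upto_1038 : ∀ j, j < 519000 → ∃ r, checkFactW cert j r = true :=
  upto_stepW cert upto_1037 ju_172_5 500 len_172_5 chk_172_5

theorem upto_1039 : ∀ j, j < 519500 → ∃ r, checkFactW cert j r = true :=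
  upto_stepW cert upto_1038 ju_173_0 500 len_173_0 chk_173_0

theorem upto_1040 : ∀ j, j < 520000 → ∃ r, checkFactW cert j r = true :=
  upto_stepW cert upto_1039 ju_173_1 500 len_173_1 chk_173_1

theorem upto_1041 : ∀ j, j < 520500 → ∃ r, checkFactW cert j r = true :=
  upto_stepW cert upto_1040 ju_173_2 500 len_173_2 chk_173_2

theorem upto_1042 : ∀ j, j < 521000 → ∃ r, checkFactW cert j r = true :=
  upto_stepW cert upto_1041 ju_173_3 500 len_173_3 chk_173_3

theorem upto_1043 : ∀ j, j < 521500 → ∃ r, checkFactW cert j r = true :=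
  upto_stepW cert upto_1042 ju_173_4 500 len_173_4 chk_173_4

theorem upto_1044 : ∀ j, j < 522000 → ∃ r, checkFactW cert j r = true :=
  upto_stepW cert upto_1043 ju_173_5 500 len_173_5 chk_173_5

theorem upto_1045 : ∀ j, j < 522500 → ∃ r, checkFactW cert j r = true :=
  upto_stepW cert upto_1044 ju_174_0 500 len_174_0 chk_174_0

theorem upto_1046 : ∀ j, j < 522675 → ∃ r, checkFactW cert j r = true :=
  upto_stepW cert upto_1045 ju_174_1 175 len_174_1 chk_174_1

theorem hchk : ∀ j, j < cert.nf → ∃ r, checkFactW cert j r = true := upto_1046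

theorem rowsto_0 : ∀ n, n < 0 → ∀ x, x < cert.k → tabEntryOKW cert tab n x = true :=
  fun n hn => absurd hn (by omega)

theorem rowsto_1 : ∀ n, n < 1024 → ∀ x, x < cert.k → tabEntryOKW cert tab n x = true :=
  rows_stepW cert tab rowsto_0 1024 rows_0

theorem rowsto_2 : ∀ n, n < 2048 → ∀ x, x < cert.k → tabEntryOKW cert tab n x = true :=
  rows_stepW cert tab rowsto_1 1024 rows_1

theorem rowsto_3 : ∀ n, n < 3072 → ∀ x, x < cert.k → tabEntryOKW cert tab n x = true :=
  rows_stepW cert tab rowsto_2 1024 rows_2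

theorem rowsto_4 : ∀ n, n < 4096 → ∀ x, x < cert.k → tabEntryOKW cert tab n x = true :=
  rows_stepW cert tab rowsto_3 1024 rows_3

theorem rowsto_5 : ∀ n, n < 5120 → ∀ x, x < cert.k → tabEntryOKW cert tab n x = true :=
  rows_stepW cert tab rowsto_4 1024 rows_4

theorem rowsto_6 : ∀ n, n < 6144 → ∀ x, x < cert.k → tabEntryOKW cert tab n x = true :=
  rows_stepW cert tab rowsto_5 1024 rows_5

theorem rowsto_7 : ∀ n, n < 7168 → ∀ x, x < cert.k → tabEntryOKW cert tab n x = true :=
  rows_stepW cert tab rowsto_6 1024 rows_6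

theorem rowsto_8 : ∀ n, n < 8192 → ∀ x, x < cert.k → tabEntryOKW cert tab n x = true :=
  rows_stepW cert tab rowsto_7 1024 rows_7

theorem rowsto_9 : ∀ n, n < 9216 → ∀ x, x < cert.k → tabEntryOKW cert tab n x = true :=
  rows_stepW cert tab rowsto_8 1024 rows_8

theorem rowsto_10 : ∀ n, n < 10240 → ∀ x, x < cert.k → tabEntryOKW cert tab n x = true :=
  rows_stepW cert tab rowsto_9 1024 rows_9

theorem rowsto_11 : ∀ n, n < 11264 → ∀ x, x < cert.k → tabEntryOKW cert tab n x = true :=
  rows_stepW cert tab rowsto_10 1024 rows_10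

theorem rowsto_12 : ∀ n, n < 12288 → ∀ x, x < cert.k → tabEntryOKW cert tab n x = true :=
  rows_stepW cert tab rowsto_11 1024 rows_11

theorem rowsto_13 : ∀ n, n < 13312 → ∀ x, x < cert.k → tabEntryOKW cert tab n x = true :=
  rows_stepW cert tab rowsto_12 1024 rows_12

theorem rowsto_14 : ∀ n, n < 14336 → ∀ x, x < cert.k → tabEntryOKW cert tab n x = true :=
  rows_stepW cert tab rowsto_13 1024 rows_13

theorem rowsto_15 : ∀ n, n < 15360 → ∀ x, x < cert.k → tabEntryOKW cert tab n x = true :=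
  rows_stepW cert tab rowsto_14 1024 rows_14

theorem rowsto_16 : ∀ n, n < 16384 → ∀ x, x < cert.k → tabEntryOKW cert tab n x = true :=
  rows_stepW cert tab rowsto_15 1024 rows_15

theorem rowsto_17 : ∀ n, n < 17408 → ∀ x, x < cert.k → tabEntryOKW cert tab n x = true :=
  rows_stepW cert tab rowsto_16 1024 rows_16

theorem rowsto_18 : ∀ n, n < 18432 → ∀ x, x < cert.k → tabEntryOKW cert tab n x = true :=
  rows_stepW cert tab rowsto_17 1024 rows_17

theorem rowsto_19 : ∀ n, n < 19456 → ∀ x, x < cert.k → tabEntryOKW cert tab n x = true :=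
  rows_stepW cert tab rowsto_18 1024 rows_18

theorem rowsto_20 : ∀ n, n < 20480 → ∀ x, x < cert.k → tabEntryOKW cert tab n x = true :=
  rows_stepW cert tab rowsto_19 1024 rows_19

theorem rowsto_21 : ∀ n, n < 21504 → ∀ x, x < cert.k → tabEntryOKW cert tab n x = true :=
  rows_stepW cert tab rowsto_20 1024 rows_20

theorem rowsto_22 : ∀ n, n < 22528 → ∀ x, x < cert.k → tabEntryOKW cert tab n x = true :=
  rows_stepW cert tab rowsto_21 1024 rows_21

theorem rowsto_23 : ∀ n, n < 23552 → ∀ x, x < cert.k → tabEntryOKW cert tab n x = true :=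
  rows_stepW cert tab rowsto_22 1024 rows_22

theorem rowsto_24 : ∀ n, n < 24576 → ∀ x, x < cert.k → tabEntryOKW cert tab n x = true :=
  rows_stepW cert tab rowsto_23 1024 rows_23

theorem rowsto_25 : ∀ n, n < 25600 → ∀ x, x < cert.k → tabEntryOKW cert tab n x = true :=
  rows_stepW cert tab rowsto_24 1024 rows_24

theorem rowsto_26 : ∀ n, n < 26624 → ∀ x, x < cert.k → tabEntryOKW cert tab n x = true :=
  rows_stepW cert tab rowsto_25 1024 rows_25

theorem rowsto_27 : ∀ n, n < 27648 → ∀ x, x < cert.k → tabEntryOKW cert tab n x = true :=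
  rows_stepW cert tab rowsto_26 1024 rows_26

theorem rowsto_28 : ∀ n, n < 28672 → ∀ x, x < cert.k → tabEntryOKW cert tab n x = true :=
  rows_stepW cert tab rowsto_27 1024 rows_27

theorem rowsto_29 : ∀ n, n < 29696 → ∀ x, x < cert.k → tabEntryOKW cert tab n x = true :=
  rows_stepW cert tab rowsto_28 1024 rows_28

theorem rowsto_30 : ∀ n, n < 30720 → ∀ x, x < cert.k → tabEntryOKW cert tab n x = true :=
  rows_stepW cert tab rowsto_29 1024 rows_29

theorem rowsto_31 : ∀ n, n < 31744 → ∀ x, x < cert.k → tabEntryOKW cert tab n x = true :=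
  rows_stepW cert tab rowsto_30 1024 rows_30

theorem rowsto_32 : ∀ n, n < 32768 → ∀ x, x < cert.k → tabEntryOKW cert tab n x = true :=
  rows_stepW cert tab rowsto_31 1024 rows_31

theorem rowsto_33 : ∀ n, n < 33792 → ∀ x, x < cert.k → tabEntryOKW cert tab n x = true :=
  rows_stepW cert tab rowsto_32 1024 rows_32

theorem rowsto_34 : ∀ n, n < 34816 → ∀ x, x < cert.k → tabEntryOKW cert tab n x = true :=
  rows_stepW cert tab rowsto_33 1024 rows_33

theorem rowsto_35 : ∀ n, n < 35840 → ∀ x, x < cert.k → tabEntryOKW cert tab n x = true :=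
  rows_stepW cert tab rowsto_34 1024 rows_34

theorem rowsto_36 : ∀ n, n < 36864 → ∀ x, x < cert.k → tabEntryOKW cert tab n x = true :=
  rows_stepW cert tab rowsto_35 1024 rows_35

theorem rowsto_37 : ∀ n, n < 37888 → ∀ x, x < cert.k → tabEntryOKW cert tab n x = true :=
  rows_stepW cert tab rowsto_36 1024 rows_36

theorem rowsto_38 : ∀ n, n < 38912 → ∀ x, x < cert.k → tabEntryOKW cert tab n x = true :=
  rows_stepW cert tab rowsto_37 1024 rows_37

theorem rowsto_39 : ∀ n, n < 39936 → ∀ x, x < cert.k → tabEntryOKW cert tab n x = true :=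
  rows_stepW cert tab rowsto_38 1024 rows_38

theorem rowsto_40 : ∀ n, n < 40960 → ∀ x, x < cert.k → tabEntryOKW cert tab n x = true :=
  rows_stepW cert tab rowsto_39 1024 rows_39

theorem rowsto_41 : ∀ n, n < 41984 → ∀ x, x < cert.k → tabEntryOKW cert tab n x = true :=
  rows_stepW cert tab rowsto_40 1024 rows_40

theorem rowsto_42 : ∀ n, n < 43008 → ∀ x, x < cert.k → tabEntryOKW cert tab n x = true :=
  rows_stepW cert tab rowsto_41 1024 rows_41

theorem rowsto_43 : ∀ n, n < 44032 → ∀ x, x < cert.k → tabEntryOKW cert tab n x = true :=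
  rows_stepW cert tab rowsto_42 1024 rows_42

theorem rowsto_44 : ∀ n, n < 45056 → ∀ x, x < cert.k → tabEntryOKW cert tab n x = true :=
  rows_stepW cert tab rowsto_43 1024 rows_43

theorem rowsto_45 : ∀ n, n < 46080 → ∀ x, x < cert.k → tabEntryOKW cert tab n x = true :=
  rows_stepW cert tab rowsto_44 1024 rows_44

theorem rowsto_46 : ∀ n, n < 47104 → ∀ x, x < cert.k → tabEntryOKW cert tab n x = true :=
  rows_stepW cert tab rowsto_45 1024 rows_45

theorem rowsto_47 : ∀ n, n < 48128 → ∀ x, x < cert.k → tabEntryOKW cert tab n x = true :=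
  rows_stepW cert tab rowsto_46 1024 rows_46

theorem rowsto_48 : ∀ n, n < 49152 → ∀ x, x < cert.k → tabEntryOKW cert tab n x = true :=
  rows_stepW cert tab rowsto_47 1024 rows_47

theorem rowsto_49 : ∀ n, n < 50176 → ∀ x, x < cert.k → tabEntryOKW cert tab n x = true :=
  rows_stepW cert tab rowsto_48 1024 rows_48

theorem rowsto_50 : ∀ n, n < 51200 → ∀ x, x < cert.k → tabEntryOKW cert tab n x = true :=
  rows_stepW cert tab rowsto_49 1024 rows_49

theorem rowsto_51 : ∀ n, n < 52224 → ∀ x, x < cert.k → tabEntryOKW cert tab n x = true :=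
  rows_stepW cert tab rowsto_50 1024 rows_50

theorem rowsto_52 : ∀ n, n < 53248 → ∀ x, x < cert.k → tabEntryOKW cert tab n x = true :=
  rows_stepW cert tab rowsto_51 1024 rows_51

theorem rowsto_53 : ∀ n, n < 54272 → ∀ x, x < cert.k → tabEntryOKW cert tab n x = true :=
  rows_stepW cert tab rowsto_52 1024 rows_52

theorem rowsto_54 : ∀ n, n < 55296 → ∀ x, x < cert.k → tabEntryOKW cert tab n x = true :=
  rows_stepW cert tab rowsto_53 1024 rows_53

theorem rowsto_55 : ∀ n, n < 56320 → ∀ x, x < cert.k → tabEntryOKW cert tab n x = true :=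
  rows_stepW cert tab rowsto_54 1024 rows_54

theorem rowsto_56 : ∀ n, n < 57344 → ∀ x, x < cert.k → tabEntryOKW cert tab n x = true :=
  rows_stepW cert tab rowsto_55 1024 rows_55

theorem rowsto_57 : ∀ n, n < 58368 → ∀ x, x < cert.k → tabEntryOKW cert tab n x = true :=
  rows_stepW cert tab rowsto_56 1024 rows_56

theorem rowsto_58 : ∀ n, n < 59392 → ∀ x, x < cert.k → tabEntryOKW cert tab n x = true :=
  rows_stepW cert tab rowsto_57 1024 rows_57

theorem rowsto_59 : ∀ n, n < 60416 → ∀ x, x < cert.k → tabEntryOKW cert tab n x = true :=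
  rows_stepW cert tab rowsto_58 1024 rows_58

theorem rowsto_60 : ∀ n, n < 61440 → ∀ x, x < cert.k → tabEntryOKW cert tab n x = true :=
  rows_stepW cert tab rowsto_59 1024 rows_59

theorem rowsto_61 : ∀ n, n < 62464 → ∀ x, x < cert.k → tabEntryOKW cert tab n x = true :=
  rows_stepW cert tab rowsto_60 1024 rows_60

theorem rowsto_62 : ∀ n, n < 63488 → ∀ x, x < cert.k → tabEntryOKW cert tab n x = true :=
  rows_stepW cert tab rowsto_61 1024 rows_61

theorem rowsto_63 : ∀ n, n < 64512 → ∀ x, x < cert.k → tabEntryOKW cert tab n x = true :=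
  rows_stepW cert tab rowsto_62 1024 rows_62

theorem rowsto_64 : ∀ n, n < 65536 → ∀ x, x < cert.k → tabEntryOKW cert tab n x = true :=
  rows_stepW cert tab rowsto_63 1024 rows_63

theorem rowsto_65 : ∀ n, n < 66560 → ∀ x, x < cert.k → tabEntryOKW cert tab n x = true :=
  rows_stepW cert tab rowsto_64 1024 rows_64

theorem rowsto_66 : ∀ n, n < 67584 → ∀ x, x < cert.k → tabEntryOKW cert tab n x = true :=
  rows_stepW cert tab rowsto_65 1024 rows_65

theorem rowsto_67 : ∀ n, n < 68608 → ∀ x, x < cert.k → tabEntryOKW cert tab n x = true :=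
  rows_stepW cert tab rowsto_66 1024 rows_66

theorem rowsto_68 : ∀ n, n < 69632 → ∀ x, x < cert.k → tabEntryOKW cert tab n x = true :=
  rows_stepW cert tab rowsto_67 1024 rows_67

theorem rowsto_69 : ∀ n, n < 70656 → ∀ x, x < cert.k → tabEntryOKW cert tab n x = true :=
  rows_stepW cert tab rowsto_68 1024 rows_68

theorem rowsto_70 : ∀ n, n < 71680 → ∀ x, x < cert.k → tabEntryOKW cert tab n x = true :=
  rows_stepW cert tab rowsto_69 1024 rows_69

theorem rowsto_71 : ∀ n, n < 72704 → ∀ x, x < cert.k → tabEntryOKW cert tab n x = true :=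
  rows_stepW cert tab rowsto_70 1024 rows_70

theorem rowsto_72 : ∀ n, n < 73728 → ∀ x, x < cert.k → tabEntryOKW cert tab n x = true :=
  rows_stepW cert tab rowsto_71 1024 rows_71

theorem rowsto_73 : ∀ n, n < 74752 → ∀ x, x < cert.k → tabEntryOKW cert tab n x = true :=
  rows_stepW cert tab rowsto_72 1024 rows_72

theorem rowsto_74 : ∀ n, n < 75776 → ∀ x, x < cert.k → tabEntryOKW cert tab n x = true :=
  rows_stepW cert tab rowsto_73 1024 rows_73

theorem rowsto_75 : ∀ n, n < 76800 → ∀ x, x < cert.k → tabEntryOKW cert tab n x = true :=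
  rows_stepW cert tab rowsto_74 1024 rows_74

theorem rowsto_76 : ∀ n, n < 77824 → ∀ x, x < cert.k → tabEntryOKW cert tab n x = true :=
  rows_stepW cert tab rowsto_75 1024 rows_75

theorem rowsto_77 : ∀ n, n < 78848 → ∀ x, x < cert.k → tabEntryOKW cert tab n x = true :=
  rows_stepW cert tab rowsto_76 1024 rows_76

theorem rowsto_78 : ∀ n, n < 79872 → ∀ x, x < cert.k → tabEntryOKW cert tab n x = true :=
  rows_stepW cert tab rowsto_77 1024 rows_77

theorem rowsto_79 : ∀ n, n < 80896 → ∀ x, x < cert.k → tabEntryOKW cert tab n x = true :=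
  rows_stepW cert tab rowsto_78 1024 rows_78

theorem rowsto_80 : ∀ n, n < 81920 → ∀ x, x < cert.k → tabEntryOKW cert tab n x = true :=
  rows_stepW cert tab rowsto_79 1024 rows_79

theorem rowsto_81 : ∀ n, n < 82944 → ∀ x, x < cert.k → tabEntryOKW cert tab n x = true :=
  rows_stepW cert tab rowsto_80 1024 rows_80

theorem rowsto_82 : ∀ n, n < 83968 → ∀ x, x < cert.k → tabEntryOKW cert tab n x = true :=
  rows_stepW cert tab rowsto_81 1024 rows_81

theorem rowsto_83 : ∀ n, n < 84992 → ∀ x, x < cert.k → tabEntryOKW cert tab n x = true :=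
  rows_stepW cert tab rowsto_82 1024 rows_82

theorem rowsto_84 : ∀ n, n < 86016 → ∀ x, x < cert.k → tabEntryOKW cert tab n x = true :=
  rows_stepW cert tab rowsto_83 1024 rows_83

theorem rowsto_85 : ∀ n, n < 87040 → ∀ x, x < cert.k → tabEntryOKW cert tab n x = true :=
  rows_stepW cert tab rowsto_84 1024 rows_84

theorem rowsto_86 : ∀ n, n < 88064 → ∀ x, x < cert.k → tabEntryOKW cert tab n x = true :=
  rows_stepW cert tab rowsto_85 1024 rows_85

theorem rowsto_87 : ∀ n, n < 89088 → ∀ x, x < cert.k → tabEntryOKW cert tab n x = true :=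
  rows_stepW cert tab rowsto_86 1024 rows_86

theorem rowsto_88 : ∀ n, n < 90112 → ∀ x, x < cert.k → tabEntryOKW cert tab n x = true :=
  rows_stepW cert tab rowsto_87 1024 rows_87

theorem rowsto_89 : ∀ n, n < 91136 → ∀ x, x < cert.k → tabEntryOKW cert tab n x = true :=
  rows_stepW cert tab rowsto_88 1024 rows_88

theorem rowsto_90 : ∀ n, n < 92160 → ∀ x, x < cert.k → tabEntryOKW cert tab n x = true :=
  rows_stepW cert tab rowsto_89 1024 rows_89

theorem rowsto_91 : ∀ n, n < 93184 → ∀ x, x < cert.k → tabEntryOKW cert tab n x = true :=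
  rows_stepW cert tab rowsto_90 1024 rows_90

theorem rowsto_92 : ∀ n, n < 94208 → ∀ x, x < cert.k → tabEntryOKW cert tab n x = true :=
  rows_stepW cert tab rowsto_91 1024 rows_91

theorem rowsto_93 : ∀ n, n < 95232 → ∀ x, x < cert.k → tabEntryOKW cert tab n x = true :=
  rows_stepW cert tab rowsto_92 1024 rows_92

theorem rowsto_94 : ∀ n, n < 96256 → ∀ x, x < cert.k → tabEntryOKW cert tab n x = true :=
  rows_stepW cert tab rowsto_93 1024 rows_93

theorem rowsto_95 : ∀ n, n < 97280 → ∀ x, x < cert.k → tabEntryOKW cert tab n x = true :=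
  rows_stepW cert tab rowsto_94 1024 rows_94

theorem rowsto_96 : ∀ n, n < 98280 → ∀ x, x < cert.k → tabEntryOKW cert tab n x = true :=
  rows_stepW cert tab rowsto_95 1000 rows_95

theorem hT : ∀ n, n < tab.N → ∀ x, x < cert.k → tabEntryOKW cert tab n x = true := rowsto_96

theorem hjs : ∀ j ∈ js, relFactOKW cert j = true := by decide +kernel

theorem h0 : ordOKW cert js cs0 3 2 = true := by decide +kernel

theorem hgs : ∀ i, i < 5 → genOKW cert js (css.getD i []) i 3 (as_.getD i 0) = true := by decide +kernel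

end Cfsg.Agent.Helper3.Co1Z
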