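import Mathlib
import Cfsg.Agent.Helper5.LTCG

/-!
# Labelled Todd–Coxeter certificates with wide fields

A copy of the checker of `Cfsg.Agent.Helper5.LTCB`–`LTCE` with wider packed fields, for certificates
with more than 15 letters and more than a million vertices: a packed fact holds the source vertex
(24 bits), the letter plus one (8 bits), the target vertex (24 bits) and the label; a justification
record holds the gap flag (1 bit), the loop word (12 bits), the position (12 bits), the base vertex
(24 bits), the numbers of forward and backward steps (12 bits each) and then the steps (28 bits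
each); a table entry holds a step (28 bits) and the position of the target.  The structures `Cert`,
`Tab` and `Hyp` and the lemmas that do not depend on the packing are those of `Helper5.LTC`.
-/

set_option autoImplicit false

namespace Cfsg.Agent.Helper3.LTCW

open Cfsg.Agent.Helper5.LTC

/-- source vertex of a packed fact. -/
def fAW (n : ℕ) : ℕ := Nat.mod n 16777216

/-- letter (plus one) of a packed fact, `0` for an alias. -/
def fMW (n : ℕ) : ℕ := Nat.mod (Nat.div n 16777216) 256

/-- target vertex of a packed fact. -/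
def fBW (n : ℕ) : ℕ := Nat.mod (Nat.div n 4294967296) 16777216

/-- label of a packed fact. -/
def fLW (n : ℕ) : L8 := L8.dec (Nat.div n 72057594037927936)

/-- one stepW of a walkW: use fact `s / 2` forwards (`s` even) or backwards (`s` odd). -/
def stepW (C : Cert) (j s cur : ℕ) (lab : L8) (letters : List ℕ) : Option (ℕ × L8 × List ℕ) :=
  frc (Nat.div s 2) fun j' =>
  bif Nat.blt j' j then
    frc (C.fa j') fun f =>
    bif Nat.beq (Nat.mod s 2) 0 then
      bif Nat.beq (fAW f) cur then
        (match fMW f, letters with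
         | 0, letters => some (fBW f, L8.add lab (fLW f), letters)
         | m + 1, x :: rest =>
           bif Nat.beq x m then some (fBW f, L8.add lab (fLW f), rest) else none
         | _ + 1, [] => none)
      else none
    else
      bif Nat.beq (fBW f) cur then
        (match fMW f, letters with
         | 0, letters => some (fAW f, L8.add lab (L8.neg C.E (fLW f)), letters)
         | m + 1, x :: rest =>
           bif Nat.blt m C.k && Nat.beq x (C.ι m) then
             some (fAW f, L8.add lab (L8.neg C.E (fLW f)), rest) else none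
         | _ + 1, [] => none)
      else none
  else none

/-- a walkW along a list of steps, consuming the letters. -/
def walkW (C : Cert) (j : ℕ) : List ℕ → ℕ → L8 → List ℕ → Option (ℕ × L8)
  | [], cur, lab, letters =>
    (match letters with
     | [] => some (cur, lab)
     | _ :: _ => none)
  | s :: ss, cur, lab, letters =>
    (match stepW C j s cur lab letters with
     | none => none
     | some (cur', lab', letters') => walkW C j ss cur' lab' letters')

/-- unpack `c` digits of 28 bits. -/
def unpkW : ℕ → ℕ → List ℕ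
  | 0, _ => []
  | c + 1, n => Nat.mod n 268435456 :: unpkW c (Nat.div n 268435456)

/-- check a fact justified by a loop. The record `r` holds, from the low bits: the gap flag (1 bit),
the loop word (10 bits), the position (10 bits), the base vertex (20 bits), the numbers of forward and
backward steps (12 bits each), and then the steps (24 bits each). -/
def checkLoopW (C : Cert) (j r : ℕ) : Bool :=
  frc (Nat.mod r 2) fun g =>
  frc (Nat.mod (Nat.div r 2) 4096) fun wi =>
  frc (Nat.mod (Nat.div r 8192) 4096) fun i =>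
  frc (Nat.mod (Nat.div r 33554432) 16777216) fun c =>
  frc (Nat.mod (Nat.div r 562949953421312) 4096) fun nF =>
  frc (Nat.mod (Nat.div r 2305843009213693952) 4096) fun nB =>
  frc (Nat.div r 9444732965739290427392) fun body =>
  loopOK C wi c && Nat.ble g 1 && Nat.ble (Nat.add i g) (C.W wi).length &&
  (match walkW C j (unpkW nF body) c L8.zero ((C.W wi).take i) with
   | none => false
   | some (v, α) =>
     (match walkW C j (unpkW nB (Nat.div body (Nat.pow 268435456 nF))) c L8.zero
        (winv C.ι ((C.W wi).drop (Nat.add i g))) with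
      | none => false
      | some (b, β) =>
        frc (C.fa j) fun f =>
        Nat.beq (fAW f) v && Nat.beq (fBW f) b &&
        Nat.beq (fMW f) (bif Nat.beq g 0 then 0 else Nat.succ ((C.W wi).getD i 0)) &&
        L8.beq (fLW f) (L8.red C.E (L8.add (L8.add β (C.δ wi)) (L8.neg C.E α)))))

/-- check a defining fact. -/
def checkDefW (C : Cert) (j : ℕ) : Bool :=
  frc (C.fa j) fun f =>
  frc (fBW f) fun b =>
  Nat.blt 0 b && Nat.blt (C.par b) b && Nat.beq (fAW f) (C.par b) &&
    Nat.beq (fMW f) (Nat.succ (C.gen b)) && L8.beq (fLW f) L8.zero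

/-- check fact `j` with the justification record `r`. -/
def checkFactW (C : Cert) (j r : ℕ) : Bool :=
  bif Nat.beq (Nat.mod r 2) 0 then checkDefW C j else checkLoopW C j (Nat.div r 2)

/-- check a list of consecutive facts. -/
def checkListW (C : Cert) : ℕ → List ℕ → Bool
  | _, [] => true
  | j, r :: rs => checkFactW C j r && checkListW C (Nat.succ j) rs

theorem checkListW_spec (C : Cert) : ∀ (l : List ℕ) (lo : ℕ), checkListW C lo l = true →
    ∀ j, lo ≤ j → j < lo + l.length → ∃ r, checkFactW C j r = true
  | [], lo, _, j, h1, h2 => by simp at h2; omega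
  | r :: rs, lo, h, j, h1, h2 => by
    unfold checkListW at h
    rw [Bool.and_eq_true] at h
    rcases Nat.eq_or_lt_of_le h1 with h3 | h3
    · exact ⟨r, h3 ▸ h.1⟩
    · refine checkListW_spec C rs (lo + 1) h.2 j h3 ?_
      simp only [List.length_cons] at h2
      omega


variable {P : Type*} [Group P]

variable (C : Cert) (K : Subgroup P) (g z : ℕ → P)

/-- fact `j` holds. -/
def HoldsW (j : ℕ) : Prop :=
  Rel K (wrep C.par C.gen g (fAW (C.fa j)) * mval g (fMW (C.fa j)))
    (wrep C.par C.gen g (fBW (C.fa j)) * phi z (fLW (C.fa j)))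

variable {C K g z}

theorem step_soundW (hH : Hyp C K g z) {j : ℕ} (hI : ∀ j', j' < j → HoldsW C K g z j')
    {s cur : ℕ} {lab : L8} {letters : List ℕ} {p : P} {cur' : ℕ} {lab' : L8} {letters' : List ℕ}
    (hp : Rel K p (wrep C.par C.gen g cur * phi z lab))
    (hs : stepW C j s cur lab letters = some (cur', lab', letters')) :
    ∃ pre, letters = pre ++ letters' ∧
      Rel K (p * lprod g pre) (wrep C.par C.gen g cur' * phi z lab') := by
  unfold stepW at hs
  rw [frc_eq] at hs
  cases hj : Nat.blt (Nat.div s 2) j with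
  | false => rw [hj] at hs; exact absurd hs (by simp)
  | true =>
    rw [hj, cond_true, frc_eq] at hs
    have hj' : Nat.div s 2 < j := by rwa [Nat.blt_eq] at hj
    have hF := hI _ hj'
    unfold HoldsW at hF
    generalize C.fa (Nat.div s 2) = f at hs hF
    cases hd : Nat.beq (Nat.mod s 2) 0 with
    | true =>
      rw [hd, cond_true] at hs
      cases ha : Nat.beq (fAW f) cur with
      | false => rw [ha] at hs; exact absurd hs (by simp)
      | true =>
        rw [ha, cond_true] at hs
        have ha' : fAW f = cur := Nat.eq_of_beq_eq_true ha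
        rw [ha'] at hF
        have key := fwd_key hH hp hF
        generalize fMW f = m at hs key
        match m, letters, hs with
        | 0, letters, hs =>
          simp only [Option.some.injEq, Prod.mk.injEq] at hs
          obtain ⟨rfl, rfl, rfl⟩ := hs
          refine ⟨[], rfl, ?_⟩
          rw [lprod_nil]
          exact key
        | m + 1, x :: rest, hs =>
          simp only at hs
          cases hx : Nat.beq x m with
          | false => rw [hx] at hs; exact absurd hs (by simp)
          | true =>
            rw [hx, cond_true] at hs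
            simp only [Option.some.injEq, Prod.mk.injEq] at hs
            obtain ⟨rfl, rfl, rfl⟩ := hs
            have hx' : x = m := Nat.eq_of_beq_eq_true hx
            refine ⟨[x], rfl, ?_⟩
            rw [lprod_cons, lprod_nil, mul_one, hx']
            exact key
        | m + 1, [], hs => exact absurd hs (by simp)
    | false =>
      rw [hd, cond_false] at hs
      cases ha : Nat.beq (fBW f) cur with
      | false => rw [ha] at hs; exact absurd hs (by simp)
      | true =>
        rw [ha, cond_true] at hs
        have ha' : fBW f = cur := Nat.eq_of_beq_eq_true ha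
        rw [ha'] at hF
        have key := rev_key hH hp hF
        generalize fMW f = m at hs key
        match m, letters, hs with
        | 0, letters, hs =>
          simp only [Option.some.injEq, Prod.mk.injEq] at hs
          obtain ⟨rfl, rfl, rfl⟩ := hs
          refine ⟨[], rfl, ?_⟩
          rw [lprod_nil]
          simpa [mval] using key
        | m + 1, x :: rest, hs =>
          simp only at hs
          cases hx : (Nat.blt m C.k && Nat.beq x (C.ι m)) with
          | false => rw [hx] at hs; exact absurd hs (by simp)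
          | true =>
            rw [hx, cond_true] at hs
            simp only [Option.some.injEq, Prod.mk.injEq] at hs
            obtain ⟨rfl, rfl, rfl⟩ := hs
            rw [Bool.and_eq_true] at hx
            have hm : m < C.k := by
              have := hx.1
              rwa [Nat.blt_eq] at this
            have hx' : x = C.ι m := Nat.eq_of_beq_eq_true hx.2
            refine ⟨[x], rfl, ?_⟩
            rw [lprod_cons, lprod_nil, mul_one, hx', hH.hι m hm]
            exact key
        | m + 1, [], hs => exact absurd hs (by simp)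

theorem walk_soundW (hH : Hyp C K g z) {j : ℕ} (hI : ∀ j', j' < j → HoldsW C K g z j') :
    ∀ (steps : List ℕ) (cur : ℕ) (lab : L8) (letters : List ℕ) (p : P) (cur' : ℕ) (lab' : L8),
      Rel K p (wrep C.par C.gen g cur * phi z lab) →
      walkW C j steps cur lab letters = some (cur', lab') →
      Rel K (p * lprod g letters) (wrep C.par C.gen g cur' * phi z lab')
  | [], cur, lab, letters, p, cur', lab', hp, hw => by
    unfold walkW at hw
    match letters, hw with
    | [], hw =>
      simp only [Option.some.injEq, Prod.mk.injEq] at hw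
      obtain ⟨rfl, rfl⟩ := hw
      rw [lprod_nil, mul_one]
      exact hp
    | _ :: _, hw => exact absurd hw (by simp)
  | s :: ss, cur, lab, letters, p, cur', lab', hp, hw => by
    unfold walkW at hw
    cases hs : stepW C j s cur lab letters with
    | none => rw [hs] at hw; exact absurd hw (by simp)
    | some r =>
      obtain ⟨c1, l1, r1⟩ := r
      rw [hs] at hw
      simp only at hw
      obtain ⟨pre, rfl, h1⟩ := step_soundW hH hI hp hs
      have h2 := walk_soundW hH hI ss c1 l1 r1 _ cur' lab' h1 hw
      rwa [lprod_append, ← mul_assoc]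

theorem checkLoop_soundW (hH : Hyp C K g z) {j : ℕ} (hI : ∀ j', j' < j → HoldsW C K g z j')
    {r : ℕ} (h : checkLoopW C j r = true) : HoldsW C K g z j := by
  unfold checkLoopW at h
  simp only [frc_eq] at h
  generalize Nat.mod r 2 = g' at h
  generalize Nat.mod (Nat.div r 2) 4096 = wi at h
  generalize Nat.mod (Nat.div r 8192) 4096 = i at h
  generalize Nat.mod (Nat.div r 33554432) 16777216 = c at h
  generalize Nat.mod (Nat.div r 562949953421312) 4096 = nF at h
  generalize Nat.mod (Nat.div r 2305843009213693952) 4096 = nB at h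
  generalize Nat.div r 9444732965739290427392 = body at h
  rw [Bool.and_eq_true, Bool.and_eq_true, Bool.and_eq_true] at h
  obtain ⟨⟨⟨hl, hg⟩, hi⟩, h⟩ := h
  have hg' : g' ≤ 1 := by rwa [Nat.ble_eq] at hg
  have hi' : i + g' ≤ (C.W wi).length := by
    have := hi
    rwa [Nat.ble_eq] at this
  have hp0 : Rel K (wrep C.par C.gen g c) (wrep C.par C.gen g c * phi z L8.zero) := by
    rw [phi_zero, mul_one]
    exact rel_refl K _
  cases hw1 : walkW C j (unpkW nF body) c L8.zero ((C.W wi).take i) with
  | none => rw [hw1] at h; exact absurd h (by simp)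
  | some r1 =>
    obtain ⟨v, α⟩ := r1
    rw [hw1] at h
    simp only at h
    cases hw2 : walkW C j (unpkW nB (Nat.div body (Nat.pow 268435456 nF))) c L8.zero
        (winv C.ι ((C.W wi).drop (Nat.add i g'))) with
    | none => rw [hw2] at h; exact absurd h (by simp)
    | some r2 =>
      obtain ⟨b, β⟩ := r2
      rw [hw2] at h
      simp only at h
      rw [Bool.and_eq_true, Bool.and_eq_true, Bool.and_eq_true] at h
      obtain ⟨⟨⟨hA, hB⟩, hM⟩, hL⟩ := h
      have R1 := walk_soundW hH hI _ _ _ _ _ _ _ hp0 hw1
      have R2 := walk_soundW hH hI _ _ _ _ _ _ _ hp0 hw2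
      have hdl : ∀ x ∈ (C.W wi).drop (Nat.add i g'), x < C.k := fun x hx =>
        hH.hW wi x (List.mem_of_mem_drop hx)
      rw [lprod_winv hH _ hdl] at R2
      have R0 := loop_holds hH hl
      have hword := mid_eq (C.W wi) hg' hi'
      have e0 : lprod g (C.W wi) = lprod g ((C.W wi).take i) *
          mval g (bif Nat.beq g' 0 then 0 else Nat.succ ((C.W wi).getD i 0)) *
          lprod g ((C.W wi).drop (Nat.add i g')) := by
        conv_lhs => rw [hword]
        rw [lprod_append, lprod_append]
        congr 2
        cases Nat.beq g' 0 with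
        | true => rfl
        | false => simp [lprod, mval]
      rw [e0] at R0
      have key := loop_key hH R0 R1 R2
      unfold HoldsW
      rw [Nat.eq_of_beq_eq_true hA, Nat.eq_of_beq_eq_true hB, Nat.eq_of_beq_eq_true hM,
        L8.eq_of_beq hL]
      exact key

theorem checkDef_soundW {j : ℕ} (h : checkDefW C j = true) : HoldsW C K g z j := by
  unfold checkDefW at h
  simp only [frc_eq] at h
  rw [Bool.and_eq_true, Bool.and_eq_true, Bool.and_eq_true, Bool.and_eq_true] at h
  obtain ⟨⟨⟨⟨h0, h1⟩, h2⟩, h3⟩, h4⟩ := h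
  rw [Nat.blt_eq] at h0 h1
  unfold HoldsW
  rw [Nat.eq_of_beq_eq_true h2, Nat.eq_of_beq_eq_true h3, L8.eq_of_beq h4, phi_zero, mul_one,
    wrep_def C.par C.gen g ⟨h0, h1⟩]
  exact rel_refl K _

/-- **soundness of the labelled certificate**. -/
theorem all_holdW (hH : Hyp C K g z) (hchk : ∀ j, j < C.nf → ∃ r, checkFactW C j r = true) :
    ∀ j, j < C.nf → HoldsW C K g z j := by
  intro j
  induction j using Nat.strong_induction_on with
  | _ j ih =>
    intro hj
    obtain ⟨r, hr⟩ := hchk j hj
    unfold checkFactW at hr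
    cases hk : Nat.beq (Nat.mod r 2) 0 with
    | true =>
      rw [hk, cond_true] at hr
      exact checkDef_soundW hr
    | false =>
      rw [hk, cond_false] at hr
      exact checkLoop_soundW hH (fun j' hj' => ih j' hj' (by omega)) hr


/-- the entry `(n, x)` of the final table is justified by a fact. -/
def tabEntryOKW (C : Cert) (T : Tab) (n x : ℕ) : Bool :=
  frc (T.TB n x) fun e =>
  (match stepW C C.nf (Nat.mod e 268435456) (T.LV n) L8.zero [x] with
   | some (v', _, []) =>
     Nat.blt (Nat.div e 268435456) T.N && Nat.beq v' (T.LV (Nat.div e 268435456))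
   | _ => false)

/-- all entries of row `n`. -/
def tabRowOKW (C : Cert) (T : Tab) (n : ℕ) : ℕ → Bool
  | 0 => true
  | x + 1 => tabEntryOKW C T n x && tabRowOKW C T n x

theorem tabRowOKW_spec (C : Cert) (T : Tab) (n : ℕ) : ∀ k, tabRowOKW C T n k = true →
    ∀ x, x < k → tabEntryOKW C T n x = true
  | 0, _, x, hx => by omega
  | k + 1, h, x, hx => by
    unfold tabRowOKW at h
    rw [Bool.and_eq_true] at h
    rcases Nat.eq_or_lt_of_le (Nat.le_of_lt_succ hx) with h1 | h1
    · exact h1 ▸ h.1
    · exact tabRowOKW_spec C T n k h.2 x h1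

/-- all rows `lo ≤ n < lo + cnt`. -/
def tabRowsOKW (C : Cert) (T : Tab) : ℕ → ℕ → Bool
  | 0, _ => true
  | cnt + 1, lo => tabRowOKW C T lo C.k && tabRowsOKW C T cnt (Nat.succ lo)

theorem tabRowsOKW_spec (C : Cert) (T : Tab) : ∀ cnt lo, tabRowsOKW C T cnt lo = true →
    ∀ n, lo ≤ n → n < lo + cnt → tabRowOKW C T n C.k = true
  | 0, lo, _, n, h1, h2 => by omega
  | cnt + 1, lo, h, n, h1, h2 => by
    unfold tabRowsOKW at h
    rw [Bool.and_eq_true] at h
    rcases Nat.eq_or_lt_of_le h1 with h3 | h3
    · exact h3 ▸ h.1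
    · exact tabRowsOKW_spec C T cnt (lo + 1) h.2 n h3 (by omega)

variable {C : Cert} {K : Subgroup P} {g z : ℕ → P}

theorem entry_soundW (hH : Hyp C K g z) (hall : ∀ j, j < C.nf → HoldsW C K g z j) (T : Tab)
    {n x : ℕ} (h : tabEntryOKW C T n x = true) {p : P} {lab : L8}
    (hp : Rel K p (wrep C.par C.gen g (T.LV n) * phi z lab)) :
    ∃ n', n' < T.N ∧ ∃ lab', Rel K (p * g x) (wrep C.par C.gen g (T.LV n') * phi z lab') := by
  unfold tabEntryOKW at h
  rw [frc_eq] at h
  generalize T.TB n x = e at h
  cases hs : stepW C C.nf (Nat.mod e 268435456) (T.LV n) L8.zero [x] with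
  | none => rw [hs] at h; exact absurd h (by simp)
  | some r =>
    obtain ⟨v', l1, rest⟩ := r
    rw [hs] at h
    match rest, h, hs with
    | _ :: _, h, _ => exact absurd h (by simp)
    | [], h, hs =>
      simp only at h
      rw [Bool.and_eq_true] at h
      have hn' : Nat.div e 268435456 < T.N := by
        have := h.1
        rwa [Nat.blt_eq] at this
      have hv' : v' = T.LV (Nat.div e 268435456) := Nat.eq_of_beq_eq_true h.2
      -- strip the label
      have hp1 := rel_mul_right hp (phi z lab)⁻¹
      rw [mul_inv_cancel_right] at hp1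
      have hp2 : Rel K (p * (phi z lab)⁻¹)
          (wrep C.par C.gen g (T.LV n) * phi z L8.zero) := by
        rw [phi_zero, mul_one]
        exact hp1
      obtain ⟨pre, hpre, hR⟩ := step_soundW hH hall hp2 hs
      rw [List.append_nil] at hpre
      subst hpre
      rw [lprod_cons, lprod_nil, mul_one] at hR
      have hR2 := rel_phi hH hR lab
      refine ⟨_, hn', L8.add l1 lab, ?_⟩
      have e1 : p * (phi z lab)⁻¹ * g x * phi z lab = p * g x := by
        rw [mul_assoc, mul_assoc, phi_comm hH.hz lab (g x), ← mul_assoc (phi z lab)⁻¹,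
          inv_mul_cancel, one_mul]
      rw [e1, mul_assoc, ← phi_add hH.hz, hv'] at hR2
      exact hR2

/-- every word lies in one of the cosets `K * w (LV n) * phi lab`. -/
theorem coverW (hH : Hyp C K g z) (hall : ∀ j, j < C.nf → HoldsW C K g z j) (T : Tab)
    (hT0 : T.LV 0 = 0) (h0N : 0 < T.N)
    (hT : ∀ n, n < T.N → ∀ x, x < C.k → tabEntryOKW C T n x = true) (l : List ℕ) :
    (∀ c ∈ l, c < C.k) →
      ∃ n, n < T.N ∧ ∃ lab, Rel K (lprod g l) (wrep C.par C.gen g (T.LV n) * phi z lab) := by
  induction l using List.reverseRecOn with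
  | nil =>
    intro _
    refine ⟨0, h0N, L8.zero, ?_⟩
    rw [hT0, wrep_zero, phi_zero, lprod_nil, mul_one]
    exact rel_refl K _
  | append_singleton l x ih =>
    intro hl
    obtain ⟨n, hn, lab, hR⟩ := ih (fun c hc => hl c (List.mem_append_left _ hc))
    have hx : x < C.k := hl x (List.mem_append_right _ (List.mem_singleton_self x))
    obtain ⟨n', hn', lab', hR'⟩ := entry_soundW hH hall T (hT n hn x hx) hR
    refine ⟨n', hn', lab', ?_⟩
    rw [lprod_append, lprod_cons, lprod_nil, mul_one]
    exact hR'

/-- **the counting bound**. -/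
theorem card_leW (hH : Hyp C K g z) (hall : ∀ j, j < C.nf → HoldsW C K g z j) (T : Tab)
    (hT0 : T.LV 0 = 0) (h0N : 0 < T.N)
    (hT : ∀ n, n < T.N → ∀ x, x < C.k → tabEntryOKW C T n x = true)
    (hgen : ∀ p : P, ∃ l : List ℕ, (∀ c ∈ l, c < C.k) ∧ p = lprod g l)
    [Finite K] (z0 : P) (a : ℕ) (ha : 0 < a) (hz0 : z0 ^ a = 1)
    (hzz : ∀ i, z i ∈ Subgroup.zpowers z0) :
    Finite P ∧ Nat.card P ≤ Nat.card K * T.N * a := by
  have hfo : IsOfFinOrder z0 := isOfFinOrder_iff_pow_eq_one.mpr ⟨a, ha, hz0⟩
  have hcz : Nat.card (Subgroup.zpowers z0) = orderOf z0 := Nat.card_zpowers z0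
  have hfz : Finite (Subgroup.zpowers z0) :=
    Nat.finite_of_card_ne_zero (by rw [hcz]; exact hfo.orderOf_pos.ne')
  let f : K × Fin T.N × Subgroup.zpowers z0 → P := fun t =>
    (t.1 : P) * wrep C.par C.gen g (T.LV t.2.1) * (t.2.2 : P)
  have hf : Function.Surjective f := by
    intro p
    obtain ⟨l, hl, rfl⟩ := hgen p
    obtain ⟨n, hn, lab, hR⟩ := coverW hH hall T hT0 h0N hT l hl
    refine ⟨(⟨_, hR⟩, ⟨n, hn⟩, ⟨phi z lab, phi_mem _ hzz lab⟩), ?_⟩
    simp only [f]
    group
  refine ⟨Finite.of_surjective f hf, ?_⟩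
  have h1 := Nat.card_le_card_of_surjective f hf
  rw [Nat.card_prod, Nat.card_prod, Nat.card_fin, hcz] at h1
  calc Nat.card P ≤ Nat.card K * (T.N * orderOf z0) := h1
    _ ≤ Nat.card K * (T.N * a) :=
      Nat.mul_le_mul_left _ (Nat.mul_le_mul_left _ (orderOf_le_of_pow_eq_one ha hz0))
    _ = Nat.card K * T.N * a := by ring


/-- fact `j` relates a vertex to itself. -/
def relFactOKW (C : Cert) (j : ℕ) : Bool :=
  frc (C.fa j) fun f => Nat.blt j C.nf && Nat.beq (fMW f) 0 && Nat.beq (fAW f) (fBW f)

/-- a combination of relation labels. -/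
def combW (C : Cert) : List ℕ → List ℕ → L8
  | j :: js, c :: cs => L8.add (L8.smul c (fLW (C.fa j))) (combW C js cs)
  | [], _ => L8.zero
  | _ :: _, [] => L8.zero

/-- `z i = z i0 ^ a` follows from the relations. -/
def genOKW (C : Cert) (js cs : List ℕ) (i i0 a : ℕ) : Bool :=
  L8.beq (L8.red C.E (L8.add (L8.unit i) (combW C js cs)))
    (L8.red C.E (L8.smul a (L8.unit i0)))

/-- `z i0 ^ a = 1` follows from the relations. -/
def ordOKW (C : Cert) (js cs : List ℕ) (i0 a : ℕ) : Bool :=
  L8.beq (L8.red C.E (L8.add (L8.smul a (L8.unit i0)) (combW C js cs))) L8.zero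

variable {C : Cert} {K : Subgroup P} {g z : ℕ → P}

theorem relFact_soundW (hH : Hyp C K g z) (hall : ∀ j, j < C.nf → HoldsW C K g z j)
    (hK : ∀ l, phi z l ∈ K → phi z l = 1) {j : ℕ} (h : relFactOKW C j = true) :
    phi z (fLW (C.fa j)) = 1 := by
  unfold relFactOKW at h
  rw [frc_eq, Bool.and_eq_true, Bool.and_eq_true] at h
  obtain ⟨⟨h1, h2⟩, h3⟩ := h
  rw [Nat.blt_eq] at h1
  have hF := hall j h1
  unfold HoldsW at hF
  rw [Nat.eq_of_beq_eq_true h2, Nat.eq_of_beq_eq_true h3] at hF
  unfold Cfsg.Agent.Helper5.LTC.Rel at hF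
  have e1 : wrep C.par C.gen g (fBW (C.fa j)) * mval g 0 *
      (wrep C.par C.gen g (fBW (C.fa j)) * phi z (fLW (C.fa j)))⁻¹ = (phi z (fLW (C.fa j)))⁻¹ := by
    rw [phi_comm hH.hz]
    simp [mval]
  rw [e1] at hF
  have h4 := K.inv_mem hF
  rw [inv_inv] at h4
  exact hK _ h4

theorem phi_combW (hH : Hyp C K g z) (hall : ∀ j, j < C.nf → HoldsW C K g z j)
    (hK : ∀ l, phi z l ∈ K → phi z l = 1) : ∀ (js cs : List ℕ),
    (∀ j ∈ js, relFactOKW C j = true) → phi z (combW C js cs) = 1
  | [], _, _ => by
    unfold combW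
    exact phi_zero
  | _ :: _, [], _ => by
    unfold combW
    exact phi_zero
  | j :: js, c :: cs, h => by
    unfold combW
    rw [phi_add hH.hz, phi_smul hH.hz, relFact_soundW hH hall hK (h j List.mem_cons_self),
      one_pow, one_mul]
    exact phi_combW hH hall hK js cs (fun j' hj' => h j' (List.mem_cons_of_mem _ hj'))

theorem genOK_soundW (hH : Hyp C K g z) (hall : ∀ j, j < C.nf → HoldsW C K g z j)
    (hK : ∀ l, phi z l ∈ K → phi z l = 1) {js cs : List ℕ}
    (hjs : ∀ j ∈ js, relFactOKW C j = true) {i i0 a : ℕ} (hi : i < 8) (hi0 : i0 < 8)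
    (h : genOKW C js cs i i0 a = true) : z i = z i0 ^ a := by
  unfold genOKW at h
  have h1 := congrArg (phi z) (L8.eq_of_beq h)
  rw [phi_red hH.hE, phi_red hH.hE, phi_add hH.hz, phi_combW hH hall hK js cs hjs, mul_one,
    phi_smul hH.hz, phi_unit hi, phi_unit hi0] at h1
  exact h1

theorem ordOK_soundW (hH : Hyp C K g z) (hall : ∀ j, j < C.nf → HoldsW C K g z j)
    (hK : ∀ l, phi z l ∈ K → phi z l = 1) {js cs : List ℕ}
    (hjs : ∀ j ∈ js, relFactOKW C j = true) {i0 a : ℕ} (hi0 : i0 < 8)
    (h : ordOKW C js cs i0 a = true) : z i0 ^ a = 1 := by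
  unfold ordOKW at h
  have h1 := congrArg (phi z) (L8.eq_of_beq h)
  rw [phi_red hH.hE, phi_add hH.hz, phi_combW hH hall hK js cs hjs, mul_one,
    phi_smul hH.hz, phi_unit hi0, phi_zero] at h1
  exact h1

/-- **the main theorem on labelled certificates**: the order of `P` is at most
`|K| * N * a`. -/
theorem ltc_mainW (hH : Hyp C K g z) (hchk : ∀ j, j < C.nf → ∃ r, checkFactW C j r = true)
    (T : Tab) (hT0 : T.LV 0 = 0) (h0N : 0 < T.N)
    (hT : ∀ n, n < T.N → ∀ x, x < C.k → tabEntryOKW C T n x = true)
    (hgen : ∀ p : P, ∃ l : List ℕ, (∀ c ∈ l, c < C.k) ∧ p = lprod g l)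
    [Finite K] (hK : ∀ l, phi z l ∈ K → phi z l = 1) (D : ℕ) (hD : D ≤ 8)
    (hz8 : ∀ i, D ≤ i → z i = 1)
    (js : List ℕ) (hjs : ∀ j ∈ js, relFactOKW C j = true)
    (i0 a : ℕ) (hi0 : i0 < 8) (ha : 0 < a) (cs0 : List ℕ) (h0 : ordOKW C js cs0 i0 a = true)
    (as : ℕ → ℕ) (css : ℕ → List ℕ) (hgs : ∀ i, i < D → genOKW C js (css i) i i0 (as i) = true) :
    Finite P ∧ Nat.card P ≤ Nat.card K * T.N * a := by
  have hall := all_holdW hH hchk
  refine card_leW hH hall T hT0 h0N hT hgen (z i0) a ha (ordOK_soundW hH hall hK hjs hi0 h0) ?_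
  intro i
  by_cases hi : i < D
  · rw [genOK_soundW hH hall hK hjs (by omega) hi0 (hgs i hi)]
    exact Subgroup.pow_mem _ (Subgroup.mem_zpowers _) _
  · rw [hz8 i (by omega)]
    exact Subgroup.one_mem _


/-- a chain step for consecutive ranges of checked facts. -/
theorem upto_stepW (C : Cert) {lo : ℕ} (h : ∀ j, j < lo → ∃ r, checkFactW C j r = true)
    (l : List ℕ) (n : ℕ) (hl : l.length = n) (hc : checkListW C lo l = true) :
    ∀ j, j < lo + n → ∃ r, checkFactW C j r = true := by
  intro j hj
  by_cases h1 : j < lo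
  · exact h j h1
  · exact checkListW_spec C l lo hc j (by omega) (by omega)

/-- a chain step for consecutive ranges of table rows. -/
theorem rows_stepW (C : Cert) (T : Tab) {lo : ℕ}
    (h : ∀ n, n < lo → ∀ x, x < C.k → tabEntryOKW C T n x = true) (cnt : ℕ)
    (hc : tabRowsOKW C T cnt lo = true) :
    ∀ n, n < lo + cnt → ∀ x, x < C.k → tabEntryOKW C T n x = true := by
  intro n hn x hx
  by_cases h1 : n < lo
  · exact h n h1 x hx
  · exact tabRowOKW_spec C T n C.k (tabRowsOKW_spec C T cnt lo hc n (by omega) hn) x hx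

end Cfsg.Agent.Helper3.LTCW
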