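import Mathlib
import Cfsg.Agent.Helper5.LTCI

/-!
# Labelled Todd–Coxeter certificates: central group generated by two of the labels

A variant of `Cfsg.Agent.Helper5.LTC.ltc_main` / `covG_card_le_tail` for covering groups whose
central group is not cyclic: all the central elements `z i` are expressed as `z i0 ^ a * z i1 ^ b`
with `z i0 ^ a0 = 1` and `z i1 ^ a1 = 1`; the order of the group is then at most
`|K| * N * (a0 * a1)`.
-/

set_option autoImplicit false

namespace Cfsg.Agent.Helper3.LTCTwo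

open Cfsg.Agent.Helper5.LTC Cfsg.Agent.Helper5.LP Cfsg.Agent.Helper5.StemP

variable {P : Type*} [Group P]

/-- `z i = z i0 ^ a * z i1 ^ b` follows from the relations. -/
def genOK2 (C : Cert) (js cs : List ℕ) (i i0 a i1 b : ℕ) : Bool :=
  L8.beq (L8.red C.E (L8.add (L8.unit i) (comb C js cs)))
    (L8.red C.E (L8.add (L8.smul a (L8.unit i0)) (L8.smul b (L8.unit i1))))

variable {C : Cert} {K : Subgroup P} {g z : ℕ → P}

theorem genOK2_sound (hH : Hyp C K g z) (hall : ∀ j, j < C.nf → Holds C K g z j)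
    (hK : ∀ l, phi z l ∈ K → phi z l = 1) {js cs : List ℕ}
    (hjs : ∀ j ∈ js, relFactOK C j = true) {i i0 a i1 b : ℕ} (hi : i < 8) (hi0 : i0 < 8)
    (hi1 : i1 < 8) (h : genOK2 C js cs i i0 a i1 b = true) : z i = z i0 ^ a * z i1 ^ b := by
  unfold genOK2 at h
  have h1 := congrArg (phi z) (L8.eq_of_beq h)
  rw [phi_red hH.hE, phi_red hH.hE, phi_add hH.hz, phi_comb hH hall hK js cs hjs, mul_one,
    phi_add hH.hz, phi_smul hH.hz, phi_smul hH.hz, phi_unit hi, phi_unit hi0, phi_unit hi1] at h1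
  exact h1

/-- **the counting bound**, for a finite subgroup containing the central elements. -/
theorem card_le_sub (hH : Hyp C K g z) (hall : ∀ j, j < C.nf → Holds C K g z j) (T : Tab)
    (hT0 : T.LV 0 = 0) (h0N : 0 < T.N)
    (hT : ∀ n, n < T.N → ∀ x, x < C.k → tabEntryOK C T n x = true)
    (hgen : ∀ p : P, ∃ l : List ℕ, (∀ c ∈ l, c < C.k) ∧ p = lprod g l)
    [Finite K] (Z : Subgroup P) [Finite Z] (a : ℕ) (hZ : Nat.card Z ≤ a)
    (hzz : ∀ i, z i ∈ Z) :
    Finite P ∧ Nat.card P ≤ Nat.card K * T.N * a := by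
  let f : K × Fin T.N × Z → P := fun t =>
    (t.1 : P) * wrep C.par C.gen g (T.LV t.2.1) * (t.2.2 : P)
  have hf : Function.Surjective f := by
    intro p
    obtain ⟨l, hl, rfl⟩ := hgen p
    obtain ⟨n, hn, lab, hR⟩ := cover hH hall T hT0 h0N hT l hl
    refine ⟨(⟨_, hR⟩, ⟨n, hn⟩, ⟨phi z lab, phi_mem _ hzz lab⟩), ?_⟩
    simp only [f]
    group
  refine ⟨Finite.of_surjective f hf, ?_⟩
  have h1 := Nat.card_le_card_of_surjective f hf
  rw [Nat.card_prod, Nat.card_prod, Nat.card_fin] at h1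
  calc Nat.card P ≤ Nat.card K * (T.N * Nat.card Z) := h1
    _ ≤ Nat.card K * (T.N * a) :=
      Nat.mul_le_mul_left _ (Nat.mul_le_mul_left _ hZ)
    _ = Nat.card K * T.N * a := by ring

/-- two commuting elements of orders dividing `a0`, `a1` generate a subgroup of order at most
`a0 * a1`. -/
theorem card_closure_pair_le (x y : P) (hxy : Commute x y) (a0 a1 : ℕ) (h0 : 0 < a0)
    (h1 : 0 < a1) (hx : x ^ a0 = 1) (hy : y ^ a1 = 1) :
    ∃ Z : Subgroup P, Finite Z ∧ Nat.card Z ≤ a0 * a1 ∧ x ∈ Z ∧ y ∈ Z := by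
  classical
  let f : Fin a0 × Fin a1 → P := fun t => x ^ t.1.val * y ^ t.2.val
  have hpowx : ∀ n : ℕ, x ^ n = x ^ (n % a0) := by
    intro n
    conv_lhs => rw [← Nat.div_add_mod n a0, pow_add, pow_mul, hx, one_pow, one_mul]
  have hpowy : ∀ n : ℕ, y ^ n = y ^ (n % a1) := by
    intro n
    conv_lhs => rw [← Nat.div_add_mod n a1, pow_add, pow_mul, hy, one_pow, one_mul]
  have hxinv : x⁻¹ = x ^ (a0 - 1) := by
    rw [inv_eq_iff_mul_eq_one, ← pow_succ']
    rw [show a0 - 1 + 1 = a0 by omega, hx]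
  have hyinv : y⁻¹ = y ^ (a1 - 1) := by
    rw [inv_eq_iff_mul_eq_one, ← pow_succ']
    rw [show a1 - 1 + 1 = a1 by omega, hy]
  have hmem : ∀ n k : ℕ, x ^ n * y ^ k ∈ Set.range f := by
    intro n k
    refine ⟨(⟨n % a0, Nat.mod_lt _ h0⟩, ⟨k % a1, Nat.mod_lt _ h1⟩), ?_⟩
    simp only [f]
    rw [← hpowx, ← hpowy]
  let Z : Subgroup P :=
    { carrier := Set.range f
      mul_mem' := by
        rintro _ _ ⟨s, rfl⟩ ⟨t, rfl⟩
        simp only [f]
        have : x ^ s.1.val * y ^ s.2.val * (x ^ t.1.val * y ^ t.2.val) =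
            x ^ (s.1.val + t.1.val) * y ^ (s.2.val + t.2.val) := by
          rw [pow_add, pow_add]
          have hc : Commute (y ^ s.2.val) (x ^ t.1.val) := (hxy.pow_pow _ _).symm
          calc x ^ s.1.val * y ^ s.2.val * (x ^ t.1.val * y ^ t.2.val)
              = x ^ s.1.val * (y ^ s.2.val * x ^ t.1.val) * y ^ t.2.val := by group
            _ = x ^ s.1.val * (x ^ t.1.val * y ^ s.2.val) * y ^ t.2.val := by rw [hc.eq]
            _ = x ^ s.1.val * x ^ t.1.val * (y ^ s.2.val * y ^ t.2.val) := by group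
        rw [this]
        exact hmem _ _
      one_mem' := by
        have := hmem 0 0
        simpa using this
      inv_mem' := by
        rintro _ ⟨s, rfl⟩
        simp only [f]
        have : (x ^ s.1.val * y ^ s.2.val)⁻¹ =
            x ^ ((a0 - 1) * s.1.val) * y ^ ((a1 - 1) * s.2.val) := by
          rw [mul_inv_rev, ← inv_pow, ← inv_pow, hxinv, hyinv, ← pow_mul, ← pow_mul]
          exact ((hxy.pow_pow _ _).symm).eq
        rw [this]
        exact hmem _ _ }
  have hfin : Finite Z := by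
    have : Finite (Set.range f) := Set.finite_range f
    exact this
  refine ⟨Z, hfin, ?_, ?_, ?_⟩
  · have hs : Function.Surjective (fun t : Fin a0 × Fin a1 => (⟨f t, ⟨t, rfl⟩⟩ : Z)) := by
      rintro ⟨_, ⟨t, rfl⟩⟩
      exact ⟨t, rfl⟩
    have h2 := Nat.card_le_card_of_surjective _ hs
    rwa [Nat.card_prod, Nat.card_fin, Nat.card_fin] at h2
  · have h := hmem 1 0
    rw [pow_one, pow_zero, mul_one] at h
    exact h
  · have h := hmem 0 1
    rw [pow_one, pow_zero, one_mul] at h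
    exact h

/-- **the main theorem on labelled certificates**, two central generators: the order of `P` is
at most `|K| * N * (a0 * a1)`. -/
theorem ltc_main2 (hH : Hyp C K g z) (hchk : ∀ j, j < C.nf → ∃ r, checkFact C j r = true)
    (T : Tab) (hT0 : T.LV 0 = 0) (h0N : 0 < T.N)
    (hT : ∀ n, n < T.N → ∀ x, x < C.k → tabEntryOK C T n x = true)
    (hgen : ∀ p : P, ∃ l : List ℕ, (∀ c ∈ l, c < C.k) ∧ p = lprod g l)
    [Finite K] (hK : ∀ l, phi z l ∈ K → phi z l = 1) (D : ℕ) (hD : D ≤ 8)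
    (hz8 : ∀ i, D ≤ i → z i = 1)
    (js : List ℕ) (hjs : ∀ j ∈ js, relFactOK C j = true)
    (i0 a0 i1 a1 : ℕ) (hi0 : i0 < 8) (hi1 : i1 < 8) (ha0 : 0 < a0) (ha1 : 0 < a1)
    (cs0 cs1 : List ℕ) (h0 : ordOK C js cs0 i0 a0 = true) (h1 : ordOK C js cs1 i1 a1 = true)
    (as bs : ℕ → ℕ) (css : ℕ → List ℕ)
    (hgs : ∀ i, i < D → genOK2 C js (css i) i i0 (as i) i1 (bs i) = true) :
    Finite P ∧ Nat.card P ≤ Nat.card K * T.N * (a0 * a1) := by
  have hall := all_hold hH hchk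
  have hx := ordOK_sound hH hall hK hjs hi0 h0
  have hy := ordOK_sound hH hall hK hjs hi1 h1
  have hxy : Commute (z i0) (z i1) := (Subgroup.mem_center_iff.mp (hH.hz i0) (z i1)).symm
  obtain ⟨Z, hfin, hcard, hxZ, hyZ⟩ := card_closure_pair_le (z i0) (z i1) hxy a0 a1 ha0 ha1 hx hy
  refine card_le_sub hH hall T hT0 h0N hT hgen Z (a0 * a1) hcard ?_
  intro i
  by_cases hi : i < D
  · rw [genOK2_sound hH hall hK hjs (by omega) hi0 hi1 (hgs i hi)]
    exact Z.mul_mem (Z.pow_mem hxZ _) (Z.pow_mem hyZ _)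
  · rw [hz8 i (by omega)]
    exact Z.one_mem

section cov
variable (d : ℕ) (m : ℕ → ℕ) (CC TT : List (List ℕ)) (e : ℕ)

/-- **the order bound for covering groups from a labelled certificate**, two central generators,
the words of `CC` after the first `n` ones being known to have trivial value. -/
theorem covG_card_le_tail2 (C : Cert) (hk : C.k = 2 * d) (hι : C.ι = linv) (hE : C.E = e)
    (he0 : 0 < e) (hCT : ∀ r ∈ CC, r ∈ TT) (hlt : ∀ r ∈ CC, ∀ c ∈ r, c < 2 * d)
    (n : ℕ) (hn : n ≤ 8) (hzn : ∀ i, n ≤ i → zC d m CC TT e i = 1)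
    (hWlt : ∀ wi, ∀ c ∈ C.W wi, c < 2 * d) (orig : ℕ → ℕ)
    (hwordOK : ∀ wi, wi < C.nrel →
      wordOK2 (coverRels d m CC TT e) CC n (C.W wi) (C.δ wi) (orig wi) = true)
    (K : Subgroup (CovG d m CC TT e))
    (hsubs : ∀ wi, C.nrel ≤ wi → wi < C.nw →
      ev (2 * d) (coverRels d m CC TT e) (C.W wi) ∈ K)
    [Finite K] (hK : ∀ l, phi (zC d m CC TT e) l ∈ K → phi (zC d m CC TT e) l = 1)
    (hchk : ∀ j, j < C.nf → ∃ r, checkFact C j r = true)
    (T : Tab) (hT0 : T.LV 0 = 0) (h0N : 0 < T.N)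
    (hT : ∀ n, n < T.N → ∀ x, x < C.k → tabEntryOK C T n x = true)
    (js : List ℕ) (hjs : ∀ j ∈ js, relFactOK C j = true)
    (i0 a0 i1 a1 : ℕ) (hi0 : i0 < 8) (hi1 : i1 < 8) (ha0 : 0 < a0) (ha1 : 0 < a1)
    (cs0 cs1 : List ℕ) (h0 : ordOK C js cs0 i0 a0 = true) (h1 : ordOK C js cs1 i1 a1 = true)
    (as bs : ℕ → ℕ) (css : ℕ → List ℕ)
    (hgs : ∀ i, i < n → genOK2 C js (css i) i i0 (as i) i1 (bs i) = true) :
    Finite (CovG d m CC TT e) ∧
      Nat.card (CovG d m CC TT e) ≤ Nat.card K * T.N * (a0 * a1) := by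
  have hH : Hyp C K (gC d m CC TT e) (zC d m CC TT e) := by
    refine ⟨zC_center d m CC TT e hlt, by rw [hE]; exact he0, ?_, ?_, ?_, ?_, ?_⟩
    · intro i
      rw [hE]
      exact zC_pow d m CC TT e hCT i
    · intro x _
      rw [hι]
      exact lval_linv _ x
    · intro wi c hc
      rw [hk]
      exact hWlt wi c hc
    · intro wi hwi
      rw [lprod_gC d m CC TT e _ (hWlt wi)]
      exact wordOK2_sound d m CC TT e hlt n hzn (hwordOK wi hwi)
    · intro wi h1 h2
      rw [lprod_gC d m CC TT e _ (hWlt wi)]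
      exact hsubs wi h1 h2
  refine ltc_main2 hH hchk T hT0 h0N hT ?_ hK n hn hzn js hjs i0 a0 i1 a1 hi0 hi1 ha0 ha1
    cs0 cs1 h0 h1 as bs css hgs
  intro p
  obtain ⟨l, hl, hp⟩ := exists_word d m CC TT e p
  exact ⟨l, by rw [hk]; exact hl, hp⟩

end cov

end Cfsg.Agent.Helper3.LTCTwo
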