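import Mathlib
import Cfsg.Agent.Helper3.LTCW
import Cfsg.Agent.Helper3.Tower64

/-!
# Towers of covering presentations, wide certificates

`Cfsg.Agent.Helper3.Tower64.step64` for the certificates with wide fields of
`Cfsg.Agent.Helper3.LTCW`.  Only the first `n` of the new central words `EX` carry labels; the
others have to be trivial in the covering group (for instance because they are Coxeter relators
between involutions and the exponent is odd).  A variant without labels is included.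
-/

set_option autoImplicit false

namespace Cfsg.Agent.Helper3.TowerW

open Cfsg.Agent.Helper5.LTC Cfsg.Agent.Helper5.StemP Cfsg.Agent.Helper5.LP
  Cfsg.Agent.Helper4.LTCQ Cfsg.Agent.Helper3.LTC64 Cfsg.Agent.Helper3.LTCW
  Cfsg.Agent.Helper3.Tower64

section cov
variable (d : ℕ) (m : ℕ → ℕ) (CC TT : List (List ℕ)) (e : ℕ)

/-- the order bound for a covering group from a wide labelled certificate whose first `n` central
words carry labels, the values of the others lying in `K`. -/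
theorem covG_card_le_inKW (C : Cert) (hk : C.k = 2 * d) (hι : C.ι = linv) (hE : C.E = e)
    (he0 : 0 < e) (hCT : ∀ r ∈ CC, r ∈ TT) (hlt : ∀ r ∈ CC, ∀ c ∈ r, c < 2 * d)
    (n : ℕ) (hn : n ≤ 8) (K : Subgroup (CovG d m CC TT e))
    (hzn : ∀ i, n ≤ i → zC d m CC TT e i ∈ K)
    (hWlt : ∀ wi, ∀ c ∈ C.W wi, c < 2 * d) (orig : ℕ → ℕ)
    (hwordOK : ∀ wi, wi < C.nrel →
      wordOK3 (coverRels d m CC TT e) CC n (C.W wi) (C.δ wi) (orig wi) = true)
    (hsubs : ∀ wi, C.nrel ≤ wi → wi < C.nw →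
      ev (2 * d) (coverRels d m CC TT e) (C.W wi) ∈ K)
    [Finite K]
    (hchk : ∀ j, j < C.nf → ∃ r, checkFactW C j r = true)
    (T : Tab) (hT0 : T.LV 0 = 0) (h0N : 0 < T.N)
    (hT : ∀ n, n < T.N → ∀ x, x < C.k → tabEntryOKW C T n x = true)
    (js : List ℕ) (hjs : ∀ j ∈ js, relFactOKW C j = true)
    (i0 a : ℕ) (hi0 : i0 < 8) (ha : 0 < a) (cs0 : List ℕ) (h0 : ordOKW C js cs0 i0 a = true)
    (as : ℕ → ℕ) (css : ℕ → List ℕ)
    (hgs : ∀ i, i < n → genOKW C js (css i) i i0 (as i) = true) :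
    Finite (CovG d m CC TT e) ∧ Nat.card (CovG d m CC TT e) ≤ Nat.card K * T.N * a := by
  have h := covG_inK_core d m CC TT e C hk hι hE he0 hCT hlt n K hzn hWlt orig hwordOK hsubs
    (T.N * a) ?_
  · refine ⟨h.1, h.2.trans (le_of_eq ?_)⟩
    rw [Nat.mul_assoc]
  · intro Q _ K' g z hH hfin hK' hgen hz8
    have := hfin
    have h1 := ltc_mainW hH hchk T hT0 h0N hT hgen hK' n hn hz8 js hjs i0 a hi0 ha cs0 h0 as css hgs
    refine ⟨h1.1, h1.2.trans (le_of_eq ?_)⟩
    rw [Nat.mul_assoc]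

/-- the same without labels: all the central words take their values in `K`. -/
theorem covG_card_le_inKW0 (C : Cert) (hk : C.k = 2 * d) (hι : C.ι = linv) (hE : C.E = e)
    (he0 : 0 < e) (hCT : ∀ r ∈ CC, r ∈ TT) (hlt : ∀ r ∈ CC, ∀ c ∈ r, c < 2 * d)
    (K : Subgroup (CovG d m CC TT e))
    (hzn : ∀ i, zC d m CC TT e i ∈ K)
    (hWlt : ∀ wi, ∀ c ∈ C.W wi, c < 2 * d) (orig : ℕ → ℕ)
    (hwordOK : ∀ wi, wi < C.nrel →
      wordOK3 (coverRels d m CC TT e) CC 0 (C.W wi) (C.δ wi) (orig wi) = true)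
    (hsubs : ∀ wi, C.nrel ≤ wi → wi < C.nw →
      ev (2 * d) (coverRels d m CC TT e) (C.W wi) ∈ K)
    [Finite K]
    (hchk : ∀ j, j < C.nf → ∃ r, checkFactW C j r = true)
    (T : Tab) (hT0 : T.LV 0 = 0) (h0N : 0 < T.N)
    (hT : ∀ n, n < T.N → ∀ x, x < C.k → tabEntryOKW C T n x = true) :
    Finite (CovG d m CC TT e) ∧ Nat.card (CovG d m CC TT e) ≤ Nat.card K * T.N := by
  refine covG_inK_core d m CC TT e C hk hι hE he0 hCT hlt 0 K (fun i _ => hzn i) hWlt orig
    hwordOK hsubs T.N ?_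
  intro Q _ K' g z hH hfin hK' hgen hz8
  have := hfin
  have hall := all_holdW hH hchk
  have h1 := card_leW hH hall T hT0 h0N hT hgen (1 : Q) 1 Nat.one_pos (pow_one 1)
    (fun i => by rw [hz8 i (Nat.zero_le _)]; exact Subgroup.one_mem _)
  refine ⟨h1.1, h1.2.trans (le_of_eq ?_)⟩
  rw [Nat.mul_one]

end cov

section step
variable (d' d : ℕ) (m : ℕ → ℕ) (CL EX : List (List ℕ)) (e : ℕ)

open Cfsg.Agent.Helper4.Tower

/-- the unlabelled central words take their values in the image of the smaller covering group, if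
those among the new ones are trivial. -/
theorem zC_mem_rangeW (hd : d' ≤ d) (hCL : ∀ r ∈ CL, ∀ c ∈ r, c < 2 * d') (n : ℕ)
    (htriv : ∀ i, n ≤ i → i < EX.length → zC d m (EX ++ CL) (EX ++ CL) e i = 1) (i : ℕ)
    (hi : n ≤ i) :
    zC d m (EX ++ CL) (EX ++ CL) e i ∈ (phiT d' d m CL EX e hd hCL).range := by
  by_cases h : i < EX.length
  · rw [htriv i hi h]
    exact Subgroup.one_mem _
  · exact zC_mem_range d' d m CL EX e hd hCL i (by omega)

/-- **one step of a tower of covering presentations**, wide certificate, the first `n` new central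
words carrying labels and the other new ones being trivial. -/
theorem stepW (hd : d' ≤ d) (hCL : ∀ r ∈ CL, ∀ c ∈ r, c < 2 * d')
    (hEX : ∀ r ∈ EX, ∀ c ∈ r, c < 2 * d) (he0 : 0 < e) (n : ℕ) (hn : n ≤ 8)
    (htriv : ∀ i, n ≤ i → i < EX.length → zC d m (EX ++ CL) (EX ++ CL) e i = 1)
    (B : ℕ) (hB : Finite (CovG d' m CL CL e) ∧ Nat.card (CovG d' m CL CL e) ≤ B)
    (C : Cert) (hk : C.k = 2 * d) (hι : C.ι = linv) (hE : C.E = e)
    (hWlt : ∀ wi, ∀ c ∈ C.W wi, c < 2 * d) (orig : ℕ → ℕ)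
    (hwordOK : ∀ wi, wi < C.nrel →
      wordOK3 (coverRels d m (EX ++ CL) (EX ++ CL) e) (EX ++ CL) n (C.W wi) (C.δ wi)
        (orig wi) = true)
    (hsubW : ∀ wi, C.nrel ≤ wi → wi < C.nw → ∃ c, c < 2 * d' ∧ C.W wi = [c])
    (hchk : ∀ j, j < C.nf → ∃ r, checkFactW C j r = true)
    (T : Tab) (hT0 : T.LV 0 = 0) (h0N : 0 < T.N)
    (hT : ∀ n, n < T.N → ∀ x, x < C.k → tabEntryOKW C T n x = true)
    (js : List ℕ) (hjs : ∀ j ∈ js, relFactOKW C j = true)
    (i0 a : ℕ) (hi0 : i0 < 8) (ha : 0 < a) (cs0 : List ℕ) (h0 : ordOKW C js cs0 i0 a = true)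
    (as : ℕ → ℕ) (css : ℕ → List ℕ)
    (hgs : ∀ i, i < n → genOKW C js (css i) i i0 (as i) = true) :
    Finite (CovG d m (EX ++ CL) (EX ++ CL) e) ∧
      Nat.card (CovG d m (EX ++ CL) (EX ++ CL) e) ≤ B * T.N * a := by
  have : Finite (CovG d' m CL CL e) := hB.1
  let φ := phiT d' d m CL EX e hd hCL
  let K : Subgroup (CovG d m (EX ++ CL) (EX ++ CL) e) := φ.range
  have hKfin : Finite K := Finite.of_surjective φ.rangeRestrict φ.rangeRestrict_surjective
  have hKcard : Nat.card K ≤ B :=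
    (Nat.card_le_card_of_surjective φ.rangeRestrict φ.rangeRestrict_surjective).trans hB.2
  have h := covG_card_le_inKW d m (EX ++ CL) (EX ++ CL) e C hk hι hE he0 (fun r hr => hr)
    (CC_lt d' d CL EX hd hCL hEX) n hn K (zC_mem_rangeW d' d m CL EX e hd hCL n htriv) hWlt orig
    hwordOK (subW_mem_range d' d m CL EX e hd hCL C hsubW) hchk T hT0 h0N hT
    js hjs i0 a hi0 ha cs0 h0 as css hgs
  refine ⟨h.1, h.2.trans ?_⟩
  exact Nat.mul_le_mul_right _ (Nat.mul_le_mul_right _ hKcard)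

/-- **one step of a tower of covering presentations**, wide certificate, no labels: all the new
central words are trivial. -/
theorem stepW0 (hd : d' ≤ d) (hCL : ∀ r ∈ CL, ∀ c ∈ r, c < 2 * d')
    (hEX : ∀ r ∈ EX, ∀ c ∈ r, c < 2 * d) (he0 : 0 < e)
    (htriv : ∀ i, i < EX.length → zC d m (EX ++ CL) (EX ++ CL) e i = 1)
    (B : ℕ) (hB : Finite (CovG d' m CL CL e) ∧ Nat.card (CovG d' m CL CL e) ≤ B)
    (C : Cert) (hk : C.k = 2 * d) (hι : C.ι = linv) (hE : C.E = e)
    (hWlt : ∀ wi, ∀ c ∈ C.W wi, c < 2 * d) (orig : ℕ → ℕ)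
    (hwordOK : ∀ wi, wi < C.nrel →
      wordOK3 (coverRels d m (EX ++ CL) (EX ++ CL) e) (EX ++ CL) 0 (C.W wi) (C.δ wi)
        (orig wi) = true)
    (hsubW : ∀ wi, C.nrel ≤ wi → wi < C.nw → ∃ c, c < 2 * d' ∧ C.W wi = [c])
    (hchk : ∀ j, j < C.nf → ∃ r, checkFactW C j r = true)
    (T : Tab) (hT0 : T.LV 0 = 0) (h0N : 0 < T.N)
    (hT : ∀ n, n < T.N → ∀ x, x < C.k → tabEntryOKW C T n x = true) :
    Finite (CovG d m (EX ++ CL) (EX ++ CL) e) ∧
      Nat.card (CovG d m (EX ++ CL) (EX ++ CL) e) ≤ B * T.N := by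
  have : Finite (CovG d' m CL CL e) := hB.1
  let φ := phiT d' d m CL EX e hd hCL
  let K : Subgroup (CovG d m (EX ++ CL) (EX ++ CL) e) := φ.range
  have hKfin : Finite K := Finite.of_surjective φ.rangeRestrict φ.rangeRestrict_surjective
  have hKcard : Nat.card K ≤ B :=
    (Nat.card_le_card_of_surjective φ.rangeRestrict φ.rangeRestrict_surjective).trans hB.2
  have h := covG_card_le_inKW0 d m (EX ++ CL) (EX ++ CL) e C hk hι hE he0 (fun r hr => hr)
    (CC_lt d' d CL EX hd hCL hEX) K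
    (fun i => zC_mem_rangeW d' d m CL EX e hd hCL 0 (fun i _ hi => htriv i hi) i (Nat.zero_le _))
    hWlt orig hwordOK (subW_mem_range d' d m CL EX e hd hCL C hsubW) hchk T hT0 h0N hT
  refine ⟨h.1, h.2.trans ?_⟩
  exact Nat.mul_le_mul_right _ hKcard

end step

end Cfsg.Agent.Helper3.TowerW
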