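import Mathlib
import Cfsg.Agent.Helper3.Co1ZGb0
import Cfsg.Agent.Helper3.Co1ZDat
import Cfsg.Agent.Helper3.TowerW

/-!
# The relators of the certificate of the top step for the first Conway group, part 12

Every word of the certificate with index from 600 to 649 is a conjugate of a relator of the
covering presentation (or of its inverse), with the recorded central label.
-/

set_option autoImplicit false

namespace Cfsg.Agent.Helper3.Co1ZG

open Cfsg Cfsg.Agent.Helper5 Cfsg.Agent.Helper5.StemP Cfsg.Agent.Helper5.LP Cfsg.Agent.Helper5.LTC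
  Cfsg.Agent.Helper2.Co2M Cfsg.Agent.Helper3.LTC64 Cfsg.Agent.Helper3.LTCW
  Cfsg.Agent.Helper3.TowerW

set_option maxRecDepth 1000000 in
theorem wo_12 : ∀ i, i < 50 →
    wordOK3 (coverRels 5 X.mm (EX ++ X.CC) (EX ++ X.CC) 60) (EX ++ X.CC) 5
      (Co1Z.cert.W (600 + i)) (Co1Z.cert.δ (600 + i)) (Co1Z.origs.getD (600 + i) 0) = true := by
  decide +kernel

end Cfsg.Agent.Helper3.Co1ZG
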