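import Mathlib
import Cfsg.Agent.Helper3.Co1ZB
import Cfsg.Agent.Helper3.Co1ZGn
import Cfsg.Agent.Helper3.Co1ZSum
import Cfsg.Agent.Helper3.TowerW
import Cfsg.Agent.Helper3.Co1ZW0
import Cfsg.Agent.Helper3.Co1ZW1
import Cfsg.Agent.Helper3.Co1ZW2
import Cfsg.Agent.Helper3.Co1ZW3
import Cfsg.Agent.Helper3.Co1ZW4
import Cfsg.Agent.Helper3.Co1ZW5
import Cfsg.Agent.Helper3.Co1ZW6
import Cfsg.Agent.Helper3.Co1ZW7
import Cfsg.Agent.Helper3.Co1ZW8
import Cfsg.Agent.Helper3.Co1ZW9
import Cfsg.Agent.Helper3.Co1ZW10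
import Cfsg.Agent.Helper3.Co1ZW11
import Cfsg.Agent.Helper3.Co1ZW12
import Cfsg.Agent.Helper3.Co1ZW13
import Cfsg.Agent.Helper3.Co1ZW14
import Cfsg.Agent.Helper3.Co1ZW15
import Cfsg.Agent.Helper3.Co1ZW16
import Cfsg.Agent.Helper3.Co1ZW17
import Cfsg.Agent.Helper3.Co1ZW18
import Cfsg.Agent.Helper3.Co1ZW19
import Cfsg.Agent.Helper3.Co1ZW20
import Cfsg.Agent.Helper3.Co1ZW21
import Cfsg.Agent.Helper3.Co1ZW22
import Cfsg.Agent.Helper3.Co1ZW23
import Cfsg.Agent.Helper3.Co1ZW24

/-!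
# The top step of the tower for the Schur multiplier of the first Conway group

The covering group of exponent 60 of the presentation on five generators has at most
`2 * |Co₁|` elements: a labelled coset enumeration (`Cfsg.Agent.Helper3.Co1Z`, 98280 cosets, the
group of labels of order 2) over the image of the covering group of the stabiliser of a minimal
vector.
-/

set_option autoImplicit false

namespace Cfsg.Agent.Helper3.Co1ZG

open Cfsg Cfsg.Agent.Helper5 Cfsg.Agent.Helper5.StemP Cfsg.Agent.Helper5.LP Cfsg.Agent.Helper5.LTC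
  Cfsg.Agent.Helper2.Co2M Cfsg.Agent.Helper3.LTC64 Cfsg.Agent.Helper3.LTCW
  Cfsg.Agent.Helper3.TowerW

theorem gQ0_ne : gQ 0 ≠ 1 := gQ'_ne_one (rows_ok 0 (by norm_num)) (by norm_num) move_0

/-- the bound of the lower stage. -/
theorem bound4 : stage4.Bound 60 42305421312000 := by
  have hfin := card_cov60.1
  refine ⟨hfin, le_of_eq card_cov60.2, ?_⟩
  have hne : stage4.pi 60 (cgen 4 X.mm X.CC X.CC 60 0) ≠ 1 := by
    unfold cgen
    rw [stage4.pi_ev 60 [2 * 0] (by
      intro c hc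
      rw [List.mem_singleton] at hc
      omega)]
    rw [List.map_cons, List.map_nil, List.prod_cons, List.prod_nil, mul_one, lval_even]
    exact gQ0_ne
  have h := simple_range_of_ne 42305421312000
    ⟨simple_cov60, card_cov60.2⟩ (stage4.pi 60) _ hne
  exact le_of_eq h.2.symm

/-- the conjugation words of the top stage. -/
def FD : List (List ℕ × List ℕ × List ℕ × ℕ) :=
  [([8], [0], [7, 7, 2, 6, 6], 7),
   ([8], [2], [7, 7, 3, 0, 3, 0, 2, 0, 3, 3, 1, 1, 2, 6, 6], 7),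
   ([8], [4], [7, 7, 2, 4, 2, 2, 0, 3, 3, 3, 4, 2, 0, 5, 3, 6, 6], 11),
   ([8], [0, 0], [7, 7, 2, 2, 6, 6], 7)]

theorem FD_pow : ∀ q ∈ FD, (q.2.1.map (lval gQ)).prod ^ q.2.2.2 = 1 := by
  intro q hq
  unfold FD at hq
  simp only [List.mem_cons, List.not_mem_nil, or_false] at hq
  rcases hq with rfl | rfl | rfl | rfl
  · change ([0].map (lval gQ)).prod ^ 7 = 1
    rw [List.map_cons, List.map_nil, List.prod_cons, List.prod_nil, mul_one,
      show (0 : ℕ) = 2 * 0 from rfl, lval_even]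
    exact gQ_pow 0 (by norm_num)
  · change ([2].map (lval gQ)).prod ^ 7 = 1
    rw [List.map_cons, List.map_nil, List.prod_cons, List.prod_nil, mul_one,
      show (2 : ℕ) = 2 * 1 from rfl, lval_even]
    exact gQ_pow 1 (by norm_num)
  · change ([4].map (lval gQ)).prod ^ 11 = 1
    rw [List.map_cons, List.map_nil, List.prod_cons, List.prod_nil, mul_one,
      show (4 : ℕ) = 2 * 2 from rfl, lval_even]
    exact gQ_pow 2 (by norm_num)
  · change ([0, 0].map (lval gQ)).prod ^ 7 = 1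
    rw [List.map_cons, List.map_cons, List.map_nil, List.prod_cons, List.prod_cons, List.prod_nil,
      mul_one, show (0 : ℕ) = 2 * 0 from rfl, lval_even, ← pow_two, ← pow_mul,
      show 2 * 7 = 7 * 2 from rfl, pow_mul]
    have h := gQ_pow 0 (by norm_num)
    change gQ 0 ^ 7 = 1 at h
    rw [h, one_pow]

theorem free_ok : ∀ r ∈ CT.drop 5, Cfsg.Agent.Helper2.Tw.freeB 4 5 60 FD r = true := by
  decide +kernel

/-- the central words of the top stage after the first five are trivial in the covering group. -/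
theorem zC_triv : ∀ i, 5 ≤ i → zC 5 X.mm CT CT 60 i = 1 :=
  Cfsg.Agent.Helper2.Tw.zC_tail stage4 stage5 (by norm_num)
    (fun r hr => List.mem_append_right _ hr) bound4 5 FD FD_pow free_ok

theorem words_lt : ∀ wi, ∀ c ∈ Co1Z.cert.W wi, c < 2 * 5 := by
  intro wi c hc
  have h : ∀ w ∈ Co1Z.words, ∀ c ∈ w, c < 10 := by decide +kernel
  change c ∈ Co1Z.words.getD wi [] at hc
  by_cases hwi : wi < Co1Z.words.length
  · rw [List.getD_eq_getElem _ _ hwi] at hc
    exact h _ (List.getElem_mem hwi) c hc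
  · rw [List.getD_eq_default _ _ (by omega)] at hc
    simp at hc

theorem wordOK : ∀ wi, wi < Co1Z.cert.nrel →
    wordOK3 (coverRels 5 X.mm (EX ++ X.CC) (EX ++ X.CC) 60) (EX ++ X.CC) 5
      (Co1Z.cert.W wi) (Co1Z.cert.δ wi) (Co1Z.origs.getD wi 0) = true := by
  intro wi h
  have h' : wi < 1237 := h
  obtain ⟨k, i, hi, rfl⟩ : ∃ k i, i < 50 ∧ wi = 50 * k + i :=
    ⟨wi / 50, wi % 50, Nat.mod_lt _ (by norm_num), (Nat.div_add_mod wi 50).symm⟩
  have hk : k < 25 := by omega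
  interval_cases k
  · exact wo_0 i hi
  · exact wo_1 i hi
  · exact wo_2 i hi
  · exact wo_3 i hi
  · exact wo_4 i hi
  · exact wo_5 i hi
  · exact wo_6 i hi
  · exact wo_7 i hi
  · exact wo_8 i hi
  · exact wo_9 i hi
  · exact wo_10 i hi
  · exact wo_11 i hi
  · exact wo_12 i hi
  · exact wo_13 i hi
  · exact wo_14 i hi
  · exact wo_15 i hi
  · exact wo_16 i hi
  · exact wo_17 i hi
  · exact wo_18 i hi
  · exact wo_19 i hi
  · exact wo_20 i hi
  · exact wo_21 i hi
  · exact wo_22 i hi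
  · exact wo_23 i hi
  · exact wo_24 i (by omega)

theorem subW : ∀ wi, Co1Z.cert.nrel ≤ wi → wi < Co1Z.cert.nw →
    ∃ c, c < 2 * 4 ∧ Co1Z.cert.W wi = [c] := by
  intro wi h1 h2
  have h1' : 1237 ≤ wi := h1
  have h2' : wi < 1241 := h2
  interval_cases wi
  · exact ⟨0, by norm_num, by decide +kernel⟩
  · exact ⟨2, by norm_num, by decide +kernel⟩
  · exact ⟨4, by norm_num, by decide +kernel⟩
  · exact ⟨6, by norm_num, by decide +kernel⟩

/-- **the order of the covering group of the top stage.** -/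
theorem card_top : Finite (CovG 5 X.mm CT CT 60) ∧
    Nat.card (CovG 5 X.mm CT CT 60) ≤ 8315553613086720000 := by
  have h := stepW 4 5 X.mm X.CC EX 60 (by norm_num) X.CC_lt EX_lt (by norm_num) 5 (by norm_num)
    (fun i hi _ => zC_triv i hi) 42305421312000 ⟨card_cov60.1, le_of_eq card_cov60.2⟩
    Co1Z.cert rfl rfl rfl words_lt (fun wi => Co1Z.origs.getD wi 0) wordOK subW Co1Z.hchk Co1Z.tab
    (by decide +kernel) (by decide) Co1Z.hT Co1Z.js Co1Z.hjs 3 2 (by norm_num) (by norm_num)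
    Co1Z.cs0 Co1Z.h0 (fun i => Co1Z.as_.getD i 0) (fun i => Co1Z.css.getD i []) Co1Z.hgs
  have hN : Co1Z.tab.N = 98280 := rfl
  rw [hN] at h
  refine ⟨h.1, h.2.trans ?_⟩
  norm_num

end Cfsg.Agent.Helper3.Co1ZG
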