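import Mathlib
import Cfsg.Agent.Helper3.Co1ZT
import Cfsg.Agent.Helper9.Leech.Co1C
import Cfsg.Agent.Helper9.Co2O.Final

/-!
# The five generators generate the first Conway group

The first four generators fix the minimal vector `(4, 0, …, 0, 4)` and generate a subgroup of the
order of its stabiliser, so they generate this stabiliser; the fifth one does not fix the pair of
this vector and its opposite; the action on the 98280 pairs is primitive, so the stabiliser of a
pair is a maximal subgroup.
-/

set_option autoImplicit false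
set_option maxRecDepth 100000

namespace Cfsg.Agent.Helper3.Co1ZG

open Cfsg Cfsg.Agent.Helper5 Cfsg.Agent.Helper5.StemP Cfsg.Agent.Helper5.LP Cfsg.Agent.Helper5.LTC
  Cfsg.Agent.Helper2.Co2M Cfsg.Agent.Helper2.Tw
  Cfsg.Agent.Helper9.Golay Cfsg.Agent.Helper9.Leech Cfsg.Agent.Helper9.LeechAct

/-- the coordinates of the minimal vector. -/
def uL : List ℤ := [4, 0, 0, 0, 0, 0, 0, 0, 0, 0, 0, 0, 0, 0, 0, 0, 0, 0, 0, 0, 0, 0, 0, 4]

theorem coe_leechU : ((Spor.leechU : ↥leechLattice) : GolayPt → ℤ) = toVec uL :=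
  Cfsg.Agent.Helper9.Co2O.coeU

/-- the letter fixes the minimal vector. -/
def fixChk (c : ℕ) : Bool := wv [c] uL == uL.map (fun a => 8 ^ 1 * a)

/-- the letter moves the minimal vector off its line. -/
def moveUChk (c : ℕ) : Bool :=
  !(wv [c] uL == uL.map (fun a => 8 ^ 1 * a)) && !(wv [c] uL == uL.map (fun a => -(8 ^ 1 * a)))

theorem gw_leechU {c : ℕ} (hc : rowChk c = true) :
    ((((8 : ℤ) ^ 1) • gw c Spor.leechU : ↥leechLattice) : GolayPt → ℤ) = toVec (wv [c] uL) := by
  have hr : ∀ c' ∈ [c], rowChk c' = true := by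
    intro c' hc'
    rw [List.mem_singleton] at hc'
    rw [hc']
    exact hc
  have h := wv_apply [c] hr (by decide : uL.length = 24) coe_leechU
  rw [List.map_cons, List.map_nil, List.prod_cons, List.prod_nil, mul_one, List.length_cons,
    List.length_nil] at h
  exact h

theorem gw_fix {c : ℕ} (hc : rowChk c = true) (h : fixChk c = true) :
    gw c Spor.leechU = Spor.leechU := by
  have h0 := gw_leechU hc
  unfold fixChk at h
  rw [beq_iff_eq] at h
  rw [h] at h0
  apply Subtype.ext
  funext q
  have h2 := congrFun h0 q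
  rw [toVec_map _ (by rw [mul_zero]), AddSubgroup.coe_zsmul, Pi.smul_apply, smul_eq_mul,
    ← coe_leechU] at h2
  exact mul_left_cancel₀ (pow_ne_zero _ (by norm_num)) h2

theorem gw_move {c : ℕ} (hc : rowChk c = true) (h : moveUChk c = true) :
    gw c Spor.leechU ≠ Spor.leechU ∧ gw c Spor.leechU ≠ -Spor.leechU := by
  have h0 := gw_leechU hc
  unfold moveUChk at h
  rw [Bool.and_eq_true, Bool.not_eq_true', Bool.not_eq_true', beq_eq_false_iff_ne,
    beq_eq_false_iff_ne] at h
  have hlen : (wv [c] uL).length = 24 := by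
    apply wv_length _ _ _ (by decide)
    intro c' hc'
    rw [List.mem_singleton] at hc'
    rw [hc']
    exact hc
  constructor
  · intro h1
    apply h.1
    apply toVec_inj hlen (by decide)
    rw [← h0, h1]
    funext q
    rw [toVec_map _ (by rw [mul_zero]), AddSubgroup.coe_zsmul, Pi.smul_apply, smul_eq_mul,
      coe_leechU]
  · intro h1
    apply h.2
    apply toVec_inj hlen (by decide)
    rw [← h0, h1]
    funext q
    rw [toVec_map _ (by rw [mul_zero, neg_zero]), AddSubgroup.coe_zsmul, Pi.smul_apply, smul_eq_mul,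
      ← coe_leechU]
    change (8 : ℤ) ^ 1 * (-((Spor.leechU : ↥leechLattice) : GolayPt → ℤ) q) = _
    rw [mul_neg]

theorem fix_0 : fixChk 0 = true := by decide +kernel
theorem fix_2 : fixChk 2 = true := by decide +kernel
theorem fix_4 : fixChk 4 = true := by decide +kernel
theorem fix_6 : fixChk 6 = true := by decide +kernel
theorem moveU_8 : moveUChk 8 = true := by decide +kernel

/-! ### the first four generators generate the stabiliser -/

instance finCo0 : Finite ↥Co0 := Nat.finite_of_card_ne_zero (by rw [card_co0]; norm_num)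

/-- the subgroup generated by the first four generators. -/
def K0 : Subgroup ↥Co0 := Subgroup.closure {gC 0, gC 2, gC 4, gC 6}

theorem K0_le : K0 ≤ MulAction.stabilizer ↥Co0 Spor.leechU := by
  unfold K0
  rw [Subgroup.closure_le]
  intro g hg
  simp only [Set.mem_insert_iff, Set.mem_singleton_iff] at hg
  rw [SetLike.mem_coe, MulAction.mem_stabilizer_iff]
  rcases hg with rfl | rfl | rfl | rfl
  · exact gw_fix (rows_ok 0 (by norm_num)) fix_0
  · exact gw_fix (rows_ok 2 (by norm_num)) fix_2
  · exact gw_fix (rows_ok 4 (by norm_num)) fix_4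
  · exact gw_fix (rows_ok 6 (by norm_num)) fix_6

theorem range_pi4 : (stage4.pi 60).range =
    Subgroup.closure {gQ' 0, gQ' 2, gQ' 4, gQ' 6} := by
  rw [MonoidHom.range_eq_map, ← closure_cgen 4 X.mm X.CC X.CC 60, MonoidHom.map_closure]
  congr 1
  ext y
  constructor
  · rintro ⟨x, ⟨i, hi, rfl⟩, rfl⟩
    have e : stage4.pi 60 (cgen 4 X.mm X.CC X.CC 60 i) = gQ i := by
      unfold cgen
      rw [stage4.pi_ev 60 [2 * i] (by
        intro c hc
        rw [List.mem_singleton] at hc
        omega)]
      rw [List.map_cons, List.map_nil, List.prod_cons, List.prod_nil, mul_one, lval_even]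
    rw [e]
    simp only [Set.mem_insert_iff, Set.mem_singleton_iff]
    unfold gQ
    interval_cases i
    · left; rfl
    · right; left; rfl
    · right; right; left; rfl
    · right; right; right; rfl
  · intro hy
    simp only [Set.mem_insert_iff, Set.mem_singleton_iff] at hy
    have e : ∀ i, i < 4 → stage4.pi 60 (cgen 4 X.mm X.CC X.CC 60 i) = gQ' (2 * i) := by
      intro i hi
      unfold cgen
      rw [stage4.pi_ev 60 [2 * i] (by
        intro c hc
        rw [List.mem_singleton] at hc
        omega)]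
      rw [List.map_cons, List.map_nil, List.prod_cons, List.prod_nil, mul_one, lval_even]
      rfl
    rcases hy with rfl | rfl | rfl | rfl
    · exact ⟨_, ⟨0, by norm_num, rfl⟩, e 0 (by norm_num)⟩
    · exact ⟨_, ⟨1, by norm_num, rfl⟩, e 1 (by norm_num)⟩
    · exact ⟨_, ⟨2, by norm_num, rfl⟩, e 2 (by norm_num)⟩
    · exact ⟨_, ⟨3, by norm_num, rfl⟩, e 3 (by norm_num)⟩

theorem map_K0 : K0.map (QuotientGroup.mk' (Subgroup.center ↥Co0)) =
    Subgroup.closure {gQ' 0, gQ' 2, gQ' 4, gQ' 6} := by
  unfold K0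
  rw [MonoidHom.map_closure]
  congr 1
  simp only [Set.image_insert_eq, Set.image_singleton]
  rfl

theorem K0_eq : K0 = MulAction.stabilizer ↥Co0 Spor.leechU := by
  apply Subgroup.eq_of_le_of_card_ge K0_le
  rw [(co2_simple_card Spor.leechU Cfsg.Agent.Helper9.Co2O.normU).2]
  have h1 : 42305421312000 ≤ Nat.card (stage4.pi 60).range := bound4.2.2
  rw [range_pi4, ← map_K0] at h1
  exact h1.trans (Nat.le_of_dvd Nat.card_pos (Subgroup.card_map_dvd K0 _))

/-! ### the five generators generate the group -/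

/-- the subgroup of the automorphism group generated by the five generators. -/
def D0 : Subgroup ↥Co0 := Subgroup.closure {gC 0, gC 2, gC 4, gC 6, gC 8}

theorem K0_le_D0 : K0 ≤ D0 := by
  unfold K0 D0
  apply Subgroup.closure_mono
  intro x hx
  rw [Set.mem_insert_iff, Set.mem_insert_iff, Set.mem_insert_iff, Set.mem_singleton_iff] at hx
  rcases hx with h | h | h | h
  · rw [h]
    exact Set.mem_insert _ _
  · rw [h]
    exact Set.mem_insert_of_mem _ (Set.mem_insert _ _)
  · rw [h]
    exact Set.mem_insert_of_mem _ (Set.mem_insert_of_mem _ (Set.mem_insert _ _))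
  · rw [h]
    exact Set.mem_insert_of_mem _ (Set.mem_insert_of_mem _ (Set.mem_insert_of_mem _
      (Set.mem_insert _ _)))

theorem gC8_mem : gC 8 ∈ D0 := by
  unfold D0
  apply Subgroup.subset_closure
  exact Set.mem_insert_of_mem _ (Set.mem_insert_of_mem _ (Set.mem_insert_of_mem _
    (Set.mem_insert_of_mem _ (Set.mem_singleton _))))

theorem map_D0_top : D0.map toR = ⊤ := by
  have hv := Cfsg.Agent.Helper9.Co2O.normU
  have := co1_preprim Spor.leechU hv
  have hcard := co1_card_pts
  have : Nontrivial ↥co1Pts := by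
    have : Finite ↥co1Pts := Nat.finite_of_card_ne_zero (by rw [hcard]; norm_num)
    rw [← Finite.one_lt_card_iff_nontrivial, hcard]
    norm_num
  have hco := MulAction.IsPreprimitive.isCoatom_stabilizer_of_isPreprimitive
    (G := ↥co1Grp) (prPt Spor.leechU hv)
  have hle : MulAction.stabilizer ↥co1Grp (prPt Spor.leechU hv) ≤ D0.map toR := by
    intro r hr
    obtain ⟨k, hk⟩ := stabHom_surjective Spor.leechU hv ⟨r, hr⟩
    have hk' : toR k.1 = r := congrArg Subtype.val hk
    refine ⟨k.1, K0_le_D0 ?_, hk'⟩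
    rw [K0_eq]
    exact k.2
  have hne : MulAction.stabilizer ↥co1Grp (prPt Spor.leechU hv) ≠ D0.map toR := by
    intro h
    have hmem : toR (gC 8) ∈ MulAction.stabilizer ↥co1Grp (prPt Spor.leechU hv) := by
      rw [h]
      exact ⟨gC 8, gC8_mem, rfl⟩
    rw [MulAction.mem_stabilizer_iff, toR_smul, smul_prPt] at hmem
    have h2 : pr (gC 8 • Spor.leechU) = pr Spor.leechU := congrArg Subtype.val hmem
    obtain ⟨m1, m2⟩ := gw_move (rows_ok 8 (by norm_num)) moveU_8
    rcases pr_eq_pr.mp h2 with h3 | h3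
    · exact m1 h3
    · exact m2 h3
  exact hco.2 _ (lt_of_le_of_ne hle hne)

/-- **the five generators generate the quotient by the centre.** -/
theorem gQ_closure : Subgroup.closure {y : Spor.Co1 | ∃ i, i < 5 ∧ y = gQ i} = ⊤ := by
  have hv := Cfsg.Agent.Helper9.Co2O.normU
  rw [eq_top_iff]
  intro y _
  obtain ⟨g, rfl⟩ := QuotientGroup.mk_surjective y
  have h1 : toR g ∈ D0.map toR := by
    rw [map_D0_top]
    exact Subgroup.mem_top _
  obtain ⟨h, hh, hhg⟩ := h1
  have h2 : h⁻¹ * g ∈ Subgroup.center ↥Co0 := by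
    rw [← ker_eq_center Spor.leechU hv, MonoidHom.mem_ker]
    have h3 : toR (h⁻¹ * g) = 1 := by rw [map_mul, map_inv, hhg, inv_mul_cancel]
    exact congrArg Subtype.val h3
  have h4 : (QuotientGroup.mk g : Spor.Co1) = QuotientGroup.mk h := by
    rw [eq_comm, QuotientGroup.eq]
    exact h2
  rw [h4]
  have h5 : (QuotientGroup.mk h : Spor.Co1) ∈ D0.map (QuotientGroup.mk' (Subgroup.center ↥Co0)) :=
    ⟨h, hh, rfl⟩
  unfold D0 at h5
  rw [MonoidHom.map_closure] at h5
  refine Subgroup.closure_mono ?_ h5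
  rintro z ⟨w, hw, rfl⟩
  simp only [Set.mem_insert_iff, Set.mem_singleton_iff] at hw
  rcases hw with rfl | rfl | rfl | rfl | rfl
  · exact ⟨0, by norm_num, rfl⟩
  · exact ⟨1, by norm_num, rfl⟩
  · exact ⟨2, by norm_num, rfl⟩
  · exact ⟨3, by norm_num, rfl⟩
  · exact ⟨4, by norm_num, rfl⟩

end Cfsg.Agent.Helper3.Co1ZG
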