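import Mathlib
import Cfsg.Prelude.Def_KGroupFacts

/-!
# The 2-part of the Schur multiplier by transfer to a subgroup of odd index

`pow_index_mem_commutator`: in a stem extension, a central element of the commutator subgroup raised to
the index of a subgroup lies in the commutator subgroup of this subgroup (transfer).
`stem_of_central_surj`: a surjection with central kernel onto a perfect group restricts to a stem
extension on the commutator subgroup.  `not_two_dvd_card_ker`: if a perfect subgroup `H` of odd index has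
centre of order 2 and the finite stem extensions of `H / Z(H)` have kernels of order dividing 6, the
finite stem extensions of the group have kernels of odd order.
-/

set_option autoImplicit false

namespace Cfsg.Agent.Helper3.StemTransfer

open scoped commutatorElement

universe u v

section transfer
variable {Γ : Type*} [Group Γ]

/-- **transfer**: a central element of the commutator subgroup, raised to the index of a subgroup,
lies in the commutator subgroup of this subgroup. -/
theorem pow_index_mem_commutator (A : Subgroup Γ) [A.FiniteIndex] (z : Γ)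
    (hzc : z ∈ Subgroup.center Γ) (hzd : z ∈ commutator Γ) :
    ∃ h : z ^ A.index ∈ A, (⟨z ^ A.index, h⟩ : A) ∈ commutator A := by
  have key : ∀ (k : ℕ) (g₀ : Γ), g₀⁻¹ * z ^ k * g₀ ∈ A → g₀⁻¹ * z ^ k * g₀ = z ^ k := by
    intro k g₀ _
    have h1 : z ^ k ∈ Subgroup.center Γ := Subgroup.pow_mem _ hzc k
    rw [mul_assoc, ← Subgroup.mem_center_iff.mp h1 g₀, inv_mul_cancel_left]
  refine ⟨MonoidHom.transfer_eq_pow_aux z key, ?_⟩
  have h1 := MonoidHom.transfer_eq_pow (Abelianization.of : A →* Abelianization A) z key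
  have h2 : z ∈ (MonoidHom.transfer (Abelianization.of : A →* Abelianization A)).ker :=
    Abelianization.commutator_subset_ker _ hzd
  rw [MonoidHom.mem_ker, h1] at h2
  rw [← Abelianization.ker_of]
  exact h2

end transfer

section aux
variable {A : Type*} [Group A]

/-- central factors drop out of commutators. -/
theorem commutatorElement_mul_central {a b c c' : A} (hc : c ∈ Subgroup.center A)
    (hc' : c' ∈ Subgroup.center A) : ⁅a * c, b * c'⁆ = ⁅a, b⁆ := by
  have h1 : ∀ y : A, ⁅a * c, y⁆ = ⁅a, y⁆ := by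
    intro y
    have h : c * y * c⁻¹ = y := by
      rw [← Subgroup.mem_center_iff.mp hc y, mul_inv_cancel_right]
    rw [commutatorElement_def, commutatorElement_def, mul_inv_rev]
    calc a * c * y * (c⁻¹ * a⁻¹) * y⁻¹ = a * (c * y * c⁻¹) * a⁻¹ * y⁻¹ := by group
      _ = a * y * a⁻¹ * y⁻¹ := by rw [h]
  have h2 : ∀ x : A, ⁅x, b * c'⁆ = ⁅x, b⁆ := by
    intro x
    have h : c' * x⁻¹ * c'⁻¹ = x⁻¹ := by
      rw [← Subgroup.mem_center_iff.mp hc' x⁻¹, mul_inv_cancel_right]
    rw [commutatorElement_def, commutatorElement_def, mul_inv_rev]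
    calc x * (b * c') * x⁻¹ * (c'⁻¹ * b⁻¹) = x * b * (c' * x⁻¹ * c'⁻¹) * b⁻¹ := by group
      _ = x * b * x⁻¹ * b⁻¹ := by rw [h]
  rw [h1, h2]

/-- if a normal subgroup `C` has `⁅C, ⊤⁆` central, the commutator subgroup centralises `C`. -/
theorem commutator_comm_of_central (C : Subgroup A) [C.Normal]
    (h : ⁅C, (⊤ : Subgroup A)⁆ ≤ Subgroup.center A) (d : A) (hd : d ∈ commutator A) (k : A)
    (hk : k ∈ C) : d * k = k * d := by
  have h1 : ⁅⁅C, (⊤ : Subgroup A)⁆, (⊤ : Subgroup A)⁆ = ⊥ := by
    rw [Subgroup.commutator_eq_bot_iff_le_centralizer]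
    intro x hx
    rw [Subgroup.mem_centralizer_iff]
    intro y _
    exact Subgroup.mem_center_iff.mp (h hx) y
  have h2 : ⁅⁅(⊤ : Subgroup A), C⁆, (⊤ : Subgroup A)⁆ = ⊥ := by
    rw [Subgroup.commutator_comm (⊤ : Subgroup A) C]
    exact h1
  have h3 : ⁅⁅(⊤ : Subgroup A), (⊤ : Subgroup A)⁆, C⁆ = ⊥ :=
    Subgroup.commutator_commutator_eq_bot_of_rotate h2 h1
  rw [Subgroup.commutator_eq_bot_iff_le_centralizer] at h3
  have h4 := h3 hd
  rw [Subgroup.mem_centralizer_iff] at h4
  exact (h4 k hk).symm

end aux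


section core
variable {K : Type u} [Group K] {A : Type u} [Group A]

theorem map_commutator_top {B : Type*} [Group B] {L : Type*} [Group L] (f : B →* L)
    (hf : Function.Surjective f) : (commutator B).map f = commutator L := by
  rw [commutator_def, commutator_def, Subgroup.map_commutator,
    Subgroup.map_top_of_surjective f hf]

/-- a surjection with central kernel onto a perfect group restricts to a stem extension on the
commutator subgroup. -/
theorem stem_of_central_surj (ρ0 : A →* K) (hs : Function.Surjective ρ0)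
    (hc : ρ0.ker ≤ Subgroup.center A) (hKp : commutator K = ⊤) :
    Cfsg.IsStemExtension (ρ0.comp (commutator A).subtype) := by
  have hmap : (commutator A).map ρ0 = ⊤ := by rw [map_commutator_top ρ0 hs, hKp]
  have hlift : ∀ x : A, ∃ d ∈ commutator A, ∃ c ∈ Subgroup.center A, x = d * c := by
    intro x
    have h1 : ρ0 x ∈ (commutator A).map ρ0 := by rw [hmap]; exact Subgroup.mem_top _
    obtain ⟨d, hd, hdx⟩ := h1
    refine ⟨d, hd, d⁻¹ * x, hc ?_, by group⟩
    rw [MonoidHom.mem_ker, map_mul, map_inv, hdx, inv_mul_cancel]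
  refine ⟨?_, ?_, ?_⟩
  · intro y
    have h1 : y ∈ (commutator A).map ρ0 := by rw [hmap]; exact Subgroup.mem_top _
    obtain ⟨d, hd, hdy⟩ := h1
    exact ⟨⟨d, hd⟩, hdy⟩
  · intro k hk
    have h1 : (k : A) ∈ Subgroup.center A := hc hk
    rw [Subgroup.mem_center_iff]
    intro g
    apply Subtype.ext
    exact Subgroup.mem_center_iff.mp h1 g
  · have hperf : commutator (commutator A) = ⊤ := by
      rw [eq_top_iff]
      intro d _
      have h1 : ⁅(⊤ : Subgroup A), (⊤ : Subgroup A)⁆ ≤
          (commutator (commutator A)).map (commutator A).subtype := by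
        rw [Subgroup.commutator_le]
        intro x _ y _
        obtain ⟨dx, hdx, cx, hcx, rfl⟩ := hlift x
        obtain ⟨dy, hdy, cy, hcy, rfl⟩ := hlift y
        rw [commutatorElement_mul_central hcx hcy]
        refine ⟨⁅(⟨dx, hdx⟩ : commutator A), (⟨dy, hdy⟩ : commutator A)⁆, ?_, rfl⟩
        rw [commutator_def (commutator A)]
        exact Subgroup.commutator_mem_commutator (Subgroup.mem_top _) (Subgroup.mem_top _)
      obtain ⟨d', hd', hdd⟩ := h1 d.2
      have : d' = d := Subtype.ext hdd
      rw [← this]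
      exact hd'
    rw [hperf]
    exact le_top

end core


section main
variable {G : Type v} {K : Type u} [Group G] [Group K]

/-- **the 2-part of a stem extension, by transfer to a subgroup of odd index**: if `H` has odd
index in `G`, is perfect with centre of order 2, and the kernels of the finite stem extensions of
`H / Z(H) ≃ K` have orders dividing 6, then the kernels of the finite stem extensions of `G` have
odd order. -/
theorem not_two_dvd_card_ker (H : Subgroup G) (hodd : Odd H.index)
    (hZ : Nat.card (Subgroup.center H) = 2) (e : H ⧸ Subgroup.center H ≃* K)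
    (hperf : commutator H = ⊤)
    (hK : ∀ (Δ : Type u) [Group Δ] [Finite Δ] (ρ : Δ →* K), Cfsg.IsStemExtension ρ →
      Nat.card ρ.ker ∣ 6)
    {Γ : Type u} [Group Γ] [Finite Γ] (σ : Γ →* G) (hσ : Cfsg.IsStemExtension σ) :
    ¬ 2 ∣ Nat.card σ.ker := by
  intro h2
  obtain ⟨z0, hz0⟩ := exists_prime_orderOf_dvd_card' (G := σ.ker) 2 h2
  obtain ⟨z, hzk⟩ := z0
  have hzo : orderOf z = 2 := by
    rw [← hz0]
    exact (Subgroup.orderOf_mk z hzk).symm
  have hz2 : z ^ 2 = 1 := by rw [← hzo]; exact pow_orderOf_eq_one z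
  have hz1 : z ≠ 1 := by
    intro h
    rw [h, orderOf_one] at hzo
    omega
  -- the subgroup over `H`
  have hAidx : (H.comap σ).index = H.index := Subgroup.index_comap_of_surjective H hσ.1
  have hidx0 : H.index ≠ 0 := by
    obtain ⟨m, hm⟩ := hodd
    omega
  have : (H.comap σ).FiniteIndex := ⟨by rw [hAidx]; exact hidx0⟩
  obtain ⟨hzA, hzD⟩ := pow_index_mem_commutator (H.comap σ) z (hσ.2.1 hzk) (hσ.2.2 hzk)
  have hzpow : z ^ (H.comap σ).index = z := by
    obtain ⟨m, hm⟩ := hodd
    rw [hAidx, hm, pow_succ, pow_mul, hz2, one_pow, one_mul]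
  have hzA' : z ∈ H.comap σ := by rw [← hzpow]; exact hzA
  have hzD' : (⟨z, hzA'⟩ : H.comap σ) ∈ commutator (H.comap σ) := by
    have : (⟨z, hzA'⟩ : H.comap σ) = ⟨z ^ (H.comap σ).index, hzA⟩ := Subtype.ext hzpow.symm
    rw [this]
    exact hzD
  -- the maps
  have hσH : Function.Surjective (σ.subgroupComap H) :=
    MonoidHom.subgroupComap_surjective_of_surjective σ H hσ.1
  have hπ : Function.Surjective
      (e.toMonoidHom.comp (QuotientGroup.mk' (Subgroup.center H))) :=
    e.surjective.comp (QuotientGroup.mk'_surjective _)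
  have hπk : ∀ t : H, (e.toMonoidHom.comp (QuotientGroup.mk' (Subgroup.center H))) t = 1 ↔
      t ∈ Subgroup.center H := by
    intro t
    rw [MonoidHom.comp_apply]
    show e (QuotientGroup.mk' _ t) = 1 ↔ _
    rw [MulEquiv.map_eq_one_iff, QuotientGroup.mk'_apply, QuotientGroup.eq_one_iff]
  have hKp : commutator K = ⊤ := by
    rw [← map_commutator_top _ hπ, hperf, Subgroup.map_top_of_surjective _ hπ]
  -- the kernel of `σ` on the subgroup is central
  have hker_c : ∀ w : H.comap σ, σ.subgroupComap H w = 1 → w ∈ Subgroup.center (H.comap σ) := by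
    intro w hw
    have h1 : (w : Γ) ∈ σ.ker := by
      rw [MonoidHom.mem_ker]
      exact congrArg Subtype.val hw
    have h3 := hσ.2.1 h1
    rw [Subgroup.mem_center_iff]
    intro g
    apply Subtype.ext
    exact Subgroup.mem_center_iff.mp h3 g
  -- the composite onto `K` has central kernel
  have hρ0 : Function.Surjective
      ((e.toMonoidHom.comp (QuotientGroup.mk' (Subgroup.center H))).comp (σ.subgroupComap H)) :=
    hπ.comp hσH
  have hC : ⁅((e.toMonoidHom.comp (QuotientGroup.mk' (Subgroup.center H))).comp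
      (σ.subgroupComap H)).ker, (⊤ : Subgroup (H.comap σ))⁆ ≤ Subgroup.center (H.comap σ) := by
    rw [Subgroup.commutator_le]
    intro k hk x _
    apply hker_c
    rw [map_commutatorElement]
    have h1 : σ.subgroupComap H k ∈ Subgroup.center H := (hπk _).mp hk
    rw [commutatorElement_eq_one_iff_commute]
    exact (Subgroup.mem_center_iff.mp h1 (σ.subgroupComap H x)).symm
  have hcen : ((e.toMonoidHom.comp (QuotientGroup.mk' (Subgroup.center H))).comp
      (σ.subgroupComap H)).ker ≤ Subgroup.center (H.comap σ) := by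
    intro k hk
    rw [Subgroup.mem_center_iff]
    intro x
    have h1 : σ.subgroupComap H x ∈ (commutator (H.comap σ)).map (σ.subgroupComap H) := by
      rw [map_commutator_top _ hσH, hperf]
      exact Subgroup.mem_top _
    obtain ⟨d, hd, hdx⟩ := h1
    have hw : d⁻¹ * x ∈ Subgroup.center (H.comap σ) :=
      hker_c _ (by rw [map_mul, map_inv, hdx, inv_mul_cancel])
    have hdk : d * k = k * d := commutator_comm_of_central _ hC d hd k hk
    have hwk : k * (d⁻¹ * x) = (d⁻¹ * x) * k := Subgroup.mem_center_iff.mp hw k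
    calc x * k = d * ((d⁻¹ * x) * k) := by group
      _ = d * (k * (d⁻¹ * x)) := by rw [hwk]
      _ = (d * k) * (d⁻¹ * x) := by group
      _ = (k * d) * (d⁻¹ * x) := by rw [hdk]
      _ = k * x := by group
  have hstem := stem_of_central_surj _ hρ0 hcen hKp
  have hdiv := hK _ _ hstem
  -- counting in the kernel
  have hne : Subgroup.center H ≠ ⊥ := by
    intro h
    rw [h, Subgroup.card_bot] at hZ
    omega
  obtain ⟨t0, ht0⟩ := (Subgroup.ne_bot_iff_exists_ne_one).mp hne
  obtain ⟨t, ht⟩ := t0
  have ht1 : t ≠ 1 := by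
    intro h
    apply ht0
    exact Subtype.ext h
  have ht2 : t ^ 2 = 1 := by
    have h1 : (⟨t, ht⟩ : Subgroup.center H) ^ Nat.card (Subgroup.center H) = 1 := pow_card_eq_one'
    rw [hZ] at h1
    exact congrArg Subtype.val h1
  have hto : orderOf t = 2 := orderOf_eq_prime ht2 ht1
  have h1 : t ∈ (commutator (H.comap σ)).map (σ.subgroupComap H) := by
    rw [map_commutator_top _ hσH, hperf]
    exact Subgroup.mem_top _
  obtain ⟨δ, hδ, hδt⟩ := h1
  have hσz : σ.subgroupComap H ⟨z, hzA'⟩ = 1 := Subtype.ext (MonoidHom.mem_ker.mp hzk)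
  have hzM : (⟨⟨z, hzA'⟩, hzD'⟩ : commutator (H.comap σ)) ∈
      (((e.toMonoidHom.comp (QuotientGroup.mk' (Subgroup.center H))).comp
        (σ.subgroupComap H)).comp (commutator (H.comap σ)).subtype).ker := by
    rw [MonoidHom.mem_ker]
    show (e.toMonoidHom.comp (QuotientGroup.mk' (Subgroup.center H)))
      (σ.subgroupComap H ⟨z, hzA'⟩) = 1
    rw [hπk, hσz]
    exact Subgroup.one_mem _
  have hδM : (⟨δ, hδ⟩ : commutator (H.comap σ)) ∈
      (((e.toMonoidHom.comp (QuotientGroup.mk' (Subgroup.center H))).comp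
        (σ.subgroupComap H)).comp (commutator (H.comap σ)).subtype).ker := by
    rw [MonoidHom.mem_ker]
    show (e.toMonoidHom.comp (QuotientGroup.mk' (Subgroup.center H)))
      (σ.subgroupComap H δ) = 1
    rw [hπk, hδt]
    exact ht
  generalize hρ : ((e.toMonoidHom.comp (QuotientGroup.mk' (Subgroup.center H))).comp
        (σ.subgroupComap H)).comp (commutator (H.comap σ)).subtype = ρ at hdiv hzM hδM
  let f : ρ.ker →* H :=
    (σ.subgroupComap H).comp ((commutator (H.comap σ)).subtype.comp ρ.ker.subtype)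
  have hcard : Nat.card f.ker * Nat.card f.range = Nat.card ρ.ker := by
    rw [← Subgroup.index_ker]
    exact Subgroup.card_mul_index f.ker
  have h2k : 2 ∣ Nat.card f.ker := by
    have hmem : (⟨⟨⟨z, hzA'⟩, hzD'⟩, hzM⟩ : ρ.ker) ∈ f.ker := by
      rw [MonoidHom.mem_ker]
      exact hσz
    have ho : orderOf (⟨⟨⟨⟨z, hzA'⟩, hzD'⟩, hzM⟩, hmem⟩ : f.ker) = 2 := by
      rw [Subgroup.orderOf_mk, Subgroup.orderOf_mk, Subgroup.orderOf_mk, Subgroup.orderOf_mk]
      exact hzo
    rw [← ho]
    exact orderOf_dvd_natCard _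
  have h2r : 2 ∣ Nat.card f.range := by
    have hmem : t ∈ f.range := ⟨⟨⟨δ, hδ⟩, hδM⟩, hδt⟩
    have ho : orderOf (⟨t, hmem⟩ : f.range) = 2 := by
      rw [Subgroup.orderOf_mk]
      exact hto
    rw [← ho]
    exact orderOf_dvd_natCard _
  have h4 : 2 * 2 ∣ Nat.card ρ.ker := by
    rw [← hcard]
    exact Nat.mul_dvd_mul h2k h2r
  exact absurd (dvd_trans h4 hdiv) (by decide)

end main

end Cfsg.Agent.Helper3.StemTransfer
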