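import Mathlib
import Cfsg.Agent.Helper3.StemB
import Cfsg.Agent.Helper5.SL2Borel

/-!
Helper lemmas (helper3): the unipotent subgroup of `SL₂(q)`, `q ∉ {4, 9}`, has commutative preimage
in every central extension (torus-invariance of the commutator pairing).
-/

set_option autoImplicit false

namespace Cfsg.Agent.Helper3.Stem

open scoped commutatorElement
open Polynomial

/-- A biadditive pairing on a field that is invariant under simultaneous scaling by nonzero squares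
is trivial as soon as there is a nonzero square `μ` with `μ + 1` a nonzero square and
`μ⁻¹ + μ + 1 ≠ 0`. -/
theorem biadd_trivial {F A : Type*} [Field F] [Group A] (β : F → F → A)
    (hl : ∀ x x' y, β (x + x') y = β x y * β x' y)
    (hr : ∀ x y y', β x (y + y') = β x y * β x y')
    (hinv : ∀ μ : F, μ ≠ 0 → IsSquare μ → ∀ x y, β (μ * x) (μ * y) = β x y)
    (μ : F) (h1 : μ ≠ 0) (h2 : IsSquare μ) (h3 : μ + 1 ≠ 0) (h4 : IsSquare (μ + 1))
    (h5 : μ⁻¹ + μ + 1 ≠ 0) (x y : F) : β x y = 1 := by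
  have key : ∀ x y : F, β x ((μ⁻¹ + μ + 1) * y) = 1 := by
    intro x y
    have e1 := hinv (μ + 1) h3 h4 x y
    have e2 := hinv μ h1 h2 x y
    have e3 : β (μ * x) y = β x (μ⁻¹ * y) := by
      have := hinv μ⁻¹ (inv_ne_zero h1) (by
        obtain ⟨r, hr⟩ := h2
        exact ⟨r⁻¹, by rw [hr, mul_inv]⟩) (μ * x) y
      rw [inv_mul_cancel_left₀ h1] at this
      exact this.symm
    rw [add_mul, add_mul, one_mul, one_mul, hl, hr, hr, e2, e3] at e1
    rw [add_mul, add_mul, one_mul, hr, hr]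
    -- e1 : β x y * β x (μ⁻¹ y) * (β x (μ y) * β x y) = β x y
    have e4 : β x y * (β x (μ⁻¹ * y) * β x (μ * y) * β x y) = β x y * 1 := by
      rw [mul_one]
      calc β x y * (β x (μ⁻¹ * y) * β x (μ * y) * β x y)
          = β x y * β x (μ⁻¹ * y) * (β x (μ * y) * β x y) := by
            simp only [mul_assoc]
        _ = β x y := e1
    exact mul_left_cancel e4
  have := key x ((μ⁻¹ + μ + 1)⁻¹ * y)
  rwa [mul_inv_cancel_left₀ h5] at this

theorem exists_eval_ne_zero {F : Type*} [Field F] [Fintype F] (P : F[X]) (hP : P ≠ 0)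
    (hdeg : P.natDegree < Fintype.card F) : ∃ s, P.eval s ≠ 0 := by
  by_contra hcon
  push Not at hcon
  apply hP
  apply Polynomial.eq_zero_of_natDegree_lt_card_of_eval_eq_zero' P Finset.univ
    (fun i _ => hcon i)
  rw [Finset.card_univ]
  exact hdeg

theorem kappa_ne_zero {F : Type*} [Field F] (μ : F) (h1 : μ ≠ 0) (h : μ ^ 2 + μ + 1 ≠ 0) :
    μ⁻¹ + μ + 1 ≠ 0 := by
  intro h0
  apply h
  have : μ ^ 2 + μ + 1 = μ * (μ⁻¹ + μ + 1) := by field_simp; ring
  rw [this, h0, mul_zero]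

theorem exists_mu_char_two {F : Type*} [Field F] [Fintype F] (h2 : ringChar F = 2)
    (h : 4 < Fintype.card F) :
    ∃ μ : F, μ ≠ 0 ∧ IsSquare μ ∧ μ + 1 ≠ 0 ∧ IsSquare (μ + 1) ∧ μ⁻¹ + μ + 1 ≠ 0 := by
  obtain ⟨P, hPdef⟩ : ∃ P : F[X], P = X * (X + 1) * (X ^ 2 + X + 1) := ⟨_, rfl⟩
  have hdeg : P.natDegree = 4 := by
    rw [hPdef]; compute_degree!
  have hP : P ≠ 0 := by
    intro h0
    rw [h0] at hdeg
    simp at hdeg
  obtain ⟨μ, hμ⟩ := exists_eval_ne_zero P hP (by rw [hdeg]; exact h)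
  rw [hPdef] at hμ
  simp only [eval_mul, eval_add, eval_X, eval_one, eval_pow] at hμ
  have h1 : μ ≠ 0 := fun h0 => hμ (by rw [h0]; ring)
  have h3 : μ + 1 ≠ 0 := fun h0 => hμ (by rw [h0]; ring)
  have h5 : μ ^ 2 + μ + 1 ≠ 0 := fun h0 => hμ (by rw [h0]; ring)
  exact ⟨μ, h1, FiniteField.isSquare_of_char_two h2 μ, h3,
    FiniteField.isSquare_of_char_two h2 (μ + 1), kappa_ne_zero μ h1 h5⟩

theorem exists_mu_odd {F : Type*} [Field F] [Fintype F] (h2 : (2 : F) ≠ 0)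
    (h : 13 < Fintype.card F) :
    ∃ μ : F, μ ≠ 0 ∧ IsSquare μ ∧ μ + 1 ≠ 0 ∧ IsSquare (μ + 1) ∧ μ⁻¹ + μ + 1 ≠ 0 := by
  obtain ⟨P, hPdef⟩ : ∃ P : F[X], P = X * (X ^ 2 - 1) * (X ^ 2 + 1) *
      ((X ^ 2 - 1) ^ 4 + (X ^ 2 - 1) ^ 2 * (C 2 * X) ^ 2 + (C 2 * X) ^ 4) := ⟨_, rfl⟩
  have hdeg : P.natDegree = 13 := by
    rw [hPdef]; compute_degree!
  have hP : P ≠ 0 := by
    intro h0
    rw [h0] at hdeg
    simp at hdeg
  obtain ⟨s, hs⟩ := exists_eval_ne_zero P hP (by rw [hdeg]; exact h)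
  rw [hPdef] at hs
  simp only [eval_mul, eval_add, eval_sub, eval_X, eval_one, eval_pow, eval_C] at hs
  have hs0 : s ≠ 0 := fun h0 => hs (by rw [h0]; ring)
  have hs1 : s ^ 2 - 1 ≠ 0 := fun h0 => hs (by rw [h0]; ring)
  have hs2 : s ^ 2 + 1 ≠ 0 := fun h0 => hs (by rw [h0]; ring)
  have hs3 : (s ^ 2 - 1) ^ 4 + (s ^ 2 - 1) ^ 2 * (2 * s) ^ 2 + (2 * s) ^ 4 ≠ 0 :=
    fun h0 => hs (by rw [h0]; ring)
  have h2s : 2 * s ≠ 0 := mul_ne_zero h2 hs0
  obtain ⟨t, htdef⟩ : ∃ t : F, t = (s ^ 2 - 1) / (2 * s) := ⟨_, rfl⟩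
  obtain ⟨u, hudef⟩ : ∃ u : F, u = (s ^ 2 + 1) / (2 * s) := ⟨_, rfl⟩
  have ht : t ≠ 0 := by rw [htdef]; exact div_ne_zero hs1 h2s
  have hu : u ≠ 0 := by rw [hudef]; exact div_ne_zero hs2 h2s
  have htu : t * t + 1 = u * u := by
    rw [htdef, hudef]; field_simp; ring
  refine ⟨t * t, mul_ne_zero ht ht, ⟨t, rfl⟩, ?_, ?_, ?_⟩
  · rw [htu]; exact mul_ne_zero hu hu
  · rw [htu]; exact ⟨u, rfl⟩
  · apply kappa_ne_zero _ (mul_ne_zero ht ht)
    have : (t * t) ^ 2 + t * t + 1 =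
        ((s ^ 2 - 1) ^ 4 + (s ^ 2 - 1) ^ 2 * (2 * s) ^ 2 + (2 * s) ^ 4) / (2 * s) ^ 4 := by
      rw [htdef]; field_simp
    rw [this]
    exact div_ne_zero hs3 (pow_ne_zero 4 h2s)

theorem exists_mu {F : Type*} [Field F] [Fintype F] (h4 : Fintype.card F ≠ 4)
    (h9 : Fintype.card F ≠ 9) (hnp : ¬ (Fintype.card F).Prime) :
    ∃ μ : F, μ ≠ 0 ∧ IsSquare μ ∧ μ + 1 ≠ 0 ∧ IsSquare (μ + 1) ∧ μ⁻¹ + μ + 1 ≠ 0 := by
  obtain ⟨p, hchar⟩ := CharP.exists F
  obtain ⟨n, hp, hcard⟩ := FiniteField.card F p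
  have hn1 : (n : ℕ) ≠ 1 := by
    intro h1
    apply hnp
    rw [hcard, h1, pow_one]; exact hp
  have hn2 : 2 ≤ (n : ℕ) := by
    have := n.pos
    omega
  by_cases hp2 : p = 2
  · subst hp2
    have hn3 : 3 ≤ (n : ℕ) := by
      rcases Nat.lt_or_ge (n : ℕ) 3 with h | h
      · exfalso
        have : (n : ℕ) = 2 := by omega
        apply h4
        rw [hcard, this]; norm_num
      · exact h
    apply exists_mu_char_two (ringChar.eq F 2)
    rw [hcard]
    calc 4 < 2 ^ 3 := by norm_num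
      _ ≤ 2 ^ (n : ℕ) := Nat.pow_le_pow_right (by norm_num) hn3
  · have h2 : (2 : F) ≠ 0 := by
      apply Ring.two_ne_zero
      rw [ringChar.eq F p]
      exact hp2
    apply exists_mu_odd h2
    rw [hcard]
    have hp3 : 3 ≤ p := by
      have := hp.two_le
      omega
    by_cases hp3' : p = 3
    · subst hp3'
      have hn3 : 3 ≤ (n : ℕ) := by
        rcases Nat.lt_or_ge (n : ℕ) 3 with h | h
        · exfalso
          have : (n : ℕ) = 2 := by omega
          apply h9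
          rw [hcard, this]; norm_num
        · exact h
      calc 13 < 3 ^ 3 := by norm_num
        _ ≤ 3 ^ (n : ℕ) := Nat.pow_le_pow_right (by norm_num) hn3
    · have hp4 : 4 ≤ p := by omega
      calc 13 < 4 ^ 2 := by norm_num
        _ ≤ p ^ 2 := Nat.pow_le_pow_left hp4 2
        _ ≤ p ^ (n : ℕ) := Nat.pow_le_pow_right (by omega) hn2

open Cfsg.Agent.Helper5.SLB

/-- Diagonal element of `SL₂`. -/
def dMat {F : Type*} [Field F] (l : F) (hl : l ≠ 0) : Matrix.SpecialLinearGroup (Fin 2) F :=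
  ⟨!![l, 0; 0, l⁻¹], by simp [Matrix.det_fin_two, hl]⟩

theorem dMat_mul_uMat {F : Type*} [Field F] (l : F) (hl : l ≠ 0) (x : F) :
    dMat l hl * uMat x * (dMat l hl)⁻¹ = uMat (l * l * x) := by
  rw [mul_inv_eq_iff_eq_mul]
  have d00 : ((dMat l hl : Matrix.SpecialLinearGroup (Fin 2) F) : Matrix (Fin 2) (Fin 2) F) 0 0 = l := rfl
  have d01 : ((dMat l hl : Matrix.SpecialLinearGroup (Fin 2) F) : Matrix (Fin 2) (Fin 2) F) 0 1 = 0 := rfl
  have d10 : ((dMat l hl : Matrix.SpecialLinearGroup (Fin 2) F) : Matrix (Fin 2) (Fin 2) F) 1 0 = 0 := rfl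
  have d11 : ((dMat l hl : Matrix.SpecialLinearGroup (Fin 2) F) : Matrix (Fin 2) (Fin 2) F) 1 1 = l⁻¹ := rfl
  apply sl2_ext <;> rw [mul_apply', mul_apply'] <;>
    simp only [d00, d01, d10, d11, uMat_00, uMat_01, uMat_10, uMat_11] <;> field_simp <;> ring

/-- Commutators only depend on the images in a central quotient. -/
theorem comm_congr {Γ G : Type*} [Group Γ] [Group G] (σ : Γ →* G)
    (hcen : σ.ker ≤ Subgroup.center Γ) {g₁ g₂ g₁' g₂' : Γ} (h1 : σ g₁ = σ g₁')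
    (h2 : σ g₂ = σ g₂') : ⁅g₁, g₂⁆ = ⁅g₁', g₂'⁆ := by
  have e1 : g₁ = g₁' * (g₁'⁻¹ * g₁) := by group
  have e2 : g₂ = g₂' * (g₂'⁻¹ * g₂) := by group
  rw [e1, e2]
  apply comm_mul_central
  · apply hcen
    rw [MonoidHom.mem_ker, map_mul, map_inv, h1, inv_mul_cancel]
  · apply hcen
    rw [MonoidHom.mem_ker, map_mul, map_inv, h2, inv_mul_cancel]

/-- The unipotent subgroup of `SL₂(q)`, `q ∉ {4, 9}`, is good for every central extension. -/
theorem good_unip {F : Type*} [Field F] [Fintype F] (h4 : Fintype.card F ≠ 4)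
    (h9 : Fintype.card F ≠ 9) {Γ : Type*} [Group Γ]
    (σ : Γ →* Matrix.SpecialLinearGroup (Fin 2) F)
    (hcen : σ.ker ≤ Subgroup.center Γ) (hsurj : Function.Surjective σ) : Good σ (unip F) := by
  by_cases hprime : (Fintype.card F).Prime
  · have : IsCyclic (unip F) := by
      have : Fact (Nat.card (unip F)).Prime := ⟨by rw [card_unip]; exact hprime⟩
      exact isCyclic_of_prime_card rfl
    exact good_of_isCyclic σ hcen hsurj (unip F)
  · apply good_of_comm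
    obtain ⟨μ, h1, h2, h3, h4', h5⟩ := exists_mu h4 h9 hprime
    -- the section
    obtain ⟨n, hn⟩ : ∃ n : F → Γ, ∀ x, σ (n x) = uMat x :=
      ⟨fun x => Function.surjInv hsurj (uMat x), fun x => Function.surjInv_eq hsurj _⟩
    have hker : ∀ x y, ⁅n x, n y⁆ ∈ σ.ker := by
      intro x y
      rw [MonoidHom.mem_ker, map_commutatorElement, hn, hn,
        commutatorElement_eq_one_iff_mul_comm, uMat_mul, uMat_mul, add_comm]
    have hcentral : ∀ x y (g : Γ), g * ⁅n x, n y⁆ = ⁅n x, n y⁆ * g := by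
      intro x y g
      have := hcen (hker x y)
      rw [Subgroup.mem_center_iff] at this
      exact this g
    obtain ⟨β, hβ⟩ : ∃ β : F → F → Subgroup.center Γ, ∀ x y, (β x y : Γ) = ⁅n x, n y⁆ :=
      ⟨fun x y => ⟨⁅n x, n y⁆, hcen (hker x y)⟩, fun _ _ => rfl⟩
    have key : ∀ g₁ g₂ x y, σ g₁ = uMat x → σ g₂ = uMat y → ⁅g₁, g₂⁆ = ⁅n x, n y⁆ := by
      intro g₁ g₂ x y h1 h2
      exact comm_congr σ hcen (h1.trans (hn x).symm) (h2.trans (hn y).symm)
    have hl : ∀ x x' y, β (x + x') y = β x y * β x' y := by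
      intro x x' y
      apply Subtype.ext
      rw [Subgroup.coe_mul, hβ, hβ, hβ]
      have e1 : ⁅n (x + x'), n y⁆ = ⁅n x * n x', n y⁆ := by
        apply comm_congr σ hcen _ rfl
        rw [map_mul, hn, hn, hn, uMat_mul]
      rw [e1, comm_mul_left, hcentral x' y (n x), mul_inv_cancel_right, hcentral]
    have hanti : ∀ x y, β x y = (β y x)⁻¹ := by
      intro x y
      apply Subtype.ext
      rw [Subgroup.coe_inv, hβ, hβ, commutatorElement_inv]
    have hr : ∀ x y y', β x (y + y') = β x y * β x y' := by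
      intro x y y'
      have hcomm : ∀ u v : Subgroup.center Γ, u * v = v * u := by
        intro u v
        apply Subtype.ext
        rw [Subgroup.coe_mul, Subgroup.coe_mul]
        exact (Subgroup.mem_center_iff.mp v.2 u)
      rw [hanti x (y + y'), hl, mul_inv_rev, ← hanti, ← hanti, hcomm]
    have hinv : ∀ μ : F, μ ≠ 0 → IsSquare μ → ∀ x y, β (μ * x) (μ * y) = β x y := by
      rintro _ hμ ⟨l, rfl⟩ x y
      have hl0 : l ≠ 0 := fun h0 => hμ (by rw [h0, mul_zero])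
      obtain ⟨t, ht⟩ := hsurj (dMat l hl0)
      apply Subtype.ext
      rw [hβ, hβ]
      have e1 : ⁅n (l * l * x), n (l * l * y)⁆ = ⁅t * n x * t⁻¹, t * n y * t⁻¹⁆ := by
        apply comm_congr σ hcen
        · rw [map_mul, map_mul, map_inv, ht, hn, hn, dMat_mul_uMat]
        · rw [map_mul, map_mul, map_inv, ht, hn, hn, dMat_mul_uMat]
      rw [e1, ← conjugate_commutatorElement, hcentral, mul_inv_cancel_right]
    have htriv := biadd_trivial β hl hr hinv μ h1 h2 h3 h4' h5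
    intro g₁ g₂ hg₁ hg₂
    obtain ⟨x, hx⟩ := hg₁
    obtain ⟨y, hy⟩ := hg₂
    rw [← commutatorElement_eq_one_iff_mul_comm, key g₁ g₂ x y hx.symm hy.symm, ← hβ, htriv]
    rfl

end Cfsg.Agent.Helper3.Stem
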