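import Mathlib
import Cfsg.Prelude.Def_Local
import Cfsg.Agent.Helper1.Fitting
import Cfsg.Agent.Helper4.PCore
import Cfsg.Agent.Helper4.UpperPSeries2

set_option autoImplicit false

/-!
Elementary theory of the upper `p`-series and of `p`-length (`Cfsg.PLengthLE`).
-/

namespace Cfsg.Agent.Helper3.PLen

universe u v

/-- the factor type at position `n`: prime to `p` at even positions, a power of `p` at odd ones -/
def Good (p n d : ℕ) : Prop := if Even n then d.Coprime p else ∃ m : ℕ, d = p ^ m

theorem good_of_dvd {p n d e : ℕ} (hp : p.Prime) (h : Good p n d) (hed : e ∣ d) : Good p n e := by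
  unfold Good at *
  split_ifs at * with hn
  · exact Nat.Coprime.coprime_dvd_left hed h
  · obtain ⟨m, rfl⟩ := h
    obtain ⟨j, _, rfl⟩ := (Nat.dvd_prime_pow hp).1 hed
    exact ⟨j, rfl⟩

theorem good_mul {p n d e : ℕ} (h : Good p n d) (h' : Good p n e) : Good p n (d * e) := by
  unfold Good at *
  split_ifs at * with hn
  · exact Nat.Coprime.mul_left h h'
  · obtain ⟨m, rfl⟩ := h
    obtain ⟨j, rfl⟩ := h'
    exact ⟨m + j, (pow_add p m j).symm⟩

theorem good_one (p n : ℕ) : Good p n 1 := by
  unfold Good
  split_ifs with hn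
  · exact Nat.coprime_one_left p
  · exact ⟨0, (pow_zero p).symm⟩

theorem good_add_even {p n a d : ℕ} (ha : Even a) : Good p (n + a) d ↔ Good p n d := by
  unfold Good
  have : Even (n + a) ↔ Even n := by
    rw [Nat.even_add]; simp [ha]
  simp only [this]

variable {G : Type u} [Group G]

/-- the `n`-th term of the upper `p`-series as a subgroup -/
abbrev U (p : ℕ) (G : Type u) [Group G] (n : ℕ) : Subgroup G := (Cfsg.upperPSeries p G n).1

theorem U_zero (p : ℕ) : U p G 0 = ⊥ := rfl

theorem U_succ_even (p n : ℕ) (hn : Even n) :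
    U p G (n + 1) = (Cfsg.pPrimeCore p (G ⧸ U p G n)).comap (QuotientGroup.mk' (U p G n)) :=
  Cfsg.Agent.Helper4.upperPSeries_succ_of_even p n hn

theorem U_succ_odd (p n : ℕ) (hn : ¬ Even n) :
    U p G (n + 1) = (Cfsg.pCore p (G ⧸ U p G n)).comap (QuotientGroup.mk' (U p G n)) :=
  Cfsg.Agent.Helper4.upperPSeries_succ_of_not_even p n hn

theorem U_le_succ (p n : ℕ) : U p G n ≤ U p G (n + 1) := by
  by_cases hn : Even n
  · rw [U_succ_even p n hn]
    intro x hx
    rw [Subgroup.mem_comap]
    have : QuotientGroup.mk' (U p G n) x = 1 := (QuotientGroup.eq_one_iff x).2 hx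
    rw [this]; exact Subgroup.one_mem _
  · rw [U_succ_odd p n hn]
    intro x hx
    rw [Subgroup.mem_comap]
    have : QuotientGroup.mk' (U p G n) x = 1 := (QuotientGroup.eq_one_iff x).2 hx
    rw [this]; exact Subgroup.one_mem _

theorem U_mono (p : ℕ) {n m : ℕ} (h : n ≤ m) : U p G n ≤ U p G m := by
  induction m, h using Nat.le_induction with
  | base => exact le_rfl
  | succ m _ ih => exact ih.trans (U_le_succ p m)

/-- a normal subgroup whose index over `U n` has the type of position `n` lies in `U (n+1)` -/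
theorem ascent [Finite G] (p n : ℕ) (Y : Subgroup G) [hY : Y.Normal]
    (h : Good p n ((U p G n).relIndex Y)) : Y ≤ U p G (n + 1) := by
  have hsurj := QuotientGroup.mk'_surjective (U p G n)
  have hYn : (Y.map (QuotientGroup.mk' (U p G n))).Normal := hY.map _ hsurj
  have hcard : Nat.card (Y.map (QuotientGroup.mk' (U p G n))) = (U p G n).relIndex Y := by
    rw [← Subgroup.relIndex_ker, QuotientGroup.ker_mk']
  unfold Good at h
  by_cases hn : Even n
  · rw [if_pos hn] at h
    rw [U_succ_even p n hn, ← Subgroup.map_le_iff_le_comap]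
    exact Cfsg.Agent.Helper1.le_pPrimeCore hYn (by rw [hcard]; exact h)
  · rw [if_neg hn] at h
    obtain ⟨m, hm⟩ := h
    rw [U_succ_odd p n hn, ← Subgroup.map_le_iff_le_comap]
    exact Cfsg.Agent.Helper4.le_pCore _ hYn (IsPGroup.of_card (hcard.trans hm))

theorem relIndex_comap_mk' (N : Subgroup G) [N.Normal] (C : Subgroup (G ⧸ N)) :
    N.relIndex (C.comap (QuotientGroup.mk' N)) = Nat.card C := by
  have h := Subgroup.relIndex_ker (K := C.comap (QuotientGroup.mk' N)) (QuotientGroup.mk' N)
  rw [QuotientGroup.ker_mk', Subgroup.map_comap_eq_self_of_surjective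
    (QuotientGroup.mk'_surjective N)] at h
  exact h

/-- the factor `U (n+1) / U n` has the type of position `n` -/
theorem factor [Finite G] (p : ℕ) [hp : Fact p.Prime] (n : ℕ) :
    Good p n ((U p G n).relIndex (U p G (n + 1))) := by
  have hsurj := QuotientGroup.mk'_surjective (U p G n)
  unfold Good
  by_cases hn : Even n
  · rw [if_pos hn]
    have : (U p G n).relIndex (U p G (n + 1)) = Nat.card (Cfsg.pPrimeCore p (G ⧸ U p G n)) := by
      rw [U_succ_even p n hn]
      exact relIndex_comap_mk' _ _
    rw [this]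
    exact Cfsg.Agent.Helper1.card_pPrimeCore_coprime p
  · rw [if_neg hn]
    have : (U p G n).relIndex (U p G (n + 1)) = Nat.card (Cfsg.pCore p (G ⧸ U p G n)) := by
      rw [U_succ_odd p n hn]
      exact relIndex_comap_mk' _ _
    rw [this]
    exact IsPGroup.iff_card.1 Cfsg.Agent.Helper4.pCore_isPGroup

theorem relIndex_map_dvd {H : Type v} [Group H] (f : G →* H) (A B : Subgroup G) :
    (A.map f).relIndex (B.map f) ∣ A.relIndex B := by
  rw [← Subgroup.relIndex_comap]
  exact Subgroup.relIndex_dvd_of_le_left _ (Subgroup.le_comap_map f A)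

theorem relIndex_dvd_of_le_right_normal (A K B : Subgroup G) [A.Normal] (hKB : K ≤ B)
    (hAB : A ≤ B) : A.relIndex K ∣ A.relIndex B := by
  rw [← Subgroup.relIndex_sup_right K A]
  exact Dvd.intro _ (Subgroup.relIndex_mul_relIndex A (K ⊔ A) B le_sup_right (sup_le hKB hAB))

/-- images of the upper `p`-series under a surjective homomorphism -/
theorem map_le {H : Type v} [Group H] [Finite G] [Finite H] (p : ℕ) [hp : Fact p.Prime]
    (f : G →* H) (hf : Function.Surjective f) (n : ℕ) : (U p G n).map f ≤ U p H n := by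
  induction n with
  | zero => rw [U_zero, Subgroup.map_bot]; exact bot_le
  | succ n ih =>
    have : ((U p G (n + 1)).map f).Normal := Subgroup.Normal.map inferInstance f hf
    apply ascent p n
    refine good_of_dvd hp.out (factor (G := G) p n) ?_
    exact (Subgroup.relIndex_dvd_of_le_left _ ih).trans (relIndex_map_dvd f _ _)

theorem map_mulEquiv {H : Type v} [Group H] [Finite G] [Finite H] (p : ℕ) [hp : Fact p.Prime]
    (e : G ≃* H) (n : ℕ) : (U p G n).map e.toMonoidHom = U p H n := by
  apply le_antisymm (map_le p e.toMonoidHom e.surjective n)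
  intro y hy
  have h1 := map_le p e.symm.toMonoidHom e.symm.surjective n
    (Subgroup.mem_map_of_mem e.symm.toMonoidHom hy)
  exact ⟨e.symm y, h1, e.apply_symm_apply y⟩

instance U_characteristic [Finite G] (p : ℕ) [hp : Fact p.Prime] (n : ℕ) :
    (U p G n).Characteristic :=
  Subgroup.characteristic_iff_map_eq.2 (fun e => map_mulEquiv p e n)

/-- restriction of the upper `p`-series to a subgroup -/
theorem subgroupOf_le [Finite G] (p : ℕ) [hp : Fact p.Prime] (H : Subgroup G) (n : ℕ) :
    (U p G n).subgroupOf H ≤ U p H n := by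
  induction n with
  | zero => rw [U_zero, U_zero, Subgroup.bot_subgroupOf]
  | succ n ih =>
    have : ((U p G (n + 1)).subgroupOf H).Normal := Subgroup.Normal.subgroupOf inferInstance H
    apply ascent p n
    refine good_of_dvd hp.out (factor (G := G) p n) ?_
    refine (Subgroup.relIndex_dvd_of_le_left _ ih).trans ?_
    rw [Subgroup.subgroupOf, Subgroup.subgroupOf, Subgroup.relIndex_comap,
      Subgroup.map_comap_eq, Subgroup.range_subtype]
    exact relIndex_dvd_of_le_right_normal _ _ _ inf_le_right (U_le_succ p n)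

/-- the upper `p`-series of a normal subgroup lies in that of the group -/
theorem map_subtype_le [Finite G] (p : ℕ) [hp : Fact p.Prime] (N : Subgroup G) [N.Normal] (n : ℕ) :
    (U p N n).map N.subtype ≤ U p G n := by
  induction n with
  | zero => rw [U_zero, Subgroup.map_bot]; exact bot_le
  | succ n ih =>
    have : ((U p N (n + 1)).map N.subtype).Normal := ConjAct.normal_of_characteristic_of_normal
    apply ascent p n
    refine good_of_dvd hp.out (factor (G := N) p n) ?_
    refine (Subgroup.relIndex_dvd_of_le_left _ ih).trans ?_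
    rw [Subgroup.relIndex_map_map_of_injective _ _ N.subtype_injective]

/-- shifting the upper `p`-series by an even position -/
theorem U_add_even (p : ℕ) {a : ℕ} (ha : Even a) (n : ℕ) :
    U p G (n + a) = (U p (G ⧸ U p G a) n).comap (QuotientGroup.mk' (U p G a)) := by
  induction n with
  | zero =>
    rw [U_zero, MonoidHom.comap_bot, QuotientGroup.ker_mk', zero_add]
  | succ n ih =>
    by_cases hn : Even n
    · have hn2 : Even (n + a) := by rw [Nat.even_add]; simp [hn, ha]
      rw [show n + 1 + a = (n + a) + 1 by ring, U_succ_even p (n + a) hn2, U_succ_even p n hn]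
      exact (Cfsg.Agent.Helper4.comap_pPrimeCore_quotient p _ _ _ ih).symm
    · have hn2 : ¬ Even (n + a) := by rw [Nat.even_add]; simp [hn, ha]
      rw [show n + 1 + a = (n + a) + 1 by ring, U_succ_odd p (n + a) hn2, U_succ_odd p n hn]
      exact (Cfsg.Agent.Helper4.comap_pCore_quotient p _ _ _ ih).symm

/-! ### `p`-length -/

theorem pLengthLE_iff (p k : ℕ) : Cfsg.PLengthLE p k G ↔ U p G (2 * k + 1) = ⊤ := Iff.rfl

theorem pLengthLE_mono (p : ℕ) {k k' : ℕ} (h : k ≤ k') (hk : Cfsg.PLengthLE p k G) :
    Cfsg.PLengthLE p k' G := by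
  rw [pLengthLE_iff] at *
  exact top_le_iff.1 (hk ▸ U_mono p (by omega))

/-- `p`-length passes to homomorphic images -/
theorem pLengthLE_of_surjective {H : Type v} [Group H] [Finite G] [Finite H] (p : ℕ)
    [hp : Fact p.Prime] (f : G →* H) (hf : Function.Surjective f) {k : ℕ}
    (hk : Cfsg.PLengthLE p k G) : Cfsg.PLengthLE p k H := by
  rw [pLengthLE_iff] at *
  have := map_le p f hf (2 * k + 1)
  rw [hk, ← MonoidHom.range_eq_map, MonoidHom.range_eq_top.2 hf] at this
  exact top_le_iff.1 this

/-- `p`-length passes to subgroups -/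
theorem pLengthLE_subgroup [Finite G] (p : ℕ) [hp : Fact p.Prime] (H : Subgroup G) {k : ℕ}
    (hk : Cfsg.PLengthLE p k G) : Cfsg.PLengthLE p k H := by
  rw [pLengthLE_iff] at *
  have := subgroupOf_le p H (2 * k + 1)
  rw [hk, Subgroup.top_subgroupOf] at this
  exact top_le_iff.1 this

/-- a group of order prime to `p` has `p`-length `0` -/
theorem pLengthLE_zero_of_coprime [Finite G] (p : ℕ) (h : (Nat.card G).Coprime p) :
    Cfsg.PLengthLE p 0 G := by
  rw [pLengthLE_iff]
  apply top_le_iff.1
  apply ascent p 0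
  rw [U_zero, Subgroup.relIndex_bot_left, Subgroup.card_top]
  unfold Good
  rw [if_pos (by decide)]
  exact h

/-- a `p`-group has `p`-length at most `1` -/
theorem pLengthLE_one_of_card [Finite G] (p : ℕ) [hp : Fact p.Prime] {m : ℕ}
    (h : Nat.card G = p ^ m) : Cfsg.PLengthLE p 1 G := by
  rw [pLengthLE_iff]
  apply top_le_iff.1
  refine le_trans ?_ (U_le_succ p 2)
  apply ascent p 1
  have hg : Good p 1 (Nat.card G) := by
    unfold Good
    rw [if_neg (by decide)]
    exact ⟨m, h⟩
  refine good_of_dvd hp.out hg ?_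
  rw [Subgroup.relIndex_top_right]
  exact Subgroup.index_dvd_card _

/-- removing a normal `p'`-subgroup does not lower the `p`-length -/
theorem pLengthLE_of_quotient_coprime [Finite G] (p : ℕ) [hp : Fact p.Prime] (A : Subgroup G)
    [A.Normal] (hA : (Nat.card A).Coprime p) {k : ℕ} (hk : Cfsg.PLengthLE p k (G ⧸ A)) :
    Cfsg.PLengthLE p k G := by
  have key : ∀ n : ℕ, (U p (G ⧸ A) (n + 1)).comap (QuotientGroup.mk' A) ≤ U p G (n + 1) := by
    intro n
    induction n with
    | zero =>
      apply ascent p 0
      rw [U_zero, Subgroup.relIndex_bot_left]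
      have h1 : Nat.card ((U p (G ⧸ A) (0 + 1)).comap (QuotientGroup.mk' A)) =
          Nat.card A * Nat.card (U p (G ⧸ A) (0 + 1)) := by
        rw [← relIndex_comap_mk' A (U p (G ⧸ A) (0 + 1)), ← Subgroup.relIndex_bot_left,
          ← Subgroup.relIndex_bot_left,
          Subgroup.relIndex_mul_relIndex ⊥ A _ bot_le]
        intro x hx
        rw [Subgroup.mem_comap]
        have : QuotientGroup.mk' A x = 1 := (QuotientGroup.eq_one_iff x).2 hx
        rw [this]; exact Subgroup.one_mem _
      rw [h1]
      apply good_mul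
      · unfold Good
        rw [if_pos (by decide)]
        exact hA
      · have := factor (G := G ⧸ A) p 0
        rw [U_zero, Subgroup.relIndex_bot_left] at this
        exact this
    | succ n ih =>
      apply ascent p (n + 1)
      refine good_of_dvd hp.out (factor (G := G ⧸ A) p (n + 1)) ?_
      refine (Subgroup.relIndex_dvd_of_le_left _ ih).trans ?_
      rw [Subgroup.relIndex_comap, Subgroup.map_comap_eq_self_of_surjective
        (QuotientGroup.mk'_surjective A)]
  rw [pLengthLE_iff] at *
  have := key (2 * k)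
  rw [hk, Subgroup.comap_top] at this
  exact top_le_iff.1 this

/-- subadditivity of `p`-length along a normal subgroup -/
theorem pLengthLE_add [Finite G] (p : ℕ) [hp : Fact p.Prime] (K : Subgroup G) [K.Normal]
    {a b : ℕ} (ha : Cfsg.PLengthLE p a K) (hb : Cfsg.PLengthLE p b (G ⧸ K)) :
    Cfsg.PLengthLE p (a + b) G := by
  have hK : K ≤ U p G (2 * a + 1) := by
    have := map_subtype_le p K (2 * a + 1)
    rw [pLengthLE_iff] at ha
    rw [ha, ← MonoidHom.range_eq_map, Subgroup.range_subtype] at this
    exact this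
  have hev : Even (2 * a) := even_two_mul a
  have hsurj := QuotientGroup.mk'_surjective (U p G (2 * a))
  -- the image of `K` modulo `U (2a)` is a normal `p'`-subgroup
  have hKn : (K.map (QuotientGroup.mk' (U p G (2 * a)))).Normal :=
    Subgroup.Normal.map inferInstance _ hsurj
  have hKc : (Nat.card (K.map (QuotientGroup.mk' (U p G (2 * a))))).Coprime p := by
    have h1 : K.map (QuotientGroup.mk' (U p G (2 * a))) ≤
        Cfsg.pPrimeCore p (G ⧸ U p G (2 * a)) := by
      rw [Subgroup.map_le_iff_le_comap, ← U_succ_even p (2 * a) hev]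
      exact hK
    exact Nat.Coprime.coprime_dvd_left (Subgroup.card_dvd_of_le h1)
      (Cfsg.Agent.Helper1.card_pPrimeCore_coprime p)
  have hle : K ≤ (K.map (QuotientGroup.mk' (U p G (2 * a)))).comap
      (QuotientGroup.mk' (U p G (2 * a))) := Subgroup.le_comap_map _ _
  have hq : Cfsg.PLengthLE p b
      ((G ⧸ U p G (2 * a)) ⧸ K.map (QuotientGroup.mk' (U p G (2 * a)))) := by
    refine pLengthLE_of_surjective p
      (QuotientGroup.map K (K.map (QuotientGroup.mk' (U p G (2 * a))))
        (QuotientGroup.mk' (U p G (2 * a))) hle) ?_ hb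
    intro y
    obtain ⟨y', rfl⟩ := QuotientGroup.mk'_surjective _ y
    obtain ⟨g, rfl⟩ := hsurj y'
    exact ⟨QuotientGroup.mk' K g, rfl⟩
  have hb' : Cfsg.PLengthLE p b (G ⧸ U p G (2 * a)) :=
    pLengthLE_of_quotient_coprime p _ hKc hq
  rw [pLengthLE_iff] at hb' ⊢
  rw [show 2 * (a + b) + 1 = (2 * b + 1) + 2 * a by ring, U_add_even p hev, hb',
    Subgroup.comap_top]

/-- `p`-length is invariant under isomorphism -/
theorem pLengthLE_of_mulEquiv {H : Type v} [Group H] [Finite G] [Finite H] (p : ℕ)
    [hp : Fact p.Prime] (e : G ≃* H) {k : ℕ} (hk : Cfsg.PLengthLE p k G) :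
    Cfsg.PLengthLE p k H :=
  pLengthLE_of_surjective p e.toMonoidHom e.surjective hk

end Cfsg.Agent.Helper3.PLen
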