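import Mathlib
import Cfsg.Prelude.Def_Local
import Cfsg.Agent.Helper1.PGroup
import Cfsg.Agent.Helper1.AbelianAct
import Cfsg.Agent.Helper1.SylowInt
import Cfsg.Agent.Helper4.HallHigman
import Cfsg.Agent.Helper4.PCore
import Cfsg.Agent.Helper3.PLen

set_option autoImplicit false

/-!
The abelian case of Hall–Higman's Theorem B and the bound `l_p ≤ e_p` for `p`-soluble groups whose
Sylow `q`-subgroups (`q ≠ p`) are abelian.
-/

namespace Cfsg.Agent.Helper3.HHAb

universe u v




/-- The averaging identity behind the abelian case of Hall–Higman's Theorem B. -/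
theorem ring_key {E : Type v} [Ring E] {H : Type u} [Group H] (ρ : H →* E) (Q : Subgroup H)
    [Finite Q] (x : H)
    (hx : ∀ g ∈ Q, x * g * x⁻¹ ∈ Q) (M : ℕ)
    (hfix : ∀ i, 0 < i → i < M → ∀ g ∈ Q, x ^ i * g = g * x ^ i → g = 1)
    (hM : 0 < M) (hN : ∑ i ∈ Finset.range M, ρ x ^ i = 0) :
    ∀ g ∈ Q, (Nat.card Q : E) * (ρ g - 1) = 0 := by
  classical
  let _ : Fintype Q := Fintype.ofFinite Q
  have hxi : ∀ (i : ℕ) (g : H), g ∈ Q → x ^ i * g * (x ^ i)⁻¹ ∈ Q := by
    intro i
    induction i with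
    | zero => intro g hg; simpa using hg
    | succ i ih =>
      intro g hg
      have h1 := hx _ (ih g hg)
      have h2 : x ^ (i + 1) * g * (x ^ (i + 1))⁻¹ = x * (x ^ i * g * (x ^ i)⁻¹) * x⁻¹ := by
        rw [pow_succ']; group
      rw [h2]; exact h1
  set S : E := ∑ h : Q, ρ (h : H) with hS
  have hSg : ∀ g ∈ Q, S * (ρ g - 1) = 0 := by
    intro g hg
    have h1 : S * ρ g = S := by
      rw [hS, Finset.sum_mul]
      refine Fintype.sum_equiv (Equiv.mulRight (⟨g, hg⟩ : Q)) _ _ ?_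
      intro h
      rw [← map_mul]
      rfl
    rw [mul_sub, mul_one, h1, sub_self]
  -- the maps `c_i`
  let c : ℕ → Q → Q := fun i h => ⟨(h : H)⁻¹ * (x ^ i * h * (x ^ i)⁻¹),
    Q.mul_mem (Q.inv_mem h.2) (hxi i h h.2)⟩
  have hc0 : ∀ h : Q, c 0 h = 1 := by
    intro h
    apply Subtype.ext
    simp [c]
  have hcinj : ∀ i, 0 < i → i < M → Function.Injective (c i) := by
    intro i hi0 hiM h h' hhh'
    have h1 : (h : H)⁻¹ * (x ^ i * h * (x ^ i)⁻¹) = (h' : H)⁻¹ * (x ^ i * h' * (x ^ i)⁻¹) :=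
      congrArg Subtype.val hhh'
    have hk : (h : H) * (h' : H)⁻¹ ∈ Q := Q.mul_mem h.2 (Q.inv_mem h'.2)
    have h2 : x ^ i * ((h : H) * (h' : H)⁻¹) = ((h : H) * (h' : H)⁻¹) * x ^ i := by
      have e1 : x ^ i * h * (x ^ i)⁻¹ = (h : H) * ((h' : H)⁻¹ * (x ^ i * h' * (x ^ i)⁻¹)) := by
        rw [← h1]; group
      have e2 : x ^ i * ((h : H) * (h' : H)⁻¹) * (x ^ i)⁻¹ =
          (x ^ i * h * (x ^ i)⁻¹) * (x ^ i * h' * (x ^ i)⁻¹)⁻¹ := by group
      have e3 : x ^ i * ((h : H) * (h' : H)⁻¹) * (x ^ i)⁻¹ = (h : H) * (h' : H)⁻¹ := by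
        rw [e2, e1]
        group
      have e4 : x ^ i * ((h : H) * (h' : H)⁻¹) =
          (x ^ i * ((h : H) * (h' : H)⁻¹) * (x ^ i)⁻¹) * x ^ i := by group
      rw [e4, e3]
    have h3 := hfix i hi0 hiM _ hk h2
    apply Subtype.ext
    exact mul_inv_eq_one.1 h3
  have hT : ∀ i, 0 < i → i < M → ∑ h : Q, ρ ((c i h : Q) : H) = S := by
    intro i hi0 hiM
    have hbij : Function.Bijective (c i) := Finite.injective_iff_bijective.1 (hcinj i hi0 hiM)
    exact Fintype.sum_bijective (c i) hbij _ _ (fun h => rfl)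
  have hexp : ∀ (h : Q) (i : ℕ), ρ ((h : H)⁻¹) * ρ x ^ i * ρ h = ρ ((c i h : Q) : H) * ρ x ^ i := by
    intro h i
    rw [← map_pow, ← map_mul, ← map_mul, ← map_mul]
    congr 1
    simp only [c]
    group
  have hmain : ∑ i ∈ Finset.range M, (∑ h : Q, ρ ((c i h : Q) : H)) * ρ x ^ i = 0 := by
    have h1 : ∑ h : Q, ρ ((h : H)⁻¹) * (∑ i ∈ Finset.range M, ρ x ^ i) * ρ h = 0 := by
      rw [hN]; simp
    rw [← h1]
    simp_rw [Finset.mul_sum, Finset.sum_mul]
    rw [Finset.sum_comm]
    refine Finset.sum_congr rfl (fun h _ => ?_)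
    refine Finset.sum_congr rfl (fun i _ => ?_)
    exact (hexp h i).symm
  intro g hg
  have h2 : (∑ i ∈ Finset.range M, (∑ h : Q, ρ ((c i h : Q) : H)) * ρ x ^ i) * (ρ g - 1) = 0 := by
    rw [hmain, zero_mul]
  rw [Finset.sum_mul, Finset.sum_eq_single 0] at h2
  · simp only [hc0, pow_zero, mul_one] at h2
    have h3 : ∑ _h : Q, ρ (((1 : Q) : Q) : H) = (Nat.card Q : E) := by
      simp [Nat.card_eq_fintype_card]
    rw [h3] at h2
    exact h2
  · intro i hi hi0
    have hiM : i < M := Finset.mem_range.1 hi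
    have hi0' : 0 < i := Nat.pos_of_ne_zero hi0
    rw [hT i hi0' hiM]
    have h4 : ρ x ^ i * (ρ g - 1) = (ρ (x ^ i * g * (x ^ i)⁻¹) - 1) * ρ x ^ i := by
      rw [mul_sub, sub_mul, mul_one, one_mul, ← map_pow, ← map_mul, ← map_mul]
      congr 2
      group
    rw [mul_assoc, h4, ← mul_assoc, hSg _ (hxi i g hg), zero_mul]
  · intro h0
    exact absurd (Finset.mem_range.2 hM) h0


variable {G : Type u} [Group G]




theorem exists_of_eq (P : Subgroup G) (v : Additive (Abelianization P)) :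
    ∃ k : P, v = Additive.ofMul (Abelianization.of k) := by
  obtain ⟨w, rfl⟩ := Additive.ofMul.surjective v
  obtain ⟨k, rfl⟩ := QuotientGroup.mk_surjective w
  exact ⟨k, rfl⟩

/-- conjugation by `g` on the abelianization of a normal subgroup, additively -/
noncomputable def rhoFun (P : Subgroup G) [P.Normal] (g : G) :
    Additive (Abelianization P) →+ Additive (Abelianization P) :=
  MonoidHom.toAdditive (Abelianization.map ((MulAut.conjNormal g : MulAut P) : P ≃* P).toMonoidHom)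

theorem rhoFun_apply (P : Subgroup G) [P.Normal] (g : G) (k : P) :
    rhoFun P g (Additive.ofMul (Abelianization.of k)) =
      Additive.ofMul (Abelianization.of (MulAut.conjNormal g k)) := by
  unfold rhoFun
  rw [MonoidHom.toAdditive_apply_apply, toMul_ofMul, Abelianization.map_of]
  rfl

/-- the conjugation action of `G` on the abelianization of a normal subgroup, written additively -/
noncomputable def rho (P : Subgroup G) [P.Normal] :
    G →* AddMonoid.End (Additive (Abelianization P)) where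
  toFun g := rhoFun P g
  map_one' := by
    apply AddMonoid.End.ext
    intro v
    obtain ⟨k, rfl⟩ := exists_of_eq P v
    show rhoFun P 1 _ = _
    rw [rhoFun_apply, map_one]
    rfl
  map_mul' := by
    intro g h
    apply AddMonoid.End.ext
    intro v
    obtain ⟨k, rfl⟩ := exists_of_eq P v
    show rhoFun P (g * h) _ = rhoFun P g (rhoFun P h _)
    rw [rhoFun_apply, map_mul, rhoFun_apply, rhoFun_apply]
    rfl

theorem rho_apply (P : Subgroup G) [P.Normal] (g : G) (k : P) :
    rho P g (Additive.ofMul (Abelianization.of k)) =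
      Additive.ofMul (Abelianization.of (MulAut.conjNormal g k)) :=
  rhoFun_apply P g k

/-- elements of `P` act trivially -/
theorem rho_eq_one_of_mem (P : Subgroup G) [P.Normal] (u : G) (hu : u ∈ P) : rho P u = 1 := by
  apply AddMonoid.End.ext
  intro v
  obtain ⟨k, rfl⟩ := exists_of_eq P v
  rw [rho_apply]
  show _ = Additive.ofMul (Abelianization.of k)
  congr 1
  have h1 : MulAut.conjNormal u k = (⟨u, hu⟩ : P) * k * (⟨u, hu⟩ : P)⁻¹ := by
    apply Subtype.ext
    rw [MulAut.conjNormal_apply]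
    rfl
  rw [h1, map_mul, map_mul, map_inv, mul_comm, inv_mul_cancel_left]

/-- if `g` acts trivially then it centralizes `P` modulo the derived subgroup -/
theorem comm_mem_of_rho_eq_one (P : Subgroup G) [P.Normal] (g : G) (hg : rho P g = 1) (k : G)
    (hk : k ∈ P) : g * k * g⁻¹ * k⁻¹ ∈ (commutator P).map P.subtype := by
  have h1 := rho_apply P g ⟨k, hk⟩
  rw [hg] at h1
  have h2 : Abelianization.of (⟨k, hk⟩ : P) = Abelianization.of (MulAut.conjNormal g ⟨k, hk⟩) :=
    Additive.ofMul.injective h1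
  have h3 : (MulAut.conjNormal g (⟨k, hk⟩ : P)) * (⟨k, hk⟩ : P)⁻¹ ∈ commutator P := by
    rw [← Abelianization.ker_of, MonoidHom.mem_ker, map_mul, map_inv, ← h2, mul_inv_cancel]
  refine ⟨_, h3, ?_⟩
  simp [MulAut.conjNormal_apply]

theorem end_sum_apply {V : Type v} [AddCommGroup V] {ι : Type*} (s : Finset ι)
    (f : ι → AddMonoid.End V) (w : V) : (∑ i ∈ s, f i) w = ∑ i ∈ s, (f i) w := by
  classical
  induction s using Finset.induction_on with
  | empty => simp
  | insert a s ha ih =>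
    rw [Finset.sum_insert ha, Finset.sum_insert ha, ← ih]
    rfl

/-- the norm of `ū` under `x` is the image of `(ux)^k x^{-k}` -/
theorem rho_norm (P : Subgroup G) [P.Normal] (x u : G) (hu : u ∈ P) (k : ℕ) :
    ∃ hk : (u * x) ^ k * (x ^ k)⁻¹ ∈ P,
      ∑ i ∈ Finset.range k, (rho P x ^ i) (Additive.ofMul (Abelianization.of (⟨u, hu⟩ : P))) =
        Additive.ofMul (Abelianization.of (⟨(u * x) ^ k * (x ^ k)⁻¹, hk⟩ : P)) := by
  induction k with
  | zero =>
    refine ⟨by simp, ?_⟩
    rw [Finset.range_zero, Finset.sum_empty]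
    have : (⟨(u * x) ^ 0 * (x ^ 0)⁻¹, by simp⟩ : P) = 1 := by
      apply Subtype.ext; simp
    rw [this, map_one]
    rfl
  | succ k ih =>
    obtain ⟨hk, ih⟩ := ih
    have hconj : x ^ k * u * (x ^ k)⁻¹ ∈ P := ‹P.Normal›.conj_mem u hu (x ^ k)
    have heq : (u * x) ^ (k + 1) * (x ^ (k + 1))⁻¹ =
        ((u * x) ^ k * (x ^ k)⁻¹) * (x ^ k * u * (x ^ k)⁻¹) := by
      rw [pow_succ, pow_succ]; group
    have hk1 : (u * x) ^ (k + 1) * (x ^ (k + 1))⁻¹ ∈ P := by
      rw [heq]; exact P.mul_mem hk hconj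
    refine ⟨hk1, ?_⟩
    rw [Finset.sum_range_succ, ih, ← map_pow, rho_apply]
    have h2 : (⟨(u * x) ^ (k + 1) * (x ^ (k + 1))⁻¹, hk1⟩ : P) =
        (⟨(u * x) ^ k * (x ^ k)⁻¹, hk⟩ : P) * (MulAut.conjNormal (x ^ k) (⟨u, hu⟩ : P)) := by
      apply Subtype.ext
      rw [Subgroup.coe_mul, MulAut.conjNormal_apply]
      exact heq
    rw [h2, map_mul]
    rfl

theorem rho_norm_eq_zero (P : Subgroup G) [P.Normal] (x : G) (M : ℕ) (hx : x ^ M = 1)
    (hux : ∀ u ∈ P, (u * x) ^ M = 1) : ∑ i ∈ Finset.range M, rho P x ^ i = 0 := by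
  apply AddMonoid.End.ext
  intro v
  obtain ⟨k, rfl⟩ := exists_of_eq P v
  rw [end_sum_apply]
  obtain ⟨hk, h⟩ := rho_norm P x k k.2 M
  rw [h]
  have : (⟨(k * x) ^ M * (x ^ M)⁻¹, hk⟩ : P) = 1 := by
    apply Subtype.ext
    show (↑k * x) ^ M * (x ^ M)⁻¹ = 1
    rw [hux k k.2, hx]
    simp
  rw [this, map_one]
  rfl





/-- `O_p(G / O_p(G)) = 1` -/
theorem pCore_quotient_pCore [Finite G] (p : ℕ) [hp : Fact p.Prime] :
    Cfsg.pCore p (G ⧸ Cfsg.pCore p G) = ⊥ := by
  haveI : (Cfsg.pCore p G).Normal := Cfsg.Agent.Helper4.pCore_normal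
  set N₀ := Cfsg.pCore p G with hN₀
  set Kbar := Cfsg.pCore p (G ⧸ N₀) with hKbar
  haveI : Kbar.Normal := Cfsg.Agent.Helper4.pCore_normal
  have h1 : IsPGroup p Kbar := Cfsg.Agent.Helper4.pCore_isPGroup
  have h2 : IsPGroup p N₀ := Cfsg.Agent.Helper4.pCore_isPGroup
  obtain ⟨a, ha⟩ := IsPGroup.iff_card.1 h1
  obtain ⟨b, hb⟩ := IsPGroup.iff_card.1 h2
  have h3 := Cfsg.Agent.Helper4.card_comap_mk' N₀ Kbar
  have h4 : IsPGroup p (Kbar.comap (QuotientGroup.mk' N₀)) := by
    apply IsPGroup.of_card (n := b + a)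
    rw [h3, ha, hb, pow_add]
  have h5 : Kbar.comap (QuotientGroup.mk' N₀) ≤ N₀ :=
    Cfsg.Agent.Helper4.le_pCore _ inferInstance h4
  rw [eq_bot_iff]
  intro x hx
  obtain ⟨y, rfl⟩ := QuotientGroup.mk'_surjective N₀ x
  have hy : y ∈ Kbar.comap (QuotientGroup.mk' N₀) := hx
  rw [Subgroup.mem_bot]
  exact (QuotientGroup.eq_one_iff y).mpr (h5 hy)

/-- the dual of Hall–Higman 1.2.3: in a `p`-solvable group with `O_p(G) = 1`, the subgroup
`O_{p'}(G)` contains its centralizer -/
theorem centralizer_pPrimeCore_le [Finite G] {p : ℕ} [hp : Fact p.Prime]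
    (hG : Cfsg.IsPSolvable p G) (hO : Cfsg.pCore p G = ⊥) :
    Subgroup.centralizer (Cfsg.pPrimeCore p G : Set G) ≤ Cfsg.pPrimeCore p G := by
  by_contra hnot
  set K := Cfsg.pPrimeCore p G with hK
  set C := Subgroup.centralizer (K : Set G) with hC
  have hKc : (Nat.card K).Coprime p := Cfsg.Agent.Helper5.coprime_card_pPrimeCore p
  have hZC : C ⊓ K < C := by
    refine lt_of_le_of_ne inf_le_left ?_
    intro h
    apply hnot
    rw [← h]; exact inf_le_right
  obtain ⟨W, hWn, hZW, hWC, hcase⟩ :=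
    Cfsg.Agent.Helper4.exists_normal_section_of_isPSolvable hG C (C ⊓ K) hZC
  have hcardW := Cfsg.Agent.Helper4.card_mul_relIndex' hZW.le
  have hZc : (Nat.card ↥(C ⊓ K)).Coprime p :=
    Nat.Coprime.coprime_dvd_left (Subgroup.card_dvd_of_le inf_le_right) hKc
  rcases hcase with ⟨m, hm⟩ | hcop
  · -- `W / Z` is a `p`-group, `Z` central in `W`
    set Z' := (C ⊓ K).subgroupOf W with hZ'
    haveI hZ'n : Z'.Normal := by rw [hZ']; infer_instance
    have hZ'cen : Z' ≤ Subgroup.center W := by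
      intro z hz
      rw [Subgroup.mem_center_iff]
      intro w
      apply Subtype.ext
      have hz' : (z : G) ∈ C ⊓ K := hz
      have hw : (w : G) ∈ C := hWC w.2
      exact ((Subgroup.mem_centralizer_iff.mp hw) (z : G) hz'.2).symm
    have hquot : Group.IsNilpotent (W ⧸ Z') := by
      have : IsPGroup p (W ⧸ Z') := by
        apply IsPGroup.of_card (n := m)
        rw [← Subgroup.index_eq_card, ← hm]
        rfl
      exact this.isNilpotent
    have hWnil : Group.IsNilpotent W := by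
      haveI := hquot
      exact Subgroup.isNilpotent_of_ker_le_center (QuotientGroup.mk' Z')
        (by rw [QuotientGroup.ker_mk']; exact hZ'cen)
    obtain ⟨T⟩ : Nonempty (Sylow p W) := inferInstance
    have hTn : (T : Subgroup W).Normal := by
      haveI := hWnil
      infer_instance
    haveI : (T : Subgroup W).Characteristic := T.characteristic_of_normal hTn
    haveI := hWn
    have hT'n : ((T : Subgroup W).map W.subtype).Normal :=
      ConjAct.normal_of_characteristic_of_normal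
    have hT'p : IsPGroup p ((T : Subgroup W).map W.subtype) := T.isPGroup'.map _
    have hT'le := Cfsg.Agent.Helper4.le_pCore _ hT'n hT'p
    rw [hO, le_bot_iff, (Subgroup.map_eq_bot_iff_of_injective _ W.subtype_injective)] at hT'le
    have hcT : Nat.card (T : Subgroup W) = 1 := by rw [hT'le]; exact Subgroup.card_bot
    rw [T.card_eq_multiplicity] at hcT
    have hm0 : m = 0 := by
      by_contra hm0
      have hpW : p ∣ Nat.card W := by
        rw [← hcardW, hm]
        exact Dvd.dvd.mul_left (dvd_pow_self p hm0) _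
      have hpos : 0 < (Nat.card W).factorization p :=
        hp.out.factorization_pos_of_dvd Nat.card_pos.ne' hpW
      have : 1 < p ^ (Nat.card W).factorization p :=
        Nat.one_lt_pow hpos.ne' hp.out.one_lt
      omega
    rw [hm0, pow_zero, Subgroup.relIndex_eq_one] at hm
    exact absurd hm (not_le_of_gt hZW)
  · -- `W` is a normal `p'`-subgroup
    have hWc : (Nat.card W).Coprime p := by
      rw [← hcardW]
      exact Nat.Coprime.mul_left hZc hcop
    have hWK : W ≤ K := Cfsg.Agent.Helper5.le_pPrimeCore hWn hWc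
    exact absurd (le_inf hWC hWK) (not_le_of_gt hZW)


end Cfsg.Agent.Helper3.HHAb
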