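import Mathlib
import Cfsg.Prelude.Def_Local
import Cfsg.Agent.Helper1.Basic
import Cfsg.Agent.Helper1.Fitting
import Cfsg.Agent.Helper1.SZ
import Cfsg.Agent.Helper1.Coprime
import Cfsg.Agent.Helper1.OmegaOdd
import Cfsg.Agent.Helper1.AutPlumbing
import Cfsg.Agent.Helper1.HallHigmanDual
import Cfsg.Agent.Helper4.PCore
import Cfsg.Agent.Helper4.PSolvable
import Cfsg.Agent.Helper4.HallHigman
import Cfsg.Agent.Helper3.PLen
import Cfsg.Agent.Helper3.HHAbA
import Cfsg.Agent.Helper3.CoprimeHall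

set_option autoImplicit false

/-!
The Gaschütz–Yen theorem: a finite `p`-soluble group (`p` odd) whose automorphism group permutes
the subgroups of order `p` transitively has `p`-length at most one.
-/

namespace Cfsg.Agent.Helper3.GYen

open scoped Pointwise

universe u

variable {H : Type u} [Group H]

theorem exists_orderOf_eq_of_dvd_card [Finite H] {p : ℕ} [hp : Fact p.Prime] (K : Subgroup H)
    (h : p ∣ Nat.card K) : ∃ x ∈ K, orderOf x = p := by
  obtain ⟨z, hz⟩ := exists_prime_orderOf_dvd_card' p h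
  exact ⟨(z : H), z.2, by rw [Subgroup.orderOf_coe]; exact hz⟩

theorem dvd_card_of_ne_bot [Finite H] {p : ℕ} [hp : Fact p.Prime] {K : Subgroup H}
    (hK : IsPGroup p K) (hne : K ≠ ⊥) : p ∣ Nat.card K := by
  obtain ⟨k, hk⟩ := IsPGroup.iff_card.1 hK
  have hk0 : k ≠ 0 := by
    rintro rfl
    rw [pow_zero] at hk
    exact hne (Subgroup.card_eq_one.1 hk)
  rw [hk]
  exact dvd_pow_self p hk0

/-- the abstract core of the argument -/
theorem not_dvd_index_of_char [Finite H] {p : ℕ} [hp : Fact p.Prime] (hp2 : p ≠ 2)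
    (htr : ∀ x y : H, orderOf x = p → orderOf y = p → ∃ a : MulAut H, a x ∈ Subgroup.zpowers y)
    (T L : Subgroup H) [hTc : T.Characteristic] [hLc : L.Characteristic] (hTp : IsPGroup p T)
    (hTne : T ≠ ⊥) (hCT : Subgroup.centralizer (T : Set H) ≤ T) (hTL : T ≤ L)
    (hcop : (T.relIndex L).Coprime p) (hne : T ≠ L) : ¬ p ∣ T.index := by
  intro hidx
  have hTn : T.Normal := inferInstance
  have hLn : L.Normal := inferInstance
  -- a characteristic subgroup containing one element of order `p` contains all of them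
  have hB : ∀ C : Subgroup H, C.Characteristic → (∃ x ∈ C, orderOf x = p) →
      ∀ y : H, orderOf y = p → y ∈ C := by
    intro C hC hx y hy
    obtain ⟨x, hxC, hx⟩ := hx
    obtain ⟨a, ha⟩ := htr y x hy hx
    have h1 : a y ∈ C := (Subgroup.zpowers_le.2 hxC) ha
    have h2 := Subgroup.characteristic_iff_comap_eq.1 hC a
    rw [← h2]
    exact h1
  -- every element of order `p` lies in `Z(T)`
  have hallZ : ∀ y : H, orderOf y = p → y ∈ T ∧ ∀ t ∈ T, t * y = y * t := by
    haveI : Nontrivial T := (Subgroup.nontrivial_iff_ne_bot T).2 hTne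
    haveI hcn : Nontrivial (Subgroup.center T) := hTp.center_nontrivial
    obtain ⟨W, hW⟩ : ∃ W : Subgroup H, W = (Subgroup.center T).map T.subtype := ⟨_, rfl⟩
    have hWc : W.Characteristic := by rw [hW]; infer_instance
    have hWT : W ≤ T := by rw [hW]; exact Subgroup.map_subtype_le _
    have hWne : W ≠ ⊥ := by
      rw [hW]
      intro h
      rw [Subgroup.map_eq_bot_iff_of_injective _ T.subtype_injective] at h
      exact (Subgroup.nontrivial_iff_ne_bot _).1 hcn h
    have hWp : IsPGroup p W := hTp.to_le hWT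
    obtain ⟨x, hxW, hx⟩ := exists_orderOf_eq_of_dvd_card W (dvd_card_of_ne_bot hWp hWne)
    intro y hy
    have hyW := hB W hWc ⟨x, hxW, hx⟩ y hy
    rw [hW] at hyW
    obtain ⟨c, hc, rfl⟩ := hyW
    refine ⟨c.2, fun t ht => ?_⟩
    have := Subgroup.mem_center_iff.1 hc ⟨t, ht⟩
    exact congrArg Subtype.val this
  -- an element of `L` of prime order `q ≠ p`
  have hrel : T.relIndex L ≠ 1 := by
    intro h
    rw [Subgroup.relIndex_eq_one] at h
    exact hne (le_antisymm hTL h)
  obtain ⟨q, hq, hqd⟩ := Nat.exists_prime_and_dvd hrel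
  have hqp : q ≠ p := by
    rintro rfl
    exact (Nat.Prime.coprime_iff_not_dvd hq).1 hcop.symm hqd
  have hqL : q ∣ Nat.card L := by
    rw [← Cfsg.Agent.Helper1.relIndex_mul_card_of_le hTL]
    exact Dvd.dvd.mul_right hqd _
  haveI : Fact q.Prime := ⟨hq⟩
  obtain ⟨x, hxL, hx⟩ := exists_orderOf_eq_of_dvd_card (p := q) L hqL
  obtain ⟨kT, hkT⟩ := IsPGroup.iff_card.1 hTp
  by_cases hc : ∃ y ∈ Subgroup.centralizer (L : Set H), orderOf y = p
  · -- `L` centralizes all elements of order `p`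
    have hall := hB (Subgroup.centralizer (L : Set H)) inferInstance hc
    have hxc : (orderOf x).Coprime p := by
      rw [hx]; exact (Nat.coprime_primes hq hp.out).2 hqp
    have h1 : ∀ r ∈ T, x * r = r * x := by
      apply Cfsg.Agent.Helper1.centralizes_of_centralizes_order_p hp2 x hxc T hTp
      · rw [Subgroup.normalizer_eq_top]; trivial
      · intro r hr hro
        have := hall r hro
        rw [Subgroup.mem_centralizer_iff] at this
        exact this x hxL
    have hxT : x ∈ T := by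
      apply hCT
      rw [Subgroup.mem_centralizer_iff]
      intro r hr
      exact (h1 r hr).symm
    obtain ⟨k, hk⟩ := (IsPGroup.iff_orderOf.1 hTp) ⟨x, hxT⟩
    rw [Subgroup.orderOf_mk, hx] at hk
    have h2 : q ∣ p ^ k := by rw [← hk]
    have h3 : q ∣ p := hq.dvd_of_dvd_pow h2
    exact hqp ((Nat.prime_dvd_prime_iff_eq hq hp.out).1 h3)
  · push Not at hc
    have hTsolv : Group.IsSolvable T := by
      haveI := hTp.isNilpotent
      infer_instance
    -- a complement `L₀` of `T` in `L`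
    obtain ⟨L₀, hL₀L, hL₀card⟩ : ∃ L₀ : Subgroup H, L₀ ≤ L ∧ Nat.card L₀ = T.relIndex L := by
      haveI : (T.subgroupOf L).Normal := Subgroup.Normal.subgroupOf hTn L
      have hN : (Nat.card (T.subgroupOf L)).Coprime (T.subgroupOf L).index := by
        rw [Cfsg.Agent.Helper1.card_subgroupOf_of_le hTL, hkT]
        exact Nat.Coprime.pow_left kT hcop.symm
      obtain ⟨K', hK'⟩ := Subgroup.exists_right_complement'_of_coprime hN
      refine ⟨K'.map L.subtype, Subgroup.map_subtype_le _, ?_⟩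
      rw [Subgroup.card_map_of_injective L.subtype_injective]
      exact (Cfsg.Agent.Helper1.isComplement'_iff_card_eq_index hN).1 hK'
    have hcopTL₀ : (Nat.card T).Coprime (Nat.card L₀) := by
      rw [hL₀card, hkT]
      exact Nat.Coprime.pow_left kT hcop.symm
    have hdisj : L₀ ⊓ T = ⊥ := Cfsg.Agent.Helper1.inf_eq_bot_of_coprime_card hcopTL₀.symm
    have hL₀norm : L₀ ≤ Subgroup.normalizer (T : Set H) := by
      rw [Subgroup.normalizer_eq_top]; exact le_top
    have hsup : T ⊔ L₀ = L := by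
      apply Subgroup.eq_of_le_of_card_ge (sup_le hTL hL₀L)
      rw [Cfsg.Agent.Helper1.card_sup_of_le_normalizer hL₀norm hdisj, hL₀card,
        Cfsg.Agent.Helper1.relIndex_mul_card_of_le hTL]
    -- Frattini argument
    have hfrat : ∀ g : H, ∃ n ∈ T, n⁻¹ * g ∈ Subgroup.normalizer (L₀ : Set H) := by
      intro g
      have hB' : MulAut.conj g • L₀ ≤ T ⊔ L₀ := by
        rw [hsup]
        intro y hy
        rw [Cfsg.Agent.Helper1.mem_conj_smul] at hy
        have h1 : g⁻¹ * y * g ∈ L := hL₀L hy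
        have h2 := hLn.conj_mem _ h1 g
        have h3 : g * (g⁻¹ * y * g) * g⁻¹ = y := by group
        rwa [h3] at h2
      obtain ⟨n, hn, hn'⟩ := Cfsg.Agent.Helper1.sz_conj_internal T L₀ (MulAut.conj g • L₀)
        hL₀norm hB' (Cfsg.Agent.Helper1.card_conj_smul g L₀) hcopTL₀ (Or.inl hTsolv)
      refine ⟨n, hn, ?_⟩
      apply Cfsg.Agent.Helper1.mem_normalizer_of_conj_smul_eq
      rw [map_mul, mul_smul, ← hn', ← mul_smul, ← map_mul, inv_mul_cancel, map_one, one_smul]
    obtain ⟨N, hN⟩ : ∃ N : Subgroup H, N = Subgroup.normalizer (L₀ : Set H) := ⟨_, rfl⟩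
    have hTN : T ⊓ N = ⊥ := by
      by_contra hne'
      have hXp : IsPGroup p (T ⊓ N : Subgroup H) := hTp.to_le inf_le_left
      obtain ⟨t, ht, hto⟩ := exists_orderOf_eq_of_dvd_card (T ⊓ N) (dvd_card_of_ne_bot hXp hne')
      obtain ⟨htT, htN⟩ := Subgroup.mem_inf.1 ht
      have h1 : ∀ k ∈ L₀, k * t = t * k := by
        intro k hk
        have h2 : t * k * t⁻¹ * k⁻¹ ∈ L₀ := by
          rw [hN] at htN
          have := (Subgroup.mem_normalizer_iff.1 htN k).1 hk
          exact L₀.mul_mem this (L₀.inv_mem hk)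
        have h3 : t * k * t⁻¹ * k⁻¹ ∈ T := by
          have h4 : k * t⁻¹ * k⁻¹ ∈ T := hTn.conj_mem _ (T.inv_mem htT) k
          have h5 := T.mul_mem htT h4
          have h6 : t * (k * t⁻¹ * k⁻¹) = t * k * t⁻¹ * k⁻¹ := by group
          rwa [h6] at h5
        have h5 : t * k * t⁻¹ * k⁻¹ ∈ L₀ ⊓ T := ⟨h2, h3⟩
        rw [hdisj, Subgroup.mem_bot] at h5
        have h6 : t * k * t⁻¹ * k⁻¹ * (k * t) = k * t := by rw [h5, one_mul]
        rw [← h6]; group
      have h2 : t ∈ Subgroup.centralizer (L : Set H) := by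
        have hle : L ≤ Subgroup.centralizer ({t} : Set H) := by
          rw [← hsup]
          apply sup_le
          · intro s hs
            rw [Subgroup.mem_centralizer_iff]
            intro h hh
            rw [Set.mem_singleton_iff] at hh
            rw [hh]
            exact ((hallZ t hto).2 s hs).symm
          · intro k hk
            rw [Subgroup.mem_centralizer_iff]
            intro h hh
            rw [Set.mem_singleton_iff] at hh
            rw [hh]
            exact (h1 k hk).symm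
        rw [Subgroup.mem_centralizer_iff]
        intro l hl
        have := hle hl
        rw [Subgroup.mem_centralizer_iff] at this
        exact (this t rfl).symm
      exact hc t h2 hto
    have hTNtop : T ⊔ N = ⊤ := by
      rw [eq_top_iff]
      intro g _
      obtain ⟨n, hn, hn'⟩ := hfrat g
      have h1 : g = n * (n⁻¹ * g) := by group
      rw [h1]
      exact Subgroup.mul_mem _ (Subgroup.mem_sup_left hn) (Subgroup.mem_sup_right (hN ▸ hn'))
    have hcardN : Nat.card N = T.index := by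
      have h1 : Nat.card (N ⊔ T : Subgroup H) = Nat.card N * Nat.card T :=
        Cfsg.Agent.Helper1.card_sup_of_disjoint_normal N T (by rw [inf_comm]; exact hTN)
      rw [sup_comm, hTNtop, Subgroup.card_top] at h1
      have h2 := T.index_mul_card
      rw [h1] at h2
      exact (Nat.eq_of_mul_eq_mul_right Nat.card_pos h2).symm
    obtain ⟨y, hyN, hy⟩ := exists_orderOf_eq_of_dvd_card N (hcardN ▸ hidx)
    have hyT := (hallZ y hy).1
    have h1 : y ∈ T ⊓ N := ⟨hyT, hyN⟩
    rw [hTN, Subgroup.mem_bot] at h1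
    rw [h1, orderOf_one] at hy
    exact hp.out.one_lt.ne hy

theorem pPrimeCore_char (p : ℕ) (X : Type*) [Group X] [Finite X] :
    (Cfsg.pPrimeCore p X).Characteristic := by
  rw [Subgroup.characteristic_iff_map_le]
  intro φ
  apply Cfsg.Agent.Helper1.le_pPrimeCore
  · exact Subgroup.Normal.map inferInstance _ φ.surjective
  · rw [Subgroup.card_map_of_injective φ.injective]
    exact Cfsg.Agent.Helper1.card_pPrimeCore_coprime p

/-- the preimage of a characteristic subgroup of the quotient by a characteristic subgroup -/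
theorem comap_mk'_characteristic (N : Subgroup H) [N.Normal] (hN : N.Characteristic)
    (C : Subgroup (H ⧸ N)) [hC : C.Characteristic] :
    (C.comap (QuotientGroup.mk' N)).Characteristic := by
  rw [Subgroup.characteristic_iff_le_comap]
  intro φ x hx
  rw [Subgroup.mem_comap] at hx
  have h1 := (Subgroup.characteristic_iff_le_comap.1 hC)
    (Cfsg.Agent.Helper1.AutPlumbing.quotAut N hN φ) hx
  exact h1

/-- the case `O_{p'}(H) = 1` -/
theorem not_dvd_index_pCore [Finite H] {p : ℕ} [hp : Fact p.Prime] (hp2 : p ≠ 2)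
    (hdvd : p ∣ Nat.card H) (hsol : Cfsg.IsPSolvable p H) (hO : Cfsg.pPrimeCore p H = ⊥)
    (htr : ∀ x y : H, orderOf x = p → orderOf y = p → ∃ a : MulAut H, a x ∈ Subgroup.zpowers y) :
    ¬ p ∣ (Cfsg.pCore p H).index := by
  intro hidx
  haveI hTc : (Cfsg.pCore p H).Characteristic := Cfsg.Agent.Helper3.pCore_characteristic p H
  have hTp : IsPGroup p (Cfsg.pCore p H) := Cfsg.Agent.Helper4.pCore_isPGroup
  have hCT := Cfsg.Agent.Helper4.centralizer_pCore_le_of_isPSolvable hsol hO
  have hTne : Cfsg.pCore p H ≠ ⊥ := by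
    intro h
    have h1 : (⊤ : Subgroup H) ≤ Cfsg.pCore p H := by
      refine le_trans ?_ hCT
      rw [h]
      intro x _
      rw [Subgroup.mem_centralizer_iff]
      intro y hy
      rw [Subgroup.coe_bot, Set.mem_singleton_iff] at hy
      rw [hy, one_mul, mul_one]
    rw [h] at h1
    have hbt : (⊥ : Subgroup H) = ⊤ := top_le_iff.1 h1
    have h2 : Nat.card H = 1 := by
      rw [← Subgroup.card_top (G := H), ← hbt, Subgroup.card_bot]
    rw [h2] at hdvd
    exact hp.out.one_lt.ne' (Nat.dvd_one.1 hdvd)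
  have hQsol : Cfsg.IsPSolvable p (H ⧸ Cfsg.pCore p H) :=
    Cfsg.Agent.Helper4.isPSolvable_quotient hsol _
  have hQO : Cfsg.pCore p (H ⧸ Cfsg.pCore p H) = ⊥ :=
    Cfsg.Agent.Helper3.HHAb.pCore_quotient_pCore p
  have hCQ := Cfsg.Agent.Helper1.centralizer_pPrimeCore_le_of_isPSolvable hQsol hQO
  have hLq : Cfsg.pPrimeCore p (H ⧸ Cfsg.pCore p H) ≠ ⊥ := by
    intro h
    have h1 : (⊤ : Subgroup (H ⧸ Cfsg.pCore p H)) ≤ ⊥ := by
      rw [h] at hCQ
      refine le_trans ?_ hCQ
      intro x _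
      rw [Subgroup.mem_centralizer_iff]
      intro y hy
      rw [Subgroup.coe_bot, Set.mem_singleton_iff] at hy
      rw [hy, one_mul, mul_one]
    have hbt : (⊥ : Subgroup (H ⧸ Cfsg.pCore p H)) = ⊤ := top_le_iff.1 h1
    have h2 : Nat.card (H ⧸ Cfsg.pCore p H) = 1 := by
      rw [← Subgroup.card_top (G := H ⧸ Cfsg.pCore p H), ← hbt, Subgroup.card_bot]
    have h3 : (Cfsg.pCore p H).index = 1 := h2
    rw [h3] at hidx
    exact hp.out.one_lt.ne' (Nat.dvd_one.1 hidx)
  obtain ⟨L, hL⟩ : ∃ L : Subgroup H, L = (Cfsg.pPrimeCore p (H ⧸ Cfsg.pCore p H)).comap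
      (QuotientGroup.mk' (Cfsg.pCore p H)) := ⟨_, rfl⟩
  have hTL : Cfsg.pCore p H ≤ L := by
    rw [hL]
    intro x hx
    rw [Subgroup.mem_comap]
    have : QuotientGroup.mk' (Cfsg.pCore p H) x = 1 := (QuotientGroup.eq_one_iff x).2 hx
    rw [this]
    exact Subgroup.one_mem _
  haveI hLqc : (Cfsg.pPrimeCore p (H ⧸ Cfsg.pCore p H)).Characteristic :=
    pPrimeCore_char p _
  haveI hLc : L.Characteristic := by
    rw [hL]
    exact comap_mk'_characteristic _ hTc _
  have hrel : (Cfsg.pCore p H).relIndex L = Nat.card (Cfsg.pPrimeCore p (H ⧸ Cfsg.pCore p H)) := by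
    rw [hL]
    exact Cfsg.Agent.Helper3.PLen.relIndex_comap_mk' _ _
  have hcop : ((Cfsg.pCore p H).relIndex L).Coprime p := by
    rw [hrel]
    exact Cfsg.Agent.Helper1.card_pPrimeCore_coprime p
  have hne : Cfsg.pCore p H ≠ L := by
    intro h
    rw [← h, Subgroup.relIndex_self] at hrel
    exact hLq (Subgroup.card_eq_one.1 hrel.symm)
  exact not_dvd_index_of_char hp2 htr (Cfsg.pCore p H) L hTp hTne hCT hTL hcop hne hidx

/-- `p`-length one from `p ∤ |H : O_p(H)|` -/
theorem pLengthLE_one_of_index_pCore [Finite H] {p : ℕ} [hp : Fact p.Prime]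
    (h : ¬ p ∣ (Cfsg.pCore p H).index) : Cfsg.PLengthLE p 1 H := by
  rw [Cfsg.Agent.Helper3.PLen.pLengthLE_iff]
  apply top_le_iff.1
  have h2 : Cfsg.pCore p H ≤ Cfsg.Agent.Helper3.PLen.U p H 2 := by
    apply Cfsg.Agent.Helper3.PLen.ascent p 1
    unfold Cfsg.Agent.Helper3.PLen.Good
    rw [if_neg (by decide)]
    obtain ⟨k, hk⟩ := IsPGroup.iff_card.1 (Cfsg.Agent.Helper4.pCore_isPGroup (G := H) (p := p))
    have h3 : (Cfsg.Agent.Helper3.PLen.U p H 1).relIndex (Cfsg.pCore p H) ∣ p ^ k :=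
      hk ▸ Subgroup.relIndex_dvd_card _ _
    obtain ⟨m, -, hm⟩ := (Nat.dvd_prime_pow hp.out).1 h3
    exact ⟨m, hm⟩
  apply Cfsg.Agent.Helper3.PLen.ascent p 2
  unfold Cfsg.Agent.Helper3.PLen.Good
  rw [if_pos (by decide)]
  rw [Subgroup.relIndex_top_right]
  have h3 := Subgroup.index_dvd_of_le h2
  exact Nat.Coprime.coprime_dvd_left h3 ((Nat.Prime.coprime_iff_not_dvd hp.out).2 h).symm

/-- lifting elements of order `p` through a quotient by a normal `p'`-subgroup -/
theorem exists_lift_orderOf [Finite H] {p : ℕ} [hp : Fact p.Prime] (K : Subgroup H) [K.Normal]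
    (hK : (Nat.card K).Coprime p) (xb : H ⧸ K) (hx : orderOf xb = p) :
    ∃ x : H, orderOf x = p ∧ QuotientGroup.mk' K x = xb := by
  obtain ⟨u, rfl⟩ := QuotientGroup.mk'_surjective K xb
  have hup : u ^ p ∈ K := by
    rw [← QuotientGroup.eq_one_iff, QuotientGroup.mk_pow]
    have := pow_orderOf_eq_one (QuotientGroup.mk' K u)
    rw [hx] at this
    exact this
  obtain ⟨c, -, hc⟩ := Nat.exists_mul_mod_eq_one_of_coprime hK hp.out.one_lt
  have h1 : (u ^ (Nat.card K * c)) ^ p = 1 := by
    rw [← pow_mul, mul_comm, pow_mul, pow_mul]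
    have h2 : (u ^ p) ^ Nat.card K = 1 := by
      have := pow_card_eq_one' (G := K) (x := ⟨u ^ p, hup⟩)
      exact congrArg Subtype.val this
    rw [h2, one_pow]
  have h3 : QuotientGroup.mk' K (u ^ (Nat.card K * c)) = QuotientGroup.mk' K u := by
    rw [map_pow, ← pow_mod_orderOf, hx, hc, pow_one]
  have h4 : u ^ (Nat.card K * c) ≠ 1 := by
    intro h
    rw [h, map_one] at h3
    rw [← h3, orderOf_one] at hx
    exact hp.out.one_lt.ne hx
  exact ⟨u ^ (Nat.card K * c), orderOf_eq_prime h1 h4, h3⟩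

/-- **Gaschütz–Yen** -/
theorem gaschutz_yen [Finite H] {p : ℕ} [hp : Fact p.Prime] (hp2 : p ≠ 2)
    (hdvd : p ∣ Nat.card H) (hsol : Cfsg.IsPSolvable p H)
    (htrans : ∀ U V : Subgroup H, Nat.card U = p → Nat.card V = p →
      ∃ a : MulAut H, U.map a.toMonoidHom = V) : Cfsg.PLengthLE p 1 H := by
  have hKc : (Cfsg.pPrimeCore p H).Characteristic := pPrimeCore_char p H
  have hKcop : (Nat.card (Cfsg.pPrimeCore p H)).Coprime p :=
    Cfsg.Agent.Helper1.card_pPrimeCore_coprime p
  apply Cfsg.Agent.Helper3.PLen.pLengthLE_of_quotient_coprime p (Cfsg.pPrimeCore p H) hKcop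
  apply pLengthLE_one_of_index_pCore
  apply not_dvd_index_pCore hp2
  · have h1 := Subgroup.card_eq_card_quotient_mul_card_subgroup (Cfsg.pPrimeCore p H)
    rw [h1] at hdvd
    exact (Nat.Coprime.dvd_of_dvd_mul_right hKcop.symm hdvd)
  · exact Cfsg.Agent.Helper4.isPSolvable_quotient hsol _
  · exact Cfsg.Agent.Helper4.pPrimeCore_quotient_eq_bot p
  · intro xb yb hxb hyb
    obtain ⟨x, hx, rfl⟩ := exists_lift_orderOf (Cfsg.pPrimeCore p H) hKcop xb hxb
    obtain ⟨y, hy, rfl⟩ := exists_lift_orderOf (Cfsg.pPrimeCore p H) hKcop yb hyb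
    obtain ⟨a, ha⟩ := htrans (Subgroup.zpowers x) (Subgroup.zpowers y)
      (by rw [Nat.card_zpowers, hx]) (by rw [Nat.card_zpowers, hy])
    have h1 : a x ∈ Subgroup.zpowers y := by
      rw [← ha]
      exact Subgroup.mem_map_of_mem _ (Subgroup.mem_zpowers x)
    obtain ⟨k, hk⟩ := Subgroup.mem_zpowers_iff.1 h1
    refine ⟨Cfsg.Agent.Helper1.AutPlumbing.quotAut (Cfsg.pPrimeCore p H) hKc a, ?_⟩
    rw [Subgroup.mem_zpowers_iff]
    refine ⟨k, ?_⟩
    change _ = QuotientGroup.mk' (Cfsg.pPrimeCore p H) (a x)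
    rw [← hk, map_zpow]

end Cfsg.Agent.Helper3.GYen
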