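import Mathlib
import Cfsg.Prelude.Def_GeometricClasses
import Cfsg.Agent.Lead.AschBase

/-!
# ASCH-PRIME, pieces P10 and P11 (helper3)

* P10: an invariant non-degenerate (sesquilinear / quadratic) form of an absolutely irreducible group `P`
  is unique up to scalars, so everything normalizing `P` lies in the similarity group of the form.
* P11: there is no non-degenerate alternating form in odd dimension (hence no non-degenerate quadratic form
  in odd dimension over a field of even order).
-/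

set_option autoImplicit false

namespace Cfsg.Agent.Helper3.Asch

open Cfsg Cfsg.Geo Cfsg.Agent.Lead.Asch
open scoped MatrixGroups Matrix

variable {n : ℕ} {F : Type*} [Field F]

/-! ## sesquilinear forms given as functions, Gram matrices -/

/-- `f` is linear in the first variable and `σ`-semilinear in the second. -/
structure IsSesq (σ : F ≃+* F) (f : (Fin n → F) → (Fin n → F) → F) : Prop where
  add_left : ∀ x y v, f (x + y) v = f x v + f y v
  smul_left : ∀ (c : F) (x v : Fin n → F), f (c • x) v = c * f x v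
  add_right : ∀ v x y, f v (x + y) = f v x + f v y
  smul_right : ∀ (c : F) (v x : Fin n → F), f v (c • x) = σ c * f v x

theorem IsSesq.of_bilinear {f : (Fin n → F) → (Fin n → F) → F} (hf : IsBilinearForm f) :
    IsSesq (RingEquiv.refl F) f :=
  ⟨hf.add_left, hf.smul_left, hf.add_right, by intro c v x; simpa using hf.smul_right c v x⟩

theorem IsSesq.of_unitary {σ : F ≃+* F} {f : (Fin n → F) → (Fin n → F) → F} (hf : IsUnitaryForm σ f) :
    IsSesq σ f where
  add_left := hf.add_left
  smul_left := hf.smul_left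
  add_right := by
    intro v x y
    rw [hf.herm v (x + y), hf.add_left, map_add, ← hf.herm, ← hf.herm]
  smul_right := by
    intro c v x
    rw [hf.herm v (c • x), hf.smul_left, map_mul, ← hf.herm]

/-- the standard basis vectors, in the shape used by `LinearMap.pi_apply_eq_sum_univ` -/
def bv (i : Fin n) : Fin n → F := fun j => if i = j then 1 else 0

/-- the Gram matrix -/
def gram (f : (Fin n → F) → (Fin n → F) → F) : Matrix (Fin n) (Fin n) F :=
  fun i j => f (bv i) (bv j)

theorem IsSesq.sub_left {σ : F ≃+* F} {f : (Fin n → F) → (Fin n → F) → F} (hf : IsSesq σ f)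
    (x y v : Fin n → F) : f (x - y) v = f x v - f y v := by
  have h := hf.add_left (x - y) y v
  rw [sub_add_cancel] at h
  rw [h]; ring

theorem IsSesq.expand {σ : F ≃+* F} {f : (Fin n → F) → (Fin n → F) → F} (hf : IsSesq σ f)
    (u v : Fin n → F) : f u v = u ⬝ᵥ (gram f *ᵥ (fun j => σ (v j))) := by
  let L : (Fin n → F) →ₗ[F] F :=
    { toFun := fun x => f x v
      map_add' := fun x y => hf.add_left x y v
      map_smul' := fun c x => by simpa using hf.smul_left c x v }
  have h1 : f u v = ∑ i, u i * f (bv i) v := by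
    have h := LinearMap.pi_apply_eq_sum_univ L u
    simp only [L, LinearMap.coe_mk, AddHom.coe_mk, smul_eq_mul] at h
    exact h
  have h2 : ∀ i, f (bv i) v = ∑ j, f (bv i) (bv j) * σ (v j) := by
    intro i
    let R : (Fin n → F) →ₗ[F] F :=
      { toFun := fun x => σ.symm (f (bv i) x)
        map_add' := fun x y => by simp [hf.add_right]
        map_smul' := fun c x => by simp [hf.smul_right] }
    have h := LinearMap.pi_apply_eq_sum_univ R v
    have h3 : σ.symm (f (bv i) v) = ∑ j, v j * σ.symm (f (bv i) (bv j)) := by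
      simp only [R, LinearMap.coe_mk, AddHom.coe_mk, smul_eq_mul] at h
      exact h
    have h4 := congrArg σ h3
    rw [RingEquiv.apply_symm_apply, map_sum] at h4
    rw [h4]
    apply Finset.sum_congr rfl
    intro j _
    rw [map_mul, RingEquiv.apply_symm_apply, mul_comm]
  rw [h1]
  simp only [dotProduct, Matrix.mulVec, gram]
  apply Finset.sum_congr rfl
  intro i _
  rw [h2 i]

theorem IsSesq.isUnit_det_gram {σ : F ≃+* F} {f : (Fin n → F) → (Fin n → F) → F} (hf : IsSesq σ f)
    (hnd : ∀ v : Fin n → F, v ≠ 0 → ∃ x, f x v ≠ 0) : IsUnit (gram f).det := by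
  rw [isUnit_iff_ne_zero]
  intro h0
  obtain ⟨w, hw, hw0⟩ := Matrix.exists_mulVec_eq_zero_iff.mpr h0
  have hv : (fun j => σ.symm (w j)) ≠ (0 : Fin n → F) := by
    intro hv
    apply hw
    funext j
    have := congrFun hv j
    simpa using this
  obtain ⟨x, hx⟩ := hnd _ hv
  apply hx
  rw [hf.expand]
  have h1 : (fun j => σ (σ.symm (w j))) = w := by
    funext j; simp
  rw [h1, hw0, dotProduct_zero]

/-- every `σ`-sesquilinear form is `f (M ·) ·` for a non-degenerate `f` -/
theorem IsSesq.exists_repr {σ : F ≃+* F} {f f' : (Fin n → F) → (Fin n → F) → F} (hf : IsSesq σ f)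
    (hf' : IsSesq σ f') (hnd : ∀ v : Fin n → F, v ≠ 0 → ∃ x, f x v ≠ 0) :
    ∃ M : Matrix (Fin n) (Fin n) F, ∀ u v, f' u v = f (M *ᵥ u) v := by
  have hG := hf.isUnit_det_gram hnd
  refine ⟨(gram f' * (gram f)⁻¹)ᵀ, fun u v => ?_⟩
  rw [hf'.expand, hf.expand, Matrix.mulVec_transpose, ← Matrix.dotProduct_mulVec, Matrix.mulVec_mulVec,
    Matrix.nonsing_inv_mul_cancel_right _ _ hG]

/-- the core of P10: the elements normalizing an absolutely irreducible group `P` multiply a
`P`-invariant non-degenerate sesquilinear form by a scalar -/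
theorem sesq_similarity {σ : F ≃+* F} {f : (Fin n → F) → (Fin n → F) → F} (hf : IsSesq σ f)
    (hnd : IsNondegenerateForm f) {H P : Subgroup (GL (Fin n) F)} (hnz : Nzes H P)
    (hP : ActsAbsolutelyIrreducibly (matrixSet P)) (hfix : FixesForm (matrixSet P) f)
    (h : GL (Fin n) F) (hh : h ∈ H) :
    ∃ c : F, ∀ u v, f ((h : Matrix (Fin n) (Fin n) F) *ᵥ u) ((h : Matrix (Fin n) (Fin n) F) *ᵥ v) =
      c * f u v := by
  set hm : Matrix (Fin n) (Fin n) F := (h : Matrix (Fin n) (Fin n) F) with hhm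
  have hf' : IsSesq σ (fun u v => f (hm *ᵥ u) (hm *ᵥ v)) := by
    refine ⟨?_, ?_, ?_, ?_⟩
    · intro x y v; simp only [Matrix.mulVec_add, hf.add_left]
    · intro c x v; simp only [Matrix.mulVec_smul, hf.smul_left]
    · intro v x y; simp only [Matrix.mulVec_add, hf.add_right]
    · intro c v x; simp only [Matrix.mulVec_smul, hf.smul_right]
  obtain ⟨M, hM⟩ := hf.exists_repr hf' (fun v hv => (hnd v hv).1)
  -- `M` commutes with `P`
  have hcomm : ∀ s ∈ matrixSet P, M * s = s * M := by
    intro s hs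
    obtain ⟨g, hg, rfl⟩ := mem_matrixSet_iff.mp hs
    apply Matrix.mulVec_injective
    funext u
    by_contra hne
    have hd : (M * (g : Matrix (Fin n) (Fin n) F)) *ᵥ u - ((g : Matrix (Fin n) (Fin n) F) * M) *ᵥ u ≠ 0 :=
      sub_ne_zero.mpr hne
    obtain ⟨x, hx⟩ := (hnd _ hd).2
    apply hx
    -- write `x = g y`
    set y : Fin n → F := ((g⁻¹ : GL (Fin n) F) : Matrix (Fin n) (Fin n) F) *ᵥ x with hy
    have hxy : x = (g : Matrix (Fin n) (Fin n) F) *ᵥ y := by
      rw [hy, Matrix.mulVec_mulVec, ← Units.val_mul, mul_inv_cancel, Units.val_one, Matrix.one_mulVec]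
    rw [hf.sub_left, hxy, sub_eq_zero]
    -- left side: f (M (g u)) (g y) = f' (g u) (g y)... wait it is f (M g u) (g y)
    have e1 : f ((M * (g : Matrix (Fin n) (Fin n) F)) *ᵥ u) ((g : Matrix (Fin n) (Fin n) F) *ᵥ y) =
        f (hm *ᵥ u) (hm *ᵥ y) := by
      rw [← Matrix.mulVec_mulVec, ← hM]
      -- f (h (g u)) (h (g y)) = f (h u) (h y) via h g h⁻¹ ∈ P
      have hgP : h * g * h⁻¹ ∈ P := hnz h hh g hg
      have e2 := hfix _ (coe_mem_matrixSet hgP) (hm *ᵥ u) (hm *ᵥ y)
      rw [← e2]
      have e3 : ∀ z : Fin n → F, ((h * g * h⁻¹ : GL (Fin n) F) : Matrix (Fin n) (Fin n) F) *ᵥ (hm *ᵥ z) =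
          hm *ᵥ ((g : Matrix (Fin n) (Fin n) F) *ᵥ z) := by
        intro z
        rw [Matrix.mulVec_mulVec, Matrix.mulVec_mulVec, hhm, ← Units.val_mul, ← Units.val_mul]
        congr 2
        group
      rw [e3, e3]
    have e4 : f (((g : Matrix (Fin n) (Fin n) F) * M) *ᵥ u) ((g : Matrix (Fin n) (Fin n) F) *ᵥ y) =
        f (hm *ᵥ u) (hm *ᵥ y) := by
      rw [← Matrix.mulVec_mulVec, hfix _ (coe_mem_matrixSet hg), ← hM]
    rw [e1, e4]
  obtain ⟨c, hc⟩ := hP.2 M hcomm
  refine ⟨c, fun u v => ?_⟩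
  have := hM u v
  rw [this, hc, Matrix.smul_mulVec, Matrix.one_mulVec, hf.smul_left]

/-! ## P10 -/

theorem le_similarityGroup_unitary {H P : Subgroup (GL (Fin n) F)} (hnz : Nzes H P)
    (hP : ActsAbsolutelyIrreducibly (matrixSet P)) (σ : F ≃+* F) (f : (Fin n → F) → (Fin n → F) → F)
    (hf : IsUnitaryForm σ f) (hfix : FixesForm (matrixSet P) f) : H ≤ similarityGroup f := by
  intro h hh
  obtain ⟨c, hc⟩ := sesq_similarity (IsSesq.of_unitary hf) hf.nondegenerate hnz hP hfix h hh
  change ∃ c : Fˣ, ∀ u v, f ((h : Matrix (Fin n) (Fin n) F) *ᵥ u) ((h : Matrix (Fin n) (Fin n) F) *ᵥ v) =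
    (c : F) * f u v
  by_cases h0 : c = 0
  · have hz : ∀ u v, f u v = 0 := by
      intro u v
      have h1 := hc (((h⁻¹ : GL (Fin n) F) : Matrix (Fin n) (Fin n) F) *ᵥ u)
        (((h⁻¹ : GL (Fin n) F) : Matrix (Fin n) (Fin n) F) *ᵥ v)
      rw [Matrix.mulVec_mulVec, Matrix.mulVec_mulVec, ← Units.val_mul, mul_inv_cancel, Units.val_one,
        Matrix.one_mulVec, Matrix.one_mulVec, h0, zero_mul] at h1
      exact h1
    exact ⟨1, fun u v => by rw [hz, hz]; simp⟩
  · exact ⟨Units.mk0 c h0, fun u v => by rw [hc]; rfl⟩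

theorem le_quadSimilarityGroup [Fintype F] {H P : Subgroup (GL (Fin n) F)} (hnz : Nzes H P)
    (hP : ActsAbsolutelyIrreducibly (matrixSet P)) (hodd : Odd (Fintype.card F))
    (Q : (Fin n → F) → F) (hQ : IsNondegenerateQuadraticForm Q) (hfix : FixesQuadForm (matrixSet P) Q) :
    H ≤ quadSimilarityGroup Q := by
  intro h hh
  have h2 : (2 : F) ≠ 0 := by
    intro h20
    have hchar : ringChar F = 2 :=
      CharP.ringChar_of_prime_eq_zero Nat.prime_two (by exact_mod_cast h20)
    have := FiniteField.even_card_of_char_two hchar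
    rw [Nat.odd_iff] at hodd
    omega
  have hBfix : FixesForm (matrixSet P) (QuadraticMap.polar Q) := by
    intro s hs u v
    simp only [QuadraticMap.polar, ← Matrix.mulVec_add, hfix s hs]
  obtain ⟨c, hc⟩ := sesq_similarity (IsSesq.of_bilinear hQ.polar_bilinear) hQ.nondegenerate hnz hP
    hBfix h hh
  have hQB : ∀ v, Q v = QuadraticMap.polar Q v v / 2 := by
    intro v
    have h3 : QuadraticMap.polar Q v v = 2 * Q v := by
      simp only [QuadraticMap.polar]
      have h4 := hQ.smul 2 v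
      rw [two_smul] at h4
      rw [h4]; ring
    rw [h3]; field_simp
  have hQh : ∀ v, Q ((h : Matrix (Fin n) (Fin n) F) *ᵥ v) = c * Q v := by
    intro v; rw [hQB, hc, hQB v]; ring
  change ∃ c : Fˣ, ∀ v, Q ((h : Matrix (Fin n) (Fin n) F) *ᵥ v) = (c : F) * Q v
  by_cases h0 : c = 0
  · have hz : ∀ v, Q v = 0 := by
      intro v
      have h1 := hQh (((h⁻¹ : GL (Fin n) F) : Matrix (Fin n) (Fin n) F) *ᵥ v)
      rw [Matrix.mulVec_mulVec, ← Units.val_mul, mul_inv_cancel, Units.val_one,
        Matrix.one_mulVec, h0, zero_mul] at h1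
      exact h1
    exact ⟨1, fun v => by rw [hz, hz]; simp⟩
  · exact ⟨Units.mk0 c h0, fun v => by rw [hQh]; rfl⟩

/-! ## P11 -/

/-- an alternating matrix of odd size has determinant zero (over any commutative ring) -/
theorem det_eq_zero_of_alternating_odd {R : Type*} [CommRing R] {m : ℕ} (hm : Odd m)
    (A : Matrix (Fin m) (Fin m) R) (hdiag : ∀ i, A i i = 0) (hskew : ∀ i j, A j i = - A i j) :
    A.det = 0 := by
  rw [Matrix.det_apply]
  refine Finset.sum_involution (fun σ _ => σ⁻¹) ?_ ?_ (fun _ _ => Finset.mem_univ _)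
    (fun σ _ => inv_inv σ)
  · intro σ _
    have h1 : ∏ i, A (σ⁻¹ i) i = ∏ i, A i (σ i) := by
      rw [← Equiv.prod_comp σ (fun i => A (σ⁻¹ i) i)]
      simp
    have h2 : ∏ i, A i (σ i) = - ∏ i, A (σ i) i := by
      have h3 : ∀ i, A i (σ i) = - A (σ i) i := fun i => hskew (σ i) i
      simp_rw [h3]
      rw [Finset.prod_neg, Finset.card_univ, Fintype.card_fin, hm.neg_one_pow]; ring
    rw [Equiv.Perm.sign_inv, h1, h2]
    simp
  · intro σ _ hne hσ
    apply hne
    have hσ2 : σ ^ 2 ^ 1 = 1 := by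
      rw [pow_one, sq]
      calc σ * σ = σ⁻¹ * σ := by rw [hσ]
        _ = 1 := inv_mul_cancel σ
    have : Fact (Nat.Prime 2) := ⟨Nat.prime_two⟩
    have hcard : ¬ 2 ∣ Fintype.card (Fin m) := by
      rw [Fintype.card_fin]
      intro h
      exact (Nat.not_even_iff_odd.mpr hm) (even_iff_two_dvd.mpr h)
    obtain ⟨a, ha⟩ := Equiv.Perm.exists_fixed_point_of_prime (p := 2) (n := 1) hcard hσ2
    have h0 : ∏ i, A (σ i) i = 0 :=
      Finset.prod_eq_zero (Finset.mem_univ a) (by rw [ha]; exact hdiag a)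
    rw [h0, smul_zero]

theorem no_symplectic_of_odd (hn : Odd n) (f : (Fin n → F) → (Fin n → F) → F) : ¬ IsSymplecticForm f := by
  intro hf
  have hs := IsSesq.of_bilinear hf.bilinear
  have hunit := hs.isUnit_det_gram (fun v hv => (hf.nondegenerate v hv).1)
  have h0 : (gram f).det = 0 :=
    det_eq_zero_of_alternating_odd hn _ (fun i => hf.alternating _) (fun i j => hf.skew _ _)
  rw [h0] at hunit
  exact not_isUnit_zero hunit

theorem no_quadratic_of_odd_of_even [Fintype F] (hn : Odd n) (hq : ¬ Odd (Fintype.card F))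
    (Q : (Fin n → F) → F) : ¬ IsNondegenerateQuadraticForm Q := by
  intro hQ
  have hchar : ringChar F = 2 := by
    apply FiniteField.even_card_iff_char_two.mpr
    rcases Nat.even_or_odd (Fintype.card F) with h | h
    · exact Nat.even_iff.mp h
    · exact absurd h hq
  have h2 : (2 : F) = 0 := by
    have h3 := ringChar.Nat.cast_ringChar (R := F)
    rw [hchar] at h3
    exact_mod_cast h3
  apply no_symplectic_of_odd hn (QuadraticMap.polar Q)
  refine ⟨hQ.polar_bilinear, ?_, ?_, hQ.nondegenerate⟩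
  · intro v w
    have hneg : ∀ x : F, -x = x := by
      intro x
      have h4 : x + x = 0 := by rw [← two_mul, h2, zero_mul]
      exact neg_eq_of_add_eq_zero_left h4
    rw [hneg]
    simp only [QuadraticMap.polar, add_comm v w]
    ring
  · intro v
    simp only [QuadraticMap.polar]
    have h4 := hQ.smul 2 v
    rw [two_smul] at h4
    have h5 : (2 : F) ^ 2 * Q v - Q v - Q v = 2 * Q v := by ring
    rw [h4, h5, h2, zero_mul]

end Cfsg.Agent.Helper3.Asch
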