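import Mathlib
import Cfsg.Prelude.Def_GeometricClasses
import Cfsg.Agent.Helper7.Hermitian

/-!
# ASCH-PRIME-U piece U4, field part (helper3)

Galois data for a proper subfield (strengthened copy of helper6's lemma), the automorphism `x ↦ x ^ q`, and the
position of a subfield `F₁` of prime degree relative to the fixed field of `x ↦ x ^ q`.
-/

set_option autoImplicit false
set_option linter.unusedVariables false
set_option linter.style.haveILetI false

namespace Cfsg.Agent.Helper3.AschU

open Cfsg Cfsg.Geo Cfsg.Agent.Helper7.Herm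

variable {F : Type*} [Field F] [Fintype F]

/-- strengthened copy of helper6's `exists_prime_fixed_subfield`: the automorphism also fixes `F₁` pointwise -/
theorem exists_prime_fixed_subfield' (F₀ : Subfield F) (h0 : F₀ ≠ ⊤) :
    ∃ (τ : F ≃+* F) (F₁ : Subfield F) (r : ℕ), r.Prime ∧ Fintype.card F = Nat.card F₁ ^ r ∧
      (∀ x ∈ F₀, τ x = x) ∧ (∀ x, τ x = x → x ∈ F₁) ∧ (∀ x ∈ F₁, τ x = x) := by
  classical
  haveI : Finite (F ≃ₐ[F₀] F) := inferInstance
  haveI : Fintype (F ≃ₐ[F₀] F) := Fintype.ofFinite _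
  have hcard : Nat.card (F ≃ₐ[F₀] F) = Module.finrank F₀ F := IsGalois.card_aut_eq_finrank F₀ F
  have hne1 : Module.finrank F₀ F ≠ 1 := by
    intro h1
    have h2 := (Subalgebra.bot_eq_top_iff_finrank_eq_one (F := F₀) (E := F)).2 h1
    apply h0
    rw [eq_top_iff]
    intro x _
    have hx : x ∈ (⊤ : Subalgebra F₀ F) := Algebra.mem_top
    rw [← h2] at hx
    obtain ⟨y, hy⟩ := Algebra.mem_bot.1 hx
    rw [← hy]
    exact y.2
  have hne1' : Fintype.card (F ≃ₐ[F₀] F) ≠ 1 := by
    rw [← Nat.card_eq_fintype_card, hcard]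
    exact hne1
  obtain ⟨r, hr, hrd⟩ := Nat.exists_prime_and_dvd hne1'
  haveI : Fact r.Prime := ⟨hr⟩
  obtain ⟨σ, hσ⟩ := exists_prime_orderOf_dvd_card r hrd
  set K₁ := IntermediateField.fixedField (Subgroup.zpowers σ) with hK₁
  have hfin : Module.finrank K₁ F = r := by
    rw [hK₁, IntermediateField.finrank_fixedField_eq_card, Nat.card_zpowers, hσ]
  refine ⟨σ.toRingEquiv, K₁.toSubfield, r, hr, ?_, ?_, ?_, ?_⟩
  · haveI : Fintype K₁ := Fintype.ofFinite _
    have h1 := Module.card_eq_pow_finrank (K := K₁) (V := F)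
    rw [hfin] at h1
    rw [h1]
    congr 1
    rw [← Nat.card_eq_fintype_card]
    rfl
  · intro x hx
    have := σ.commutes (⟨x, hx⟩ : F₀)
    exact this
  · intro x hx
    show x ∈ K₁
    rw [hK₁, IntermediateField.mem_fixedField_iff]
    intro f hf
    have hle : Subgroup.zpowers σ ≤ MulAction.stabilizer (F ≃ₐ[F₀] F) x := by
      rw [Subgroup.zpowers_le, MulAction.mem_stabilizer_iff]
      exact hx
    have := hle hf
    rw [MulAction.mem_stabilizer_iff] at this
    exact this
  · intro x hx
    have hx' : x ∈ K₁ := hx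
    rw [hK₁, IntermediateField.mem_fixedField_iff] at hx'
    exact hx' σ (Subgroup.mem_zpowers σ)

variable {q : ℕ}

/-- `x ↦ x ^ q` as a ring automorphism of the field with `q ^ 2` elements -/
noncomputable def sigq (hF : Fintype.card F = q ^ 2) : F ≃+* F where
  toFun x := x ^ q
  invFun x := x ^ q
  left_inv := pow_q_pow_q hF
  right_inv := pow_q_pow_q hF
  map_mul' x y := mul_pow x y q
  map_add' := add_pow_q hF

@[simp] theorem sigq_apply (hF : Fintype.card F = q ^ 2) (x : F) : sigq hF x = x ^ q := rfl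

theorem two_le_q (hF : Fintype.card F = q ^ 2) : 2 ≤ q := by
  by_contra h
  have h1 : q = 0 ∨ q = 1 := by omega
  have h2 := Fintype.one_lt_card (α := F)
  rcases h1 with h1 | h1 <;> rw [h1] at hF <;> omega

/-- some element is moved by `x ↦ x ^ q` -/
theorem exists_pow_q_ne (hF : Fintype.card F = q ^ 2) : ∃ x : F, x ^ q ≠ x := by
  classical
  by_contra hcon
  push Not at hcon
  have hq2 := two_le_q hF
  -- all elements are roots of X^q - X
  have hdeg : (Polynomial.X ^ q - Polynomial.X : Polynomial F).natDegree = q :=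
    FiniteField.X_pow_card_sub_X_natDegree_eq F (by omega)
  have hne : (Polynomial.X ^ q - Polynomial.X : Polynomial F) ≠ 0 := by
    intro h
    rw [h, Polynomial.natDegree_zero] at hdeg
    omega
  have hsub : (Finset.univ : Finset F) ⊆ (Polynomial.X ^ q - Polynomial.X : Polynomial F).roots.toFinset := by
    intro x _
    rw [Multiset.mem_toFinset, Polynomial.mem_roots hne]
    simp [hcon x]
  have h1 := Finset.card_le_card hsub
  have h2 : (Polynomial.X ^ q - Polynomial.X : Polynomial F).roots.toFinset.card ≤ q := by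
    calc _ ≤ Multiset.card (Polynomial.X ^ q - Polynomial.X : Polynomial F).roots := Multiset.toFinset_card_le _
      _ ≤ (Polynomial.X ^ q - Polynomial.X : Polynomial F).natDegree := Polynomial.card_roots' _
      _ = q := hdeg
  rw [Finset.card_univ, hF] at h1
  nlinarith



theorem finrank_eq_of_card (F₁ : Subfield F) (r : ℕ) (hcard : Fintype.card F = Nat.card F₁ ^ r) :
    Module.finrank F₁ F = r := by
  classical
  haveI : Fintype F₁ := Fintype.ofFinite _
  have h1 := Module.card_eq_pow_finrank (K := F₁) (V := F)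
  rw [hcard, Nat.card_eq_fintype_card] at h1
  have h2 : 2 ≤ Fintype.card F₁ := Fintype.one_lt_card
  exact (Nat.pow_right_injective h2 h1).symm

/-- (G1) if the degree over `F₁` is odd, `x ↦ x ^ q` moves some element of `F₁` -/
theorem exists_mem_pow_q_ne (hF : Fintype.card F = q ^ 2) (F₁ : Subfield F) (r : ℕ) (hr : Odd r)
    (hcard : Fintype.card F = Nat.card F₁ ^ r) : ∃ x ∈ F₁, x ^ q ≠ x := by
  classical
  by_contra hcon
  push Not at hcon
  let φ : F ≃ₐ[F₁] F := AlgEquiv.ofRingEquiv (f := sigq hF) (fun x => hcon x x.2)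
  have hφ : ∀ x, φ x = x ^ q := fun x => rfl
  have h2 : φ ^ 2 = 1 := by
    ext x
    rw [pow_two, AlgEquiv.mul_apply, hφ, hφ, pow_q_pow_q hF]
    rfl
  have h1 : φ ≠ 1 := by
    intro h
    obtain ⟨x, hx⟩ := exists_pow_q_ne hF
    apply hx
    rw [← hφ, h]
    rfl
  haveI : Fact (Nat.Prime 2) := ⟨Nat.prime_two⟩
  have ho : orderOf φ = 2 := orderOf_eq_prime h2 h1
  have hd : 2 ∣ Nat.card (F ≃ₐ[F₁] F) := by
    rw [← ho]
    exact orderOf_dvd_natCard φ
  rw [IsGalois.card_aut_eq_finrank F₁ F, finrank_eq_of_card F₁ r hcard] at hd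
  rcases hr with ⟨k, hk⟩
  omega

/-- (G2) if the degree over `F₁` is two, `F₁` is the fixed field of `x ↦ x ^ q` -/
theorem mem_iff_pow_q_eq (hF : Fintype.card F = q ^ 2) (F₁ : Subfield F)
    (hcard : Fintype.card F = Nat.card F₁ ^ 2) (x : F) : x ∈ F₁ ↔ x ^ q = x := by
  classical
  haveI : Fintype F₁ := Fintype.ofFinite _
  have hq2 := two_le_q hF
  have hc1 : Fintype.card F₁ = q := by
    rw [hF, Nat.card_eq_fintype_card] at hcard
    exact (Nat.pow_left_injective (n := 2) (by omega) hcard).symm
  have hfwd : ∀ y ∈ F₁, y ^ q = y := by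
    intro y hy
    have h := FiniteField.pow_card (⟨y, hy⟩ : F₁)
    rw [hc1] at h
    have h2 := congrArg Subtype.val h
    simpa using h2
  refine ⟨hfwd x, fun hx => ?_⟩
  -- the roots of X^q - X are exactly the elements of F₁
  have hdeg : (Polynomial.X ^ q - Polynomial.X : Polynomial F).natDegree = q :=
    FiniteField.X_pow_card_sub_X_natDegree_eq F (by omega)
  have hne : (Polynomial.X ^ q - Polynomial.X : Polynomial F) ≠ 0 := by
    intro h
    rw [h, Polynomial.natDegree_zero] at hdeg
    omega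
  set R := (Polynomial.X ^ q - Polynomial.X : Polynomial F).roots.toFinset with hR
  have hRc : R.card ≤ q := by
    calc _ ≤ Multiset.card (Polynomial.X ^ q - Polynomial.X : Polynomial F).roots := Multiset.toFinset_card_le _
      _ ≤ (Polynomial.X ^ q - Polynomial.X : Polynomial F).natDegree := Polynomial.card_roots' _
      _ = q := hdeg
  set S : Finset F := Finset.univ.image (fun y : F₁ => (y : F)) with hS
  have hSc : S.card = q := by
    rw [hS, Finset.card_image_of_injective _ Subtype.val_injective, Finset.card_univ, hc1]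
  have hSR : S ⊆ R := by
    intro y hy
    rw [hS, Finset.mem_image] at hy
    obtain ⟨z, _, rfl⟩ := hy
    rw [hR, Multiset.mem_toFinset, Polynomial.mem_roots hne]
    simp [hfwd z z.2]
  have hEq : S = R := Finset.eq_of_subset_of_card_le hSR (by rw [hSc]; exact hRc)
  have hxR : x ∈ R := by
    rw [hR, Multiset.mem_toFinset, Polynomial.mem_roots hne]
    simp [hx]
  rw [← hEq, hS, Finset.mem_image] at hxR
  obtain ⟨z, _, rfl⟩ := hxR
  exact z.2

end Cfsg.Agent.Helper3.AschU
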