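import Mathlib
import Cfsg.Prelude.Def_GeometricClasses
import Cfsg.Agent.Lead.AschBase
import Cfsg.Agent.Helper3.AschForms
import Cfsg.Agent.Helper3.AschUSubA

/-!
# ASCH-PRIME-U piece U4, form part (helper3)

Uniqueness of invariant sesquilinear forms for an absolutely irreducible set of invertible matrices, the twist of
a form by a field automorphism fixing the entries of the matrices, and the two descent statements:
odd degree (a scalar multiple of the form is rational) and degree two (the form itself is rational, `q` odd).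
-/

set_option autoImplicit false
set_option linter.unusedVariables false
set_option linter.unusedSectionVars false
set_option linter.style.haveILetI false

namespace Cfsg.Agent.Helper3.AschU

open Cfsg Cfsg.Geo Cfsg.Agent.Lead.Asch Cfsg.Agent.Helper3.Asch Cfsg.Agent.Helper7.Herm
open scoped MatrixGroups Matrix

variable {n : ℕ} {F : Type*} [Field F]

/-- two invariant sesquilinear forms of an absolutely irreducible set of invertible matrices, the first
non-degenerate, are proportional -/
theorem sesq_unique {σ : F ≃+* F} {f f' : (Fin n → F) → (Fin n → F) → F} (hf : IsSesq σ f)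
    (hf' : IsSesq σ f') (hnd : IsNondegenerateForm f) {S : Set (Matrix (Fin n) (Fin n) F)}
    (hS : ActsAbsolutelyIrreducibly S) (hSu : ∀ s ∈ S, ∃ t : Matrix (Fin n) (Fin n) F, s * t = 1)
    (hfix : FixesForm S f) (hfix' : FixesForm S f') : ∃ c : F, ∀ u v, f' u v = c * f u v := by
  obtain ⟨M, hM⟩ := hf.exists_repr hf' (fun v hv => (hnd v hv).1)
  have hcomm : ∀ s ∈ S, M * s = s * M := by
    intro s hs
    obtain ⟨t, ht⟩ := hSu s hs
    apply Matrix.mulVec_injective
    funext u
    by_contra hne
    have hd : (M * s) *ᵥ u - (s * M) *ᵥ u ≠ 0 := sub_ne_zero.mpr hne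
    obtain ⟨x, hx⟩ := (hnd _ hd).2
    apply hx
    set y : Fin n → F := t *ᵥ x with hy
    have hxy : x = s *ᵥ y := by
      rw [hy, Matrix.mulVec_mulVec, ht, Matrix.one_mulVec]
    rw [hf.sub_left, hxy, sub_eq_zero]
    rw [← Matrix.mulVec_mulVec, ← hM, hfix' s hs, ← Matrix.mulVec_mulVec, hfix s hs, hM]
  obtain ⟨c, hc⟩ := hS.2 M hcomm
  refine ⟨c, fun u v => ?_⟩
  rw [hM, hc, Matrix.smul_mulVec, Matrix.one_mulVec, hf.smul_left]

/-- absolute irreducibility is invariant under a change of basis -/
theorem absIrr_conj {S : Set (Matrix (Fin n) (Fin n) F)} (hS : ActsAbsolutelyIrreducibly S)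
    (B : GL (Fin n) F) :
    ActsAbsolutelyIrreducibly ((fun s => (B : Matrix (Fin n) (Fin n) F) * s *
      ((B⁻¹ : GL (Fin n) F) : Matrix (Fin n) (Fin n) F)) '' S) := by
  have hBi : ((B⁻¹ : GL (Fin n) F) : Matrix (Fin n) (Fin n) F) * (B : Matrix (Fin n) (Fin n) F) = 1 := by
    rw [← Units.val_mul, inv_mul_cancel, Units.val_one]
  have hBi' : (B : Matrix (Fin n) (Fin n) F) * ((B⁻¹ : GL (Fin n) F) : Matrix (Fin n) (Fin n) F) = 1 := by
    rw [← Units.val_mul, mul_inv_cancel, Units.val_one]
  constructor
  · intro W hW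
    set W' : Submodule F (Fin n → F) := W.comap (Matrix.toLin' (B : Matrix (Fin n) (Fin n) F)) with hW'
    have hinv : ∀ s ∈ S, W'.map (Matrix.toLin' s) ≤ W' := by
      intro s hs
      rintro _ ⟨v, hv, rfl⟩
      rw [hW', Submodule.mem_comap, Matrix.toLin'_apply, Matrix.toLin'_apply]
      have hv' : (B : Matrix (Fin n) (Fin n) F) *ᵥ v ∈ W := by
        have := hv
        rw [SetLike.mem_coe, hW', Submodule.mem_comap, Matrix.toLin'_apply] at this
        exact this
      have h1 := hW _ ⟨s, hs, rfl⟩ (Submodule.mem_map_of_mem hv')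
      rw [Matrix.toLin'_apply, Matrix.mulVec_mulVec, Matrix.mul_assoc, hBi, Matrix.mul_one,
        ← Matrix.mulVec_mulVec] at h1
      exact h1
    rcases hS.1 W' hinv with h | h
    · left
      rw [eq_bot_iff]
      intro w hw
      have h1 : ((B⁻¹ : GL (Fin n) F) : Matrix (Fin n) (Fin n) F) *ᵥ w ∈ W' := by
        rw [hW', Submodule.mem_comap, Matrix.toLin'_apply, Matrix.mulVec_mulVec, hBi', Matrix.one_mulVec]
        exact hw
      rw [h, Submodule.mem_bot] at h1
      have h2 := congrArg (fun x => (B : Matrix (Fin n) (Fin n) F) *ᵥ x) h1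
      simp only [Matrix.mulVec_mulVec, hBi', Matrix.one_mulVec, Matrix.mulVec_zero] at h2
      rw [Submodule.mem_bot]
      exact h2
    · right
      rw [eq_top_iff]
      intro w _
      have h1 : ((B⁻¹ : GL (Fin n) F) : Matrix (Fin n) (Fin n) F) *ᵥ w ∈ W' := by
        rw [h]; trivial
      rw [hW', Submodule.mem_comap, Matrix.toLin'_apply, Matrix.mulVec_mulVec, hBi', Matrix.one_mulVec] at h1
      exact h1
  · intro M hM
    obtain ⟨c, hc⟩ := hS.2 (((B⁻¹ : GL (Fin n) F) : Matrix (Fin n) (Fin n) F) * M *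
        (B : Matrix (Fin n) (Fin n) F)) (by
      intro s hs
      have h1 := hM _ ⟨s, hs, rfl⟩
      simp only at h1
      calc ((B⁻¹ : GL (Fin n) F) : Matrix (Fin n) (Fin n) F) * M * (B : Matrix (Fin n) (Fin n) F) * s
          = ((B⁻¹ : GL (Fin n) F) : Matrix (Fin n) (Fin n) F) * (M * ((B : Matrix (Fin n) (Fin n) F) * s *
              ((B⁻¹ : GL (Fin n) F) : Matrix (Fin n) (Fin n) F))) * (B : Matrix (Fin n) (Fin n) F) := by
            simp only [Matrix.mul_assoc, hBi, Matrix.mul_one]
        _ = ((B⁻¹ : GL (Fin n) F) : Matrix (Fin n) (Fin n) F) * (((B : Matrix (Fin n) (Fin n) F) * s *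
              ((B⁻¹ : GL (Fin n) F) : Matrix (Fin n) (Fin n) F)) * M) * (B : Matrix (Fin n) (Fin n) F) := by
            rw [h1]
        _ = s * (((B⁻¹ : GL (Fin n) F) : Matrix (Fin n) (Fin n) F) * M * (B : Matrix (Fin n) (Fin n) F)) := by
            simp only [← Matrix.mul_assoc, hBi, Matrix.one_mul])
    refine ⟨c, ?_⟩
    have h2 : M = (B : Matrix (Fin n) (Fin n) F) * (((B⁻¹ : GL (Fin n) F) : Matrix (Fin n) (Fin n) F) * M *
        (B : Matrix (Fin n) (Fin n) F)) * ((B⁻¹ : GL (Fin n) F) : Matrix (Fin n) (Fin n) F) := by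
      simp only [← Matrix.mul_assoc, hBi', Matrix.one_mul]
      rw [Matrix.mul_assoc, hBi', Matrix.mul_one]
    rw [h2, hc, Matrix.mul_smul, Matrix.mul_one, Matrix.smul_mul, hBi']

/-- a matrix with entries fixed by `τ` commutes with applying `τ` to the coordinates -/
theorem map_mulVec_of_fixed (τ : F ≃+* F) (s : Matrix (Fin n) (Fin n) F) (hs : ∀ i j, τ (s i j) = s i j)
    (v : Fin n → F) : (fun i => τ ((s *ᵥ v) i)) = s *ᵥ (fun i => τ (v i)) := by
  funext i
  simp only [Matrix.mulVec, dotProduct, map_sum, map_mul, hs]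

/-- the twist of an invariant form by an automorphism fixing the entries of the matrices is proportional to it -/
theorem twist_form {σ τ : F ≃+* F} (hστ : ∀ x, τ (σ x) = σ (τ x)) {φ : (Fin n → F) → (Fin n → F) → F}
    (hφ : IsSesq σ φ) (hnd : IsNondegenerateForm φ) {S : Set (Matrix (Fin n) (Fin n) F)}
    (hS : ActsAbsolutelyIrreducibly S) (hSu : ∀ s ∈ S, ∃ t : Matrix (Fin n) (Fin n) F, s * t = 1)
    (hfix : FixesForm S φ) (hτS : ∀ s ∈ S, ∀ i j, τ (s i j) = s i j) :
    ∃ c : F, ∀ u v, τ (φ (fun i => τ.symm (u i)) (fun i => τ.symm (v i))) = c * φ u v := by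
  have hφ₂ : IsSesq σ (fun u v => τ (φ (fun i => τ.symm (u i)) (fun i => τ.symm (v i)))) := by
    refine ⟨?_, ?_, ?_, ?_⟩
    · intro x y v
      have e : (fun i => τ.symm ((x + y) i)) = (fun i => τ.symm (x i)) + (fun i => τ.symm (y i)) := by
        funext i; simp
      simp only [e, hφ.add_left, map_add]
    · intro c x v
      have e : (fun i => τ.symm ((c • x) i)) = τ.symm c • (fun i => τ.symm (x i)) := by
        funext i; simp
      simp only [e, hφ.smul_left, map_mul, RingEquiv.apply_symm_apply]
    · intro v x y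
      have e : (fun i => τ.symm ((x + y) i)) = (fun i => τ.symm (x i)) + (fun i => τ.symm (y i)) := by
        funext i; simp
      simp only [e, hφ.add_right, map_add]
    · intro c v x
      have e : (fun i => τ.symm ((c • x) i)) = τ.symm c • (fun i => τ.symm (x i)) := by
        funext i; simp
      simp only [e, hφ.smul_right, map_mul, hστ, RingEquiv.apply_symm_apply]
  have hfix₂ : FixesForm S (fun u v => τ (φ (fun i => τ.symm (u i)) (fun i => τ.symm (v i)))) := by
    intro s hs u v
    have hs' : ∀ i j, τ.symm (s i j) = s i j := by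
      intro i j
      rw [RingEquiv.symm_apply_eq, hτS s hs]
    simp only
    rw [map_mulVec_of_fixed τ.symm s hs', map_mulVec_of_fixed τ.symm s hs', hfix s hs]
  exact sesq_unique hφ hφ₂ hnd hS hSu hfix hfix₂


variable [Fintype F] {q : ℕ}

theorem bv_mem (F₁ : Subfield F) (i : Fin n) : ∀ j, (bv i : Fin n → F) j ∈ F₁ := by
  intro j
  unfold bv
  split_ifs
  · exact one_mem _
  · exact zero_mem _

/-- a non-degenerate sesquilinear form has a non-zero Gram entry -/
theorem exists_gram_ne_zero (hn : 1 ≤ n) {σ : F ≃+* F} {φ : (Fin n → F) → (Fin n → F) → F} (hφ : IsSesq σ φ)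
    (hnd : IsNondegenerateForm φ) : ∃ i j, φ (bv i) (bv j) ≠ 0 := by
  by_contra hcon
  push Not at hcon
  have hg : gram φ = 0 := by
    ext i j
    exact hcon i j
  have hz : ∀ u v, φ u v = 0 := by
    intro u v
    rw [hφ.expand, hg, Matrix.zero_mulVec, dotProduct_zero]
  have hv : (bv ⟨0, by omega⟩ : Fin n → F) ≠ 0 := by
    intro h
    have := congrFun h ⟨0, by omega⟩
    simp [bv] at this
  obtain ⟨x, hx⟩ := (hnd _ hv).1
  exact hx (hz _ _)

/-- odd degree: a multiple of the form by a norm is rational on `F₁ ^ n` -/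
theorem descent_odd (hF : Fintype.card F = q ^ 2) (hn : 1 ≤ n) {φ : (Fin n → F) → (Fin n → F) → F}
    (hφ : IsSesq (sigq hF) φ) (hnd : IsNondegenerateForm φ) (hherm : ∀ u v, φ v u = (φ u v) ^ q)
    {S : Set (Matrix (Fin n) (Fin n) F)} (hS : ActsAbsolutelyIrreducibly S)
    (hSu : ∀ s ∈ S, ∃ t : Matrix (Fin n) (Fin n) F, s * t = 1) (hfix : FixesForm S φ)
    (τ : F ≃+* F) (hτS : ∀ s ∈ S, ∀ i j, τ (s i j) = s i j) (F₁ : Subfield F)
    (h1 : ∀ x ∈ F₁, τ x = x) (h2 : ∀ x, τ x = x → x ∈ F₁) (r : ℕ) (hr : Odd r)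
    (hcard : Fintype.card F = Nat.card F₁ ^ r) :
    ∃ a : F, a ≠ 0 ∧ a ^ q = a ∧
      ∀ u v : Fin n → F, (∀ i, u i ∈ F₁) → (∀ i, v i ∈ F₁) → a * φ u v ∈ F₁ := by
  obtain ⟨c, hc⟩ := twist_form (σ := sigq hF) (τ := τ) (fun x => by simp [sigq_apply]) hφ hnd hS hSu hfix hτS
  have hval : ∀ u v : Fin n → F, (∀ i, u i ∈ F₁) → (∀ i, v i ∈ F₁) → τ (φ u v) = c * φ u v := by
    intro u v hu hv
    have eu : (fun i => τ.symm (u i)) = u := by
      funext i
      rw [RingEquiv.symm_apply_eq, h1 _ (hu i)]
    have ev : (fun i => τ.symm (v i)) = v := by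
      funext i
      rw [RingEquiv.symm_apply_eq, h1 _ (hv i)]
    have := hc u v
    rw [eu, ev] at this
    exact this
  obtain ⟨i, j, hd0⟩ := exists_gram_ne_zero hn hφ hnd
  set d₀ := φ (bv i) (bv j) with hd₀
  have hτd : τ d₀ = c * d₀ := hval _ _ (bv_mem F₁ i) (bv_mem F₁ j)
  have hc0 : c ≠ 0 := by
    rintro rfl
    rw [zero_mul] at hτd
    exact hd0 ((map_eq_zero τ).1 hτd)
  have hquot : ∀ u v : Fin n → F, (∀ i, u i ∈ F₁) → (∀ i, v i ∈ F₁) → φ u v / d₀ ∈ F₁ := by
    intro u v hu hv
    apply h2
    rw [map_div₀, hval u v hu hv, hτd, mul_div_mul_left _ _ hc0]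
  have hdq : d₀ ^ q = φ (bv j) (bv i) := (hherm _ _).symm
  have hdq0 : d₀ ^ q ≠ 0 := pow_ne_zero _ hd0
  have he : d₀ ^ q / d₀ ∈ F₁ := by
    rw [hdq]
    exact hquot _ _ (bv_mem F₁ j) (bv_mem F₁ i)
  -- Hilbert 90, by hand
  obtain ⟨b, hb, hb0, hbq⟩ : ∃ b ∈ F₁, b ≠ 0 ∧ b ^ q * d₀ = d₀ ^ q * b := by
    by_cases hc1 : d₀ ^ q = d₀
    · exact ⟨1, one_mem _, one_ne_zero, by rw [hc1]; ring⟩
    by_cases hc2 : d₀ ^ q = - d₀
    · obtain ⟨x, hx, hxq⟩ := exists_mem_pow_q_ne hF F₁ r hr hcard
      refine ⟨x - x ^ q, sub_mem hx (pow_mem hx q), sub_ne_zero.mpr (Ne.symm hxq), ?_⟩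
      have e1 : (x - x ^ q) ^ q = x ^ q - x := by
        have := map_sub (sigq hF) x (x ^ q)
        simp only [sigq_apply] at this
        rw [this, pow_q_pow_q hF]
      rw [e1, hc2]
      ring
    · have hinv : d₀ / d₀ ^ q ∈ F₁ := by
        have := inv_mem he
        rwa [inv_div] at this
      refine ⟨1 + d₀ / d₀ ^ q, add_mem (one_mem _) hinv, ?_, ?_⟩
      · intro h
        apply hc2
        have h3 : d₀ ^ q + d₀ = 0 := by
          have h4 : (1 + d₀ / d₀ ^ q) * d₀ ^ q = d₀ ^ q + d₀ := by
            field_simp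
          rw [← h4, h, zero_mul]
        exact eq_neg_of_add_eq_zero_left h3
      · have e1 : (1 + d₀ / d₀ ^ q) ^ q = 1 + d₀ ^ q / d₀ := by
          rw [add_pow_q hF, one_pow, div_pow, pow_q_pow_q hF]
        rw [e1]
        field_simp
        ring
  refine ⟨b / d₀, div_ne_zero hb0 hd0, ?_, ?_⟩
  · rw [div_pow, div_eq_div_iff hdq0 hd0, hbq]
    ring
  · intro u v hu hv
    have e : b / d₀ * φ u v = b * (φ u v / d₀) := by
      field_simp
    rw [e]
    exact mul_mem hb (hquot u v hu hv)


/-- degree two: the form itself is rational on `F₁ ^ n`, and `q` is odd -/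
theorem descent_two (hF : Fintype.card F = q ^ 2) (hn : Odd n) (hn2 : 2 ≤ n)
    {φ : (Fin n → F) → (Fin n → F) → F}
    (hφ : IsSesq (sigq hF) φ) (hnd : IsNondegenerateForm φ) (hherm : ∀ u v, φ v u = (φ u v) ^ q)
    {S : Set (Matrix (Fin n) (Fin n) F)} (hS : ActsAbsolutelyIrreducibly S)
    (hSu : ∀ s ∈ S, ∃ t : Matrix (Fin n) (Fin n) F, s * t = 1) (hfix : FixesForm S φ)
    (F₁ : Subfield F) (hF₁ : ∀ x, x ∈ F₁ ↔ x ^ q = x) (hSF : ∀ s ∈ S, ∀ i j, s i j ∈ F₁) :
    Odd q ∧ ∀ u v : Fin n → F, (∀ i, u i ∈ F₁) → (∀ i, v i ∈ F₁) → φ u v ∈ F₁ := by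
  classical
  -- the bilinear form g u v = φ u (conj v)
  set g : (Fin n → F) → (Fin n → F) → F := fun u v => φ u (fun i => (v i) ^ q) with hg
  have hgS : IsSesq (RingEquiv.refl F) g := by
    refine ⟨?_, ?_, ?_, ?_⟩
    · intro x y v
      simp only [hg, hφ.add_left]
    · intro c x v
      simp only [hg, hφ.smul_left]
    · intro v x y
      have e : (fun i => ((x + y) i) ^ q) = (fun i => (x i) ^ q) + (fun i => (y i) ^ q) := by
        funext i
        simp only [Pi.add_apply, add_pow_q hF]
      simp only [hg, e, hφ.add_right]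
    · intro c v x
      have e : (fun i => ((c • x) i) ^ q) = (c ^ q) • (fun i => (x i) ^ q) := by
        funext i
        simp only [Pi.smul_apply, smul_eq_mul, mul_pow]
      simp only [hg, e, hφ.smul_right, sigq_apply, pow_q_pow_q hF, RingEquiv.refl_apply]
  have hcc : ∀ v : Fin n → F, (fun i => ((fun i => (v i) ^ q) i) ^ q) = v := by
    intro v
    funext i
    exact pow_q_pow_q hF (v i)
  have hgnd : IsNondegenerateForm g := by
    intro v hv
    have hv' : (fun i => (v i) ^ q) ≠ (0 : Fin n → F) := by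
      intro h
      apply hv
      funext i
      have := congrFun h i
      simp only [Pi.zero_apply] at this
      exact pow_eq_zero_iff (by have := two_le_q hF; omega) |>.1 this
    constructor
    · obtain ⟨x, hx⟩ := (hnd _ hv').1
      exact ⟨x, hx⟩
    · obtain ⟨y, hy⟩ := (hnd _ hv).2
      refine ⟨fun i => (y i) ^ q, ?_⟩
      simp only [hg]
      rw [hcc y]
      exact hy
  have hgfix : FixesForm S g := by
    intro s hs u v
    simp only [hg]
    have h1 := map_mulVec_of_fixed (sigq hF) s (fun i j => (hF₁ _).1 (hSF s hs i j)) v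
    simp only [sigq_apply] at h1
    rw [h1, hfix s hs]
  have hg'S : IsSesq (RingEquiv.refl F) (fun u v => g v u) :=
    ⟨fun x y v => hgS.add_right v x y, fun c x v => by simpa using hgS.smul_right c v x,
      fun v x y => hgS.add_left x y v, fun c v x => by simpa using hgS.smul_left c x v⟩
  have hg'fix : FixesForm S (fun u v => g v u) := fun s hs u v => hgfix s hs v u
  obtain ⟨ε, hε⟩ := sesq_unique hgS hg'S hgnd hS hSu hgfix hg'fix
  -- ε ^ 2 = 1
  obtain ⟨i, j, hij⟩ := exists_gram_ne_zero (by omega) hgS hgnd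
  have hε2 : ε * ε = 1 := by
    have h1 := hε (bv i) (bv j)
    have h2 := hε (bv j) (bv i)
    rw [h1] at h2
    have h3 : (ε * ε) * g (bv i) (bv j) = 1 * g (bv i) (bv j) := by
      rw [one_mul, mul_assoc]; exact h2.symm
    exact mul_right_cancel₀ hij h3
  have hunit := hgS.isUnit_det_gram (fun v hv => (hgnd v hv).1)
  have hsymm : ∀ u v, g v u = g u v := by
    have hε1 : ε = 1 := by
      have h4 : (ε - 1) * (ε + 1) = 0 := by ring_nf; rw [← sub_eq_zero] at hε2; ring_nf at hε2; exact hε2
      rcases mul_eq_zero.1 h4 with h5 | h5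
      · exact sub_eq_zero.1 h5
      · -- ε = -1: then g is alternating unless 2 = 0
        have hεm : ε = -1 := eq_neg_of_add_eq_zero_left h5
        by_cases h20 : (2 : F) = 0
        · rw [hεm]
          have : (1 : F) + 1 = 0 := by rw [one_add_one_eq_two]; exact h20
          exact (eq_neg_of_add_eq_zero_left this).symm
        · exfalso
          have hdiag : ∀ u, g u u = 0 := by
            intro u
            have h6 := hε u u
            rw [hεm] at h6
            have h7 : (2 : F) * g u u = 0 := by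
              have : g u u + g u u = 0 := by nth_rewrite 1 [h6]; ring
              rw [two_mul]; exact this
            exact (mul_eq_zero.1 h7).resolve_left h20
          have h0 : (gram g).det = 0 :=
            det_eq_zero_of_alternating_odd hn _ (fun i => hdiag _) (fun i j => by
              simp only [gram]
              rw [hε (bv i) (bv j), hεm]; ring)
          rw [h0] at hunit
          exact not_isUnit_zero hunit
    intro u v
    rw [hε u v, hε1, one_mul]
  constructor
  · -- q is odd
    by_contra hq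
    have hchar : ringChar F = 2 := by
      apply FiniteField.even_card_iff_char_two.mpr
      rw [hF]
      have hqe : Even q := Nat.not_odd_iff_even.1 hq
      exact Nat.even_iff.mp (Nat.even_pow.2 ⟨hqe, by omega⟩)
    have h20 : (2 : F) = 0 := by
      have h3 := ringChar.Nat.cast_ringChar (R := F)
      rw [hchar] at h3
      exact_mod_cast h3
    have hneg : ∀ x : F, -x = x := by
      intro x
      have h4 : x + x = 0 := by rw [← two_mul, h20, zero_mul]
      exact neg_eq_of_add_eq_zero_left h4
    have hQadd : ∀ u v, g (u + v) (u + v) = g u u + g v v := by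
      intro u v
      rw [hgS.add_left, hgS.add_right, hgS.add_right, hsymm u v]
      have : g u v + g u v = 0 := by rw [← two_mul, h20, zero_mul]
      linear_combination this
    let W : Submodule F (Fin n → F) :=
      { carrier := {v | g v v = 0}
        add_mem' := by
          intro a b ha hb
          have ha' : g a a = 0 := ha
          have hb' : g b b = 0 := hb
          show g (a + b) (a + b) = 0
          rw [hQadd, ha', hb', add_zero]
        zero_mem' := by
          show g 0 0 = 0
          have := hgS.smul_left 0 0 0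
          simpa using this
        smul_mem' := by
          intro c v hv
          have hv' : g v v = 0 := hv
          show g (c • v) (c • v) = 0
          rw [hgS.smul_left, hgS.smul_right, hv', mul_zero, mul_zero] }
    have hWinv : ∀ s ∈ S, W.map (Matrix.toLin' s) ≤ W := by
      intro s hs
      rintro _ ⟨v, hv, rfl⟩
      show g _ _ = 0
      rw [Matrix.toLin'_apply, hgfix s hs]
      exact hv
    rcases hS.1 W hWinv with hW | hW
    · -- v ↦ g v v is injective
      have hinj : Function.Injective (fun v : Fin n → F => g v v) := by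
        intro u v huv
        simp only at huv
        have h5 : u + v ∈ W := by
          show g (u + v) (u + v) = 0
          rw [hQadd, huv, ← two_mul, h20, zero_mul]
        rw [hW, Submodule.mem_bot] at h5
        have h6 : u = - v := eq_neg_of_add_eq_zero_left h5
        rw [h6]
        funext k
        simp only [Pi.neg_apply, hneg]
      have hle := Fintype.card_le_of_injective _ hinj
      rw [Fintype.card_fun, Fintype.card_fin] at hle
      have hF2 : 2 ≤ Fintype.card F := Fintype.one_lt_card
      have : Fintype.card F ^ 2 ≤ Fintype.card F ^ n := Nat.pow_le_pow_right (by omega) hn2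
      nlinarith
    · have hdiag : ∀ u, g u u = 0 := by
        intro u
        have : u ∈ W := by rw [hW]; trivial
        exact this
      have h0 : (gram g).det = 0 :=
        det_eq_zero_of_alternating_odd hn _ (fun i => hdiag _) (fun i j => by
          simp only [gram]
          rw [hsymm, hneg])
      rw [h0] at hunit
      exact not_isUnit_zero hunit
  · intro u v hu hv
    rw [hF₁]
    have eu : (fun i => (u i) ^ q) = u := by
      funext i
      exact (hF₁ _).1 (hu i)
    have ev : (fun i => (v i) ^ q) = v := by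
      funext i
      exact (hF₁ _).1 (hv i)
    have h1 : g u v = φ u v := by simp only [hg, ev]
    have h2 : g v u = φ v u := by simp only [hg, eu]
    rw [← hherm, ← h2, hsymm, h1]

end Cfsg.Agent.Helper3.AschU
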