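import Mathlib
import Cfsg.Prelude.Def_GeometricClasses
import Cfsg.Agent.Lead.AschBase
import Cfsg.Agent.Helper3.AschForms
import Cfsg.Agent.Helper3.AschUSubA
import Cfsg.Agent.Helper3.AschUSubB
import Cfsg.Agent.Helper5.AschU2b
import Cfsg.Agent.Helper5.AschU5a
import Cfsg.Agent.Helper6.AschSub

/-!
# ASCH-PRIME-U piece U4 `subfield_unitary` (helper3)

An absolutely irreducible subgroup `P` of `GU_n(q)`, `n` odd, realisable over a proper subfield, has its
normalizer inside a subfield group of class 5 *compatible with the Hermitian form*: either of odd prime degree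
(after rescaling the basis by a scalar of suitable norm), or of degree two with `q` odd and the form itself
rational (orthogonal subfield subgroup).
-/

set_option autoImplicit false
set_option linter.unusedVariables false
set_option linter.unusedSectionVars false
set_option linter.style.haveILetI false

namespace Cfsg.Agent.Helper3.AschU

open Cfsg Cfsg.Geo Cfsg.Agent.Lead.Asch Cfsg.Agent.Helper3.Asch Cfsg.Agent.Helper7.Herm
  Cfsg.Agent.Helper6.Asch
open scoped MatrixGroups Matrix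

variable {n : ℕ} {F : Type*} [Field F]

/-- Galois descent (copy of the core of helper6's `subfield_case` with explicit data): if the entries of
`B x B⁻¹`, `x ∈ P`, are fixed by `τ` and `Fix τ ⊆ F₁`, then `B h B⁻¹` is a scalar times a matrix over `F₁`
for every `h` normalizing the absolutely irreducible group `P`. -/
theorem subfield_core (hn : 1 ≤ n) {H P : Subgroup (GL (Fin n) F)} (hnz : Nzes H P)
    (hP : ActsAbsolutelyIrreducibly (matrixSet P)) (σ : F ≃+* F) (F₁ : Subfield F)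
    (hmem : ∀ x, σ x = x → x ∈ F₁) (B : GL (Fin n) F)
    (hB : ∀ s ∈ matrixSet P, ∀ i j, σ (((B : Matrix (Fin n) (Fin n) F) * s *
      ((B⁻¹ : GL (Fin n) F) : Matrix (Fin n) (Fin n) F)) i j) =
      ((B : Matrix (Fin n) (Fin n) F) * s * ((B⁻¹ : GL (Fin n) F) : Matrix (Fin n) (Fin n) F)) i j)
    (h : GL (Fin n) F) (hh : h ∈ H) :
    B * h * B⁻¹ ∈ (Matrix.GeneralLinearGroup.map (F₁.subtype : F₁ →+* F)).range ⊔ scalars (Fin n) F := by
  classical
  set Φ : GL (Fin n) F →* GL (Fin n) F := Matrix.GeneralLinearGroup.map (σ : F →+* F) with hΦ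
  have hPfix : ∀ x ∈ P, Φ (B * x * B⁻¹) = B * x * B⁻¹ := by
    intro x hx
    apply Units.ext
    ext i j
    rw [hΦ, Matrix.GeneralLinearGroup.map_apply]
    have := hB _ (coe_mem_matrixSet hx) i j
    have e : ((B * x * B⁻¹ : GL (Fin n) F) : Matrix (Fin n) (Fin n) F) =
        (B : Matrix (Fin n) (Fin n) F) * (x : Matrix (Fin n) (Fin n) F) *
          ((B⁻¹ : GL (Fin n) F) : Matrix (Fin n) (Fin n) F) := by
      simp [Units.val_mul]
    rw [e]
    exact this
  set h' := B * h * B⁻¹ with hh'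
  set u := h'⁻¹ * Φ h' with hu
  have hucomm : ∀ x ∈ P, u * (B * x * B⁻¹) = (B * x * B⁻¹) * u := by
    intro x hx
    have h1 : h' * (B * x * B⁻¹) * h'⁻¹ = B * (h * x * h⁻¹) * B⁻¹ := by
      rw [hh']; group
    have h2 : Φ (h' * (B * x * B⁻¹) * h'⁻¹) = h' * (B * x * B⁻¹) * h'⁻¹ := by
      rw [h1]
      exact hPfix _ (hnz h hh x hx)
    rw [map_mul, map_mul, hPfix x hx, map_inv] at h2
    rw [hu]
    calc h'⁻¹ * Φ h' * (B * x * B⁻¹)
        = h'⁻¹ * (Φ h' * (B * x * B⁻¹) * (Φ h')⁻¹) * Φ h' := by group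
      _ = h'⁻¹ * (h' * (B * x * B⁻¹) * h'⁻¹) * Φ h' := by rw [h2]
      _ = B * x * B⁻¹ * (h'⁻¹ * Φ h') := by group
  obtain ⟨c, hc⟩ := hP.2 ((B⁻¹ * u * B : GL (Fin n) F) : Matrix (Fin n) (Fin n) F) (by
    intro s hs
    obtain ⟨x, hx, rfl⟩ := mem_matrixSet_iff.1 hs
    rw [← Units.val_mul, ← Units.val_mul]
    congr 1
    have := hucomm x hx
    calc B⁻¹ * u * B * x = B⁻¹ * (u * (B * x * B⁻¹)) * B := by group
      _ = B⁻¹ * ((B * x * B⁻¹) * u) * B := by rw [this]
      _ = x * (B⁻¹ * u * B) := by group)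
  have hc0 : c ≠ 0 := by
    rintro rfl
    rw [zero_smul] at hc
    have h1 : IsUnit ((B⁻¹ * u * B : GL (Fin n) F) : Matrix (Fin n) (Fin n) F) := Units.isUnit _
    rw [hc] at h1
    haveI : Nonempty (Fin n) := ⟨⟨0, by omega⟩⟩
    exact not_isUnit_zero h1
  have hu_eq : (u : Matrix (Fin n) (Fin n) F) = c • (1 : Matrix (Fin n) (Fin n) F) := by
    have e : u = B * (B⁻¹ * u * B) * B⁻¹ := by group
    rw [e, Units.val_mul, Units.val_mul, hc]
    rw [Matrix.mul_smul, Matrix.mul_one, Matrix.smul_mul, ← Units.val_mul, mul_inv_cancel,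
      Units.val_one]
  have hΦh : ∀ i j, σ ((h' : Matrix (Fin n) (Fin n) F) i j) =
      c * (h' : Matrix (Fin n) (Fin n) F) i j := by
    intro i j
    have e : Φ h' = h' * u := by rw [hu]; group
    have e2 : ((Φ h' : GL (Fin n) F) : Matrix (Fin n) (Fin n) F) i j =
        σ ((h' : Matrix (Fin n) (Fin n) F) i j) := by
      rw [hΦ, Matrix.GeneralLinearGroup.map_apply]
      rfl
    rw [← e2, e, Units.val_mul, hu_eq, Matrix.mul_smul, Matrix.mul_one, Matrix.smul_apply,
      smul_eq_mul]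
  obtain ⟨k, i, ha⟩ : ∃ k i, (h' : Matrix (Fin n) (Fin n) F) k i ≠ 0 := by
    by_contra hcon
    push Not at hcon
    have : (h' : Matrix (Fin n) (Fin n) F) = 0 := by
      ext k i
      exact hcon k i
    have h1 : IsUnit (h' : Matrix (Fin n) (Fin n) F) := Units.isUnit _
    rw [this] at h1
    haveI : Nonempty (Fin n) := ⟨⟨0, by omega⟩⟩
    exact not_isUnit_zero h1
  set a := (h' : Matrix (Fin n) (Fin n) F) k i with hadef
  let au : Fˣ := Units.mk0 a ha
  let z : GL (Fin n) F := Units.map (Matrix.scalar (Fin n) : F →+* Matrix (Fin n) (Fin n) F).toMonoidHom au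
  have hz : (z : Matrix (Fin n) (Fin n) F) = a • (1 : Matrix (Fin n) (Fin n) F) := by
    simp [z, au, Matrix.smul_one_eq_diagonal]
  have hzs : z ∈ scalars (Fin n) F := smul_one_mem_scalars au z hz
  set g := h' * z⁻¹ with hg
  have hzinv : ((z⁻¹ : GL (Fin n) F) : Matrix (Fin n) (Fin n) F) =
      a⁻¹ • (1 : Matrix (Fin n) (Fin n) F) := by
    have h1 : (z : Matrix (Fin n) (Fin n) F) * (a⁻¹ • (1 : Matrix (Fin n) (Fin n) F)) = 1 := by
      rw [hz, Matrix.smul_mul, Matrix.one_mul, smul_smul, mul_inv_cancel₀ ha, one_smul]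
    have h2 : ((z⁻¹ : GL (Fin n) F) : Matrix (Fin n) (Fin n) F) =
        ((z⁻¹ : GL (Fin n) F) : Matrix (Fin n) (Fin n) F) *
          ((z : Matrix (Fin n) (Fin n) F) * (a⁻¹ • (1 : Matrix (Fin n) (Fin n) F))) := by
      rw [h1, Matrix.mul_one]
    rw [h2, ← Matrix.mul_assoc, ← Units.val_mul, inv_mul_cancel, Units.val_one, Matrix.one_mul]
  have hgent : ∀ k' i', (g : Matrix (Fin n) (Fin n) F) k' i' =
      (h' : Matrix (Fin n) (Fin n) F) k' i' * a⁻¹ := by
    intro k' i'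
    rw [hg, Units.val_mul, hzinv, Matrix.mul_smul, Matrix.mul_one, Matrix.smul_apply, smul_eq_mul,
      mul_comm]
  have hgfix : ∀ k' i', (g : Matrix (Fin n) (Fin n) F) k' i' ∈ F₁ := by
    intro k' i'
    apply hmem
    rw [hgent, map_mul, map_inv₀, hΦh k' i', hΦh k i, ← hadef]
    field_simp
  have hgr : g ∈ (Matrix.GeneralLinearGroup.map (F₁.subtype : F₁ →+* F)).range :=
    mem_range_map_of_entries F₁ g hgfix
  have e : h' = g * z := by rw [hg]; group
  rw [e]
  exact Subgroup.mul_mem_sup hgr hzs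


/-- conjugating by a scalar multiple of `C` gives the same subfield group as conjugating by `C` -/
theorem le_subfieldSubgroup_of_conj (F₁ : Subfield F) {H : Subgroup (GL (Fin n) F)} (B Pm : GL (Fin n) F)
    (hH : ∀ h ∈ H, B * h * B⁻¹ ∈
      (Matrix.GeneralLinearGroup.map (F₁.subtype : F₁ →+* F)).range ⊔ scalars (Fin n) F)
    (hPm : ∀ h : GL (Fin n) F, Pm * (B * h * B⁻¹) * Pm⁻¹ = h) : H ≤ subfieldSubgroup F₁ Pm := by
  intro h hh
  unfold subfieldSubgroup
  rw [Subgroup.mem_map]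
  refine ⟨B * h * B⁻¹, hH h hh, ?_⟩
  simp only [MulEquiv.coe_toMonoidHom, MulAut.conj_apply]
  exact hPm h

variable [Fintype F]

/-- **U4** -/
theorem subfield_unitary (hn : Odd n) (hn2 : 2 ≤ n) (q : ℕ) (hF : Fintype.card F = q ^ 2)
    {H P : Subgroup (GL (Fin n) F)} (hPI : P ≤ GU n F q) (hnz : Nzes H P)
    (hP : ActsAbsolutelyIrreducibly (matrixSet P)) (F₀ : Subfield F) (h0 : F₀ ≠ ⊤)
    (hr : RealisableOver F₀ (matrixSet P)) :
    (∃ (F₁ : Subfield F) (r : ℕ) (Pm : GL (Fin n) F), r.Prime ∧ Odd r ∧ Fintype.card F = Nat.card F₁ ^ r ∧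
      IsFormRationalStructure (hermForm n F q) F₁ 1 Pm ∧ H ≤ subfieldSubgroup F₁ Pm) ∨
    (Odd q ∧ ∃ (F₁ : Subfield F) (Pm : GL (Fin n) F), Fintype.card F = Nat.card F₁ ^ 2 ∧
      IsFormRationalStructure (hermForm n F q) F₁ 1 Pm ∧ H ≤ subfieldSubgroup F₁ Pm) := by
  classical
  obtain ⟨τ, F₁, r, hrp, hcard, hfix0, hmem, hfixF₁⟩ := exists_prime_fixed_subfield' F₀ h0
  obtain ⟨B, hB⟩ := hr
  set Bm : Matrix (Fin n) (Fin n) F := (B : Matrix (Fin n) (Fin n) F) with hBm
  set Bi : Matrix (Fin n) (Fin n) F := ((B⁻¹ : GL (Fin n) F) : Matrix (Fin n) (Fin n) F) with hBi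
  have hBiB : Bi * Bm = 1 := by
    rw [hBi, hBm, ← Units.val_mul, inv_mul_cancel, Units.val_one]
  have hBBi : Bm * Bi = 1 := by
    rw [hBi, hBm, ← Units.val_mul, mul_inv_cancel, Units.val_one]
  set S' : Set (Matrix (Fin n) (Fin n) F) := (fun s => Bm * s * Bi) '' matrixSet P with hS'
  have hS'irr : ActsAbsolutelyIrreducibly S' := absIrr_conj hP B
  have hS'u : ∀ s ∈ S', ∃ t : Matrix (Fin n) (Fin n) F, s * t = 1 := by
    rintro _ ⟨s, hs, rfl⟩
    obtain ⟨x, hx, rfl⟩ := mem_matrixSet_iff.1 hs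
    refine ⟨Bm * ((x⁻¹ : GL (Fin n) F) : Matrix (Fin n) (Fin n) F) * Bi, ?_⟩
    have hxx : (x : Matrix (Fin n) (Fin n) F) * ((x⁻¹ : GL (Fin n) F) : Matrix (Fin n) (Fin n) F) = 1 := by
      rw [← Units.val_mul, mul_inv_cancel, Units.val_one]
    calc Bm * (x : Matrix (Fin n) (Fin n) F) * Bi * (Bm * ((x⁻¹ : GL (Fin n) F) : Matrix (Fin n) (Fin n) F) * Bi)
        = Bm * ((x : Matrix (Fin n) (Fin n) F) * ((Bi * Bm) *
            ((x⁻¹ : GL (Fin n) F) : Matrix (Fin n) (Fin n) F))) * Bi := by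
          simp only [Matrix.mul_assoc]
      _ = 1 := by rw [hBiB, Matrix.one_mul, hxx, Matrix.mul_one, hBBi]
  have hτS : ∀ s ∈ S', ∀ i j, τ (s i j) = s i j := by
    rintro _ ⟨s, hs, rfl⟩ i j
    exact hfix0 _ (hB s hs i j)
  set φ : (Fin n → F) → (Fin n → F) → F := fun u v => hermForm n F q (Bi *ᵥ u) (Bi *ᵥ v) with hφdef
  have hφ : IsSesq (sigq hF) φ := by
    refine ⟨?_, ?_, ?_, ?_⟩
    · intro x y v
      simp only [hφdef, Matrix.mulVec_add, hermForm_add_left]
    · intro c x v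
      simp only [hφdef, Matrix.mulVec_smul, hermForm_smul_left]
    · intro v x y
      simp only [hφdef, Matrix.mulVec_add, hermForm_add_right hF]
    · intro c v x
      simp only [hφdef, Matrix.mulVec_smul, hermForm_smul_right, sigq_apply]
  have hBinj : ∀ v : Fin n → F, v ≠ 0 → Bi *ᵥ v ≠ 0 := by
    intro v hv h
    apply hv
    have := congrArg (fun x => Bm *ᵥ x) h
    simpa only [Matrix.mulVec_mulVec, hBBi, Matrix.one_mulVec, Matrix.mulVec_zero] using this
  have hnd : IsNondegenerateForm φ := by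
    intro v hv
    have hnd0 := Cfsg.Agent.Helper5.Asch.hermForm_nondegenerate (n := n) hF _ (hBinj v hv)
    constructor
    · obtain ⟨x, hx⟩ := hnd0.1
      refine ⟨Bm *ᵥ x, ?_⟩
      simp only [hφdef, Matrix.mulVec_mulVec, hBiB, Matrix.one_mulVec]
      exact hx
    · obtain ⟨x, hx⟩ := hnd0.2
      refine ⟨Bm *ᵥ x, ?_⟩
      simp only [hφdef, Matrix.mulVec_mulVec, hBiB, Matrix.one_mulVec]
      exact hx
  have hherm : ∀ u v, φ v u = (φ u v) ^ q := by
    intro u v
    simp only [hφdef]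
    exact hermForm_swap hF _ _
  have hfix : FixesForm S' φ := by
    rintro _ ⟨s, hs, rfl⟩ u v
    obtain ⟨x, hx, rfl⟩ := mem_matrixSet_iff.1 hs
    have hiso : ∀ u v, hermForm n F q ((x : Matrix (Fin n) (Fin n) F) *ᵥ u)
        ((x : Matrix (Fin n) (Fin n) F) *ᵥ v) = hermForm n F q u v := hPI hx
    have e : ∀ w : Fin n → F, Bi *ᵥ ((Bm * (x : Matrix (Fin n) (Fin n) F) * Bi) *ᵥ w) =
        (x : Matrix (Fin n) (Fin n) F) *ᵥ (Bi *ᵥ w) := by
      intro w
      rw [Matrix.mulVec_mulVec, Matrix.mulVec_mulVec, ← Matrix.mul_assoc, ← Matrix.mul_assoc, hBiB,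
        Matrix.one_mul]
    simp only [hφdef]
    rw [e, e, hiso]
  have hcore : ∀ h ∈ H, B * h * B⁻¹ ∈
      (Matrix.GeneralLinearGroup.map (F₁.subtype : F₁ →+* F)).range ⊔ scalars (Fin n) F :=
    fun h hh => subfield_core (by omega) hnz hP τ F₁ hmem B (fun s hs i j => hfix0 _ (hB s hs i j)) h hh
  rcases hrp.eq_two_or_odd' with h2 | hodd
  · -- degree two
    right
    subst h2
    have hF₁ : ∀ x, x ∈ F₁ ↔ x ^ q = x := mem_iff_pow_q_eq hF F₁ hcard
    have hSF : ∀ s ∈ S', ∀ i j, s i j ∈ F₁ := fun s hs i j => hmem _ (hτS s hs i j)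
    obtain ⟨hq, hrat⟩ := descent_two hF hn hn2 hφ hnd hherm hS'irr hS'u hfix F₁ hF₁ hSF
    refine ⟨hq, F₁, B⁻¹, hcard, ?_, ?_⟩
    · intro u v hu hv
      rw [one_mul]
      exact hrat u v hu hv
    · apply le_subfieldSubgroup_of_conj F₁ B B⁻¹ hcore
      intro h
      group
  · -- odd degree
    left
    obtain ⟨a, ha0, haq, hrat⟩ := descent_odd hF (by omega) hφ hnd hherm hS'irr hS'u hfix τ hτS F₁ hfixF₁ hmem
      r hodd hcard
    obtain ⟨α, hα⟩ := Cfsg.Agent.Helper5.AschU.exists_norm_eq hF a haq ha0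
    have hα0 : α ≠ 0 := by
      rintro rfl
      rw [zero_pow (by omega)] at hα
      exact ha0 hα.symm
    let αu : Fˣ := Units.mk0 α hα0
    let z : GL (Fin n) F :=
      Units.map (Matrix.scalar (Fin n) : F →+* Matrix (Fin n) (Fin n) F).toMonoidHom αu
    have hz : (z : Matrix (Fin n) (Fin n) F) = α • (1 : Matrix (Fin n) (Fin n) F) := by
      simp [z, αu, Matrix.smul_one_eq_diagonal]
    have hzc : ∀ g : GL (Fin n) F, z * g = g * z := by
      intro g
      apply Units.ext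
      rw [Units.val_mul, Units.val_mul, hz, Matrix.smul_mul, Matrix.one_mul, Matrix.mul_smul, Matrix.mul_one]
    refine ⟨F₁, r, z * B⁻¹, hrp, hodd, hcard, ?_, ?_⟩
    · intro u v hu hv
      rw [one_mul]
      have e : ∀ w : Fin n → F, ((z * B⁻¹ : GL (Fin n) F) : Matrix (Fin n) (Fin n) F) *ᵥ w =
          α • (Bi *ᵥ w) := by
        intro w
        rw [Units.val_mul, hz, Matrix.smul_mul, Matrix.one_mul, Matrix.smul_mulVec]
      rw [e, e, hermForm_smul_left, hermForm_smul_right, ← mul_assoc, ← pow_succ', hα]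
      exact hrat u v hu hv
    · apply le_subfieldSubgroup_of_conj F₁ B (z * B⁻¹) hcore
      intro h
      have h1 : z * B⁻¹ * (B * h * B⁻¹) * (z * B⁻¹)⁻¹ = z * h * z⁻¹ := by group
      rw [h1, hzc h]
      group

end Cfsg.Agent.Helper3.AschU
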