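import Mathlib
import Cfsg.Prelude.Def_GeometricClasses
import Cfsg.Agent.Helper7.Hermitian
import Cfsg.Agent.Helper3.AschUSubA

/-!
# ASCH-COMP-U piece V8a (helper3)

Over the field with four elements a non-degenerate unitary plane has exactly two non-isotropic points, and they are
orthogonal. Hence a non-degenerate decomposition into planes refines canonically to a non-degenerate decomposition
into lines, and every isometry permuting the planes permutes the lines.
-/

set_option autoImplicit false
set_option linter.unusedSectionVars false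

namespace Cfsg.Agent.Helper3.AschCU

open Matrix Cfsg Cfsg.Geo Cfsg.Agent.Helper7.Herm
open scoped MatrixGroups

variable {F : Type*} [Field F] [Fintype F] {n : ℕ}

theorem two_eq_zero_F4 (hF : Fintype.card F = 2 ^ 2) : (2 : F) = 0 := by
  have h := add_pow_q hF (1 : F) 1
  linear_combination h

theorem add_self_F4 (hF : Fintype.card F = 2 ^ 2) (a : F) : a + a = 0 := by
  have h2 := two_eq_zero_F4 hF
  linear_combination a * h2

theorem cube_F4 (hF : Fintype.card F = 2 ^ 2) {a : F} (ha : a ≠ 0) : a ^ 3 = 1 := by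
  have h := FiniteField.pow_card a
  rw [hF] at h
  apply mul_left_cancel₀ ha
  rw [mul_one]
  calc a * a ^ 3 = a ^ (2 ^ 2) := by ring
    _ = a := h

theorem hermForm_zero_left' {q : ℕ} (v : Fin n → F) : hermForm n F q 0 v = 0 := by
  simp [hermForm]

theorem herm_self_F4 (hF : Fintype.card F = 2 ^ 2) (x : Fin n → F) :
    hermForm n F 2 x x = 0 ∨ hermForm n F 2 x x = 1 := by
  have h := hermForm_swap hF x x
  have h' : hermForm n F 2 x x * (hermForm n F 2 x x - 1) = 0 := by linear_combination -h
  rcases mul_eq_zero.mp h' with h0 | h1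
  · exact Or.inl h0
  · exact Or.inr (sub_eq_zero.mp h1)

theorem hermForm_sum_left' {q : ℕ} {κ : Type*} (s : Finset κ) (v : κ → Fin n → F) (w : Fin n → F) :
    hermForm n F q (∑ k ∈ s, v k) w = ∑ k ∈ s, hermForm n F q (v k) w := by
  unfold hermForm
  rw [Finset.sum_comm]
  apply Finset.sum_congr rfl
  intro i _
  rw [Finset.sum_apply, Finset.sum_mul]

/-- a non-degenerate non-zero subspace contains a vector of norm one -/
theorem exists_nonisotropic_F4 (hF : Fintype.card F = 2 ^ 2) {W : Submodule F (Fin n → F)}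
    (hW : IsNondegenerateOn (hermForm n F 2) W) (hne : W ≠ ⊥) :
    ∃ x ∈ W, hermForm n F 2 x x = 1 := by
  by_contra hcon
  push Not at hcon
  have hiso : ∀ x ∈ W, hermForm n F 2 x x = 0 := fun x hx =>
    (herm_self_F4 hF x).resolve_right (hcon x hx)
  have hfix : ∀ x ∈ W, ∀ y ∈ W, hermForm n F 2 x y = (hermForm n F 2 x y) ^ 2 := by
    intro x hx y hy
    have h1 := hiso (x + y) (W.add_mem hx hy)
    rw [hermForm_add_left, hermForm_add_right hF, hermForm_add_right hF, hiso x hx, hiso y hy] at h1
    have h2 := hermForm_swap hF x y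
    have h3 := add_self_F4 hF (hermForm n F 2 x y)
    have h4 : hermForm n F 2 y x = hermForm n F 2 x y := by linear_combination h1 - h3
    rw [h4] at h2
    exact h2
  obtain ⟨ω, hω⟩ := Cfsg.Agent.Helper3.AschU.exists_pow_q_ne hF
  have hzero : ∀ x ∈ W, ∀ y ∈ W, hermForm n F 2 x y = 0 := by
    intro x hx y hy
    have h1 := hfix x hx y hy
    have h2 := hfix (ω • x) (W.smul_mem ω hx) y hy
    rw [hermForm_smul_left] at h2
    by_contra ht
    apply hω
    have h3 : hermForm n F 2 x y * (ω ^ 2 - ω) = 0 := by linear_combination (ω ^ 2) * h1 - h2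
    rcases mul_eq_zero.mp h3 with h | h
    · exact absurd h ht
    · exact sub_eq_zero.mp h
  obtain ⟨w, hw, hw0⟩ := Submodule.exists_mem_ne_zero_of_ne_bot hne
  obtain ⟨⟨x, hx, hxw⟩, _⟩ := hW w hw hw0
  exact hxw (hzero x hx w hw)

/-- two linearly independent vectors of a plane span it -/
theorem span_pair_of_finrank_two {W : Submodule F (Fin n → F)} (hdim : Module.finrank F W = 2)
    {x y : Fin n → F} (hx : x ∈ W) (hy : y ∈ W) (hli : ∀ s t : F, s • x + t • y = 0 → s = 0 ∧ t = 0) :
    ∀ w ∈ W, ∃ a b : F, w = a • x + b • y := by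
  intro w hw
  obtain ⟨b, hb⟩ : ∃ b : Fin 2 → W, b = ![⟨x, hx⟩, ⟨y, hy⟩] := ⟨_, rfl⟩
  have hbl : LinearIndependent F b := by
    apply LinearIndependent.of_comp W.subtype
    have hcomp : (W.subtype ∘ b) = ![x, y] := by
      funext i
      rw [hb]
      fin_cases i <;> rfl
    rw [hcomp, LinearIndependent.pair_iff]
    exact hli
  have htop := hbl.span_eq_top_of_card_eq_finrank' (by rw [Fintype.card_fin, hdim])
  have hmem : (⟨w, hw⟩ : W) ∈ Submodule.span F (Set.range b) := by
    rw [htop]
    trivial
  obtain ⟨c, hc⟩ := (Submodule.mem_span_range_iff_exists_fun F).mp hmem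
  rw [Fin.sum_univ_two] at hc
  refine ⟨c 0, c 1, ?_⟩
  have h := congrArg Subtype.val hc
  rw [hb] at h
  simpa using h.symm

/-- a non-degenerate plane over the field with four elements has an orthonormal basis -/
theorem exists_orthonormal_pair_F4 (hF : Fintype.card F = 2 ^ 2) {W : Submodule F (Fin n → F)}
    (hW : IsNondegenerateOn (hermForm n F 2) W) (hdim : Module.finrank F W = 2) :
    ∃ x y : Fin n → F, x ∈ W ∧ y ∈ W ∧ hermForm n F 2 x x = 1 ∧ hermForm n F 2 y y = 1 ∧
      hermForm n F 2 x y = 0 ∧ hermForm n F 2 y x = 0 ∧ ∀ w ∈ W, ∃ a b : F, w = a • x + b • y := by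
  have hne : W ≠ ⊥ := by
    intro h
    rw [h, finrank_bot] at hdim
    omega
  obtain ⟨x, hx, hxx⟩ := exists_nonisotropic_F4 hF hW hne
  have hx0 : x ≠ 0 := by
    intro h
    rw [h, hermForm_zero_left'] at hxx
    exact zero_ne_one hxx
  have hz : ∃ z ∈ W, z ∉ Submodule.span F {x} := by
    by_contra hcon
    push Not at hcon
    have hle : W ≤ Submodule.span F {x} := fun z hz => hcon z hz
    have := Submodule.finrank_mono hle
    rw [hdim, finrank_span_singleton hx0] at this
    omega
  obtain ⟨z, hzW, hzx⟩ := hz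
  obtain ⟨y, hydef⟩ : ∃ y, y = z + (-(hermForm n F 2 z x)) • x := ⟨_, rfl⟩
  have hy : y ∈ W := by
    rw [hydef]
    exact W.add_mem hzW (W.smul_mem _ hx)
  have hyx : hermForm n F 2 y x = 0 := by
    rw [hydef, hermForm_add_left, hermForm_smul_left, hxx]
    ring
  have hxy : hermForm n F 2 x y = 0 := by
    rw [hermForm_swap hF, hyx]
    ring
  have hy0 : y ≠ 0 := by
    intro h
    apply hzx
    have hz' : z = (hermForm n F 2 z x) • x := by
      rw [h, neg_smul] at hydef
      exact sub_eq_zero.mp (by rw [sub_eq_add_neg]; exact hydef.symm)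
    rw [hz']
    exact Submodule.smul_mem _ _ (Submodule.mem_span_singleton_self x)
  have hli : ∀ s t : F, s • x + t • y = 0 → s = 0 ∧ t = 0 := by
    intro s t hst
    have h1 : hermForm n F 2 (s • x + t • y) x = 0 := by
      rw [hst]
      exact hermForm_zero_left' x
    rw [hermForm_add_left, hermForm_smul_left, hermForm_smul_left, hxx, hyx] at h1
    have hs : s = 0 := by linear_combination h1
    subst hs
    rw [zero_smul, zero_add] at hst
    rcases smul_eq_zero.mp hst with h | h
    · exact ⟨rfl, h⟩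
    · exact absurd h hy0
  have hspan := span_pair_of_finrank_two hdim hx hy hli
  have hyy : hermForm n F 2 y y = 1 := by
    rcases herm_self_F4 hF y with h0 | h1
    · exfalso
      obtain ⟨⟨w, hw, hwy⟩, _⟩ := hW y hy hy0
      obtain ⟨a, b, rfl⟩ := hspan w hw
      apply hwy
      rw [hermForm_add_left, hermForm_smul_left, hermForm_smul_left, hxy, h0]
      ring
    · exact h1
  exact ⟨x, y, hx, hy, hxx, hyy, hxy, hyx, hspan⟩

/-- in the plane with orthonormal basis `x, y` the only non-isotropic points are `⟨x⟩` and `⟨y⟩` -/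
theorem nonisotropic_cases_F4 (hF : Fintype.card F = 2 ^ 2) {x y : Fin n → F}
    (hxx : hermForm n F 2 x x = 1) (hyy : hermForm n F 2 y y = 1) (hxy : hermForm n F 2 x y = 0)
    (hyx : hermForm n F 2 y x = 0) (a b : F)
    (hne : hermForm n F 2 (a • x + b • y) (a • x + b • y) ≠ 0) : a = 0 ∨ b = 0 := by
  by_contra hcon
  push Not at hcon
  obtain ⟨ha, hb⟩ := hcon
  apply hne
  simp only [hermForm_add_left, hermForm_add_right hF, hermForm_smul_left, hermForm_smul_right, hxx, hyy, hxy,
    hyx]
  have h3a := cube_F4 hF ha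
  have h3b := cube_F4 hF hb
  have h2 := two_eq_zero_F4 hF
  linear_combination h3a + h3b + h2

/-- an invertible matrix sending each member of an injective family to a member lies in the stabiliser -/
theorem mem_decompositionStabilizer_of_exists {ι : Type} [Fintype ι] [DecidableEq ι] {t : ℕ}
    {D : Fin t → Submodule F (ι → F)} (hinj : Function.Injective D) (g : GL ι F)
    (h : ∀ i, ∃ j, (D i).map (Matrix.toLin' (g : Matrix ι ι F)) = D j) :
    g ∈ decompositionStabilizer D := by
  have hginj : Function.Injective (Matrix.toLin' (g : Matrix ι ι F)) := by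
    intro v w hvw
    have := congrArg (Matrix.toLin' ((g⁻¹ : GL ι F) : Matrix ι ι F)) hvw
    rw [Matrix.toLin'_apply, Matrix.toLin'_apply, Matrix.toLin'_apply, Matrix.toLin'_apply,
      Matrix.mulVec_mulVec, Matrix.mulVec_mulVec, ← Units.val_mul, inv_mul_cancel, Units.val_one,
      Matrix.one_mulVec, Matrix.one_mulVec] at this
    exact this
  choose φ hφ using h
  have hφi : Function.Injective φ := by
    intro i i' hii
    apply hinj
    have h1 := hφ i
    have h2 := hφ i'
    rw [hii] at h1
    exact Submodule.map_injective_of_injective hginj (h1.trans h2.symm)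
  exact ⟨Equiv.ofBijective φ (Finite.injective_iff_bijective.mp hφi), hφ⟩

/-- **V8a**: over the field with four elements a non-degenerate decomposition into planes refines to a non-degenerate
decomposition into lines that is preserved by every isometry preserving the decomposition into planes. -/
theorem refine_two_decomp (hF : Fintype.card F = 2 ^ 2) {t : ℕ} (D : Fin t → Submodule F (Fin n → F))
    (hD : IsNondegenerateMDecomposition (hermForm n F 2) 2 D) :
    ∃ D' : Fin (t * 2) → Submodule F (Fin n → F), IsNondegenerateMDecomposition (hermForm n F 2) 1 D' ∧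
      decompositionStabilizer D ⊓ GU n F 2 ≤ decompositionStabilizer D' := by
  classical
  have hK := fun i => exists_orthonormal_pair_F4 hF (hD.nondegenerate i) (hD.decomp.finrank_eq i)
  choose x y hx hy hxx hyy hxy hyx hspan using hK
  obtain ⟨b, hb⟩ : ∃ b : Fin t × Fin 2 → (Fin n → F), b = fun k => if k.2 = 0 then x k.1 else y k.1 :=
    ⟨_, rfl⟩
  have hb0 : ∀ i, b (i, 0) = x i := fun i => by rw [hb]; simp
  have hb1 : ∀ i, b (i, 1) = y i := fun i => by rw [hb]; simp
  have hbm : ∀ (i : Fin t) (j : Fin 2), b (i, j) ∈ D i := by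
    intro i
    rw [Fin.forall_fin_two]
    exact ⟨by rw [hb0]; exact hx i, by rw [hb1]; exact hy i⟩
  have h01 : ∀ i : Fin t, ((i, 0) : Fin t × Fin 2) ≠ (i, 1) := by
    intro i h
    have h' : (0 : Fin 2) = 1 := congrArg Prod.snd h
    exact absurd h' (by decide)
  have hon : ∀ k k', hermForm n F 2 (b k) (b k') = if k = k' then 1 else 0 := by
    rintro ⟨i, j⟩ ⟨i', j'⟩
    by_cases hii : i = i'
    · subst hii
      have : ∀ j j' : Fin 2, hermForm n F 2 (b (i, j)) (b (i, j')) =
          if ((i, j) : Fin t × Fin 2) = (i, j') then 1 else 0 := by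
        refine Fin.forall_fin_two.mpr ⟨Fin.forall_fin_two.mpr ⟨?_, ?_⟩, Fin.forall_fin_two.mpr ⟨?_, ?_⟩⟩
        · rw [hb0, hxx, if_pos rfl]
        · rw [hb0, hb1, hxy, if_neg (h01 i)]
        · rw [hb0, hb1, hyx, if_neg (fun h => h01 i h.symm)]
        · rw [hb1, hyy, if_pos rfl]
      exact this j j'
    · rw [if_neg (fun h => hii (congrArg Prod.fst h))]
      exact hD.orthogonal i i' hii _ (hbm i j) _ (hbm i' j')
  have hb_ne : ∀ k, b k ≠ 0 := by
    intro k h
    have := hon k k
    rw [if_pos rfl, h, hermForm_zero_left'] at this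
    exact zero_ne_one this
  have hli : LinearIndependent F b := by
    rw [linearIndependent_iff']
    intro s c hc k hk
    have h1 : hermForm n F 2 (∑ k' ∈ s, c k' • b k') (b k) = 0 := by
      rw [hc]
      exact hermForm_zero_left' _
    rw [hermForm_sum_left', Finset.sum_eq_single k] at h1
    · rw [hermForm_smul_left, hon, if_pos rfl, mul_one] at h1
      exact h1
    · intro k' _ hk'
      rw [hermForm_smul_left, hon, if_neg hk', mul_zero]
    · intro hk'
      exact absurd hk hk'
  obtain ⟨e, he⟩ : ∃ e : Fin t × Fin 2 ≃ Fin (t * 2), e = finProdFinEquiv := ⟨_, rfl⟩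
  obtain ⟨D', hD'⟩ : ∃ D' : Fin (t * 2) → Submodule F (Fin n → F),
      D' = fun m => Submodule.span F {b (e.symm m)} := ⟨_, rfl⟩
  have hD'e : ∀ k, D' (e k) = Submodule.span F {b k} := fun k => by
    rw [hD']
    simp only [Equiv.symm_apply_apply]
  have hindep : iSupIndep D' := by
    rw [hD']
    exact hli.iSupIndep_span_singleton.comp e.symm.injective
  have hDne : ∀ m, D' m ≠ ⊥ := by
    intro m h
    rw [hD'] at h
    exact hb_ne _ (Submodule.span_singleton_eq_bot.mp h)
  have hDinj : Function.Injective D' := hindep.injective hDne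
  refine ⟨D', ⟨⟨?_, one_pos, ?_, hindep, ?_⟩, ?_, ?_⟩, ?_⟩
  · have := hD.decomp.two_le
    omega
  · intro m
    rw [hD']
    exact finrank_span_singleton (hb_ne _)
  · rw [eq_top_iff, ← hD.decomp.iSup_eq_top]
    apply iSup_le
    intro i w hw
    obtain ⟨a, c, rfl⟩ := hspan i w hw
    apply Submodule.add_mem
    · apply Submodule.smul_mem
      apply Submodule.mem_iSup_of_mem (e (i, 0))
      rw [hD'e, hb0]
      exact Submodule.mem_span_singleton_self _
    · apply Submodule.smul_mem
      apply Submodule.mem_iSup_of_mem (e (i, 1))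
      rw [hD'e, hb1]
      exact Submodule.mem_span_singleton_self _
  · intro m w hw hw0
    rw [hD'] at hw
    obtain ⟨c, rfl⟩ := Submodule.mem_span_singleton.mp hw
    have hc : c ≠ 0 := by
      rintro rfl
      exact hw0 (zero_smul _ _)
    have hbk : b (e.symm m) ∈ D' m := by
      rw [hD']
      exact Submodule.mem_span_singleton_self _
    refine ⟨⟨b (e.symm m), hbk, ?_⟩, ⟨b (e.symm m), hbk, ?_⟩⟩
    · rw [hermForm_smul_right, hon, if_pos rfl, mul_one]
      exact pow_ne_zero _ hc
    · rw [hermForm_smul_left, hon, if_pos rfl, mul_one]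
      exact hc
  · intro m m' hmm u hu v hv
    rw [hD'] at hu hv
    obtain ⟨c, rfl⟩ := Submodule.mem_span_singleton.mp hu
    obtain ⟨c', rfl⟩ := Submodule.mem_span_singleton.mp hv
    rw [hermForm_smul_left, hermForm_smul_right, hon, if_neg (fun h => hmm (e.symm.injective h)), mul_zero,
      mul_zero]
  · rintro g ⟨hg1, hg2⟩
    obtain ⟨σ, hσ⟩ := hg1
    have hiso : ∀ u v, hermForm n F 2 ((g : Matrix (Fin n) (Fin n) F) *ᵥ u)
        ((g : Matrix (Fin n) (Fin n) F) *ᵥ v) = hermForm n F 2 u v := fun u v => hg2 u v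
    have hmove : ∀ k : Fin t × Fin 2, ∃ (k' : Fin t × Fin 2) (c : F), c ≠ 0 ∧
        (g : Matrix (Fin n) (Fin n) F) *ᵥ b k = c • b k' := by
      rintro ⟨i, j⟩
      have hmem : (g : Matrix (Fin n) (Fin n) F) *ᵥ b (i, j) ∈ D (σ i) := by
        rw [← hσ i, ← Matrix.toLin'_apply]
        exact Submodule.mem_map_of_mem (hbm i j)
      have hnorm : hermForm n F 2 ((g : Matrix (Fin n) (Fin n) F) *ᵥ b (i, j))
          ((g : Matrix (Fin n) (Fin n) F) *ᵥ b (i, j)) = 1 := by
        rw [hiso, hon, if_pos rfl]
      obtain ⟨a, c, hac⟩ := hspan (σ i) _ hmem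
      have hne : hermForm n F 2 (a • x (σ i) + c • y (σ i)) (a • x (σ i) + c • y (σ i)) ≠ 0 := by
        rw [← hac, hnorm]
        exact one_ne_zero
      rcases nonisotropic_cases_F4 hF (hxx _) (hyy _) (hxy _) (hyx _) a c hne with h0 | h0
      · refine ⟨(σ i, 1), c, ?_, ?_⟩
        · rintro rfl
          rw [h0, zero_smul, zero_smul, add_zero, hermForm_zero_left'] at hne
          exact hne rfl
        · rw [hac, h0, zero_smul, zero_add, hb1]
      · refine ⟨(σ i, 0), a, ?_, ?_⟩
        · rintro rfl
          rw [h0, zero_smul, zero_smul, add_zero, hermForm_zero_left'] at hne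
          exact hne rfl
        · rw [hac, h0, zero_smul, add_zero, hb0]
    apply mem_decompositionStabilizer_of_exists hDinj g
    intro m
    obtain ⟨k', c, hc, hk'⟩ := hmove (e.symm m)
    refine ⟨e k', ?_⟩
    rw [hD'e]
    rw [hD']
    simp only
    rw [Submodule.map_span, Set.image_singleton, Matrix.toLin'_apply, hk']
    exact Submodule.span_singleton_smul_eq (IsUnit.mk0 c hc) _

end Cfsg.Agent.Helper3.AschCU
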