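import Mathlib
import Cfsg.Prelude.Def_GeometricClasses
import Cfsg.Agent.Lead.AschArith

/-!
# ASCH-PRIME-U: arithmetic side conditions of the class of symplectic-type normalizers in `SU_7`, `SU_11`
-/

set_option autoImplicit false

namespace Cfsg.Agent.Helper3.AschU

open Cfsg Cfsg.Geo Cfsg.Agent.Lead.Asch
open scoped MatrixGroups Matrix

variable {F : Type*} [Field F] [Fintype F]

theorem q_eq_pow {p e q : ℕ} (hp : p.Prime) (h : p ^ e = q ^ 2) : ∃ a, q = p ^ a ∧ e = 2 * a := by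
  have h1 : q ∣ p ^ e := by rw [h]; exact dvd_pow_self q (by norm_num)
  obtain ⟨a, -, rfl⟩ := (Nat.dvd_prime_pow hp).1 h1
  refine ⟨a, rfl, ?_⟩
  rw [← pow_mul] at h
  have := Nat.pow_right_injective hp.two_le h
  omega

theorem arithU7 {p e q : ℕ} (hmf : IsMinimalFieldFor 7 p e F) (hnp : 7 ≠ p)
    (hF : Fintype.card F = q ^ 2) :
    p.Prime ∧ CharP F p ∧ ((q = p ∧ p % 7 = 6) ∨ (q = p ^ 3 ∧ (p % 7 = 3 ∨ p % 7 = 5))) := by
  obtain ⟨hp, hchar, hcard, hdvd, hmin⟩ := hmf
  obtain ⟨a, rfl, rfl⟩ := q_eq_pow hp (hcard.symm.trans hF)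
  have hcard1 : 1 < Fintype.card F := Fintype.one_lt_card
  have ha0 : 0 < a := by
    rcases Nat.eq_zero_or_pos a with rfl | h
    · simp at hcard; omega
    · exact h
  have hle := exp_le (by norm_num) hp hnp (by omega) hmin
  have hpm : p % 7 ≠ 0 := by
    intro h0
    have : 7 ∣ p := Nat.dvd_of_mod_eq_zero h0
    exact hnp ((Nat.prime_dvd_prime_iff_eq (by norm_num) hp).1 this)
  have hlt : p % 7 < 7 := Nat.mod_lt _ (by norm_num)
  rw [dvd_pow_sub_one_iff hp.pos, pow_mod_eq] at hdvd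
  have hmin' : ∀ d : ℕ, 0 < d → d < 2 * a → ¬ (p % 7) ^ d % 7 = 1 % 7 := by
    intro d h0 h1 h2
    exact hmin d h0 h1 (by rw [dvd_pow_sub_one_iff hp.pos, pow_mod_eq]; exact h2)
  refine ⟨hp, hchar, ?_⟩
  have hk : a = 1 ∨ a = 2 ∨ a = 3 := by omega
  rcases hk with rfl | rfl | rfl
  · left
    refine ⟨by simp, ?_⟩
    have h1 := hmin' 1 (by norm_num) (by norm_num)
    generalize p % 7 = b at *
    interval_cases b <;> simp_all
  · exfalso
    have h1 := hmin' 2 (by norm_num) (by norm_num)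
    generalize p % 7 = b at *
    interval_cases b <;> simp_all
  · right
    refine ⟨rfl, ?_⟩
    have h1 := hmin' 1 (by norm_num) (by norm_num)
    have h2 := hmin' 2 (by norm_num) (by norm_num)
    have h3 := hmin' 3 (by norm_num) (by norm_num)
    generalize p % 7 = b at *
    interval_cases b <;> simp_all

theorem arithU11 {p e q : ℕ} (hmf : IsMinimalFieldFor 11 p e F) (hnp : 11 ≠ p)
    (hF : Fintype.card F = q ^ 2) :
    p.Prime ∧ CharP F p ∧ ((q = p ∧ p % 11 = 10) ∨
      (q = p ^ 5 ∧ (p % 11 = 2 ∨ p % 11 = 6 ∨ p % 11 = 7 ∨ p % 11 = 8))) := by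
  obtain ⟨hp, hchar, hcard, hdvd, hmin⟩ := hmf
  obtain ⟨a, rfl, rfl⟩ := q_eq_pow hp (hcard.symm.trans hF)
  have hcard1 : 1 < Fintype.card F := Fintype.one_lt_card
  have ha0 : 0 < a := by
    rcases Nat.eq_zero_or_pos a with rfl | h
    · simp at hcard; omega
    · exact h
  have hle := exp_le (by norm_num) hp hnp (by omega) hmin
  have hpm : p % 11 ≠ 0 := by
    intro h0
    have : 11 ∣ p := Nat.dvd_of_mod_eq_zero h0
    exact hnp ((Nat.prime_dvd_prime_iff_eq (by norm_num) hp).1 this)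
  have hlt : p % 11 < 11 := Nat.mod_lt _ (by norm_num)
  rw [dvd_pow_sub_one_iff hp.pos, pow_mod_eq] at hdvd
  have hmin' : ∀ d : ℕ, 0 < d → d < 2 * a → ¬ (p % 11) ^ d % 11 = 1 % 11 := by
    intro d h0 h1 h2
    exact hmin d h0 h1 (by rw [dvd_pow_sub_one_iff hp.pos, pow_mod_eq]; exact h2)
  refine ⟨hp, hchar, ?_⟩
  have hk : a = 1 ∨ a = 2 ∨ a = 3 ∨ a = 4 ∨ a = 5 := by omega
  rcases hk with rfl | rfl | rfl | rfl | rfl
  · left
    refine ⟨by simp, ?_⟩
    have h1 := hmin' 1 (by norm_num) (by norm_num)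
    generalize p % 11 = b at *
    interval_cases b <;> simp_all
  · exfalso
    have h1 := hmin' 2 (by norm_num) (by norm_num)
    generalize p % 11 = b at *
    interval_cases b <;> simp_all
  · exfalso
    have h1 := hmin' 2 (by norm_num) (by norm_num)
    have h2 := hmin' 1 (by norm_num) (by norm_num)
    have h3 := hmin' 5 (by norm_num) (by norm_num)
    generalize p % 11 = b at *
    interval_cases b <;> simp_all
  · exfalso
    have h1 := hmin' 2 (by norm_num) (by norm_num)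
    have h2 := hmin' 1 (by norm_num) (by norm_num)
    have h3 := hmin' 5 (by norm_num) (by norm_num)
    generalize p % 11 = b at *
    interval_cases b <;> simp_all
  · right
    refine ⟨rfl, ?_⟩
    have h1 := hmin' 1 (by norm_num) (by norm_num)
    have h2 := hmin' 2 (by norm_num) (by norm_num)
    have h3 := hmin' 5 (by norm_num) (by norm_num)
    generalize p % 11 = b at *
    interval_cases b <;> simp_all

end Cfsg.Agent.Helper3.AschU
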