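import Mathlib
import Cfsg.Prelude.Def_GeometricClasses
import Cfsg.Agent.Lead.AschBase
import Cfsg.Agent.Helper7.Hermitian
import Cfsg.Agent.Helper5.AschU2b

/-!
# ASCH-PRIME-U, piece U1 (helper3): the reducible case inside `GU`

A reducible subgroup of `GU_n(q)`, `n` odd, stabilises a totally singular subspace or a non-degenerate subspace
of dimension `< n/2`.
-/

set_option autoImplicit false

namespace Cfsg.Agent.Helper3.AschU

open Cfsg Cfsg.Geo Cfsg.Agent.Lead.Asch Cfsg.Agent.Helper7.Herm
open scoped MatrixGroups Matrix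

variable {n : ℕ} {F : Type*} [Field F] [Fintype F]

/-- the (left) orthogonal complement of `W` for the hermitian form -/
def perp (q : ℕ) (W : Submodule F (Fin n → F)) : Submodule F (Fin n → F) where
  carrier := {v | ∀ w ∈ W, hermForm n F q v w = 0}
  add_mem' {a b} ha hb := by
    intro w hw
    rw [hermForm_add_left, ha w hw, hb w hw, add_zero]
  zero_mem' := by
    intro w hw
    have h := hermForm_smul_left (q := q) (0 : F) (0 : Fin n → F) w
    rw [zero_smul, zero_mul] at h
    exact h
  smul_mem' c {a} ha := by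
    intro w hw
    rw [hermForm_smul_left, ha w hw, mul_zero]

theorem mem_perp {q : ℕ} {W : Submodule F (Fin n → F)} {v : Fin n → F} :
    v ∈ perp q W ↔ ∀ w ∈ W, hermForm n F q v w = 0 := Iff.rfl

theorem hermForm_eq_zero_comm {q : ℕ} (hF : Fintype.card F = q ^ 2) {u v : Fin n → F}
    (h : hermForm n F q u v = 0) : hermForm n F q v u = 0 := by
  rw [hermForm_swap hF, h, zero_pow]
  have := one_le_q hF
  omega

theorem hermForm_zero_right {q : ℕ} (hF : Fintype.card F = q ^ 2) (u : Fin n → F) :
    hermForm n F q u 0 = 0 := by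
  apply hermForm_eq_zero_comm hF
  have h := hermForm_smul_left (q := q) (0 : F) (0 : Fin n → F) u
  rw [zero_smul, zero_mul] at h
  exact h

/-- `dim W^⊥ ≥ n - dim W` -/
theorem le_finrank_perp {q : ℕ} (hF : Fintype.card F = q ^ 2) (W : Submodule F (Fin n → F)) :
    n ≤ Module.finrank F W + Module.finrank F (perp q W) := by
  classical
  set d := Module.finrank F W with hd
  let b := Module.finBasis F W
  let Φ : (Fin n → F) →ₗ[F] (Fin d → F) :=
    { toFun := fun v j => hermForm n F q v (b j : Fin n → F)
      map_add' := fun x y => by funext j; simp [hermForm_add_left]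
      map_smul' := fun c x => by funext j; simp [hermForm_smul_left] }
  have hker : LinearMap.ker Φ ≤ perp q W := by
    intro v hv
    rw [LinearMap.mem_ker] at hv
    intro w hw
    have hwspan : (⟨w, hw⟩ : W) ∈ Submodule.span F (Set.range b) := by
      rw [b.span_eq]; trivial
    -- induction on the span
    have key : ∀ x : W, x ∈ Submodule.span F (Set.range b) → hermForm n F q v (x : Fin n → F) = 0 := by
      intro x hx
      induction hx using Submodule.span_induction with
      | mem y hy =>
        obtain ⟨j, rfl⟩ := hy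
        exact congrFun hv j
      | zero => exact hermForm_zero_right hF v
      | add x y _ _ hx hy =>
        rw [Submodule.coe_add, hermForm_add_right hF, hx, hy, add_zero]
      | smul c x _ hx =>
        rw [Submodule.coe_smul, hermForm_smul_right, hx, mul_zero]
    exact key ⟨w, hw⟩ hwspan
  have h1 := LinearMap.finrank_range_add_finrank_ker Φ
  rw [Module.finrank_fin_fun] at h1
  have h2 : Module.finrank F (LinearMap.range Φ) ≤ d := by
    have := Submodule.finrank_le (LinearMap.range Φ)
    rwa [Module.finrank_fin_fun] at this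
  have h3 : Module.finrank F (LinearMap.ker Φ) ≤ Module.finrank F (perp q W) :=
    Submodule.finrank_mono hker
  omega

/-- elements of `GU` stabilising `W` stabilise `W^⊥` -/
theorem le_stab_perp {q : ℕ} {H : Subgroup (GL (Fin n) F)} (hHI : H ≤ GU n F q)
    {W : Submodule F (Fin n → F)} (hW : H ≤ subspaceStabilizer W) :
    H ≤ subspaceStabilizer (perp q W) := by
  have half : ∀ g ∈ H, ∀ v, v ∈ perp q W → (g : Matrix (Fin n) (Fin n) F) *ᵥ v ∈ perp q W := by
    intro g hg v hv w hw
    have hginv : ((g⁻¹ : GL (Fin n) F) : Matrix (Fin n) (Fin n) F) *ᵥ w ∈ W := by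
      have := (mem_subspaceStabilizer_iff.mp (hW (H.inv_mem hg)) w).mp hw
      exact this
    have h1 : (g : Matrix (Fin n) (Fin n) F) *ᵥ
        (((g⁻¹ : GL (Fin n) F) : Matrix (Fin n) (Fin n) F) *ᵥ w) = w := by
      rw [Matrix.mulVec_mulVec, ← Units.val_mul, mul_inv_cancel, Units.val_one, Matrix.one_mulVec]
    have hiso : ∀ u v, hermForm n F q ((g : Matrix (Fin n) (Fin n) F) *ᵥ u)
        ((g : Matrix (Fin n) (Fin n) F) *ᵥ v) = hermForm n F q u v := hHI hg
    rw [← h1, hiso]
    exact hv _ hginv
  intro g hg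
  rw [mem_subspaceStabilizer_iff]
  intro v
  constructor
  · exact half g hg v
  · intro hv
    have := half g⁻¹ (H.inv_mem hg) _ hv
    rwa [Matrix.mulVec_mulVec, ← Units.val_mul, inv_mul_cancel, Units.val_one, Matrix.one_mulVec] at this

omit [Fintype F] in
theorem le_stab_inf {H : Subgroup (GL (Fin n) F)} {W U : Submodule F (Fin n → F)}
    (hW : H ≤ subspaceStabilizer W) (hU : H ≤ subspaceStabilizer U) :
    H ≤ subspaceStabilizer (W ⊓ U) := by
  intro g hg
  rw [mem_subspaceStabilizer_iff]
  intro v
  rw [Submodule.mem_inf, Submodule.mem_inf, ← mem_subspaceStabilizer_iff.mp (hW hg) v,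
    ← mem_subspaceStabilizer_iff.mp (hU hg) v]

/-- **U1**: the reducible case. -/
theorem unitary_reducible (q : ℕ) (hF : Fintype.card F = q ^ 2) (hn : Odd n)
    {H : Subgroup (GL (Fin n) F)} (hHI : H ≤ GU n F q) (hred : ¬ ActsIrreducibly (matrixSet H)) :
    (∃ W : Submodule F (Fin n → F), W ≠ ⊥ ∧ W ≠ ⊤ ∧ IsTotallySingularFor (hermForm n F q) W ∧
      H ≤ subspaceStabilizer W) ∨
    (∃ W : Submodule F (Fin n → F), W ≠ ⊥ ∧ W ≠ ⊤ ∧ IsNondegenerateOn (hermForm n F q) W ∧
      2 * Module.finrank F W < n ∧ H ≤ subspaceStabilizer W) := by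
  classical
  -- a minimal invariant subspace
  let S : Set (Submodule F (Fin n → F)) := {W | W ≠ ⊥ ∧ W ≠ ⊤ ∧ H ≤ subspaceStabilizer W}
  have hne : S.Nonempty := exists_stab_of_not_irred hred
  obtain ⟨W, hWS, hmin⟩ := WellFounded.has_min
    (measure (fun W : Submodule F (Fin n → F) => Module.finrank F W)).wf S hne
  obtain ⟨hW0, hW1, hWle⟩ := hWS
  have hPle := le_stab_perp hHI hWle
  have hRle := le_stab_inf hWle hPle
  by_cases hR : W ⊓ perp q W = ⊥
  · -- non-degenerate
    right
    have hdisj : Disjoint W (perp q W) := disjoint_iff.mpr hR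
    have hsum : Module.finrank F W + Module.finrank F (perp q W) = n := by
      have h1 := le_finrank_perp hF (q := q) W
      have h2 := Submodule.finrank_add_finrank_le_of_disjoint hdisj
      rw [Module.finrank_fin_fun] at h2
      omega
    have hsup : W ⊔ perp q W = ⊤ := by
      apply Submodule.eq_top_of_finrank_eq
      have h3 := Submodule.finrank_sup_add_finrank_inf_eq W (perp q W)
      rw [hR, finrank_bot, add_zero] at h3
      rw [h3, hsum, Module.finrank_fin_fun]
    -- non-degeneracy of `W`
    have hndW : IsNondegenerateOn (hermForm n F q) W := by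
      intro w hw hw0
      have h1 : ∃ x ∈ W, hermForm n F q w x ≠ 0 := by
        by_contra hcon
        push Not at hcon
        have : w ∈ W ⊓ perp q W := ⟨hw, fun x hx => hcon x hx⟩
        rw [hR] at this
        exact hw0 ((Submodule.mem_bot F).mp this)
      obtain ⟨x, hx, hxw⟩ := h1
      exact ⟨⟨x, hx, fun h => hxw (hermForm_eq_zero_comm hF h)⟩, ⟨x, hx, hxw⟩⟩
    -- non-degeneracy of `W^⊥`
    have hndP : IsNondegenerateOn (hermForm n F q) (perp q W) := by
      intro w hw hw0
      have h1 : ∃ x ∈ perp q W, hermForm n F q x w ≠ 0 := by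
        by_contra hcon
        push Not at hcon
        obtain ⟨y, hy⟩ := ((Cfsg.Agent.Helper5.Asch.hermForm_nondegenerate (n := n) hF) w hw0).1
        apply hy
        have hymem : y ∈ W ⊔ perp q W := by rw [hsup]; trivial
        obtain ⟨a, ha, b, hb, rfl⟩ := Submodule.mem_sup.mp hymem
        rw [hermForm_add_left, hcon b hb, add_zero]
        exact hermForm_eq_zero_comm hF (hw a ha)
      obtain ⟨x, hx, hxw⟩ := h1
      exact ⟨⟨x, hx, hxw⟩, ⟨x, hx, fun h => hxw (hermForm_eq_zero_comm hF h)⟩⟩
    have hP0 : perp q W ≠ ⊥ := by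
      intro h
      rw [h, sup_bot_eq] at hsup
      exact hW1 hsup
    have hP1 : perp q W ≠ ⊤ := by
      intro h
      rw [h, inf_top_eq] at hR
      exact hW0 hR
    by_cases hlt : 2 * Module.finrank F W < n
    · exact ⟨W, hW0, hW1, hndW, hlt, hWle⟩
    · refine ⟨perp q W, hP0, hP1, hndP, ?_, hPle⟩
      obtain ⟨k, hk⟩ := hn
      omega
  · -- totally singular
    left
    have hRS : W ⊓ perp q W ∈ S := by
      refine ⟨hR, ?_, hRle⟩
      intro h
      apply hW1
      rw [eq_top_iff, ← h]
      exact inf_le_left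
    have h1 : ¬ Module.finrank F ↥(W ⊓ perp q W) < Module.finrank F W := hmin _ hRS
    have h2 : W ⊓ perp q W = W :=
      Submodule.eq_of_le_of_finrank_le inf_le_left (not_lt.mp h1)
    refine ⟨W, hW0, hW1, ?_, hWle⟩
    intro u hu v hv
    have : u ∈ W ⊓ perp q W := by rw [h2]; exact hu
    exact this.2 v hv

end Cfsg.Agent.Helper3.AschU
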