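import Mathlib
import Cfsg.Prelude.Def_GeometricClasses
import Cfsg.Agent.Lead.AschBase
import Cfsg.Agent.Helper9.AschSchur
import Cfsg.Agent.Helper7.Hermitian
import Cfsg.Agent.Helper5.AschU2b

/-!
# ASCH-PRIME-U, piece U3 (helper3): Schur in prime dimension inside `GU`

The commutant of an irreducible subgroup of `GU_n(q)` is closed under adjoints for the hermitian form.
-/

set_option autoImplicit false

namespace Cfsg.Agent.Helper3.AschU

open Cfsg Cfsg.Geo Cfsg.Agent.Lead.Asch Cfsg.Agent.Helper7.Herm Cfsg.Agent.Helper9.Asch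
open scoped MatrixGroups Matrix

variable {n : ℕ} {F : Type*} [Field F] [Fintype F]

/-- the adjoint matrix for the hermitian form `Σ u_i v_i^q` -/
def adj (q : ℕ) (k : Matrix (Fin n) (Fin n) F) : Matrix (Fin n) (Fin n) F := fun i j => (k j i) ^ q

theorem hermForm_adj {q : ℕ} (hF : Fintype.card F = q ^ 2) (k : Matrix (Fin n) (Fin n) F)
    (u v : Fin n → F) : hermForm n F q (k *ᵥ u) v = hermForm n F q u (adj q k *ᵥ v) := by
  unfold hermForm
  simp only [Matrix.mulVec, dotProduct, adj]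
  have h1 : ∀ j, (∑ i, (k i j) ^ q * v i) ^ q = ∑ i, k i j * (v i) ^ q := by
    intro j
    rw [sum_pow_q hF]
    apply Finset.sum_congr rfl
    intro i _
    rw [mul_pow, pow_q_pow_q hF]
  simp_rw [h1, Finset.sum_mul, Finset.mul_sum]
  rw [Finset.sum_comm]
  apply Finset.sum_congr rfl
  intro j _
  apply Finset.sum_congr rfl
  intro i _
  ring

theorem hermForm_sub_right {q : ℕ} (hF : Fintype.card F = q ^ 2) (u v v' : Fin n → F) :
    hermForm n F q u (v - v') = hermForm n F q u v - hermForm n F q u v' := by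
  have h := hermForm_add_right hF u (v - v') v'
  rw [sub_add_cancel] at h
  rw [h]; ring

/-- two vectors with the same products against everything are equal -/
theorem eq_of_hermForm_eq {q : ℕ} (hF : Fintype.card F = q ^ 2) {a b : Fin n → F}
    (h : ∀ x, hermForm n F q x a = hermForm n F q x b) : a = b := by
  by_contra hne
  have hd : a - b ≠ 0 := sub_ne_zero.mpr hne
  obtain ⟨x, hx⟩ := ((Cfsg.Agent.Helper5.Asch.hermForm_nondegenerate (n := n) hF) _ hd).1
  apply hx
  rw [hermForm_sub_right hF, h x, sub_self]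

/-- the commutant of a subgroup of `GU` is closed under adjoints -/
theorem adj_mem_commutant {q : ℕ} (hF : Fintype.card F = q ^ 2) {N : Subgroup (GL (Fin n) F)}
    (hNI : N ≤ GU n F q) {k : Matrix (Fin n) (Fin n) F} (hk : k ∈ commutant N) :
    adj q k ∈ commutant N := by
  rw [mem_commutant_iff] at hk ⊢
  intro s hs
  obtain ⟨x, hx, rfl⟩ := mem_matrixSet_iff.mp hs
  have hxI : ∀ u v, hermForm n F q ((x : Matrix (Fin n) (Fin n) F) *ᵥ u)
      ((x : Matrix (Fin n) (Fin n) F) *ᵥ v) = hermForm n F q u v := hNI hx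
  have hxinv : ∀ u : Fin n → F, (x : Matrix (Fin n) (Fin n) F) *ᵥ
      (((x⁻¹ : GL (Fin n) F) : Matrix (Fin n) (Fin n) F) *ᵥ u) = u := by
    intro u
    rw [Matrix.mulVec_mulVec, ← Units.val_mul, mul_inv_cancel, Units.val_one, Matrix.one_mulVec]
  have hkinv : k * ((x⁻¹ : GL (Fin n) F) : Matrix (Fin n) (Fin n) F) =
      ((x⁻¹ : GL (Fin n) F) : Matrix (Fin n) (Fin n) F) * k :=
    hk _ (coe_mem_matrixSet (N.inv_mem hx))
  apply Matrix.mulVec_injective
  funext v
  apply eq_of_hermForm_eq hF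
  intro u
  -- left: f(u, adj k (x v)) = f(k u, x v) = f(x⁻¹ k u, v)
  have e1 : hermForm n F q u ((adj q k * (x : Matrix (Fin n) (Fin n) F)) *ᵥ v) =
      hermForm n F q (((x⁻¹ : GL (Fin n) F) : Matrix (Fin n) (Fin n) F) *ᵥ (k *ᵥ u)) v := by
    rw [← Matrix.mulVec_mulVec, ← hermForm_adj hF]
    conv_lhs => rw [← hxinv (k *ᵥ u)]
    rw [hxI]
  -- right: f(u, x (adj k v)) = f(x⁻¹ u, adj k v) = f(k x⁻¹ u, v)
  have e2 : hermForm n F q u (((x : Matrix (Fin n) (Fin n) F) * adj q k) *ᵥ v) =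
      hermForm n F q (k *ᵥ (((x⁻¹ : GL (Fin n) F) : Matrix (Fin n) (Fin n) F) *ᵥ u)) v := by
    rw [← Matrix.mulVec_mulVec, hermForm_adj hF]
    conv_lhs => rw [← hxinv u]
    rw [hxI]
  rw [e1, e2, Matrix.mulVec_mulVec, Matrix.mulVec_mulVec, hkinv]

/-- **U3**: Schur in prime dimension inside `GU`. -/
theorem schur_unitary (hn : n.Prime) (q : ℕ) (hF : Fintype.card F = q ^ 2)
    {H N : Subgroup (GL (Fin n) F)} (hNI : N ≤ GU n F q)
    (hN : ActsIrreducibly (matrixSet N)) (hnz : Nzes H N) :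
    ActsAbsolutelyIrreducibly (matrixSet N) ∨
    ∃ K : Subalgebra F (Matrix (Fin n) (Fin n) F), IsFieldSubalgebra n K ∧
      IsAdjointClosedFor (hermForm n F q) K ∧ H ≤ subalgebraNormalizer K := by
  have hpos : 0 < n := hn.pos
  have : NeZero n := ⟨hpos.ne'⟩
  have hdvd := finrank_commutant_dvd hpos hN
  have hfield := commutant_isField hpos hN
  rcases (Nat.dvd_prime hn).1 hdvd with h1 | h1
  · left
    refine ⟨hN, fun M hM => ?_⟩
    have hbot : commutant N = ⊥ := Subalgebra.finrank_eq_one_iff.1 h1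
    have hMmem : M ∈ commutant N := mem_commutant_iff.2 hM
    rw [hbot, Algebra.mem_bot] at hMmem
    obtain ⟨c, hc⟩ := hMmem
    refine ⟨c, ?_⟩
    rw [← hc, Algebra.algebraMap_eq_smul_one]
  · right
    refine ⟨commutant N, ⟨?_, ?_, h1⟩, ?_, le_subalgebraNormalizer_commutant hnz⟩
    · intro x hx y hy
      exact congrArg Subtype.val (hfield.mul_comm ⟨x, hx⟩ ⟨y, hy⟩)
    · intro x hx h0
      have hu := isUnit_of_mem_commutant hN hx h0
      refine ⟨x⁻¹, inv_mem_commutant hx hu, ?_⟩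
      exact Matrix.mul_nonsing_inv x ((Matrix.isUnit_iff_isUnit_det x).1 hu)
    · intro k hk
      exact ⟨adj q k, adj_mem_commutant hF hNI hk, fun u v => hermForm_adj hF k u v⟩

end Cfsg.Agent.Helper3.AschU
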