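import Mathlib
import Cfsg.Prelude.Def_GeometricClasses
import Cfsg.Agent.Lead.AschBase
import Cfsg.Agent.Lead.AschSymE
import Cfsg.Agent.Helper3.AschForms
import Cfsg.Agent.Helper4.AschPerfect
import Cfsg.Agent.Helper5.AschField
import Cfsg.Agent.Helper5.AschU2b
import Cfsg.Agent.Helper5.AschU5
import Cfsg.Agent.Helper3.AschUArith
import Cfsg.Agent.Helper3.AschUReducible
import Cfsg.Agent.Helper3.AschUSchur
import Cfsg.Agent.Helper3.AschUSub

/-!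
# ASCH-PRIME-U assembly (helper3): Aschbacher's theorem for `SU_n(q)`, `n` an odd prime

Targets S5811 (`SU_7`) and S5856 (`SU_11`).  The five facts "`SU_n(q)` is not contained in a member of a geometric
class" (piece U7, helper7) enter through the hypothesis structure `NotSU`.
-/

set_option autoImplicit false
set_option linter.unusedSectionVars false

namespace Cfsg.Agent.Helper3.AschU

open Cfsg Cfsg.Geo Cfsg.Agent.Lead.Asch
open scoped MatrixGroups Matrix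

variable {n : ℕ} {F : Type*} [Field F] [Fintype F]

/-- piece U7: `SU_n(q)` is not contained in a member of a geometric class -/
structure NotSU (n : ℕ) (F : Type*) [Field F] [Fintype F] (q : ℕ) : Prop where
  subspace : ∀ W : Submodule F (Fin n → F), W ≠ ⊥ → W ≠ ⊤ →
    ¬ GU n F q ⊓ specialLinear (Fin n) F ≤ subspaceStabilizer W
  decomp : ∀ D : Fin n → Submodule F (Fin n → F), IsNondegenerateMDecomposition (hermForm n F q) 1 D →
    ¬ GU n F q ⊓ specialLinear (Fin n) F ≤ decompositionStabilizer D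
  field : ∀ K : Subalgebra F (Matrix (Fin n) (Fin n) F), IsFieldSubalgebra n K →
    ¬ GU n F q ⊓ specialLinear (Fin n) F ≤ subalgebraNormalizer K
  subfield : ∀ F₁ : Subfield F, F₁ ≠ ⊤ → ∀ Pm : GL (Fin n) F,
    ¬ GU n F q ⊓ specialLinear (Fin n) F ≤ subfieldSubgroup F₁ Pm
  solvable : ∀ R : Subgroup (GL (Fin n) F), R ≤ GU n F q ⊓ specialLinear (Fin n) F → Group.IsSolvable R →
    ¬ R ≤ scalars (Fin n) F → ¬ GU n F q ⊓ specialLinear (Fin n) F ≤ subgroupNormalizer R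

/-! ## assembly -/

/-- Aschbacher's theorem for `SU_n(q)`, `n` an odd prime, generic form. -/
theorem asch_prime_unitary (hn : n.Prime) (hn2 : n ≠ 2) (q : ℕ) (hF : Fintype.card F = q ^ 2)
    (hU7 : NotSU n F q)
    (H : Subgroup (GL (Fin n) F)) (hH : IsMaximalIn (GU n F q ⊓ specialLinear (Fin n) F) H) :
    (∃ W : Submodule F (Fin n → F), W ≠ ⊥ ∧ IsTotallySingularFor (hermForm n F q) W ∧
      H = subspaceStabilizer W ⊓ (GU n F q ⊓ specialLinear (Fin n) F)) ∨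
    (∃ W : Submodule F (Fin n → F), W ≠ ⊥ ∧ IsNondegenerateOn (hermForm n F q) W ∧
      2 * Module.finrank F W < n ∧ H = subspaceStabilizer W ⊓ (GU n F q ⊓ specialLinear (Fin n) F)) ∨
    (∃ D : Fin n → Submodule F (Fin n → F), IsNondegenerateMDecomposition (hermForm n F q) 1 D ∧
      H = decompositionStabilizer D ⊓ (GU n F q ⊓ specialLinear (Fin n) F)) ∨
    (∃ K : Subalgebra F (Matrix (Fin n) (Fin n) F), IsFieldSubalgebra n K ∧
      IsAdjointClosedFor (hermForm n F q) K ∧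
      H = subalgebraNormalizer K ⊓ (GU n F q ⊓ specialLinear (Fin n) F)) ∨
    (∃ (F₀ : Subfield F) (r : ℕ) (P : GL (Fin n) F), r.Prime ∧ Odd r ∧ Fintype.card F = Nat.card F₀ ^ r ∧
      IsFormRationalStructure (hermForm n F q) F₀ 1 P ∧
      H = subfieldSubgroup F₀ P ⊓ (GU n F q ⊓ specialLinear (Fin n) F)) ∨
    (Odd q ∧ ∃ (F₀ : Subfield F) (P : GL (Fin n) F), Fintype.card F = Nat.card F₀ ^ 2 ∧
      IsFormRationalStructure (hermForm n F q) F₀ 1 P ∧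
      H = subfieldSubgroup F₀ P ⊓ (GU n F q ⊓ specialLinear (Fin n) F)) ∨
    (∃ (p e : ℕ) (R : Subgroup (GL (Fin n) F)), n ≠ p ∧ IsMinimalFieldFor n p e F ∧
      IsSymplecticTypeGroup n R ∧ ActsAbsolutelyIrreducibly (matrixSet R) ∧
      R ≤ GU n F q ⊓ specialLinear (Fin n) F ∧ Nat.card R = n ^ 3 ∧ Nat.card (Subgroup.center R) = n ∧
      H = subgroupNormalizer R ⊓ (GU n F q ⊓ specialLinear (Fin n) F)) ∨
    InUnitaryResidualClass H := by
  have hn3 : 3 ≤ n := by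
    have := hn.two_le
    omega
  have hnodd : Odd n := hn.odd_of_ne_two hn2
  have hHG : H ≤ GU n F q ⊓ specialLinear (Fin n) F := hH.1.le
  have hHI : H ≤ GU n F q := hHG.trans inf_le_left
  -- the two subfield exits
  have exitSub : ((∃ (F₁ : Subfield F) (r : ℕ) (Pm : GL (Fin n) F), r.Prime ∧ Odd r ∧
      Fintype.card F = Nat.card F₁ ^ r ∧ IsFormRationalStructure (hermForm n F q) F₁ 1 Pm ∧
      H ≤ subfieldSubgroup F₁ Pm) ∨
    (Odd q ∧ ∃ (F₁ : Subfield F) (Pm : GL (Fin n) F), Fintype.card F = Nat.card F₁ ^ 2 ∧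
      IsFormRationalStructure (hermForm n F q) F₁ 1 Pm ∧ H ≤ subfieldSubgroup F₁ Pm)) →
    ((∃ (F₀ : Subfield F) (r : ℕ) (P : GL (Fin n) F), r.Prime ∧ Odd r ∧ Fintype.card F = Nat.card F₀ ^ r ∧
      IsFormRationalStructure (hermForm n F q) F₀ 1 P ∧
      H = subfieldSubgroup F₀ P ⊓ (GU n F q ⊓ specialLinear (Fin n) F)) ∨
    (Odd q ∧ ∃ (F₀ : Subfield F) (P : GL (Fin n) F), Fintype.card F = Nat.card F₀ ^ 2 ∧
      IsFormRationalStructure (hermForm n F q) F₀ 1 P ∧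
      H = subfieldSubgroup F₀ P ⊓ (GU n F q ⊓ specialLinear (Fin n) F))) := by
    rintro (⟨F₁, r, Pm, hr, hro, hc, hfr, hle⟩ | ⟨hq, F₁, Pm, hc, hfr, hle⟩)
    · exact Or.inl ⟨F₁, r, Pm, hr, hro, hc, hfr, eq_inf_of_le hH hle
        (hU7.subfield F₁ (subfield_ne_top_of_card F₁ r hr hc) Pm)⟩
    · exact Or.inr ⟨hq, F₁, Pm, hc, hfr, eq_inf_of_le hH hle
        (hU7.subfield F₁ (subfield_ne_top_of_card F₁ 2 Nat.prime_two hc) Pm)⟩
  -- Step 1: reducible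
  by_cases hirr : ActsIrreducibly (matrixSet H)
  swap
  · rcases unitary_reducible q hF hnodd hHI hirr with ⟨W, h0, h1, hts, hle⟩ | ⟨W, h0, h1, hnd, hdim, hle⟩
    · exact Or.inl ⟨W, h0, hts, eq_inf_of_le hH hle (hU7.subspace W h0 h1)⟩
    · exact Or.inr (Or.inl ⟨W, h0, hnd, hdim,
        eq_inf_of_le hH hle (hU7.subspace W h0 h1)⟩)
  -- Step 2: imprimitive
  by_cases hC2 : ∃ D : Fin n → Submodule F (Fin n → F),
      IsNondegenerateMDecomposition (hermForm n F q) 1 D ∧ H ≤ decompositionStabilizer D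
  · obtain ⟨D, hD, hle⟩ := hC2
    exact Or.inr (Or.inr (Or.inl ⟨D, hD,
      eq_inf_of_le hH hle (hU7.decomp D hD)⟩))
  -- Step 3: extension field
  by_cases hC3 : ∃ K : Subalgebra F (Matrix (Fin n) (Fin n) F), IsFieldSubalgebra n K ∧
      IsAdjointClosedFor (hermForm n F q) K ∧ H ≤ subalgebraNormalizer K
  · obtain ⟨K, hK, hadj, hle⟩ := hC3
    exact Or.inr (Or.inr (Or.inr (Or.inl ⟨K, hK, hadj,
      eq_inf_of_le hH hle (hU7.field K hK)⟩)))
  -- Step 4: all normal subgroups are scalar or absolutely irreducible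
  have hall : ∀ M : Subgroup (GL (Fin n) F), M ≤ H → Nzes H M →
      M ≤ scalars (Fin n) F ∨ ActsAbsolutelyIrreducibly (matrixSet M) := by
    intro M hMH hMnz
    rcases Cfsg.Agent.Helper5.Asch.clifford_prime_unitary hn hnodd hF hHI hirr hMH hMnz with h | h | h
    · exact absurd h.1 hC2
    · exact Or.inl h
    · rcases schur_unitary hn q hF (hMH.trans hHI) h hMnz with h' | h'
      · exact Or.inr h'
      · exact absurd h' hC3
  have hHns : ¬ H ≤ scalars (Fin n) F := not_le_scalars_of_irred (by omega) hirr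
  obtain ⟨N, hNH, hNnz, hNns, hmin⟩ := exists_minimal hHns
  have hNabs : ActsAbsolutelyIrreducibly (matrixSet N) := (hall N hNH hNnz).resolve_left hNns
  have hNI : N ≤ GU n F q := hNH.trans hHI
  by_cases hsub : ∃ F₀ : Subfield F, F₀ ≠ ⊤ ∧ RealisableOver F₀ (matrixSet N)
  · obtain ⟨F₀, h0, hr⟩ := hsub
    rcases exitSub (subfield_unitary hnodd (by omega) q hF hNI hNnz hNabs F₀ h0 hr) with h | h
    · exact Or.inr (Or.inr (Or.inr (Or.inr (Or.inl h))))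
    · exact Or.inr (Or.inr (Or.inr (Or.inr (Or.inr (Or.inl h)))))
  by_cases hperf : ⁅N, N⁆ = N
  · -- perfect case
    obtain ⟨hsimp, hnab, hcent⟩ :=
      Cfsg.Agent.Helper4.AschP.perfect_case hn hNH hNnz hNns hall hmin hperf
    refine Or.inr (Or.inr (Or.inr (Or.inr (Or.inr (Or.inr (Or.inr ⟨N, ?_, ?_, ?_⟩))))))
    · exact
        { le := hNH
          normal := hNnz
          perfect := hperf
          simple := hsimp
          nonabelian := hnab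
          centralizer_scalar := hcent
          absIrred := hNabs
          no_subfield := fun F₀ h0 hr => hsub ⟨F₀, h0, hr⟩ }
    · rintro ⟨Q, hQ, hfix⟩
      exact hsub (Cfsg.Agent.Helper5.AschU.realisable_of_fixes_quad q hF (by omega) hNI hNabs Q hQ hfix)
    · rintro ⟨f, hf, -⟩
      exact Cfsg.Agent.Helper3.Asch.no_symplectic_of_odd hnodd f hf
  · -- symplectic-type case
    have hcomm : ⁅N, N⁆ ≤ scalars (Fin n) F := by
      by_contra hc
      exact hperf (hmin _ (Subgroup.commutator_le_self N) (nzes_commutator hNnz) hc)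
    have h : SymHyp n F H N := ⟨hn, hn2, hNH, hNnz, hNns, hNabs, hmin, hcomm⟩
    obtain ⟨p, hchar⟩ := CharP.exists F
    obtain ⟨e, hp, hcard⟩ := FiniteField.card F p
    have hdvd : n ∣ p ^ (e : ℕ) - 1 := by
      rw [← hcard]
      exact h.dvd_card_sub_one
    have hnp : n ≠ p := by
      rintro rfl
      have h1 : n ∣ n ^ (e : ℕ) := dvd_pow_self n e.ne_zero
      have h2 : 1 ≤ n ^ (e : ℕ) := Nat.one_le_pow _ _ hn.pos
      have h3 : n ∣ 1 := by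
        have := (Nat.dvd_sub h1 hdvd)
        rwa [Nat.sub_sub_self h2] at this
      exact hn.one_lt.ne' (Nat.dvd_one.1 h3)
    by_cases hminf : ∀ d : ℕ, 0 < d → d < (e : ℕ) → ¬ n ∣ p ^ d - 1
    · refine Or.inr (Or.inr (Or.inr (Or.inr (Or.inr (Or.inr (Or.inl
        ⟨p, e, N, hnp, ⟨hp, hchar, hcard, hdvd, hminf⟩, h.symplecticType, hNabs, hNH.trans hHG,
          h.card_eq, h.card_center, ?_⟩))))))
      exact eq_inf_of_le hH (le_subgroupNormalizer hNnz)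
        (hU7.solvable N (hNH.trans hHG)
          (solvable_of_commutator_le_scalars hcomm) hNns)
    · exfalso
      push Not at hminf
      obtain ⟨d, hd0, hde, hdd⟩ := hminf
      obtain ⟨F₀, hF₀, hroots⟩ :=
        Cfsg.Agent.Helper5.Asch.exists_subfield_of_not_minimal hp hchar hcard hd0 hde hdd
      exact hsub ⟨F₀, hF₀, h.realisable F₀ hroots⟩

theorem GU_le_similarityGroup (q : ℕ) : GU n F q ≤ similarityGroup (hermForm n F q) := by
  intro g hg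
  exact ⟨1, fun u v => by rw [Units.val_one, one_mul]; exact hg u v⟩

theorem final7 {F : Type*} [Field F] [Fintype F] (q : ℕ) (hF : Fintype.card F = q ^ 2) (hU7 : NotSU 7 F q) (H : Subgroup (Matrix.GeneralLinearGroup (Fin 7) F)) (hH : Cfsg.Geo.IsMaximalIn (Cfsg.GU 7 F q ⊓ Cfsg.Geo.specialLinear (Fin 7) F) H) :
    (∃ W : Submodule F (Fin 7 → F), W ≠ ⊥ ∧ Cfsg.Geo.IsTotallySingularFor (Cfsg.hermForm 7 F q) W ∧ H = Cfsg.Geo.subspaceStabilizer W ⊓ (Cfsg.GU 7 F q ⊓ Cfsg.Geo.specialLinear (Fin 7) F)) ∨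
    (∃ W : Submodule F (Fin 7 → F), W ≠ ⊥ ∧ Cfsg.Geo.IsNondegenerateOn (Cfsg.hermForm 7 F q) W ∧ 2 * Module.finrank F W < 7 ∧ H = Cfsg.Geo.subspaceStabilizer W ⊓ (Cfsg.GU 7 F q ⊓ Cfsg.Geo.specialLinear (Fin 7) F)) ∨
    (∃ D : Fin 7 → Submodule F (Fin 7 → F), Cfsg.Geo.IsNondegenerateMDecomposition (Cfsg.hermForm 7 F q) 1 D ∧ H = Cfsg.Geo.decompositionStabilizer D ⊓ (Cfsg.GU 7 F q ⊓ Cfsg.Geo.specialLinear (Fin 7) F)) ∨
    (∃ K : Subalgebra F (Matrix (Fin 7) (Fin 7) F), Cfsg.Geo.IsFieldSubalgebra 7 K ∧ Cfsg.Geo.IsAdjointClosedFor (Cfsg.hermForm 7 F q) K ∧ H = Cfsg.Geo.subalgebraNormalizer K ⊓ (Cfsg.GU 7 F q ⊓ Cfsg.Geo.specialLinear (Fin 7) F)) ∨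
    (∃ (F₀ : Subfield F) (r : ℕ) (P : Matrix.GeneralLinearGroup (Fin 7) F), r.Prime ∧ Odd r ∧ Fintype.card F = Nat.card F₀ ^ r ∧ Cfsg.Geo.IsFormRationalStructure (Cfsg.hermForm 7 F q) F₀ 1 P ∧ H = Cfsg.Geo.subfieldSubgroup F₀ P ⊓ (Cfsg.GU 7 F q ⊓ Cfsg.Geo.specialLinear (Fin 7) F)) ∨
    (Odd q ∧ ∃ (F₀ : Subfield F) (P : Matrix.GeneralLinearGroup (Fin 7) F), Fintype.card F = Nat.card F₀ ^ 2 ∧ Cfsg.Geo.IsFormRationalStructure (Cfsg.hermForm 7 F q) F₀ 1 P ∧ H = Cfsg.Geo.subfieldSubgroup F₀ P ⊓ (Cfsg.GU 7 F q ⊓ Cfsg.Geo.specialLinear (Fin 7) F)) ∨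
    (∃ (p : ℕ) (R : Subgroup (Matrix.GeneralLinearGroup (Fin 7) F)), p.Prime ∧ CharP F p ∧ ((q = p ∧ p % 7 = 6) ∨ (q = p ^ 3 ∧ (p % 7 = 3 ∨ p % 7 = 5))) ∧ Cfsg.Geo.IsSymplecticTypeGroup 7 R ∧ Cfsg.Geo.ActsAbsolutelyIrreducibly (Cfsg.Geo.matrixSet R) ∧ R ≤ Cfsg.Geo.similarityGroup (Cfsg.hermForm 7 F q) ∧ Nat.card R = 343 ∧ Nat.card (Subgroup.center R) = 7 ∧ H = Cfsg.Geo.subgroupNormalizer R ⊓ (Cfsg.GU 7 F q ⊓ Cfsg.Geo.specialLinear (Fin 7) F)) ∨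
    Cfsg.Geo.InUnitaryResidualClass H := by
  rcases asch_prime_unitary (by norm_num) (by norm_num) q hF hU7 H hH with
    h | h | h | h | h | h | h | h
  · exact Or.inl h
  · exact Or.inr (Or.inl h)
  · exact Or.inr (Or.inr (Or.inl h))
  · exact Or.inr (Or.inr (Or.inr (Or.inl h)))
  · exact Or.inr (Or.inr (Or.inr (Or.inr (Or.inl h))))
  · exact Or.inr (Or.inr (Or.inr (Or.inr (Or.inr (Or.inl h)))))
  · obtain ⟨p, e, R, hnp, hmf, hst, habs, hRG, hcard, hcen, hHR⟩ := h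
    obtain ⟨hp, hchar, harith⟩ := Cfsg.Agent.Helper3.AschU.arithU7 hmf hnp hF
    exact Or.inr (Or.inr (Or.inr (Or.inr (Or.inr (Or.inr (Or.inl
      ⟨p, R, hp, hchar, harith, hst, habs, (hRG.trans inf_le_left).trans (GU_le_similarityGroup q),
        by rw [hcard]; norm_num, hcen, hHR⟩))))))
  · exact Or.inr (Or.inr (Or.inr (Or.inr (Or.inr (Or.inr (Or.inr h))))))

theorem final11 {F : Type*} [Field F] [Fintype F] (q : ℕ) (hF : Fintype.card F = q ^ 2) (hU7 : NotSU 11 F q) (H : Subgroup (Matrix.GeneralLinearGroup (Fin 11) F)) (hH : Cfsg.Geo.IsMaximalIn (Cfsg.GU 11 F q ⊓ Cfsg.Geo.specialLinear (Fin 11) F) H) :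
    (∃ W : Submodule F (Fin 11 → F), W ≠ ⊥ ∧ Cfsg.Geo.IsTotallySingularFor (Cfsg.hermForm 11 F q) W ∧ H = Cfsg.Geo.subspaceStabilizer W ⊓ (Cfsg.GU 11 F q ⊓ Cfsg.Geo.specialLinear (Fin 11) F)) ∨
    (∃ W : Submodule F (Fin 11 → F), W ≠ ⊥ ∧ Cfsg.Geo.IsNondegenerateOn (Cfsg.hermForm 11 F q) W ∧ 2 * Module.finrank F W < 11 ∧ H = Cfsg.Geo.subspaceStabilizer W ⊓ (Cfsg.GU 11 F q ⊓ Cfsg.Geo.specialLinear (Fin 11) F)) ∨
    (∃ D : Fin 11 → Submodule F (Fin 11 → F), Cfsg.Geo.IsNondegenerateMDecomposition (Cfsg.hermForm 11 F q) 1 D ∧ H = Cfsg.Geo.decompositionStabilizer D ⊓ (Cfsg.GU 11 F q ⊓ Cfsg.Geo.specialLinear (Fin 11) F)) ∨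
    (∃ K : Subalgebra F (Matrix (Fin 11) (Fin 11) F), Cfsg.Geo.IsFieldSubalgebra 11 K ∧ Cfsg.Geo.IsAdjointClosedFor (Cfsg.hermForm 11 F q) K ∧ H = Cfsg.Geo.subalgebraNormalizer K ⊓ (Cfsg.GU 11 F q ⊓ Cfsg.Geo.specialLinear (Fin 11) F)) ∨
    (∃ (F₀ : Subfield F) (r : ℕ) (P : Matrix.GeneralLinearGroup (Fin 11) F), r.Prime ∧ Odd r ∧ Fintype.card F = Nat.card F₀ ^ r ∧ Cfsg.Geo.IsFormRationalStructure (Cfsg.hermForm 11 F q) F₀ 1 P ∧ H = Cfsg.Geo.subfieldSubgroup F₀ P ⊓ (Cfsg.GU 11 F q ⊓ Cfsg.Geo.specialLinear (Fin 11) F)) ∨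
    (Odd q ∧ ∃ (F₀ : Subfield F) (P : Matrix.GeneralLinearGroup (Fin 11) F), Fintype.card F = Nat.card F₀ ^ 2 ∧ Cfsg.Geo.IsFormRationalStructure (Cfsg.hermForm 11 F q) F₀ 1 P ∧ H = Cfsg.Geo.subfieldSubgroup F₀ P ⊓ (Cfsg.GU 11 F q ⊓ Cfsg.Geo.specialLinear (Fin 11) F)) ∨
    (∃ (p : ℕ) (R : Subgroup (Matrix.GeneralLinearGroup (Fin 11) F)), p.Prime ∧ CharP F p ∧ ((q = p ∧ p % 11 = 10) ∨ (q = p ^ 5 ∧ (p % 11 = 2 ∨ p % 11 = 6 ∨ p % 11 = 7 ∨ p % 11 = 8))) ∧ Cfsg.Geo.IsSymplecticTypeGroup 11 R ∧ Cfsg.Geo.ActsAbsolutelyIrreducibly (Cfsg.Geo.matrixSet R) ∧ R ≤ Cfsg.GU 11 F q ∧ Nat.card R = 1331 ∧ Nat.card (Subgroup.center R) = 11 ∧ H = Cfsg.Geo.subgroupNormalizer R ⊓ (Cfsg.GU 11 F q ⊓ Cfsg.Geo.specialLinear (Fin 11) F)) ∨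
    Cfsg.Geo.InUnitaryResidualClass H := by
  rcases asch_prime_unitary (by norm_num) (by norm_num) q hF hU7 H hH with
    h | h | h | h | h | h | h | h
  · exact Or.inl h
  · exact Or.inr (Or.inl h)
  · exact Or.inr (Or.inr (Or.inl h))
  · exact Or.inr (Or.inr (Or.inr (Or.inl h)))
  · exact Or.inr (Or.inr (Or.inr (Or.inr (Or.inl h))))
  · exact Or.inr (Or.inr (Or.inr (Or.inr (Or.inr (Or.inl h)))))
  · obtain ⟨p, e, R, hnp, hmf, hst, habs, hRG, hcard, hcen, hHR⟩ := h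
    obtain ⟨hp, hchar, harith⟩ := Cfsg.Agent.Helper3.AschU.arithU11 hmf hnp hF
    exact Or.inr (Or.inr (Or.inr (Or.inr (Or.inr (Or.inr (Or.inl
      ⟨p, R, hp, hchar, harith, hst, habs, hRG.trans inf_le_left,
        by rw [hcard]; norm_num, hcen, hHR⟩))))))
  · exact Or.inr (Or.inr (Or.inr (Or.inr (Or.inr (Or.inr (Or.inr h))))))

end Cfsg.Agent.Helper3.AschU
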