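import Mathlib
import Cfsg.Agent.Helper1.Basic
import Cfsg.Agent.Helper1.Coprime

set_option autoImplicit false

/-!
`N ⊴ G` of prime index `p` with `p ∤ |N|`, `x` of order `p`.  For every prime `q` there is an
`x`-invariant Sylow `q`-subgroup of `N`.  If `x` centralizes every invariant `S' ≤ N` with
`⟨x⟩ S' ≠ G` and `x` does not centralize `N`, then `N` is a `q`-group for some prime `q`.
-/

namespace Cfsg.Agent.Helper3.InvariantSylow

universe u
open scoped Pointwise

variable {G : Type u} [Group G] [Finite G]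

/-- an `x`-invariant Sylow `q`-subgroup of `N`. -/
theorem exists_invariant_sylow {p : ℕ} [hp : Fact p.Prime] (N : Subgroup G) [hNn : N.Normal]
    (hidx : N.index = p) (hpN : ¬ p ∣ Nat.card N) (x : G) (hx : orderOf x = p)
    (q : ℕ) [hq : Fact q.Prime] :
    ∃ S' : Subgroup G, S' ≤ N ∧ Nat.card S' = q ^ (Nat.card N).factorization q ∧
      x ∈ Subgroup.normalizer (S' : Set G) := by
  have hcardG : Nat.card G = Nat.card N * p := by rw [← N.card_mul_index, hidx]
  have hfactG : (Nat.card G).factorization p = 1 := by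
    rw [hcardG, Nat.factorization_mul Nat.card_pos.ne' hp.out.ne_zero, Finsupp.add_apply,
      hp.out.factorization_self, Nat.factorization_eq_zero_of_not_dvd hpN]
  obtain ⟨S⟩ := (inferInstance : Nonempty (Sylow q ↥N))
  set SG := (S : Subgroup ↥N).map N.subtype with hSG
  have hSGN : SG ≤ N := Subgroup.map_subtype_le _
  have hSGcard : Nat.card SG = q ^ (Nat.card N).factorization q := by
    rw [hSG, Subgroup.card_map_of_injective N.subtype_injective, S.card_eq_multiplicity]
  set L := Subgroup.normalizer (SG : Set G) with hL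
  have hLN : L ⊔ N = ⊤ := Sylow.normalizer_sup_eq_top S
  have hpL : p ∣ Nat.card L := by
    have h1 := Subgroup.relIndex_sup_left L N
    rw [sup_comm, hLN, Subgroup.relIndex_top_right, hidx] at h1
    rw [h1]
    exact Subgroup.relIndex_dvd_card N L
  obtain ⟨y, hy⟩ := exists_prime_orderOf_dvd_card' (G := L) p hpL
  have hy' : orderOf (y : G) = p := by rw [Subgroup.orderOf_coe]; exact hy
  have hcx : Nat.card (Subgroup.zpowers x) = p ^ (Nat.card G).factorization p := by
    rw [hfactG, pow_one, Nat.card_zpowers, hx]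
  have hcy : Nat.card (Subgroup.zpowers (y : G)) = p ^ (Nat.card G).factorization p := by
    rw [hfactG, pow_one, Nat.card_zpowers, hy']
  obtain ⟨g, hg⟩ := MulAction.exists_smul_eq G (Sylow.ofCard _ hcx) (Sylow.ofCard _ hcy)
  have hg' : MulAut.conj g • Subgroup.zpowers x = Subgroup.zpowers (y : G) := by
    have := congrArg (fun P : Sylow p G => (P : Subgroup G)) hg
    simpa [Sylow.coe_subgroup_smul, Sylow.coe_ofCard] using this
  refine ⟨MulAut.conj g⁻¹ • SG, ?_, ?_, ?_⟩
  · intro s hs
    rw [Cfsg.Agent.Helper1.mem_conj_smul, inv_inv] at hs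
    have := hNn.conj_mem _ (hSGN hs) g⁻¹
    simpa [mul_assoc] using this
  · rw [Cfsg.Agent.Helper1.card_conj_smul, hSGcard]
  · have hgx : g * x * g⁻¹ ∈ L := by
      have : g * x * g⁻¹ ∈ MulAut.conj g • Subgroup.zpowers x :=
        Cfsg.Agent.Helper1.conj_mem_conj_smul (Subgroup.mem_zpowers x)
      rw [hg'] at this
      exact (Subgroup.zpowers_le.2 y.2) this
    apply Cfsg.Agent.Helper1.mem_normalizer_of_conj_smul_eq
    rw [← mul_smul, ← map_mul]
    have h1 : MulAut.conj (g * x * g⁻¹) • SG = SG :=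
      Cfsg.Agent.Helper1.conj_smul_eq_of_mem_normalizer hgx
    have h2 : x * g⁻¹ = g⁻¹ * (g * x * g⁻¹) := by group
    rw [h2, map_mul, mul_smul, h1]

/-- `N` is a `q`-group for some prime `q`. -/
theorem exists_prime_isPGroup {p : ℕ} [hp : Fact p.Prime] (N : Subgroup G) [hNn : N.Normal]
    (hidx : N.index = p) (hpN : ¬ p ∣ Nat.card N) (x : G) (hx : orderOf x = p)
    (hcent : ∀ S' : Subgroup G, S' ≤ N → x ∈ Subgroup.normalizer (S' : Set G) →
      Subgroup.zpowers x ⊔ S' ≠ ⊤ → S' ≤ Subgroup.centralizer {x})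
    (hC : N ⊓ Subgroup.centralizer {x} ≠ N) : ∃ q : ℕ, q.Prime ∧ IsPGroup q N := by
  have hcardG : Nat.card G = p * Nat.card N := by rw [← N.card_mul_index, hidx, mul_comm]
  have hxN : Subgroup.zpowers x ⊓ N = ⊥ := by
    rw [eq_bot_iff]
    intro g hg
    rw [Subgroup.mem_bot]
    have h1 : orderOf g ∣ p := by
      have := Subgroup.card_dvd_of_le (Subgroup.zpowers_le.2 hg.1 : Subgroup.zpowers g ≤ Subgroup.zpowers x)
      rwa [Nat.card_zpowers, Nat.card_zpowers, hx] at this
    have h2 : orderOf g ∣ Nat.card N := by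
      have := Subgroup.card_dvd_of_le (Subgroup.zpowers_le.2 hg.2 : Subgroup.zpowers g ≤ N)
      rwa [Nat.card_zpowers] at this
    rcases (Nat.dvd_prime hp.out).1 h1 with h3 | h3
    · exact orderOf_eq_one_iff.1 h3
    · exact absurd (h3 ▸ h2) hpN
  by_contra hcon
  push Not at hcon
  apply hC
  set C := N ⊓ Subgroup.centralizer {x} with hCdef
  have hdvd : Nat.card N ∣ Nat.card C := by
    rw [← Nat.factorization_prime_le_iff_dvd Nat.card_pos.ne' Nat.card_pos.ne']
    intro q hq
    have : Fact q.Prime := ⟨hq⟩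
    rw [← Nat.Prime.pow_dvd_iff_le_factorization hq Nat.card_pos.ne']
    obtain ⟨S', hS'N, hS'card, hxS'⟩ := exists_invariant_sylow N hidx hpN x hx q
    by_cases hQ : Subgroup.zpowers x ⊔ S' = ⊤
    · exfalso
      have hdis : Subgroup.zpowers x ⊓ S' = ⊥ := by
        rw [eq_bot_iff, ← hxN]
        exact inf_le_inf_left _ hS'N
      have h1 := Cfsg.Agent.Helper1.card_sup_of_le_normalizer (N := S') (A := Subgroup.zpowers x)
        (Subgroup.zpowers_le.2 hxS') hdis
      rw [sup_comm, hQ, Subgroup.card_top, Nat.card_zpowers, hx, hcardG] at h1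
      have h2 : Nat.card N = Nat.card S' := Nat.eq_of_mul_eq_mul_left hp.out.pos h1
      have h3 : S' = N := by
        apply Subgroup.eq_of_le_of_card_ge hS'N
        rw [h2]
      apply hcon q hq
      rw [← h3]
      exact IsPGroup.of_card hS'card
    · have h1 := hcent S' hS'N hxS' hQ
      have h2 : S' ≤ C := le_inf hS'N h1
      rw [← hS'card]
      exact Subgroup.card_dvd_of_le h2
  apply Subgroup.eq_of_le_of_card_ge inf_le_left
  exact Nat.le_of_dvd Nat.card_pos hdvd

end Cfsg.Agent.Helper3.InvariantSylow
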