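import Mathlib

set_option autoImplicit false

/-!
Abstract actions `φ : G →* MulAut M` of a group on a group: fixed points, restriction to an
invariant subgroup, the induced action on a quotient, and lifting of fixed points (coprime, abelian
kernel).
-/

namespace Cfsg.Agent.Helper3.FrobActA

open scoped BigOperators

universe u v

variable {G : Type u} [Group G] {M : Type v} [Group M]

/-- The subgroup of points of `M` fixed by all elements of `S`. -/
def fix (φ : G →* MulAut M) (S : Subgroup G) : Subgroup M where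
  carrier := {m | ∀ g ∈ S, φ g m = m}
  one_mem' := fun g _ => map_one _
  mul_mem' := fun {a b} ha hb g hg => by rw [map_mul, ha g hg, hb g hg]
  inv_mem' := fun {a} ha g hg => by rw [map_inv, ha g hg]

theorem mem_fix {φ : G →* MulAut M} {S : Subgroup G} {m : M} :
    m ∈ fix φ S ↔ ∀ g ∈ S, φ g m = m := Iff.rfl

/-- `N` is invariant under the action. -/
def Inv (φ : G →* MulAut M) (N : Subgroup M) : Prop := ∀ g : G, ∀ n ∈ N, φ g n ∈ N

theorem inv_symm_mem {φ : G →* MulAut M} {N : Subgroup M} (hN : Inv φ N) (g : G) {n : M}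
    (hn : n ∈ N) : (φ g).symm n ∈ N := by
  have h := hN g⁻¹ n hn
  rwa [map_inv] at h

/-- The restricted action on an invariant subgroup. -/
def resAct (φ : G →* MulAut M) (N : Subgroup M) (hN : Inv φ N) : G →* MulAut N where
  toFun g :=
    { toFun := fun n => ⟨φ g (n : M), hN g n n.2⟩
      invFun := fun n => ⟨(φ g).symm (n : M), inv_symm_mem hN g n.2⟩
      left_inv := fun n => Subtype.ext ((φ g).symm_apply_apply (n : M))
      right_inv := fun n => Subtype.ext ((φ g).apply_symm_apply (n : M))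
      map_mul' := fun a b => Subtype.ext (map_mul (φ g) (a : M) (b : M)) }
  map_one' := by
    apply MulEquiv.ext
    intro n
    apply Subtype.ext
    change φ 1 (n : M) = n
    rw [map_one]; rfl
  map_mul' := by
    intro g h
    apply MulEquiv.ext
    intro n
    apply Subtype.ext
    change φ (g * h) (n : M) = φ g (φ h (n : M))
    rw [map_mul]; rfl

@[simp] theorem resAct_apply (φ : G →* MulAut M) (N : Subgroup M) (hN : Inv φ N) (g : G) (n : N) :
    ((resAct φ N hN g n : N) : M) = φ g (n : M) := rfl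

theorem map_eq_of_inv {φ : G →* MulAut M} {N : Subgroup M} (hN : Inv φ N) (g : G) :
    N.map ((φ g : M ≃* M) : M →* M) = N := by
  apply le_antisymm
  · rintro _ ⟨n, hn, rfl⟩
    exact hN g n hn
  · intro n hn
    exact ⟨(φ g).symm n, inv_symm_mem hN g hn, (φ g).apply_symm_apply n⟩

/-- The induced action on the quotient by an invariant normal subgroup. -/
noncomputable def quotAct (φ : G →* MulAut M) (N : Subgroup M) [N.Normal] (hN : Inv φ N) :
    G →* MulAut (M ⧸ N) where
  toFun g := QuotientGroup.congr N N (φ g) (map_eq_of_inv hN g)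
  map_one' := by
    apply MulEquiv.ext
    intro q
    induction q using QuotientGroup.induction_on with
    | H m =>
      change ((φ 1 m : M) : M ⧸ N) = _
      rw [map_one]; rfl
  map_mul' := by
    intro g h
    apply MulEquiv.ext
    intro q
    induction q using QuotientGroup.induction_on with
    | H m =>
      change ((φ (g * h) m : M) : M ⧸ N) = ((φ g (φ h m) : M) : M ⧸ N)
      rw [map_mul]; rfl

@[simp] theorem quotAct_mk (φ : G →* MulAut M) (N : Subgroup M) [N.Normal] (hN : Inv φ N) (g : G)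
    (m : M) : quotAct φ N hN g (m : M ⧸ N) = ((φ g m : M) : M ⧸ N) :=
  rfl


theorem fix_res_eq_bot {φ : G →* MulAut M} {S : Subgroup G} (N : Subgroup M) (hN : Inv φ N)
    (h : fix φ S = ⊥) : fix (resAct φ N hN) S = ⊥ := by
  rw [eq_bot_iff]
  intro n hn
  rw [Subgroup.mem_bot]
  apply Subtype.ext
  have : (n : M) ∈ fix φ S := by
    intro g hg
    have := congrArg Subtype.val (hn g hg)
    simpa using this
  rw [h, Subgroup.mem_bot] at this
  exact this

theorem map_fix_res (φ : G →* MulAut M) (S : Subgroup G) (N : Subgroup M) (hN : Inv φ N) :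
    (fix (resAct φ N hN) S).map N.subtype = fix φ S ⊓ N := by
  ext m
  constructor
  · rintro ⟨n, hn, rfl⟩
    refine ⟨fun g hg => ?_, n.2⟩
    have := congrArg Subtype.val (hn g hg)
    simpa using this
  · rintro ⟨h1, h2⟩
    refine ⟨⟨m, h2⟩, fun g hg => Subtype.ext ?_, rfl⟩
    exact h1 g hg

section lift

/-- Lifting of fixed points through an abelian invariant subgroup of coprime order. -/
theorem exists_fixed_mul (φ : G →* MulAut M) (S : Subgroup G) [Finite S] (N : Subgroup M) [Finite N]
    (hNab : ∀ a ∈ N, ∀ b ∈ N, a * b = b * a) (hN : Inv φ N)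
    (hcop : (Nat.card N).Coprime (Nat.card S)) (m : M) (hm : ∀ g ∈ S, m⁻¹ * φ g m ∈ N) :
    ∃ c ∈ N, ∀ g ∈ S, φ g (m * c) = m * c := by
  classical
  cases nonempty_fintype S
  let _ : CommGroup N :=
    { (inferInstance : Group N) with
      mul_comm := fun a b => Subtype.ext (hNab a a.2 b b.2) }
  set ψ := resAct φ N hN with hψ
  let n : S → N := fun g => ⟨m⁻¹ * φ g m, hm g g.2⟩
  have hφm : ∀ g : S, φ g m = m * (n g : M) := by
    intro g
    change φ g m = m * (m⁻¹ * φ g m)
    rw [mul_inv_cancel_left]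
  have hcoc : ∀ g h : S, n (g * h) = n g * ψ g (n h) := by
    intro g h
    apply Subtype.ext
    change m⁻¹ * φ ((g * h : S) : G) m = (m⁻¹ * φ g m) * φ g (m⁻¹ * φ h m)
    rw [Subgroup.coe_mul, map_mul, MulAut.mul_apply, map_mul (φ (g : G)), map_inv]
    group
  set c₀ : N := ∏ h : S, n h with hc₀
  have hc₀g : ∀ g : S, ψ g c₀ = (n g)⁻¹ ^ Nat.card S * c₀ := by
    intro g
    rw [hc₀, map_prod]
    have h1 : ∀ h : S, ψ g (n h) = (n g)⁻¹ * n (g * h) := by
      intro h
      rw [hcoc, inv_mul_cancel_left]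
    rw [Finset.prod_congr rfl (fun h _ => h1 h), Finset.prod_mul_distrib, Finset.prod_const,
      Finset.card_univ, Nat.card_eq_fintype_card]
    congr 1
    exact Fintype.prod_equiv (Equiv.mulLeft g) _ _ (fun h => rfl)
  set e := powCoprime hcop with he
  obtain ⟨c, hc⟩ := e.surjective c₀
  have hcs : c ^ Nat.card S = c₀ := hc
  have hgc : ∀ g : S, ψ g c = (n g)⁻¹ * c := by
    intro g
    apply e.injective
    change (ψ g c) ^ Nat.card S = ((n g)⁻¹ * c) ^ Nat.card S
    rw [← map_pow, hcs, hc₀g, mul_pow, hcs]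
  refine ⟨c, c.2, fun g hg => ?_⟩
  have h2 := congrArg Subtype.val (hgc ⟨g, hg⟩)
  rw [resAct_apply] at h2
  change φ g (c : M) = ((n ⟨g, hg⟩)⁻¹ * c : N) at h2
  rw [map_mul, h2, hφm ⟨g, hg⟩]
  change m * (n ⟨g, hg⟩ : M) * (((n ⟨g, hg⟩)⁻¹ * c : N) : M) = m * c
  rw [Subgroup.coe_mul, Subgroup.coe_inv]
  group

variable (φ : G →* MulAut M) (S : Subgroup G) (N : Subgroup M) [N.Normal] (hN : Inv φ N)

/-- The natural map from the fixed points of `M` to those of `M ⧸ N`. -/
noncomputable def fixQuotHom : fix φ S →* fix (quotAct φ N hN) S :=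
  ((QuotientGroup.mk' N).comp (fix φ S).subtype).codRestrict _ (by
    rintro ⟨m, hm⟩ g hg
    change quotAct φ N hN g ((m : M) : M ⧸ N) = ((m : M) : M ⧸ N)
    rw [quotAct_mk, hm g hg])

theorem fixQuotHom_apply (m : fix φ S) : ((fixQuotHom φ S N hN m : fix (quotAct φ N hN) S) : M ⧸ N)
    = ((m : M) : M ⧸ N) := rfl

theorem fixQuotHom_surjective [Finite S] [Finite N] (hNab : ∀ a ∈ N, ∀ b ∈ N, a * b = b * a)
    (hcop : (Nat.card N).Coprime (Nat.card S)) : Function.Surjective (fixQuotHom φ S N hN) := by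
  rintro ⟨q, hq⟩
  induction q using QuotientGroup.induction_on with
  | H m =>
    have hm : ∀ g ∈ S, m⁻¹ * φ g m ∈ N := by
      intro g hg
      have := hq g hg
      rw [quotAct_mk, eq_comm, QuotientGroup.eq] at this
      exact this
    obtain ⟨c, hc, hfix⟩ := exists_fixed_mul φ S N hNab hN hcop m hm
    refine ⟨⟨m * c, hfix⟩, Subtype.ext ?_⟩
    rw [fixQuotHom_apply]
    change ((m * c : M) : M ⧸ N) = (m : M ⧸ N)
    rw [eq_comm, QuotientGroup.eq, inv_mul_cancel_left]
    exact hc

theorem map_ker_fixQuotHom :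
    (fixQuotHom φ S N hN).ker.map (fix φ S).subtype = fix φ S ⊓ N := by
  ext m
  constructor
  · rintro ⟨x, hx, rfl⟩
    refine ⟨x.2, ?_⟩
    have hx' : fixQuotHom φ S N hN x = 1 := hx
    have := congrArg Subtype.val hx'
    rw [fixQuotHom_apply] at this
    exact (QuotientGroup.eq_one_iff _).mp this
  · rintro ⟨h1, h2⟩
    refine ⟨⟨m, h1⟩, ?_, rfl⟩
    change fixQuotHom φ S N hN ⟨m, h1⟩ = 1
    apply Subtype.ext
    rw [fixQuotHom_apply]
    exact (QuotientGroup.eq_one_iff _).mpr h2

theorem card_fix_eq [Finite M] [Finite S] (hNab : ∀ a ∈ N, ∀ b ∈ N, a * b = b * a)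
    (hcop : (Nat.card N).Coprime (Nat.card S)) :
    Nat.card (fix φ S) = Nat.card (fix (resAct φ N hN) S) * Nat.card (fix (quotAct φ N hN) S) := by
  set f := fixQuotHom φ S N hN with hf
  have h1 : Nat.card f.ker * f.ker.index = Nat.card (fix φ S) := Subgroup.card_mul_index f.ker
  have h2 : f.ker.index = Nat.card (fix (quotAct φ N hN) S) := by
    rw [Subgroup.index_ker]
    have : f.range = ⊤ := MonoidHom.range_eq_top.mpr (fixQuotHom_surjective φ S N hN hNab hcop)
    rw [this]
    exact Subgroup.card_top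
  have h3 : Nat.card f.ker = Nat.card (fix (resAct φ N hN) S) := by
    have e1 := Subgroup.card_map_of_injective (K := f.ker) (fix φ S).subtype_injective
    have e2 := Subgroup.card_map_of_injective (K := fix (resAct φ N hN) S) N.subtype_injective
    rw [← e1, ← e2, map_ker_fixQuotHom, map_fix_res]
  rw [← h1, h2, h3]

theorem fix_quot_eq_bot [Finite S] [Finite N] (hNab : ∀ a ∈ N, ∀ b ∈ N, a * b = b * a)
    (hcop : (Nat.card N).Coprime (Nat.card S)) (h : fix φ S = ⊥) :
    fix (quotAct φ N hN) S = ⊥ := by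
  rw [eq_bot_iff]
  intro q hq
  obtain ⟨m, hm⟩ := fixQuotHom_surjective φ S N hN hNab hcop ⟨q, hq⟩
  have h1 : (m : M) = 1 := by
    have h0 : (m : M) ∈ fix φ S := m.2
    have h0' : (m : M) ∈ (⊥ : Subgroup M) := h ▸ h0
    exact Subgroup.mem_bot.mp h0'
  have h2 := congrArg Subtype.val hm
  rw [fixQuotHom_apply, h1] at h2
  rw [Subgroup.mem_bot]
  exact h2.symm

/-- An operator of order prime to `|N|` acting trivially on `N` and on `M ⧸ N` is trivial. -/
theorem eq_one_of_res_quot [Finite G] [Finite N] (hcop : (Nat.card G).Coprime (Nat.card N)) (a : G)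
    (h1 : resAct φ N hN a = 1) (h2 : quotAct φ N hN a = 1) : φ a = 1 := by
  apply MulEquiv.ext
  intro m
  change φ a m = m
  have hn : m⁻¹ * φ a m ∈ N := by
    have := congrArg (fun e : MulAut (M ⧸ N) => e (m : M ⧸ N)) h2
    change quotAct φ N hN a (m : M ⧸ N) = (m : M ⧸ N) at this
    rw [quotAct_mk, eq_comm, QuotientGroup.eq] at this
    exact this
  set n : M := m⁻¹ * φ a m with hndef
  have hφm : φ a m = m * n := by rw [hndef, mul_inv_cancel_left]
  have hφn : φ a n = n := by
    have := congrArg (fun e : MulAut N => ((e ⟨n, hn⟩ : N) : M)) h1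
    exact this
  have hpow : ∀ j : ℕ, φ (a ^ j) m = m * n ^ j := by
    intro j
    induction j with
    | zero => rw [pow_zero, pow_zero, mul_one, map_one]; rfl
    | succ j ih =>
      rw [pow_succ', map_mul, MulAut.mul_apply, ih, map_mul, map_pow, hφm, hφn, mul_assoc,
        ← pow_succ']
  have h3 : n ^ Nat.card G = 1 := by
    have := hpow (Nat.card G)
    rw [pow_card_eq_one', map_one] at this
    change m = m * n ^ Nat.card G at this
    exact (mul_eq_left.mp this.symm)
  have h4 : n ^ Nat.card N = 1 := by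
    have : (⟨n, hn⟩ : N) ^ Nat.card N = 1 := pow_card_eq_one'
    exact congrArg Subtype.val this
  have h5 : orderOf n ∣ 1 := by
    rw [← Nat.Coprime.gcd_eq_one hcop]
    exact Nat.dvd_gcd (orderOf_dvd_of_pow_eq_one h3) (orderOf_dvd_of_pow_eq_one h4)
  have h6 : n = 1 := orderOf_eq_one_iff.mp (Nat.dvd_one.mp h5)
  rw [hφm, h6, mul_one]

end lift

end Cfsg.Agent.Helper3.FrobActA
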