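import Mathlib

set_option autoImplicit false

namespace Cfsg.Agent.Helper3.SemiFreeA

open scoped BigOperators

section galois

variable (K F : Type*) [Field K] [Field F] [Algebra K F] [FiniteDimensional K F] [IsGalois K F]

open Classical in
/-- Normal basis element `u` and its trace-dual `v`. -/
theorem exists_dual_pair_gal :
    ∃ u v : F, (∀ σ τ : Gal(F/K), ∑ ρ : Gal(F/K), ρ (σ u * τ v) = if σ = τ then 1 else 0) ∧
      (∀ ρ : Gal(F/K), ∑ σ : Gal(F/K), σ u * ρ (σ v) = if ρ = 1 then 1 else 0) := by
  set b := IsGalois.normalBasis K F with hb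
  set B := Algebra.traceForm K F with hB
  have hBn : B.Nondegenerate := traceForm_nondegenerate K F
  set d := B.dualBasis hBn b with hd
  set u : F := b 1 with hu
  set v : F := d 1 with hv
  have hbu : ∀ σ : Gal(F/K), b σ = σ u := fun σ => IsGalois.normalBasis_apply σ
  have key : ∀ σ τ : Gal(F/K), ∑ ρ : Gal(F/K), ρ (σ u * τ v) = if σ = τ then 1 else 0 := by
    intro σ τ
    rw [← trace_eq_sum_automorphisms]
    have h1 : σ u * τ v = τ ((τ⁻¹ * σ) u * v) := by
      rw [map_mul, AlgEquiv.mul_apply, ← AlgEquiv.mul_apply τ, mul_inv_cancel, AlgEquiv.one_apply]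
    rw [h1, Algebra.trace_eq_of_algEquiv, ← hbu, ← Algebra.traceForm_apply, hv, hd,
      LinearMap.BilinForm.apply_dualBasis_right hBn (Algebra.traceForm_isSymm K)]
    by_cases hst : σ = τ
    · subst hst; simp
    · have : τ⁻¹ * σ ≠ 1 := by
        intro h
        apply hst
        have := congrArg (fun x => τ * x) h
        simpa using this
      simp [hst, this]
  refine ⟨u, v, key, ?_⟩
  set U : Matrix Gal(F/K) Gal(F/K) F := fun σ ρ => ρ (σ u) with hU
  set V : Matrix Gal(F/K) Gal(F/K) F := fun ρ τ => ρ (τ v) with hV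
  have hUV : U * V = 1 := by
    ext σ τ
    rw [Matrix.mul_apply, Matrix.one_apply]
    simp only [hU, hV]
    rw [← key σ τ]
    refine Finset.sum_congr rfl fun ρ _ => ?_
    rw [map_mul]
  have hVU : V * U = 1 := mul_eq_one_comm.mp hUV
  intro ρ
  have := congrFun (congrFun hVU ρ) 1
  rw [Matrix.mul_apply, Matrix.one_apply] at this
  simp only [hU, hV, AlgEquiv.one_apply] at this
  rw [← this]
  refine Finset.sum_congr rfl fun σ _ => ?_
  rw [mul_comm]

end galois

section action

variable (G F : Type*) [Group G] [Fintype G] [Field F] [MulSemiringAction G F] [FaithfulSMul G F]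

open Classical in
theorem exists_dual_pair :
    ∃ u v : F, (∀ h h' : G, ∑ ρ : G, ρ • (h • u * h' • v) = if h = h' then 1 else 0) ∧
      (∀ ρ : G, ∑ h : G, h • u * ρ • (h • v) = if ρ = 1 then 1 else 0) := by
  set e := FixedPoints.toAlgAutMulEquiv G F with he
  have hex : ∀ (g : G) (x : F), e g x = g • x := fun g x => rfl
  obtain ⟨u, v, h1, h2⟩ := exists_dual_pair_gal (FixedPoints.subfield G F) F
  refine ⟨u, v, ?_, ?_⟩
  · intro h h'
    have := h1 (e h) (e h')
    rw [← Fintype.sum_equiv e.toEquiv (fun ρ : G => ρ • (h • u * h' • v))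
      (fun σ => σ (e h u * e h' v)) (fun ρ => by simp [hex])] at this
    rw [this]
    simp [e.injective.eq_iff]
  · intro ρ
    have := h2 (e ρ)
    rw [← Fintype.sum_equiv e.toEquiv (fun h : G => h • u * ρ • (h • v))
      (fun σ => σ u * e ρ (σ v)) (fun ρ => by simp [hex])] at this
    rw [this]
    have : e ρ = 1 ↔ ρ = 1 := by
      rw [← e.map_one, e.injective.eq_iff]
    simp [this]

end action

section semilinear

variable {k L M H : Type*} [Field k] [Field L] [Algebra k L] [AddCommGroup M] [Module k M]
  [Module L M] [IsScalarTower k L M] [Group H] [Fintype H] [DecidableEq H]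

theorem exists_idempotents [MulSemiringAction H L] [FaithfulSMul H L]
    (T : H →* Module.End k M)
    (hT : ∀ (h : H) (c : L) (m : M), T h (c • m) = (h • c) • T h m) :
    ∃ E : H → Module.End k M, (∀ h h', E h * E h' = if h = h' then E h else 0) ∧
      (∑ h, E h = 1) ∧ ∀ g h, T g * E h = E (g * h) * T g := by
  classical
  obtain ⟨u, v, h1, h2⟩ := exists_dual_pair H L
  set μ : L →ₐ[k] Module.End k M := Algebra.lsmul k k M with hμ
  have hμa : ∀ (c : L) (m : M), μ c m = c • m := fun c m => rfl
  have hTμ : ∀ (h : H) (c : L), T h * μ c = μ (h • c) * T h := by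
    intro h c
    ext m
    simp only [Module.End.mul_apply, hμa, hT]
  set S : Module.End k M := ∑ h, T h with hS
  have hS1 : ∀ g, T g * S = S := by
    intro g
    rw [hS, Finset.mul_sum]
    rw [← Fintype.sum_equiv (Equiv.mulLeft g) (fun h => T g * T h) (fun h => T h)]
    intro h
    simp [map_mul]
  have hS2 : ∀ g, S * T g = S := by
    intro g
    rw [hS, Finset.sum_mul]
    rw [← Fintype.sum_equiv (Equiv.mulRight g) (fun h => T h * T g) (fun h => T h)]
    intro h
    simp [map_mul]
  have hSc : ∀ c : L, S * μ c * S = μ (∑ ρ : H, ρ • c) * S := by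
    intro c
    have : S * μ c = ∑ ρ : H, μ (ρ • c) * T ρ := by
      rw [hS, Finset.sum_mul]
      exact Finset.sum_congr rfl fun ρ _ => hTμ ρ c
    rw [this, Finset.sum_mul, map_sum, Finset.sum_mul]
    refine Finset.sum_congr rfl fun ρ _ => ?_
    rw [mul_assoc, hS1]
  refine ⟨fun h => μ (h • u) * S * μ (h • v), ?_, ?_, ?_⟩
  · intro h h'
    have e1 : μ (h • u) * S * μ (h • v) * (μ (h' • u) * S * μ (h' • v))
        = μ (h • u) * (S * μ (h • v * h' • u) * S) * μ (h' • v) := by
      rw [map_mul]
      simp only [mul_assoc]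
    rw [e1, hSc]
    have e2 : ∑ ρ : H, ρ • (h • v * h' • u) = if h = h' then 1 else 0 := by
      have h3 : ∑ ρ : H, ρ • (h • v * h' • u) = ∑ ρ : H, ρ • (h' • u * h • v) :=
        Finset.sum_congr rfl fun ρ _ => by rw [mul_comm]
      rw [h3, h1 h' h]
      by_cases hh : h = h'
      · subst hh; simp
      · have : ¬ h' = h := fun e => hh e.symm
        simp [hh, this]
    rw [e2]
    by_cases hh : h = h'
    · subst hh
      simp [mul_assoc]
    · simp [hh]
  · have e1 : ∀ h : H, μ (h • u) * S * μ (h • v) = ∑ ρ : H, μ (h • u * ρ • (h • v)) * T ρ := by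
      intro h
      rw [hS, Finset.mul_sum, Finset.sum_mul]
      refine Finset.sum_congr rfl fun ρ _ => ?_
      rw [mul_assoc, hTμ, ← mul_assoc, ← map_mul]
    simp only [e1]
    rw [Finset.sum_comm]
    have e2 : ∀ ρ : H, ∑ h : H, μ (h • u * ρ • (h • v)) * T ρ = if ρ = 1 then 1 else 0 := by
      intro ρ
      rw [← Finset.sum_mul, ← map_sum, h2 ρ]
      by_cases hρ : ρ = 1
      · subst hρ; simp
      · simp [hρ]
    simp only [e2]
    simp
  · intro g h
    have e1 : T g * (μ (h • u) * S * μ (h • v)) = μ ((g * h) • u) * S * μ (h • v) := by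
      rw [← mul_assoc, ← mul_assoc, hTμ, mul_smul, mul_assoc (μ _) (T g) S, hS1]
    have e2 : μ ((g * h) • u) * S * μ ((g * h) • v) * T g = μ ((g * h) • u) * S * μ (h • v) := by
      rw [mul_assoc _ _ (T g), mul_smul g h v, ← hTμ, ← mul_assoc _ (T g), mul_assoc _ S (T g), hS2]
    rw [e1, e2]

end semilinear

section hfree

/-- `V` is free for the family of operators `T h`, `h : H`: there are `n` vectors whose `H`-translates
span `V`, and `|H| * n = dim V`. -/
def HFree {k V H : Type*} [Field k] [AddCommGroup V] [Module k V] (T : H → Module.End k V) : Prop :=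
  ∃ (n : ℕ) (w : Fin n → V),
    Submodule.span k (Set.range fun p : H × Fin n => T p.1 (w p.2)) = ⊤ ∧
      Nat.card H * n = Module.finrank k V

variable {k L M H : Type*} [Field k] [Field L] [Algebra k L] [AddCommGroup M] [Module k M]
  [Module L M] [IsScalarTower k L M] [FiniteDimensional k M] [Group H] [Finite H]

theorem hfree_of_semilinear [MulSemiringAction H L] [FaithfulSMul H L]
    (T : H →* Module.End k M)
    (hT : ∀ (h : H) (c : L) (m : M), T h (c • m) = (h • c) • T h m) :
    HFree (fun h => T h) := by
  classical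
  cases nonempty_fintype H
  obtain ⟨E, hE1, hE2, hE3⟩ := exists_idempotents T hT
  set W : Submodule k M := LinearMap.range (E 1) with hW
  set n := Module.finrank k W with hn
  set b := Module.finBasis k W with hb
  set w : Fin n → M := fun i => (b i : M) with hw
  have hTinv : ∀ h : H, T h⁻¹ * T h = 1 := fun h => by rw [← map_mul, inv_mul_cancel, map_one]
  have hTinv' : ∀ h : H, T h * T h⁻¹ = 1 := fun h => by rw [← map_mul, mul_inv_cancel, map_one]
  have hTE : ∀ h : H, T h * E 1 = E h * T h := fun h => by
    have := hE3 h 1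
    rwa [mul_one] at this
  have hwE : ∀ i, E 1 (w i) = w i := by
    intro i
    obtain ⟨x, hx⟩ : w i ∈ LinearMap.range (E 1) := (b i).2
    rw [← hx, ← Module.End.mul_apply, hE1 1 1, if_pos rfl]
  have hTw : ∀ (h : H) i, E h (T h (w i)) = T h (w i) := by
    intro h i
    rw [← Module.End.mul_apply, ← hTE, Module.End.mul_apply, hwE]
  have hEgh : ∀ (g h : H) i, E g (T h (w i)) = if g = h then T h (w i) else 0 := by
    intro g h i
    rw [← hTw h i, ← Module.End.mul_apply, hE1 g h]
    by_cases hgh : g = h
    · subst hgh; simp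
    · simp [hgh]
  have hspan : Submodule.span k (Set.range fun p : H × Fin n => T p.1 (w p.2)) = ⊤ := by
    rw [eq_top_iff]
    intro m _
    have hm : m = ∑ h : H, E h m := by
      have := congrArg (fun f : Module.End k M => f m) hE2
      simp only [LinearMap.sum_apply, Module.End.one_apply] at this
      exact this.symm
    rw [hm]
    refine Submodule.sum_mem _ fun h _ => ?_
    -- E h m = T h (E 1 (T h⁻¹ m))
    have e1 : E h m = T h (E 1 (T h⁻¹ m)) := by
      rw [← Module.End.mul_apply (T h), hTE, Module.End.mul_apply, ← Module.End.mul_apply (T h),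
        hTinv', Module.End.one_apply]
    rw [e1]
    have hx : E 1 (T h⁻¹ m) ∈ W := LinearMap.mem_range_self _ _
    have hWspan : W = Submodule.span k (Set.range w) := by
      have := b.span_eq
      have h2 := congrArg (Submodule.map W.subtype) this
      rw [Submodule.map_span, Submodule.map_top, Submodule.range_subtype] at h2
      rw [← h2]
      congr 1
      ext x
      constructor
      · rintro ⟨_, ⟨i, rfl⟩, rfl⟩
        exact ⟨i, rfl⟩
      · rintro ⟨i, rfl⟩
        exact ⟨_, ⟨i, rfl⟩, rfl⟩
    rw [hWspan] at hx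
    have : Submodule.map (T h) (Submodule.span k (Set.range w)) ≤
        Submodule.span k (Set.range fun p : H × Fin n => T p.1 (w p.2)) := by
      rw [Submodule.map_span]
      apply Submodule.span_mono
      rintro _ ⟨_, ⟨i, rfl⟩, rfl⟩
      exact ⟨(h, i), rfl⟩
    exact this (Submodule.mem_map_of_mem hx)
  have hli : LinearIndependent k (fun p : H × Fin n => T p.1 (w p.2)) := by
    rw [Fintype.linearIndependent_iff]
    intro c hc
    rw [Fintype.sum_prod_type] at hc
    rintro ⟨g, j⟩
    have h1 := congrArg (E g) hc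
    rw [map_zero, map_sum] at h1
    simp only [map_sum, map_smul, hEgh] at h1
    have h2 : ∑ i, c (g, i) • T g (w i) = 0 := by
      rw [← h1]
      symm
      rw [Finset.sum_eq_single g]
      · simp
      · intro h _ hne
        have : ¬ g = h := fun e => hne e.symm
        simp [this]
      · simp
    have h3 : T g (∑ i, c (g, i) • w i) = 0 := by
      rw [map_sum]
      simpa only [map_smul] using h2
    have h4 : ∑ i, c (g, i) • w i = 0 := by
      have := congrArg (T g⁻¹) h3
      rwa [map_zero, ← Module.End.mul_apply, hTinv, Module.End.one_apply] at this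
    have hbli : LinearIndependent k w := by
      have := b.linearIndependent.map' W.subtype (Submodule.ker_subtype W)
      exact this
    exact (Fintype.linearIndependent_iff.mp hbli (fun i => c (g, i)) h4) j
  refine ⟨n, w, hspan, ?_⟩
  have hb' := Module.finrank_eq_card_basis (Module.Basis.mk hli (le_of_eq hspan.symm))
  rw [hb', Fintype.card_prod, Fintype.card_fin, Nat.card_eq_fintype_card]

end hfree

end Cfsg.Agent.Helper3.SemiFreeA
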