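import Mathlib
import Cfsg.Agent.Helper3.SemiFreeA

set_option autoImplicit false

namespace Cfsg.Agent.Helper3.SemiFreeB

open Cfsg.Agent.Helper3.SemiFreeA
open scoped BigOperators
open Module

variable {k : Type*} [Field k]

/-- Version of `HFree` with a general finite index type. -/
theorem hfree_of_fintype {V H ι : Type*} [AddCommGroup V] [Module k V] [Fintype ι]
    (T : H → Module.End k V) (w : ι → V)
    (hspan : Submodule.span k (Set.range fun p : H × ι => T p.1 (w p.2)) = ⊤)
    (hcard : Nat.card H * Fintype.card ι = finrank k V) : HFree T := by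
  classical
  set e := Fintype.equivFin ι with he
  refine ⟨Fintype.card ι, w ∘ e.symm, ?_, hcard⟩
  rw [← hspan]
  congr 1
  ext x
  constructor
  · rintro ⟨⟨h, j⟩, rfl⟩
    exact ⟨(h, e.symm j), rfl⟩
  · rintro ⟨⟨h, i⟩, rfl⟩
    exact ⟨(h, e i), by simp⟩

theorem hfree_of_subsingleton {V H : Type*} [AddCommGroup V] [Module k V] [Subsingleton V]
    (T : H → Module.End k V) : HFree T := by
  refine ⟨0, Fin.elim0, Subsingleton.elim _ _, ?_⟩
  rw [finrank_zero_of_subsingleton, mul_zero]

/-- Extension lemma: if a sub and the quotient are free, so is the whole. -/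
theorem hfree_of_exact {U V Q H : Type*} [AddCommGroup U] [Module k U] [AddCommGroup V] [Module k V]
    [AddCommGroup Q] [Module k Q] [FiniteDimensional k V]
    (i : U →ₗ[k] V) (π : V →ₗ[k] Q) (hi : Function.Injective i) (hπ : Function.Surjective π)
    (hex : LinearMap.ker π = LinearMap.range i)
    (TU : H → Module.End k U) (T : H → Module.End k V) (TQ : H → Module.End k Q)
    (h1 : ∀ h u, i (TU h u) = T h (i u)) (h2 : ∀ h v, π (T h v) = TQ h (π v))
    (hU : HFree TU) (hQ : HFree TQ) : HFree T := by
  classical
  obtain ⟨n₁, w₁, hs₁, hc₁⟩ := hU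
  obtain ⟨n₂, w₂, hs₂, hc₂⟩ := hQ
  set w₂' : Fin n₂ → V := fun j => Function.surjInv hπ (w₂ j) with hw₂'
  have hw₂ : ∀ j, π (w₂' j) = w₂ j := fun j => Function.surjInv_eq hπ (w₂ j)
  set w : Fin n₁ ⊕ Fin n₂ → V := Sum.elim (fun j => i (w₁ j)) w₂' with hw
  apply hfree_of_fintype T w
  · set S := Submodule.span k (Set.range fun p : H × (Fin n₁ ⊕ Fin n₂) => T p.1 (w p.2)) with hS
    have hmem : ∀ (h : H) (j : Fin n₁ ⊕ Fin n₂), T h (w j) ∈ S := fun h j =>
      Submodule.subset_span ⟨(h, j), rfl⟩
    have hiS : LinearMap.range i ≤ S := by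
      rw [← Submodule.map_top, ← hs₁, Submodule.map_span]
      apply Submodule.span_le.mpr
      rintro _ ⟨_, ⟨⟨h, j⟩, rfl⟩, rfl⟩
      simp only
      rw [h1]
      exact hmem h (Sum.inl j)
    have hπS : Submodule.map π S = ⊤ := by
      rw [eq_top_iff, ← hs₂]
      apply Submodule.span_le.mpr
      rintro _ ⟨⟨h, j⟩, rfl⟩
      simp only
      rw [← hw₂ j, ← h2]
      exact Submodule.mem_map_of_mem (hmem h (Sum.inr j))
    rw [eq_top_iff]
    intro v _
    have : π v ∈ Submodule.map π S := by rw [hπS]; trivial
    obtain ⟨s, hs, hsv⟩ := this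
    have hker : v - s ∈ LinearMap.ker π := by
      rw [LinearMap.mem_ker, map_sub, hsv, sub_self]
    rw [hex] at hker
    have := S.add_mem (hiS hker) hs
    rwa [sub_add_cancel] at this
  · rw [Fintype.card_sum, Fintype.card_fin, Fintype.card_fin, mul_add, hc₁, hc₂]
    have h3 := LinearMap.finrank_range_add_finrank_ker π
    rw [hex, LinearMap.finrank_range_of_inj hi, LinearMap.range_eq_top.mpr hπ, finrank_top] at h3
    omega

/-- A spanning family of subspaces whose dimensions sum to at most `dim V` is an internal direct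
sum decomposition. -/
theorem isInternal_of_iSup_eq_top_of_finrank_le {ι V : Type*} [Fintype ι] [DecidableEq ι]
    [AddCommGroup V] [Module k V] [FiniteDimensional k V] (N : ι → Submodule k V)
    (hsup : ⨆ i, N i = ⊤) (hle : ∑ i, finrank k (N i) ≤ finrank k V) :
    DirectSum.IsInternal N := by
  refine DirectSum.isInternal_submodule_of_iSupIndep_of_iSup_eq_top ?_ hsup
  apply iSupIndep_of_dfinsupp_lsum_injective
  set f : (DirectSum ι fun i => N i) →ₗ[k] V := DirectSum.coeLinearMap N with hf
  have hrange : LinearMap.range f = ⊤ := by rw [hf, DirectSum.range_coeLinearMap, hsup]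
  have h1 := LinearMap.finrank_range_add_finrank_ker f
  rw [hrange, finrank_top, finrank_directSum] at h1
  have h2 : finrank k (LinearMap.ker f) = 0 := by omega
  have h3 : LinearMap.ker f = ⊥ := Submodule.finrank_eq_zero.mp h2
  exact LinearMap.ker_eq_bot.mp h3

theorem finrank_eq_sum_of_isInternal {ι V : Type*} [Fintype ι] [DecidableEq ι]
    [AddCommGroup V] [Module k V] [FiniteDimensional k V] (N : ι → Submodule k V)
    (h : DirectSum.IsInternal N) : finrank k V = ∑ i, finrank k (N i) := by
  set f : (DirectSum ι fun i => N i) →ₗ[k] V := DirectSum.coeLinearMap N with hf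
  have hb : Function.Bijective f := h
  have := (LinearEquiv.ofBijective f hb).finrank_eq
  rw [← this, finrank_directSum]

/-- From `HFree` to an internal direct sum decomposition into translates of a subspace. -/
theorem isInternal_of_hfree {V H : Type*} [AddCommGroup V] [Module k V] [FiniteDimensional k V]
    [Finite H] [DecidableEq H] (T : H → Module.End k V) (hT : HFree T) :
    ∃ W : Submodule k V, DirectSum.IsInternal (fun h : H => W.map (T h)) := by
  classical
  cases nonempty_fintype H
  obtain ⟨n, w, hs, hc⟩ := hT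
  refine ⟨Submodule.span k (Set.range w), ?_⟩
  apply isInternal_of_iSup_eq_top_of_finrank_le
  · rw [eq_top_iff, ← hs]
    apply Submodule.span_le.mpr
    rintro _ ⟨⟨h, j⟩, rfl⟩
    apply Submodule.mem_iSup_of_mem h
    exact Submodule.mem_map_of_mem (Submodule.subset_span ⟨j, rfl⟩)
  · have hle : ∀ h : H, finrank k ((Submodule.span k (Set.range w)).map (T h)) ≤ n := by
      intro h
      refine (Submodule.finrank_map_le _ _).trans ?_
      have := finrank_range_le_card (R := k) w
      rwa [Fintype.card_fin] at this
    calc ∑ h : H, finrank k ((Submodule.span k (Set.range w)).map (T h))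
        ≤ ∑ _h : H, n := Finset.sum_le_sum fun h _ => hle h
      _ = Nat.card H * n := by
          rw [Finset.sum_const, Finset.card_univ, smul_eq_mul, Nat.card_eq_fintype_card]
      _ = finrank k V := hc

/-- Orbit lemma: if `V` is the direct sum of subspaces permuted transitively by `H` and one of them
is free for its stabilizer, then `V` is free for `H`. -/
theorem hfree_of_orbit {V H ι : Type*} [AddCommGroup V] [Module k V] [FiniteDimensional k V]
    [Group H] [Finite H] [MulAction H ι]
    (T : H →* Module.End k V) (N : ι → Submodule k V)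
    (hN : ∀ (h : H) (x : ι), N (h • x) = (N x).map (T h)) (x₀ : ι)
    (hind : iSupIndep (fun x : MulAction.orbit H x₀ => N x))
    (hsup : ⨆ x : MulAction.orbit H x₀, N x = ⊤)
    (n : ℕ) (w : Fin n → V)
    (hw : Submodule.span k
      (Set.range fun p : MulAction.stabilizer H x₀ × Fin n => T (p.1 : H) (w p.2)) = N x₀)
    (hcard : Nat.card (MulAction.stabilizer H x₀) * n = finrank k (N x₀)) :
    HFree (fun h => T h) := by
  classical
  cases nonempty_fintype H
  have hfin : Finite (MulAction.orbit H x₀) := (Set.finite_range fun m : H => m • x₀).to_subtype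
  have hfint : Fintype (MulAction.orbit H x₀) := Fintype.ofFinite _
  have hTinj : ∀ h : H, Function.Injective (T h) := by
    intro h a b hab
    have := congrArg (T h⁻¹) hab
    rwa [← Module.End.mul_apply, ← Module.End.mul_apply, ← map_mul, inv_mul_cancel, map_one,
      Module.End.one_apply, Module.End.one_apply] at this
  refine ⟨n, w, ?_, ?_⟩
  · set S := Submodule.span k (Set.range fun p : H × Fin n => T p.1 (w p.2)) with hS
    rw [eq_top_iff, ← hsup]
    apply iSup_le
    rintro ⟨x, g, rfl⟩
    show N (g • x₀) ≤ S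
    rw [hN, ← hw, Submodule.map_span]
    apply Submodule.span_le.mpr
    rintro _ ⟨_, ⟨⟨s, j⟩, rfl⟩, rfl⟩
    simp only
    rw [← Module.End.mul_apply, ← map_mul]
    exact Submodule.subset_span ⟨(g * s, j), rfl⟩
  · have hint : DirectSum.IsInternal (fun x : MulAction.orbit H x₀ => N x) :=
      DirectSum.isInternal_submodule_of_iSupIndep_of_iSup_eq_top hind hsup
    rw [finrank_eq_sum_of_isInternal _ hint]
    have heq : ∀ x : MulAction.orbit H x₀, finrank k (N x) = finrank k (N x₀) := by
      rintro ⟨x, g, rfl⟩
      show finrank k (N (g • x₀)) = _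
      rw [hN]
      exact (Submodule.equivMapOfInjective (T g) (hTinj g) (N x₀)).finrank_eq.symm
    rw [Finset.sum_congr rfl fun x _ => heq x, Finset.sum_const, Finset.card_univ, smul_eq_mul,
      ← hcard, ← mul_assoc]
    congr 1
    have := MulAction.card_orbit_mul_card_stabilizer_eq_card_group H x₀
    rw [Nat.card_eq_fintype_card, Nat.card_eq_fintype_card, ← this]

end Cfsg.Agent.Helper3.SemiFreeB
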