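import Mathlib
import Cfsg.Agent.Helper3.SemiFreeB

set_option autoImplicit false

namespace Cfsg.Agent.Helper3.SemiFreeC

open Cfsg.Agent.Helper3.SemiFreeA Cfsg.Agent.Helper3.SemiFreeB
open scoped BigOperators
open Module

universe u v w x

section constructions

variable {k : Type u} [Field k] {R : Type v} [CommRing R] [Algebra k R] {M : Type x}
  [AddCommGroup M] [Module k M] [Module R M] [IsScalarTower k R M]

/-- Restriction of a `k`-linear endomorphism to an invariant `R`-submodule. -/
def subEnd (P : Submodule R M) (f : Module.End k M) (hf : ∀ m ∈ P, f m ∈ P) : Module.End k P where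
  toFun m := ⟨f m, hf m m.2⟩
  map_add' a b := Subtype.ext (by simp)
  map_smul' c a := Subtype.ext (by simp)

@[simp] theorem subEnd_coe (P : Submodule R M) (f : Module.End k M) (hf : ∀ m ∈ P, f m ∈ P)
    (m : P) : ((subEnd P f hf m : P) : M) = f m := rfl

/-- The induced endomorphism on the quotient by an invariant `R`-submodule. -/
def quotEnd (P : Submodule R M) (f : Module.End k M) (hf : ∀ m ∈ P, f m ∈ P) :
    Module.End k (M ⧸ P) where
  toFun := Quotient.map' f (fun a b hab => by
    rw [Submodule.quotientRel_def] at hab ⊢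
    rw [← map_sub]
    exact hf _ hab)
  map_add' := by
    rintro ⟨a⟩ ⟨b⟩
    exact congrArg (Submodule.Quotient.mk (p := P)) (map_add f a b)
  map_smul' := by
    rintro c ⟨a⟩
    exact congrArg (Submodule.Quotient.mk (p := P)) (map_smul f c a)

@[simp] theorem quotEnd_mk (P : Submodule R M) (f : Module.End k M) (hf : ∀ m ∈ P, f m ∈ P)
    (m : M) : quotEnd P f hf (Submodule.Quotient.mk m) = Submodule.Quotient.mk (f m) := rfl

end constructions

section action

variable {k : Type u} [Field k] {R : Type v} [CommRing R] [Algebra k R] {H : Type w} [Group H]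

/-- The action of `H` on ideals of `R`. -/
@[reducible] def idealAction (α : H →* (R ≃ₐ[k] R)) : MulAction H (Ideal R) where
  smul h I := Ideal.comap (α h⁻¹) I
  one_smul I := by
    ext r
    change (α 1⁻¹) r ∈ I ↔ r ∈ I
    simp
  mul_smul g h I := by
    ext r
    change (α (g * h)⁻¹) r ∈ I ↔ (α h⁻¹) ((α g⁻¹) r) ∈ I
    rw [mul_inv_rev, map_mul]
    rfl

end action

section core

variable {k : Type u} [Field k] {R : Type v} [CommRing R] [Algebra k R] {H : Type w} [Group H]
  [Finite H]

theorem acore (α : H →* (R ≃ₐ[k] R)) :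
    ∀ (n : ℕ) (M : Type x) [AddCommGroup M] [Module k M] [Module R M] [IsScalarTower k R M]
      [FiniteDimensional k M] (T : H →* Module.End k M),
      (∀ (h : H) (r : R) (m : M), T h (r • m) = α h r • T h m) →
      (∀ h : H, h ≠ 1 → ∀ 𝔪 : Ideal R, 𝔪.IsMaximal → Module.annihilator R M ≤ 𝔪 →
        ∃ r, α h r - r ∉ 𝔪) →
      finrank k M = n → HFree (fun h => T h) := by
  intro n
  induction n using Nat.strong_induction_on with
  | _ n ih =>
  intro M _ _ _ _ _ T hT hG hn
  rcases subsingleton_or_nontrivial M with hsub | hnt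
  · exact hfree_of_subsingleton _
  classical
  letI : MulAction H (Ideal R) := idealAction α
  have hsmul : ∀ (h : H) (I : Ideal R) (r : R), r ∈ h • I ↔ α h⁻¹ r ∈ I := fun _ _ _ => Iff.rfl
  haveI : IsArtinian R M := isArtinian_of_tower k (inferInstance : IsArtinian k M)
  obtain ⟨S, hS, -⟩ := (eq_bot_or_exists_atom_le (⊤ : Submodule R M)).resolve_left top_ne_bot
  haveI : IsSimpleModule R S := isSimpleModule_iff_isAtom.mpr hS
  set 𝔪 : Ideal R := Module.annihilator R S with h𝔪
  haveI hmax : 𝔪.IsMaximal := IsSimpleModule.annihilator_isMaximal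
  have hann : Module.annihilator R M ≤ 𝔪 := by
    intro r hr
    rw [Module.mem_annihilator] at hr ⊢
    intro s
    exact Subtype.ext (hr s)
  set P : Ideal R → Submodule R M := fun I => Submodule.torsionBySet R M I with hP
  have hmemP : ∀ (I : Ideal R) (m : M), m ∈ P I ↔ ∀ a ∈ I, a • m = 0 := by
    intro I m
    rw [hP]
    simp only [Submodule.mem_torsionBySet_iff]
    constructor
    · intro h a ha
      exact h ⟨a, ha⟩
    · rintro h ⟨a, ha⟩
      exact h a ha
  have hTinv : ∀ (h : H) (m : M), T h⁻¹ (T h m) = m := by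
    intro h m
    rw [← Module.End.mul_apply, ← map_mul, inv_mul_cancel, map_one, Module.End.one_apply]
  have hTinv' : ∀ (h : H) (m : M), T h (T h⁻¹ m) = m := by
    intro h m
    rw [← Module.End.mul_apply, ← map_mul, mul_inv_cancel, map_one, Module.End.one_apply]
  have hTP : ∀ (h : H) (I : Ideal R) (m : M), m ∈ P I → T h m ∈ P (h • I) := by
    intro h I m hm
    rw [hmemP] at hm ⊢
    intro a ha
    rw [hsmul] at ha
    have := hT h (α h⁻¹ a) m
    rw [hm _ ha, map_zero] at this
    rw [← AlgEquiv.mul_apply, ← map_mul, mul_inv_cancel, map_one, AlgEquiv.one_apply] at this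
    exact this.symm
  have hSP : S ≤ P 𝔪 := by
    intro s hs
    rw [hmemP]
    intro a ha
    rw [h𝔪, Module.mem_annihilator] at ha
    exact congrArg Subtype.val (ha ⟨s, hs⟩)
  set NR : Submodule R M := ⨆ x : MulAction.orbit H 𝔪, P x with hNR
  have hNRinv : ∀ (h : H) (m : M), m ∈ NR → T h m ∈ NR := by
    intro h m hm
    refine Submodule.iSup_induction (fun x : MulAction.orbit H 𝔪 => P x)
      (motive := fun m => T h m ∈ NR) hm ?_ ?_ ?_
    · rintro ⟨x, g, rfl⟩ m hm
      have h1 := hTP h _ m hm
      have h2 : h • (g • 𝔪) ∈ MulAction.orbit H 𝔪 := ⟨h * g, mul_smul h g 𝔪⟩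
      exact Submodule.mem_iSup_of_mem (⟨_, h2⟩ : MulAction.orbit H 𝔪) h1
    · rw [map_zero]; exact NR.zero_mem
    · intro a b ha hb
      rw [map_add]; exact NR.add_mem ha hb
  by_cases htop : NR = ⊤
  · -- orbit case
    have hfin : Finite (MulAction.orbit H 𝔪) := (Set.finite_range fun m : H => m • 𝔪).to_subtype
    have horbmax : ∀ x : MulAction.orbit H 𝔪, (x : Ideal R).IsMaximal := by
      rintro ⟨x, g, rfl⟩
      exact Ideal.comap_isMaximal_of_equiv (α g⁻¹)
    set N : Ideal R → Submodule k M := fun I => (P I).restrictScalars k with hN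
    have hNmap : ∀ (h : H) (I : Ideal R), N (h • I) = (N I).map (T h) := by
      intro h I
      ext m
      constructor
      · intro hm
        refine ⟨T h⁻¹ m, ?_, hTinv' h m⟩
        have := hTP h⁻¹ (h • I) m hm
        rwa [inv_smul_smul] at this
      · rintro ⟨m', hm', rfl⟩
        exact hTP h I m' hm'
    have hind : iSupIndep (fun x : MulAction.orbit H 𝔪 => N x) := by
      have hfint : Fintype (MulAction.orbit H 𝔪) := Fintype.ofFinite _
      intro x₁
      rw [Submodule.disjoint_def]
      intro v hv1 hv2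
      have hcop : (x₁ : Ideal R) ⊔ ⨅ j ∈ (Finset.univ.erase x₁), (j : Ideal R) = ⊤ := by
        apply Ideal.sup_iInf_eq_top
        intro j hj
        have hne : j ≠ x₁ := Finset.ne_of_mem_erase hj
        exact Ideal.IsMaximal.coprime_of_ne (horbmax x₁) (horbmax j)
          (fun h => hne (Subtype.ext h.symm))
      have h1 : (1 : R) ∈ (x₁ : Ideal R) ⊔ ⨅ j ∈ (Finset.univ.erase x₁), (j : Ideal R) := by
        rw [hcop]; trivial
      obtain ⟨a, ha, b, hb, hab⟩ := Submodule.mem_sup.mp h1
      have hav : a • v = 0 := (hmemP _ v).mp hv1 a ha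
      have hbv : b • v = 0 := by
        have hle : (⨆ (j : MulAction.orbit H 𝔪) (_ : j ≠ x₁), N j) ≤
            LinearMap.ker (Algebra.lsmul k k M b) := by
          refine iSup₂_le fun j hj m hm => ?_
          rw [LinearMap.mem_ker]
          have hbj : b ∈ (j : Ideal R) := by
            simp only [Submodule.mem_iInf] at hb
            exact hb j (Finset.mem_erase.mpr ⟨hj, Finset.mem_univ j⟩)
          exact (hmemP _ m).mp hm b hbj
        exact hle hv2
      calc v = (1 : R) • v := (one_smul R v).symm
        _ = (a + b) • v := by rw [hab]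
        _ = 0 := by rw [add_smul, hav, hbv, add_zero]
    have hsup : ⨆ x : MulAction.orbit H 𝔪, N x = ⊤ := by
      have := congrArg (Submodule.restrictScalars k) htop
      rwa [hNR, Submodule.restrictScalars_iSup, Submodule.restrictScalars_top] at this
    -- the field `R ⧸ 𝔪` and the semilinear action of the stabilizer
    set H₁ : Subgroup H := MulAction.stabilizer H 𝔪 with hH₁
    have hstab : ∀ (s : H₁) (a : R), a ∈ 𝔪 ↔ α (s : H) a ∈ 𝔪 := by
      intro s a
      have h1 : ((s : H)⁻¹) • 𝔪 = 𝔪 := MulAction.mem_stabilizer_iff.mp (H₁.inv_mem s.2)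
      conv_lhs => rw [← h1, hsmul, inv_inv]
    letI : Field (R ⧸ 𝔪) := Ideal.Quotient.field 𝔪
    let β : H₁ →* ((R ⧸ 𝔪) →+* (R ⧸ 𝔪)) :=
      { toFun := fun s => Ideal.Quotient.lift 𝔪
          ((Ideal.Quotient.mk 𝔪).comp ((α (s : H) : R ≃ₐ[k] R) : R →+* R))
          (fun a ha => by
            rw [RingHom.comp_apply]
            exact Ideal.Quotient.eq_zero_iff_mem.mpr ((hstab s a).mp ha))
        map_one' := Ideal.Quotient.ringHom_ext (by ext a; simp)
        map_mul' := fun s t => Ideal.Quotient.ringHom_ext (by ext a; simp) }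
    letI : MulSemiringAction H₁ (R ⧸ 𝔪) := MulSemiringAction.compHom (R ⧸ 𝔪) β
    have hβ : ∀ (s : H₁) (r : R),
        s • (Ideal.Quotient.mk 𝔪 r) = Ideal.Quotient.mk 𝔪 (α (s : H) r) := fun s r => rfl
    have hfaith : FaithfulSMul H₁ (R ⧸ 𝔪) := ⟨by
      intro s s' hss
      by_contra hne
      have hne' : (s : H)⁻¹ * (s' : H) ≠ 1 := by
        intro h
        apply hne
        apply Subtype.ext
        have := congrArg (fun x => (s : H) * x) h
        simpa using this.symm
      obtain ⟨r, hr⟩ := hG _ hne' 𝔪 hmax hann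
      apply hr
      have h1 := hss (Ideal.Quotient.mk 𝔪 r)
      rw [hβ, hβ, Ideal.Quotient.eq] at h1
      have h2 := (hstab (s⁻¹) _).mp h1
      have h3 : α ((s⁻¹ : H₁) : H) (α (s : H) r - α (s' : H) r) = -(α ((s : H)⁻¹ * (s' : H)) r - r) := by
        rw [map_sub, ← AlgEquiv.mul_apply, ← AlgEquiv.mul_apply, ← map_mul, ← map_mul]
        simp
      rw [h3] at h2
      exact (Submodule.neg_mem_iff _).mp h2⟩
    set M₁ : Submodule R M := Submodule.torsionBySet R M 𝔪 with hM₁
    have hPM₁ : P 𝔪 = M₁ := rfl
    have hM₁inv : ∀ (s : H₁) (m : M), m ∈ M₁ → T (s : H) m ∈ M₁ := by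
      intro s m hm
      have := hTP (s : H) 𝔪 m hm
      rwa [MulAction.mem_stabilizer_iff.mp s.2] at this
    let T₁ : H₁ →* Module.End k M₁ :=
      { toFun := fun s => subEnd M₁ (T (s : H)) (hM₁inv s)
        map_one' := LinearMap.ext (fun m => Subtype.ext (by
          rw [subEnd_coe, Subgroup.coe_one, map_one, Module.End.one_apply, Module.End.one_apply]))
        map_mul' := fun g h => LinearMap.ext (fun m => Subtype.ext (by
          rw [subEnd_coe, Subgroup.coe_mul, map_mul, Module.End.mul_apply, Module.End.mul_apply,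
            subEnd_coe, subEnd_coe])) }
    have hT₁ : ∀ (s : H₁) (c : R ⧸ 𝔪) (m : M₁), T₁ s (c • m) = (s • c) • T₁ s m := by
      intro s c m
      obtain ⟨r, rfl⟩ := Ideal.Quotient.mk_surjective c
      rw [hβ]
      exact Subtype.ext (hT (s : H) r m)
    have hfd₁ : FiniteDimensional k M₁ :=
      FiniteDimensional.of_injective (M₁.subtype.restrictScalars k) Subtype.val_injective
    obtain ⟨n₁, w₁, hs₁, hc₁⟩ := hfree_of_semilinear (k := k) (L := R ⧸ 𝔪) (M := M₁) T₁ hT₁
    refine hfree_of_orbit T N hNmap 𝔪 hind hsup n₁ (fun i => (w₁ i : M)) ?_ ?_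
    · have h4 := congrArg (Submodule.map (M₁.subtype.restrictScalars k)) hs₁
      rw [Submodule.map_span, Submodule.map_top, ← Set.range_comp] at h4
      have h5 : LinearMap.range (M₁.subtype.restrictScalars k) = N 𝔪 := by
        ext m
        constructor
        · rintro ⟨y, rfl⟩
          exact y.2
        · intro hm
          exact ⟨⟨m, hm⟩, rfl⟩
      rw [h5] at h4
      exact h4
    · rw [hc₁]
      rfl
  · -- induction on the submodule `NR` and the quotient
    have hfdN : FiniteDimensional k NR :=
      FiniteDimensional.of_injective (NR.subtype.restrictScalars k) Subtype.val_injective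
    have hfdQ : FiniteDimensional k (M ⧸ NR) :=
      Module.Finite.of_surjective (NR.mkQ.restrictScalars k) (Submodule.mkQ_surjective NR)
    set i : NR →ₗ[k] M := NR.subtype.restrictScalars k with hi
    set π : M →ₗ[k] (M ⧸ NR) := NR.mkQ.restrictScalars k with hπ
    have hex : LinearMap.ker π = LinearMap.range i := by
      ext m
      rw [LinearMap.mem_ker, LinearMap.mem_range]
      constructor
      · intro hm
        have : m ∈ NR := (Submodule.Quotient.mk_eq_zero NR).mp hm
        exact ⟨⟨m, this⟩, rfl⟩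
      · rintro ⟨y, rfl⟩
        exact (Submodule.Quotient.mk_eq_zero NR).mpr y.2
    have hinj : Function.Injective i := Subtype.val_injective
    have hsurj : Function.Surjective π := Submodule.mkQ_surjective NR
    have hdim : finrank k NR + finrank k (M ⧸ NR) = finrank k M := by
      have h3 := LinearMap.finrank_range_add_finrank_ker π
      rw [hex, LinearMap.finrank_range_of_inj hinj, LinearMap.range_eq_top.mpr hsurj,
        finrank_top] at h3
      omega
    have hNRne : NR ≠ ⊥ := by
      intro h
      have : S ≤ NR := hSP.trans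
        (le_iSup (fun x : MulAction.orbit H 𝔪 => P x) ⟨𝔪, MulAction.mem_orbit_self 𝔪⟩)
      rw [h, le_bot_iff] at this
      exact hS.1 this
    have hposN : 0 < finrank k NR := by
      have : Nontrivial NR := Submodule.nontrivial_iff_ne_bot.mpr hNRne
      exact Module.finrank_pos
    have hposQ : 0 < finrank k (M ⧸ NR) := by
      have : Nontrivial (M ⧸ NR) :=
        Submodule.Quotient.nontrivial_iff.mpr htop
      exact Module.finrank_pos
    let T' : H →* Module.End k NR :=
      { toFun := fun h => subEnd NR (T h) (hNRinv h)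
        map_one' := LinearMap.ext (fun m => Subtype.ext (by
          rw [subEnd_coe, map_one, Module.End.one_apply, Module.End.one_apply]))
        map_mul' := fun g h => LinearMap.ext (fun m => Subtype.ext (by
          rw [subEnd_coe, map_mul, Module.End.mul_apply, Module.End.mul_apply, subEnd_coe,
            subEnd_coe])) }
    let TQ : H →* Module.End k (M ⧸ NR) :=
      { toFun := fun h => quotEnd NR (T h) (hNRinv h)
        map_one' := LinearMap.ext (fun q => by
          obtain ⟨m, rfl⟩ := Submodule.mkQ_surjective NR q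
          change quotEnd NR (T 1) (hNRinv 1) (Submodule.Quotient.mk m) = Submodule.Quotient.mk m
          rw [quotEnd_mk, map_one, Module.End.one_apply])
        map_mul' := fun g h => LinearMap.ext (fun q => by
          obtain ⟨m, rfl⟩ := Submodule.mkQ_surjective NR q
          change quotEnd NR (T (g * h)) (hNRinv (g * h)) (Submodule.Quotient.mk m) =
            quotEnd NR (T g) (hNRinv g) (quotEnd NR (T h) (hNRinv h) (Submodule.Quotient.mk m))
          rw [quotEnd_mk, quotEnd_mk, quotEnd_mk, map_mul, Module.End.mul_apply]) }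
    have hT' : ∀ (h : H) (r : R) (m : NR), T' h (r • m) = α h r • T' h m := by
      intro h r m
      exact Subtype.ext (hT h r m)
    have hTQ : ∀ (h : H) (r : R) (m : M ⧸ NR), TQ h (r • m) = α h r • TQ h m := by
      rintro h r ⟨m⟩
      exact congrArg (Submodule.Quotient.mk (p := NR)) (hT h r m)
    have hG' : ∀ h : H, h ≠ 1 → ∀ 𝔫 : Ideal R, 𝔫.IsMaximal → Module.annihilator R NR ≤ 𝔫 →
        ∃ r, α h r - r ∉ 𝔫 := by
      intro h hh 𝔫 h𝔫 hle
      refine hG h hh 𝔫 h𝔫 (le_trans ?_ hle)
      intro r hr
      rw [Module.mem_annihilator] at hr ⊢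
      intro m
      exact Subtype.ext (hr m)
    have hGQ : ∀ h : H, h ≠ 1 → ∀ 𝔫 : Ideal R, 𝔫.IsMaximal →
        Module.annihilator R (M ⧸ NR) ≤ 𝔫 → ∃ r, α h r - r ∉ 𝔫 := by
      intro h hh 𝔫 h𝔫 hle
      refine hG h hh 𝔫 h𝔫 (le_trans ?_ hle)
      intro r hr
      rw [Module.mem_annihilator] at hr ⊢
      rintro ⟨m⟩
      exact congrArg (Submodule.Quotient.mk (p := NR)) (hr m)
    have h1 : HFree (fun h => T' h) := ih (finrank k NR) (by omega) NR T' hT' hG' rfl
    have h2 : HFree (fun h => TQ h) := ih (finrank k (M ⧸ NR)) (by omega) (M ⧸ NR) TQ hTQ hGQ rfl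
    exact hfree_of_exact i π hinj hsurj hex (fun h => T' h) (fun h => T h) (fun h => TQ h)
      (fun h u => rfl) (fun h v => rfl) h1 h2

end core

end Cfsg.Agent.Helper3.SemiFreeC
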