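import Mathlib

set_option autoImplicit false

namespace Cfsg.Agent.Helper3.SemiFreeD

open scoped BigOperators

section group

variable {G : Type*} [Group G]

theorem conj_fix_of_comm_eq {h a b : G} (hyp : a⁻¹ * (h * a * h⁻¹) = b⁻¹ * (h * b * h⁻¹)) :
    h * (b * a⁻¹) * h⁻¹ = b * a⁻¹ := by
  have h2 : h * b * h⁻¹ = b * (a⁻¹ * (h * a * h⁻¹)) := by rw [hyp]; group
  have e : h * (b * a⁻¹) * h⁻¹ = (h * b * h⁻¹) * (h * a * h⁻¹)⁻¹ := by group
  rw [e, h2]
  group

/-- If conjugation by `h` has no nontrivial fixed point on the finite subgroup `F`, the same is true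
modulo any normal subgroup `N`. -/
theorem fpf_mod_normal (F N : Subgroup G) [Finite F] [hN : N.Normal] (h : G)
    (hF : ∀ f ∈ F, h * f * h⁻¹ ∈ F) (hfix : ∀ f ∈ F, h * f * h⁻¹ = f → f = 1) :
    ∀ f ∈ F, f⁻¹ * (h * f * h⁻¹) ∈ N → f ∈ N := by
  have hfin : Finite ↥(F ⊓ N) :=
    Finite.of_injective (Subgroup.inclusion (inf_le_left : F ⊓ N ≤ F))
      (Subgroup.inclusion_injective _)
  let ψ : ↥(F ⊓ N) → ↥(F ⊓ N) := fun n =>
    ⟨(n : G)⁻¹ * (h * n * h⁻¹),
      ⟨F.mul_mem (F.inv_mem n.2.1) (hF n n.2.1),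
        N.mul_mem (N.inv_mem n.2.2) (hN.conj_mem n n.2.2 h)⟩⟩
  have hinj : Function.Injective ψ := by
    intro a b hab
    have h1 : (a : G)⁻¹ * (h * a * h⁻¹) = (b : G)⁻¹ * (h * b * h⁻¹) := congrArg Subtype.val hab
    have h2 := conj_fix_of_comm_eq h1
    have h3 : (b : G) * (a : G)⁻¹ = 1 :=
      hfix _ (F.mul_mem b.2.1 (F.inv_mem a.2.1)) h2
    apply Subtype.ext
    have := mul_inv_eq_one.mp h3
    exact this.symm
  have hsurj : Function.Surjective ψ := Finite.injective_iff_surjective.mp hinj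
  intro f hf hfN
  obtain ⟨m, hm⟩ := hsurj ⟨f⁻¹ * (h * f * h⁻¹), ⟨F.mul_mem (F.inv_mem hf) (hF f hf), hfN⟩⟩
  have h1 : (m : G)⁻¹ * (h * m * h⁻¹) = f⁻¹ * (h * f * h⁻¹) := congrArg Subtype.val hm
  have h2 := conj_fix_of_comm_eq h1
  have h3 : f * (m : G)⁻¹ = 1 := hfix _ (F.mul_mem hf (F.inv_mem m.2.1)) h2
  have h4 : f = m := mul_inv_eq_one.mp h3
  rw [h4]
  exact m.2.2

end group

section unipotent

variable {k V : Type*} [Field k] [AddCommGroup V] [Module k V]

theorem sub_one_pow_eq_zero [Nontrivial V] (q : ℕ) (hq : q.Prime) (hchar : (q : k) = 0)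
    (a : Module.End k V) (ha : a ^ q = 1) : (a - 1) ^ q = 0 := by
  haveI : Fact q.Prime := ⟨hq⟩
  haveI : CharP k q := (CharP.charP_iff_prime_eq_zero hq).mpr hchar
  haveI : CharP (Module.End k V) q :=
    charP_of_injective_algebraMap (algebraMap k (Module.End k V)).injective q
  rw [sub_pow_char_of_commute q (Commute.one_right a), ha, one_pow, sub_self]

/-- Commuting unipotent operators in characteristic `q` have a common nonzero fixed vector. -/
theorem exists_fixed_of_commuting_unipotent [FiniteDimensional k V] [Nontrivial V] (q : ℕ)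
    (hq : q.Prime) (hchar : (q : k) = 0) (S : Set (Module.End k V))
    (hcomm : ∀ a ∈ S, ∀ b ∈ S, a * b = b * a) (hpow : ∀ a ∈ S, a ^ q = 1) :
    ∃ v : V, v ≠ 0 ∧ ∀ a ∈ S, a v = v := by
  classical
  set 𝒰 : Set (Submodule k V) := {U | U ≠ ⊥ ∧ ∀ a ∈ S, ∀ v ∈ U, a v ∈ U} with h𝒰
  have hne : 𝒰.Nonempty := ⟨⊤, top_ne_bot, fun _ _ _ _ => Submodule.mem_top⟩
  obtain ⟨U, ⟨hU0, hUinv⟩, hmin⟩ := (wellFounded_lt (α := Submodule k V)).has_min 𝒰 hne
  have hfix : ∀ a ∈ S, ∀ v ∈ U, a v = v := by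
    intro a ha
    set U' : Submodule k V := U ⊓ LinearMap.ker (a - 1) with hU'
    have hU'inv : ∀ b ∈ S, ∀ v ∈ U', b v ∈ U' := by
      intro b hb v hv
      refine ⟨hUinv b hb v hv.1, ?_⟩
      have h1 : (a - 1) v = 0 := hv.2
      change (a - 1) (b v) = 0
      have h2 : (a - 1) (b v) = b ((a - 1) v) := by
        simp only [LinearMap.sub_apply, Module.End.one_apply, map_sub]
        rw [← Module.End.mul_apply, hcomm a ha b hb, Module.End.mul_apply]
      rw [h2, h1, map_zero]
    have hU'ne : U' ≠ ⊥ := by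
      obtain ⟨u, huU, hu0⟩ := (Submodule.ne_bot_iff U).mp hU0
      have hnil := sub_one_pow_eq_zero q hq hchar a (hpow a ha)
      have hex : ∃ j, ((a - 1) ^ j : Module.End k V) u = 0 := ⟨q, by rw [hnil]; rfl⟩
      set j := Nat.find hex with hj
      have hj0 : ((a - 1) ^ j : Module.End k V) u = 0 := Nat.find_spec hex
      have hjpos : j ≠ 0 := by
        intro h0
        rw [h0, pow_zero, Module.End.one_apply] at hj0
        exact hu0 hj0
      obtain ⟨i, hi⟩ := Nat.exists_eq_succ_of_ne_zero hjpos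
      have hi0 : ((a - 1) ^ i : Module.End k V) u ≠ 0 := by
        have : i < j := by omega
        exact Nat.find_min hex this
      have hinvpow : ∀ (m : ℕ) (v : V), v ∈ U → ((a - 1) ^ m : Module.End k V) v ∈ U := by
        intro m
        induction m with
        | zero => intro v hv; simpa using hv
        | succ m ihm =>
          intro v hv
          rw [pow_succ', Module.End.mul_apply]
          have := ihm v hv
          simp only [LinearMap.sub_apply, Module.End.one_apply]
          exact U.sub_mem (hUinv a ha _ this) this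
      intro hbot
      apply hi0
      have hmem : ((a - 1) ^ i : Module.End k V) u ∈ U' := by
        refine ⟨hinvpow i u huU, ?_⟩
        change (a - 1) (((a - 1) ^ i : Module.End k V) u) = 0
        rw [← Module.End.mul_apply, ← pow_succ', ← Nat.succ_eq_add_one, ← hi]
        exact hj0
      rw [hbot] at hmem
      exact (Submodule.mem_bot k).mp hmem
    have hle : U' ≤ U := inf_le_left
    have hU'U : U' = U := by
      by_contra hne'
      exact hmin U' ⟨hU'ne, hU'inv⟩ (lt_of_le_of_ne hle hne')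
    intro v hv
    have : v ∈ U' := by rw [hU'U]; exact hv
    have h1 : (a - 1) v = 0 := this.2
    simp only [LinearMap.sub_apply, Module.End.one_apply] at h1
    exact sub_eq_zero.mp h1
  obtain ⟨u, huU, hu0⟩ := (Submodule.ne_bot_iff U).mp hU0
  exact ⟨u, hu0, fun a ha => hfix a ha u huU⟩

end unipotent

end Cfsg.Agent.Helper3.SemiFreeD
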