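import Mathlib
import Cfsg.Agent.Helper3.SemiFreeC
import Cfsg.Agent.Helper3.SemiFreeD

set_option autoImplicit false

namespace Cfsg.Agent.Helper3.SemiFreeE

open Cfsg.Agent.Helper3.SemiFreeA Cfsg.Agent.Helper3.SemiFreeB Cfsg.Agent.Helper3.SemiFreeC
open scoped BigOperators
open Module

universe u v w x

section gen

variable {k : Type u} [Field k] {V : Type v} [AddCommGroup V] [Module k V] [FiniteDimensional k V]
  {A : Type w} [CommGroup A] [Finite A] {H : Type x} [Group H] [Finite H]

/-- Abelian case, abstract form: a finite abelian group `A` of exponent `q` (invertible in `k`)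
acting on `V` without fixed vectors, with `H` acting on `A` fixed-point-freely and compatibly. -/
theorem abelian_free_gen (ι : A →* Module.End k V) (c : H →* MulAut A) (T : H →* Module.End k V)
    (hT : ∀ (h : H) (a : A), T h * ι a = ι (c h a) * T h)
    (hfpf : ∀ h : H, h ≠ 1 → ∀ a : A, c h a = a → a = 1)
    (q : ℕ) (hq : q.Prime) (hqk : (q : k) ≠ 0) (hpow : ∀ a : A, a ^ q = 1)
    (hCZ : ∀ v : V, (∀ a : A, ι a v = v) → v = 0) :
    HFree (fun h => T h) := by
  classical
  cases nonempty_fintype A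
  set R := MonoidAlgebra k A with hR
  set Φ : R →ₐ[k] Module.End k V := MonoidAlgebra.lift k (Module.End k V) A ι with hΦ
  letI : Module R V := Module.compHom V (Φ : R →+* Module.End k V)
  have hsmul : ∀ (r : R) (v : V), r • v = Φ r v := fun r v => rfl
  haveI : IsScalarTower k R V := ⟨fun c r v => by
    rw [hsmul, hsmul, map_smul, LinearMap.smul_apply]⟩
  let α : H →* (R ≃ₐ[k] R) :=
    { toFun := fun h => MonoidAlgebra.domCongr k k (c h)
      map_one' := by
        apply AlgEquiv.ext
        intro r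
        induction r using MonoidAlgebra.induction_on with
        | of a => simp [MonoidAlgebra.of_apply, MonoidAlgebra.domCongr_single]
        | add x y hx hy => rw [map_add, hx, hy, map_add]
        | smul c x hx => rw [map_smul, hx, map_smul]
      map_mul' := by
        intro g h
        apply AlgEquiv.ext
        intro r
        induction r using MonoidAlgebra.induction_on with
        | of a => simp [MonoidAlgebra.of_apply, MonoidAlgebra.domCongr_single]
        | add x y hx hy => rw [map_add, hx, hy, map_add]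
        | smul c x hx => rw [map_smul, hx, map_smul] }
  have hα : ∀ (h : H) (a : A), α h (MonoidAlgebra.of k A a) = MonoidAlgebra.of k A (c h a) := by
    intro h a
    change MonoidAlgebra.domCongr k k (c h) (MonoidAlgebra.of k A a) = _
    rw [MonoidAlgebra.of_apply, MonoidAlgebra.domCongr_single, MonoidAlgebra.of_apply]
  have hΦof : ∀ a : A, Φ (MonoidAlgebra.of k A a) = ι a := fun a => MonoidAlgebra.lift_of ι a
  have hTΦ : ∀ (h : H) (r : R), T h * Φ r = Φ (α h r) * T h := by
    intro h r
    induction r using MonoidAlgebra.induction_on with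
    | of a => rw [hΦof, hα, hΦof, hT]
    | add x y hx hy => rw [map_add, map_add, map_add, mul_add, add_mul, hx, hy]
    | smul c x hx => rw [map_smul, map_smul, map_smul, mul_smul_comm, smul_mul_assoc, hx]
  have hTsemi : ∀ (h : H) (r : R) (v : V), T h (r • v) = α h r • T h v := by
    intro h r v
    rw [hsmul, hsmul, ← Module.End.mul_apply, hTΦ, Module.End.mul_apply]
  have hcard : ((Fintype.card A : ℕ) : k) ≠ 0 := by
    haveI : Fact q.Prime := ⟨hq⟩
    have hp : IsPGroup q A := fun a => ⟨1, by rw [pow_one, hpow]⟩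
    obtain ⟨m, hm⟩ := IsPGroup.iff_card.mp hp
    rw [← Nat.card_eq_fintype_card, hm, Nat.cast_pow]
    exact pow_ne_zero m hqk
  have hG : ∀ h : H, h ≠ 1 → ∀ 𝔪 : Ideal R, 𝔪.IsMaximal → Module.annihilator R V ≤ 𝔪 →
      ∃ r, α h r - r ∉ 𝔪 := by
    intro h hh 𝔪 h𝔪 hann
    by_contra hall
    push Not at hall
    -- the map `a ↦ c h a * a⁻¹` is surjective
    have hinj : Function.Injective (fun a : A => c h a * a⁻¹) := by
      intro a b hab
      have h1 : c h (b⁻¹ * a) = b⁻¹ * a := by
        rw [map_mul, map_inv]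
        have h2 : c h a * a⁻¹ = c h b * b⁻¹ := hab
        have h3 : c h a = c h b * b⁻¹ * a := by rw [← h2]; simp
        rw [h3]
        group
      have := hfpf h hh _ h1
      exact (inv_mul_eq_one.mp this).symm
    have hsurj : Function.Surjective (fun a : A => c h a * a⁻¹) :=
      Finite.injective_iff_surjective.mp hinj
    have h1 : ∀ a : A, MonoidAlgebra.of k A (c h a * a⁻¹) - 1 ∈ 𝔪 := by
      intro a
      have h2 := hall (MonoidAlgebra.of k A a)
      rw [hα] at h2
      have h3 := 𝔪.mul_mem_right (MonoidAlgebra.of k A a⁻¹) h2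
      rw [sub_mul, ← map_mul, ← map_mul, mul_inv_cancel, map_one] at h3
      exact h3
    have h2 : ∀ g : A, MonoidAlgebra.of k A g - 1 ∈ 𝔪 := by
      intro g
      obtain ⟨a, rfl⟩ := hsurj g
      exact h1 a
    have he : (∑ g : A, MonoidAlgebra.of k A g) ∈ Module.annihilator R V := by
      rw [Module.mem_annihilator]
      intro v
      apply hCZ
      intro a
      rw [hsmul, map_sum, LinearMap.sum_apply, map_sum]
      simp only [hΦof]
      rw [← Fintype.sum_equiv (Equiv.mulLeft a) (fun g => ι a (ι g v)) (fun g => ι g v)]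
      intro g
      simp [map_mul]
    have h3 : ((Fintype.card A : ℕ) : R) ∈ 𝔪 := by
      have h4 : ((Fintype.card A : ℕ) : R) =
          (∑ g : A, MonoidAlgebra.of k A g) - ∑ g : A, (MonoidAlgebra.of k A g - 1) := by
        rw [Finset.sum_sub_distrib, Finset.sum_const, Finset.card_univ]
        simp
      rw [h4]
      exact 𝔪.sub_mem (hann he) (𝔪.sum_mem fun g _ => h2 g)
    have h5 : IsUnit ((Fintype.card A : ℕ) : R) := by
      have : ((Fintype.card A : ℕ) : R) = algebraMap k R ((Fintype.card A : ℕ) : k) := by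
        rw [map_natCast]
      rw [this]
      exact (IsUnit.mk0 _ hcard).map (algebraMap k R)
    exact h𝔪.ne_top (Ideal.eq_top_of_isUnit_mem 𝔪 h3 h5)
  exact acore α (finrank k V) V T hTsemi hG rfl

end gen

section subgroups

variable {G : Type u} [Group G] [Finite G] {k : Type v} [Field k] {V : Type w} [AddCommGroup V]
  [Module k V] [FiniteDimensional k V]

/-- Abelian case for subgroups `Z`, `H` of a group `G` acting on `V`. -/
theorem abelian_free (ρ : Representation k G V) (Z H : Subgroup G)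
    (hn : ∀ h ∈ H, ∀ z ∈ Z, h * z * h⁻¹ ∈ Z)
    (hc : ∀ a ∈ Z, ∀ b ∈ Z, ρ a * ρ b = ρ b * ρ a)
    (q : ℕ) (hq : q.Prime) (hqk : (q : k) ≠ 0) (hpow : ∀ z ∈ Z, ρ z ^ q = 1)
    (hfpf : ∀ h ∈ H, h ≠ 1 → ∀ z ∈ Z, ρ (h * z * h⁻¹) = ρ z → ρ z = 1)
    (hCZ : ∀ v : V, (∀ z ∈ Z, ρ z v = v) → v = 0) :
    HFree (fun h : H => ρ (h : G)) := by
  classical
  set ρ' := ρ.asGroupHom with hρ'
  have hρ'v : ∀ g : G, ((ρ' g : (Module.End k V)ˣ) : Module.End k V) = ρ g := fun g => rfl
  set 𝒵 : Subgroup (Module.End k V)ˣ := Z.map ρ' with h𝒵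
  have hcomm : ∀ a b : 𝒵, a * b = b * a := by
    rintro ⟨_, za, hza, rfl⟩ ⟨_, zb, hzb, rfl⟩
    apply Subtype.ext
    apply Units.ext
    exact hc za hza zb hzb
  letI : CommGroup 𝒵 := { (inferInstance : Group 𝒵) with mul_comm := hcomm }
  haveI : Finite 𝒵 := Finite.of_surjective (ρ'.subgroupMap Z) (ρ'.subgroupMap_surjective Z)
  let ι : 𝒵 →* Module.End k V := (Units.coeHom (Module.End k V)).comp 𝒵.subtype
  have hιv : ∀ a : 𝒵, ι a = ((a : (Module.End k V)ˣ) : Module.End k V) := fun a => rfl
  have hmem : ∀ (h : H) (a : 𝒵), ρ' h * (a : (Module.End k V)ˣ) * (ρ' h)⁻¹ ∈ 𝒵 := by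
    rintro h ⟨_, z, hz, rfl⟩
    exact ⟨h * z * (h : G)⁻¹, hn h h.2 z hz, by rw [map_mul, map_mul, map_inv]⟩
  have hmem' : ∀ (h : H) (a : 𝒵), (ρ' h)⁻¹ * (a : (Module.End k V)ˣ) * ρ' h ∈ 𝒵 := by
    intro h a
    have := hmem h⁻¹ a
    simpa using this
  let c : H →* MulAut 𝒵 :=
    { toFun := fun h =>
        { toFun := fun a => ⟨ρ' h * a * (ρ' h)⁻¹, hmem h a⟩
          invFun := fun a => ⟨(ρ' h)⁻¹ * a * ρ' h, hmem' h a⟩
          left_inv := fun a => Subtype.ext (by simp [mul_assoc])
          right_inv := fun a => Subtype.ext (by simp [mul_assoc])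
          map_mul' := fun a b => Subtype.ext (by simp [mul_assoc]) }
      map_one' := by
        apply MulEquiv.ext
        intro a
        apply Subtype.ext
        simp
      map_mul' := by
        intro g h
        apply MulEquiv.ext
        intro a
        apply Subtype.ext
        simp [mul_assoc] }
  have hcv : ∀ (h : H) (a : 𝒵), ((c h a : 𝒵) : (Module.End k V)ˣ) = ρ' h * a * (ρ' h)⁻¹ :=
    fun h a => rfl
  let T : H →* Module.End k V := (ρ : G →* Module.End k V).comp H.subtype
  have hTv : ∀ h : H, T h = ρ (h : G) := fun h => rfl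
  have hT : ∀ (h : H) (a : 𝒵), T h * ι a = ι (c h a) * T h := by
    intro h a
    rw [hιv, hιv, hcv, hTv, Units.val_mul, Units.val_mul, hρ'v, mul_assoc, mul_assoc,
      ← hρ'v (h : G), Units.inv_mul, mul_one]
  have hfpf' : ∀ h : H, h ≠ 1 → ∀ a : 𝒵, c h a = a → a = 1 := by
    rintro h hh ⟨_, z, hz, rfl⟩ ha
    have h1 : ρ' h * ρ' z * (ρ' h)⁻¹ = ρ' z := congrArg Subtype.val ha
    rw [← map_inv, ← map_mul, ← map_mul] at h1
    have h2 : ρ ((h : G) * z * (h : G)⁻¹) = ρ z := congrArg Units.val h1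
    have hh' : (h : G) ≠ 1 := fun e => hh (Subtype.ext e)
    have h3 := hfpf h h.2 hh' z hz h2
    apply Subtype.ext
    apply Units.ext
    exact h3
  have hpow' : ∀ a : 𝒵, a ^ q = 1 := by
    rintro ⟨_, z, hz, rfl⟩
    apply Subtype.ext
    apply Units.ext
    change ((ρ' z) ^ q : (Module.End k V)ˣ).val = 1
    rw [Units.val_pow_eq_pow_val]
    exact hpow z hz
  have hCZ' : ∀ v : V, (∀ a : 𝒵, ι a v = v) → v = 0 := by
    intro v hv
    apply hCZ v
    intro z hz
    exact hv ⟨ρ' z, Subgroup.mem_map_of_mem ρ' hz⟩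
  exact abelian_free_gen ι c T hT hfpf' q hq hqk hpow' hCZ'

end subgroups

end Cfsg.Agent.Helper3.SemiFreeE
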