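import Mathlib
import Cfsg.Agent.Helper3.SemiFreeE

set_option autoImplicit false

namespace Cfsg.Agent.Helper3.SemiFreeF

open Cfsg.Agent.Helper3.SemiFreeA Cfsg.Agent.Helper3.SemiFreeB Cfsg.Agent.Helper3.SemiFreeD
  Cfsg.Agent.Helper3.SemiFreeE
open scoped BigOperators
open Module

universe u v w

variable {G : Type u} [Group G] [Finite G] {k : Type v} [Field k]

/-- A nilpotent normal subgroup `F` on which `H` acts fixed-point-freely: every finite-dimensional
`G`-module on which `F` has no nonzero fixed vector is free for `H`. -/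
theorem nil_free (F H : Subgroup G) [hFn : F.Normal] (hnil : Group.IsNilpotent F)
    (hfpf : ∀ h ∈ H, h ≠ 1 → ∀ f ∈ F, h * f * h⁻¹ = f → f = 1) :
    ∀ (n : ℕ) (V : Type w) [AddCommGroup V] [Module k V] [FiniteDimensional k V]
      (ρ : Representation k G V),
      (∀ v : V, (∀ f ∈ F, ρ f v = v) → v = 0) → finrank k V = n →
      HFree (fun h : H => ρ (h : G)) := by
  intro n
  induction n using Nat.strong_induction_on with
  | _ n ih =>
  intro V _ _ _ ρ hCF hn
  rcases subsingleton_or_nontrivial V with hsub | hnt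
  · exact hfree_of_subsingleton _
  classical
  set ρ' := ρ.asGroupHom with hρ'
  have hρ'v : ∀ g : G, ((ρ' g : (Module.End k V)ˣ) : Module.End k V) = ρ g := fun g => rfl
  have hρ'1 : ∀ g : G, ρ' g = 1 ↔ ρ g = 1 := by
    intro g
    rw [Units.ext_iff, hρ'v, Units.val_one]
  set Fb : Subgroup (Module.End k V)ˣ := F.map ρ' with hFb
  haveI := hnil
  haveI : Group.IsNilpotent Fb :=
    Group.nilpotent_of_surjective (ρ'.subgroupMap F) (ρ'.subgroupMap_surjective F)
  haveI : Finite Fb := Finite.of_surjective (ρ'.subgroupMap F) (ρ'.subgroupMap_surjective F)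
  haveI : Nontrivial Fb := by
    by_contra hnot
    rw [not_nontrivial_iff_subsingleton] at hnot
    obtain ⟨v, hv⟩ := exists_ne (0 : V)
    apply hv
    apply hCF
    intro f hf
    have h1 : (⟨ρ' f, Subgroup.mem_map_of_mem ρ' hf⟩ : Fb) = 1 := Subsingleton.elim _ _
    have h2 : ρ' f = 1 := congrArg Subtype.val h1
    rw [(hρ'1 f).mp h2, Module.End.one_apply]
  have hcne : Subgroup.center Fb ≠ ⊥ := Group.IsNilpotent.center_ne_bot Fb
  have hcard : Nat.card (Subgroup.center Fb) ≠ 1 := by
    intro h1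
    exact hcne ((Subgroup.card_eq_one).mp h1)
  set q := (Nat.card (Subgroup.center Fb)).minFac with hqdef
  have hq : q.Prime := Nat.minFac_prime hcard
  haveI : Fact q.Prime := ⟨hq⟩
  obtain ⟨x, hx⟩ := exists_prime_orderOf_dvd_card' (G := Subgroup.center Fb) q (Nat.minFac_dvd _)
  obtain ⟨z₀, hz₀F, hz₀⟩ : ∃ z₀ ∈ F, ρ' z₀ = ((x : Fb) : (Module.End k V)ˣ) := (x : Fb).2
  have hx1 : x ≠ 1 := by
    intro h1
    rw [h1, orderOf_one] at hx
    exact hq.one_lt.ne hx
  have hxq : x ^ q = 1 := by rw [← hx]; exact pow_orderOf_eq_one x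
  have hz₀ne : ρ z₀ ≠ 1 := by
    intro h1
    apply hx1
    apply Subtype.ext
    apply Subtype.ext
    rw [← hz₀, (hρ'1 z₀).mpr h1]
    rfl
  have hz₀q : ρ' z₀ ^ q = 1 := by
    rw [hz₀]
    have := congrArg (fun y : Subgroup.center Fb => ((y : Fb) : (Module.End k V)ˣ)) hxq
    simpa using this
  have hz₀c : ∀ f ∈ F, Commute (ρ' z₀) (ρ' f) := by
    intro f hf
    have h1 := Subgroup.mem_center_iff.mp x.2 ⟨ρ' f, Subgroup.mem_map_of_mem ρ' hf⟩
    have h2 := congrArg (Subtype.val : Fb → (Module.End k V)ˣ) h1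
    simp only [Subgroup.coe_mul] at h2
    rw [hz₀]
    exact h2.symm
  -- the subgroup `Z`
  let Z : Subgroup G :=
    { carrier := {g | g ∈ F ∧ (∀ f ∈ F, Commute (ρ' g) (ρ' f)) ∧ ρ' g ^ q = 1}
      one_mem' := ⟨F.one_mem, fun f _ => by rw [map_one]; exact Commute.one_left _, by
        rw [map_one, one_pow]⟩
      mul_mem' := by
        rintro a b ⟨haF, hac, haq⟩ ⟨hbF, hbc, hbq⟩
        refine ⟨F.mul_mem haF hbF, fun f hf => ?_, ?_⟩
        · rw [map_mul]; exact (hac f hf).mul_left (hbc f hf)
        · rw [map_mul, (hac b hbF).mul_pow, haq, hbq, one_mul]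
      inv_mem' := by
        rintro a ⟨haF, hac, haq⟩
        refine ⟨F.inv_mem haF, fun f hf => ?_, ?_⟩
        · rw [map_inv]; exact (hac f hf).inv_left
        · rw [map_inv, inv_pow, haq, inv_one] }
  have hZmem : ∀ g : G, g ∈ Z ↔ g ∈ F ∧ (∀ f ∈ F, Commute (ρ' g) (ρ' f)) ∧ ρ' g ^ q = 1 :=
    fun g => Iff.rfl
  have hZn : ∀ (g z : G), z ∈ Z → g * z * g⁻¹ ∈ Z := by
    rintro g z ⟨hzF, hzc, hzq⟩
    refine ⟨hFn.conj_mem z hzF g, fun f hf => ?_, ?_⟩
    · have h1 : ρ' f = ρ' g * ρ' (g⁻¹ * f * g) * (ρ' g)⁻¹ := by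
        rw [← map_inv, ← map_mul, ← map_mul]
        congr 1
        group
      have h2 : g⁻¹ * f * g ∈ F := by
        have := hFn.conj_mem f hf g⁻¹
        simpa using this
      rw [h1, map_mul, map_mul, map_inv]
      exact (Commute.conj_iff (ρ' g)).mpr (hzc _ h2)
    · rw [map_mul, map_mul, map_inv, conj_pow, hzq, mul_one, mul_inv_cancel]
  have hz₀Z : z₀ ∈ Z := ⟨hz₀F, hz₀c, hz₀q⟩
  have hZcomm : ∀ z ∈ Z, ∀ f ∈ F, ρ z * ρ f = ρ f * ρ z := by
    rintro z ⟨_, hzc, _⟩ f hf
    have h := congrArg Units.val (hzc f hf).eq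
    rw [Units.val_mul, Units.val_mul, hρ'v, hρ'v] at h
    exact h
  have hZpow : ∀ z ∈ Z, ρ z ^ q = 1 := by
    rintro z ⟨_, _, hzq⟩
    have h := congrArg Units.val hzq
    rw [Units.val_pow_eq_pow_val, hρ'v, Units.val_one] at h
    exact h
  -- the fixed space of `Z`
  let U : Submodule k V :=
    { carrier := {v | ∀ z ∈ Z, ρ z v = v}
      add_mem' := by
        intro a b ha hb z hz
        rw [map_add, ha z hz, hb z hz]
      zero_mem' := fun z _ => map_zero _
      smul_mem' := by
        intro c a ha z hz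
        rw [map_smul, ha z hz] }
  have hUmem : ∀ v : V, v ∈ U ↔ ∀ z ∈ Z, ρ z v = v := fun v => Iff.rfl
  have hUinv : ∀ (g : G) (v : V), v ∈ U → ρ g v ∈ U := by
    intro g v hv z hz
    have h1 : g⁻¹ * z * g ∈ Z := by
      have := hZn g⁻¹ z hz
      simpa using this
    have h2 : z * g = g * (g⁻¹ * z * g) := by group
    rw [← Module.End.mul_apply, ← map_mul, h2, map_mul, Module.End.mul_apply, hv _ h1]
  have hUtop : U ≠ ⊤ := by
    intro htop
    apply hz₀ne
    ext v
    have : v ∈ U := by rw [htop]; trivial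
    rw [this z₀ hz₀Z, Module.End.one_apply]
  by_cases hU0 : U = ⊥
  · -- `Z` has no nonzero fixed vector: abelian case
    have hqk : (q : k) ≠ 0 := by
      intro h0
      obtain ⟨v, hv0, hv⟩ := exists_fixed_of_commuting_unipotent (k := k) (V := V) q hq h0
        {a | ∃ z ∈ Z, a = ρ z}
        (by
          rintro _ ⟨z, hz, rfl⟩ _ ⟨z', hz', rfl⟩
          exact hZcomm z hz z' hz'.1)
        (by
          rintro _ ⟨z, hz, rfl⟩
          exact hZpow z hz)
      apply hv0
      have : v ∈ U := fun z hz => hv _ ⟨z, hz, rfl⟩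
      rw [hU0] at this
      exact (Submodule.mem_bot k).mp this
    refine abelian_free ρ Z H (fun h _ z hz => hZn h z hz)
      (fun a ha b hb => hZcomm a ha b hb.1) q hq hqk hZpow ?_ ?_
    · intro h hh hne z hz hρz
      have hker : z⁻¹ * (h * z * h⁻¹) ∈ ρ'.ker := by
        rw [MonoidHom.mem_ker, map_mul, map_inv, inv_mul_eq_one]
        apply Units.ext
        rw [hρ'v, hρ'v]
        exact hρz.symm
      have := fpf_mod_normal F ρ'.ker h (fun f hf => hFn.conj_mem f hf h) (hfpf h hh hne) z hz.1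
        hker
      exact (hρ'1 z).mp (MonoidHom.mem_ker.mp this)
    · intro v hv
      have : v ∈ U := hv
      rw [hU0] at this
      exact (Submodule.mem_bot k).mp this
  · -- induction via `U` and `V ⧸ U`
    let ρU : Representation k G U :=
      { toFun := fun g => (ρ g).restrict (hUinv g)
        map_one' := LinearMap.ext (fun u => Subtype.ext (by
          rw [LinearMap.coe_restrict_apply, map_one, Module.End.one_apply, Module.End.one_apply]))
        map_mul' := fun g h => LinearMap.ext (fun u => Subtype.ext (by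
          rw [LinearMap.coe_restrict_apply, map_mul, Module.End.mul_apply, Module.End.mul_apply,
            LinearMap.coe_restrict_apply, LinearMap.coe_restrict_apply])) }
    have hUle : ∀ g : G, U ≤ U.comap (ρ g) := fun g v hv => hUinv g v hv
    let ρQ : Representation k G (V ⧸ U) :=
      { toFun := fun g => U.mapQ U (ρ g) (hUle g)
        map_one' := LinearMap.ext (fun x => by
          obtain ⟨v, rfl⟩ := Submodule.mkQ_surjective U x
          change U.mapQ U (ρ 1) (hUle 1) (Submodule.Quotient.mk v) = Submodule.Quotient.mk v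
          rw [Submodule.mapQ_apply, map_one, Module.End.one_apply])
        map_mul' := fun g h => LinearMap.ext (fun x => by
          obtain ⟨v, rfl⟩ := Submodule.mkQ_surjective U x
          change U.mapQ U (ρ (g * h)) (hUle (g * h)) (Submodule.Quotient.mk v) =
            U.mapQ U (ρ g) (hUle g) (U.mapQ U (ρ h) (hUle h) (Submodule.Quotient.mk v))
          rw [Submodule.mapQ_apply, Submodule.mapQ_apply, Submodule.mapQ_apply, map_mul,
            Module.End.mul_apply]) }
    have hρUv : ∀ (g : G) (u : U), ((ρU g u : U) : V) = ρ g u := fun g u => rfl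
    have hρQv : ∀ (g : G) (v : V),
        ρQ g (Submodule.Quotient.mk v) = Submodule.Quotient.mk (ρ g v) := fun g v => rfl
    have hdim := Submodule.finrank_quotient_add_finrank U
    have hposU : 1 ≤ finrank k U := Submodule.one_le_finrank_iff.mpr hU0
    have hltU : finrank k U < finrank k V := Submodule.finrank_lt hUtop
    have hCFU : ∀ u : U, (∀ f ∈ F, ρU f u = u) → u = 0 := by
      intro u hu
      apply Subtype.ext
      apply hCF
      intro f hf
      exact congrArg Subtype.val (hu f hf)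
    have hCFQ : ∀ x : V ⧸ U, (∀ f ∈ F, ρQ f x = x) → x = 0 := by
      intro x hx
      obtain ⟨v, rfl⟩ := Submodule.mkQ_surjective U x
      have hv : ∀ f ∈ F, ρ f v - v ∈ U := fun f hf => (Submodule.Quotient.eq U).mp (hx f hf)
      apply (Submodule.Quotient.mk_eq_zero U).mpr
      intro z hz
      have hδ : ρ z v - v = 0 := by
        apply hCF
        intro f hf
        have hu : ρ f v - v ∈ U := hv f hf
        have hzu : ρ z (ρ f v - v) = ρ f v - v := hu z hz
        have hcomm : ρ f (ρ z v) = ρ z (ρ f v) := by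
          rw [← Module.End.mul_apply, ← Module.End.mul_apply, hZcomm z hz f hf]
        rw [map_sub, hcomm]
        rw [map_sub] at hzu
        -- ρ z (ρ f v) - ρ f v = ρ z v - v
        have : ρ z (ρ f v) = ρ f v - v + ρ z v := by
          rw [← hzu]; abel
        rw [this]; abel
      exact sub_eq_zero.mp hδ
    have h1 : HFree (fun h : H => ρU (h : G)) :=
      ih (finrank k U) (by omega) U ρU hCFU rfl
    have h2 : HFree (fun h : H => ρQ (h : G)) :=
      ih (finrank k (V ⧸ U)) (by omega) (V ⧸ U) ρQ hCFQ rfl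
    exact hfree_of_exact U.subtype U.mkQ Subtype.val_injective (Submodule.mkQ_surjective U)
      (by rw [Submodule.ker_mkQ, Submodule.range_subtype])
      (fun h : H => ρU (h : G)) (fun h : H => ρ (h : G)) (fun h : H => ρQ (h : G))
      (fun h u => rfl) (fun h v => rfl) h1 h2

end Cfsg.Agent.Helper3.SemiFreeF
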