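import Mathlib
import Cfsg.Agent.Helper3.SemiFreeF

set_option autoImplicit false

/-!
A Frobenius-type group `F ⋊ H` with `|H| = p` prime acting on a `p`-dimensional space without
`F`-fixed vectors: `F` acts through an abelian group.
-/

namespace Cfsg.Agent.Helper3.FrobActC

open Cfsg.Agent.Helper3.SemiFreeA Cfsg.Agent.Helper3.SemiFreeD Cfsg.Agent.Helper3.SemiFreeF
open scoped BigOperators
open Module

universe u v w

variable {G : Type u} [Group G] {k : Type v} [Field k] {V : Type w} [AddCommGroup V] [Module k V]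

/-- Restriction of a representation to an invariant submodule. -/
def subRep (ρ : Representation k G V) (W : Submodule k V) (hW : ∀ g : G, ∀ w ∈ W, ρ g w ∈ W) :
    Representation k G W where
  toFun g := (ρ g).restrict (hW g)
  map_one' := by
    apply LinearMap.ext
    intro w
    apply Subtype.ext
    rw [LinearMap.coe_restrict_apply, map_one]
    rfl
  map_mul' := by
    intro g h
    apply LinearMap.ext
    intro w
    apply Subtype.ext
    rw [LinearMap.coe_restrict_apply, map_mul]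
    rfl

theorem subRep_apply (ρ : Representation k G V) (W : Submodule k V)
    (hW : ∀ g : G, ∀ w ∈ W, ρ g w ∈ W) (g : G) (w : W) :
    ((subRep ρ W hW g w : W) : V) = ρ g w := rfl

/-- `W` is invariant under the subgroup `F`. -/
def FInv (ρ : Representation k G V) (F : Subgroup G) (W : Submodule k V) : Prop :=
  ∀ f ∈ F, W.map (ρ f) ≤ W

theorem FInv.mem {ρ : Representation k G V} {F : Subgroup G} {W : Submodule k V}
    (h : FInv ρ F W) {f : G} (hf : f ∈ F) {w : V} (hw : w ∈ W) : ρ f w ∈ W :=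
  h f hf (Submodule.mem_map_of_mem hw)

theorem finv_of_mem {ρ : Representation k G V} {F : Subgroup G} {W : Submodule k V}
    (h : ∀ f ∈ F, ∀ w ∈ W, ρ f w ∈ W) : FInv ρ F W := by
  intro f hf
  rw [Submodule.map_le_iff_le_comap]
  intro w hw
  exact h f hf w hw

theorem FInv.inf {ρ : Representation k G V} {F : Subgroup G} {W₁ W₂ : Submodule k V}
    (h₁ : FInv ρ F W₁) (h₂ : FInv ρ F W₂) : FInv ρ F (W₁ ⊓ W₂) :=
  finv_of_mem fun _ hf _ hw => ⟨h₁.mem hf hw.1, h₂.mem hf hw.2⟩

theorem FInv.iSup {ρ : Representation k G V} {F : Subgroup G} {ι : Sort*} {W : ι → Submodule k V}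
    (h : ∀ i, FInv ρ F (W i)) : FInv ρ F (⨆ i, W i) := by
  intro f hf
  rw [Submodule.map_iSup]
  exact iSup_le fun i => (h i f hf).trans (le_iSup W i)

theorem FInv.sup {ρ : Representation k G V} {F : Subgroup G} {W₁ W₂ : Submodule k V}
    (h₁ : FInv ρ F W₁) (h₂ : FInv ρ F W₂) : FInv ρ F (W₁ ⊔ W₂) := by
  intro f hf
  rw [Submodule.map_sup]
  exact sup_le ((h₁ f hf).trans le_sup_left) ((h₂ f hf).trans le_sup_right)

/-- Translates of an `F`-invariant subspace by elements normalizing `F` are invariant. -/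
theorem FInv.map {ρ : Representation k G V} {F : Subgroup G} [hF : F.Normal] {W : Submodule k V}
    (h : FInv ρ F W) (g : G) : FInv ρ F (W.map (ρ g)) := by
  apply finv_of_mem
  rintro f hf _ ⟨w, hw, rfl⟩
  have h1 : g⁻¹ * f * g ∈ F := by
    have := hF.conj_mem f hf g⁻¹
    simpa using this
  have h2 : ρ f (ρ g w) = ρ g (ρ (g⁻¹ * f * g) w) := by
    rw [← Module.End.mul_apply, ← Module.End.mul_apply, ← map_mul, ← map_mul]
    congr 2
    group
  rw [h2]
  exact Submodule.mem_map_of_mem (h.mem h1 hw)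

/-- `U` is a minimal nonzero `F`-invariant subspace. -/
def IsMinInv (ρ : Representation k G V) (F : Subgroup G) (U : Submodule k V) : Prop :=
  U ≠ ⊥ ∧ FInv ρ F U ∧ ∀ W : Submodule k V, FInv ρ F W → W ≤ U → W = ⊥ ∨ W = U

theorem map_map_inv (ρ : Representation k G V) (g : G) (W : Submodule k V) :
    (W.map (ρ g)).map (ρ g⁻¹) = W := by
  rw [← Submodule.map_comp]
  have : (ρ g⁻¹ : V →ₗ[k] V) ∘ₗ (ρ g) = LinearMap.id := by
    change ρ g⁻¹ * ρ g = 1
    rw [← map_mul, inv_mul_cancel, map_one]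
  rw [this, Submodule.map_id]

theorem IsMinInv.map {ρ : Representation k G V} {F : Subgroup G} [hF : F.Normal]
    {U : Submodule k V} (h : IsMinInv ρ F U) (g : G) : IsMinInv ρ F (U.map (ρ g)) := by
  obtain ⟨h1, h2, h3⟩ := h
  refine ⟨?_, h2.map g, ?_⟩
  · intro h0
    apply h1
    rw [← map_map_inv ρ g U, h0, Submodule.map_bot]
  · intro W hW hWle
    have h4 : W.map (ρ g⁻¹) ≤ U := by
      rw [← map_map_inv ρ g U]
      exact Submodule.map_mono hWle
    have h5 : W = (W.map (ρ g⁻¹)).map (ρ g) := by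
      have := map_map_inv ρ g⁻¹ W
      rw [inv_inv] at this
      exact this.symm
    rcases h3 _ (hW.map g⁻¹) h4 with h6 | h6
    · left; rw [h5, h6, Submodule.map_bot]
    · right; rw [h5, h6]

theorem finrank_map_eq (ρ : Representation k G V) (g : G) (W : Submodule k V) :
    finrank k ↥(W.map (ρ g)) = finrank k W := by
  have hinj : Function.Injective (ρ g) := by
    apply Function.LeftInverse.injective (g := ρ g⁻¹)
    intro v
    rw [← Module.End.mul_apply, ← map_mul, inv_mul_cancel, map_one, Module.End.one_apply]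
  exact (Submodule.equivMapOfInjective (ρ g) hinj W).finrank_eq.symm

section findim

variable [FiniteDimensional k V]

theorem exists_isMinInv [Nontrivial V] (ρ : Representation k G V) (F : Subgroup G) :
    ∃ U : Submodule k V, IsMinInv ρ F U := by
  classical
  let P : ℕ → Prop := fun n => ∃ W : Submodule k V, W ≠ ⊥ ∧ FInv ρ F W ∧ finrank k W = n
  have hP : ∃ n, P n := ⟨finrank k (⊤ : Submodule k V), ⊤, top_ne_bot,
    fun f _ => le_top, rfl⟩
  obtain ⟨U, hU1, hU2, hU3⟩ := Nat.find_spec hP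
  refine ⟨U, hU1, hU2, fun W hW hWU => ?_⟩
  by_cases hW0 : W = ⊥
  · exact Or.inl hW0
  · right
    have h1 : Nat.find hP ≤ finrank k W := Nat.find_min' hP ⟨W, hW0, hW, rfl⟩
    rw [← hU3] at h1
    exact Submodule.eq_of_le_of_finrank_le hWU h1

/-- The span of finitely many translates of a minimal invariant subspace has dimension a multiple
of `dim U`. -/
theorem finrank_iSup_finset {ρ : Representation k G V} {F : Subgroup G} [hF : F.Normal]
    {U : Submodule k V} (hU : IsMinInv ρ F U) {ι : Type*} (γ : ι → G) (T : Finset ι) :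
    FInv ρ F (⨆ i ∈ T, U.map (ρ (γ i))) ∧
      ∃ m : ℕ, finrank k ↥(⨆ i ∈ T, U.map (ρ (γ i))) = m * finrank k U := by
  classical
  induction T using Finset.induction_on with
  | empty =>
    refine ⟨?_, 0, ?_⟩
    · simp only [Finset.notMem_empty, iSup_false, iSup_bot]
      exact fun f _ => by rw [Submodule.map_bot]
    · simp
  | insert a T ha ih =>
    obtain ⟨ih1, m, ih2⟩ := ih
    rw [Finset.iSup_insert]
    set A := U.map (ρ (γ a)) with hA
    set B := ⨆ i ∈ T, U.map (ρ (γ i)) with hB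
    have hAmin : IsMinInv ρ F A := hU.map (γ a)
    refine ⟨hAmin.2.1.sup ih1, ?_⟩
    rcases hAmin.2.2 (A ⊓ B) (hAmin.2.1.inf ih1) inf_le_left with h0 | h0
    · refine ⟨m + 1, ?_⟩
      have h1 := Submodule.finrank_sup_add_finrank_inf_eq A B
      rw [h0, finrank_bot, add_zero, ih2, hA, finrank_map_eq] at h1
      rw [h1]; ring
    · refine ⟨m, ?_⟩
      have h1 : A ≤ B := by rw [← h0]; exact inf_le_right
      rw [sup_eq_right.mpr h1, ih2]

end findim

section main

variable [Finite G] [FiniteDimensional k V]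

/-- Invariant subspaces have dimension divisible by `|H|`. -/
theorem card_dvd_finrank (ρ : Representation k G V) (F H : Subgroup G) [hFn : F.Normal]
    (hnil : Group.IsNilpotent F)
    (hfpf : ∀ h ∈ H, h ≠ 1 → ∀ f ∈ F, h * f * h⁻¹ = f → f = 1)
    (hCF : ∀ v : V, (∀ f ∈ F, ρ f v = v) → v = 0)
    (W : Submodule k V) (hW : ∀ g : G, ∀ w ∈ W, ρ g w ∈ W) : Nat.card H ∣ finrank k W := by
  have h1 := nil_free (k := k) F H hnil hfpf (finrank k W) W (subRep ρ W hW) (by
    intro w hw
    apply Subtype.ext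
    apply hCF
    intro f hf
    have := congrArg Subtype.val (hw f hf)
    rwa [subRep_apply] at this) rfl
  obtain ⟨n, w, -, hn⟩ := h1
  exact ⟨n, hn.symm⟩

/-- The sum of the `H`-translates of a minimal `F`-invariant subspace is everything when
`dim V = |H|` is prime. -/
theorem iSup_translates_eq_top (ρ : Representation k G V) (F H : Subgroup G) [hFn : F.Normal]
    (hnil : Group.IsNilpotent F)
    (hfpf : ∀ h ∈ H, h ≠ 1 → ∀ f ∈ F, h * f * h⁻¹ = f → f = 1)
    (hFH : F ⊔ H = ⊤) (p : ℕ) (hH : Nat.card H = p) (hV : finrank k V = p)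
    (hCF : ∀ v : V, (∀ f ∈ F, ρ f v = v) → v = 0)
    (U : Submodule k V) (hU : IsMinInv ρ F U) : (⨆ h : H, U.map (ρ (h : G))) = ⊤ := by
  set S := ⨆ h : H, U.map (ρ (h : G)) with hS
  have hSF : FInv ρ F S := FInv.iSup fun h => hU.2.1.map (h : G)
  have hSH : ∀ h' ∈ H, ∀ w ∈ S, ρ h' w ∈ S := by
    intro h' hh' w hw
    have h1 : S.map (ρ h') ≤ S := by
      rw [hS, Submodule.map_iSup]
      apply iSup_le
      intro h
      have h2 : (U.map (ρ (h : G))).map (ρ h') = U.map (ρ ((⟨h', hh'⟩ * h : H) : G)) := by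
        rw [← Submodule.map_comp, Subgroup.coe_mul, map_mul]
        rfl
      rw [h2]
      exact le_iSup (fun h : H => U.map (ρ (h : G))) (⟨h', hh'⟩ * h)
    exact h1 (Submodule.mem_map_of_mem hw)
  have hSG : ∀ g : G, ∀ w ∈ S, ρ g w ∈ S := by
    intro g w hw
    have hg : g ∈ F ⊔ H := by rw [hFH]; trivial
    rw [← SetLike.mem_coe, Subgroup.normal_mul, Set.mem_mul] at hg
    obtain ⟨f, hf, h', hh', rfl⟩ := hg
    rw [map_mul, Module.End.mul_apply]
    exact hSF.mem hf (hSH h' hh' w hw)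
  have hdvd := card_dvd_finrank ρ F H hnil hfpf hCF S hSG
  rw [hH] at hdvd
  have hle : finrank k S ≤ p := by rw [← hV]; exact Submodule.finrank_le S
  have hSne : S ≠ ⊥ := by
    intro h0
    apply hU.1
    have h1 : U.map (ρ ((1 : H) : G)) ≤ S := le_iSup (fun h : H => U.map (ρ (h : G))) 1
    rw [h0, Subgroup.coe_one, map_one] at h1
    have h2 : U.map (1 : Module.End k V) = U := Submodule.map_id U
    rw [h2] at h1
    exact le_bot_iff.mp h1
  have hpos : 0 < finrank k S := by
    rw [Nat.pos_iff_ne_zero]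
    intro h0
    exact hSne (Submodule.finrank_eq_zero.mp h0)
  have heq : finrank k S = p := le_antisymm hle (Nat.le_of_dvd hpos hdvd)
  apply Submodule.eq_top_of_finrank_eq
  rw [heq, hV]

/-- Case of one-dimensional minimal subspaces. -/
theorem comm_of_lines (ρ : Representation k G V) (F : Subgroup G) {ι : Type*}
    (W : ι → Submodule k V) (hW : ∀ i, FInv ρ F (W i)) (h1 : ∀ i, finrank k (W i) = 1)
    (htop : (⨆ i, W i) = ⊤) : ∀ a ∈ F, ∀ b ∈ F, ρ a * ρ b = ρ b * ρ a := by
  intro a ha b hb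
  have hle : (⨆ i, W i) ≤ LinearMap.eqLocus (ρ a * ρ b) (ρ b * ρ a) := by
    apply iSup_le
    intro i w hw
    rw [LinearMap.mem_eqLocus, Module.End.mul_apply, Module.End.mul_apply]
    obtain ⟨e, -, he⟩ := finrank_eq_one_iff'.mp (h1 i)
    obtain ⟨c, hc⟩ := he ⟨w, hw⟩
    obtain ⟨α, hα⟩ := he ⟨ρ a e, (hW i).mem ha e.2⟩
    obtain ⟨β, hβ⟩ := he ⟨ρ b e, (hW i).mem hb e.2⟩
    have hc' : w = c • (e : V) := by
      have := congrArg Subtype.val hc
      simpa using this.symm
    have hα' : ρ a (e : V) = α • (e : V) := by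
      have := congrArg Subtype.val hα
      simpa using this.symm
    have hβ' : ρ b (e : V) = β • (e : V) := by
      have := congrArg Subtype.val hβ
      simpa using this.symm
    rw [hc', map_smul, map_smul, map_smul, map_smul, hβ', hα', map_smul, map_smul, hα', hβ',
      smul_smul, smul_smul, smul_smul, smul_smul]
    congr 1
    ring
  rw [htop] at hle
  apply LinearMap.ext
  intro v
  exact hle (Submodule.mem_top : v ∈ ⊤)

/-- A nilpotent group acting nontrivially has a central element acting nontrivially. -/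
theorem exists_central (ρ : Representation k G V) (F : Subgroup G) (hnil : Group.IsNilpotent F)
    (hF1 : ∃ f ∈ F, ρ f ≠ 1) :
    ∃ z₀ ∈ F, ρ z₀ ≠ 1 ∧ ∀ f ∈ F, ρ z₀ * ρ f = ρ f * ρ z₀ := by
  classical
  set ρ' := ρ.asGroupHom with hρ'
  have hρ'v : ∀ g : G, ((ρ' g : (Module.End k V)ˣ) : Module.End k V) = ρ g := fun g => rfl
  have hρ'1 : ∀ g : G, ρ' g = 1 ↔ ρ g = 1 := by
    intro g
    rw [Units.ext_iff, hρ'v, Units.val_one]
  set Fb : Subgroup (Module.End k V)ˣ := F.map ρ' with hFb
  haveI := hnil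
  haveI : Group.IsNilpotent Fb :=
    Group.nilpotent_of_surjective (ρ'.subgroupMap F) (ρ'.subgroupMap_surjective F)
  haveI : Finite Fb := Finite.of_surjective (ρ'.subgroupMap F) (ρ'.subgroupMap_surjective F)
  haveI : Nontrivial Fb := by
    obtain ⟨f, hf, hf1⟩ := hF1
    refine ⟨⟨⟨ρ' f, Subgroup.mem_map_of_mem ρ' hf⟩, 1, ?_⟩⟩
    intro h
    apply hf1
    rw [← hρ'1]
    exact congrArg Subtype.val h
  have hcne : Subgroup.center Fb ≠ ⊥ := Group.IsNilpotent.center_ne_bot Fb
  obtain ⟨x, hx, hx1⟩ : ∃ x : Fb, x ∈ Subgroup.center Fb ∧ x ≠ 1 := by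
    obtain ⟨x, hx⟩ := (Subgroup.ne_bot_iff_exists_ne_one).mp hcne
    exact ⟨(x : Fb), x.2, fun h => hx (Subtype.ext h)⟩
  obtain ⟨z₀, hz₀F, hz₀⟩ : ∃ z₀ ∈ F, ρ' z₀ = ((x : Fb) : (Module.End k V)ˣ) := x.2
  refine ⟨z₀, hz₀F, ?_, ?_⟩
  · intro h1
    apply hx1
    apply Subtype.ext
    rw [← hz₀, (hρ'1 z₀).mpr h1]
    rfl
  · intro f hf
    have h1 := Subgroup.mem_center_iff.mp hx ⟨ρ' f, Subgroup.mem_map_of_mem ρ' hf⟩
    have h2 := congrArg (fun y : Fb => ((y : (Module.End k V)ˣ) : Module.End k V)) h1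
    simp only [Subgroup.coe_mul, Units.val_mul] at h2
    rw [← hρ'v, hz₀, ← hρ'v f]
    exact h2.symm

/-- A commutative subalgebra of `End V` all of whose nonzero elements are injective, with an
automorphism of order `p`, has dimension at least `p`. -/
theorem orderOf_le_finrank [Nontrivial V]
    (B : Subalgebra k (Module.End k V)) (hc : ∀ a ∈ B, ∀ b ∈ B, a * b = b * a)
    (hinj : ∀ b ∈ B, b ≠ 0 → Function.Injective b) (σ : B ≃ₐ[k] B) :
    orderOf σ ≤ finrank k B := by
  classical
  let _ : CommRing B :=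
    { (inferInstance : Ring B) with mul_comm := fun a b => Subtype.ext (hc a a.2 b b.2) }
  have : IsDomain B := by
    have : NoZeroDivisors B := by
      constructor
      intro a b hab
      by_cases ha : a = 0
      · exact Or.inl ha
      · right
        have h1 : (a : Module.End k V) ≠ 0 := fun h => ha (Subtype.ext h)
        have h2 := hinj a a.2 h1
        apply Subtype.ext
        apply LinearMap.ext
        intro v
        apply h2
        have := congrArg (fun x : B => (x : Module.End k V) v) hab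
        simpa using this
    exact NoZeroDivisors.to_isDomain B
  let _ : Field B := fieldOfFiniteDimensional k B
  have h1 : Fintype.card (B ≃ₐ[k] B) ≤ finrank k B := AlgEquiv.card_le
  have h2 : orderOf σ ≤ Fintype.card (B ≃ₐ[k] B) := orderOf_le_card_univ
  omega

/-- Conjugation by a unit preserving the subalgebra `B`. -/
def conjAlgEquiv (B : Subalgebra k (Module.End k V)) (u : (Module.End k V)ˣ)
    (h1 : ∀ b ∈ B, (u : Module.End k V) * b * ((u⁻¹ : (Module.End k V)ˣ) : Module.End k V) ∈ B)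
    (h2 : ∀ b ∈ B, ((u⁻¹ : (Module.End k V)ˣ) : Module.End k V) * b * (u : Module.End k V) ∈ B) :
    B ≃ₐ[k] B where
  toFun b := ⟨(u : Module.End k V) * b * ((u⁻¹ : (Module.End k V)ˣ) : Module.End k V), h1 b b.2⟩
  invFun b := ⟨((u⁻¹ : (Module.End k V)ˣ) : Module.End k V) * b * (u : Module.End k V), h2 b b.2⟩
  left_inv b := by
    apply Subtype.ext
    change ((u⁻¹ : (Module.End k V)ˣ) : Module.End k V) *
      ((u : Module.End k V) * b * ((u⁻¹ : (Module.End k V)ˣ) : Module.End k V)) *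
        (u : Module.End k V) = b
    rw [← mul_assoc, ← mul_assoc, Units.inv_mul, one_mul, mul_assoc, Units.inv_mul, mul_one]
  right_inv b := by
    apply Subtype.ext
    change (u : Module.End k V) *
      (((u⁻¹ : (Module.End k V)ˣ) : Module.End k V) * b * (u : Module.End k V)) *
        ((u⁻¹ : (Module.End k V)ˣ) : Module.End k V) = b
    rw [← mul_assoc, ← mul_assoc, Units.mul_inv, one_mul, mul_assoc, Units.mul_inv, mul_one]
  map_mul' a b := by
    apply Subtype.ext
    change (u : Module.End k V) * ((a : Module.End k V) * b) *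
      ((u⁻¹ : (Module.End k V)ˣ) : Module.End k V) =
      ((u : Module.End k V) * a * ((u⁻¹ : (Module.End k V)ˣ) : Module.End k V)) *
        ((u : Module.End k V) * b * ((u⁻¹ : (Module.End k V)ˣ) : Module.End k V))
    have : ((u⁻¹ : (Module.End k V)ˣ) : Module.End k V) * (u : Module.End k V) = 1 :=
      Units.inv_mul u
    calc (u : Module.End k V) * ((a : Module.End k V) * b) *
        ((u⁻¹ : (Module.End k V)ˣ) : Module.End k V)
        = (u : Module.End k V) * a * 1 * b * ((u⁻¹ : (Module.End k V)ˣ) : Module.End k V) := by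
          rw [mul_one]; simp only [mul_assoc]
      _ = _ := by rw [← this]; simp only [mul_assoc]
  map_add' a b := by
    apply Subtype.ext
    change (u : Module.End k V) * ((a : Module.End k V) + b) *
      ((u⁻¹ : (Module.End k V)ˣ) : Module.End k V) = _
    rw [mul_add, add_mul]
    rfl
  commutes' c := by
    apply Subtype.ext
    change (u : Module.End k V) * (algebraMap k (Module.End k V) c) *
      ((u⁻¹ : (Module.End k V)ˣ) : Module.End k V) = algebraMap k (Module.End k V) c
    rw [← Algebra.commutes, mul_assoc, Units.mul_inv, mul_one]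

theorem conjAlgEquiv_apply (B : Subalgebra k (Module.End k V)) (u : (Module.End k V)ˣ)
    (h1 : ∀ b ∈ B, (u : Module.End k V) * b * ((u⁻¹ : (Module.End k V)ˣ) : Module.End k V) ∈ B)
    (h2 : ∀ b ∈ B, ((u⁻¹ : (Module.End k V)ˣ) : Module.End k V) * b * (u : Module.End k V) ∈ B)
    (b : B) : ((conjAlgEquiv B u h1 h2 b : B) : Module.End k V) =
      (u : Module.End k V) * b * ((u⁻¹ : (Module.End k V)ˣ) : Module.End k V) := rfl

theorem conjAlgEquiv_pow_apply (B : Subalgebra k (Module.End k V)) (u : (Module.End k V)ˣ)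
    (h1 : ∀ b ∈ B, (u : Module.End k V) * b * ((u⁻¹ : (Module.End k V)ˣ) : Module.End k V) ∈ B)
    (h2 : ∀ b ∈ B, ((u⁻¹ : (Module.End k V)ˣ) : Module.End k V) * b * (u : Module.End k V) ∈ B)
    (j : ℕ) (b : B) : (((conjAlgEquiv B u h1 h2 ^ j) b : B) : Module.End k V) =
      ((u ^ j : (Module.End k V)ˣ) : Module.End k V) * b *
        (((u ^ j)⁻¹ : (Module.End k V)ˣ) : Module.End k V) := by
  induction j generalizing b with
  | zero => simp
  | succ j ih =>
    rw [pow_succ', AlgEquiv.mul_apply, conjAlgEquiv_apply, ih, pow_succ', mul_inv_rev,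
      Units.val_mul, Units.val_mul]
    simp only [mul_assoc]

/-- The irreducible case. -/
theorem comm_of_irred (ρ : Representation k G V) (F H : Subgroup G) [hFn : F.Normal]
    (hnil : Group.IsNilpotent F)
    (hfpf : ∀ h ∈ H, h ≠ 1 → ∀ f ∈ F, h * f * h⁻¹ = f → f = 1)
    (p : ℕ) (hp : p.Prime) (hH : Nat.card H = p) (hV : finrank k V = p)
    (hirr : ∀ W : Submodule k V, FInv ρ F W → W = ⊥ ∨ W = ⊤)
    (hF1 : ∃ f ∈ F, ρ f ≠ 1) : ∀ a ∈ F, ∀ b ∈ F, ρ a * ρ b = ρ b * ρ a := by
  classical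
  haveI : Fact p.Prime := ⟨hp⟩
  have hVnt : Nontrivial V := by
    apply Module.nontrivial_of_finrank_pos (R := k)
    rw [hV]; exact hp.pos
  set ρ' := ρ.asGroupHom with hρ'
  have hρ'v : ∀ g : G, ((ρ' g : (Module.End k V)ˣ) : Module.End k V) = ρ g := fun g => rfl
  have hρ'inv : ∀ g : G, (((ρ' g)⁻¹ : (Module.End k V)ˣ) : Module.End k V) = ρ g⁻¹ := by
    intro g
    rw [← map_inv, hρ'v]
  obtain ⟨z₀, hz₀F, hz₀1, hz₀c⟩ := exists_central ρ F hnil hF1
  -- the subgroup `Z`
  let Z : Subgroup G :=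
    { carrier := {g | g ∈ F ∧ ∀ f ∈ F, ρ g * ρ f = ρ f * ρ g}
      one_mem' := ⟨F.one_mem, fun f _ => by rw [map_one, one_mul, mul_one]⟩
      mul_mem' := by
        rintro a b ⟨haF, hac⟩ ⟨hbF, hbc⟩
        refine ⟨F.mul_mem haF hbF, fun f hf => ?_⟩
        rw [map_mul, mul_assoc, hbc f hf, ← mul_assoc, hac f hf, mul_assoc]
      inv_mem' := by
        rintro a ⟨haF, hac⟩
        refine ⟨F.inv_mem haF, fun f hf => ?_⟩
        have h1 : ρ a⁻¹ * ρ a = 1 := by rw [← map_mul, inv_mul_cancel, map_one]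
        have h2 : ρ a * ρ a⁻¹ = 1 := by rw [← map_mul, mul_inv_cancel, map_one]
        calc ρ a⁻¹ * ρ f = ρ a⁻¹ * ρ f * (ρ a * ρ a⁻¹) := by rw [h2, mul_one]
          _ = ρ a⁻¹ * (ρ f * ρ a) * ρ a⁻¹ := by simp only [mul_assoc]
          _ = ρ a⁻¹ * (ρ a * ρ f) * ρ a⁻¹ := by rw [hac f hf]
          _ = (ρ a⁻¹ * ρ a) * ρ f * ρ a⁻¹ := by simp only [mul_assoc]
          _ = ρ f * ρ a⁻¹ := by rw [h1, one_mul] }
  have hZmem : ∀ g : G, g ∈ Z ↔ g ∈ F ∧ ∀ f ∈ F, ρ g * ρ f = ρ f * ρ g := fun g => Iff.rfl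
  have hZn : ∀ (g z : G), z ∈ Z → g * z * g⁻¹ ∈ Z := by
    rintro g z ⟨hzF, hzc⟩
    refine ⟨hFn.conj_mem z hzF g, fun f hf => ?_⟩
    have h2 : g⁻¹ * f * g ∈ F := by
      have := hFn.conj_mem f hf g⁻¹
      simpa using this
    have h3 := hzc _ h2
    have h4 : ρ (g * z * g⁻¹) * ρ f = ρ g * (ρ z * ρ (g⁻¹ * f * g)) * ρ g⁻¹ := by
      rw [← map_mul, ← map_mul, ← map_mul, ← map_mul]
      congr 1
      group
    have h5 : ρ f * ρ (g * z * g⁻¹) = ρ g * (ρ (g⁻¹ * f * g) * ρ z) * ρ g⁻¹ := by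
      rw [← map_mul, ← map_mul, ← map_mul, ← map_mul]
      congr 1
      group
    rw [h4, h5, h3]
  have hz₀Z : z₀ ∈ Z := ⟨hz₀F, hz₀c⟩
  -- the algebra `B`
  set gens : Set (Module.End k V) := {b | ∃ z ∈ Z, ρ z = b} with hgens
  set B : Subalgebra k (Module.End k V) := Algebra.adjoin k gens with hB
  have hBF : ∀ b ∈ B, ∀ f ∈ F, ρ f * b = b * ρ f := by
    intro b hb f hf
    have hle : B ≤ Subalgebra.centralizer k {ρ f} := by
      apply Algebra.adjoin_le
      rintro _ ⟨z, hz, rfl⟩
      rw [SetLike.mem_coe, Subalgebra.mem_centralizer_iff]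
      intro y hy
      rw [Set.mem_singleton_iff] at hy
      rw [hy]
      exact (hz.2 f hf).symm
    exact (Subalgebra.mem_centralizer_iff k).mp (hle hb) _ rfl
  have hBgen : ∀ b ∈ B, ∀ z ∈ Z, ρ z * b = b * ρ z := fun b hb z hz => hBF b hb z hz.1
  have hBcomm : ∀ a ∈ B, ∀ b ∈ B, a * b = b * a := by
    intro a ha b hb
    have hle : B ≤ Subalgebra.centralizer k {a} := by
      apply Algebra.adjoin_le
      rintro _ ⟨z, hz, rfl⟩
      rw [SetLike.mem_coe, Subalgebra.mem_centralizer_iff]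
      intro y hy
      rw [Set.mem_singleton_iff] at hy
      rw [hy]
      exact (hBgen a ha z hz).symm
    exact (Subalgebra.mem_centralizer_iff k).mp (hle hb) _ rfl
  have hBinj : ∀ b ∈ B, b ≠ 0 → Function.Injective b := by
    intro b hb hb0
    have hinv : FInv ρ F (LinearMap.ker b) := by
      apply finv_of_mem
      intro f hf w hw
      rw [LinearMap.mem_ker] at hw ⊢
      rw [← Module.End.mul_apply, ← hBF b hb f hf, Module.End.mul_apply, hw, map_zero]
    rcases hirr _ hinv with h | h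
    · exact LinearMap.ker_eq_bot.mp h
    · exfalso
      apply hb0
      apply LinearMap.ext
      intro v
      have : v ∈ LinearMap.ker b := by rw [h]; trivial
      simpa using this
  have hBconj : ∀ g : G, ∀ b ∈ B, ρ g * b * ρ g⁻¹ ∈ B := by
    intro g b hb
    have h1 : ρ g * ρ g⁻¹ = 1 := by rw [← map_mul, mul_inv_cancel, map_one]
    have h2 : ρ g⁻¹ * ρ g = 1 := by rw [← map_mul, inv_mul_cancel, map_one]
    induction hb using Algebra.adjoin_induction with
    | mem x hx =>
      obtain ⟨z, hz, rfl⟩ := hx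
      apply Algebra.subset_adjoin
      exact ⟨g * z * g⁻¹, hZn g z hz, by rw [map_mul, map_mul]⟩
    | algebraMap c =>
      rw [← Algebra.commutes, mul_assoc, h1, mul_one]
      exact B.algebraMap_mem c
    | add x y _ _ hx hy =>
      rw [mul_add, add_mul]
      exact B.add_mem hx hy
    | mul x y _ _ hx hy =>
      have : ρ g * (x * y) * ρ g⁻¹ = (ρ g * x * ρ g⁻¹) * (ρ g * y * ρ g⁻¹) := by
        calc ρ g * (x * y) * ρ g⁻¹ = ρ g * x * 1 * y * ρ g⁻¹ := by
              rw [mul_one]; simp only [mul_assoc]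
          _ = _ := by rw [← h2]; simp only [mul_assoc]
      rw [this]
      exact B.mul_mem hx hy
  -- an element of order `p` in `H`
  have hHnt : Nontrivial H := by
    rw [← Finite.one_lt_card_iff_nontrivial, hH]
    exact hp.one_lt
  obtain ⟨x, hx1⟩ := exists_ne (1 : H)
  have hxG1 : (x : G) ≠ 1 := fun h => hx1 (Subtype.ext h)
  have hxp : (x : G) ^ p = 1 := by
    have : x ^ p = 1 := by rw [← hH]; exact pow_card_eq_one'
    exact_mod_cast congrArg Subtype.val this
  -- `x` moves `z₀` modulo the kernel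
  have hmove : ρ ((x : G) * z₀ * (x : G)⁻¹) ≠ ρ z₀ := by
    intro heq
    haveI : Finite F := inferInstance
    have hN : (MonoidHom.ker ρ').Normal := inferInstance
    have h1 := fpf_mod_normal F (MonoidHom.ker ρ') (x : G)
      (fun f hf => hFn.conj_mem f hf _) (hfpf x x.2 hxG1) z₀ hz₀F (by
        rw [MonoidHom.mem_ker]
        apply Units.ext
        rw [hρ'v, Units.val_one, map_mul, heq, ← map_mul, inv_mul_cancel, map_one])
    apply hz₀1
    rw [MonoidHom.mem_ker] at h1
    have := congrArg Units.val h1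
    rwa [hρ'v, Units.val_one] at this
  -- the automorphism `σ`
  set u := ρ' (x : G) with hu
  have hu1 : ∀ b ∈ B, (u : Module.End k V) * b *
      ((u⁻¹ : (Module.End k V)ˣ) : Module.End k V) ∈ B := by
    intro b hb
    rw [hu, hρ'inv, hρ'v]
    exact hBconj _ b hb
  have hu2 : ∀ b ∈ B, ((u⁻¹ : (Module.End k V)ˣ) : Module.End k V) * b *
      (u : Module.End k V) ∈ B := by
    intro b hb
    rw [hu, hρ'inv, hρ'v]
    have := hBconj (x : G)⁻¹ b hb
    rwa [inv_inv] at this
  set σ := conjAlgEquiv B u hu1 hu2 with hσ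
  have hσp : σ ^ p = 1 := by
    apply AlgEquiv.ext
    intro b
    apply Subtype.ext
    rw [conjAlgEquiv_pow_apply]
    have : u ^ p = 1 := by rw [hu, ← map_pow, hxp, map_one]
    rw [this, inv_one, Units.val_one, one_mul, mul_one]
    rfl
  have hσ1 : σ ≠ 1 := by
    intro h1
    apply hmove
    have hzB : ρ z₀ ∈ B := Algebra.subset_adjoin ⟨z₀, hz₀Z, rfl⟩
    have h2 := congrArg (fun τ : B ≃ₐ[k] B => ((τ ⟨ρ z₀, hzB⟩ : B) : Module.End k V)) h1
    simp only [AlgEquiv.one_apply] at h2
    rw [hσ, conjAlgEquiv_apply, hu, hρ'inv, hρ'v] at h2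
    rw [map_mul, map_mul]
    exact h2
  have hord : orderOf σ = p := orderOf_eq_prime hσp hσ1
  have hpB : p ≤ finrank k B := by
    rw [← hord]
    exact orderOf_le_finrank B hBcomm hBinj σ
  -- evaluation at a nonzero vector
  obtain ⟨v₀, hv₀⟩ := exists_ne (0 : V)
  let ev : B →ₗ[k] V :=
    { toFun := fun b => (b : Module.End k V) v₀
      map_add' := fun a b => by simp
      map_smul' := fun c b => by simp }
  have hevinj : Function.Injective ev := by
    rw [← LinearMap.ker_eq_bot, LinearMap.ker_eq_bot']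
    intro b hb
    by_contra hb0
    have h1 : (b : Module.End k V) ≠ 0 := fun h => hb0 (Subtype.ext h)
    have h2 := hBinj b b.2 h1
    apply hv₀
    apply h2
    rw [map_zero]
    exact hb
  have hevsurj : Function.Surjective ev := by
    have h1 : finrank k B = finrank k V := by
      apply le_antisymm (LinearMap.finrank_le_finrank_of_injective hevinj)
      rw [hV]; exact hpB
    exact (LinearMap.injective_iff_surjective_of_finrank_eq_finrank h1).mp hevinj
  -- conclusion
  intro a ha b hb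
  apply LinearMap.ext
  intro v
  obtain ⟨c, rfl⟩ := hevsurj v
  obtain ⟨ca, hca⟩ := hevsurj (ρ a v₀)
  obtain ⟨cb, hcb⟩ := hevsurj (ρ b v₀)
  change (ρ a * ρ b) ((c : Module.End k V) v₀) = (ρ b * ρ a) ((c : Module.End k V) v₀)
  have hca' : (ca : Module.End k V) v₀ = ρ a v₀ := hca
  have hcb' : (cb : Module.End k V) v₀ = ρ b v₀ := hcb
  have e1 : ∀ (f : G), f ∈ F → ∀ cf : Module.End k V, cf ∈ B → cf v₀ = ρ f v₀ →
      ∀ d : Module.End k V, d ∈ B → ρ f (d v₀) = (d * cf) v₀ := by
    intro f hf cf _ hcf d hd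
    rw [← Module.End.mul_apply, hBF d hd f hf, Module.End.mul_apply, Module.End.mul_apply, hcf]
  rw [Module.End.mul_apply, Module.End.mul_apply,
    e1 b hb cb cb.2 hcb' c c.2, e1 a ha ca ca.2 hca' _ (B.mul_mem c.2 cb.2),
    e1 a ha ca ca.2 hca' c c.2, e1 b hb cb cb.2 hcb' _ (B.mul_mem c.2 ca.2),
    mul_assoc, mul_assoc, hBcomm _ cb.2 _ ca.2]

/-- **Main theorem.** `F ⋊ H` with `F` nilpotent, `|H| = p` prime acting fixed-point-freely on
`F`, acting on a space of dimension `p` on which `F` has no nonzero fixed vector: the image of `F`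
is abelian. -/
theorem comm_of_finrank_eq_prime (ρ : Representation k G V) (F H : Subgroup G) [hFn : F.Normal]
    (hnil : Group.IsNilpotent F)
    (hfpf : ∀ h ∈ H, h ≠ 1 → ∀ f ∈ F, h * f * h⁻¹ = f → f = 1)
    (hFH : F ⊔ H = ⊤) (p : ℕ) (hp : p.Prime) (hH : Nat.card H = p) (hV : finrank k V = p)
    (hCF : ∀ v : V, (∀ f ∈ F, ρ f v = v) → v = 0) :
    ∀ a ∈ F, ∀ b ∈ F, ρ a * ρ b = ρ b * ρ a := by
  classical
  have hVnt : Nontrivial V := by
    apply Module.nontrivial_of_finrank_pos (R := k)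
    rw [hV]; exact hp.pos
  cases nonempty_fintype H
  obtain ⟨U, hU⟩ := exists_isMinInv ρ F
  have htop := iSup_translates_eq_top ρ F H hnil hfpf hFH p hH hV hCF U hU
  obtain ⟨-, m, hm⟩ := finrank_iSup_finset hU (fun h : H => (h : G)) Finset.univ
  have h1 : (⨆ i ∈ (Finset.univ : Finset H), U.map (ρ ((fun h : H => (h : G)) i))) =
      ⨆ h : H, U.map (ρ (h : G)) := by
    simp only [Finset.mem_univ, iSup_pos]
  rw [h1, htop, finrank_top, hV] at hm
  have hd : finrank k U ∣ p := ⟨m, by rw [hm, mul_comm]⟩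
  rcases (Nat.dvd_prime hp).mp hd with h1 | hpU
  · exact comm_of_lines ρ F (fun h : H => U.map (ρ (h : G))) (fun h => hU.2.1.map (h : G))
      (fun h => by rw [finrank_map_eq, h1]) htop
  · have hUtop : U = ⊤ := by
      apply Submodule.eq_top_of_finrank_eq
      rw [hpU, hV]
    have hirr : ∀ W : Submodule k V, FInv ρ F W → W = ⊥ ∨ W = ⊤ := by
      intro W hW
      have := hU.2.2 W hW (by rw [hUtop]; exact le_top)
      rwa [hUtop] at this
    have hF1 : ∃ f ∈ F, ρ f ≠ 1 := by
      by_contra hno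
      push Not at hno
      obtain ⟨v, hv⟩ := exists_ne (0 : V)
      apply hv
      apply hCF
      intro f hf
      rw [hno f hf, Module.End.one_apply]
    exact comm_of_irred ρ F H hnil hfpf p hp hH hV hirr hF1

end main

end Cfsg.Agent.Helper3.FrobActC
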