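import Mathlib
import Cfsg.Agent.Helper3.FrobActA
import Cfsg.Agent.Helper3.FrobActC

set_option autoImplicit false

/-!
Elementary abelian groups with operators as modules over `ZMod r`; the fixed points of `H` in a free
`H`-module.
-/

namespace Cfsg.Agent.Helper3.FrobActB

open Cfsg.Agent.Helper3.SemiFreeA Cfsg.Agent.Helper3.SemiFreeF Cfsg.Agent.Helper3.FrobActA
  Cfsg.Agent.Helper3.FrobActC
open scoped BigOperators
open Module

universe u v w

section linear

variable {k : Type u} [Field k] {V : Type v} [AddCommGroup V] [Module k V]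
  {H : Type w} [Group H]

/-- The subspace of vectors fixed by all `T h`. -/
def fixedSub (T : H →* Module.End k V) : Submodule k V where
  carrier := {v | ∀ h, T h v = v}
  add_mem' := fun {a b} ha hb h => by rw [map_add, ha h, hb h]
  zero_mem' := fun h => map_zero _
  smul_mem' := fun c a ha h => by rw [map_smul, ha h]

theorem mem_fixedSub {T : H →* Module.End k V} {v : V} : v ∈ fixedSub T ↔ ∀ h, T h v = v := Iff.rfl

variable [FiniteDimensional k V] [Finite H]

theorem finrank_fixed_of_hfree (T : H →* Module.End k V) (hfree : HFree (fun h => T h)) :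
    finrank k (fixedSub T) * Nat.card H = finrank k V := by
  classical
  cases nonempty_fintype H
  obtain ⟨n, w, hspan, hcard⟩ := hfree
  have hcard' : Fintype.card (H × Fin n) = finrank k V := by
    rw [Fintype.card_prod, Fintype.card_fin, ← Nat.card_eq_fintype_card, hcard]
  set b : Basis (H × Fin n) k V :=
    basisOfTopLeSpanOfCardEqFinrank (fun p : H × Fin n => T p.1 (w p.2)) hspan.ge hcard' with hb
  have hbv : ∀ p : H × Fin n, b p = T p.1 (w p.2) := by
    intro p
    rw [hb, coe_basisOfTopLeSpanOfCardEqFinrank]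
  have hTb : ∀ (h' : H) (p : H × Fin n), T h' (b p) = b (h' * p.1, p.2) := by
    intro h' p
    rw [hbv, hbv, ← Module.End.mul_apply, ← map_mul]
  -- coordinates of `T h' v`
  have hcoord : ∀ (h' : H) (v : V) (h : H) (i : Fin n),
      b.repr (T h' v) (h' * h, i) = b.repr v (h, i) := by
    intro h' v h i
    have : (Finsupp.lapply (h' * h, i) ∘ₗ (b.repr : V →ₗ[k] (H × Fin n →₀ k)) ∘ₗ T h') =
        (Finsupp.lapply (h, i) ∘ₗ (b.repr : V →ₗ[k] (H × Fin n →₀ k))) := by
      apply b.ext
      intro p
      simp only [LinearMap.comp_apply, LinearEquiv.coe_coe, Finsupp.lapply_apply, hTb,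
        Basis.repr_self]
      rw [Finsupp.single_apply, Finsupp.single_apply]
      congr 1
      rw [Prod.ext_iff, Prod.ext_iff]
      simp
    exact LinearMap.congr_fun this v
  -- the coordinate map on the fixed space
  let Φ : fixedSub T →ₗ[k] (Fin n → k) :=
    { toFun := fun v i => b.repr (v : V) (1, i)
      map_add' := fun a c => by ext i; simp
      map_smul' := fun c a => by ext i; simp }
  have hconst : ∀ v ∈ fixedSub T, ∀ (h : H) (i : Fin n), b.repr v (h, i) = b.repr v (1, i) := by
    intro v hv h i
    have := hcoord h v 1 i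
    rw [hv h, mul_one] at this
    exact this
  have hΦinj : Function.Injective Φ := by
    rw [← LinearMap.ker_eq_bot, LinearMap.ker_eq_bot']
    intro v hv
    apply Subtype.ext
    rw [Submodule.coe_zero]
    apply b.repr.injective
    rw [map_zero]
    ext ⟨h, i⟩
    rw [hconst v v.2 h i]
    exact congrFun hv i
  have hΦsurj : Function.Surjective Φ := by
    intro c
    set v : V := ∑ p : H × Fin n, c p.2 • b p with hv
    have hvfix : v ∈ fixedSub T := by
      intro h'
      rw [hv, map_sum]
      simp only [map_smul, hTb]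
      exact Fintype.sum_equiv ((Equiv.mulLeft h').prodCongr (Equiv.refl _)) _ _ (fun p => rfl)
    refine ⟨⟨v, hvfix⟩, ?_⟩
    ext i
    change b.repr v (1, i) = c i
    rw [hv, map_sum]
    simp only [map_smul, Basis.repr_self, Finsupp.coe_finsetSum, Finsupp.coe_smul,
      Finset.sum_apply, Pi.smul_apply, Finsupp.single_apply, smul_eq_mul, mul_ite, mul_one,
      mul_zero]
    rw [Finset.sum_eq_single (1, i)]
    · simp
    · intro p _ hp
      rw [if_neg hp]
    · intro h
      exact absurd (Finset.mem_univ _) h
  have hfr : finrank k (fixedSub T) = n := by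
    rw [LinearEquiv.finrank_eq (LinearEquiv.ofBijective Φ ⟨hΦinj, hΦsurj⟩), Module.finrank_fin_fun]
  rw [hfr, mul_comm, hcard]

end linear

section elem

variable {G : Type u} [Group G] {A : Type v} [CommGroup A] (r : ℕ)
  [Module (ZMod r) (Additive A)]

/-- The representation on an elementary abelian group, written additively. -/
noncomputable def rep (ψ : G →* MulAut A) : Representation (ZMod r) G (Additive A) where
  toFun g := (MonoidHom.toAdditive ((ψ g : A ≃* A) : A →* A)).toZModLinearMap r
  map_one' := by
    apply LinearMap.ext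
    intro a
    change Additive.ofMul (ψ 1 (Additive.toMul a)) = a
    rw [map_one]; rfl
  map_mul' := by
    intro g h
    apply LinearMap.ext
    intro a
    change Additive.ofMul (ψ (g * h) (Additive.toMul a)) =
      Additive.ofMul (ψ g (ψ h (Additive.toMul a)))
    rw [map_mul]; rfl

theorem rep_apply (ψ : G →* MulAut A) (g : G) (a : Additive A) :
    rep r ψ g a = Additive.ofMul (ψ g (Additive.toMul a)) := rfl

variable [Finite G] [Finite A] [hr : Fact r.Prime]

theorem card_fixedSub (ψ : G →* MulAut A) (H : Subgroup G) :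
    Nat.card (fixedSub ((rep r ψ).comp H.subtype)) = Nat.card (fix ψ H) := by
  apply Nat.card_congr
  exact
    { toFun := fun v => ⟨Additive.toMul (v : Additive A), fun g hg => by
        have := v.2 ⟨g, hg⟩
        exact congrArg Additive.toMul this⟩
      invFun := fun a => ⟨Additive.ofMul (a : A), fun h => by
        change Additive.ofMul (ψ (h : G) (a : A)) = Additive.ofMul (a : A)
        rw [a.2 (h : G) h.2]⟩
      left_inv := fun v => rfl
      right_inv := fun a => rfl }

include r in
/-- A Frobenius-type group acting on an elementary abelian group `A` without `F`-fixed points: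
`|A| = |C_A(H)| ^ |H|`. -/
theorem card_eq_pow (ψ : G →* MulAut A) (F H : Subgroup G) [hFn : F.Normal]
    (hnil : Group.IsNilpotent F)
    (hfpf : ∀ h ∈ H, h ≠ 1 → ∀ f ∈ F, h * f * h⁻¹ = f → f = 1)
    (hCF : fix ψ F = ⊥) : Nat.card A = Nat.card (fix ψ H) ^ Nat.card H := by
  classical
  haveI : Module.Finite (ZMod r) (Additive A) := by
    haveI : Finite (Additive A) := inferInstanceAs (Finite A)
    exact Module.Finite.of_finite
  have hfree := nil_free (k := ZMod r) F H hnil hfpf (finrank (ZMod r) (Additive A)) (Additive A)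
    (rep r ψ) (by
      intro v hv
      have : Additive.toMul v ∈ fix ψ F := fun f hf => congrArg Additive.toMul (hv f hf)
      rw [hCF, Subgroup.mem_bot] at this
      exact congrArg Additive.ofMul this) rfl
  have h1 := finrank_fixed_of_hfree ((rep r ψ).comp H.subtype) hfree
  have h2 : Nat.card (Additive A) = Nat.card (ZMod r) ^ finrank (ZMod r) (Additive A) :=
    Module.natCard_eq_pow_finrank
  have h3 : Nat.card (fixedSub ((rep r ψ).comp H.subtype)) =
      Nat.card (ZMod r) ^ finrank (ZMod r) (fixedSub ((rep r ψ).comp H.subtype)) :=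
    Module.natCard_eq_pow_finrank
  rw [← card_fixedSub r ψ H, h3, ← pow_mul, h1, ← h2]
  rfl

include r in
/-- If moreover `|H| = p` is prime and `C_A(H)` has order at most `r`, then `F` acts on `A` through
an abelian group. -/
theorem comm_act (ψ : G →* MulAut A) (F H : Subgroup G) [hFn : F.Normal]
    (hnil : Group.IsNilpotent F)
    (hfpf : ∀ h ∈ H, h ≠ 1 → ∀ f ∈ F, h * f * h⁻¹ = f → f = 1)
    (hCF : fix ψ F = ⊥) (hFH : F ⊔ H = ⊤) (p : ℕ) (hp : p.Prime) (hH : Nat.card H = p)
    (hle : Nat.card (fix ψ H) ≤ r) : ∀ a ∈ F, ∀ b ∈ F, ψ (a * b) = ψ (b * a) := by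
  classical
  haveI : Module.Finite (ZMod r) (Additive A) := by
    haveI : Finite (Additive A) := inferInstanceAs (Finite A)
    exact Module.Finite.of_finite
  have h1 := card_eq_pow r ψ F H hnil hfpf hCF
  have h2 : Nat.card (Additive A) = Nat.card (ZMod r) ^ finrank (ZMod r) (Additive A) :=
    Module.natCard_eq_pow_finrank
  have h2' : Nat.card A = r ^ finrank (ZMod r) (Additive A) := by
    rw [Nat.card_zmod] at h2
    exact h2
  have h3 : Nat.card (fix ψ H) ∣ Nat.card A := Subgroup.card_subgroup_dvd_card _
  rw [h2'] at h3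
  obtain ⟨j, -, hj⟩ := (Nat.dvd_prime_pow hr.out).mp h3
  have hj1 : j ≤ 1 := by
    rw [hj] at hle
    by_contra hcon
    push Not at hcon
    have : r ^ 1 < r ^ j := Nat.pow_lt_pow_right hr.out.one_lt hcon
    rw [pow_one] at this
    omega
  intro a ha b hb
  interval_cases j
  · -- trivial group
    rw [hj, pow_zero, one_pow] at h1
    haveI : Subsingleton A := (Nat.card_eq_one_iff_unique.mp h1).1
    apply MulEquiv.ext
    intro x
    exact Subsingleton.elim _ _
  · rw [hj, pow_one, hH, h2'] at h1
    have hd : finrank (ZMod r) (Additive A) = p := Nat.pow_right_injective hr.out.two_le h1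
    have h4 := comm_of_finrank_eq_prime (rep r ψ) F H hnil hfpf hFH p hp hH hd (by
      intro v hv
      have : Additive.toMul v ∈ fix ψ F := fun f hf => congrArg Additive.toMul (hv f hf)
      rw [hCF, Subgroup.mem_bot] at this
      exact congrArg Additive.ofMul this) a ha b hb
    apply MulEquiv.ext
    intro x
    have h5 := LinearMap.congr_fun h4 (Additive.ofMul x)
    rw [← map_mul, ← map_mul, rep_apply, rep_apply] at h5
    exact congrArg Additive.toMul h5

end elem

section wrap

variable {G : Type u} [Group G] [Finite G] {A : Type v} [inst : Group A] [Finite A]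

theorem card_eq_pow' (r : ℕ) (hr : r.Prime) (hcomm : ∀ a b : A, a * b = b * a)
    (hexp : ∀ a : A, a ^ r = 1) (ψ : G →* MulAut A) (F H : Subgroup G) [hFn : F.Normal]
    (hnil : Group.IsNilpotent F)
    (hfpf : ∀ h ∈ H, h ≠ 1 → ∀ f ∈ F, h * f * h⁻¹ = f → f = 1)
    (hCF : fix ψ F = ⊥) : Nat.card A = Nat.card (fix ψ H) ^ Nat.card H := by
  letI : CommGroup A := { inst with mul_comm := hcomm }
  haveI : Fact r.Prime := ⟨hr⟩
  letI : Module (ZMod r) (Additive A) := AddCommGroup.zmodModule (by
    intro x
    exact congrArg Additive.ofMul (hexp (Additive.toMul x)))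
  exact card_eq_pow r ψ F H hnil hfpf hCF

theorem comm_act' (r : ℕ) (hr : r.Prime) (hcomm : ∀ a b : A, a * b = b * a)
    (hexp : ∀ a : A, a ^ r = 1) (ψ : G →* MulAut A) (F H : Subgroup G) [hFn : F.Normal]
    (hnil : Group.IsNilpotent F)
    (hfpf : ∀ h ∈ H, h ≠ 1 → ∀ f ∈ F, h * f * h⁻¹ = f → f = 1)
    (hCF : fix ψ F = ⊥) (hFH : F ⊔ H = ⊤) (p : ℕ) (hp : p.Prime) (hH : Nat.card H = p)
    (hle : Nat.card (fix ψ H) ≤ r) : ∀ a ∈ F, ∀ b ∈ F, ψ (a * b) = ψ (b * a) := by
  letI : CommGroup A := { inst with mul_comm := hcomm }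
  haveI : Fact r.Prime := ⟨hr⟩
  letI : Module (ZMod r) (Additive A) := AddCommGroup.zmodModule (by
    intro x
    exact congrArg Additive.ofMul (hexp (Additive.toMul x)))
  exact comm_act r ψ F H hnil hfpf hCF hFH p hp hH hle

end wrap

end Cfsg.Agent.Helper3.FrobActB
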