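import Mathlib
import Cfsg.Agent.Helper3.FrobActB

set_option autoImplicit false

namespace Cfsg.Agent.Helper3.Shult

open Module TensorProduct Cfsg.Agent.Helper3.FrobActB

universe u v

variable {Γ : Type u} [Group Γ] {A : Type v} [CommGroup A] (p : ℕ) [hp : Fact p.Prime]
  [Module (ZMod p) (Additive A)]

/-- the algebraic closure of the prime field. -/
abbrev KK (p : ℕ) [Fact p.Prime] : Type := AlgebraicClosure (ZMod p)

/-- the base change of the representation on an elementary abelian group. -/
noncomputable def bcRep (ψ : Γ →* MulAut A) :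
    Representation (KK p) Γ (KK p ⊗[ZMod p] Additive A) :=
  ((Module.End.baseChangeHom (ZMod p) (KK p) (Additive A)) :
    Module.End (ZMod p) (Additive A) →* Module.End (KK p) (KK p ⊗[ZMod p] Additive A)).comp
    (rep p ψ)

theorem bcRep_apply (ψ : Γ →* MulAut A) (g : Γ) :
    bcRep p ψ g = (rep p ψ g).baseChange (KK p) := rfl

theorem bcRep_eq_one_iff (ψ : Γ →* MulAut A) (g : Γ) : bcRep p ψ g = 1 ↔ ψ g = 1 := by
  constructor
  · intro h
    have h1 : (rep p ψ g).baseChange (KK p) = (1 : Module.End (ZMod p) (Additive A)).baseChange (KK p) := by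
      rw [← bcRep_apply, h]
      exact (LinearMap.baseChange_one (A := KK p) (ZMod p) (Additive A)).symm
    have h2 : rep p ψ g = 1 :=
      LinearMap.baseChangeHom_injective (R := ZMod p) (S := KK p) (M := Additive A)
        (N := Additive A) h1
    ext a
    have h3 := LinearMap.congr_fun h2 (Additive.ofMul a)
    rw [rep_apply] at h3
    exact congrArg Additive.toMul h3
  · intro h
    have h2 : rep p ψ g = 1 := by
      apply LinearMap.ext
      intro a
      rw [rep_apply, h]
      rfl
    rw [bcRep_apply, h2]
    exact LinearMap.baseChange_one (A := KK p) (ZMod p) (Additive A)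

theorem bcRep_no_fixed [Finite A] (ψ : Γ →* MulAut A) (g : Γ) (hfix : ∀ a : A, ψ g a = a → a = 1)
    (w : KK p ⊗[ZMod p] Additive A) (hw : bcRep p ψ g w = w) : w = 0 := by
  haveI : Finite (Additive A) := inferInstanceAs (Finite A)
  have hker : LinearMap.ker (rep p ψ g - 1) = ⊥ := by
    rw [eq_bot_iff]
    intro a ha
    rw [LinearMap.mem_ker, LinearMap.sub_apply, Module.End.one_apply, sub_eq_zero, rep_apply] at ha
    rw [Submodule.mem_bot]
    have := hfix (Additive.toMul a) (congrArg Additive.toMul ha)
    exact congrArg Additive.ofMul this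
  have hunit : IsUnit (rep p ψ g - 1) := (LinearMap.isUnit_iff_ker_eq_bot _).2 hker
  have hunit' := hunit.map (Module.End.baseChangeHom (ZMod p) (KK p) (Additive A))
  rw [map_sub, map_one] at hunit'
  have hinj := ((Module.End.isUnit_iff _).1 hunit').1
  apply hinj
  rw [map_zero, LinearMap.sub_apply, Module.End.one_apply, sub_eq_zero]
  exact hw

instance [Finite A] : FiniteDimensional (KK p) (KK p ⊗[ZMod p] Additive A) := by
  haveI : Finite (Additive A) := inferInstanceAs (Finite A)
  infer_instance

theorem bc_nontrivial [Finite A] [Nontrivial A] : Nontrivial (KK p ⊗[ZMod p] Additive A) := by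
  haveI : Finite (Additive A) := inferInstanceAs (Finite A)
  haveI : Nontrivial (Additive A) := inferInstanceAs (Nontrivial A)
  apply Module.nontrivial_of_finrank_pos (R := KK p)
  rw [Module.finrank_baseChange]
  exact Module.finrank_pos

theorem cast_ne_zero_of_coprime (n : ℕ) (hn : Nat.Coprime n p) : ((n : ℕ) : KK p) ≠ 0 := by
  intro h
  have h1 := (CharP.cast_eq_zero_iff (KK p) p n).1 h
  have := Nat.Coprime.eq_one_of_dvd hn.symm h1
  exact hp.out.one_lt.ne' this

end Cfsg.Agent.Helper3.Shult
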