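import Mathlib
import Cfsg.Agent.Helper3.FrobActC

set_option autoImplicit false

namespace Cfsg.Agent.Helper3.Shult

open Module Cfsg.Agent.Helper3.FrobActC

variable {K : Type*} [Field K] {W : Type*} [AddCommGroup W] [Module K W]
  {Γ : Type*} [Group Γ]

theorem rho_mul_inv (ρ : Representation K Γ W) (g : Γ) (w : W) : ρ g (ρ g⁻¹ w) = w := by
  rw [← Module.End.mul_apply, ← map_mul, mul_inv_cancel, map_one, Module.End.one_apply]

theorem rho_inv_mul (ρ : Representation K Γ W) (g : Γ) (w : W) : ρ g⁻¹ (ρ g w) = w := by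
  rw [← Module.End.mul_apply, ← map_mul, inv_mul_cancel, map_one, Module.End.one_apply]

theorem rho_injective (ρ : Representation K Γ W) (g : Γ) : Function.Injective (ρ g) :=
  Function.LeftInverse.injective (g := ρ g⁻¹) (rho_inv_mul ρ g)

/-- a projection killing `A` and fixing `B`. -/
theorem exists_proj (A B : Submodule K W) (h : A ⊓ B = ⊥) :
    ∃ π : Module.End K W, (∀ a ∈ A, π a = 0) ∧ (∀ b ∈ B, π b = b) := by
  have hker : LinearMap.ker (A.mkQ ∘ₗ B.subtype) = ⊥ := by
    rw [eq_bot_iff]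
    intro b hb
    rw [LinearMap.mem_ker, LinearMap.comp_apply, Submodule.mkQ_apply,
      Submodule.Quotient.mk_eq_zero] at hb
    have : (b : W) ∈ A ⊓ B := ⟨hb, b.2⟩
    rw [h, Submodule.mem_bot] at this
    rw [Submodule.mem_bot]
    exact Subtype.ext this
  obtain ⟨g', hg'⟩ := LinearMap.exists_leftInverse_of_injective _ hker
  refine ⟨B.subtype ∘ₗ g' ∘ₗ A.mkQ, ?_, ?_⟩
  · intro a ha
    rw [LinearMap.comp_apply, LinearMap.comp_apply, Submodule.mkQ_apply,
      (Submodule.Quotient.mk_eq_zero A).2 ha, map_zero, map_zero]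
  · intro b hb
    have := LinearMap.congr_fun hg' ⟨b, hb⟩
    rw [LinearMap.comp_apply, LinearMap.comp_apply, LinearMap.id_apply] at this
    rw [LinearMap.comp_apply, LinearMap.comp_apply]
    change ((g' (A.mkQ (B.subtype ⟨b, hb⟩)) : ↥B) : W) = b
    rw [this]

theorem finv_map_of_norm {ρ : Representation K Γ W} {N : Subgroup Γ} {U : Submodule K W}
    (h : FInv ρ N U) (g : Γ) (hg : ∀ n ∈ N, g⁻¹ * n * g ∈ N) : FInv ρ N (U.map (ρ g)) := by
  apply finv_of_mem
  rintro f hf _ ⟨w, hw, rfl⟩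
  have h2 : ρ f (ρ g w) = ρ g (ρ (g⁻¹ * f * g) w) := by
    rw [← Module.End.mul_apply, ← Module.End.mul_apply, ← map_mul, ← map_mul]
    congr 2
    group
  rw [h2]
  exact Submodule.mem_map_of_mem (h.mem (hg f hf) hw)

theorem isMinInv_map_of_norm {ρ : Representation K Γ W} {N : Subgroup Γ} {U : Submodule K W}
    (h : IsMinInv ρ N U) (g : Γ) (hg : ∀ n ∈ N, g⁻¹ * n * g ∈ N)
    (hg' : ∀ n ∈ N, g * n * g⁻¹ ∈ N) : IsMinInv ρ N (U.map (ρ g)) := by
  obtain ⟨h1, h2, h3⟩ := h
  refine ⟨?_, finv_map_of_norm h2 g hg, ?_⟩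
  · intro h0
    apply h1
    rw [← map_map_inv ρ g U, h0, Submodule.map_bot]
  · intro W' hW hWle
    have h4 : W'.map (ρ g⁻¹) ≤ U := by
      rw [← map_map_inv ρ g U]
      exact Submodule.map_mono hWle
    have h5 : W' = (W'.map (ρ g⁻¹)).map (ρ g) := by
      have := map_map_inv ρ g⁻¹ W'
      rw [inv_inv] at this
      exact this.symm
    have hW' : FInv ρ N (W'.map (ρ g⁻¹)) := by
      apply finv_map_of_norm hW
      intro n hn
      rw [inv_inv]
      exact hg' n hn
    rcases h3 _ hW' h4 with h6 | h6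
    · left; rw [h5, h6, Submodule.map_bot]
    · right; rw [h5, h6]

theorem finv_range_sup {ρ : Representation K Γ W} {N : Subgroup Γ} (Ui : ℕ → Submodule K W)
    (h : ∀ k, FInv ρ N (Ui k)) (k : ℕ) : FInv ρ N ((Finset.range k).sup Ui) := by
  induction k with
  | zero =>
    rw [Finset.range_zero, Finset.sup_empty]
    intro f _
    rw [Submodule.map_bot]
  | succ k ih =>
    rw [Finset.range_add_one, Finset.sup_insert]
    exact (h k).sup ih

set_option maxHeartbeats 1000000 in
/-- Clifford-type dichotomy for a normal subgroup of prime index. -/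
theorem clifford_dichotomy [IsAlgClosed K] [FiniteDimensional K W] [Nontrivial W]
    (ρ : Representation K Γ W) (N : Subgroup Γ) (x : Γ) (r : ℕ) (hr : r.Prime) (hx : x ^ r = 1)
    (hxN : ∀ n ∈ N, x * n * x⁻¹ ∈ N)
    (hmin : ∀ U : Submodule K W, FInv ρ N U → U.map (ρ x) ≤ U → U = ⊥ ∨ U = ⊤) :
    (∀ U : Submodule K W, FInv ρ N U → U = ⊥ ∨ U = ⊤) ∨
      ∃ u : W, ∑ i ∈ Finset.range r, (ρ x ^ i) u ≠ 0 := by
  classical
  -- normalizing powers
  have hpow : ∀ k : ℕ, ∀ n ∈ N, x ^ k * n * (x ^ k)⁻¹ ∈ N := by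
    intro k
    induction k with
    | zero => intro n hn; simpa using hn
    | succ k ih =>
      intro n hn
      have := hxN _ (ih n hn)
      have e : x ^ (k + 1) * n * (x ^ (k + 1))⁻¹ = x * (x ^ k * n * (x ^ k)⁻¹) * x⁻¹ := by
        rw [pow_succ']; group
      rw [e]; exact this
  have hinvpow : ∀ k : ℕ, (x ^ k)⁻¹ = x ^ (k * (r - 1)) := by
    intro k
    apply inv_eq_of_mul_eq_one_right
    rw [← pow_add]
    have : k + k * (r - 1) = r * k := by
      have := hr.pos
      obtain ⟨r', rfl⟩ : ∃ r', r = r' + 1 := ⟨r - 1, by omega⟩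
      rw [Nat.add_sub_cancel]; ring
    rw [this, pow_mul, hx, one_pow]
  have hpow' : ∀ k : ℕ, ∀ n ∈ N, (x ^ k)⁻¹ * n * x ^ k ∈ N := by
    intro k n hn
    have := hpow (k * (r - 1)) n hn
    rw [← hinvpow, inv_inv] at this
    exact this
  obtain ⟨U, hU⟩ := exists_isMinInv ρ N
  obtain ⟨Ui, hUi⟩ : ∃ Ui : ℕ → Submodule K W, ∀ k, Ui k = U.map (ρ (x ^ k)) := ⟨_, fun _ => rfl⟩
  have hUimin : ∀ k, IsMinInv ρ N (Ui k) := by
    intro k
    rw [hUi]
    exact isMinInv_map_of_norm hU _ (hpow' k) (hpow k)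
  obtain ⟨S, hS⟩ : ∃ S : ℕ → Submodule K W, ∀ k, S k = (Finset.range k).sup Ui := ⟨_, fun _ => rfl⟩
  have hSinv : ∀ k, FInv ρ N (S k) := by
    intro k
    rw [hS]
    exact finv_range_sup Ui (fun k => (hUimin k).2.1) k
  have hS0 : S 0 = ⊥ := by rw [hS, Finset.range_zero, Finset.sup_empty]
  have hSsucc : ∀ k, S (k + 1) = S k ⊔ Ui k := by
    intro k
    rw [hS, hS, Finset.range_add_one, Finset.sup_insert, sup_comm]
  have hUiS : ∀ i k, i < k → Ui i ≤ S k := by
    intro i k hik
    rw [hS]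
    exact Finset.le_sup (Finset.mem_range.2 hik)
  have hrho_pow : ∀ k : ℕ, ρ (x ^ k) = ρ x ^ k := fun k => map_pow ρ x k
  have hr2 : 2 ≤ r := hr.two_le
  by_cases hdir : Ui (r - 1) ⊓ S (r - 1) = ⊥
  · right
    obtain ⟨u, huU, hu0⟩ := Submodule.exists_mem_ne_zero_of_ne_bot hU.1
    refine ⟨u, ?_⟩
    intro hsum
    have e : r = (r - 1) + 1 := by omega
    rw [e, Finset.sum_range_succ] at hsum
    have h1 : (ρ x ^ (r - 1)) u ∈ Ui (r - 1) := by
      rw [hUi, hrho_pow]
      exact Submodule.mem_map_of_mem huU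
    have h2 : (ρ x ^ (r - 1)) u ∈ S (r - 1) := by
      have : (ρ x ^ (r - 1)) u = - ∑ i ∈ Finset.range (r - 1), (ρ x ^ i) u :=
        eq_neg_of_add_eq_zero_right hsum
      rw [this]
      apply Submodule.neg_mem
      apply Submodule.sum_mem
      intro i hi
      apply hUiS i (r - 1) (Finset.mem_range.1 hi)
      rw [hUi, hrho_pow]
      exact Submodule.mem_map_of_mem huU
    have h3 : (ρ x ^ (r - 1)) u ∈ Ui (r - 1) ⊓ S (r - 1) := ⟨h1, h2⟩
    rw [hdir, Submodule.mem_bot, ← hrho_pow] at h3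
    apply hu0
    apply rho_injective ρ (x ^ (r - 1))
    rw [h3, map_zero]
  · left
    have hex : ∃ j, Ui j ⊓ S j ≠ ⊥ := ⟨r - 1, hdir⟩
    obtain ⟨j, hj, hjmin⟩ : ∃ j, Ui j ⊓ S j ≠ ⊥ ∧ ∀ i < j, Ui i ⊓ S i = ⊥ := by
      refine ⟨Nat.find hex, Nat.find_spec hex, ?_⟩
      intro i hi
      by_contra h
      exact Nat.find_min hex hi h
    have hjr : j ≤ r - 1 := by
      by_contra h
      push Not at h
      exact hdir (hjmin _ h)
    have hj0 : 0 < j := by
      rcases Nat.eq_zero_or_pos j with h | h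
      · exfalso
        rw [h, hS0, inf_bot_eq] at hj
        exact hj rfl
      · exact h
    have hUjS : Ui j ≤ S j := by
      rcases (hUimin j).2.2 _ ((hUimin j).2.1.inf (hSinv j)) inf_le_left with h | h
      · exact absurd h hj
      · rw [← h]; exact inf_le_right
    have hex2 : ∃ i, Ui j ≤ S (i + 1) := ⟨j - 1, by
      have : j - 1 + 1 = j := by omega
      rw [this]; exact hUjS⟩
    obtain ⟨i₀, hi₀, hi₀min⟩ : ∃ i₀, Ui j ≤ S (i₀ + 1) ∧ ¬ Ui j ≤ S i₀ := by
      refine ⟨Nat.find hex2, Nat.find_spec hex2, ?_⟩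
      intro hle
      rcases Nat.eq_zero_or_pos (Nat.find hex2) with h | h
      · rw [h, hS0, le_bot_iff] at hle
        exact (hUimin j).1 hle
      · have hlt : Nat.find hex2 - 1 < Nat.find hex2 := by omega
        apply Nat.find_min hex2 hlt
        have : Nat.find hex2 - 1 + 1 = Nat.find hex2 := by omega
        rw [this]
        exact hle
    have hi₀j : i₀ < j := by
      by_contra h
      push Not at h
      apply hi₀min
      refine hUjS.trans ?_
      rw [hS, hS]
      apply Finset.sup_mono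
      intro a ha
      rw [Finset.mem_range] at ha ⊢
      omega
    have hdisjA : Ui j ⊓ S i₀ = ⊥ := by
      rcases (hUimin j).2.2 _ ((hUimin j).2.1.inf (hSinv i₀)) inf_le_left with h | h
      · exact h
      · exfalso
        apply hi₀min
        rw [← h]; exact inf_le_right
    have hdisjB : S i₀ ⊓ Ui i₀ = ⊥ := by
      rw [inf_comm]
      exact hjmin i₀ hi₀j
    rw [hSsucc] at hi₀
    obtain ⟨π, hπA, hπB⟩ := exists_proj (S i₀) (Ui i₀) hdisjB
    have hπeq : ∀ n ∈ N, ∀ w ∈ S i₀ ⊔ Ui i₀, π (ρ n w) = ρ n (π w) := by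
      intro n hn w hw
      obtain ⟨a, ha, b, hb, rfl⟩ := Submodule.mem_sup.1 hw
      have e1 : ρ n (a + b) = ρ n a + ρ n b := map_add _ _ _
      rw [e1, map_add, hπA _ ((hSinv i₀).mem hn ha), hπB _ ((hUimin i₀).2.1.mem hn hb), map_add,
        hπA a ha, hπB b hb, zero_add, zero_add]
    have hπmem : ∀ w ∈ S i₀ ⊔ Ui i₀, π w ∈ Ui i₀ := by
      intro w hw
      obtain ⟨a, ha, b, hb, rfl⟩ := Submodule.mem_sup.1 hw
      rw [map_add, hπA a ha, hπB b hb, zero_add]
      exact hb
    have hπker : ∀ w ∈ Ui j, π w = 0 → w = 0 := by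
      intro w hw hπw
      obtain ⟨a, ha, b, hb, rfl⟩ := Submodule.mem_sup.1 (hi₀ hw)
      rw [map_add, hπA a ha, hπB b hb, zero_add] at hπw
      rw [hπw, add_zero] at hw ⊢
      have : a ∈ Ui j ⊓ S i₀ := ⟨hw, ha⟩
      rw [hdisjA, Submodule.mem_bot] at this
      exact this
    -- the twisting element
    obtain ⟨d, hd⟩ : ∃ d, j = i₀ + d := ⟨j - i₀, by omega⟩
    have hd0 : 0 < d := by omega
    have hdr : d < r := by omega
    obtain ⟨y, hy⟩ : ∃ y, y = x ^ d := ⟨_, rfl⟩
    have hxj : x ^ j = x ^ i₀ * y := by rw [hy, hd, pow_add]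
    have hyN : ∀ n ∈ N, y * n * y⁻¹ ∈ N := by
      intro n hn; rw [hy]; exact hpow d n hn
    obtain ⟨γ₀, hγ₀⟩ : ∃ γ₀ : Module.End K W, γ₀ = ρ (x ^ i₀)⁻¹ ∘ₗ π ∘ₗ ρ (x ^ j) := ⟨_, rfl⟩
    have hγ₀app : ∀ w, γ₀ w = ρ (x ^ i₀)⁻¹ (π (ρ (x ^ j) w)) := by
      intro w; rw [hγ₀]; rfl
    have hmemUj : ∀ u ∈ U, ρ (x ^ j) u ∈ Ui j := by
      intro u hu
      rw [hUi]; exact Submodule.mem_map_of_mem hu
    have hγU : ∀ u ∈ U, γ₀ u ∈ U := by
      intro u hu
      rw [hγ₀app]
      have h1 := hπmem _ (hi₀ (hmemUj u hu))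
      rw [hUi] at h1
      obtain ⟨u', hu', hu'e⟩ := h1
      rw [← hu'e, rho_inv_mul]
      exact hu'
    have hγker : ∀ u ∈ U, γ₀ u = 0 → u = 0 := by
      intro u hu h0
      rw [hγ₀app] at h0
      have h1 : π (ρ (x ^ j) u) = 0 := by
        apply rho_injective ρ (x ^ i₀)⁻¹
        rw [h0, map_zero]
      have h2 := hπker _ (hmemUj u hu) h1
      apply rho_injective ρ (x ^ j)
      rw [h2, map_zero]
    have hγeq : ∀ n ∈ N, ∀ u ∈ U, γ₀ (ρ n u) = ρ (y * n * y⁻¹) (γ₀ u) := by
      intro n hn u hu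
      rw [hγ₀app, hγ₀app]
      have h1 : ρ (x ^ j) (ρ n u) = ρ (x ^ j * n * (x ^ j)⁻¹) (ρ (x ^ j) u) := by
        rw [← Module.End.mul_apply, ← Module.End.mul_apply, ← map_mul, ← map_mul]
        congr 2
        group
      rw [h1, hπeq _ (hpow j n hn) _ (hi₀ (hmemUj u hu))]
      generalize π (ρ (x ^ j) u) = z
      rw [← Module.End.mul_apply, ← Module.End.mul_apply, ← map_mul, ← map_mul]
      congr 2
      rw [hxj]
      group
    obtain ⟨γ, hγ⟩ : ∃ γ : Module.End K ↥U, ∀ u : ↥U, ((γ u : ↥U) : W) = γ₀ u :=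
      ⟨γ₀.restrict hγU, fun u => rfl⟩
    have hγinj : Function.Injective γ := by
      rw [injective_iff_map_eq_zero]
      intro u hu
      apply Subtype.ext
      apply hγker u u.2
      rw [← hγ, hu]
      rfl
    have hγsurj : Function.Surjective γ := LinearMap.injective_iff_surjective.1 hγinj
    -- the space of N-maps
    let H : Submodule K (↥U →ₗ[K] W) :=
      { carrier := {f | ∀ n ∈ N, ∀ u u' : ↥U, (u' : W) = ρ n (u : W) → f u' = ρ n (f u)}
        add_mem' := by
          intro f g hf hg n hn u u' huu'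
          rw [LinearMap.add_apply, LinearMap.add_apply, hf n hn u u' huu', hg n hn u u' huu',
            map_add]
        zero_mem' := by
          intro n hn u u' _
          rw [LinearMap.zero_apply, LinearMap.zero_apply, map_zero]
        smul_mem' := by
          intro c f hf n hn u u' huu'
          rw [LinearMap.smul_apply, LinearMap.smul_apply, hf n hn u u' huu', map_smul] }
    have hHmem : ∀ f : ↥U →ₗ[K] W, f ∈ H ↔
        ∀ n ∈ N, ∀ u u' : ↥U, (u' : W) = ρ n (u : W) → f u' = ρ n (f u) := fun f => Iff.rfl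
    let Θ : (↥U →ₗ[K] W) →ₗ[K] (↥U →ₗ[K] W) :=
      { toFun := fun f => ρ y⁻¹ ∘ₗ f ∘ₗ γ
        map_add' := by
          intro f g
          rw [LinearMap.add_comp, LinearMap.comp_add]
        map_smul' := by
          intro c f
          rw [LinearMap.smul_comp, LinearMap.comp_smul]
          rfl }
    have hΘapp : ∀ f u, Θ f u = ρ y⁻¹ (f (γ u)) := fun f u => rfl
    have hΘH : ∀ f ∈ H, Θ f ∈ H := by
      intro f hf
      rw [hHmem] at hf ⊢
      intro n hn u u' huu'
      rw [hΘapp, hΘapp]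
      have h1 : ((γ u' : ↥U) : W) = ρ (y * n * y⁻¹) ((γ u : ↥U) : W) := by
        rw [hγ, hγ, huu', hγeq n hn u u.2]
      rw [hf _ (hyN n hn) _ _ h1]
      rw [← Module.End.mul_apply, ← Module.End.mul_apply, ← map_mul, ← map_mul]
      congr 2
      group
    have hsubH : U.subtype ∈ H := by
      rw [hHmem]
      intro n hn u u' huu'
      exact huu'
    haveI : Nontrivial ↥H := by
      refine ⟨⟨⟨U.subtype, hsubH⟩, 0, ?_⟩⟩
      intro h
      have h1 := congrArg Subtype.val h
      change U.subtype = 0 at h1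
      obtain ⟨u, huU, hu0⟩ := Submodule.exists_mem_ne_zero_of_ne_bot hU.1
      apply hu0
      have := LinearMap.congr_fun h1 ⟨u, huU⟩
      exact this
    obtain ⟨μ, hμ⟩ := Module.End.exists_eigenvalue (Θ.restrict hΘH)
    obtain ⟨⟨f, hfH⟩, hfe⟩ := hμ.exists_hasEigenvector
    have hf0 : f ≠ 0 := by
      intro h
      apply hfe.2
      exact Subtype.ext h
    have hfeq : Θ f = μ • f := by
      have := hfe.apply_eq_smul
      exact congrArg Subtype.val this
    have hμ0 : μ ≠ 0 := by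
      intro h0
      apply hf0
      ext u
      obtain ⟨u', rfl⟩ := hγsurj u
      have h1 := LinearMap.congr_fun hfeq u'
      rw [hΘapp, h0, zero_smul, LinearMap.zero_apply] at h1
      rw [LinearMap.zero_apply]
      apply rho_injective ρ y⁻¹
      rw [h1, map_zero]
    have hfH' := (hHmem f).1 hfH
    have hRN : FInv ρ N (LinearMap.range f) := by
      apply finv_of_mem
      rintro n hn _ ⟨u, rfl⟩
      refine ⟨⟨ρ n u, hU.2.1.mem hn u.2⟩, ?_⟩
      exact hfH' n hn u _ rfl
    have hRy : ∀ w ∈ LinearMap.range f, ρ y w ∈ LinearMap.range f := by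
      rintro _ ⟨u, rfl⟩
      have h1 := LinearMap.congr_fun hfeq u
      rw [hΘapp, LinearMap.smul_apply] at h1
      have h2 : f (γ u) = μ • ρ y (f u) := by
        have := congrArg (ρ y) h1
        rw [map_smul] at this
        rw [← this]
        have h3 := rho_mul_inv ρ y (f (γ u))
        exact h3.symm
      refine ⟨μ⁻¹ • γ u, ?_⟩
      rw [map_smul, h2, smul_smul, inv_mul_cancel₀ hμ0, one_smul]
    have hRypow : ∀ k : ℕ, ∀ w ∈ LinearMap.range f, ρ (y ^ k) w ∈ LinearMap.range f := by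
      intro k
      induction k with
      | zero => intro w hw; simpa using hw
      | succ k ih =>
        intro w hw
        rw [pow_succ', map_mul, Module.End.mul_apply]
        exact hRy _ (ih w hw)
    have hcop : Nat.Coprime d r := by
      apply Nat.Coprime.symm
      rw [Nat.Prime.coprime_iff_not_dvd hr]
      exact Nat.not_dvd_of_pos_of_lt hd0 hdr
    obtain ⟨m, -, hm⟩ := Nat.exists_mul_mod_eq_one_of_coprime hcop (by omega : 1 < r)
    have hxy : x = y ^ m := by
      rw [hy, ← pow_mul, pow_eq_pow_mod (d * m) hx, hm, pow_one]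
    have hRx : (LinearMap.range f).map (ρ x) ≤ LinearMap.range f := by
      rintro _ ⟨w, hw, rfl⟩
      rw [hxy]
      exact hRypow m w hw
    have hRtop : LinearMap.range f = ⊤ := by
      rcases hmin _ hRN hRx with h | h
      · exfalso
        apply hf0
        exact LinearMap.range_eq_bot.1 h
      · exact h
    -- irreducibility
    intro W' hW'
    have hU'' : FInv ρ N ((W'.comap f).map U.subtype) := by
      apply finv_of_mem
      rintro n hn _ ⟨u, hu, rfl⟩
      refine ⟨⟨ρ n u, hU.2.1.mem hn u.2⟩, ?_, rfl⟩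
      rw [SetLike.mem_coe, Submodule.mem_comap] at hu ⊢
      rw [hfH' n hn u _ rfl]
      exact hW'.mem hn hu
    have hle : (W'.comap f).map U.subtype ≤ U := by
      rintro _ ⟨u, _, rfl⟩
      exact u.2
    rcases hU.2.2 _ hU'' hle with h | h
    · left
      rw [eq_bot_iff]
      intro w hw
      have hwR : w ∈ LinearMap.range f := hRtop ▸ Submodule.mem_top
      obtain ⟨u, rfl⟩ := hwR
      have h1 : (u : W) ∈ (W'.comap f).map U.subtype := ⟨u, hw, rfl⟩
      rw [h, Submodule.mem_bot] at h1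
      have h2 : u = 0 := Subtype.ext h1
      rw [h2, map_zero]
      exact Submodule.zero_mem _
    · right
      rw [eq_top_iff, ← hRtop]
      rintro _ ⟨u, rfl⟩
      have h1 : (u : W) ∈ (W'.comap f).map U.subtype := by
        rw [h]; exact u.2
      obtain ⟨u', hu', hu'e⟩ := h1
      have : u' = u := Subtype.ext hu'e
      rw [← this]
      exact hu'

end Cfsg.Agent.Helper3.Shult
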