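import Mathlib

/-!
# Conjugation action on endomorphisms, Schur's lemma, orbit sums
-/

set_option autoImplicit false

namespace Cfsg.Agent.Helper3.HH

open Module

/-- in characteristic `p`, `∑_{i<p^n} t^i = (t-1)^(p^n-1)`. -/
theorem geom_sum_eq_pow (K : Type*) [Field K] (p : ℕ) [Fact p.Prime] [CharP K p] (n : ℕ)
    {R : Type*} [Ring R] [Algebra K R] (t : R) :
    ∑ i ∈ Finset.range (p ^ n), t ^ i = (t - 1) ^ (p ^ n - 1) := by
  have hpoly : ∑ i ∈ Finset.range (p ^ n), (Polynomial.X : Polynomial K) ^ i =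
      (Polynomial.X - 1) ^ (p ^ n - 1) := by
    have hX : (Polynomial.X - 1 : Polynomial K) ≠ 0 := Polynomial.X_sub_C_ne_zero (1 : K)
    apply mul_right_cancel₀ hX
    rw [geom_sum_mul, ← pow_succ]
    have hpos : 0 < p ^ n := pow_pos (Fact.out : p.Prime).pos n
    rw [Nat.sub_add_cancel hpos]
    haveI : CharP (Polynomial K) p := inferInstance
    rw [sub_pow_char_pow, one_pow]
  have := congrArg (Polynomial.aeval t) hpoly
  simpa using this

/-- decomposition of an invariant free set into orbits. -/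
theorem orbit_sum {G : Type*} [Group G] [DecidableEq G] {R : Type*} [Ring R] (c : G →* R) (x : G)
    (N : ℕ) (hN0 : 0 < N) (hN : x ^ N = 1) :
    ∀ (m : ℕ) (S : Finset G), S.card = m → (∀ g ∈ S, x * g * x⁻¹ ∈ S) →
      (∀ g ∈ S, ∀ i, 0 < i → i < N → x ^ i * g * (x ^ i)⁻¹ ≠ g) →
      ∃ R₀ : Finset G, R₀ ⊆ S ∧
        ∑ g ∈ S, c g = ∑ i ∈ Finset.range N, c (x ^ i) * (∑ r ∈ R₀, c r) * c ((x ^ i)⁻¹) := by
  intro m
  induction m using Nat.strong_induction_on with
  | _ m ih =>
  intro S hm hinv hfree
  rcases S.eq_empty_or_nonempty with hS | ⟨r, hr⟩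
  · refine ⟨∅, by simp, ?_⟩
    rw [hS]; simp
  · have hinv' : ∀ i : ℕ, ∀ g ∈ S, x ^ i * g * (x ^ i)⁻¹ ∈ S := by
      intro i
      induction i with
      | zero => intro g hg; simpa using hg
      | succ i ihi =>
        intro g hg
        have := hinv _ (ihi g hg)
        have e : x ^ (i + 1) * g * (x ^ (i + 1))⁻¹ = x * (x ^ i * g * (x ^ i)⁻¹) * x⁻¹ := by
          rw [pow_succ']; group
        rw [e]; exact this
    let O : Finset G := (Finset.range N).image (fun i => x ^ i * r * (x ^ i)⁻¹)
    have hOS : O ⊆ S := by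
      intro g hg
      obtain ⟨i, _, rfl⟩ := Finset.mem_image.1 hg
      exact hinv' i r hr
    have hinj : Set.InjOn (fun i => x ^ i * r * (x ^ i)⁻¹) (Finset.range N : Set ℕ) := by
      have key : ∀ i j : ℕ, i < j → j < N → x ^ i * r * (x ^ i)⁻¹ ≠ x ^ j * r * (x ^ j)⁻¹ := by
        intro i j hij hj h
        apply hfree r hr (j - i) (by omega) (by omega)
        have e : x ^ j = x ^ i * x ^ (j - i) := by rw [← pow_add]; congr 1; omega
        rw [e] at h
        have h2 : x ^ (j - i) * r * (x ^ (j - i))⁻¹ =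
            (x ^ i)⁻¹ * (x ^ i * x ^ (j - i) * r * (x ^ i * x ^ (j - i))⁻¹) * x ^ i := by group
        rw [h2, ← h]; group
      intro i hi j hj h
      simp only [Finset.coe_range, Set.mem_Iio] at hi hj
      by_contra hne
      rcases lt_or_gt_of_ne hne with hlt | hgt
      · exact key i j hlt hj h
      · exact key j i hgt hi h.symm
    have hrO : r ∈ O := by
      apply Finset.mem_image.2
      exact ⟨0, Finset.mem_range.2 hN0, by simp⟩
    have hS'inv : ∀ g ∈ S \ O, x * g * x⁻¹ ∈ S \ O := by
      intro g hg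
      rw [Finset.mem_sdiff] at hg ⊢
      refine ⟨hinv g hg.1, ?_⟩
      intro hO
      apply hg.2
      obtain ⟨i, hi, hie⟩ := Finset.mem_image.1 hO
      rw [Finset.mem_range] at hi
      apply Finset.mem_image.2
      rcases Nat.eq_zero_or_pos i with h0 | hpos
      · refine ⟨N - 1, Finset.mem_range.2 (by omega), ?_⟩
        rw [h0] at hie
        simp only [pow_zero, one_mul, inv_one, mul_one] at hie
        have e1 : x ^ (N - 1) = x⁻¹ := by
          have : x ^ (N - 1) * x = 1 := by rw [← pow_succ, Nat.sub_add_cancel hN0, hN]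
          exact eq_inv_of_mul_eq_one_left this
        show x ^ (N - 1) * r * (x ^ (N - 1))⁻¹ = g
        rw [e1, hie]; group
      · refine ⟨i - 1, Finset.mem_range.2 (by omega), ?_⟩
        show x ^ (i - 1) * r * (x ^ (i - 1))⁻¹ = g
        have e1 : x ^ i = x * x ^ (i - 1) := by rw [← pow_succ']; congr 1; omega
        simp only [e1] at hie
        have : g = x⁻¹ * (x * g * x⁻¹) * x := by group
        rw [this, ← hie]; group
    have hS'free : ∀ g ∈ S \ O, ∀ i, 0 < i → i < N → x ^ i * g * (x ^ i)⁻¹ ≠ g := by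
      intro g hg
      exact hfree g (Finset.mem_sdiff.1 hg).1
    have hcard : (S \ O).card < m := by
      rw [← hm]
      apply Finset.card_lt_card
      refine ⟨Finset.sdiff_subset, ?_⟩
      intro h
      have := h hr
      rw [Finset.mem_sdiff] at this
      exact this.2 hrO
    obtain ⟨R₀', hR₀', hsum'⟩ := ih _ hcard (S \ O) rfl hS'inv hS'free
    have hrR : r ∉ R₀' := by
      intro h
      have := hR₀' h
      rw [Finset.mem_sdiff] at this
      exact this.2 hrO
    refine ⟨insert r R₀', ?_, ?_⟩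
    · intro g hg
      rcases Finset.mem_insert.1 hg with rfl | hg
      · exact hr
      · exact (Finset.mem_sdiff.1 (hR₀' hg)).1
    · rw [← Finset.sum_sdiff hOS, hsum', Finset.sum_image hinj, ← Finset.sum_add_distrib]
      apply Finset.sum_congr rfl
      intro i _
      rw [Finset.sum_insert hrR, mul_add, add_mul, map_mul, map_mul, add_comm]

variable {K : Type*} [Field K] {V : Type*} [AddCommGroup V] [Module K V]
  {G : Type*} [Group G]

/-- the conjugation action on endomorphisms. -/
def conjRep (ρ : Representation K G V) : G →* Module.End K (Module.End K V) where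
  toFun g := LinearMap.mulLeft K (ρ g) ∘ₗ LinearMap.mulRight K (ρ g⁻¹)
  map_one' := by
    ext A
    simp
  map_mul' := by
    intro g h
    ext A
    simp [mul_assoc]

theorem conjRep_apply (ρ : Representation K G V) (g : G) (A : Module.End K V) :
    conjRep ρ g A = ρ g * A * ρ g⁻¹ := by
  simp [conjRep, mul_assoc]

theorem rep_mul_inv (ρ : Representation K G V) (g : G) : ρ g * ρ g⁻¹ = 1 := by
  rw [← map_mul, mul_inv_cancel, map_one]

theorem rep_inv_mul (ρ : Representation K G V) (g : G) : ρ g⁻¹ * ρ g = 1 := by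
  rw [← map_mul, inv_mul_cancel, map_one]

theorem conjRep_eq_self_iff (ρ : Representation K G V) (g : G) (A : Module.End K V) :
    conjRep ρ g A = A ↔ ρ g * A = A * ρ g := by
  rw [conjRep_apply]
  constructor
  · intro h
    calc ρ g * A = ρ g * A * (ρ g⁻¹ * ρ g) := by rw [rep_inv_mul, mul_one]
      _ = (ρ g * A * ρ g⁻¹) * ρ g := by simp only [mul_assoc]
      _ = A * ρ g := by rw [h]
  · intro h
    rw [h, mul_assoc, rep_mul_inv, mul_one]

/-- Schur's lemma over an algebraically closed field. -/
theorem schur [IsAlgClosed K] [FiniteDimensional K V] [Nontrivial V]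
    (ρ : Representation K G V) (Q : Subgroup G)
    (hirr : ∀ W : Submodule K V, (∀ g ∈ Q, Submodule.map (ρ g) W ≤ W) → W = ⊥ ∨ W = ⊤)
    (A : Module.End K V) (hA : ∀ g ∈ Q, ρ g * A = A * ρ g) :
    ∃ c : K, A = c • (1 : Module.End K V) := by
  obtain ⟨μ, hμ⟩ := Module.End.exists_eigenvalue A
  have hW0 : Module.End.eigenspace A μ ≠ ⊥ := Module.End.hasEigenvalue_iff.1 hμ
  have hinv : ∀ g ∈ Q, Submodule.map (ρ g) (Module.End.eigenspace A μ) ≤
      Module.End.eigenspace A μ := by
    intro g hg
    rintro _ ⟨w, hw, rfl⟩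
    rw [SetLike.mem_coe, Module.End.mem_eigenspace_iff] at hw
    rw [Module.End.mem_eigenspace_iff, ← Module.End.mul_apply, ← hA g hg, Module.End.mul_apply,
      hw, map_smul]
  rcases hirr _ hinv with h | h
  · exact absurd h hW0
  · refine ⟨μ, ?_⟩
    ext v
    have hv : v ∈ Module.End.eigenspace A μ := h ▸ Submodule.mem_top
    rw [Module.End.mem_eigenspace_iff] at hv
    rw [hv, LinearMap.smul_apply, Module.End.one_apply]

theorem conjRep_scalar (ρ : Representation K G V) (g : G) (c : K)
    (hc : ρ g = c • (1 : Module.End K V)) : conjRep ρ g = 1 := by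
  ext A : 1
  rw [Module.End.one_apply, conjRep_eq_self_iff, hc, smul_mul_assoc, one_mul, mul_smul_comm,
    mul_one]


end Cfsg.Agent.Helper3.HH
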