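import Mathlib

/-!
# Linear algebra for the Hall--Higman critical case

Nullities of powers of an endomorphism, invariant complements of maximal cyclic subspaces of a
nilpotent endomorphism, and the lower bound `dim V * dim W ≤ s * dim Hom_T(V, W)`.
-/

set_option autoImplicit false

namespace Cfsg.Agent.Helper3.HH

open Module

variable {K : Type*} [Field K] {V : Type*} [AddCommGroup V] [Module K V]
  {W : Type*} [AddCommGroup W] [Module K W]


/-- the successive quotients of the kernels of the powers. -/
theorem finrank_ker_pow_succ [FiniteDimensional K V] (T : Module.End K V) (j : ℕ) :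
    finrank K (LinearMap.ker (T ^ (j + 1))) =
      finrank K (LinearMap.ker (T ^ j)) +
        finrank K ↥(LinearMap.ker T ⊓ LinearMap.range (T ^ j)) := by
  set f : ↥(LinearMap.ker (T ^ (j + 1))) →ₗ[K] V := (T ^ j).domRestrict (LinearMap.ker (T ^ (j + 1))) with hf
  have hle : LinearMap.ker (T ^ j) ≤ LinearMap.ker (T ^ (j + 1)) := by
    intro w hw
    rw [LinearMap.mem_ker] at hw ⊢
    rw [pow_succ', Module.End.mul_apply, hw, map_zero]
  have hker : finrank K (LinearMap.ker f) = finrank K (LinearMap.ker (T ^ j)) := by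
    rw [hf, LinearMap.ker_domRestrict]
    exact LinearEquiv.finrank_eq (Submodule.comapSubtypeEquivOfLe hle)
  have hrange : LinearMap.range f = LinearMap.ker T ⊓ LinearMap.range (T ^ j) := by
    ext y
    constructor
    · rintro ⟨⟨u, hu⟩, rfl⟩
      refine ⟨?_, ?_⟩
      · have hu' := hu
        rw [LinearMap.mem_ker, pow_succ', Module.End.mul_apply] at hu'
        rw [SetLike.mem_coe, LinearMap.mem_ker, hf, LinearMap.domRestrict_apply]
        exact hu'
      · exact ⟨u, rfl⟩
    · rintro ⟨hy1, ⟨w, rfl⟩⟩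
      rw [SetLike.mem_coe, LinearMap.mem_ker] at hy1
      have hw : w ∈ LinearMap.ker (T ^ (j + 1)) := by
        rw [LinearMap.mem_ker, pow_succ', Module.End.mul_apply]
        exact hy1
      exact ⟨⟨w, hw⟩, rfl⟩
  have h := LinearMap.finrank_range_add_finrank_ker f
  rw [hker, hrange] at h
  omega


theorem range_pow_anti (T : Module.End K V) {k s : ℕ} (hks : k ≤ s) :
    LinearMap.range (T ^ s) ≤ LinearMap.range (T ^ k) := by
  obtain ⟨d, rfl⟩ := Nat.exists_eq_add_of_le hks
  rintro y ⟨w, rfl⟩
  exact ⟨(T ^ d) w, by rw [pow_add, Module.End.mul_apply]⟩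

theorem delta_anti [FiniteDimensional K V] (T : Module.End K V) {k s : ℕ} (hks : k ≤ s) :
    finrank K ↥(LinearMap.ker T ⊓ LinearMap.range (T ^ s)) ≤
      finrank K ↥(LinearMap.ker T ⊓ LinearMap.range (T ^ k)) :=
  Submodule.finrank_mono (inf_le_inf_left _ (range_pow_anti T hks))

theorem mul_delta_le [FiniteDimensional K V] (T : Module.End K V) (j : ℕ) :
    j * finrank K ↥(LinearMap.ker T ⊓ LinearMap.range (T ^ j)) ≤
      finrank K (LinearMap.ker (T ^ j)) := by
  induction j with
  | zero => simp
  | succ j ih =>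
    have h1 := finrank_ker_pow_succ T j
    have h2 := delta_anti T (Nat.le_succ j)
    calc (j + 1) * finrank K ↥(LinearMap.ker T ⊓ LinearMap.range (T ^ (j + 1)))
        ≤ (j + 1) * finrank K ↥(LinearMap.ker T ⊓ LinearMap.range (T ^ j)) :=
          Nat.mul_le_mul_left _ h2
      _ = j * finrank K ↥(LinearMap.ker T ⊓ LinearMap.range (T ^ j)) +
            finrank K ↥(LinearMap.ker T ⊓ LinearMap.range (T ^ j)) := by ring
      _ ≤ finrank K (LinearMap.ker (T ^ (j + 1))) := by rw [h1]; omega

/-- concavity of the nullities: `k * dim V ≤ s * dim ker T^k` when `T^s = 0`, `k ≤ s`. -/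
theorem ker_concave_bound [FiniteDimensional K V] (T : Module.End K V) {k s : ℕ} (hks : k ≤ s)
    (hT : T ^ s = 0) :
    k * finrank K V ≤ s * finrank K (LinearMap.ker (T ^ k)) := by
  have key : ∀ d : ℕ, k * finrank K (LinearMap.ker (T ^ (k + d))) ≤
      (k + d) * finrank K (LinearMap.ker (T ^ k)) := by
    intro d
    induction d with
    | zero => simp
    | succ d ih =>
      have h1 := finrank_ker_pow_succ T (k + d)
      have h2 := delta_anti T (Nat.le_add_right k d)
      have h3 := mul_delta_le T k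
      have h4 : k * finrank K ↥(LinearMap.ker T ⊓ LinearMap.range (T ^ (k + d))) ≤
          finrank K (LinearMap.ker (T ^ k)) :=
        le_trans (Nat.mul_le_mul_left _ h2) h3
      rw [show k + (d + 1) = k + d + 1 from rfl, h1]
      nlinarith
  obtain ⟨d, rfl⟩ := Nat.exists_eq_add_of_le hks
  have h := key d
  have htop : LinearMap.ker (T ^ (k + d)) = ⊤ := by rw [hT]; exact LinearMap.ker_zero
  rw [htop, finrank_top] at h
  exact h

/-- if `ker τ ≤ range τ^(N-1)` then `N * dim ker τ ≤ dim`. -/
theorem free_bound [FiniteDimensional K V] (τ : Module.End K V) (N : ℕ)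
    (h : LinearMap.ker τ ≤ LinearMap.range (τ ^ (N - 1))) :
    N * finrank K (LinearMap.ker τ) ≤ finrank K V := by
  have key : ∀ j : ℕ, j ≤ N → finrank K (LinearMap.ker (τ ^ j)) = j * finrank K (LinearMap.ker τ) := by
    intro j
    induction j with
    | zero =>
      intro _
      have : LinearMap.ker (τ ^ 0) = ⊥ := by
        rw [pow_zero]; exact LinearMap.ker_id
      rw [this]; simp
    | succ j ih =>
      intro hj
      have h1 := finrank_ker_pow_succ τ j
      have h2 : LinearMap.ker τ ⊓ LinearMap.range (τ ^ j) = LinearMap.ker τ := by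
        apply inf_eq_left.2
        exact h.trans (range_pow_anti τ (by omega))
      rw [h1, h2, ih (by omega)]
      ring
  have h1 := key N le_rfl
  have h2 : finrank K (LinearMap.ker (τ ^ N)) ≤ finrank K V := Submodule.finrank_le _
  omega


/-- triangularity: a combination of `T^j v` (j ≤ m) annihilated by all `f ∘ T^k` is trivial. -/
theorem cyc_core (T : Module.End K V) (m : ℕ) (hT : T ^ (m + 1) = 0) (v : V)
    (f : V →ₗ[K] K) (hf : f ((T ^ m) v) ≠ 0) (α : Fin (m + 1) → K)
    (h : ∀ k : ℕ, k ≤ m → f ((T ^ k) (∑ j : Fin (m + 1), α j • (T ^ (j : ℕ)) v)) = 0) :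
    α = 0 := by
  by_contra hne
  have hex : ∃ j : ℕ, ∃ hj : j < m + 1, α ⟨j, hj⟩ ≠ 0 := by
    by_contra hcon
    push Not at hcon
    apply hne
    funext j
    exact hcon j.1 j.2
  classical
  let j0 := Nat.find hex
  obtain ⟨hj0, hα0⟩ := Nat.find_spec hex
  have hmin : ∀ j : Fin (m + 1), (j : ℕ) < j0 → α j = 0 := by
    intro j hj
    by_contra hc
    exact Nat.find_min hex hj ⟨j.2, hc⟩
  have h1 := h (m - j0) (by omega)
  rw [map_sum, map_sum] at h1
  rw [Finset.sum_eq_single (⟨j0, hj0⟩ : Fin (m + 1))] at h1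
  · rw [map_smul, map_smul, ← Module.End.mul_apply, ← pow_add] at h1
    have hexp : m - j0 + (⟨j0, hj0⟩ : Fin (m + 1)).1 = m := by
      show m - j0 + j0 = m
      have : j0 < m + 1 := hj0
      omega
    rw [hexp] at h1
    rw [smul_eq_mul] at h1
    rcases mul_eq_zero.1 h1 with h2 | h2
    · exact hα0 h2
    · exact hf h2
  · intro j _ hj
    rcases lt_or_gt_of_ne (fun hc => hj (Fin.ext hc) : (j : ℕ) ≠ j0) with hlt | hgt
    · rw [hmin j hlt, zero_smul, map_zero, map_zero]
    · rw [map_smul, ← Module.End.mul_apply, ← pow_add]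
      have : m - j0 + (j : ℕ) = (m + 1) + ((j : ℕ) - j0 - 1) := by
        have : j0 < m + 1 := hj0
        omega
      rw [this, pow_add, hT, zero_mul, LinearMap.zero_apply, smul_zero, map_zero]
  · intro hc
    exact absurd (Finset.mem_univ _) hc

theorem cyc_li (T : Module.End K V) (m : ℕ) (hT : T ^ (m + 1) = 0) (v : V)
    (hv : (T ^ m) v ≠ 0) :
    LinearIndependent K (fun k : Fin (m + 1) => (T ^ (k : ℕ)) v) := by
  obtain ⟨f, hf⟩ : ∃ f : Module.Dual K V, f ((T ^ m) v) ≠ 0 := by
    by_contra hcon
    push Not at hcon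
    exact hv ((Module.forall_dual_apply_eq_zero_iff K _).1 hcon)
  rw [Fintype.linearIndependent_iff]
  intro α hα
  have := cyc_core T m hT v f hf α (by
    intro k _
    rw [hα, map_zero, map_zero])
  intro i
  rw [this]; rfl

/-- A cyclic subspace of maximal length has an invariant complement. -/
theorem cyc_compl [FiniteDimensional K V] (T : Module.End K V) (m : ℕ) (hT : T ^ (m + 1) = 0)
    (v : V) (hv : (T ^ m) v ≠ 0) :
    ∃ V' : Submodule K V, (∀ w ∈ V', T w ∈ V') ∧
      IsCompl (Submodule.span K (Set.range (fun k : Fin (m + 1) => (T ^ (k : ℕ)) v))) V' := by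
  obtain ⟨f, hf⟩ : ∃ f : Module.Dual K V, f ((T ^ m) v) ≠ 0 := by
    by_contra hcon
    push Not at hcon
    exact hv ((Module.forall_dual_apply_eq_zero_iff K _).1 hcon)
  let Φ : V →ₗ[K] (Fin (m + 1) → K) := LinearMap.pi (fun k => f ∘ₗ (T ^ (k : ℕ)))
  have hΦ : ∀ w, w ∈ LinearMap.ker Φ ↔ ∀ k : ℕ, k ≤ m → f ((T ^ k) w) = 0 := by
    intro w
    rw [LinearMap.mem_ker]
    constructor
    · intro h k hk
      have := congrFun h ⟨k, by omega⟩
      simpa [Φ] using this
    · intro h
      funext k
      simpa [Φ] using h k.1 (by have := k.2; omega)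
  have hli := cyc_li T m hT v hv
  set U := Submodule.span K (Set.range (fun k : Fin (m + 1) => (T ^ (k : ℕ)) v)) with hU
  have hUdim : finrank K U = m + 1 := by
    rw [hU, finrank_span_eq_card hli, Fintype.card_fin]
  refine ⟨LinearMap.ker Φ, ?_, ?_⟩
  · intro w hw
    rw [hΦ] at hw ⊢
    intro k hk
    rw [← Module.End.mul_apply, ← pow_succ]
    by_cases hk' : k + 1 ≤ m
    · exact hw _ hk'
    · have : k + 1 = m + 1 := by omega
      rw [this, hT, LinearMap.zero_apply, map_zero]
  · have hdisj : Disjoint U (LinearMap.ker Φ) := by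
      rw [Submodule.disjoint_def]
      intro x hxU hxK
      rw [hU, Submodule.mem_span_range_iff_exists_fun] at hxU
      obtain ⟨α, rfl⟩ := hxU
      rw [hΦ] at hxK
      have := cyc_core T m hT v f hf α hxK
      rw [this]; simp
    refine ⟨hdisj, ?_⟩
    rw [codisjoint_iff]
    apply Submodule.eq_top_of_finrank_eq
    have h1 := Submodule.finrank_sup_add_finrank_inf_eq U (LinearMap.ker Φ)
    rw [disjoint_iff.1 hdisj, finrank_bot, add_zero] at h1
    have h2 := LinearMap.finrank_range_add_finrank_ker Φ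
    have h3 : finrank K (LinearMap.range Φ) ≤ m + 1 := by
      have := Submodule.finrank_le (LinearMap.range Φ)
      simpa using this
    have h4 := Submodule.finrank_le (U ⊔ LinearMap.ker Φ)
    omega


/-- the space of intertwining maps. -/
def homT (TV : Module.End K V) (TW : Module.End K W) : Submodule K (V →ₗ[K] W) where
  carrier := {B | ∀ x, B (TV x) = TW (B x)}
  add_mem' := by
    intro a b ha hb x
    rw [LinearMap.add_apply, LinearMap.add_apply, ha x, hb x, map_add]
  zero_mem' := by
    intro x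
    rw [LinearMap.zero_apply, LinearMap.zero_apply, map_zero]
  smul_mem' := by
    intro c a ha x
    rw [LinearMap.smul_apply, LinearMap.smul_apply, ha x, map_smul]

theorem mem_homT {TV : Module.End K V} {TW : Module.End K W} {B : V →ₗ[K] W} :
    B ∈ homT TV TW ↔ ∀ x, B (TV x) = TW (B x) := Iff.rfl

theorem homT_pow {TV : Module.End K V} {TW : Module.End K W} {B : V →ₗ[K] W}
    (hB : B ∈ homT TV TW) (k : ℕ) (x : V) : B ((TV ^ k) x) = (TW ^ k) (B x) := by
  induction k generalizing x with
  | zero => simp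
  | succ k ih =>
    rw [pow_succ TV, pow_succ TW, Module.End.mul_apply, Module.End.mul_apply, ih, hB x]

theorem homT_split [FiniteDimensional K V] [FiniteDimensional K W]
    (TV : Module.End K V) (TW : Module.End K W) (m : ℕ) (v : V)
    (hv0 : (TV ^ (m + 1)) v = 0)
    (hli : LinearIndependent K (fun k : Fin (m + 1) => (TV ^ (k : ℕ)) v))
    (V' : Submodule K V) (hV' : ∀ w ∈ V', TV w ∈ V')
    (hc : IsCompl (Submodule.span K (Set.range (fun k : Fin (m + 1) => (TV ^ (k : ℕ)) v))) V') :
    finrank K (LinearMap.ker (TW ^ (m + 1))) + finrank K (homT (TV.restrict hV') TW) ≤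
      finrank K (homT TV TW) := by
  classical
  set U := Submodule.span K (Set.range (fun k : Fin (m + 1) => (TV ^ (k : ℕ)) v)) with hU
  let b : Basis (Fin (m + 1)) K U := Basis.span hli
  have hb : ∀ k : Fin (m + 1), ((b k : U) : V) = (TV ^ (k : ℕ)) v := by
    intro k
    exact congrArg Subtype.val (Basis.span_apply hli k)
  -- the first component
  obtain ⟨L1, hL1⟩ : ∃ L1 : ↥(LinearMap.ker (TW ^ (m + 1))) →ₗ[K] (U →ₗ[K] W),
      ∀ (w : ↥(LinearMap.ker (TW ^ (m + 1)))) (k : Fin (m + 1)),
      L1 w (b k) = (TW ^ (k : ℕ)) (w : W) := by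
    refine ⟨(b.constr K).toLinearMap ∘ₗ (LinearMap.pi (fun k : Fin (m + 1) => TW ^ (k : ℕ))) ∘ₗ
      (LinearMap.ker (TW ^ (m + 1))).subtype, ?_⟩
    intro w k
    simp only [LinearMap.coe_comp, LinearEquiv.coe_coe, Function.comp_apply,
      Submodule.subtype_apply, Basis.constr_basis, LinearMap.pi_apply]
  obtain ⟨Ψ, hΨ⟩ : ∃ Ψ : (↥(LinearMap.ker (TW ^ (m + 1))) × ↥(homT (TV.restrict hV') TW)) →ₗ[K]
      (V →ₗ[K] W), ∀ z, Ψ z = LinearMap.ofIsCompl hc (L1 z.1) (z.2 : ↥V' →ₗ[K] W) := by
    refine ⟨(LinearMap.ofIsComplProd hc) ∘ₗ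
      (LinearMap.prodMap L1 (homT (TV.restrict hV') TW).subtype), ?_⟩
    intro z
    simp only [LinearMap.coe_comp, Function.comp_apply, LinearMap.ofIsComplProd_apply,
      LinearMap.prodMap_apply, Submodule.subtype_apply]
  have hUinv : ∀ u ∈ U, TV u ∈ U := by
    intro u hu
    rw [hU, Submodule.mem_span_range_iff_exists_fun] at hu
    obtain ⟨α, rfl⟩ := hu
    rw [map_sum]
    apply Submodule.sum_mem
    intro k _
    rw [map_smul]
    apply Submodule.smul_mem
    rw [← Module.End.mul_apply, ← pow_succ']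
    by_cases hk : (k : ℕ) + 1 < m + 1
    · exact Submodule.subset_span ⟨⟨(k : ℕ) + 1, hk⟩, rfl⟩
    · have : (k : ℕ) + 1 = m + 1 := by have := k.2; omega
      rw [this, hv0]
      exact Submodule.zero_mem _
  -- equivariance of the first component
  have hL1eq : ∀ (w : ↥(LinearMap.ker (TW ^ (m + 1)))) (u : U),
      L1 w ⟨TV u, hUinv u u.2⟩ = TW (L1 w u) := by
    intro w
    have : (L1 w) ∘ₗ (TV.restrict hUinv) = TW ∘ₗ (L1 w) := by
      apply b.ext
      intro k
      rw [LinearMap.comp_apply, LinearMap.comp_apply, hL1]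
      by_cases hk : (k : ℕ) + 1 < m + 1
      · have h1 : (TV.restrict hUinv) (b k) = b ⟨(k : ℕ) + 1, hk⟩ := by
          apply Subtype.ext
          rw [LinearMap.coe_restrict_apply, hb, hb, ← Module.End.mul_apply, ← pow_succ']
        rw [h1, hL1, ← Module.End.mul_apply, ← pow_succ']
      · have hk' : (k : ℕ) + 1 = m + 1 := by have := k.2; omega
        have h1 : (TV.restrict hUinv) (b k) = 0 := by
          apply Subtype.ext
          rw [LinearMap.coe_restrict_apply, hb, ← Module.End.mul_apply, ← pow_succ', hk', hv0]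
          rfl
        rw [h1, map_zero, ← Module.End.mul_apply, ← pow_succ', hk']
        have := w.2
        rw [LinearMap.mem_ker] at this
        exact this.symm
    intro u
    have h2 := LinearMap.congr_fun this u
    rw [LinearMap.comp_apply, LinearMap.comp_apply] at h2
    exact h2
  have hmem : ∀ z, Ψ z ∈ homT TV TW := by
    intro z
    rw [hΨ, mem_homT]
    have : (LinearMap.ofIsCompl hc (L1 z.1) (z.2 : ↥V' →ₗ[K] W)) ∘ₗ TV =
        TW ∘ₗ (LinearMap.ofIsCompl hc (L1 z.1) (z.2 : ↥V' →ₗ[K] W)) := by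
      have e1 : (LinearMap.ofIsCompl hc (L1 z.1) (z.2 : ↥V' →ₗ[K] W)) ∘ₗ TV =
          LinearMap.ofIsCompl hc (TW ∘ₗ L1 z.1) (TW ∘ₗ (z.2 : ↥V' →ₗ[K] W)) := by
        symm
        apply LinearMap.ofIsCompl_eq
        · intro u
          rw [LinearMap.comp_apply, LinearMap.comp_apply]
          have := LinearMap.ofIsCompl_apply_left hc (φ := L1 z.1) (ψ := (z.2 : ↥V' →ₗ[K] W))
            ⟨TV u, hUinv u u.2⟩
          rw [this, hL1eq]
        · intro u
          rw [LinearMap.comp_apply, LinearMap.comp_apply]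
          have := LinearMap.ofIsCompl_apply_right hc (φ := L1 z.1) (ψ := (z.2 : ↥V' →ₗ[K] W))
            ⟨TV u, hV' u u.2⟩
          rw [this]
          have h3 := (mem_homT.1 z.2.2) u
          rw [← h3]
          rfl
      have e2 : TW ∘ₗ (LinearMap.ofIsCompl hc (L1 z.1) (z.2 : ↥V' →ₗ[K] W)) =
          LinearMap.ofIsCompl hc (TW ∘ₗ L1 z.1) (TW ∘ₗ (z.2 : ↥V' →ₗ[K] W)) := by
        symm
        apply LinearMap.ofIsCompl_eq
        · intro u
          rw [LinearMap.comp_apply, LinearMap.comp_apply, LinearMap.ofIsCompl_apply_left]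
        · intro u
          rw [LinearMap.comp_apply, LinearMap.comp_apply, LinearMap.ofIsCompl_apply_right]
      rw [e1, e2]
    intro x
    have h2 := LinearMap.congr_fun this x
    rw [LinearMap.comp_apply, LinearMap.comp_apply] at h2
    exact h2
  have hinj : Function.Injective Ψ := by
    rw [← LinearMap.ker_eq_bot, LinearMap.ker_eq_bot']
    intro z hz
    rw [hΨ] at hz
    have h0 : (0 : Fin (m + 1)) = ⟨0, Nat.succ_pos m⟩ := rfl
    have hw : (z.1 : W) = 0 := by
      have h1 := LinearMap.ofIsCompl_apply_left hc (φ := L1 z.1) (ψ := (z.2 : ↥V' →ₗ[K] W))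
        (b ⟨0, Nat.succ_pos m⟩)
      rw [hz, LinearMap.zero_apply, hL1] at h1
      simpa using h1.symm
    have hB : (z.2 : ↥V' →ₗ[K] W) = 0 := by
      apply LinearMap.ext
      intro u
      have h1 := LinearMap.ofIsCompl_apply_right hc (φ := L1 z.1) (ψ := (z.2 : ↥V' →ₗ[K] W)) u
      rw [hz, LinearMap.zero_apply] at h1
      rw [← h1]; rfl
    apply Prod.ext
    · exact Subtype.ext hw
    · exact Subtype.ext hB
  let Ψ' : (↥(LinearMap.ker (TW ^ (m + 1))) × ↥(homT (TV.restrict hV') TW)) →ₗ[K]
      ↥(homT TV TW) := Ψ.codRestrict _ hmem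
  have hinj' : Function.Injective Ψ' := by
    intro a b hab
    apply hinj
    have := congrArg Subtype.val hab
    exact this
  have := LinearMap.finrank_le_finrank_of_injective hinj'
  rw [Module.finrank_prod] at this
  exact this


/-- `dim V * dim W ≤ s * dim Hom_T(V, W)` when `T^s = 0` on both. -/
theorem homT_bound {K : Type*} [Field K] {W : Type*} [AddCommGroup W] [Module K W]
    [FiniteDimensional K W] (TW : Module.End K W) (s : ℕ) (hW : TW ^ s = 0) :
    ∀ (n : ℕ) {V : Type*} [AddCommGroup V] [Module K V] [FiniteDimensional K V]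
      (TV : Module.End K V), finrank K V = n → TV ^ s = 0 →
      finrank K V * finrank K W ≤ s * finrank K (homT TV TW) := by
  intro n
  induction n using Nat.strong_induction_on with
  | _ n ih =>
    intro V _ _ _ TV hn hV
    rcases Nat.eq_zero_or_pos n with h0 | hpos
    · rw [hn, h0, zero_mul]; exact Nat.zero_le _
    · haveI : Nontrivial V := by
        apply Module.nontrivial_of_finrank_pos (R := K)
        rw [hn]; exact hpos
      classical
      have hex : ∃ k : ℕ, TV ^ k = 0 := ⟨s, hV⟩
      have hs0ne : Nat.find hex ≠ 0 := by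
        intro h
        have := Nat.find_spec hex
        rw [h, pow_zero] at this
        exact one_ne_zero this
      obtain ⟨m, hm⟩ := Nat.exists_eq_succ_of_ne_zero hs0ne
      have hTm : TV ^ (m + 1) = 0 := by
        have := Nat.find_spec hex
        rwa [hm] at this
      have hms : m + 1 ≤ s := by
        rw [← Nat.succ_eq_add_one, ← hm]
        exact Nat.find_min' hex hV
      have hTm' : TV ^ m ≠ 0 := by
        intro h
        have := Nat.find_min' hex h
        omega
      obtain ⟨v, hv⟩ : ∃ v, (TV ^ m) v ≠ 0 := by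
        by_contra hcon
        push Not at hcon
        apply hTm'
        ext x
        rw [hcon x]; rfl
      have hli := cyc_li TV m hTm v hv
      obtain ⟨V', hV'inv, hc⟩ := cyc_compl TV m hTm v hv
      have hUdim : finrank K (Submodule.span K
          (Set.range (fun k : Fin (m + 1) => (TV ^ (k : ℕ)) v))) = m + 1 := by
        rw [finrank_span_eq_card hli, Fintype.card_fin]
      have hsum := Submodule.finrank_add_eq_of_isCompl hc
      rw [hUdim, hn] at hsum
      have hsplit := homT_split TV TW m v (by rw [hTm]; rfl) hli V' hV'inv hc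
      have hV's : (TV.restrict hV'inv) ^ s = 0 := by
        rw [Module.End.pow_restrict]
        ext x
        simp [hV]
      have hIH := ih (finrank K V') (by omega) (TV.restrict hV'inv) rfl hV's
      have hconc := ker_concave_bound TW hms hW
      rw [hn]
      have : n = (m + 1) + finrank K V' := by omega
      rw [this]
      nlinarith


/-- the commutant of a nilpotent endomorphism is large. -/
theorem commutant_bound {K : Type*} [Field K] {V : Type*} [AddCommGroup V] [Module K V]
    [FiniteDimensional K V] (T : Module.End K V) (s : ℕ) (hT : T ^ s = 0) :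
    finrank K V * finrank K V ≤ s * finrank K (homT T T) :=
  homT_bound T s hT (finrank K V) T rfl hT

end Cfsg.Agent.Helper3.HH
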