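import Mathlib
import Cfsg.Agent.Helper3.HHLinA
import Cfsg.Agent.Helper3.HHConjA

set_option autoImplicit false

namespace Cfsg.Agent.Helper3.HH

open Module

theorem card_filter_mem {G : Type*} [Group G] [Fintype G] (H : Subgroup G)
    [DecidablePred (· ∈ H)] : (Finset.univ.filter (· ∈ H)).card = Nat.card H := by
  rw [← Fintype.card_subtype]
  exact (Nat.card_eq_fintype_card).symm

theorem card_pgroup_ne_zero {G : Type*} [Group G] [Finite G] (p q : ℕ) [Fact p.Prime]
    [Fact q.Prime] (hpq : p ≠ q) (K : Type*) [Field K] [CharP K p] (H : Subgroup G)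
    (hH : IsPGroup q H) : ((Nat.card H : ℕ) : K) ≠ 0 := by
  obtain ⟨k, hk⟩ := hH.exists_card_eq
  rw [hk, Nat.cast_pow]
  apply pow_ne_zero
  intro h
  have := (CharP.cast_eq_zero_iff K p q).1 h
  exact hpq ((Nat.prime_dvd_prime_iff_eq (Fact.out : p.Prime) (Fact.out : q.Prime)).1 this)

set_option maxHeartbeats 800000 in
theorem conj_dim_bound {G : Type*} [Group G] [Finite G] (p q : ℕ) [Fact p.Prime] [Fact q.Prime]
    (hpq : p ≠ q) (Q : Subgroup G) [Q.Normal] (hQ : IsPGroup q Q) (x : G)
    {K : Type*} [Field K] [IsAlgClosed K] [CharP K p] {V : Type*} [AddCommGroup V] [Module K V]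
    [FiniteDimensional K V] [Nontrivial V] (ρ : Representation K G V)
    (hirr : ∀ W : Submodule K V, (∀ g ∈ Q, Submodule.map (ρ g) W ≤ W) → W = ⊥ ∨ W = ⊤)
    (n : ℕ) (hN : orderOf x = p ^ n)
    (hcent : ∀ i, 0 < i → i < orderOf x → ∀ g ∈ Q, x ^ i * g = g * x ^ i →
      g ∈ Subgroup.center G) :
    orderOf x * finrank K (homT (ρ x - 1) (ρ x - 1)) + 1 ≤
      orderOf x + finrank K V * finrank K V := by
  classical
  haveI : Fintype G := Fintype.ofFinite G
  have hNpos : 0 < orderOf x := orderOf_pos x
  obtain ⟨c, hc⟩ : ∃ c : G →* Module.End K (Module.End K V), c = conjRep ρ := ⟨_, rfl⟩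
  have hcapp : ∀ g A, c g A = ρ g * A * ρ g⁻¹ := by
    intro g A; rw [hc, conjRep_apply]
  have hcfix : ∀ g A, c g A = A ↔ ρ g * A = A * ρ g := by
    intro g A; rw [hc, conjRep_eq_self_iff]
  have hc1 : ∀ g, c g 1 = 1 := by
    intro g
    rw [hcapp, mul_one, rep_mul_inv]
  obtain ⟨FQ, hFQ⟩ : ∃ FQ : Finset G, FQ = Finset.univ.filter (· ∈ Q) := ⟨_, rfl⟩
  have hmemFQ : ∀ g, g ∈ FQ ↔ g ∈ Q := by
    intro g; rw [hFQ]; simp
  obtain ⟨e, he⟩ : ∃ e : Module.End K (Module.End K V), e = ∑ g ∈ FQ, c g := ⟨_, rfl⟩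
  have he_left : ∀ h ∈ Q, c h * e = e := by
    intro h hh
    rw [he, Finset.mul_sum]
    apply Finset.sum_equiv (Equiv.mulLeft h)
    · intro g
      rw [hmemFQ, hmemFQ, Equiv.coe_mulLeft]
      exact (Subgroup.mul_mem_cancel_left Q hh).symm
    · intro g _
      rw [Equiv.coe_mulLeft, map_mul]
  have he_right : ∀ h ∈ Q, e * c h = e := by
    intro h hh
    rw [he, Finset.sum_mul]
    apply Finset.sum_equiv (Equiv.mulRight h)
    · intro g
      rw [hmemFQ, hmemFQ, Equiv.coe_mulRight]
      exact (Subgroup.mul_mem_cancel_right Q hh).symm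
    · intro g _
      rw [Equiv.coe_mulRight, map_mul]
  have hconjQ : ∀ g, g ∈ Q ↔ x * g * x⁻¹ ∈ Q := by
    intro g
    constructor
    · intro h
      exact Subgroup.Normal.conj_mem inferInstance g h x
    · intro h
      have := Subgroup.Normal.conj_mem (inferInstance : Q.Normal) _ h x⁻¹
      simpa [mul_assoc] using this
  have he_x : c x * e = e * c x := by
    rw [he, Finset.mul_sum, Finset.sum_mul]
    apply Finset.sum_equiv (MulAut.conj x).toEquiv
    · intro g
      rw [hmemFQ, hmemFQ]
      exact hconjQ g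
    · intro g _
      rw [← map_mul, ← map_mul]
      congr 1
      simp [MulAut.conj_apply]
  have he_scalar : ∀ A, ∃ l : K, e A = l • (1 : Module.End K V) := by
    intro A
    apply schur ρ Q hirr
    intro h hh
    rw [← hcfix, ← Module.End.mul_apply, he_left h hh]
  have he1 : e 1 = ((Nat.card Q : ℕ) : K) • (1 : Module.End K V) := by
    rw [he, LinearMap.sum_apply, Finset.sum_congr rfl (fun g _ => hc1 g), Finset.sum_const,
      hFQ, card_filter_mem, Nat.cast_smul_eq_nsmul]
  have hQ0 : ((Nat.card Q : ℕ) : K) ≠ 0 := card_pgroup_ne_zero p q hpq K Q hQ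
  have hone : (1 : Module.End K V) ≠ 0 := one_ne_zero
  -- the complement M
  have hMC : ∀ A ∈ LinearMap.ker e, (c x - 1) A ∈ LinearMap.ker e := by
    intro A hA
    rw [LinearMap.mem_ker] at hA ⊢
    rw [LinearMap.sub_apply, Module.End.one_apply, map_sub, hA, sub_zero,
      ← Module.End.mul_apply, ← he_x, Module.End.mul_apply, hA, map_zero]
  -- key: kernel of τ inside the range of the top power
  have hF : LinearMap.ker ((c x - 1).restrict hMC) ≤
      LinearMap.range (((c x - 1).restrict hMC) ^ (orderOf x - 1)) := by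
    intro A hA
    rw [LinearMap.mem_ker] at hA
    have hA' : c x (A : Module.End K V) = (A : Module.End K V) := by
      have := congrArg Subtype.val hA
      rw [LinearMap.coe_restrict_apply, LinearMap.sub_apply, Module.End.one_apply] at this
      exact sub_eq_zero.1 this
    have hfix : ∀ i : ℕ, c (x ^ i) (A : Module.End K V) = (A : Module.End K V) := by
      intro i
      induction i with
      | zero => rw [pow_zero, map_one, Module.End.one_apply]
      | succ i ih => rw [pow_succ, map_mul, Module.End.mul_apply, hA', ih]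
    have hfix' : ∀ i : ℕ, c ((x ^ i)⁻¹) (A : Module.End K V) = (A : Module.End K V) := by
      intro i
      have := congrArg (c ((x ^ i)⁻¹)) (hfix i)
      rw [← Module.End.mul_apply, ← map_mul, inv_mul_cancel, map_one,
        Module.End.one_apply] at this
      exact this.symm
    -- split the sum
    obtain ⟨FZ, hFZ⟩ : ∃ FZ : Finset G, FZ = FQ.filter (· ∈ Subgroup.center G) := ⟨_, rfl⟩
    obtain ⟨FS, hFS⟩ : ∃ FS : Finset G, FS = FQ.filter (· ∉ Subgroup.center G) := ⟨_, rfl⟩
    have hsplit : e = ∑ g ∈ FZ, c g + ∑ g ∈ FS, c g := by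
      rw [he, hFZ, hFS, Finset.sum_filter_add_sum_filter_not]
    have hmemFS : ∀ g, g ∈ FS ↔ g ∈ Q ∧ g ∉ Subgroup.center G := by
      intro g; rw [hFS, Finset.mem_filter, hmemFQ]
    have hmemFZ : ∀ g, g ∈ FZ ↔ g ∈ Q ⊓ Subgroup.center G := by
      intro g; rw [hFZ, Finset.mem_filter, hmemFQ, Subgroup.mem_inf]
    have hZ1 : ∀ g ∈ FZ, c g = 1 := by
      intro g hg
      rw [hmemFZ, Subgroup.mem_inf] at hg
      obtain ⟨l, hl⟩ := schur ρ Q hirr (ρ g) (by
        intro h _
        rw [← map_mul, ← map_mul]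
        congr 1
        exact (Subgroup.mem_center_iff.1 hg.2 h))
      rw [hc]
      exact conjRep_scalar ρ g l hl
    have hZsum : ∑ g ∈ FZ, c g = ((Nat.card ↥(Q ⊓ Subgroup.center G) : ℕ) : K) •
        (1 : Module.End K (Module.End K V)) := by
      rw [Finset.sum_congr rfl hZ1, Finset.sum_const, Nat.cast_smul_eq_nsmul]
      congr 1
      rw [← card_filter_mem]
      congr 1
      ext g
      rw [hmemFZ]; simp
    have hz0 : ((Nat.card ↥(Q ⊓ Subgroup.center G) : ℕ) : K) ≠ 0 :=
      card_pgroup_ne_zero p q hpq K _ (hQ.to_le inf_le_left)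
    -- the orbit decomposition
    have hinvS : ∀ g ∈ FS, x * g * x⁻¹ ∈ FS := by
      intro g hg
      rw [hmemFS] at hg ⊢
      refine ⟨(hconjQ g).1 hg.1, ?_⟩
      intro hcen
      apply hg.2
      have h1 := Subgroup.mem_center_iff.1 hcen x
      have h2 : g = x * g * x⁻¹ := by
        have : x * (x * g * x⁻¹) = x * g := by rw [h1]; group
        exact (mul_left_cancel this).symm
      rw [h2]; exact hcen
    have hfreeS : ∀ g ∈ FS, ∀ i, 0 < i → i < orderOf x → x ^ i * g * (x ^ i)⁻¹ ≠ g := by
      intro g hg i hi0 hiN h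
      rw [hmemFS] at hg
      apply hg.2
      apply hcent i hi0 hiN g hg.1
      have := congrArg (· * x ^ i) h
      simpa [mul_assoc] using this
    obtain ⟨R₀, hR₀, hsum⟩ := orbit_sum c x (orderOf x) hNpos (pow_orderOf_eq_one x) FS.card FS rfl
      hinvS hfreeS
    obtain ⟨ψ, hψ⟩ : ∃ ψ : Module.End K (Module.End K V), ψ = ∑ r ∈ R₀, c r := ⟨_, rfl⟩
    rw [← hψ] at hsum
    have hψM : ψ (A : Module.End K V) ∈ LinearMap.ker e := by
      rw [LinearMap.mem_ker, hψ, LinearMap.sum_apply, map_sum]
      apply Finset.sum_eq_zero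
      intro r hr
      have hrQ : r ∈ Q := ((hmemFS r).1 (hR₀ hr)).1
      rw [← Module.End.mul_apply, he_right r hrQ]
      exact LinearMap.mem_ker.1 A.2
    have hgeo : ∑ i ∈ Finset.range (orderOf x), (c x) ^ i = (c x - 1) ^ (orderOf x - 1) := by
      rw [hN]
      exact geom_sum_eq_pow K p n (c x)
    have heval : (0 : Module.End K V) =
        ((Nat.card ↥(Q ⊓ Subgroup.center G) : ℕ) : K) • (A : Module.End K V) +
          ((c x - 1) ^ (orderOf x - 1)) (ψ (A : Module.End K V)) := by
      have h0 : (∑ g ∈ FZ, c g + ∑ g ∈ FS, c g) (A : Module.End K V) = 0 := by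
        rw [← hsplit]; exact LinearMap.mem_ker.1 A.2
      rw [hZsum, hsum, LinearMap.add_apply, LinearMap.smul_apply,
        Module.End.one_apply, LinearMap.sum_apply] at h0
      rw [← h0, ← hgeo, LinearMap.sum_apply]
      congr 1
      apply Finset.sum_congr rfl
      intro i _
      rw [Module.End.mul_apply, Module.End.mul_apply, hfix', map_pow]
    refine ⟨⟨(-(((Nat.card ↥(Q ⊓ Subgroup.center G) : ℕ) : K))⁻¹) • ψ (A : Module.End K V),
      Submodule.smul_mem _ _ hψM⟩, ?_⟩
    apply Subtype.ext
    rw [Module.End.pow_restrict, LinearMap.coe_restrict_apply]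
    simp only []
    rw [map_smul]
    have h1 : ((c x - 1) ^ (orderOf x - 1)) (ψ (A : Module.End K V)) =
        -(((Nat.card ↥(Q ⊓ Subgroup.center G) : ℕ) : K) • (A : Module.End K V)) := by
      have := heval
      rw [eq_comm, add_comm, add_eq_zero_iff_eq_neg] at this
      exact this
    rw [h1, smul_neg, neg_smul, neg_neg, smul_smul, inv_mul_cancel₀ hz0, one_smul]
  have hfree := free_bound ((c x - 1).restrict hMC) (orderOf x) hF
  -- dimension of M
  have hMdim : finrank K ↥(LinearMap.ker e) + 1 ≤ finrank K V * finrank K V := by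
    have h1 := LinearMap.finrank_range_add_finrank_ker e
    rw [Module.finrank_linearMap] at h1
    have h2 : 1 ≤ finrank K ↥(LinearMap.range e) := by
      rw [Submodule.one_le_finrank_iff]
      intro h
      have : e 1 ∈ LinearMap.range e := LinearMap.mem_range_self e 1
      rw [h, Submodule.mem_bot, he1] at this
      rcases smul_eq_zero.1 this with h3 | h3
      · exact hQ0 h3
      · exact hone h3
    omega
  -- dimension of the commutant
  have hcomm : finrank K ↥(homT (ρ x - 1) (ρ x - 1)) ≤
      1 + finrank K ↥(LinearMap.ker ((c x - 1).restrict hMC)) := by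
    have hle : homT (ρ x - 1) (ρ x - 1) ≤
        Submodule.span K {(1 : Module.End K V)} ⊔
          (LinearMap.ker ((c x - 1).restrict hMC)).map (LinearMap.ker e).subtype := by
      intro A hA
      have hAx : ρ x * A = A * ρ x := by
        ext v
        have := mem_homT.1 hA v
        rw [LinearMap.sub_apply, Module.End.one_apply, map_sub, LinearMap.sub_apply,
          Module.End.one_apply] at this
        rw [Module.End.mul_apply, Module.End.mul_apply]
        have h2 := sub_left_injective this
        exact h2.symm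
      have hcA : c x A = A := (hcfix x A).2 hAx
      obtain ⟨l, hl⟩ := he_scalar A
      obtain ⟨d, hd⟩ : ∃ d : K, d = l / ((Nat.card Q : ℕ) : K) := ⟨_, rfl⟩
      have hA'M : A - d • (1 : Module.End K V) ∈ LinearMap.ker e := by
        rw [LinearMap.mem_ker, map_sub, map_smul, he1, hl, smul_smul, hd,
          div_mul_cancel₀ _ hQ0, sub_self]
      have hA'ker : (⟨A - d • (1 : Module.End K V), hA'M⟩ : ↥(LinearMap.ker e)) ∈
          LinearMap.ker ((c x - 1).restrict hMC) := by
        rw [LinearMap.mem_ker]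
        apply Subtype.ext
        rw [LinearMap.coe_restrict_apply]
        simp only []
        rw [LinearMap.sub_apply, Module.End.one_apply, map_sub, map_smul, hcA, hc1]
        simp
      have : A = d • (1 : Module.End K V) + (A - d • (1 : Module.End K V)) := by abel
      rw [this]
      apply Submodule.add_mem_sup
      · exact Submodule.smul_mem _ _ (Submodule.subset_span rfl)
      · exact ⟨⟨A - d • (1 : Module.End K V), hA'M⟩, hA'ker, rfl⟩
    have h1 := Submodule.finrank_mono hle
    have h2 := Submodule.finrank_add_le_finrank_add_finrank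
      (Submodule.span K {(1 : Module.End K V)})
      ((LinearMap.ker ((c x - 1).restrict hMC)).map (LinearMap.ker e).subtype)
    have h3 : finrank K ↥(Submodule.span K {(1 : Module.End K V)}) = 1 :=
      finrank_span_singleton hone
    have h4 := Submodule.finrank_map_subtype_eq (LinearMap.ker e)
      (LinearMap.ker ((c x - 1).restrict hMC))
    calc finrank K ↥(homT (ρ x - 1) (ρ x - 1)) ≤ _ := h1
      _ ≤ _ := h2
      _ = 1 + finrank K ↥(LinearMap.ker ((c x - 1).restrict hMC)) := by rw [h3, h4]
  have h5 := Nat.mul_le_mul_left (orderOf x) hcomm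
  rw [mul_add, mul_one] at h5
  omega

end Cfsg.Agent.Helper3.HH
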