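import Mathlib

set_option autoImplicit false

namespace Cfsg.Agent.Helper3.Shult

open Module

variable {K : Type*} [Field K] {W : Type*} [AddCommGroup W] [Module K W]

/-- transitivity of an irreducible algebra of operators. -/
theorem cyclic_of_irr (B : Submodule K (Module.End K W)) (h1 : (1 : Module.End K W) ∈ B)
    (hmul : ∀ a ∈ B, ∀ b ∈ B, a * b ∈ B)
    (hirr : ∀ U : Submodule K W, (∀ b ∈ B, ∀ u ∈ U, b u ∈ U) → U = ⊥ ∨ U = ⊤)
    (w : W) (hw : w ≠ 0) (w' : W) : ∃ b ∈ B, b w = w' := by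
  have hU : B.map (LinearMap.applyₗ w) = ⊤ := by
    rcases hirr (B.map (LinearMap.applyₗ w)) (by
      rintro b hb _ ⟨a, ha, rfl⟩
      exact ⟨b * a, hmul b hb a ha, rfl⟩) with h | h
    · exfalso
      have : w ∈ B.map (LinearMap.applyₗ w) := ⟨1, h1, rfl⟩
      rw [h, Submodule.mem_bot] at this
      exact hw this
    · exact h
  have : w' ∈ B.map (LinearMap.applyₗ w) := hU ▸ Submodule.mem_top
  obtain ⟨b, hb, hbw⟩ := this
  exact ⟨b, hb, hbw⟩

/-- an irreducible algebra of operators over an algebraically closed field contains an operator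
of rank one. -/
theorem exists_rank_one [IsAlgClosed K] [FiniteDimensional K W] [Nontrivial W]
    (B : Submodule K (Module.End K W)) (h1 : (1 : Module.End K W) ∈ B)
    (hmul : ∀ a ∈ B, ∀ b ∈ B, a * b ∈ B)
    (hirr : ∀ U : Submodule K W, (∀ b ∈ B, ∀ u ∈ U, b u ∈ U) → U = ⊥ ∨ U = ⊤) :
    ∃ T ∈ B, finrank K (LinearMap.range T) = 1 := by
  classical
  have hex : ∃ n : ℕ, ∃ T ∈ B, T ≠ 0 ∧ finrank K (LinearMap.range T) = n :=
    ⟨_, 1, h1, one_ne_zero, rfl⟩
  obtain ⟨T, hTB, hT0, hTn⟩ := Nat.find_spec hex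
  have hmin : ∀ T' ∈ B, T' ≠ 0 → finrank K (LinearMap.range T) ≤ finrank K (LinearMap.range T') := by
    intro T' hT' hT'0
    rw [hTn]
    exact Nat.find_min' hex ⟨T', hT', hT'0, rfl⟩
  refine ⟨T, hTB, ?_⟩
  have hpos : 1 ≤ finrank K (LinearMap.range T) := by
    rw [Submodule.one_le_finrank_iff]
    intro h
    exact hT0 (LinearMap.range_eq_bot.1 h)
  by_contra hne
  have h2 : 2 ≤ finrank K (LinearMap.range T) := by omega
  -- pick y₁ = T w₁ ≠ 0
  obtain ⟨w₁, hw₁⟩ : ∃ w₁, T w₁ ≠ 0 := by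
    by_contra hcon
    push Not at hcon
    exact hT0 (LinearMap.ext hcon)
  -- pick y₂ = T w₂ ∉ span {T w₁}
  obtain ⟨w₂, hw₂⟩ : ∃ w₂, T w₂ ∉ Submodule.span K {T w₁} := by
    by_contra hcon
    push Not at hcon
    have hle : LinearMap.range T ≤ Submodule.span K {T w₁} := by
      rintro _ ⟨v, rfl⟩
      exact hcon v
    have := Submodule.finrank_mono hle
    rw [finrank_span_singleton hw₁] at this
    omega
  obtain ⟨S, hSB, hS⟩ := cyclic_of_irr B h1 hmul hirr (T w₁) hw₁ w₂
  -- the operator T * S on the range of T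
  have hinv : ∀ y ∈ LinearMap.range T, (T * S) y ∈ LinearMap.range T := by
    intro y _
    exact ⟨S y, rfl⟩
  haveI : Nontrivial ↥(LinearMap.range T) := by
    apply Module.nontrivial_of_finrank_pos (R := K)
    omega
  obtain ⟨μ, hμ⟩ := Module.End.exists_eigenvalue ((T * S).restrict hinv)
  obtain ⟨⟨y, hyR⟩, hy⟩ := hμ.exists_hasEigenvector
  have hy0 : y ≠ 0 := by
    intro h
    apply hy.2
    exact Subtype.ext h
  have hyeq : (T * S) y = μ • y := by
    have := hy.apply_eq_smul
    have h3 := congrArg Subtype.val this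
    simpa using h3
  obtain ⟨z, rfl⟩ := hyR
  have hT'B : T * S * T - μ • T ∈ B :=
    B.sub_mem (hmul _ (hmul T hTB S hSB) T hTB) (B.smul_mem _ hTB)
  have hT'z : (T * S * T - μ • T) z = 0 := by
    rw [LinearMap.sub_apply, LinearMap.smul_apply, Module.End.mul_apply, hyeq, sub_self]
  have hT'0 : T * S * T - μ • T ≠ 0 := by
    intro h
    have h3 := LinearMap.congr_fun h w₁
    rw [LinearMap.sub_apply, LinearMap.smul_apply, Module.End.mul_apply, Module.End.mul_apply, hS,
      LinearMap.zero_apply, sub_eq_zero] at h3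
    apply hw₂
    rw [h3]
    exact Submodule.smul_mem _ _ (Submodule.subset_span rfl)
  have hker : LinearMap.ker T < LinearMap.ker (T * S * T - μ • T) := by
    refine lt_of_le_of_ne ?_ ?_
    · intro v hv
      rw [LinearMap.mem_ker] at hv ⊢
      rw [LinearMap.sub_apply, LinearMap.smul_apply, Module.End.mul_apply, hv, map_zero, smul_zero,
        sub_zero]
    · intro h
      have : z ∈ LinearMap.ker (T * S * T - μ • T) := LinearMap.mem_ker.2 hT'z
      rw [← h, LinearMap.mem_ker] at this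
      exact hy0 this
  have h5 := Submodule.finrank_lt_finrank_of_lt hker
  have h6 := LinearMap.finrank_range_add_finrank_ker T
  have h7 := LinearMap.finrank_range_add_finrank_ker (T * S * T - μ • T)
  have h8 := hmin _ hT'B hT'0
  omega

/-- Burnside's theorem: an irreducible algebra of operators on a finite-dimensional space over an
algebraically closed field is the full algebra of endomorphisms. -/
theorem burnside [IsAlgClosed K] [FiniteDimensional K W] [Nontrivial W]
    (B : Submodule K (Module.End K W)) (h1 : (1 : Module.End K W) ∈ B)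
    (hmul : ∀ a ∈ B, ∀ b ∈ B, a * b ∈ B)
    (hirr : ∀ U : Submodule K W, (∀ b ∈ B, ∀ u ∈ U, b u ∈ U) → U = ⊥ ∨ U = ⊤) : B = ⊤ := by
  classical
  obtain ⟨T₀, hT₀B, hT₀r⟩ := exists_rank_one B h1 hmul hirr
  -- T₀ = φ₀ ⊗ w₀
  have hT₀0 : T₀ ≠ 0 := by
    intro h
    rw [h, LinearMap.range_zero, finrank_bot] at hT₀r
    omega
  obtain ⟨v₀, hv₀⟩ : ∃ v₀, T₀ v₀ ≠ 0 := by
    by_contra hcon
    push Not at hcon
    exact hT₀0 (LinearMap.ext hcon)
  obtain ⟨f, hf⟩ : ∃ f : Module.Dual K W, f (T₀ v₀) = 1 := by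
    obtain ⟨f, hf⟩ : ∃ f : Module.Dual K W, f (T₀ v₀) ≠ 0 := by
      by_contra hcon
      push Not at hcon
      exact hv₀ ((Module.forall_dual_apply_eq_zero_iff K _).1 hcon)
    refine ⟨(f (T₀ v₀))⁻¹ • f, ?_⟩
    rw [LinearMap.smul_apply, smul_eq_mul, inv_mul_cancel₀ hf]
  have hrange : LinearMap.range T₀ = Submodule.span K {T₀ v₀} := by
    symm
    apply Submodule.eq_of_le_of_finrank_eq
    · rw [Submodule.span_singleton_le_iff_mem]
      exact ⟨v₀, rfl⟩
    · rw [finrank_span_singleton hv₀, hT₀r]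
  have hT₀ : ∀ v, T₀ v = (f (T₀ v)) • T₀ v₀ := by
    intro v
    have : T₀ v ∈ Submodule.span K {T₀ v₀} := hrange ▸ ⟨v, rfl⟩
    obtain ⟨c, hc⟩ := Submodule.mem_span_singleton.1 this
    rw [← hc, map_smul, smul_eq_mul, hf, mul_one]
  -- every functional is φ₀ ∘ S'
  have hfun : ∀ φ : Module.Dual K W, ∃ S' ∈ B, φ = (f ∘ₗ T₀) ∘ₗ S' := by
    have htop : B.map (LinearMap.llcomp K W W K (f ∘ₗ T₀)) = ⊤ := by
      apply Submodule.eq_top_of_finrank_eq
      have h3 := Subspace.finrank_add_finrank_dualCoannihilator_eq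
        (B.map (LinearMap.llcomp K W W K (f ∘ₗ T₀)))
      have h4 : (B.map (LinearMap.llcomp K W W K (f ∘ₗ T₀))).dualCoannihilator = ⊥ := by
        rw [eq_bot_iff]
        intro v hv
        rw [Submodule.mem_dualCoannihilator] at hv
        rw [Submodule.mem_bot]
        by_contra hv0
        obtain ⟨S', hS'B, hS'⟩ := cyclic_of_irr B h1 hmul hirr v hv0 v₀
        have := hv _ ⟨S', hS'B, rfl⟩
        rw [LinearMap.llcomp_apply, hS', LinearMap.comp_apply, hf] at this
        exact one_ne_zero this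
      rw [h4, finrank_bot, add_zero] at h3
      rw [h3, Subspace.dual_finrank_eq]
    intro φ
    have : φ ∈ B.map (LinearMap.llcomp K W W K (f ∘ₗ T₀)) := htop ▸ Submodule.mem_top
    obtain ⟨S', hS'B, hS'⟩ := this
    refine ⟨S', hS'B, ?_⟩
    rw [← hS']
    rfl
  -- all rank one operators lie in B
  have hrk : ∀ (φ : Module.Dual K W) (w : W), φ.smulRight w ∈ B := by
    intro φ w
    obtain ⟨S, hSB, hS⟩ := cyclic_of_irr B h1 hmul hirr (T₀ v₀) hv₀ w
    obtain ⟨S', hS'B, hS'⟩ := hfun φ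
    have : φ.smulRight w = S * T₀ * S' := by
      ext v
      rw [LinearMap.smulRight_apply, Module.End.mul_apply, Module.End.mul_apply, hT₀, map_smul, hS,
        hS']
      rfl
    rw [this]
    exact hmul _ (hmul S hSB T₀ hT₀B) S' hS'B
  rw [eq_top_iff]
  intro A _
  let b := Module.finBasis K W
  have : A = ∑ i, (b.coord i).smulRight (A (b i)) := by
    apply b.ext
    intro j
    rw [LinearMap.sum_apply]
    simp only [LinearMap.smulRight_apply, Basis.coord_apply, Basis.repr_self]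
    rw [Finset.sum_eq_single j]
    · simp
    · intro i _ hij
      rw [Finsupp.single_apply, if_neg (Ne.symm hij), zero_smul]
    · intro h
      exact absurd (Finset.mem_univ j) h
  rw [this]
  exact B.sum_mem (fun i _ => hrk _ _)

end Cfsg.Agent.Helper3.Shult
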