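import Mathlib

set_option autoImplicit false

namespace Cfsg.Agent.Helper3.Shult

open Module

variable {K : Type*} [Field K] {W : Type*} [AddCommGroup W] [Module K W]

/-- the centralizer of an operator, as a subspace of the endomorphisms. -/
def cent (T : Module.End K W) : Submodule K (Module.End K W) where
  carrier := {A | T * A = A * T}
  add_mem' := by
    intro a b ha hb
    change T * (a + b) = (a + b) * T
    rw [mul_add, add_mul, ha, hb]
  zero_mem' := by
    change T * 0 = 0 * T
    rw [mul_zero, zero_mul]
  smul_mem' := by
    intro c a ha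
    change T * (c • a) = (c • a) * T
    rw [mul_smul_comm, smul_mul_assoc, ha]

theorem mem_cent {T A : Module.End K W} : A ∈ cent T ↔ T * A = A * T := Iff.rfl

/-- counting pairs with equal labels: Cauchy–Schwarz. -/
theorem card_sq_le {ι : Type*} [Fintype ι] [DecidableEq ι] {S : Type*} [DecidableEq S]
    (ev : ι → S) (F : Finset S) (hF : ∀ i, ev i ∈ F) :
    Fintype.card ι * Fintype.card ι ≤
      F.card * (Finset.univ.filter (fun p : ι × ι => ev p.1 = ev p.2)).card := by
  have h1 : Fintype.card ι = ∑ s ∈ F, (Finset.univ.filter (fun i => ev i = s)).card := by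
    rw [← Finset.card_univ]
    exact Finset.card_eq_sum_card_fiberwise (fun i _ => hF i)
  have h2 : (Finset.univ.filter (fun p : ι × ι => ev p.1 = ev p.2)).card =
      ∑ s ∈ F, (Finset.univ.filter (fun i => ev i = s)).card ^ 2 := by
    rw [Finset.card_eq_sum_card_fiberwise (f := fun p : ι × ι => ev p.1) (t := F)
      (fun p _ => hF p.1)]
    apply Finset.sum_congr rfl
    intro s _
    rw [sq, ← Finset.card_product]
    congr 1
    ext ⟨i, j⟩
    simp only [Finset.mem_filter, Finset.mem_univ, true_and, Finset.mem_product]
    constructor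
    · rintro ⟨h, h'⟩
      exact ⟨h', h ▸ h'⟩
    · rintro ⟨h, h'⟩
      exact ⟨h.trans h'.symm, h⟩
  rw [h2, h1, ← sq]
  exact sq_sum_le_card_mul_sum_sq

theorem cent_lower_of_basis [FiniteDimensional K W] (T : Module.End K W) (r : ℕ)
    (hr0 : 0 < r) (hT : T ^ r = 1) (hfix : ∀ w, T w = w → w = 0)
    {ι : Type*} [Fintype ι] [DecidableEq ι] (b : Basis ι K W) (ev : ι → K)
    (hb : ∀ i, T (b i) = ev i • b i) :
    finrank K W * finrank K W ≤ (r - 1) * finrank K (cent T) := by
  classical
  -- the labels are nontrivial r-th roots of unity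
  have hroot : ∀ a : ι, ev a ∈ (Polynomial.nthRootsFinset r (1 : K)).erase 1 := by
    intro a
    have hb0 : b a ≠ 0 := b.ne_zero a
    rw [Finset.mem_erase, Polynomial.mem_nthRootsFinset hr0]
    constructor
    · intro h1
      apply hb0
      apply hfix
      rw [hb a, h1, one_smul]
    · have h1 : (T ^ r) (b a) = ev a ^ r • b a := by
        have : ∀ n : ℕ, (T ^ n) (b a) = ev a ^ n • b a := by
          intro n
          induction n with
          | zero => simp
          | succ n ih => rw [pow_succ', Module.End.mul_apply, ih, map_smul, hb a, smul_smul,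
              ← pow_succ]
        exact this r
      rw [hT, Module.End.one_apply] at h1
      have h2 : (ev a ^ r - 1) • b a = 0 := by
        rw [sub_smul, one_smul, ← h1, sub_self]
      rcases smul_eq_zero.1 h2 with h3 | h3
      · exact sub_eq_zero.1 h3
      · exact absurd h3 hb0
  have hFcard : ((Polynomial.nthRootsFinset r (1 : K)).erase 1).card ≤ r - 1 := by
    have h1 : (1 : K) ∈ Polynomial.nthRootsFinset r (1 : K) := by
      rw [Polynomial.mem_nthRootsFinset hr0, one_pow]
    rw [Finset.card_erase_of_mem h1]
    have h2 : (Polynomial.nthRootsFinset r (1 : K)).card ≤ r := by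
      unfold Polynomial.nthRootsFinset
      exact (Multiset.toFinset_card_le _).trans (Polynomial.card_nthRoots r 1)
    omega
  have hcs := card_sq_le ev _ hroot
  -- the matrix units in the centralizer
  have hli : LinearIndependent K (fun p : {p : ι × ι // ev p.1 = ev p.2} =>
        (⟨b.end p.1, by
          rw [mem_cent]
          have := Module.Basis.lie_end_of_apply_eq_smul b ev T hb p.1.1 p.1.2
          rw [p.2, sub_self, zero_smul, Ring.lie_def, sub_eq_zero] at this
          exact this⟩ : cent T)) := by
    apply LinearIndependent.of_comp (cent T).subtype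
    exact b.end.linearIndependent.comp _ Subtype.val_injective
  have h3 := hli.fintype_card_le_finrank
  rw [Fintype.card_subtype] at h3
  rw [Module.finrank_eq_card_basis b]
  calc _ ≤ _ := hcs
    _ ≤ (r - 1) * _ := Nat.mul_le_mul_right _ hFcard
    _ ≤ _ := Nat.mul_le_mul_left _ h3

/-- lower bound for the centralizer of a semisimple operator of order `r` without fixed vectors. -/
theorem cent_lower [IsAlgClosed K] [FiniteDimensional K W] (T : Module.End K W) (r : ℕ)
    (hr0 : 0 < r) (hrK : (r : K) ≠ 0) (hT : T ^ r = 1) (hfix : ∀ w, T w = w → w = 0) :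
    finrank K W * finrank K W ≤ (r - 1) * finrank K (cent T) := by
  classical
  have hss : T.IsSemisimple := by
    apply Module.End.isSemisimple_of_squarefree_aeval_eq_zero
      (p := (Polynomial.X ^ r - Polynomial.C 1 : Polynomial K))
    · exact (Polynomial.separable_X_pow_sub_C (1 : K) hrK one_ne_zero).squarefree
    · simp [hT]
  have htop : ⨆ μ, Module.End.eigenspace T μ = ⊤ := hss.iSup_eigenspace_eq_top
  have hind := Module.End.eigenspaces_iSupIndep T
  have hint := DirectSum.isInternal_submodule_of_iSupIndep_of_iSup_eq_top hind htop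
  obtain ⟨b, hb⟩ : ∃ b : Basis (Σ μ : K, Fin (finrank K (Module.End.eigenspace T μ))) K W,
      ∀ a, T (b a) = a.1 • b a := by
    refine ⟨hint.collectedBasis (fun μ => Module.finBasis K _), ?_⟩
    intro a
    have := hint.collectedBasis_mem (fun μ => Module.finBasis K (Module.End.eigenspace T μ)) a
    exact Module.End.mem_eigenspace_iff.1 this
  haveI : Fintype (Σ μ : K, Fin (finrank K (Module.End.eigenspace T μ))) :=
    FiniteDimensional.fintypeBasisIndex b
  exact cent_lower_of_basis T r hr0 hT hfix b (fun a => a.1) hb

/-- fixed points of a monomial operator: bounded by the number of orbit representatives. -/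
theorem mono_fixed {V : Type*} [AddCommGroup V] [Module K V] {ι : Type*} [Fintype ι]
    [DecidableEq ι] (b : Basis ι K V) (c : Module.End K V) (σ : ι → ι)
    (hσ : Function.Injective σ) (s : ι → K) (hc : ∀ i, c (b i) = s i • b (σ i)) (R : Finset ι)
    (hR : ∀ i, ∃ j ∈ R, ∃ n : ℕ, σ^[n] j = i) :
    finrank K (LinearMap.ker (c - 1)) ≤ R.card := by
  classical
  have hcoord : ∀ i, (b.coord (σ i)) ∘ₗ c = s i • b.coord i := by
    intro i
    apply b.ext
    intro k
    rw [LinearMap.comp_apply, hc, map_smul, LinearMap.smul_apply, Basis.coord_apply,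
      Basis.coord_apply, Basis.repr_self, Basis.repr_self, Finsupp.single_apply,
      Finsupp.single_apply]
    by_cases hki : k = i
    · subst hki; simp
    · rw [if_neg (fun h => hki (hσ h)), if_neg hki, smul_zero, smul_zero]
  let Φ : LinearMap.ker (c - 1) →ₗ[K] (R → K) :=
    LinearMap.pi (fun j => (b.coord j) ∘ₗ (LinearMap.ker (c - 1)).subtype)
  have hinj : Function.Injective Φ := by
    rw [injective_iff_map_eq_zero]
    intro A hA
    have hA0 : ∀ j ∈ R, b.coord j (A : V) = 0 := by
      intro j hj
      have := congrFun hA ⟨j, hj⟩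
      exact this
    have hcA : c (A : V) = (A : V) := by
      have := A.2
      rw [LinearMap.mem_ker, LinearMap.sub_apply, Module.End.one_apply, sub_eq_zero] at this
      exact this
    have hstep : ∀ k, b.coord k (A : V) = 0 → b.coord (σ k) (A : V) = 0 := by
      intro k hk
      have h1 := LinearMap.congr_fun (hcoord k) (A : V)
      rw [LinearMap.comp_apply, hcA, LinearMap.smul_apply, hk, smul_zero] at h1
      exact h1
    apply Subtype.ext
    apply b.ext_elem
    intro i
    obtain ⟨j, hj, n, hn⟩ := hR i
    have hiter : ∀ n : ℕ, b.coord (σ^[n] j) (A : V) = 0 := by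
      intro n
      induction n with
      | zero => exact hA0 j hj
      | succ n ih =>
        rw [Function.iterate_succ_apply']
        exact hstep _ ih
    have := hiter n
    rw [hn] at this
    simpa using this
  have := LinearMap.finrank_le_finrank_of_injective hinj
  rwa [Module.finrank_fintype_fun_eq_card, Fintype.card_coe] at this

/-- orbit representatives for a map of prime order without fixed points. -/
theorem orbit_reps {ι : Type*} [DecidableEq ι] (σ : ι → ι) (r : ℕ) (hr : r.Prime)
    (hσr : ∀ i, σ^[r] i = i) :
    ∀ (m : ℕ) (S : Finset ι), S.card = m → (∀ i ∈ S, σ i ∈ S) → (∀ i ∈ S, σ i ≠ i) →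
      ∃ R₀ : Finset ι, R₀ ⊆ S ∧ S.card = r * R₀.card ∧
        ∀ i ∈ S, ∃ j ∈ R₀, ∃ n : ℕ, σ^[n] j = i := by
  have hσinj : Function.Injective σ := by
    intro a b hab
    have h1 : σ^[r - 1] (σ a) = σ^[r - 1] (σ b) := by rw [hab]
    rw [← Function.iterate_succ_apply, ← Function.iterate_succ_apply] at h1
    have h2 : (r - 1).succ = r := by have := hr.pos; omega
    rw [h2, hσr, hσr] at h1
    exact h1
  intro m
  induction m using Nat.strong_induction_on with
  | _ m ih =>
  intro S hm hinv hfree
  rcases S.eq_empty_or_nonempty with hS | ⟨j, hj⟩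
  · refine ⟨∅, by simp, ?_, ?_⟩
    · rw [hS]; simp
    · intro i hi
      rw [hS] at hi
      exact absurd hi (Finset.notMem_empty i)
  · have hinv' : ∀ n : ℕ, ∀ i ∈ S, σ^[n] i ∈ S := by
      intro n
      induction n with
      | zero => intro i hi; exact hi
      | succ n ihn =>
        intro i hi
        rw [Function.iterate_succ_apply']
        exact hinv _ (ihn i hi)
    let O : Finset ι := (Finset.range r).image (fun n => σ^[n] j)
    have hOS : O ⊆ S := by
      intro g hg
      obtain ⟨n, _, rfl⟩ := Finset.mem_image.1 hg
      exact hinv' n j hj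
    have hinj : Set.InjOn (fun n => σ^[n] j) (Finset.range r : Set ℕ) := by
      have key : ∀ a b : ℕ, a < b → b < r → σ^[a] j ≠ σ^[b] j := by
        intro a b hab hb h
        have e : b = a + (b - a) := by omega
        rw [e, Function.iterate_add_apply] at h
        have h2 : σ^[b - a] j = j := ((hσinj.iterate a) h).symm
        have h3 : Function.IsPeriodicPt σ (b - a) j := h2
        have h4 : Function.IsPeriodicPt σ r j := hσr j
        have h5 := h3.gcd h4
        have h6 : (b - a).gcd r = 1 := by
          apply Nat.Coprime.symm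
          rw [Nat.Prime.coprime_iff_not_dvd hr]
          exact Nat.not_dvd_of_pos_of_lt (by omega) (by omega)
        rw [h6] at h5
        exact hfree j hj h5
      intro a ha b hb h
      simp only [Finset.coe_range, Set.mem_Iio] at ha hb
      by_contra hne
      rcases lt_or_gt_of_ne hne with hlt | hgt
      · exact key a b hlt hb h
      · exact key b a hgt ha h.symm
    have hOcard : O.card = r := by
      rw [Finset.card_image_of_injOn hinj, Finset.card_range]
    have hjO : j ∈ O := by
      apply Finset.mem_image.2
      exact ⟨0, Finset.mem_range.2 hr.pos, rfl⟩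
    have hS'inv : ∀ i ∈ S \ O, σ i ∈ S \ O := by
      intro i hi
      rw [Finset.mem_sdiff] at hi ⊢
      refine ⟨hinv i hi.1, ?_⟩
      intro hO
      apply hi.2
      obtain ⟨n, hn, hne⟩ := Finset.mem_image.1 hO
      rw [Finset.mem_range] at hn
      apply Finset.mem_image.2
      rcases Nat.eq_zero_or_pos n with h0 | hpos
      · refine ⟨r - 1, Finset.mem_range.2 (by have := hr.pos; omega), ?_⟩
        rw [h0] at hne
        change j = σ i at hne
        change σ^[r - 1] j = i
        rw [hne, ← Function.iterate_succ_apply]
        have h2 : (r - 1).succ = r := by have := hr.pos; omega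
        rw [h2, hσr]
      · refine ⟨n - 1, Finset.mem_range.2 (by omega), ?_⟩
        change σ^[n - 1] j = i
        apply hσinj
        have h2 : (n - 1).succ = n := by omega
        have h3 : σ (σ^[n - 1] j) = σ^[n] j := by
          rw [← Function.iterate_succ_apply' σ (n - 1) j, h2]
        rw [h3]
        exact hne
    have hS'free : ∀ i ∈ S \ O, σ i ≠ i := by
      intro i hi
      exact hfree i (Finset.mem_sdiff.1 hi).1
    have hcard : (S \ O).card < m := by
      rw [← hm]
      apply Finset.card_lt_card
      refine ⟨Finset.sdiff_subset, ?_⟩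
      intro h
      have := h hj
      rw [Finset.mem_sdiff] at this
      exact this.2 hjO
    obtain ⟨R₀', hR₀', hcard', hcov'⟩ := ih _ hcard (S \ O) rfl hS'inv hS'free
    have hjR : j ∉ R₀' := by
      intro h
      have := hR₀' h
      rw [Finset.mem_sdiff] at this
      exact this.2 hjO
    refine ⟨insert j R₀', ?_, ?_, ?_⟩
    · intro g hg
      rcases Finset.mem_insert.1 hg with rfl | hg
      · exact hj
      · exact (Finset.mem_sdiff.1 (hR₀' hg)).1
    · rw [Finset.card_insert_of_notMem hjR, ← Finset.card_sdiff_add_card_eq_card hOS, hcard',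
        hOcard]
      ring
    · intro i hi
      by_cases hiO : i ∈ O
      · obtain ⟨n, _, hn⟩ := Finset.mem_image.1 hiO
        exact ⟨j, Finset.mem_insert_self _ _, n, hn⟩
      · obtain ⟨j', hj', n, hn⟩ := hcov' i (Finset.mem_sdiff.2 ⟨hi, hiO⟩)
        exact ⟨j', Finset.mem_insert_of_mem hj', n, hn⟩

end Cfsg.Agent.Helper3.Shult
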