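import Mathlib
import Cfsg.Agent.Helper3.ShCritical
import Cfsg.Agent.Helper3.ShClifford

set_option autoImplicit false

namespace Cfsg.Agent.Helper3.Shult

open Module Cfsg.Agent.Helper3.FrobActC Cfsg.Agent.Helper3.HH

set_option maxHeartbeats 1000000 in
/-- The linear main lemma: a group `Q₁` normalized by an element `x` of prime order `r`
acting on a space without `x`-fixed vectors. -/
theorem shult_linear {K : Type*} [Field K] [IsAlgClosed K] {W : Type*} [AddCommGroup W]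
    [Module K W] [FiniteDimensional K W] [Nontrivial W] {Γ : Type*} [Group Γ]
    (ρ : Representation K Γ W) (Q₁ : Subgroup Γ) [Finite Q₁] (x : Γ) (r : ℕ) (hr : r.Prime)
    (hx : x ^ r = 1) (hxQ : ∀ n ∈ Q₁, x * n * x⁻¹ ∈ Q₁)
    (hQK : ((Nat.card Q₁ : ℕ) : K) ≠ 0) (hrK : (r : K) ≠ 0)
    (hmin : ∀ U : Submodule K W, FInv ρ Q₁ U → U.map (ρ x) ≤ U → U = ⊥ ∨ U = ⊤)
    (hfix : ∀ w, ρ x w = w → w = 0)
    (c1 : ∀ g ∈ Q₁, ∀ h ∈ Q₁, x * (g * h * g⁻¹ * h⁻¹) * x⁻¹ = g * h * g⁻¹ * h⁻¹)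
    (c2 : ∀ c ∈ Q₁, x * c * x⁻¹ = c → ∀ g ∈ Q₁, c * g = g * c)
    (c3 : ∀ g ∈ Q₁, (∃ l : K, ρ g = l • (1 : Module.End K W)) → x * g * x⁻¹ = g)
    (c4 : ∀ c ∈ Q₁, x * c * x⁻¹ = c → c ^ r = 1 → c = 1)
    (C : Subgroup Γ) (hC : ∀ g, g ∈ C ↔ g ∈ Q₁ ∧ x * g * x⁻¹ = g) :
    (finrank K W = 1 ∨ finrank K W + 1 = r) ∧
        finrank K W * finrank K W * Nat.card C = Nat.card Q₁ ∧
        ∀ g ∈ Q₁, (∀ h ∈ Q₁, g * h = h * g) → x * g * x⁻¹ = g := by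
  classical
  -- irreducibility under Q₁
  have hirrQ : ∀ U : Submodule K W, FInv ρ Q₁ U → U = ⊥ ∨ U = ⊤ := by
    rcases clifford_dichotomy ρ Q₁ x r hr hx hxQ hmin with h | ⟨u, hu⟩
    · exact h
    · exfalso
      apply hu
      apply hfix
      rw [map_sum]
      have h1 : ∀ i ∈ Finset.range r, ρ x ((ρ x ^ i) u) = (ρ x ^ (i + 1)) u := by
        intro i _
        rw [pow_succ', Module.End.mul_apply]
      rw [Finset.sum_congr rfl h1]
      have h2 := Finset.sum_range_succ_comm (fun i => (ρ x ^ i) u) r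
      have h3 := Finset.sum_range_succ' (fun i => (ρ x ^ i) u) r
      rw [Finset.sum_range_succ] at h3
      have h4 : (ρ x ^ r) u = (ρ x ^ 0) u := by
        rw [← map_pow, hx, map_one, pow_zero]
      rw [h4] at h3
      exact (add_right_cancel h3).symm
  obtain ⟨ρ', hρ'⟩ : ∃ ρ' : Representation K ↥Q₁ W, ∀ g : ↥Q₁, ρ' g = ρ (g : Γ) :=
    ⟨ρ.comp Q₁.subtype, fun g => rfl⟩
  have hirr' : ∀ U : Submodule K W, (∀ g : ↥Q₁, Submodule.map (ρ' g) U ≤ U) → U = ⊥ ∨ U = ⊤ := by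
    intro U hU
    apply hirrQ U
    intro g hg
    have := hU ⟨g, hg⟩
    rw [hρ'] at this
    exact this
  have hirr'' : ∀ U : Submodule K W, (∀ g ∈ (⊤ : Subgroup ↥Q₁), Submodule.map (ρ' g) U ≤ U) →
      U = ⊥ ∨ U = ⊤ := fun U hU => hirr' U (fun g => hU g (Subgroup.mem_top g))
  -- central elements act as scalars
  have hcentral : ∀ c ∈ Q₁, x * c * x⁻¹ = c → ∃ l : K, ρ c = l • (1 : Module.End K W) := by
    intro c hc hxc
    apply schur ρ' ⊤ hirr''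
    intro g _
    rw [hρ', ← map_mul, ← map_mul]
    congr 1
    exact (c2 c hc hxc g g.2).symm
  have hxQ' : ∀ g : ↥Q₁, x * (g : Γ) * x⁻¹ ∈ Q₁ := fun g => hxQ g g.2
  obtain ⟨φ, hφ⟩ : ∃ φ : ↥Q₁ → ↥Q₁, ∀ g : ↥Q₁, ((φ g : ↥Q₁) : Γ) = x * (g : Γ) * x⁻¹ :=
    ⟨fun g => ⟨x * (g : Γ) * x⁻¹, hxQ' g⟩, fun g => rfl⟩
  obtain ⟨Z₀, hZ₀def⟩ : ∃ Z₀ : Subgroup ↥Q₁, Z₀ = C.subgroupOf Q₁ := ⟨_, rfl⟩
  have hZ₀mem : ∀ g : ↥Q₁, g ∈ Z₀ ↔ x * (g : Γ) * x⁻¹ = (g : Γ) := by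
    intro g
    rw [hZ₀def, Subgroup.mem_subgroupOf, hC]
    exact ⟨fun h => h.2, fun h => ⟨g.2, h⟩⟩
  have hZ₀ : ∀ g : ↥Q₁, g ∈ Z₀ ↔ ∃ l : K, ρ' g = l • (1 : Module.End K W) := by
    intro g
    rw [hZ₀mem, hρ']
    constructor
    · intro h
      exact hcentral g g.2 h
    · intro h
      exact c3 g g.2 h
  have hsc := shult_critical ρ' hirr' hQK (ρ x) (ρ x⁻¹) (rep_mul_inv ρ x) (rep_inv_mul ρ x) r hr hrK
    (by rw [← map_pow, hx, map_one]) φ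
    (by
      intro g
      rw [hρ', hρ', hφ, map_mul, map_mul])
    (by
      intro g h
      rw [hρ']
      have e : (((g * h * g⁻¹ * h⁻¹ : ↥Q₁)) : Γ) = (g : Γ) * h * (g : Γ)⁻¹ * (h : Γ)⁻¹ := by
        simp
      rw [e]
      apply hcentral
      · exact Q₁.mul_mem (Q₁.mul_mem (Q₁.mul_mem g.2 h.2) (Q₁.inv_mem g.2)) (Q₁.inv_mem h.2)
      · exact c1 g g.2 h h.2)
    (by
      intro g hg
      rw [hρ'] at hg ⊢
      have e : ((φ g * g⁻¹ : ↥Q₁) : Γ) = x * (g : Γ) * x⁻¹ * (g : Γ)⁻¹ := by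
        rw [Subgroup.coe_mul, hφ, Subgroup.coe_inv]
      rw [e] at hg
      have hcQ : x * (g : Γ) * x⁻¹ * (g : Γ)⁻¹ ∈ Q₁ := Q₁.mul_mem (hxQ' g) (Q₁.inv_mem g.2)
      have hcfix := c3 _ hcQ hg
      obtain ⟨c, hc⟩ : ∃ c, c = x * (g : Γ) * x⁻¹ * (g : Γ)⁻¹ := ⟨_, rfl⟩
      rw [← hc] at hcQ hcfix
      have hiter : ∀ k : ℕ, x ^ k * (g : Γ) * (x ^ k)⁻¹ = c ^ k * (g : Γ) := by
        intro k
        induction k with
        | zero => simp
        | succ k ih =>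
          have e1 : x ^ (k + 1) * (g : Γ) * (x ^ (k + 1))⁻¹ =
              x * (x ^ k * (g : Γ) * (x ^ k)⁻¹) * x⁻¹ := by
            rw [pow_succ']; group
          have hck : x * c ^ k * x⁻¹ = c ^ k := by
            have : x * c ^ k * x⁻¹ = (x * c * x⁻¹) ^ k := by
              rw [conj_pow]
            rw [this, hcfix]
          rw [e1, ih]
          have e2 : x * (c ^ k * (g : Γ)) * x⁻¹ = (x * c ^ k * x⁻¹) * (x * (g : Γ) * x⁻¹) := by
            group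
          rw [e2, hck]
          have e3 : x * (g : Γ) * x⁻¹ = c * (g : Γ) := by rw [hc]; group
          rw [e3, ← mul_assoc, ← pow_succ]
      have hcr : c ^ r = 1 := by
        have := hiter r
        rw [hx, one_mul, inv_one, mul_one] at this
        exact (mul_eq_right.1 this.symm)
      have hc1 := c4 c hcQ hcfix hcr
      apply hcentral g g.2
      have e3 : x * (g : Γ) * x⁻¹ = c * (g : Γ) := by rw [hc]; group
      rw [e3, hc1, one_mul])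
    hfix Z₀ hZ₀
  refine ⟨hsc.1, ?_, ?_⟩
  · have hCle : C ≤ Q₁ := fun g hg => ((hC g).1 hg).1
    have hcard : Nat.card Z₀ = Nat.card C := by
      rw [hZ₀def]
      exact Nat.card_congr (Subgroup.subgroupOfEquivOfLe hCle).toEquiv
    rw [hsc.2, mul_comm, ← hcard]
    exact Subgroup.card_mul_index Z₀
  · intro g hg hgc
    apply c3 g hg
    have := schur ρ' ⊤ hirr'' (ρ g) (by
      intro h _
      rw [hρ', ← map_mul, ← map_mul]
      congr 1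
      exact (hgc h h.2).symm)
    exact this

/-- the stabilizer of a subspace. -/
def stab {K : Type*} [Field K] {V : Type*} [AddCommGroup V] [Module K V] {Γ : Type*} [Group Γ]
    (ρ : Representation K Γ V) (W₂ : Submodule K V) : Subgroup Γ where
  carrier := {g | W₂.map (ρ g) ≤ W₂ ∧ W₂.map (ρ g⁻¹) ≤ W₂}
  mul_mem' := by
    intro a b ha hb
    constructor
    · rw [map_mul, Module.End.mul_eq_comp, Submodule.map_comp]
      exact (Submodule.map_mono hb.1).trans ha.1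
    · rw [mul_inv_rev, map_mul, Module.End.mul_eq_comp, Submodule.map_comp]
      exact (Submodule.map_mono ha.2).trans hb.2
  one_mem' := by
    constructor
    · rw [map_one, Module.End.one_eq_id, Submodule.map_id]
    · rw [inv_one, map_one, Module.End.one_eq_id, Submodule.map_id]
  inv_mem' := by
    intro a ha
    refine ⟨ha.2, ?_⟩
    rw [inv_inv]
    exact ha.1

theorem mem_stab {K : Type*} [Field K] {V : Type*} [AddCommGroup V] [Module K V] {Γ : Type*}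
    [Group Γ] (ρ : Representation K Γ V) (W₂ : Submodule K V) (g : Γ) :
    g ∈ stab ρ W₂ ↔ W₂.map (ρ g) ≤ W₂ ∧ W₂.map (ρ g⁻¹) ≤ W₂ := Iff.rfl

set_option maxHeartbeats 1000000 in
/-- The linear main lemma, relative to a minimal invariant subspace. -/
theorem shult_linear_rel {K : Type*} [Field K] [IsAlgClosed K] {V : Type*} [AddCommGroup V]
    [Module K V] [FiniteDimensional K V] {Γ : Type*} [Group Γ]
    (ρ : Representation K Γ V) (Q₁ : Subgroup Γ) [Finite Q₁] (x : Γ) (r : ℕ) (hr : r.Prime)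
    (hx : x ^ r = 1) (hxQ : ∀ n ∈ Q₁, x * n * x⁻¹ ∈ Q₁)
    (hQK : ((Nat.card Q₁ : ℕ) : K) ≠ 0) (hrK : (r : K) ≠ 0)
    (W₂ : Submodule K V) (hW₂0 : W₂ ≠ ⊥) (hW₂Q : FInv ρ Q₁ W₂) (hW₂x : W₂.map (ρ x) ≤ W₂)
    (hmin : ∀ U : Submodule K V, U ≤ W₂ → FInv ρ Q₁ U → U.map (ρ x) ≤ U → U = ⊥ ∨ U = W₂)
    (hfix : ∀ w ∈ W₂, ρ x w = w → w = 0)
    (c1 : ∀ g ∈ Q₁, ∀ h ∈ Q₁, x * (g * h * g⁻¹ * h⁻¹) * x⁻¹ = g * h * g⁻¹ * h⁻¹)
    (c2 : ∀ c ∈ Q₁, x * c * x⁻¹ = c → ∀ g ∈ Q₁, c * g = g * c)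
    (c3 : ∀ g ∈ Q₁, (∃ l : K, ∀ w ∈ W₂, ρ g w = l • w) → x * g * x⁻¹ = g)
    (c4 : ∀ c ∈ Q₁, x * c * x⁻¹ = c → c ^ r = 1 → c = 1)
    (C : Subgroup Γ) (hC : ∀ g, g ∈ C ↔ g ∈ Q₁ ∧ x * g * x⁻¹ = g) :
    (finrank K W₂ = 1 ∨ finrank K W₂ + 1 = r) ∧
        finrank K W₂ * finrank K W₂ * Nat.card C = Nat.card Q₁ ∧
        ∀ g ∈ Q₁, (∀ h ∈ Q₁, g * h = h * g) → x * g * x⁻¹ = g := by
  classical
  haveI : Nontrivial ↥W₂ := Submodule.nontrivial_iff_ne_bot.2 hW₂0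
  obtain ⟨Γ₁, hΓ₁⟩ : ∃ Γ₁ : Subgroup Γ, Γ₁ = stab ρ W₂ := ⟨_, rfl⟩
  have hΓ₁mem : ∀ g : Γ, g ∈ Γ₁ ↔ W₂.map (ρ g) ≤ W₂ ∧ W₂.map (ρ g⁻¹) ≤ W₂ := by
    intro g
    rw [hΓ₁]
    exact mem_stab ρ W₂ g
  have hQΓ : Q₁ ≤ Γ₁ := by
    intro g hg
    rw [hΓ₁mem]
    exact ⟨hW₂Q g hg, hW₂Q g⁻¹ (Q₁.inv_mem hg)⟩
  have hxpow : ∀ k : ℕ, W₂.map (ρ (x ^ k)) ≤ W₂ := by
    intro k
    induction k with
    | zero => rw [pow_zero, map_one, Module.End.one_eq_id, Submodule.map_id]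
    | succ k ih =>
      rw [pow_succ', map_mul, Module.End.mul_eq_comp, Submodule.map_comp]
      exact (Submodule.map_mono ih).trans hW₂x
  have hxinv : x⁻¹ = x ^ (r - 1) := by
    apply inv_eq_of_mul_eq_one_right
    rw [← pow_succ']
    have : r - 1 + 1 = r := by have := hr.pos; omega
    rw [this, hx]
  have hxΓ : x ∈ Γ₁ := by
    rw [hΓ₁mem]
    refine ⟨hW₂x, ?_⟩
    rw [hxinv]
    exact hxpow _
  have hΓinv : ∀ g : ↥Γ₁, ∀ w ∈ W₂, (ρ.comp Γ₁.subtype) g w ∈ W₂ := by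
    intro g w hw
    have := (hΓ₁mem (g : Γ)).1 g.2
    exact this.1 (Submodule.mem_map_of_mem hw)
  obtain ⟨ρ₁, hρ₁⟩ : ∃ ρ₁ : Representation K ↥Γ₁ ↥W₂,
      ∀ (g : ↥Γ₁) (w : ↥W₂), ((ρ₁ g w : ↥W₂) : V) = ρ (g : Γ) (w : V) :=
    ⟨subRep (ρ.comp Γ₁.subtype) W₂ hΓinv, fun g w => rfl⟩
  obtain ⟨x₁, hx₁⟩ : ∃ x₁ : ↥Γ₁, (x₁ : Γ) = x := ⟨⟨x, hxΓ⟩, rfl⟩
  obtain ⟨N₁, hN₁⟩ : ∃ N₁ : Subgroup ↥Γ₁, N₁ = Q₁.subgroupOf Γ₁ := ⟨_, rfl⟩
  have hN₁mem : ∀ g : ↥Γ₁, g ∈ N₁ ↔ (g : Γ) ∈ Q₁ := by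
    intro g
    rw [hN₁, Subgroup.mem_subgroupOf]
  have hN₁equiv : N₁ ≃* Q₁ := by
    rw [hN₁]
    exact Subgroup.subgroupOfEquivOfLe hQΓ
  haveI : Finite ↥N₁ := Finite.of_equiv _ hN₁equiv.symm.toEquiv
  have hN₁card : Nat.card N₁ = Nat.card Q₁ := Nat.card_congr hN₁equiv.toEquiv
  have hcoe_conj : ∀ g : ↥Γ₁, ((x₁ * g * x₁⁻¹ : ↥Γ₁) : Γ) = x * (g : Γ) * x⁻¹ := by
    intro g
    rw [Subgroup.coe_mul, Subgroup.coe_mul, Subgroup.coe_inv, hx₁]
  have hlin := shult_linear ρ₁ N₁ x₁ r hr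
    (by
      apply Subtype.ext
      rw [Subgroup.coe_pow, hx₁, hx, Subgroup.coe_one])
    (by
      intro n hn
      rw [hN₁mem] at hn ⊢
      rw [hcoe_conj]
      exact hxQ _ hn)
    (by rw [hN₁card]; exact hQK) hrK
    (by
      intro U hU hUx
      have hU'Q : FInv ρ Q₁ (U.map W₂.subtype) := by
        apply finv_of_mem
        rintro g hg _ ⟨u, hu, rfl⟩
        have hgΓ : g ∈ Γ₁ := hQΓ hg
        have h1 := hU.mem (f := ⟨g, hgΓ⟩) ((hN₁mem _).2 hg) hu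
        refine ⟨_, h1, ?_⟩
        rw [Submodule.subtype_apply, hρ₁]
        rfl
      have hU'x : (U.map W₂.subtype).map (ρ x) ≤ U.map W₂.subtype := by
        rintro _ ⟨_, ⟨u, hu, rfl⟩, rfl⟩
        have h1 : ρ₁ x₁ u ∈ U := hUx (Submodule.mem_map_of_mem hu)
        refine ⟨_, h1, ?_⟩
        rw [Submodule.subtype_apply, hρ₁, hx₁]
        rfl
      have hle : U.map W₂.subtype ≤ W₂ := by
        rintro _ ⟨u, _, rfl⟩
        exact u.2
      rcases hmin _ hle hU'Q hU'x with h | h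
      · left
        rw [eq_bot_iff]
        intro u hu
        have h1 : (u : V) ∈ U.map W₂.subtype := ⟨u, hu, rfl⟩
        rw [h, Submodule.mem_bot] at h1
        rw [Submodule.mem_bot]
        exact Subtype.ext h1
      · right
        rw [eq_top_iff]
        intro w _
        have h1 : (w : V) ∈ U.map W₂.subtype := by rw [h]; exact w.2
        obtain ⟨u, hu, hue⟩ := h1
        have : u = w := Subtype.ext hue
        rw [← this]; exact hu)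
    (by
      intro w hw
      have h1 := congrArg Subtype.val hw
      rw [hρ₁, hx₁] at h1
      exact Subtype.ext (hfix w w.2 h1))
    (by
      intro g hg h hh
      rw [hN₁mem] at hg hh
      apply Subtype.ext
      rw [hcoe_conj]
      simp only [Subgroup.coe_mul, Subgroup.coe_inv]
      exact c1 _ hg _ hh)
    (by
      intro c hc hcx g hg
      rw [hN₁mem] at hc hg
      apply Subtype.ext
      rw [Subgroup.coe_mul, Subgroup.coe_mul]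
      apply c2 _ hc _ _ hg
      rw [← hcoe_conj, hcx])
    (by
      intro g hg hsc
      rw [hN₁mem] at hg
      apply Subtype.ext
      rw [hcoe_conj]
      apply c3 _ hg
      obtain ⟨l, hl⟩ := hsc
      refine ⟨l, ?_⟩
      intro w hw
      have h1 := LinearMap.congr_fun hl ⟨w, hw⟩
      have h2 := congrArg Subtype.val h1
      rw [hρ₁] at h2
      exact h2)
    (by
      intro c hc hcx hcr
      rw [hN₁mem] at hc
      apply Subtype.ext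
      rw [Subgroup.coe_one]
      apply c4 _ hc
      · rw [← hcoe_conj, hcx]
      · rw [← Subgroup.coe_pow, hcr, Subgroup.coe_one])
    (C.subgroupOf Γ₁)
    (by
      intro g
      rw [Subgroup.mem_subgroupOf, hC, hN₁mem]
      constructor
      · rintro ⟨h1, h2⟩
        refine ⟨h1, ?_⟩
        apply Subtype.ext
        rw [hcoe_conj]; exact h2
      · rintro ⟨h1, h2⟩
        refine ⟨h1, ?_⟩
        rw [← hcoe_conj, h2])
  have hCle : C ≤ Γ₁ := fun g hg => hQΓ ((hC g).1 hg).1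
  have hCcard : Nat.card (C.subgroupOf Γ₁) = Nat.card C :=
    Nat.card_congr (Subgroup.subgroupOfEquivOfLe hCle).toEquiv
  rw [hCcard, hN₁card] at hlin
  refine ⟨hlin.1, hlin.2.1, ?_⟩
  intro g hg hgc
  have hgΓ : g ∈ Γ₁ := hQΓ hg
  have h1 := hlin.2.2 ⟨g, hgΓ⟩ ((hN₁mem _).2 hg) (by
    intro h hh
    apply Subtype.ext
    rw [Subgroup.coe_mul, Subgroup.coe_mul]
    exact hgc _ ((hN₁mem h).1 hh))
  have h2 := congrArg Subtype.val h1
  rw [hcoe_conj] at h2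
  exact h2

end Cfsg.Agent.Helper3.Shult
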