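import Mathlib
import Cfsg.Agent.Helper3.ShLinMain
import Cfsg.Agent.Helper3.ShBase

set_option autoImplicit false

namespace Cfsg.Agent.Helper3.Shult

open Module TensorProduct Cfsg.Agent.Helper3.FrobActC Cfsg.Agent.Helper3.FrobActB
open scoped commutatorElement

universe v

theorem conj_iter {G : Type*} [Group G] (x c g : G) (hc : x * c * x⁻¹ = c)
    (hg : x * g * x⁻¹ = c * g) : ∀ k : ℕ, x ^ k * g * (x ^ k)⁻¹ = c ^ k * g := by
  intro k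
  induction k with
  | zero => simp
  | succ k ih =>
    have e1 : x ^ (k + 1) * g * (x ^ (k + 1))⁻¹ = x * (x ^ k * g * (x ^ k)⁻¹) * x⁻¹ := by
      rw [pow_succ']; group
    have hck : x * c ^ k * x⁻¹ = c ^ k := by
      have : x * c ^ k * x⁻¹ = (x * c * x⁻¹) ^ k := by rw [conj_pow]
      rw [this, hc]
    rw [e1, ih]
    have e2 : x * (c ^ k * g) * x⁻¹ = (x * c ^ k * x⁻¹) * (x * g * x⁻¹) := by group
    rw [e2, hck, hg, ← mul_assoc, ← pow_succ]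

/-- a `q`-element of order dividing `r ≠ q` is trivial. -/
theorem eq_one_of_pgroup_of_pow {G : Type*} [Group G] {q r : ℕ} (hq : q.Prime) (hr : r.Prime)
    (hqr : q ≠ r) (Q : Subgroup G) (hQ : IsPGroup q Q) (c : G) (hc : c ∈ Q) (hcr : c ^ r = 1) :
    c = 1 := by
  obtain ⟨k, hk⟩ := hQ ⟨c, hc⟩
  have hk' : c ^ (q ^ k) = 1 := by
    have := congrArg Subtype.val hk
    simpa using this
  have h1 : orderOf c ∣ r := orderOf_dvd_of_pow_eq_one hcr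
  have h2 : orderOf c ∣ q ^ k := orderOf_dvd_of_pow_eq_one hk'
  have h3 : Nat.Coprime r (q ^ k) := by
    apply Nat.Coprime.pow_right
    rw [Nat.coprime_primes hr hq]
    exact hqr.symm
  have h4 : orderOf c = 1 := Nat.eq_one_of_dvd_coprimes h3 h1 h2
  exact orderOf_eq_one_iff.1 h4

/-- if `x` centralizes `[x, Q₁]` then it centralizes `Q₁` (coprime action). -/
theorem fixed_of_comm_fixed {G : Type*} [Group G] {q r : ℕ} (hq : q.Prime) (hr : r.Prime)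
    (hqr : q ≠ r) (Q₁ : Subgroup G) (hQ : IsPGroup q Q₁) (x : G) (hx : x ^ r = 1)
    (hxQ : ∀ g ∈ Q₁, x * g * x⁻¹ ∈ Q₁) (h : G) (hh : h ∈ Q₁)
    (hfix : x * (x * h * x⁻¹ * h⁻¹) * x⁻¹ = x * h * x⁻¹ * h⁻¹) : x * h * x⁻¹ = h := by
  obtain ⟨c, hc⟩ : ∃ c, c = x * h * x⁻¹ * h⁻¹ := ⟨_, rfl⟩
  rw [← hc] at hfix
  have hcQ : c ∈ Q₁ := by
    rw [hc]
    exact Q₁.mul_mem (hxQ h hh) (Q₁.inv_mem hh)
  have e3 : x * h * x⁻¹ = c * h := by rw [hc]; group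
  have hit := conj_iter x c h hfix e3 r
  rw [hx, one_mul, inv_one, mul_one] at hit
  have hcr : c ^ r = 1 := mul_eq_right.1 hit.symm
  have hc1 := eq_one_of_pgroup_of_pow hq hr hqr Q₁ hQ c hcQ hcr
  rw [e3, hc1, one_mul]

set_option maxHeartbeats 1000000 in
/-- a minimal `x`-invariant subgroup of `Q` not centralized by `x`. -/
theorem exists_min_noncentral {G : Type*} [Group G] {q r : ℕ} (hq : q.Prime) (hr : r.Prime)
    (hqr : q ≠ r) (Q : Subgroup G) [Finite Q] (hQ : IsPGroup q Q) (x : G) (hx : x ^ r = 1)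
    (hxQ : ∀ g ∈ Q, x * g * x⁻¹ ∈ Q) (hnc : ∃ g ∈ Q, x * g * x⁻¹ ≠ g) :
    ∃ Q₁ : Subgroup G, Q₁ ≤ Q ∧ (∀ g ∈ Q₁, x * g * x⁻¹ ∈ Q₁) ∧ (∃ g ∈ Q₁, x * g * x⁻¹ ≠ g) ∧
      (∀ H : Subgroup G, H ≤ Q₁ → (∀ g ∈ H, x * g * x⁻¹ ∈ H) → H ≠ Q₁ →
        ∀ g ∈ H, x * g * x⁻¹ = g) ∧
      Q₁ = Subgroup.closure {u | ∃ h ∈ Q₁, u = x * h * x⁻¹ * h⁻¹} ∧
      (∀ g ∈ Q₁, ∀ h ∈ Q₁, x * (g * h * g⁻¹ * h⁻¹) * x⁻¹ = g * h * g⁻¹ * h⁻¹) ∧
      (∀ c ∈ Q₁, x * c * x⁻¹ = c → ∀ g ∈ Q₁, c * g = g * c) := by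
  classical
  haveI : Fact q.Prime := ⟨hq⟩
  let P : Subgroup G → Prop := fun H => H ≤ Q ∧ (∀ g ∈ H, x * g * x⁻¹ ∈ H) ∧
    ∃ g ∈ H, x * g * x⁻¹ ≠ g
  have hex : ∃ n, ∃ H, P H ∧ Nat.card H = n := ⟨_, Q, ⟨le_rfl, hxQ, hnc⟩, rfl⟩
  obtain ⟨Q₁, hPQ₁, hcardQ₁⟩ := Nat.find_spec hex
  obtain ⟨hQ₁Q, hxQ₁, g₀, hg₀, hg₀x⟩ := hPQ₁
  haveI : Finite ↥Q₁ := Finite.of_injective (Subgroup.inclusion hQ₁Q)
    (Subgroup.inclusion_injective hQ₁Q)
  have hQ₁p : IsPGroup q Q₁ := hQ.to_le hQ₁Q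
  have hP : ∀ H : Subgroup G, H ≤ Q₁ → (∀ g ∈ H, x * g * x⁻¹ ∈ H) → H ≠ Q₁ →
      ∀ g ∈ H, x * g * x⁻¹ = g := by
    intro H hHQ₁ hxH hne g hg
    by_contra hgx
    apply hne
    have hPH : P H := ⟨hHQ₁.trans hQ₁Q, hxH, g, hg, hgx⟩
    have h1 : Nat.find hex ≤ Nat.card H := Nat.find_min' hex ⟨H, hPH, rfl⟩
    rw [← hcardQ₁] at h1
    exact Subgroup.eq_of_le_of_card_ge hHQ₁ h1
  -- generation by commutators with x
  obtain ⟨Q₂, hQ₂⟩ : ∃ Q₂, Q₂ = Subgroup.closure {u | ∃ h ∈ Q₁, u = x * h * x⁻¹ * h⁻¹} :=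
    ⟨_, rfl⟩
  have hQ₂le : Q₂ ≤ Q₁ := by
    rw [hQ₂, Subgroup.closure_le]
    rintro _ ⟨h, hh, rfl⟩
    exact Q₁.mul_mem (hxQ₁ h hh) (Q₁.inv_mem hh)
  have hxQ₂ : ∀ g ∈ Q₂, x * g * x⁻¹ ∈ Q₂ := by
    have : Q₂ ≤ Q₂.comap (MulAut.conj x).toMonoidHom := by
      conv_lhs => rw [hQ₂]
      rw [Subgroup.closure_le]
      rintro _ ⟨h, hh, rfl⟩
      rw [SetLike.mem_coe, Subgroup.mem_comap]
      change x * (x * h * x⁻¹ * h⁻¹) * x⁻¹ ∈ Q₂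
      rw [hQ₂]
      apply Subgroup.subset_closure
      refine ⟨x * h * x⁻¹, hxQ₁ h hh, ?_⟩
      group
    intro g hg
    exact this hg
  have hQ₂eq : Q₂ = Q₁ := by
    by_contra hne
    apply hg₀x
    apply fixed_of_comm_fixed hq hr hqr Q₁ hQ₁p x hx hxQ₁ g₀ hg₀
    apply hP Q₂ hQ₂le hxQ₂ hne
    rw [hQ₂]
    apply Subgroup.subset_closure
    exact ⟨g₀, hg₀, rfl⟩
  -- the derived subgroup is fixed
  have hg₀1 : g₀ ≠ 1 := by
    intro h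
    apply hg₀x
    rw [h]; group
  have hder_ne : ⁅Q₁, Q₁⁆ ≠ Q₁ := by
    intro h
    haveI : Nontrivial ↥Q₁ := ⟨⟨⟨g₀, hg₀⟩, 1, fun h => hg₀1 (congrArg Subtype.val h)⟩⟩
    haveI : Group.IsNilpotent ↥Q₁ := hQ₁p.isNilpotent
    have h1 := Group.IsSolvable.commutator_lt_top_of_nontrivial ↥Q₁
    apply h1.ne
    apply Subgroup.map_injective Q₁.subtype_injective
    rw [Subgroup.map_subtype_commutator, h, ← MonoidHom.range_eq_map, Q₁.range_subtype]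
  have hder_x : ∀ g ∈ ⁅Q₁, Q₁⁆, x * g * x⁻¹ ∈ ⁅Q₁, Q₁⁆ := by
    have : ⁅Q₁, Q₁⁆ ≤ (⁅Q₁, Q₁⁆).comap (MulAut.conj x).toMonoidHom := by
      rw [Subgroup.commutator_le]
      intro a ha b hb
      rw [Subgroup.mem_comap]
      change x * ⁅a, b⁆ * x⁻¹ ∈ ⁅Q₁, Q₁⁆
      have : x * ⁅a, b⁆ * x⁻¹ = ⁅x * a * x⁻¹, x * b * x⁻¹⁆ := by
        rw [commutatorElement_def, commutatorElement_def]; group
      rw [this]
      exact Subgroup.commutator_mem_commutator (hxQ₁ a ha) (hxQ₁ b hb)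
    intro g hg
    exact this hg
  have hc1 : ∀ g ∈ Q₁, ∀ h ∈ Q₁, x * (g * h * g⁻¹ * h⁻¹) * x⁻¹ = g * h * g⁻¹ * h⁻¹ := by
    intro g hg h hh
    apply hP _ (Subgroup.commutator_le_self Q₁) hder_x hder_ne
    rw [← commutatorElement_def]
    exact Subgroup.commutator_mem_commutator hg hh
  have hc2 : ∀ c ∈ Q₁, x * c * x⁻¹ = c → ∀ g ∈ Q₁, c * g = g * c := by
    intro c hc hcx
    have hle : Q₁ ≤ Subgroup.centralizer {c} := by
      conv_lhs => rw [← hQ₂eq, hQ₂]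
      rw [Subgroup.closure_le]
      rintro _ ⟨h, hh, rfl⟩
      rw [SetLike.mem_coe, Subgroup.mem_centralizer_singleton_iff]
      -- g := h⁻¹
      have h1 := hc1 h⁻¹ (Q₁.inv_mem hh) c hc
      rw [inv_inv] at h1
      have h2 : x * (h⁻¹ * c * h * c⁻¹) * x⁻¹ =
          (x * h * x⁻¹)⁻¹ * (x * c * x⁻¹) * (x * h * x⁻¹) * (x * c * x⁻¹)⁻¹ := by group
      rw [h2, hcx] at h1
      -- h1 : (x h x⁻¹)⁻¹ c (x h x⁻¹) c⁻¹ = h⁻¹ c h c⁻¹
      have h3 : (x * h * x⁻¹)⁻¹ * c * (x * h * x⁻¹) = h⁻¹ * c * h := by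
        have := congrArg (· * c) h1
        simpa [mul_assoc] using this
      have h4 : x * h * x⁻¹ * h⁻¹ * c = (x * h * x⁻¹) * (h⁻¹ * c * h) * h⁻¹ := by group
      rw [h4, ← h3]
      group
    intro g hg
    have := hle hg
    rw [Subgroup.mem_centralizer_singleton_iff] at this
    exact this.symm
  refine ⟨Q₁, hQ₁Q, hxQ₁, ⟨g₀, hg₀, hg₀x⟩, hP, ?_, hc1, hc2⟩
  rw [← hQ₂, hQ₂eq]

section rep

variable {K : Type*} [Field K] {V : Type*} [AddCommGroup V] [Module K V] {Γ : Type*} [Group Γ]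

theorem map_inv_le_of_pow (ρ : Representation K Γ V) (x : Γ) (r : ℕ) (hr : 0 < r)
    (hx : x ^ r = 1) (W₂ : Submodule K V) (h : W₂.map (ρ x) ≤ W₂) : W₂.map (ρ x⁻¹) ≤ W₂ := by
  have hxpow : ∀ k : ℕ, W₂.map (ρ (x ^ k)) ≤ W₂ := by
    intro k
    induction k with
    | zero => rw [pow_zero, map_one, Module.End.one_eq_id, Submodule.map_id]
    | succ k ih =>
      rw [pow_succ', map_mul, Module.End.mul_eq_comp, Submodule.map_comp]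
      exact (Submodule.map_mono ih).trans h
  have hxinv : x⁻¹ = x ^ (r - 1) := by
    apply inv_eq_of_mul_eq_one_right
    rw [← pow_succ']
    have : r - 1 + 1 = r := by omega
    rw [this, hx]
  rw [hxinv]
  exact hxpow _

/-- the sum over a finite subgroup commutes with elements normalizing it. -/
theorem sum_comm_of_norm (ρ : Representation K Γ V) (Z : Subgroup Γ) [Fintype Z] (g : Γ)
    (hg : ∀ z ∈ Z, g * z * g⁻¹ ∈ Z) : ρ g * (∑ z : ↥Z, ρ (z : Γ)) = (∑ z : ↥Z, ρ (z : Γ)) * ρ g := by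
  let f : ↥Z → ↥Z := fun z => ⟨g * (z : Γ) * g⁻¹, hg z z.2⟩
  have hfinj : Function.Injective f := by
    intro a b hab
    have h1 := congrArg Subtype.val hab
    change g * (a : Γ) * g⁻¹ = g * (b : Γ) * g⁻¹ at h1
    apply Subtype.ext
    exact mul_left_cancel (mul_right_cancel h1)
  have hfbij : Function.Bijective f := Finite.injective_iff_bijective.1 hfinj
  rw [Finset.mul_sum, Finset.sum_mul, ← hfbij.sum_comp (fun z : ↥Z => ρ (z : Γ) * ρ g)]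
  apply Finset.sum_congr rfl
  intro z _
  change ρ g * ρ (z : Γ) = ρ (g * (z : Γ) * g⁻¹) * ρ g
  rw [← map_mul, ← map_mul]
  congr 1
  group

set_option maxHeartbeats 1000000 in
/-- a minimal invariant subspace on which `Z` has no fixed vectors. -/
theorem exists_min_sub [FiniteDimensional K V] (ρ : Representation K Γ V) (Q₁ Z : Subgroup Γ)
    [Finite Z] (x : Γ) (hZQ : ∀ g ∈ Q₁, ∀ z ∈ Z, g * z * g⁻¹ ∈ Z) (hZx : ∀ z ∈ Z, x * z * x⁻¹ ∈ Z)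
    (hZK : ((Nat.card Z : ℕ) : K) ≠ 0) (hZ1 : ∃ z ∈ Z, ρ z ≠ 1) :
    ∃ W₂ : Submodule K V, W₂ ≠ ⊥ ∧ FInv ρ Q₁ W₂ ∧ W₂.map (ρ x) ≤ W₂ ∧
      (∀ U : Submodule K V, U ≤ W₂ → FInv ρ Q₁ U → U.map (ρ x) ≤ U → U = ⊥ ∨ U = W₂) ∧
      (∀ w ∈ W₂, (∀ z ∈ Z, ρ z w = w) → w = 0) := by
  classical
  haveI : Fintype ↥Z := Fintype.ofFinite _
  obtain ⟨e, he⟩ : ∃ e : Module.End K V, e = ∑ z : ↥Z, ρ (z : Γ) := ⟨_, rfl⟩
  have he_right : ∀ z ∈ Z, e * ρ z = e := by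
    intro z hz
    rw [he, Finset.sum_mul]
    apply Fintype.sum_equiv (Equiv.mulRight (⟨z, hz⟩ : ↥Z))
    intro g
    rw [Equiv.coe_mulRight, Subgroup.coe_mul, map_mul]
  have hfixW₁ : ∀ w ∈ LinearMap.ker e, (∀ z ∈ Z, ρ z w = w) → w = 0 := by
    intro w hw hfix
    rw [LinearMap.mem_ker, he, LinearMap.sum_apply] at hw
    rw [Finset.sum_congr rfl (fun (z : ↥Z) _ => hfix (z : Γ) z.2), Finset.sum_const,
      Finset.card_univ,
      ← Nat.card_eq_fintype_card, ← Nat.cast_smul_eq_nsmul K] at hw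
    rcases smul_eq_zero.1 hw with h | h
    · exact absurd h hZK
    · exact h
  have hW₁0 : LinearMap.ker e ≠ ⊥ := by
    intro h
    obtain ⟨z, hz, hz1⟩ := hZ1
    apply hz1
    apply LinearMap.ext
    intro w
    rw [Module.End.one_apply]
    have h1 : ρ z w - w ∈ LinearMap.ker e := by
      rw [LinearMap.mem_ker, map_sub, ← Module.End.mul_apply, he_right z hz, sub_self]
    rw [h, Submodule.mem_bot, sub_eq_zero] at h1
    exact h1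
  have hW₁inv : ∀ g : Γ, (∀ z ∈ Z, g * z * g⁻¹ ∈ Z) → (LinearMap.ker e).map (ρ g) ≤ LinearMap.ker e := by
    intro g hg
    rintro _ ⟨w, hw, rfl⟩
    rw [SetLike.mem_coe, LinearMap.mem_ker] at hw
    rw [LinearMap.mem_ker, ← Module.End.mul_apply, he, ← sum_comm_of_norm ρ Z g hg, ← he,
      Module.End.mul_apply, hw, map_zero]
  let P : ℕ → Prop := fun n => ∃ U : Submodule K V, U ≤ LinearMap.ker e ∧ U ≠ ⊥ ∧ FInv ρ Q₁ U ∧
    U.map (ρ x) ≤ U ∧ finrank K U = n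
  have hP : ∃ n, P n := ⟨_, LinearMap.ker e, le_rfl, hW₁0, fun g hg => hW₁inv g (hZQ g hg),
    hW₁inv x hZx, rfl⟩
  obtain ⟨W₂, hW₂le, hW₂0, hW₂Q, hW₂x, hW₂n⟩ := Nat.find_spec hP
  refine ⟨W₂, hW₂0, hW₂Q, hW₂x, ?_, fun w hw => hfixW₁ w (hW₂le hw)⟩
  intro U hU hUQ hUx
  by_cases hU0 : U = ⊥
  · exact Or.inl hU0
  · right
    have h1 : Nat.find hP ≤ finrank K U :=
      Nat.find_min' hP ⟨U, hU.trans hW₂le, hU0, hUQ, hUx, rfl⟩
    rw [← hW₂n] at h1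
    exact Submodule.eq_of_le_of_finrank_le hU h1

/-- not every element of `Q₁ = [Q₁, x]` acts as a scalar. -/
theorem not_all_scalar (ρ : Representation K Γ V) (Q₁ : Subgroup Γ) (x : Γ) (r : ℕ) (hr : 0 < r)
    (hx : x ^ r = 1) (W₂ : Submodule K V) (hW₂0 : W₂ ≠ ⊥) (hW₂Q : FInv ρ Q₁ W₂)
    (hW₂x : W₂.map (ρ x) ≤ W₂)
    (hgen : Q₁ = Subgroup.closure {u | ∃ h ∈ Q₁, u = x * h * x⁻¹ * h⁻¹})
    (hfix : ∀ w ∈ W₂, (∀ g ∈ Q₁, ρ g w = w) → w = 0) :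
    ¬ ∀ g ∈ Q₁, ∃ l : K, ∀ w ∈ W₂, ρ g w = l • w := by
  intro hall
  have hW₂x' := map_inv_le_of_pow ρ x r hr hx W₂ hW₂x
  let Fx : Subgroup Γ :=
    { carrier := {g | ∀ w ∈ W₂, ρ g w = w}
      mul_mem' := by
        intro a b ha hb w hw
        rw [map_mul, Module.End.mul_apply, hb w hw, ha w hw]
      one_mem' := by
        intro w _
        rw [map_one, Module.End.one_apply]
      inv_mem' := by
        intro a ha w hw
        have := ha w hw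
        conv_lhs => rw [← this]
        exact rho_inv_mul ρ a w }
  have hle : Q₁ ≤ Fx := by
    conv_lhs => rw [hgen]
    rw [Subgroup.closure_le]
    rintro _ ⟨h, hh, rfl⟩ w hw
    obtain ⟨l, hl⟩ := hall h hh
    have h1 : ρ h⁻¹ w ∈ W₂ := hW₂Q.mem (Q₁.inv_mem hh) hw
    have h2 : ρ x⁻¹ (ρ h⁻¹ w) ∈ W₂ := hW₂x' (Submodule.mem_map_of_mem h1)
    have h3 : w = l • ρ h⁻¹ w := by
      rw [← hl _ h1, rho_mul_inv]
    rw [map_mul, map_mul, map_mul, Module.End.mul_apply, Module.End.mul_apply,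
      Module.End.mul_apply, hl _ h2, map_smul, rho_mul_inv, ← h3]
  obtain ⟨w, hw, hw0⟩ := Submodule.exists_mem_ne_zero_of_ne_bot hW₂0
  apply hw0
  apply hfix w hw
  intro g hg
  exact hle hg w hw

/-- the subgroup of elements acting as scalars on `W₂`. -/
theorem exists_scalar_subgroup (ρ : Representation K Γ V) (Q₁ : Subgroup Γ) (W₂ : Submodule K V)
    (hW₂0 : W₂ ≠ ⊥) (hW₂Q : FInv ρ Q₁ W₂) :
    ∃ Z₀ : Subgroup Γ, ∀ g, g ∈ Z₀ ↔ g ∈ Q₁ ∧ ∃ l : K, ∀ w ∈ W₂, ρ g w = l • w := by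
  refine ⟨{ carrier := {g | g ∈ Q₁ ∧ ∃ l : K, ∀ w ∈ W₂, ρ g w = l • w}
            mul_mem' := ?_
            one_mem' := ?_
            inv_mem' := ?_ }, fun g => Iff.rfl⟩
  · rintro a b ⟨ha, la, hla⟩ ⟨hb, lb, hlb⟩
    refine ⟨Q₁.mul_mem ha hb, la * lb, ?_⟩
    intro w hw
    rw [map_mul, Module.End.mul_apply, hlb w hw, map_smul, hla w hw, smul_smul, mul_comm]
  · refine ⟨Q₁.one_mem, 1, ?_⟩
    intro w _
    rw [map_one, Module.End.one_apply, one_smul]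
  · rintro a ⟨ha, la, hla⟩
    refine ⟨Q₁.inv_mem ha, la⁻¹, ?_⟩
    have hla0 : la ≠ 0 := by
      intro h0
      obtain ⟨w, hw, hw0⟩ := Submodule.exists_mem_ne_zero_of_ne_bot hW₂0
      apply hw0
      apply rho_injective ρ a
      rw [hla w hw, h0, zero_smul, map_zero]
    intro w hw
    have h1 : ρ a⁻¹ w ∈ W₂ := hW₂Q.mem (Q₁.inv_mem ha) hw
    have h2 : w = la • ρ a⁻¹ w := by
      rw [← hla _ h1, rho_mul_inv]
    conv_rhs => rw [h2]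
    rw [smul_smul, inv_mul_cancel₀ hla0, one_smul]

end rep

end Cfsg.Agent.Helper3.Shult
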