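import Mathlib
import Cfsg.Agent.Helper3.ShAbsA

set_option autoImplicit false

namespace Cfsg.Agent.Helper3.Shult

open Module TensorProduct Cfsg.Agent.Helper3.FrobActC Cfsg.Agent.Helper3.FrobActB

universe v

set_option maxHeartbeats 1000000 in
/-- Shult's theorem for a faithful action on an elementary abelian group: abstract form. -/
theorem shult_abs_B {A : Type v} [CommGroup A] [Finite A] (p : ℕ) [hp : Fact p.Prime]
    [Module (ZMod p) (Additive A)]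
    (q r : ℕ) (hq : q.Prime) (hr : r.Prime) (hpq : p ≠ q) (hpr : p ≠ r) (hqr : q ≠ r)
    (x : MulAut A) (hx : x ^ r = 1) (Q : Subgroup (MulAut A)) (hQ : IsPGroup q Q)
    (hxQ : ∀ g ∈ Q, x * g * x⁻¹ ∈ Q) (hnc : ∃ g ∈ Q, x * g * x⁻¹ ≠ g)
    (hfix : ∀ a : A, x a = a → a = 1) :
    q = 2 ∧ (∃ n : ℕ, r = 2 ^ n + 1) ∧ ¬ (∀ g ∈ Q, ∀ h ∈ Q, g * h = h * g) := by
  classical
  haveI : Fact q.Prime := ⟨hq⟩
  obtain ⟨Q₁, hQ₁Q, hxQ₁, ⟨g₀, hg₀, hg₀x⟩, hP, hgen, hc1, hc2⟩ :=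
    exists_min_noncentral hq hr hqr Q hQ x hx hxQ hnc
  have hQ₁p : IsPGroup q Q₁ := hQ.to_le hQ₁Q
  obtain ⟨ρ, hρ⟩ : ∃ ρ : Representation (KK p) (MulAut A) (KK p ⊗[ZMod p] Additive A),
      ρ = bcRep p (MonoidHom.id _) := ⟨_, rfl⟩
  have hρ1 : ∀ g, ρ g = 1 ↔ g = 1 := by
    intro g
    rw [hρ, bcRep_eq_one_iff]
    rfl
  have hρfix : ∀ w, ρ x w = w → w = 0 := by
    intro w hw
    rw [hρ] at hw
    exact bcRep_no_fixed p _ x hfix w hw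
  obtain ⟨k, hk⟩ := hQ₁p.exists_card_eq
  have hcop_pq : Nat.Coprime q p := by
    rw [Nat.coprime_primes hq hp.out]
    exact hpq.symm
  have hQK : ((Nat.card Q₁ : ℕ) : KK p) ≠ 0 := by
    apply cast_ne_zero_of_coprime
    rw [hk]
    exact Nat.Coprime.pow_left k hcop_pq
  have hrK : ((r : ℕ) : KK p) ≠ 0 := by
    apply cast_ne_zero_of_coprime
    rw [Nat.coprime_primes hr hp.out]
    exact hpr.symm
  have hg₀1 : g₀ ≠ 1 := by
    intro h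
    apply hg₀x
    rw [h]; group
  obtain ⟨W₂, hW₂0, hW₂Q, hW₂x, hmin, hfixQ⟩ := exists_min_sub ρ Q₁ Q₁ x
    (fun g hg z hz => Q₁.mul_mem (Q₁.mul_mem hg hz) (Q₁.inv_mem hg)) hxQ₁ hQK
    ⟨g₀, hg₀, fun h => hg₀1 ((hρ1 g₀).1 h)⟩
  have hNS := not_all_scalar ρ Q₁ x r hr.pos hx W₂ hW₂0 hW₂Q hW₂x hgen hfixQ
  have hW₂x' := map_inv_le_of_pow ρ x r hr.pos hx W₂ hW₂x
  obtain ⟨Z₀, hZ₀⟩ := exists_scalar_subgroup ρ Q₁ W₂ hW₂0 hW₂Q
  have hc3 : ∀ g ∈ Q₁, (∃ l : KK p, ∀ w ∈ W₂, ρ g w = l • w) → x * g * x⁻¹ = g := by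
    intro g hg hsc
    apply hP Z₀ (fun g hg => ((hZ₀ g).1 hg).1) ?_ ?_ g ((hZ₀ g).2 ⟨hg, hsc⟩)
    · intro g hg
      rw [hZ₀] at hg ⊢
      obtain ⟨hgQ, l, hl⟩ := hg
      refine ⟨hxQ₁ g hgQ, l, ?_⟩
      intro w hw
      have h2 : ρ x⁻¹ w ∈ W₂ := hW₂x' (Submodule.mem_map_of_mem hw)
      rw [map_mul, map_mul, Module.End.mul_apply, Module.End.mul_apply, hl _ h2, map_smul,
        rho_mul_inv]
    · intro h
      apply hNS
      intro g hg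
      rw [← h, hZ₀] at hg
      exact hg.2
  have hc4 : ∀ c ∈ Q₁, x * c * x⁻¹ = c → c ^ r = 1 → c = 1 := by
    intro c hc _ hcr
    exact eq_one_of_pgroup_of_pow hq hr hqr Q₁ hQ₁p c hc hcr
  obtain ⟨C, hCdef⟩ : ∃ C : Subgroup (MulAut A), C = Q₁ ⊓ Subgroup.centralizer {x} := ⟨_, rfl⟩
  have hC : ∀ g, g ∈ C ↔ g ∈ Q₁ ∧ x * g * x⁻¹ = g := by
    intro g
    rw [hCdef, Subgroup.mem_inf, Subgroup.mem_centralizer_singleton_iff]
    constructor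
    · rintro ⟨h1, h2⟩
      refine ⟨h1, ?_⟩
      rw [← h2, mul_assoc, mul_inv_cancel, mul_one]
    · rintro ⟨h1, h2⟩
      refine ⟨h1, ?_⟩
      conv_lhs => rw [← h2]
      group
  haveI : Finite ↥Q₁ := Finite.of_injective (Subgroup.inclusion hQ₁Q)
    (Subgroup.inclusion_injective hQ₁Q)
  obtain ⟨hD, hcard, hcent⟩ := shult_linear_rel ρ Q₁ x r hr hx hxQ₁ hQK hrK W₂ hW₂0 hW₂Q hW₂x
    hmin (fun w _ => hρfix w) hc1 hc2 hc3 hc4 C hC
  have hCle : C ≤ Q₁ := fun g hg => ((hC g).1 hg).1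
  have hD1 : finrank (KK p) W₂ ≠ 1 := by
    intro h1
    rw [h1, one_mul, one_mul] at hcard
    have hCQ : C = Q₁ := Subgroup.eq_of_le_of_card_ge hCle hcard.symm.le
    apply hg₀x
    have : g₀ ∈ C := hCQ ▸ hg₀
    exact ((hC g₀).1 this).2
  have hDr : finrank (KK p) W₂ + 1 = r := by
    rcases hD with h | h
    · exact absurd h hD1
    · exact h
  have hDdvd : finrank (KK p) W₂ ∣ q ^ k := by
    rw [← hk, ← hcard, mul_assoc]
    exact Dvd.intro _ rfl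
  obtain ⟨m, -, hm⟩ := (Nat.dvd_prime_pow hq).1 hDdvd
  have hq2 : q = 2 := by
    rcases hq.eq_two_or_odd' with h | hodd
    · exact h
    · exfalso
      have h1 : Odd (q ^ m) := hodd.pow
      have h2 : Even r := by
        rw [← hDr, hm]
        exact h1.add_one
      have h3 : r = 2 := (Nat.Prime.even_iff hr).1 h2
      apply hD1
      omega
  refine ⟨hq2, ⟨m, ?_⟩, ?_⟩
  · rw [← hDr, hm, hq2]
  · intro hab
    apply hg₀x
    apply hcent g₀ hg₀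
    intro h hh
    exact hab g₀ (hQ₁Q hg₀) h (hQ₁Q hh)

end Cfsg.Agent.Helper3.Shult
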