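import Mathlib
import Cfsg.Agent.Helper3.ShAbsB

set_option autoImplicit false

namespace Cfsg.Agent.Helper3.Shult

universe u v

/-- Shult's theorem for an action on an elementary abelian group: general form. -/
theorem shult_act_B {Γ : Type u} [Group Γ] {A : Type v} [inst : Group A] [Finite A]
    (p q r : ℕ) (hp : p.Prime) (hq : q.Prime) (hr : r.Prime) (hpq : p ≠ q) (hpr : p ≠ r)
    (hqr : q ≠ r) (hcomm : ∀ a b : A, a * b = b * a) (hexp : ∀ a : A, a ^ p = 1)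
    (ψ : Γ →* MulAut A) (x : Γ) (hx : x ^ r = 1) (Q : Subgroup Γ) (hQ : IsPGroup q Q)
    (hxQ : ∀ g ∈ Q, x * g * x⁻¹ ∈ Q) (hnc : ∃ g ∈ Q, ψ (x * g * x⁻¹) ≠ ψ g)
    (hfix : ∀ a : A, ψ x a = a → a = 1) :
    q = 2 ∧ (∃ n : ℕ, r = 2 ^ n + 1) ∧ ¬ (∀ g ∈ Q, ∀ h ∈ Q, ψ (g * h) = ψ (h * g)) := by
  letI : CommGroup A := { inst with mul_comm := hcomm }
  haveI : Fact p.Prime := ⟨hp⟩
  letI : Module (ZMod p) (Additive A) := AddCommGroup.zmodModule (by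
    intro a
    exact congrArg Additive.ofMul (hexp (Additive.toMul a)))
  have h := shult_abs_B (A := A) p q r hq hr hpq hpr hqr (ψ x)
    (by rw [← map_pow, hx, map_one]) (Q.map ψ) (hQ.map ψ)
    (by
      rintro _ ⟨g, hg, rfl⟩
      refine ⟨x * g * x⁻¹, hxQ g hg, ?_⟩
      rw [map_mul, map_mul, map_inv])
    (by
      obtain ⟨g, hg, hne⟩ := hnc
      refine ⟨ψ g, ⟨g, hg, rfl⟩, ?_⟩
      rw [← map_inv, ← map_mul, ← map_mul]
      exact hne)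
    hfix
  refine ⟨h.1, h.2.1, ?_⟩
  intro hab
  apply h.2.2
  rintro _ ⟨g, hg, rfl⟩ _ ⟨k, hk, rfl⟩
  rw [← map_mul, ← map_mul]
  exact hab g hg k hk

end Cfsg.Agent.Helper3.Shult
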