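import Mathlib
import Cfsg.Agent.Helper3.FrobActB

set_option autoImplicit false

/-!
A Frobenius-type group `F ⋊ H` acting coprimely on a nilpotent group `M` with `C_M(F) = 1`:
`|M| = |C_M(H)| ^ |H|`; and if `|H|` is prime and `C_M(H)` is cyclic then `F'` acts trivially.
-/

namespace Cfsg.Agent.Helper3.FrobActD

open Cfsg.Agent.Helper3.FrobActA Cfsg.Agent.Helper3.FrobActB
open scoped BigOperators

universe u v

variable {G : Type u} [Group G] [Finite G]

/-- The elements of order dividing `r` in the centre. -/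
def omegaCenter (M : Type v) [Group M] (r : ℕ) : Subgroup M where
  carrier := {z | z ∈ Subgroup.center M ∧ z ^ r = 1}
  one_mem' := ⟨Subgroup.one_mem _, one_pow r⟩
  mul_mem' := by
    rintro a b ⟨ha, har⟩ ⟨hb, hbr⟩
    refine ⟨Subgroup.mul_mem _ ha hb, ?_⟩
    have hc : Commute a b := (Subgroup.mem_center_iff.mp ha b).symm
    rw [hc.mul_pow, har, hbr, one_mul]
  inv_mem' := by
    rintro a ⟨ha, har⟩
    exact ⟨Subgroup.inv_mem _ ha, by rw [inv_pow, har, inv_one]⟩

theorem mem_omegaCenter {M : Type v} [Group M] {r : ℕ} {z : M} :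
    z ∈ omegaCenter M r ↔ z ∈ Subgroup.center M ∧ z ^ r = 1 := Iff.rfl

instance omegaCenter_normal (M : Type v) [Group M] (r : ℕ) : (omegaCenter M r).Normal := by
  constructor
  intro z hz g
  have : g * z * g⁻¹ = z := by
    rw [Subgroup.mem_center_iff.mp hz.1 g, mul_inv_cancel_right]
  rw [this]
  exact hz

theorem omegaCenter_inv {M : Type v} [Group M] (r : ℕ) (φ : G →* MulAut M) :
    Inv φ (omegaCenter M r) := by
  intro g z hz
  refine ⟨?_, ?_⟩
  · rw [Subgroup.mem_center_iff]
    intro m
    have h1 := Subgroup.mem_center_iff.mp hz.1 ((φ g).symm m)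
    have h2 := congrArg (φ g) h1
    rw [map_mul, map_mul, MulEquiv.apply_symm_apply] at h2
    exact h2
  · rw [← map_pow, hz.2, map_one]

theorem omegaCenter_comm {M : Type v} [Group M] (r : ℕ) :
    ∀ a ∈ omegaCenter M r, ∀ b ∈ omegaCenter M r, a * b = b * a :=
  fun _ ha b _ => (Subgroup.mem_center_iff.mp ha.1 b).symm

/-- Induction principle for coprime actions on nilpotent groups without `F`-fixed points. -/
theorem nilp_induction (F : Subgroup G)
    (P : ∀ (M : Type v) [Group M] [Finite M], (G →* MulAut M) → Prop)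
    (hbase : ∀ (M : Type v) [Group M] [Finite M] (φ : G →* MulAut M) (r : ℕ), r.Prime →
      (∀ a b : M, a * b = b * a) → (∀ a : M, a ^ r = 1) →
      (Nat.card G).Coprime (Nat.card M) → fix φ F = ⊥ → P M φ)
    (hstep : ∀ (M : Type v) [Group M] [Finite M] (φ : G →* MulAut M) (N : Subgroup M) [N.Normal]
      (hN : Inv φ N), (∀ a ∈ N, ∀ b ∈ N, a * b = b * a) →
      (Nat.card G).Coprime (Nat.card M) → fix φ F = ⊥ →
      P N (resAct φ N hN) → P (M ⧸ N) (quotAct φ N hN) → P M φ) :
    ∀ (n : ℕ) (M : Type v) [Group M] [Finite M] (φ : G →* MulAut M), Nat.card M = n →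
      Group.IsNilpotent M → (Nat.card G).Coprime (Nat.card M) → fix φ F = ⊥ → P M φ := by
  intro n
  induction n using Nat.strong_induction_on with
  | _ n ih =>
  intro M _ _ φ hn hnil hcop hCF
  rcases subsingleton_or_nontrivial M with hsub | hnt
  · exact hbase M φ 2 Nat.prime_two (fun a b => Subsingleton.elim _ _)
      (fun a => Subsingleton.elim _ _) hcop hCF
  have hcne : Subgroup.center M ≠ ⊥ := Group.IsNilpotent.center_ne_bot M
  have hcard : Nat.card (Subgroup.center M) ≠ 1 := fun h1 => hcne ((Subgroup.card_eq_one).mp h1)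
  obtain ⟨r, hr, hrdvd⟩ := Nat.exists_prime_and_dvd hcard
  haveI : Fact r.Prime := ⟨hr⟩
  obtain ⟨x, hx⟩ := exists_prime_orderOf_dvd_card' (G := Subgroup.center M) r hrdvd
  set N := omegaCenter M r with hNdef
  have hNinv : Inv φ N := omegaCenter_inv r φ
  have hNab := omegaCenter_comm (M := M) r
  have hNne : N ≠ ⊥ := by
    intro h0
    have hxN : (x : M) ∈ N := by
      refine ⟨x.2, ?_⟩
      have : x ^ r = 1 := by rw [← hx]; exact pow_orderOf_eq_one x
      exact_mod_cast congrArg Subtype.val this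
    rw [h0, Subgroup.mem_bot] at hxN
    have : x = 1 := Subtype.ext hxN
    rw [this, orderOf_one] at hx
    exact hr.one_lt.ne hx
  have hcardM : Nat.card M = Nat.card (M ⧸ N) * Nat.card N :=
    Subgroup.card_eq_card_quotient_mul_card_subgroup N
  have hcopN : (Nat.card G).Coprime (Nat.card N) :=
    Nat.Coprime.coprime_dvd_right (Subgroup.card_subgroup_dvd_card N) hcop
  have hcopQ : (Nat.card G).Coprime (Nat.card (M ⧸ N)) :=
    Nat.Coprime.coprime_dvd_right ⟨_, hcardM⟩ hcop
  have hcopNF : (Nat.card N).Coprime (Nat.card F) :=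
    (Nat.Coprime.coprime_dvd_left (Subgroup.card_subgroup_dvd_card F) hcopN).symm
  -- the base case for `N`
  have hPN : P N (resAct φ N hNinv) :=
    hbase N (resAct φ N hNinv) r hr (fun a b => Subtype.ext (hNab a a.2 b b.2))
      (fun a => Subtype.ext a.2.2) hcopN (fix_res_eq_bot N hNinv hCF)
  -- the induction hypothesis for `M ⧸ N`
  have hNgt : 1 < Nat.card N := by
    rw [Finite.one_lt_card_iff_nontrivial]
    exact (Subgroup.nontrivial_iff_ne_bot N).mpr hNne
  have hlt : Nat.card (M ⧸ N) < n := by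
    rw [← hn, hcardM]
    have hpos : 0 < Nat.card (M ⧸ N) := Nat.card_pos
    nlinarith
  have hPQ : P (M ⧸ N) (quotAct φ N hNinv) :=
    ih _ hlt (M ⧸ N) (quotAct φ N hNinv) rfl inferInstance hcopQ
      (fix_quot_eq_bot φ F N hNinv hNab hcopNF hCF)
  exact hstep M φ N hNinv hNab hcop hCF hPN hPQ

/-- **Theorem A.** `|M| = |C_M(H)| ^ |H|`. -/
theorem card_eq_pow_fix (F H : Subgroup G) [hFn : F.Normal] (hnil : Group.IsNilpotent F)
    (hfpf : ∀ h ∈ H, h ≠ 1 → ∀ f ∈ F, h * f * h⁻¹ = f → f = 1)
    (M : Type v) [Group M] [Finite M] (φ : G →* MulAut M) (hMnil : Group.IsNilpotent M)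
    (hcop : (Nat.card G).Coprime (Nat.card M)) (hCF : fix φ F = ⊥) :
    Nat.card M = Nat.card (fix φ H) ^ Nat.card H := by
  refine nilp_induction F (fun M _ _ φ => Nat.card M = Nat.card (fix φ H) ^ Nat.card H)
    ?_ ?_ (Nat.card M) M φ rfl hMnil hcop hCF
  · intro M _ _ φ r hr hcomm hexp _ hCF
    exact card_eq_pow' r hr hcomm hexp φ F H hnil hfpf hCF
  · intro M _ _ φ N _ hN hNab hcop _ hPN hPQ
    have hcopNH : (Nat.card N).Coprime (Nat.card H) := by
      have h1 : (Nat.card G).Coprime (Nat.card N) :=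
        Nat.Coprime.coprime_dvd_right (Subgroup.card_subgroup_dvd_card N) hcop
      exact (Nat.Coprime.coprime_dvd_left (Subgroup.card_subgroup_dvd_card H) h1).symm
    rw [Subgroup.card_eq_card_quotient_mul_card_subgroup N, card_fix_eq φ H N hN hNab hcopNH,
      mul_pow, ← hPN, ← hPQ, mul_comm]

/-- **Theorem B.** If `|H| = p` is prime, `G = F H` and `C_M(H)` is cyclic, then `F` acts on `M`
through an abelian group. -/
theorem comm_act_of_cyclic (F H : Subgroup G) [hFn : F.Normal] (hnil : Group.IsNilpotent F)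
    (hfpf : ∀ h ∈ H, h ≠ 1 → ∀ f ∈ F, h * f * h⁻¹ = f → f = 1)
    (hFH : F ⊔ H = ⊤) (p : ℕ) (hp : p.Prime) (hH : Nat.card H = p)
    (M : Type v) [Group M] [Finite M] (φ : G →* MulAut M) (hMnil : Group.IsNilpotent M)
    (hcop : (Nat.card G).Coprime (Nat.card M)) (hCF : fix φ F = ⊥)
    (hcyc : IsCyclic (fix φ H)) : ∀ a ∈ F, ∀ b ∈ F, φ (a * b) = φ (b * a) := by
  refine nilp_induction F
    (fun M _ _ φ => IsCyclic (fix φ H) → ∀ a ∈ F, ∀ b ∈ F, φ (a * b) = φ (b * a))
    ?_ ?_ (Nat.card M) M φ rfl hMnil hcop hCF hcyc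
  · intro M _ _ φ r hr hcomm hexp _ hCF hcyc
    have hle : Nat.card (fix φ H) ≤ r := by
      have h1 : Monoid.exponent (fix φ H) = Nat.card (fix φ H) := IsCyclic.exponent_eq_card
      have h2 : Monoid.exponent (fix φ H) ∣ r := by
        apply Monoid.exponent_dvd_of_forall_pow_eq_one
        intro x
        apply Subtype.ext
        exact hexp (x : M)
      rw [h1] at h2
      exact Nat.le_of_dvd hr.pos h2
    exact comm_act' r hr hcomm hexp φ F H hnil hfpf hCF hFH p hp hH hle
  · intro M _ _ φ N _ hN hNab hcop _ hPN hPQ hcyc a ha b hb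
    have hcopN : (Nat.card G).Coprime (Nat.card N) :=
      Nat.Coprime.coprime_dvd_right (Subgroup.card_subgroup_dvd_card N) hcop
    have hcopNH : (Nat.card N).Coprime (Nat.card H) :=
      (Nat.Coprime.coprime_dvd_left (Subgroup.card_subgroup_dvd_card H) hcopN).symm
    -- cyclicity passes to `N` and `M ⧸ N`
    have hcycN : IsCyclic (fix (resAct φ N hN) H) := by
      let f : fix (resAct φ N hN) H →* fix φ H :=
        (N.subtype.comp (fix (resAct φ N hN) H).subtype).codRestrict (fix φ H) (by
          intro n g hg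
          have := congrArg Subtype.val (n.2 g hg)
          simpa using this)
      have hf : Function.Injective f := by
        intro x y hxy
        apply Subtype.ext
        apply Subtype.ext
        exact congrArg (fun z : fix φ H => (z : M)) hxy
      exact isCyclic_of_injective f hf
    have hcycQ : IsCyclic (fix (quotAct φ N hN) H) :=
      isCyclic_of_surjective (fixQuotHom φ H N hN) (fixQuotHom_surjective φ H N hN hNab hcopNH)
    have h1 := hPN hcycN a ha b hb
    have h2 := hPQ hcycQ a ha b hb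
    have h3 : φ ((a * b) * (b * a)⁻¹) = 1 := by
      apply eq_one_of_res_quot φ N hN hcopN
      · rw [map_mul, h1, ← map_mul, mul_inv_cancel, map_one]
      · rw [map_mul, h2, ← map_mul, mul_inv_cancel, map_one]
    rw [map_mul, map_inv, mul_inv_eq_one] at h3
    exact h3

end Cfsg.Agent.Helper3.FrobActD
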