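import Mathlib
import Cfsg.Agent.Helper3.FrobActA
import Cfsg.Agent.Helper3.FrobActB
import Cfsg.Agent.Helper3.FrobActD

set_option autoImplicit false

/-!
Coprime action of a Frobenius-type group `G = F H` on a solvable group `M`:
`|C_M(G)| ^ |H| * |M| = |C_M(H)| ^ |H| * |C_M(F)|`.
-/

namespace Cfsg.Agent.Helper3.FrobActE

open Cfsg.Agent.Helper3.FrobActA Cfsg.Agent.Helper3.FrobActB Cfsg.Agent.Helper3.FrobActD
open scoped commutatorElement

universe u v

variable {G : Type u} [Group G]

/-- The `r`-torsion of an abelian subgroup. -/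
def omegaSub {M : Type v} [Group M] (D : Subgroup M) (hD : ∀ a ∈ D, ∀ b ∈ D, a * b = b * a)
    (r : ℕ) : Subgroup M where
  carrier := {x | x ∈ D ∧ x ^ r = 1}
  one_mem' := ⟨D.one_mem, one_pow r⟩
  mul_mem' := fun {a b} ha hb => ⟨D.mul_mem ha.1 hb.1, by
    have hc : Commute a b := hD a ha.1 b hb.1
    rw [hc.mul_pow, ha.2, hb.2, one_mul]⟩
  inv_mem' := fun {a} ha => ⟨D.inv_mem ha.1, by rw [inv_pow, ha.2, inv_one]⟩

theorem mem_omegaSub {M : Type v} [Group M] {D : Subgroup M}
    {hD : ∀ a ∈ D, ∀ b ∈ D, a * b = b * a} {r : ℕ} {x : M} :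
    x ∈ omegaSub D hD r ↔ x ∈ D ∧ x ^ r = 1 := Iff.rfl

theorem omegaSub_normal {M : Type v} [Group M] (D : Subgroup M) [hDn : D.Normal]
    (hD : ∀ a ∈ D, ∀ b ∈ D, a * b = b * a) (r : ℕ) : (omegaSub D hD r).Normal := by
  constructor
  intro n hn g
  refine ⟨hDn.conj_mem n hn.1 g, ?_⟩
  rw [conj_pow, hn.2, mul_one, mul_inv_cancel]

theorem omegaSub_inv {M : Type v} [Group M] (D : Subgroup M)
    (hD : ∀ a ∈ D, ∀ b ∈ D, a * b = b * a) (r : ℕ) (φ : G →* MulAut M) (hDinv : Inv φ D) :
    Inv φ (omegaSub D hD r) := by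
  intro g n hn
  refine ⟨hDinv g n hn.1, ?_⟩
  rw [← map_pow, hn.2, map_one]

theorem omegaSub_comm {M : Type v} [Group M] (D : Subgroup M)
    (hD : ∀ a ∈ D, ∀ b ∈ D, a * b = b * a) (r : ℕ) :
    ∀ a ∈ omegaSub D hD r, ∀ b ∈ omegaSub D hD r, a * b = b * a :=
  fun a ha b hb => hD a ha.1 b hb.1

/-- A nontrivial solvable group has a nontrivial characteristic abelian subgroup. -/
theorem exists_char_abelian (M : Type v) [Group M] [Nontrivial M] (hsolv : Group.IsSolvable M) :
    ∃ D : Subgroup M, D.Characteristic ∧ D ≠ ⊥ ∧ ∀ a ∈ D, ∀ b ∈ D, a * b = b * a := by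
  classical
  have hex : ∃ n, derivedSeries M n = ⊥ := (Group.isSolvable_def M).mp hsolv
  have hk0 : derivedSeries M (Nat.find hex) = ⊥ := Nat.find_spec hex
  have hk0pos : Nat.find hex ≠ 0 := by
    intro h0
    rw [h0, derivedSeries_zero] at hk0
    exact top_ne_bot hk0
  obtain ⟨j, hj⟩ := Nat.exists_eq_succ_of_ne_zero hk0pos
  refine ⟨derivedSeries M j, inferInstance, ?_, ?_⟩
  · exact Nat.find_min hex (by omega)
  · intro a ha b hb
    have h1 : ⁅a, b⁆ ∈ ⁅derivedSeries M j, derivedSeries M j⁆ :=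
      Subgroup.commutator_mem_commutator ha hb
    rw [← derivedSeries_succ, ← Nat.succ_eq_add_one, ← hj, hk0, Subgroup.mem_bot] at h1
    exact commutatorElement_eq_one_iff_mul_comm.mp h1

theorem inv_of_characteristic {M : Type v} [Group M] (D : Subgroup M) [hD : D.Characteristic]
    (φ : G →* MulAut M) : Inv φ D := by
  intro g n hn
  have h1 := Subgroup.characteristic_iff_map_le.mp hD (φ g)
  exact h1 (Subgroup.mem_map_of_mem _ hn)

variable [Finite G]

/-- Induction principle for coprime actions on solvable groups. -/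
theorem solv_induction
    (P : ∀ (M : Type v) [Group M] [Finite M], (G →* MulAut M) → Prop)
    (hbase : ∀ (M : Type v) [Group M] [Finite M] (φ : G →* MulAut M) (r : ℕ), r.Prime →
      (∀ a b : M, a * b = b * a) → (∀ a : M, a ^ r = 1) →
      (Nat.card G).Coprime (Nat.card M) → P M φ)
    (hstep : ∀ (M : Type v) [Group M] [Finite M] (φ : G →* MulAut M) (N : Subgroup M) [N.Normal]
      (hN : Inv φ N), (∀ a ∈ N, ∀ b ∈ N, a * b = b * a) →
      (Nat.card G).Coprime (Nat.card M) →
      P N (resAct φ N hN) → P (M ⧸ N) (quotAct φ N hN) → P M φ) :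
    ∀ (n : ℕ) (M : Type v) [Group M] [Finite M] (φ : G →* MulAut M), Nat.card M = n →
      Group.IsSolvable M → (Nat.card G).Coprime (Nat.card M) → P M φ := by
  intro n
  induction n using Nat.strong_induction_on with
  | _ n ih =>
  intro M _ _ φ hn hsolv hcop
  haveI := hsolv
  rcases subsingleton_or_nontrivial M with hsub | hnt
  · exact hbase M φ 2 Nat.prime_two (fun a b => Subsingleton.elim _ _)
      (fun a => Subsingleton.elim _ _) hcop
  obtain ⟨D, hDchar, hDne, hDab⟩ := exists_char_abelian M hsolv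
  have := hDchar
  have hcard : Nat.card D ≠ 1 := fun h1 => hDne ((Subgroup.card_eq_one).mp h1)
  obtain ⟨r, hr, hrdvd⟩ := Nat.exists_prime_and_dvd hcard
  haveI : Fact r.Prime := ⟨hr⟩
  obtain ⟨x, hx⟩ := exists_prime_orderOf_dvd_card' (G := D) r hrdvd
  set N := omegaSub D hDab r with hNdef
  haveI hNn : N.Normal := omegaSub_normal D hDab r
  have hNinv : Inv φ N := omegaSub_inv D hDab r φ (inv_of_characteristic D φ)
  have hNab := omegaSub_comm D hDab r
  have hNne : N ≠ ⊥ := by
    intro h0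
    have hxN : (x : M) ∈ N := by
      refine ⟨x.2, ?_⟩
      have : x ^ r = 1 := by rw [← hx]; exact pow_orderOf_eq_one x
      exact_mod_cast congrArg Subtype.val this
    rw [h0, Subgroup.mem_bot] at hxN
    have : x = 1 := Subtype.ext hxN
    rw [this, orderOf_one] at hx
    exact hr.one_lt.ne hx
  have hcardM : Nat.card M = Nat.card (M ⧸ N) * Nat.card N :=
    Subgroup.card_eq_card_quotient_mul_card_subgroup N
  have hcopN : (Nat.card G).Coprime (Nat.card N) :=
    Nat.Coprime.coprime_dvd_right (Subgroup.card_subgroup_dvd_card N) hcop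
  have hcopQ : (Nat.card G).Coprime (Nat.card (M ⧸ N)) :=
    Nat.Coprime.coprime_dvd_right ⟨_, hcardM⟩ hcop
  have hPN : P N (resAct φ N hNinv) :=
    hbase N (resAct φ N hNinv) r hr (fun a b => Subtype.ext (hNab a a.2 b b.2))
      (fun a => Subtype.ext a.2.2) hcopN
  have hNgt : 1 < Nat.card N := by
    rw [Finite.one_lt_card_iff_nontrivial]
    exact (Subgroup.nontrivial_iff_ne_bot N).mpr hNne
  have hlt : Nat.card (M ⧸ N) < n := by
    rw [← hn, hcardM]
    have hpos : 0 < Nat.card (M ⧸ N) := Nat.card_pos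
    nlinarith
  have hPQ : P (M ⧸ N) (quotAct φ N hNinv) :=
    ih _ hlt (M ⧸ N) (quotAct φ N hNinv) rfl inferInstance hcopQ
  exact hstep M φ N hNinv hNab hcop hPN hPQ

section formula

variable (F H : Subgroup G)

theorem fix_top_eq {M : Type v} [Group M] (φ : G →* MulAut M) (hFH : F ⊔ H = ⊤) :
    fix φ ⊤ = fix φ F ⊓ fix φ H := by
  ext m
  constructor
  · intro hm
    exact ⟨fun g _ => hm g (Subgroup.mem_top g), fun g _ => hm g (Subgroup.mem_top g)⟩
  · rintro ⟨h1, h2⟩ g _
    let S : Subgroup G :=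
      { carrier := {g | φ g m = m}
        one_mem' := by change φ 1 m = m; rw [map_one]; rfl
        mul_mem' := fun {a b} ha hb => by
          change φ (a * b) m = m
          rw [map_mul, MulAut.mul_apply, (hb : φ b m = m), (ha : φ a m = m)]
        inv_mem' := fun {a} ha => by
          change φ a⁻¹ m = m
          rw [map_inv, MulAut.inv_apply, MulEquiv.symm_apply_eq]
          exact (ha : φ a m = m).symm }
    have hS : F ⊔ H ≤ S := sup_le (fun f hf => h1 f hf) (fun h hh => h2 h hh)
    rw [hFH] at hS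
    exact hS (Subgroup.mem_top g)

/-- The property to be proved. -/
def Formula (M : Type v) [Group M] [Finite M] (φ : G →* MulAut M) : Prop :=
  Nat.card (fix φ ⊤) ^ Nat.card H * Nat.card M =
    Nat.card (fix φ H) ^ Nat.card H * Nat.card (fix φ F)

theorem formula_step (M : Type v) [Group M] [Finite M] (φ : G →* MulAut M) (N : Subgroup M)
    [N.Normal] (hN : Inv φ N) (hNab : ∀ a ∈ N, ∀ b ∈ N, a * b = b * a)
    (hcop : (Nat.card G).Coprime (Nat.card M))
    (hPN : Formula F H N (resAct φ N hN)) (hPQ : Formula F H (M ⧸ N) (quotAct φ N hN)) :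
    Formula F H M φ := by
  unfold Formula at *
  have hcopN : (Nat.card G).Coprime (Nat.card N) :=
    Nat.Coprime.coprime_dvd_right (Subgroup.card_subgroup_dvd_card N) hcop
  have hc : ∀ S : Subgroup G, (Nat.card N).Coprime (Nat.card S) := fun S =>
    (Nat.Coprime.coprime_dvd_left (Subgroup.card_subgroup_dvd_card S) hcopN).symm
  rw [card_fix_eq φ ⊤ N hN hNab (hc ⊤), card_fix_eq φ H N hN hNab (hc H),
    card_fix_eq φ F N hN hNab (hc F), Subgroup.card_eq_card_quotient_mul_card_subgroup N,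
    mul_pow, mul_pow]
  calc Nat.card (fix (resAct φ N hN) ⊤) ^ Nat.card H * Nat.card (fix (quotAct φ N hN) ⊤) ^ Nat.card H
        * (Nat.card (M ⧸ N) * Nat.card N)
      = (Nat.card (fix (resAct φ N hN) ⊤) ^ Nat.card H * Nat.card N) *
        (Nat.card (fix (quotAct φ N hN) ⊤) ^ Nat.card H * Nat.card (M ⧸ N)) := by ring
    _ = (Nat.card (fix (resAct φ N hN) H) ^ Nat.card H * Nat.card (fix (resAct φ N hN) F)) *
        (Nat.card (fix (quotAct φ N hN) H) ^ Nat.card H * Nat.card (fix (quotAct φ N hN) F)) := by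
        rw [hPN, hPQ]
    _ = _ := by ring

variable [hFn : F.Normal]

theorem fix_normal_inv {M : Type v} [Group M] (φ : G →* MulAut M) : Inv φ (fix φ F) := by
  intro g n hn f hf
  have h1 : g⁻¹ * f * g ∈ F := by
    have := hFn.conj_mem f hf g⁻¹
    rwa [inv_inv] at this
  have h2 := hn _ h1
  have h3 : f * g = g * (g⁻¹ * f * g) := by group
  calc φ f (φ g n) = φ (f * g) n := by rw [map_mul]; rfl
    _ = φ (g * (g⁻¹ * f * g)) n := by rw [h3]
    _ = φ g (φ (g⁻¹ * f * g) n) := by rw [map_mul]; rfl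
    _ = φ g n := by rw [h2]

theorem formula_base (hnil : Group.IsNilpotent F)
    (hfpf : ∀ h ∈ H, h ≠ 1 → ∀ f ∈ F, h * f * h⁻¹ = f → f = 1) (hFH : F ⊔ H = ⊤)
    (M : Type v) [Group M] [Finite M] (φ : G →* MulAut M) (r : ℕ) (hr : r.Prime)
    (hcomm : ∀ a b : M, a * b = b * a) (hexp : ∀ a : M, a ^ r = 1)
    (hcop : (Nat.card G).Coprime (Nat.card M)) : Formula F H M φ := by
  set N := fix φ F with hNdef
  haveI hNn : N.Normal := ⟨fun n hn g => by
    have : g * n * g⁻¹ = n := by rw [hcomm g n, mul_inv_cancel_right]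
    rw [this]; exact hn⟩
  have hNinv : Inv φ N := fix_normal_inv F φ
  have hNab : ∀ a ∈ N, ∀ b ∈ N, a * b = b * a := fun a _ b _ => hcomm a b
  have hcopN : (Nat.card G).Coprime (Nat.card N) :=
    Nat.Coprime.coprime_dvd_right (Subgroup.card_subgroup_dvd_card N) hcop
  have hc : ∀ S : Subgroup G, (Nat.card N).Coprime (Nat.card S) := fun S =>
    (Nat.Coprime.coprime_dvd_left (Subgroup.card_subgroup_dvd_card S) hcopN).symm
  have hcardM : Nat.card M = Nat.card (M ⧸ N) * Nat.card N :=
    Subgroup.card_eq_card_quotient_mul_card_subgroup N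
  have hcopQ : (Nat.card G).Coprime (Nat.card (M ⧸ N)) :=
    Nat.Coprime.coprime_dvd_right ⟨_, hcardM⟩ hcop
  apply formula_step F H M φ N hNinv hNab hcop
  · -- on `N`, `F` acts trivially
    unfold Formula
    have h1 : fix (resAct φ N hNinv) F = ⊤ := by
      rw [eq_top_iff]
      intro n _ f hf
      apply Subtype.ext
      rw [resAct_apply]
      exact n.2 f hf
    have h2 : fix (resAct φ N hNinv) ⊤ = fix (resAct φ N hNinv) H := by
      rw [fix_top_eq F H _ hFH, h1, top_inf_eq]
    rw [h1, h2, Subgroup.card_top]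
  · -- on `M ⧸ N`, `F` has no fixed points
    unfold Formula
    have h1 : fix (quotAct φ N hNinv) F = ⊥ := by
      rw [eq_bot_iff]
      intro q hq
      obtain ⟨m, hm⟩ := fixQuotHom_surjective φ F N hNinv hNab (hc F) ⟨q, hq⟩
      have h2 := congrArg Subtype.val hm
      rw [fixQuotHom_apply] at h2
      change ((m : M) : M ⧸ N) = q at h2
      rw [Subgroup.mem_bot, ← h2]
      exact (QuotientGroup.eq_one_iff _).mpr m.2
    have h2 : fix (quotAct φ N hNinv) ⊤ = ⊥ := by
      rw [fix_top_eq F H _ hFH, h1, bot_inf_eq]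
    have hcommQ : ∀ a b : M ⧸ N, a * b = b * a := by
      intro a b
      induction a using QuotientGroup.induction_on with
      | H a =>
      induction b using QuotientGroup.induction_on with
      | H b =>
      rw [← QuotientGroup.mk_mul, ← QuotientGroup.mk_mul, hcomm a b]
    have hexpQ : ∀ a : M ⧸ N, a ^ r = 1 := by
      intro a
      induction a using QuotientGroup.induction_on with
      | H a => rw [← QuotientGroup.mk_pow, hexp a]; rfl
    have h3 := card_eq_pow' r hr hcommQ hexpQ (quotAct φ N hNinv) F H hnil hfpf h1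
    rw [h1, h2, Subgroup.card_bot, one_pow, one_mul, mul_one]
    exact h3

/-- **Theorem C.** `|C_M(G)| ^ |H| * |M| = |C_M(H)| ^ |H| * |C_M(F)|` for a Frobenius-type group
`G = F H` acting coprimely on a solvable group `M`. -/
theorem card_fix_formula (hnil : Group.IsNilpotent F)
    (hfpf : ∀ h ∈ H, h ≠ 1 → ∀ f ∈ F, h * f * h⁻¹ = f → f = 1) (hFH : F ⊔ H = ⊤)
    (M : Type v) [Group M] [Finite M] (φ : G →* MulAut M) (hsolv : Group.IsSolvable M)
    (hcop : (Nat.card G).Coprime (Nat.card M)) :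
    Nat.card (fix φ ⊤) ^ Nat.card H * Nat.card M =
      Nat.card (fix φ H) ^ Nat.card H * Nat.card (fix φ F) := by
  refine solv_induction (fun M _ _ φ => Formula F H M φ) ?_ ?_ (Nat.card M) M φ rfl hsolv hcop
  · intro M _ _ φ r hr hcomm hexp hcop
    exact formula_base F H hnil hfpf hFH M φ r hr hcomm hexp hcop
  · intro M _ _ φ N _ hN hNab hcop hPN hPQ
    exact formula_step F H M φ N hN hNab hcop hPN hPQ

end formula

end Cfsg.Agent.Helper3.FrobActE
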