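import Mathlib
import Cfsg.Agent.Helper3.FrobActE
import Cfsg.Agent.Helper1.Card

set_option autoImplicit false

/-!
A Frobenius-type group `Y B` (`Y` nilpotent, `B` of prime order acting fixed-point-freely on `Y`)
acting coprimely on a solvable group `R` on which `B` has no fixed points: then `Y` centralizes `R`.
(Subgroup form inside an ambient finite group; Bender–Glauberman-style "(G2)".)
-/

namespace Cfsg.Agent.Helper3.FrobG2

open Cfsg.Agent.Helper3.FrobActA Cfsg.Agent.Helper3.FrobActE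

universe u

variable {Γ : Type u} [Group Γ]

/-- Conjugation action of a subgroup `K ≤ N(R)` on `R`. -/
def conjAct (R K : Subgroup Γ) (hK : K ≤ Subgroup.normalizer (R : Set Γ)) : K →* MulAut R where
  toFun k :=
    { toFun := fun r => ⟨(k : Γ) * r * (k : Γ)⁻¹, ((Subgroup.mem_normalizer_iff).1 (hK k.2) r).1 r.2⟩
      invFun := fun r => ⟨(k : Γ)⁻¹ * r * (k : Γ), by
        have := ((Subgroup.mem_normalizer_iff).1 (hK (K.inv_mem k.2)) r).1 r.2
        simpa using this⟩
      left_inv := fun r => by apply Subtype.ext; simp [mul_assoc]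
      right_inv := fun r => by apply Subtype.ext; simp [mul_assoc]
      map_mul' := fun a b => by apply Subtype.ext; simp [mul_assoc] }
  map_one' := by
    apply MulEquiv.ext; intro r; apply Subtype.ext; simp
  map_mul' := by
    intro g h
    apply MulEquiv.ext; intro r; apply Subtype.ext
    simp [mul_assoc]

@[simp] theorem conjAct_apply (R K : Subgroup Γ) (hK : K ≤ Subgroup.normalizer (R : Set Γ))
    (k : K) (r : R) : ((conjAct R K hK k r : R) : Γ) = (k : Γ) * r * (k : Γ)⁻¹ := rfl

/-- **(G2)** If `B` of prime order acts fixed-point-freely on the nilpotent group `Y` and on the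
solvable group `R` (normalized by `Y B`, of order coprime to `|Y| |B|`), then `Y` centralizes `R`. -/
theorem le_centralizer_of_frobenius [Finite Γ] (Y B R : Subgroup Γ)
    (hYnil : Group.IsNilpotent Y) (hBp : (Nat.card B).Prime)
    (hBY : B ≤ Subgroup.normalizer (Y : Set Γ))
    (hCY : Y ⊓ Subgroup.centralizer (B : Set Γ) = ⊥)
    (hYR : Y ≤ Subgroup.normalizer (R : Set Γ)) (hBR : B ≤ Subgroup.normalizer (R : Set Γ))
    (hRsolv : Group.IsSolvable R) (hcop : (Nat.card Y * Nat.card B).Coprime (Nat.card R))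
    (hCR : R ⊓ Subgroup.centralizer (B : Set Γ) = ⊥) :
    Y ≤ Subgroup.centralizer (R : Set Γ) := by
  obtain ⟨K, hKdef⟩ : ∃ K, K = Y ⊔ B := ⟨_, rfl⟩
  have hYK : Y ≤ K := hKdef ▸ le_sup_left
  have hBK : B ≤ K := hKdef ▸ le_sup_right
  have hKR : K ≤ Subgroup.normalizer (R : Set Γ) := hKdef ▸ sup_le hYR hBR
  have hKY : K ≤ Subgroup.normalizer (Y : Set Γ) := hKdef ▸ sup_le Subgroup.le_normalizer hBY
  haveI hFn : (Y.subgroupOf K).Normal :=
    (Subgroup.normal_subgroupOf_iff_le_normalizer hYK).2 hKY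
  have hnil : Group.IsNilpotent (Y.subgroupOf K) := by
    haveI := hYnil
    exact Group.nilpotent_of_mulEquiv (Subgroup.subgroupOfEquivOfLe hYK).symm
  haveI : Fact (Nat.card B).Prime := ⟨hBp⟩
  have hfpf : ∀ h ∈ B.subgroupOf K, h ≠ 1 → ∀ f ∈ Y.subgroupOf K, h * f * h⁻¹ = f → f = 1 := by
    intro h hh hh1 f hf hcomm
    rw [Subgroup.mem_subgroupOf] at hh hf
    have hcomm' : (h : Γ) * f * (h : Γ)⁻¹ = f := congrArg Subtype.val hcomm
    have hb1 : (⟨(h : Γ), hh⟩ : B) ≠ 1 := by
      intro h1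
      apply hh1
      apply Subtype.ext
      have := congrArg Subtype.val h1
      exact this
    have hgen := zpowers_eq_top_of_prime_card (G := B) (p := Nat.card B) rfl hb1
    have hfC : (f : Γ) ∈ Subgroup.centralizer (B : Set Γ) := by
      rw [Subgroup.mem_centralizer_iff]
      intro b hb
      have hbz : (⟨b, hb⟩ : B) ∈ Subgroup.zpowers (⟨(h : Γ), hh⟩ : B) := by
        rw [hgen]; exact Subgroup.mem_top _
      obtain ⟨k, hk⟩ := Subgroup.mem_zpowers_iff.1 hbz
      have hk' : (h : Γ) ^ k = b := by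
        have := congrArg Subtype.val hk
        simpa using this
      rw [← hk']
      have hc : Commute (h : Γ) (f : Γ) := by
        unfold Commute SemiconjBy
        rw [mul_inv_eq_iff_eq_mul] at hcomm'
        exact hcomm'
      exact (hc.zpow_left k).eq
    have hf1 : (f : Γ) ∈ Y ⊓ Subgroup.centralizer (B : Set Γ) := ⟨hf, hfC⟩
    rw [hCY, Subgroup.mem_bot] at hf1
    exact Subtype.ext hf1
  have hFH : Y.subgroupOf K ⊔ B.subgroupOf K = ⊤ := by
    rw [← Subgroup.subgroupOf_sup hYK hBK, ← hKdef, Subgroup.subgroupOf_self]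
  have hcopK : (Nat.card K).Coprime (Nat.card R) := by
    have h1 := Cfsg.Agent.Helper1.card_sup_mul_card_inf hBY
    have h2 : Nat.card K ∣ Nat.card Y * Nat.card B := by
      rw [hKdef, ← h1]; exact Dvd.intro _ rfl
    exact Nat.Coprime.coprime_dvd_left h2 hcop
  have hformula := card_fix_formula (Y.subgroupOf K) (B.subgroupOf K) hnil hfpf hFH R
    (conjAct R K hKR) hRsolv hcopK
  have hfixH : fix (conjAct R K hKR) (B.subgroupOf K) = ⊥ := by
    rw [eq_bot_iff]
    intro r hr
    rw [mem_fix] at hr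
    have hrC : (r : Γ) ∈ Subgroup.centralizer (B : Set Γ) := by
      rw [Subgroup.mem_centralizer_iff]
      intro b hb
      have := hr ⟨b, hBK hb⟩ (by rw [Subgroup.mem_subgroupOf]; exact hb)
      have h2 := congrArg Subtype.val this
      rw [conjAct_apply] at h2
      change b * (r : Γ) * b⁻¹ = r at h2
      rw [mul_inv_eq_iff_eq_mul] at h2
      exact h2
    have : (r : Γ) ∈ R ⊓ Subgroup.centralizer (B : Set Γ) := ⟨r.2, hrC⟩
    rw [hCR, Subgroup.mem_bot] at this
    rw [Subgroup.mem_bot]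
    exact Subtype.ext this
  rw [hfixH, Subgroup.card_bot, one_pow, one_mul] at hformula
  have hfixF : fix (conjAct R K hKR) (Y.subgroupOf K) = ⊤ := by
    rw [← Subgroup.card_eq_iff_eq_top]
    apply le_antisymm (Subgroup.card_le_card_group _)
    rw [← hformula]
    exact Nat.le_mul_of_pos_left _ (pow_pos Nat.card_pos _)
  intro y hy
  rw [Subgroup.mem_centralizer_iff]
  intro r hr
  have hmem : (⟨r, hr⟩ : R) ∈ fix (conjAct R K hKR) (Y.subgroupOf K) := by
    rw [hfixF]; exact Subgroup.mem_top _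
  rw [mem_fix] at hmem
  have := hmem ⟨y, hYK hy⟩ (by rw [Subgroup.mem_subgroupOf]; exact hy)
  have h2 := congrArg Subtype.val this
  rw [conjAct_apply] at h2
  change y * r * y⁻¹ = r at h2
  rw [mul_inv_eq_iff_eq_mul] at h2
  exact h2.symm

/-- **(G2)**, prime-power form: `Y` a `q`-group, `B` of prime order `p` normalizing `Y` with
`C_Y(B) = 1`, `R` an `s`-group (`s ≠ q, p`) normalized by `Y` and `B` with `C_R(B) = 1`.
Then `[R, Y] = 1`. -/
theorem commutator_eq_bot_of_frobenius [Finite Γ] {q p s : ℕ} [hq : Fact q.Prime]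
    [hp : Fact p.Prime] [hs : Fact s.Prime] (hsq : s ≠ q) (hsp : s ≠ p) (Y B R : Subgroup Γ)
    (hY : IsPGroup q Y) (hB : Nat.card B = p) (hR : IsPGroup s R)
    (hBY : B ≤ Subgroup.normalizer (Y : Set Γ))
    (hCY : Y ⊓ Subgroup.centralizer (B : Set Γ) = ⊥)
    (hYR : Y ≤ Subgroup.normalizer (R : Set Γ)) (hBR : B ≤ Subgroup.normalizer (R : Set Γ))
    (hCR : R ⊓ Subgroup.centralizer (B : Set Γ) = ⊥) :
    ⁅R, Y⁆ = ⊥ := by
  have hYnil : Group.IsNilpotent Y := hY.isNilpotent
  haveI hRnil : Group.IsNilpotent R := hR.isNilpotent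
  have hRsolv : Group.IsSolvable R := inferInstance
  obtain ⟨a, ha⟩ := IsPGroup.iff_card.1 hY
  obtain ⟨c, hc⟩ := IsPGroup.iff_card.1 hR
  have hcop : (Nat.card Y * Nat.card B).Coprime (Nat.card R) := by
    rw [ha, hB, hc]
    apply Nat.Coprime.pow_right
    apply Nat.Coprime.mul_left
    · apply Nat.Coprime.pow_left
      exact (Nat.coprime_primes hq.out hs.out).2 (Ne.symm hsq)
    · exact (Nat.coprime_primes hp.out hs.out).2 (Ne.symm hsp)
  have h := le_centralizer_of_frobenius Y B R hYnil (hB ▸ hp.out) hBY hCY hYR hBR hRsolv hcop hCR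
  rw [Subgroup.commutator_eq_bot_iff_le_centralizer]
  intro r hr
  rw [Subgroup.mem_centralizer_iff]
  intro y hy
  have := (Subgroup.mem_centralizer_iff.1 (h hy)) r hr
  exact this.symm

end Cfsg.Agent.Helper3.FrobG2
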