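import Mathlib
import Cfsg.Agent.Helper3.FrobActA

set_option autoImplicit false

/-!
Abstract actions `φ : G →* MulAut M`: the commutator subgroup `[M, G]`, its behaviour under
quotients, and the fact that for a coprime action with `[M, G] = M` the fixed points lie in every
invariant normal subgroup with abelian quotient.
-/

namespace Cfsg.Agent.Helper3.MetaAct

open Cfsg.Agent.Helper3.FrobActA
open scoped BigOperators commutatorElement

universe u v

variable {G : Type u} [Group G] {M : Type v} [Group M]

/-- `[M, G]` for an abstract action. -/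
def commSub (φ : G →* MulAut M) : Subgroup M :=
  Subgroup.closure {m | ∃ (g : G) (x : M), m = x * (φ g x)⁻¹}

theorem mem_commSub (φ : G →* MulAut M) (g : G) (x : M) : x * (φ g x)⁻¹ ∈ commSub φ :=
  Subgroup.subset_closure ⟨g, x, rfl⟩

theorem commSub_le {φ : G →* MulAut M} {L : Subgroup M} (h : ∀ g x, x * (φ g x)⁻¹ ∈ L) :
    commSub φ ≤ L := by
  unfold commSub
  rw [Subgroup.closure_le]
  rintro _ ⟨g, x, rfl⟩
  exact h g x

theorem commSub_quot (φ : G →* MulAut M) (N : Subgroup M) [N.Normal] (hN : Inv φ N)
    (h : commSub φ = ⊤) : commSub (quotAct φ N hN) = ⊤ := by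
  rw [eq_top_iff]
  intro q _
  induction q using QuotientGroup.induction_on with
  | H m =>
    have hm : m ∈ commSub φ := by rw [h]; exact Subgroup.mem_top m
    have hle : commSub φ ≤ (commSub (quotAct φ N hN)).comap (QuotientGroup.mk' N) := by
      apply commSub_le
      intro g x
      rw [Subgroup.mem_comap]
      have := mem_commSub (quotAct φ N hN) g (x : M ⧸ N)
      rw [quotAct_mk] at this
      simpa using this
    exact hle hm

/-- For a coprime action with `[M, G] = M`, fixed points lie in every invariant normal subgroup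
with abelian quotient. -/
theorem fix_le_of_commSub_top [Finite G] [Finite M] (φ : G →* MulAut M) (D : Subgroup M)
    [D.Normal] (hab : ∀ x y : M, ⁅x, y⁆ ∈ D)
    (hcop : (Nat.card G).Coprime (Nat.card M)) (htop : commSub φ = ⊤) :
    fix φ ⊤ ≤ D := by
  classical
  cases nonempty_fintype G
  let _ : CommGroup (M ⧸ D) :=
    { (inferInstance : Group (M ⧸ D)) with
      mul_comm := fun a b => by
        induction a using QuotientGroup.induction_on with
        | H a =>
          induction b using QuotientGroup.induction_on with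
          | H b =>
            have h1 : ((⁅a, b⁆ : M) : M ⧸ D) = 1 := (QuotientGroup.eq_one_iff _).mpr (hab a b)
            rw [commutatorElement_def] at h1
            simp only [QuotientGroup.mk_mul, QuotientGroup.mk_inv] at h1
            calc (a : M ⧸ D) * b = ((a : M ⧸ D) * b * (a : M ⧸ D)⁻¹ * (b : M ⧸ D)⁻¹) * (b * a) := by
                  group
              _ = b * a := by rw [h1, one_mul] }
  let ν : M →* M ⧸ D := ∏ g : G, (QuotientGroup.mk' D).comp ((φ g : M ≃* M) : M →* M)
  have hν : ∀ x : M, ν x = ∏ g : G, ((φ g x : M) : M ⧸ D) := by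
    intro x
    change (∏ g : G, (QuotientGroup.mk' D).comp ((φ g : M ≃* M) : M →* M)) x = _
    rw [MonoidHom.finsetProd_apply]
    rfl
  have hνφ : ∀ (h : G) (x : M), ν (φ h x) = ν x := by
    intro h x
    rw [hν, hν]
    apply Fintype.prod_equiv (Equiv.mulRight h)
    intro g
    change ((φ g (φ h x) : M) : M ⧸ D) = ((φ (g * h) x : M) : M ⧸ D)
    rw [map_mul]; rfl
  have hker : commSub φ ≤ ν.ker := by
    apply commSub_le
    intro g x
    rw [MonoidHom.mem_ker, map_mul, map_inv, hνφ, mul_inv_cancel]
  intro m hm
  have hm1 : ν m = 1 := by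
    have : m ∈ commSub φ := by rw [htop]; exact Subgroup.mem_top m
    exact hker this
  have hm2 : ν m = (m : M ⧸ D) ^ Nat.card G := by
    rw [hν]
    have : ∀ g : G, ((φ g m : M) : M ⧸ D) = (m : M ⧸ D) := by
      intro g
      rw [hm g (Subgroup.mem_top g)]
    rw [Finset.prod_congr rfl (fun g _ => this g), Finset.prod_const, Finset.card_univ,
      Nat.card_eq_fintype_card]
  have hm3 : (m : M ⧸ D) ^ Nat.card M = 1 := by
    rw [← QuotientGroup.mk_pow, pow_card_eq_one']
    rfl
  have hm4 : (m : M ⧸ D) ^ Nat.gcd (Nat.card G) (Nat.card M) = 1 :=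
    pow_gcd_eq_one.mpr ⟨by rw [← hm2]; exact hm1, hm3⟩
  rw [hcop, pow_one] at hm4
  exact (QuotientGroup.eq_one_iff m).mp hm4

end Cfsg.Agent.Helper3.MetaAct
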