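import Mathlib
import Cfsg.Agent.Helper1.Class2

set_option autoImplicit false

/-!
General lemmas for the metacyclic coprime-action theorem: generation in groups of order `p²`,
commutator calculus in class two, the `p`-power endomorphisms.
-/

namespace Cfsg.Agent.Helper3.MetaAct

open scoped commutatorElement

universe v

variable {M : Type v} [Group M]

/-- Structure of a group of order `p²` relative to a proper nontrivial subgroup. -/
theorem gen_of_card_sq {V : Type*} [Group V] [Finite V] {p : ℕ} [hp : Fact p.Prime]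
    (hV : Nat.card V = p ^ 2) (S : Subgroup V) {x y : V} (hx : x ∈ S) (hx1 : x ≠ 1) (hy : y ∉ S) :
    (∀ s ∈ S, ∃ j : ℕ, s = x ^ j) ∧ (∀ v : V, ∃ i : ℕ, ∃ s ∈ S, v = y ^ i * s) := by
  have hcomm : ∀ a b : V, a * b = b * a := (IsPGroup.isMulCommutative_of_card_eq_prime_sq hV).is_comm.comm
  have hSdvd : Nat.card S ∣ p ^ 2 := hV ▸ Subgroup.card_subgroup_dvd_card S
  obtain ⟨i, hi, hSi⟩ := (Nat.dvd_prime_pow hp.out).mp hSdvd
  have hSp : Nat.card S = p := by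
    interval_cases i
    · exfalso; apply hx1
      rw [pow_zero] at hSi
      have hS : S = ⊥ := Subgroup.card_eq_one.mp hSi
      rw [hS, Subgroup.mem_bot] at hx
      exact hx
    · simpa using hSi
    · exfalso; apply hy
      have hS : S = ⊤ := (Subgroup.card_eq_iff_eq_top S).mp (hSi.trans hV.symm)
      rw [hS]; exact Subgroup.mem_top y
  constructor
  · intro s hs
    have h1 : (⟨x, hx⟩ : S) ≠ 1 := by
      intro h; apply hx1
      exact congrArg Subtype.val h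
    have h2 := mem_powers_of_prime_card (G := S) hSp (g := ⟨x, hx⟩) (g' := ⟨s, hs⟩) h1
    obtain ⟨j, hj⟩ := h2
    refine ⟨j, ?_⟩
    have h3 := congrArg Subtype.val hj
    simpa using h3.symm
  · have hSn : S.Normal := ⟨fun n hn g => by rw [hcomm g n, mul_inv_cancel_right]; exact hn⟩
    set T : Subgroup V := Subgroup.zpowers y ⊔ S with hT
    have hST : S ≤ T := le_sup_right
    have hyT : y ∈ T := (le_sup_left : Subgroup.zpowers y ≤ T) (Subgroup.mem_zpowers y)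
    have hTdvd : Nat.card T ∣ p ^ 2 := hV ▸ Subgroup.card_subgroup_dvd_card T
    obtain ⟨i', hi', hTi⟩ := (Nat.dvd_prime_pow hp.out).mp hTdvd
    have hSTd : Nat.card S ∣ Nat.card T := Subgroup.card_dvd_of_le hST
    have hTtop : T = ⊤ := by
      interval_cases i'
      · exfalso
        rw [hSp, hTi, pow_zero, Nat.dvd_one] at hSTd
        exact hp.out.one_lt.ne' hSTd
      · exfalso; apply hy
        have : S = T := Subgroup.eq_of_le_of_card_ge hST (by rw [hSp, hTi, pow_one])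
        rw [this]; exact hyT
      · exact (Subgroup.card_eq_iff_eq_top T).mp (hTi.trans hV.symm)
    intro v
    have hv : v ∈ ((Subgroup.zpowers y ⊔ S : Subgroup V) : Set V) := by
      rw [← hT, hTtop]; exact Subgroup.mem_top v
    rw [Subgroup.mul_normal] at hv
    obtain ⟨a, ha, s, hs, rfl⟩ := hv
    have ha' : a ∈ Submonoid.powers y := mem_powers_iff_mem_zpowers.mpr ha
    obtain ⟨n, rfl⟩ := ha'
    exact ⟨n, s, hs, rfl⟩

/-- Pull-back of `gen_of_card_sq` along a quotient of order `p²`. -/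
theorem gen_of_index_sq [Finite M] {p : ℕ} [hp : Fact p.Prime] (P : Subgroup M) [P.Normal]
    (hidx : Nat.card (M ⧸ P) = p ^ 2) (K : Subgroup M) (hPK : P ≤ K) {x y : M} (hx : x ∈ K)
    (hxP : x ∉ P) (hy : y ∉ K) :
    (∀ κ ∈ K, ∃ j : ℕ, ∃ c ∈ P, κ = x ^ j * c) ∧
      (∀ w : M, ∃ i : ℕ, ∃ κ ∈ K, w = y ^ i * κ) := by
  set S : Subgroup (M ⧸ P) := K.map (QuotientGroup.mk' P) with hS
  have hxS : (x : M ⧸ P) ∈ S := ⟨x, hx, rfl⟩
  have hx1 : (x : M ⧸ P) ≠ 1 := fun h => hxP ((QuotientGroup.eq_one_iff x).mp h)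
  have hyS : (y : M ⧸ P) ∉ S := by
    rintro ⟨κ, hκ, hκy⟩
    apply hy
    have h1 : κ⁻¹ * y ∈ P := QuotientGroup.eq.mp hκy
    have h2 : κ * (κ⁻¹ * y) ∈ K := K.mul_mem hκ (hPK h1)
    rwa [mul_inv_cancel_left] at h2
  obtain ⟨h1, h2⟩ := gen_of_card_sq hidx S hxS hx1 hyS
  constructor
  · intro κ hκ
    obtain ⟨j, hj⟩ := h1 (κ : M ⧸ P) ⟨κ, hκ, rfl⟩
    refine ⟨j, (x ^ j)⁻¹ * κ, ?_, by rw [mul_inv_cancel_left]⟩
    rw [← QuotientGroup.mk_pow] at hj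
    exact QuotientGroup.eq.mp hj.symm
  · intro w
    obtain ⟨i, s, ⟨κ, hκ, rfl⟩, hw⟩ := h2 (w : M ⧸ P)
    have h3 : (w : M ⧸ P) = ((y ^ i * κ : M) : M ⧸ P) := by
      rw [hw]; rfl
    have h4 : (y ^ i * κ)⁻¹ * w ∈ P := QuotientGroup.eq.mp h3.symm
    refine ⟨i, κ * ((y ^ i * κ)⁻¹ * w), K.mul_mem hκ (hPK h4), ?_⟩
    group

/-- A subgroup containing all commutators is normal. -/
theorem normal_of_commutator_mem (L : Subgroup M) (h : ∀ x y : M, ⁅x, y⁆ ∈ L) : L.Normal := by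
  refine ⟨fun n hn g => ?_⟩
  have : g * n * g⁻¹ = ⁅g, n⁆ * n := by rw [commutatorElement_def]; group
  rw [this]
  exact L.mul_mem (h g n) hn

section class2

variable (hcen : ∀ x y z : M, Commute ⁅x, y⁆ z)
include hcen

theorem comm_pow_pow (x y : M) (a b : ℕ) : ⁅x ^ a, y ^ b⁆ = ⁅x, y⁆ ^ (a * b) := by
  have h1 : ⁅x ^ a, y ^ b⁆ = ⁅x, y ^ b⁆ ^ a :=
    Cfsg.Agent.Helper1.commutator_pow_left_of_central (hcen x (y ^ b)) a
  have h2 : ⁅y ^ b, x⁆ = ⁅y, x⁆ ^ b :=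
    Cfsg.Agent.Helper1.commutator_pow_left_of_central (hcen y x) b
  have h3 : ⁅x, y ^ b⁆ = ⁅x, y⁆ ^ b := by
    rw [← commutatorElement_inv, h2, ← inv_pow, commutatorElement_inv]
  rw [h1, h3, ← pow_mul, mul_comm]

/-- The determinant-type relation. -/
theorem comm_mul_central (x y c κ : M) (a b : ℕ) (hc : ∀ z : M, Commute c z) (hκ : Commute κ x) :
    ⁅x ^ a * c, y ^ b * κ⁆ = ⁅x, y⁆ ^ (a * b) := by
  rw [← comm_pow_pow hcen x y a b]
  have h1 : κ * (x ^ a)⁻¹ = (x ^ a)⁻¹ * κ := ((hκ.pow_right a).inv_right).eq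
  have h2 : ∀ z : M, c * z = z * c := fun z => (hc z).eq
  rw [commutatorElement_def, commutatorElement_def]
  calc x ^ a * c * (y ^ b * κ) * (x ^ a * c)⁻¹ * (y ^ b * κ)⁻¹
      = x ^ a * (c * (y ^ b * κ * c⁻¹)) * (x ^ a)⁻¹ * κ⁻¹ * (y ^ b)⁻¹ := by group
    _ = x ^ a * (y ^ b * κ * c⁻¹ * c) * (x ^ a)⁻¹ * κ⁻¹ * (y ^ b)⁻¹ := by rw [h2]
    _ = x ^ a * y ^ b * (κ * (x ^ a)⁻¹) * κ⁻¹ * (y ^ b)⁻¹ := by group
    _ = x ^ a * y ^ b * (x ^ a)⁻¹ * (y ^ b)⁻¹ := by rw [h1]; group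

theorem mul_pow_p {p : ℕ} [hp : Fact p.Prime] (hp2 : p ≠ 2) (hexp : ∀ x y : M, ⁅x, y⁆ ^ p = 1)
    (x y : M) : (x * y) ^ p = x ^ p * y ^ p := by
  have hyx : y * x = ⁅y, x⁆ * x * y := by simp [commutatorElement_def]
  rw [Cfsg.Agent.Helper1.mul_pow_of_central (hcen y x) hyx p]
  have h3 : 2 < p := lt_of_le_of_ne hp.out.two_le (Ne.symm hp2)
  obtain ⟨t, ht⟩ := hp.out.dvd_choose_self (by norm_num : (2 : ℕ) ≠ 0) h3
  rw [ht, pow_mul, hexp, one_pow, mul_one]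

theorem mul_pow_pk {p : ℕ} [hp : Fact p.Prime] (hp2 : p ≠ 2) (hexp : ∀ x y : M, ⁅x, y⁆ ^ p = 1)
    (k : ℕ) (x y : M) : (x * y) ^ (p ^ k) = x ^ (p ^ k) * y ^ (p ^ k) := by
  induction k with
  | zero => simp
  | succ k ih =>
    rw [pow_succ, pow_mul, pow_mul, pow_mul, ih, mul_pow_p hcen hp2 hexp]

/-- `p`-th powers are central. -/
theorem pow_p_central {p : ℕ} (hexp : ∀ x y : M, ⁅x, y⁆ ^ p = 1) (x z : M) :
    Commute (x ^ p) z := by
  rw [← commutatorElement_eq_one_iff_commute]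
  have := comm_pow_pow hcen x z p 1
  rw [pow_one, mul_one, hexp] at this
  exact this

end class2

/-- the `p^k`-th power endomorphism in class two (odd `p`, derived group of exponent `p`). -/
def pwk {p : ℕ} [hp : Fact p.Prime] (hp2 : p ≠ 2) (hcen : ∀ x y z : M, Commute ⁅x, y⁆ z)
    (hexp : ∀ x y : M, ⁅x, y⁆ ^ p = 1) (k : ℕ) : M →* M where
  toFun x := x ^ (p ^ k)
  map_one' := one_pow _
  map_mul' x y := mul_pow_pk hcen hp2 hexp k x y

@[simp] theorem pwk_apply {p : ℕ} [hp : Fact p.Prime] (hp2 : p ≠ 2)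
    (hcen : ∀ x y z : M, Commute ⁅x, y⁆ z) (hexp : ∀ x y : M, ⁅x, y⁆ ^ p = 1) (k : ℕ) (x : M) :
    pwk hp2 hcen hexp k x = x ^ (p ^ k) := rfl

/-- arithmetic: `w ≠ 1`, `w ^ p = 1`, `w ^ a = w ^ (a * b)` or so, `p ∤ a` give `b ≡ 1`. -/
theorem modEq_one_of_pow_eq {p : ℕ} [hp : Fact p.Prime] {w : M} (hw1 : w ≠ 1) (hwp : w ^ p = 1)
    {a b : ℕ} (h : w ^ a = w ^ (a * b)) (ha : ¬ p ∣ a) : b ≡ 1 [MOD p] := by
  have hord : orderOf w = p := orderOf_eq_prime hwp hw1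
  have h1 : a ≡ a * b [MOD p] := by
    rw [← hord]; exact pow_eq_pow_iff_modEq.mp h
  have h2 : a * 1 ≡ a * b [MOD p] := by rwa [mul_one]
  have hcop : Nat.gcd p a = 1 := (Nat.Prime.coprime_iff_not_dvd hp.out).mpr ha
  exact (Nat.ModEq.cancel_left_of_coprime hcop h2).symm

/-- if `b ≡ 1 [MOD p]` then `x ^ b = x * (x ^ p) ^ t`. -/
theorem pow_eq_mul_of_modEq_one {p : ℕ} [hp : Fact p.Prime] {b : ℕ} (hb : b ≡ 1 [MOD p]) (x : M) :
    ∃ t : ℕ, x ^ b = x * (x ^ p) ^ t := by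
  refine ⟨b / p, ?_⟩
  have h1 : b % p = 1 := by
    have := hb
    unfold Nat.ModEq at this
    rw [this, Nat.mod_eq_of_lt hp.out.one_lt]
  have h2 : b = 1 + p * (b / p) := by
    have := Nat.mod_add_div b p
    omega
  conv_lhs => rw [h2]
  rw [pow_add, pow_one, pow_mul]

end Cfsg.Agent.Helper3.MetaAct
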