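import Mathlib
import Cfsg.Prelude.Def_OddOrderLocal
import Cfsg.Agent.Helper3.MetaActA
import Cfsg.Agent.Helper3.MetaActB
import Cfsg.Agent.Helper5.Meta2E

set_option autoImplicit false

/-!
The class-two core of the metacyclic coprime-action theorem: a metacyclic `p`-group (`p` odd) of
class two with derived group of exponent `p`, admitting a coprime action with `[M, G] = M`, is
abelian.
-/

namespace Cfsg.Agent.Helper3.MetaAct

open Cfsg.Agent.Helper3.FrobActA
open scoped commutatorElement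

universe u v

variable {G : Type u} [Group G] {M : Type v} [Group M]

/-- common step of the two cases -/
theorem step [Finite M] {p : ℕ} [hp : Fact p.Prime] (hcen : ∀ x y z : M, Commute ⁅x, y⁆ z)
    (P : Subgroup M) [P.Normal] (hPc : ∀ c ∈ P, ∀ z : M, Commute c z)
    (hidx : Nat.card (M ⧸ P) = p ^ 2) (K : Subgroup M) (hPK : P ≤ K) {x y : M} (hx : x ∈ K)
    (hxP : x ∉ P) (hy : y ∉ K) (hnab : ¬ ∀ a b : M, a * b = b * a) :
    ⁅x, y⁆ ≠ 1 ∧ ∀ (σ : M ≃* M) (a' b' : ℕ) (c κ : M), c ∈ P → κ ∈ K → σ x = x ^ a' * c →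
      σ y = y ^ b' * κ → σ ⁅x, y⁆ = ⁅x, y⁆ ^ (a' * b') := by
  obtain ⟨E1, E2⟩ := gen_of_index_sq P hidx K hPK hx hxP hy
  have hKx : ∀ κ ∈ K, Commute κ x := by
    intro κ hκ
    obtain ⟨j, c, hc, rfl⟩ := E1 κ hκ
    exact ((Commute.refl x).pow_left j).mul_left (hPc c hc x)
  constructor
  · intro h1
    apply hnab
    have hxy : Commute x y := commutatorElement_eq_one_iff_commute.mp h1
    have hform : ∀ w : M, ∃ (i j : ℕ) (c : M), c ∈ P ∧ w = y ^ i * (x ^ j * c) := by
      intro w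
      obtain ⟨i, κ, hκ, rfl⟩ := E2 w
      obtain ⟨j, c, hc, rfl⟩ := E1 κ hκ
      exact ⟨i, j, c, hc, rfl⟩
    intro w₁ w₂
    obtain ⟨i₁, j₁, c₁, hc₁, rfl⟩ := hform w₁
    obtain ⟨i₂, j₂, c₂, hc₂, rfl⟩ := hform w₂
    have hyy : Commute (y ^ i₁) (y ^ i₂) := (Commute.refl y).pow_pow i₁ i₂
    have hxx : Commute (x ^ j₁) (x ^ j₂) := (Commute.refl x).pow_pow j₁ j₂
    have hyx : Commute (y ^ i₁) (x ^ j₂) := hxy.symm.pow_pow i₁ j₂
    have hxy' : Commute (x ^ j₁) (y ^ i₂) := hxy.pow_pow j₁ i₂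
    have A1 : Commute (y ^ i₁) (y ^ i₂ * (x ^ j₂ * c₂)) :=
      hyy.mul_right (hyx.mul_right (hPc c₂ hc₂ _).symm)
    have A2 : Commute (x ^ j₁ * c₁) (y ^ i₂ * (x ^ j₂ * c₂)) := by
      apply Commute.mul_left
      · exact hxy'.mul_right (hxx.mul_right (hPc c₂ hc₂ _).symm)
      · exact hPc c₁ hc₁ _
    exact (A1.mul_left A2).eq
  · intro σ a' b' c κ hc hκ hσx hσy
    rw [map_commutatorElement, hσx, hσy]
    exact comm_mul_central hcen x y c κ a' b' (hPc c hc) (hKx κ hκ)

section core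

variable [Finite G] [Finite M] {p : ℕ} [hp : Fact p.Prime]

theorem core2 (hp2 : p ≠ 2) (hcen : ∀ x y z : M, Commute ⁅x, y⁆ z)
    (hexp : ∀ x y : M, ⁅x, y⁆ ^ p = 1) (hM : IsPGroup p M) (hm : Cfsg.IsMetacyclic M)
    (φ : G →* MulAut M) (hcop : (Nat.card G).Coprime p) (htop : commSub φ = ⊤) :
    ∀ a b : M, a * b = b * a := by
  classical
  by_contra hnab
  -- the subgroups of `p^k`-th powers
  have hmemPk : ∀ (k : ℕ) (m : M), m ∈ (pwk hp2 hcen hexp k).range ↔ ∃ x : M, x ^ (p ^ k) = m := by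
    intro k m
    rw [MonoidHom.mem_range]
    rfl
  set P₁ : Subgroup M := (pwk hp2 hcen hexp 1).range with hP₁
  have hmemP : ∀ m : M, m ∈ P₁ ↔ ∃ x : M, x ^ p = m := by
    intro m
    rw [hP₁, hmemPk, pow_one]
  have hpowP : ∀ x : M, x ^ p ∈ P₁ := fun x => (hmemP _).mpr ⟨x, rfl⟩
  have hPc : ∀ c ∈ P₁, ∀ z : M, Commute c z := by
    intro c hc z
    obtain ⟨x, rfl⟩ := (hmemP c).mp hc
    exact pow_p_central hcen hexp x z
  have hPn : P₁.Normal := ⟨fun n hn g => by
    have : g * n * g⁻¹ = n := by rw [← (hPc n hn g).eq, mul_inv_cancel_right]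
    rw [this]; exact hn⟩
  have hPab : ∀ a ∈ P₁, ∀ b ∈ P₁, a * b = b * a := fun a ha b _ => (hPc a ha b).eq
  have hPinv : Inv φ P₁ := by
    intro g n hn
    obtain ⟨x, rfl⟩ := (hmemP n).mp hn
    rw [map_pow]
    exact hpowP _
  have hle2 : Nat.card (M ⧸ P₁) ≤ p ^ 2 :=
    Cfsg.Agent.Helper5.Meta2.index_le_sq_of_pow_mem hm P₁ p hp.out.pos hpowP
  have hncyc : ¬ IsCyclic (M ⧸ P₁) := by
    intro hc
    apply hnab
    have hker : (QuotientGroup.mk' P₁).ker ≤ Subgroup.center M := by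
      rw [QuotientGroup.ker_mk']
      intro c hc
      rw [Subgroup.mem_center_iff]
      intro z
      exact (hPc c hc z).eq.symm
    exact ((QuotientGroup.mk' P₁).isMulCommutative_of_isCyclic_of_ker_le_center hker).is_comm.comm
  have hidx : Nat.card (M ⧸ P₁) = p ^ 2 := by
    have hQp : IsPGroup p (M ⧸ P₁) := hM.to_quotient P₁
    obtain ⟨j, hj⟩ := (IsPGroup.iff_card).mp hQp
    have hj2 : j ≤ 2 := by
      by_contra h
      push Not at h
      have : p ^ 2 < p ^ j := Nat.pow_lt_pow_right hp.out.one_lt h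
      omega
    interval_cases j
    · exfalso; apply hncyc
      rw [pow_zero] at hj
      have : Subsingleton (M ⧸ P₁) := (Nat.card_eq_one_iff_unique.mp hj).1
      exact isCyclic_of_subsingleton
    · exfalso; apply hncyc
      exact isCyclic_of_prime_card (p := p) (by simpa using hj)
    · exact hj
  have hcommP : ∀ x y : M, ⁅x, y⁆ ∈ P₁ := by
    intro x y
    have hVc := (IsPGroup.isMulCommutative_of_card_eq_prime_sq hidx).is_comm.comm
    rw [← QuotientGroup.eq_one_iff, commutatorElement_def]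
    simp only [QuotientGroup.mk_mul, QuotientGroup.mk_inv]
    rw [hVc (x : M ⧸ P₁) y]
    group
  -- the derived group has order `p`
  obtain ⟨x₀, y₀, hxy₀⟩ : ∃ x₀ y₀ : M, x₀ * y₀ ≠ y₀ * x₀ := by
    push Not at hnab
    exact hnab
  set z₀ : M := ⁅x₀, y₀⁆ with hz₀
  have hz1 : z₀ ≠ 1 := by
    intro h
    exact hxy₀ (commutatorElement_eq_one_iff_mul_comm.mp h)
  have hzp : z₀ ^ p = 1 := hexp x₀ y₀
  have hzC : z₀ ∈ commutator M := by
    rw [commutator_eq_closure]
    exact Subgroup.subset_closure ⟨x₀, y₀, rfl⟩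
  have hCcen : ∀ c ∈ commutator M, ∀ z : M, Commute c z := by
    intro c hc z
    rw [commutator_eq_closure] at hc
    induction hc using Subgroup.closure_induction with
    | mem x hx =>
      obtain ⟨a, b, rfl⟩ := hx
      exact hcen a b z
    | one => exact Commute.one_left z
    | mul x y _ _ hx hy => exact hx.mul_left hy
    | inv x _ hx => exact hx.inv_left
  have hCexp : ∀ c ∈ commutator M, c ^ p = 1 := by
    intro c hc
    rw [commutator_eq_closure] at hc
    induction hc using Subgroup.closure_induction with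
    | mem x hx =>
      obtain ⟨a, b, rfl⟩ := hx
      exact hexp a b
    | one => exact one_pow p
    | mul x y hx' hy' hx hy =>
      have hx'' : x ∈ commutator M := by rw [commutator_eq_closure]; exact hx'
      rw [(hCcen x hx'' y).mul_pow, hx, hy, one_mul]
    | inv x _ hx => rw [inv_pow, hx, inv_one]
  have hCcyc : IsCyclic (commutator M) := Cfsg.Agent.Helper5.Meta2.isCyclic_commutator hm
  have hCcard : Nat.card (commutator M) = p := by
    have h1 : Monoid.exponent (commutator M) ∣ p := by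
      apply Monoid.exponent_dvd_of_forall_pow_eq_one
      intro c
      apply Subtype.ext
      rw [Subgroup.coe_pow, Subgroup.coe_one]
      exact hCexp c c.2
    rw [IsCyclic.exponent_eq_card] at h1
    rcases (Nat.dvd_prime hp.out).mp h1 with h | h
    · exfalso
      have := Subgroup.card_eq_one.mp h
      rw [this, Subgroup.mem_bot] at hzC
      exact hz1 hzC
    · exact h
  have hZ : ∀ w ∈ commutator M, ∃ e : ℕ, w = z₀ ^ e := by
    intro w hw
    have h1 : (⟨z₀, hzC⟩ : commutator M) ≠ 1 := by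
      intro h
      exact hz1 (congrArg Subtype.val h)
    obtain ⟨e, he⟩ := mem_powers_of_prime_card (G := commutator M) hCcard (g := ⟨z₀, hzC⟩)
      (g' := ⟨w, hw⟩) h1
    refine ⟨e, ?_⟩
    have := congrArg Subtype.val he
    simpa using this.symm
  have hcommC : ∀ x y : M, ⁅x, y⁆ ∈ commutator M := by
    intro x y
    rw [commutator_eq_closure]
    exact Subgroup.subset_closure ⟨x, y, rfl⟩
  -- the largest `k` with `z₀` a `p^k`-th power
  obtain ⟨N, hN⟩ := (IsPGroup.iff_card).mp hM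
  have hex : ∃ j, z₀ ∉ (pwk hp2 hcen hexp j).range := by
    refine ⟨N, ?_⟩
    rw [hmemPk]
    rintro ⟨x, hx⟩
    rw [← hN, pow_card_eq_one'] at hx
    exact hz1 hx.symm
  have hk'spec : z₀ ∉ (pwk hp2 hcen hexp (Nat.find hex)).range := Nat.find_spec hex
  have hk'min : ∀ j < Nat.find hex, z₀ ∈ (pwk hp2 hcen hexp j).range := by
    intro j hj
    by_contra h
    exact Nat.find_min hex hj h
  have hk0 : Nat.find hex ≠ 0 := by
    intro h
    apply hk'spec
    rw [h, hmemPk]
    exact ⟨z₀, by rw [pow_zero, pow_one]⟩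
  have hk1 : Nat.find hex ≠ 1 := by
    intro h
    apply hk'spec
    rw [h]
    exact hcommP x₀ y₀
  obtain ⟨k, hk⟩ : ∃ k, Nat.find hex = k + 1 := ⟨Nat.find hex - 1, by omega⟩
  have hk1' : 1 ≤ k := by omega
  have hzk : z₀ ∈ (pwk hp2 hcen hexp k).range := hk'min k (by omega)
  have hzk1 : z₀ ∉ (pwk hp2 hcen hexp (k + 1)).range := by rw [← hk]; exact hk'spec
  obtain ⟨u, hu⟩ := (hmemPk k z₀).mp hzk
  have huP : u ∉ P₁ := by
    intro h
    obtain ⟨v, rfl⟩ := (hmemP u).mp h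
    apply hzk1
    rw [hmemPk]
    exact ⟨v, by rw [← hu, ← pow_mul, ← pow_succ']⟩
  set Y : Subgroup M := (pwk hp2 hcen hexp (k + 1)).range with hY
  set ψ : M →* M := pwk hp2 hcen hexp k with hψ
  have hψa : ∀ x : M, ψ x = x ^ (p ^ k) := fun x => rfl
  set K : Subgroup M := Y.comap ψ with hK
  have hPK : P₁ ≤ K := by
    intro c hc
    obtain ⟨v, rfl⟩ := (hmemP c).mp hc
    rw [hK, Subgroup.mem_comap, hψa, hY, hmemPk]
    exact ⟨v, by rw [← pow_mul, ← pow_succ']⟩
  have huK : u ∉ K := by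
    rw [hK, Subgroup.mem_comap, hψa, hu]
    exact hzk1
  have hψφ : ∀ (g : G) (x : M), ψ (φ g x) = φ g (ψ x) := by
    intro g x
    rw [hψa, hψa, map_pow]
  have hYinv : ∀ (g : G), ∀ m ∈ Y, φ g m ∈ Y := by
    intro g m hm'
    rw [hY, hmemPk] at hm' ⊢
    obtain ⟨v, rfl⟩ := hm'
    exact ⟨φ g v, by rw [map_pow]⟩
  have hKinv : Inv φ K := by
    intro g x hx
    rw [hK, Subgroup.mem_comap] at hx ⊢
    rw [hψφ]
    exact hYinv g _ hx
  have hZY : ∀ e : ℕ, z₀ ^ e ∈ Y → z₀ ^ e = 1 := by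
    intro e he
    by_cases hpe : p ∣ e
    · obtain ⟨t, rfl⟩ := hpe
      rw [pow_mul, hzp, one_pow]
    · exfalso
      apply hzk1
      have hord : orderOf z₀ = p := orderOf_eq_prime hzp hz1
      have hcop' : e.Coprime (orderOf z₀) := by
        rw [hord]
        exact ((Nat.Prime.coprime_iff_not_dvd hp.out).mpr hpe).symm
      obtain ⟨m, hm'⟩ := exists_pow_eq_self_of_coprime hcop'
      rw [← hm']
      exact Y.pow_mem he m
  -- the action on `z₀` and on `u`
  have hg : ∀ g : G, ∃ a : ℕ, ¬ p ∣ a ∧ (∀ w ∈ commutator M, φ g w = w ^ a) ∧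
      ∃ κ ∈ K, φ g u = u ^ a * κ := by
    intro g
    have h1 : φ g z₀ ∈ commutator M := by
      rw [hz₀, map_commutatorElement]
      exact hcommC _ _
    obtain ⟨a, ha⟩ := hZ _ h1
    refine ⟨a, ?_, ?_, (u ^ a)⁻¹ * φ g u, ?_, by rw [mul_inv_cancel_left]⟩
    · rintro ⟨t, rfl⟩
      rw [pow_mul, hzp, one_pow] at ha
      apply hz1
      have : φ g z₀ = φ g 1 := by rw [ha, map_one]
      exact (φ g).injective this
    · intro w hw
      obtain ⟨e, rfl⟩ := hZ w hw
      rw [map_pow, ha, ← pow_mul, ← pow_mul, mul_comm]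
    · rw [hK, Subgroup.mem_comap, map_mul, map_inv, map_pow, hψφ, hψa u, hu, ha, inv_mul_cancel]
      exact Y.one_mem
  have hcopM : (Nat.card G).Coprime (Nat.card M) := by
    rw [hN]
    exact Nat.Coprime.pow_right N hcop
  by_cases hKP : K ≤ P₁
  · -- Case B
    set L : Subgroup M := Subgroup.zpowers u ⊔ P₁ with hL
    have hPL : P₁ ≤ L := le_sup_right
    have huL : u ∈ L := (le_sup_left : Subgroup.zpowers u ≤ L) (Subgroup.mem_zpowers u)
    have hLn : L.Normal := normal_of_commutator_mem L (fun x y => hPL (hcommP x y))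
    have hLtop : L ≠ ⊤ := by
      intro h
      apply hncyc
      refine ⟨⟨(u : M ⧸ P₁), fun q => ?_⟩⟩
      induction q using QuotientGroup.induction_on with
      | H w =>
        have hw : w ∈ ((Subgroup.zpowers u ⊔ P₁ : Subgroup M) : Set M) := by
          rw [← hL, h]; exact Subgroup.mem_top w
        rw [Subgroup.mul_normal] at hw
        obtain ⟨a, ⟨i, rfl⟩, c, hc, rfl⟩ := hw
        refine ⟨i, ?_⟩
        change (u : M ⧸ P₁) ^ i = ((u ^ i * c : M) : M ⧸ P₁)
        rw [QuotientGroup.mk_mul, QuotientGroup.mk_zpow, (QuotientGroup.eq_one_iff c).mpr hc,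
          mul_one]
    have key : ∀ y : M, y ∉ L → ∀ g : G, y * (φ g y)⁻¹ ∈ L := by
      intro y hyL g
      obtain ⟨E1, E2⟩ := gen_of_index_sq P₁ hidx L hPL huL huP hyL
      obtain ⟨hw1, hform⟩ := step hcen P₁ hPc hidx L hPL huL huP hyL hnab
      obtain ⟨a, hpa, hact, κ, hκ, hφu⟩ := hg g
      obtain ⟨b, l, hl, hφy⟩ := E2 (φ g y)
      have h1 := hform (φ g) a b κ l (hKP hκ) hl hφu hφy
      rw [hact _ (hcommC u y)] at h1
      have hb := modEq_one_of_pow_eq hw1 (hexp u y) h1 hpa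
      obtain ⟨t, ht⟩ := pow_eq_mul_of_modEq_one hb y
      rw [hφy, ht]
      have h2 : (y ^ p) ^ t * l ∈ L := L.mul_mem (L.pow_mem (hPL (hpowP y)) t) hl
      have h3 : y * (y * (y ^ p) ^ t * l)⁻¹ = y * ((y ^ p) ^ t * l)⁻¹ * y⁻¹ := by group
      rw [h3]
      exact hLn.conj_mem _ (L.inv_mem h2) y
    have hLinv : Inv φ L := by
      intro g l hl
      have hl' : l ∈ ((Subgroup.zpowers u ⊔ P₁ : Subgroup M) : Set M) := hl
      rw [Subgroup.mul_normal] at hl'
      obtain ⟨a', ⟨i, rfl⟩, c, hc, rfl⟩ := hl'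
      obtain ⟨a, _, _, κ, hκ, hφu⟩ := hg g
      rw [map_mul, map_zpow, hφu]
      exact L.mul_mem (L.zpow_mem (L.mul_mem (L.pow_mem huL a) (hPL (hKP hκ))) i)
        (hPL (hPinv g c hc))
    have hle : commSub φ ≤ L := by
      apply commSub_le
      intro g x
      by_cases hx : x ∈ L
      · exact L.mul_mem hx (L.inv_mem (hLinv g x hx))
      · exact key x hx g
    rw [htop] at hle
    exact hLtop (eq_top_iff.mpr hle)
  · -- Case A
    obtain ⟨x, hxK, hxP⟩ : ∃ x ∈ K, x ∉ P₁ := by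
      by_contra h
      push Not at h
      exact hKP h
    obtain ⟨E1, E2⟩ := gen_of_index_sq P₁ hidx K hPK hxK hxP huK
    obtain ⟨hw1, hform⟩ := step hcen P₁ hPc hidx K hPK hxK hxP huK hnab
    have hfixx : ∀ g ∈ (⊤ : Subgroup G), x⁻¹ * φ g x ∈ P₁ := by
      intro g _
      obtain ⟨a, hpa, hact, κ, hκ, hφu⟩ := hg g
      obtain ⟨a', c, hc, hφx⟩ := E1 (φ g x) (hKinv g x hxK)
      have h1 := hform (φ g) a' a c κ hc hκ hφx hφu
      rw [hact _ (hcommC x u), mul_comm a' a] at h1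
      have hb := modEq_one_of_pow_eq hw1 (hexp x u) h1 hpa
      obtain ⟨t, ht⟩ := pow_eq_mul_of_modEq_one hb x
      rw [hφx, ht]
      have h2 : x⁻¹ * (x * (x ^ p) ^ t * c) = (x ^ p) ^ t * c := by group
      rw [h2]
      exact P₁.mul_mem (P₁.pow_mem (hpowP x) t) hc
    have hcop1 : (Nat.card P₁).Coprime (Nat.card (⊤ : Subgroup G)) := by
      rw [Subgroup.card_top]
      exact (Nat.Coprime.coprime_dvd_right (Subgroup.card_subgroup_dvd_card P₁) hcopM).symm
    obtain ⟨c, hc, hfix⟩ := exists_fixed_mul φ ⊤ P₁ hPab hPinv hcop1 x hfixx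
    have hle := fix_le_of_commSub_top φ P₁ hcommP hcopM htop
    have hxc : x * c ∈ P₁ := hle hfix
    apply hxP
    have := P₁.mul_mem hxc (P₁.inv_mem hc)
    rwa [mul_inv_cancel_right] at this

end core

end Cfsg.Agent.Helper3.MetaAct
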