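import Mathlib
import Cfsg.Prelude.Def_OddOrderLocal
import Cfsg.Agent.Helper3.MetaActC
import Cfsg.Agent.Helper1.MetacyclicOmega
import Cfsg.Agent.Helper1.KWCondB

set_option autoImplicit false

/-!
A metacyclic `p`-group (`p` odd) admitting a coprime action with `[M, G] = M` is abelian.
-/

namespace Cfsg.Agent.Helper3.MetaAct

open Cfsg.Agent.Helper3.FrobActA
open scoped commutatorElement

universe u v

variable {G : Type u} [Group G]

theorem omega_aut {M : Type v} [Group M] (p : ℕ) (σ : M ≃* M) {n : M}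
    (hn : n ∈ Cfsg.omegaOne p (⊤ : Subgroup M)) : σ n ∈ Cfsg.omegaOne p (⊤ : Subgroup M) := by
  unfold Cfsg.omegaOne at hn ⊢
  induction hn using Subgroup.closure_induction with
  | mem x hx =>
    exact Subgroup.subset_closure ⟨Subgroup.mem_top _, by rw [← map_pow, hx.2, map_one]⟩
  | one => rw [map_one]; exact Subgroup.one_mem _
  | mul x y _ _ hx hy => rw [map_mul]; exact Subgroup.mul_mem _ hx hy
  | inv x _ hx => rw [map_inv]; exact Subgroup.inv_mem _ hx

theorem abelian_of_commSub_top_aux [Finite G] {p : ℕ} [hp : Fact p.Prime] (hp2 : p ≠ 2)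
    (hcop : (Nat.card G).Coprime p) :
    ∀ (n : ℕ) (M : Type v) [Group M] [Finite M] (φ : G →* MulAut M), Nat.card M = n →
      IsPGroup p M → Cfsg.IsMetacyclic M → commSub φ = ⊤ → ∀ a b : M, a * b = b * a := by
  intro n
  induction n using Nat.strong_induction_on with
  | _ n ih =>
  intro M _ _ φ hn hM hm htop
  by_contra hnab
  have hnc : ¬ IsCyclic M := fun h => hnab (fun a b => h.commGroup.mul_comm a b)
  obtain ⟨hΩea, hΩcard⟩ := Cfsg.Agent.Helper1.metacyclic_omega hp2 hM hm hnc
  set Ω : Subgroup M := Cfsg.omegaOne p (⊤ : Subgroup M) with hΩ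
  have hΩn : Ω.Normal := ⟨fun n hn g => by
    have := omega_aut p (MulAut.conj g) hn
    rwa [MulAut.conj_apply] at this⟩
  have hΩinv : Inv φ Ω := fun g n hn => omega_aut p (φ g) hn
  have hcardQ : Nat.card (M ⧸ Ω) < n := by
    have h1 : Nat.card (M ⧸ Ω) * Nat.card Ω = Nat.card M := by
      rw [← Subgroup.index_eq_card, Subgroup.index_mul_card]
    rw [hΩcard, hn] at h1
    have h2 : 1 < p ^ 2 := Nat.one_lt_pow (by norm_num) hp.out.one_lt
    have hpos : 0 < Nat.card (M ⧸ Ω) := Nat.card_pos
    nlinarith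
  have hQab := ih _ hcardQ (M ⧸ Ω) (quotAct φ Ω hΩinv) rfl (hM.to_quotient Ω)
    (Cfsg.Agent.Helper5.Meta2.isMetacyclic_quotient hm Ω) (commSub_quot φ Ω hΩinv htop)
  have hexp : ∀ x y : M, ⁅x, y⁆ ^ p = 1 := by
    intro x y
    apply hΩea.2
    rw [← QuotientGroup.eq_one_iff, commutatorElement_def]
    simp only [QuotientGroup.mk_mul, QuotientGroup.mk_inv]
    rw [hQab (x : M ⧸ Ω) y]
    group
  have hCcyc : IsCyclic (commutator M) := Cfsg.Agent.Helper5.Meta2.isCyclic_commutator hm
  have hCcomm : ∀ a b : commutator M, a * b = b * a := fun a b => hCcyc.commGroup.mul_comm a b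
  have hCexp : ∀ c ∈ commutator M, c ^ p = 1 := by
    intro c hc
    rw [commutator_eq_closure] at hc
    induction hc using Subgroup.closure_induction with
    | mem x hx =>
      obtain ⟨a, b, rfl⟩ := hx
      exact hexp a b
    | one => exact one_pow p
    | mul x y hx' hy' hx hy =>
      have hx'' : x ∈ commutator M := by rw [commutator_eq_closure]; exact hx'
      have hy'' : y ∈ commutator M := by rw [commutator_eq_closure]; exact hy'
      have hxy : Commute x y := congrArg Subtype.val (hCcomm ⟨x, hx''⟩ ⟨y, hy''⟩)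
      rw [hxy.mul_pow, hx, hy, one_mul]
    | inv x _ hx => rw [inv_pow, hx, inv_one]
  obtain ⟨x₀, y₀, hxy₀⟩ : ∃ x₀ y₀ : M, x₀ * y₀ ≠ y₀ * x₀ := by
    push Not at hnab
    exact hnab
  have hz1 : ⁅x₀, y₀⁆ ≠ 1 := by
    intro h
    exact hxy₀ (commutatorElement_eq_one_iff_mul_comm.mp h)
  have hcommC : ∀ x y : M, ⁅x, y⁆ ∈ commutator M := by
    intro x y
    rw [commutator_eq_closure]
    exact Subgroup.subset_closure ⟨x, y, rfl⟩
  have hCne : commutator M ≠ ⊥ := by
    intro h
    have := hcommC x₀ y₀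
    rw [h, Subgroup.mem_bot] at this
    exact hz1 this
  have hCcard : Nat.card (commutator M) = p := by
    have h1 : Monoid.exponent (commutator M) ∣ p := by
      apply Monoid.exponent_dvd_of_forall_pow_eq_one
      intro c
      apply Subtype.ext
      rw [Subgroup.coe_pow, Subgroup.coe_one]
      exact hCexp c c.2
    rw [IsCyclic.exponent_eq_card] at h1
    rcases (Nat.dvd_prime hp.out).mp h1 with h | h
    · exact absurd (Subgroup.card_eq_one.mp h) hCne
    · exact h
  obtain ⟨b, hbC, hb1, hbcen⟩ :=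
    Cfsg.Agent.Helper1.KWCond.normal_inf_center_ne_bot hM (commutator M) hCne
  have hcen : ∀ x y z : M, Commute ⁅x, y⁆ z := by
    intro x y z
    have h1 : (⟨b, hbC⟩ : commutator M) ≠ 1 := by
      intro h
      exact hb1 (congrArg Subtype.val h)
    obtain ⟨e, he⟩ := mem_powers_of_prime_card (G := commutator M) hCcard (g := ⟨b, hbC⟩)
      (g' := ⟨⁅x, y⁆, hcommC x y⟩) h1
    have h2 : ⁅x, y⁆ = b ^ e := by
      have := congrArg Subtype.val he
      simpa using this.symm
    rw [h2]
    have h3 : Commute b z := (hbcen z).symm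
    exact h3.pow_left e
  exact hnab (core2 hp2 hcen hexp hM hm φ hcop htop)

/-- A metacyclic `p`-group (`p` odd) with a coprime action such that `[M, G] = M` is abelian. -/
theorem abelian_of_commSub_top [Finite G] {M : Type v} [Group M] [Finite M] {p : ℕ}
    [hp : Fact p.Prime] (hp2 : p ≠ 2) (hM : IsPGroup p M) (hm : Cfsg.IsMetacyclic M)
    (φ : G →* MulAut M) (hcop : (Nat.card G).Coprime p) (htop : commSub φ = ⊤) :
    ∀ a b : M, a * b = b * a :=
  abelian_of_commSub_top_aux hp2 hcop _ M φ rfl hM hm htop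

end Cfsg.Agent.Helper3.MetaAct
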