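import Mathlib
import Cfsg.Prelude
import Cfsg.Agent.Lead.BG124b
import Cfsg.Agent.S1403

set_option autoImplicit false
set_option linter.unusedSectionVars false
set_option linter.unusedVariables false

/-!
Step 2 of Bender–Glauberman Theorem 12.4(b): for `p ∈ α(M)` and `A ≤ M` elementary abelian of
order `p ^ 2`, some point `A₀` of `A` has `M` as the unique maximal subgroup containing `N(A₀)`.
-/

namespace Cfsg.Agent.Helper3.BGAlpha

open Cfsg Cfsg.Agent.Helper1 Cfsg.Agent.Helper2 Cfsg.Agent.Helper1.BGT Cfsg.Agent.Helper1.BGU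
  Cfsg.Agent.Helper1.BGV Cfsg.Agent.Helper1.BGW Cfsg.Agent.Helper1.BGX Cfsg.Agent.Lead.BG12
open scoped commutatorElement Pointwise

universe u

variable {G : Type u} [Group G] [Finite G]

/-- an elementary abelian `p`-subgroup is a `p`-group -/
theorem isPGroup_of_elementary {p : ℕ} {E : Subgroup G} (hE : Cfsg.IsElementaryAbelian p E) :
    IsPGroup p ↥E := by
  intro x
  refine ⟨1, ?_⟩
  apply Subtype.ext
  rw [pow_one]
  simpa using hE.2 (x : G) x.2

/-- the image of an elementary abelian subgroup under conjugation -/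
theorem elementary_map_conj {p : ℕ} {E : Subgroup G} (hE : Cfsg.IsElementaryAbelian p E) (m : G) :
    Cfsg.IsElementaryAbelian p (E.map (MulAut.conj m).toMonoidHom) := by
  constructor
  · refine ⟨⟨fun a b => ?_⟩⟩
    apply Subtype.ext
    obtain ⟨x, hx, hxa⟩ := a.2
    obtain ⟨y, hy, hyb⟩ := b.2
    have hxy : x * y = y * x := by
      have := hE.1.is_comm.comm ⟨x, hx⟩ ⟨y, hy⟩
      exact congrArg Subtype.val this
    show (a : G) * b = b * a
    rw [← hxa, ← hyb, ← map_mul, ← map_mul, hxy]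
  · rintro _ ⟨x, hx, rfl⟩
    rw [← map_pow, hE.2 x hx, map_one]

/-- uniqueness from a subgroup of `N(A₀)` lying in a unique maximal subgroup -/
theorem uniq_of_le_normalizer (hG : Cfsg.IsMinSimpleOddOrder G) {M X A₀ : Subgroup G}
    (hM : IsCoatom M) (hXM : X ≤ M) (hX : Cfsg.InUniqueMaximal X) (hA₀1 : A₀ ≠ ⊥)
    (hA₀top : A₀ ≠ ⊤) (hXN : X ≤ Subgroup.normalizer (A₀ : Set G)) :
    Subgroup.normalizer (A₀ : Set G) ≤ M ∧
      ∀ L : Subgroup G, IsCoatom L → Subgroup.normalizer (A₀ : Set G) ≤ L → L = M := by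
  have huniq : ∀ L : Subgroup G, IsCoatom L → X ≤ L → L = M :=
    fun L hL hXL => hX.unique ⟨hL, hXL⟩ ⟨hM, hXM⟩
  have hNtop := normalizer_ne_top_of_simple hG hA₀1 hA₀top
  obtain ⟨L, hL, hNL⟩ := exists_coatom_ge hNtop
  have hLM : L = M := huniq L hL (hXN.trans hNL)
  exact ⟨hLM ▸ hNL, fun L' hL' hNL' => huniq L' hL' (hXN.trans hNL')⟩

/-- **Step 2 of BG 12.4(b)**: uniqueness for `p ∈ α(M)`. -/
theorem hypAlpha (hG : Cfsg.IsMinSimpleOddOrder G) : HypAlpha G := by
  intro M hM p hp A hAM hAe hAcard hpα hno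
  have hp1 := hp.out.one_lt
  obtain ⟨E, hEM, hEe, hEcard⟩ := hasEA_of_not_pRankLE hpα.2
  have hAp : IsPGroup p ↥A := IsPGroup.of_card hAcard
  obtain ⟨P, hAP, hPM, hPp, hPcard⟩ := Cfsg.Agent.Lead.exists_le_card_eq_ppart hAp hAM
  have hEp : IsPGroup p ↥E := isPGroup_of_elementary hEe
  obtain ⟨m, hm, hmE⟩ := Cfsg.Agent.Lead.exists_conj_le_of_card_eq_ppart hPM hPcard hEM hEp
  have hP3 : ¬ Cfsg.RankLE 2 ↥P := by
    intro h
    refine not_pRankLE_of_hasEA ⟨_, hmE, elementary_map_conj hEe m, ?_⟩ (h p hp.out)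
    rw [Cfsg.Agent.Lead.card_map_conj]
    exact hEcard
  have hP1 : ¬ Cfsg.RankLE 1 ↥P := by
    intro h
    refine not_pRankLE_of_hasEA ⟨A, hAP, hAe, ?_⟩ (h p hp.out)
    rw [hAcard, pow_one]
    nlinarith
  have hA1 : ¬ Cfsg.RankLE 1 ↥A := by
    intro h
    refine not_pRankLE_of_hasEA ⟨A, le_rfl, hAe, ?_⟩ (h p hp.out)
    rw [hAcard, pow_one]
    nlinarith
  have hPtop : P ≠ ⊤ := sylow_ne_top hG p P hPp
  have hAtop : A ≠ ⊤ := sylow_ne_top hG p A hAp
  have hPU := Cfsg.Agent.S1403.result hG P hPtop hP1 (Or.inl hP3)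
  have hAbot : A ≠ ⊥ := by
    intro h
    rw [h, Subgroup.card_bot] at hAcard
    have h2 : 1 < p ^ 2 := Nat.one_lt_pow (by norm_num) hp1
    omega
  have hPbot : P ≠ ⊥ := fun h => hAbot (le_bot_iff.1 (h ▸ hAP))
  obtain ⟨z, hz, hz1, hzp⟩ := exists_central_of_order hPp hPbot
  obtain ⟨hzP, hzC⟩ := Subgroup.mem_inf.1 hz
  have hzbot : Subgroup.zpowers z ≠ ⊥ := by
    intro h
    exact hz1 (Subgroup.zpowers_eq_bot.1 h)
  have hztop : Subgroup.zpowers z ≠ ⊤ :=
    sylow_ne_top hG p _ (isPGroup_of_elementary (Cfsg.Agent.Helper1.SCN3.elementary_zpowers hzp))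
  by_cases hzA : z ∈ A
  · -- `A₀ = ⟨z⟩`
    apply hno (Subgroup.zpowers z) (Subgroup.zpowers_le.2 hzA)
      (card_zpowers_of_mem_elementary hAe hzA hz1)
    apply uniq_of_le_normalizer hG hM hPM hPU hzbot hztop
    refine le_trans ?_ (Subgroup.centralizer_le_normalizer _)
    intro x hx
    refine Subgroup.mem_centralizer_iff.2 ?_
    intro y hy
    obtain ⟨k, rfl⟩ := Subgroup.mem_zpowers_iff.1 hy
    have h1 : x * z = z * x := Subgroup.mem_centralizer_iff.1 hzC x hx
    exact ((Commute.zpow_left (show Commute z x from h1.symm) k).eq)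
  · -- `A ⊔ ⟨z⟩ ≤ C(A)` has rank 3
    have hAcomm : A ≤ Subgroup.centralizer (A : Set G) := by
      intro a ha
      refine Subgroup.mem_centralizer_iff.2 ?_
      intro b hb
      exact isElementaryAbelian_commute hAe hb ha
    have hzCA : Subgroup.zpowers z ≤ Subgroup.centralizer (A : Set G) :=
      Subgroup.zpowers_le.2 (Subgroup.centralizer_le (SetLike.coe_subset_coe.mpr hAP) hzC)
    have hBe := Cfsg.Agent.Helper1.SCN3.elementary_sup_of_le_centralizer hAe
      (Cfsg.Agent.Helper1.SCN3.elementary_zpowers hzp) hzCA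
    have hlt : A < A ⊔ Subgroup.zpowers z := by
      refine lt_of_le_of_ne le_sup_left ?_
      intro h
      apply hzA
      rw [h]
      exact Subgroup.mem_sup_right (Subgroup.mem_zpowers z)
    have hcardlt : p ^ 2 < Nat.card ↥(A ⊔ Subgroup.zpowers z) := by
      rw [← hAcard]
      exact Cfsg.Agent.Lead.card_lt_of_lt hlt
    have hC3 : ¬ Cfsg.RankLE 2 ↥(Subgroup.centralizer (A : Set G)) := by
      intro h
      exact not_pRankLE_of_hasEA ⟨_, sup_le hAcomm hzCA, hBe, hcardlt⟩ (h p hp.out)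
    have hAU := Cfsg.Agent.S1403.result hG A hAtop hA1 (Or.inr hC3)
    obtain ⟨b, hb, hb1, hbA, hbc⟩ := exists_point_of_card_sq hAe hAcard
    apply hno (Subgroup.zpowers b) hbA hbc
    have hbbot : Subgroup.zpowers b ≠ ⊥ := by
      intro h
      exact hb1 (Subgroup.zpowers_eq_bot.1 h)
    have hbtop : Subgroup.zpowers b ≠ ⊤ :=
      sylow_ne_top hG p _ (hAp.to_le hbA)
    apply uniq_of_le_normalizer hG hM hAM hAU hbbot hbtop
    refine le_trans ?_ (Subgroup.centralizer_le_normalizer _)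
    exact hAcomm.trans (Subgroup.centralizer_le (SetLike.coe_subset_coe.mpr hbA))

end Cfsg.Agent.Helper3.BGAlpha
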