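import Mathlib
import Cfsg.Agent.Helper1.Coprime
import Cfsg.Agent.Helper1.Hall

set_option autoImplicit false

/-!
Wielandt's lemma: a minimal normal subgroup of a finite group normalizes every subnormal subgroup.
-/

namespace Cfsg.Agent.Helper3

open scoped Pointwise
open Cfsg.Agent.Helper1

universe u

/-- `A` is a minimal normal subgroup of `G`. -/
def IsMinNormal {G : Type*} [Group G] (A : Subgroup G) : Prop :=
  A.Normal ∧ A ≠ ⊥ ∧ ∀ B : Subgroup G, B.Normal → B ≤ A → B = ⊥ ∨ B = A

section

variable {G : Type u} [Group G]

theorem conj_smul_le_of_normal {H : Subgroup G} (hH : H.Normal) {B : Subgroup G} (hB : B ≤ H)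
    (g : G) : MulAut.conj g • B ≤ H := by
  intro x hx
  rw [Subgroup.mem_pointwise_smul_iff_inv_smul_mem, MulAut.smul_def, MulAut.conj_inv_apply] at hx
  have := hH.conj_mem _ (hB hx) g
  have e : g * (g⁻¹ * x * g) * g⁻¹ = x := by group
  rwa [e] at this

theorem normalizer_conj_smul (g : G) (B : Subgroup G) :
    Subgroup.normalizer ((MulAut.conj g • B : Subgroup G) : Set G) =
      MulAut.conj g • Subgroup.normalizer (B : Set G) := by
  ext x
  rw [Subgroup.mem_pointwise_smul_iff_inv_smul_mem, MulAut.smul_def, MulAut.conj_inv_apply]
  constructor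
  · intro hx
    apply mem_normalizer_of_conj_smul_eq
    have h1 := conj_smul_eq_of_mem_normalizer hx
    have : MulAut.conj (g⁻¹ * x * g) • B = MulAut.conj g⁻¹ • MulAut.conj x • MulAut.conj g • B := by
      rw [smul_smul, smul_smul, ← map_mul, ← map_mul, mul_assoc]
    rw [this, h1, smul_smul, ← map_mul, inv_mul_cancel, map_one, one_smul]
  · intro hx
    apply mem_normalizer_of_conj_smul_eq
    have h1 := conj_smul_eq_of_mem_normalizer hx
    have : MulAut.conj x • MulAut.conj g • B =
        MulAut.conj g • MulAut.conj (g⁻¹ * x * g) • B := by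
      rw [smul_smul, smul_smul, ← map_mul, ← map_mul]
      congr 2
      group
    rw [this, h1]


theorem card_conj_smul' (g : G) (H : Subgroup G) :
    Nat.card (MulAut.conj g • H : Subgroup G) = Nat.card H :=
  (Nat.card_congr (Subgroup.equivSMul (MulAut.conj g) H).toEquiv).symm

theorem conj_smul_ne_bot [Finite G] {B : Subgroup G} (hB : B ≠ ⊥) (g : G) :
    MulAut.conj g • B ≠ ⊥ := by
  intro h
  apply hB
  rw [← Subgroup.card_eq_one] at h ⊢
  rw [← h, card_conj_smul']

/-- a normal subgroup of `↥H`, pushed to `G`, is normalized by `H`. -/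
theorem le_normalizer_map_subtype {H : Subgroup G} (B' : Subgroup H) (hB' : B'.Normal) :
    H ≤ Subgroup.normalizer ((B'.map H.subtype : Subgroup G) : Set G) := by
  rw [← Subgroup.normal_subgroupOf_iff_le_normalizer (Subgroup.map_subtype_le B')]
  have : (B'.map H.subtype).subgroupOf H = B' := by
    ext x
    rw [Subgroup.mem_subgroupOf]
    constructor
    · rintro ⟨y, hy, hyx⟩
      have : y = x := Subtype.ext hyx
      rwa [← this]
    · intro hx
      exact ⟨x, hx, rfl⟩
  rw [this]; exact hB'

end

theorem wielandt_aux : ∀ (n : ℕ) (G : Type u) [Group G] [Finite G], Nat.card G = n →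
    ∀ A S : Subgroup G, IsMinNormal A → S.IsSubnormal → A ≤ Subgroup.normalizer (S : Set G) := by
  intro n
  induction n using Nat.strong_induction_on with
  | _ n ih =>
    intro G _ _ hn A S hA hS
    obtain ⟨hAn, hA1, hAmin⟩ := hA
    rcases hS.lt_normal with rfl | ⟨H, hHn, hSH, hHlt⟩
    · have : Subgroup.normalizer (((⊤ : Subgroup G)) : Set G) = ⊤ :=
        Subgroup.normalizer_eq_top_iff.2 inferInstance
      rw [this]; exact le_top
    have hAHn : (A ⊓ H).Normal := inferInstance
    rcases hAmin (A ⊓ H) hAHn inf_le_left with hbot | heq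
    · -- `A` centralizes `H`
      intro a ha
      have hcomm : ∀ h ∈ H, a * h * a⁻¹ = h := by
        intro h hh
        have h1 : a * h * a⁻¹ * h⁻¹ ∈ A ⊓ H := by
          refine ⟨?_, ?_⟩
          · have : a * h * a⁻¹ * h⁻¹ = a * (h * a⁻¹ * h⁻¹) := by group
            rw [this]
            exact A.mul_mem ha (hAn.conj_mem _ (A.inv_mem ha) h)
          · exact H.mul_mem (hHn.conj_mem _ hh a) (H.inv_mem hh)
        rw [hbot, Subgroup.mem_bot] at h1
        calc a * h * a⁻¹ = (a * h * a⁻¹ * h⁻¹) * h := by group
          _ = h := by rw [h1, one_mul]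
      apply mem_normalizer_of_conj_smul_eq
      ext x
      rw [Subgroup.mem_pointwise_smul_iff_inv_smul_mem, MulAut.smul_def, MulAut.conj_inv_apply]
      constructor
      · intro hx
        have h2 := hcomm _ (hSH hx)
        have e : a * (a⁻¹ * x * a) * a⁻¹ = x := by group
        rw [e] at h2
        rw [h2]; exact hx
      · intro hx
        have h2 := hcomm _ (hSH hx)
        have : a⁻¹ * x * a = x := by
          calc a⁻¹ * x * a = a⁻¹ * (a * x * a⁻¹) * a := by rw [h2]
            _ = x := by group
        rw [this]; exact hx
    · have hAH : A ≤ H := heq ▸ inf_le_right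
      have hHcard : Nat.card H < n := by
        rw [← hn]
        apply lt_of_le_of_ne (Subgroup.card_le_card_group H)
        intro h
        exact hHlt.ne ((Subgroup.card_eq_iff_eq_top H).1 h)
      have hHnormA : H ≤ Subgroup.normalizer (A : Set G) := by
        rw [Subgroup.normalizer_eq_top_iff.2 hAn]; exact le_top
      let pr : Subgroup G → Prop := fun C =>
        C ≠ ⊥ ∧ C ≤ A ∧ H ≤ Subgroup.normalizer (C : Set G)
      have hprA : pr A := ⟨hA1, le_rfl, hHnormA⟩
      obtain ⟨B, hBA, hBmin⟩ := Finite.exists_le_minimal (p := pr) hprA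
      obtain ⟨⟨hB1, -, hBnorm⟩, hBmin'⟩ := hBmin
      -- every conjugate of `B` normalizes `S`
      have hconj : ∀ g : G, MulAut.conj g • B ≤ Subgroup.normalizer (S : Set G) := by
        intro g
        set Bg := MulAut.conj g • B with hBg
        have hBgH : Bg ≤ H := conj_smul_le_of_normal hHn (hBA.trans hAH) g
        have hBgnorm : H ≤ Subgroup.normalizer (Bg : Set G) := by
          rw [hBg, normalizer_conj_smul]
          have := conj_smul_mono hBnorm g
          rwa [conj_smul_normal H g] at this
        have hmin : IsMinNormal (Bg.subgroupOf H) := by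
          refine ⟨(Subgroup.normal_subgroupOf_iff_le_normalizer hBgH).2 hBgnorm, ?_, ?_⟩
          · rw [Ne, Subgroup.subgroupOf_eq_bot, disjoint_iff, inf_eq_left.2 hBgH]
            exact conj_smul_ne_bot hB1 g
          · intro B' hB'n hB'le
            by_cases hB'1 : B' = ⊥
            · exact Or.inl hB'1
            right
            set C := MulAut.conj g⁻¹ • (B'.map H.subtype) with hC
            have hmaple : B'.map H.subtype ≤ Bg := by
              rintro _ ⟨y, hy, rfl⟩
              exact hB'le hy
            have hCB : C ≤ B := by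
              have := conj_smul_mono hmaple g⁻¹
              rwa [hBg, smul_smul, ← map_mul, inv_mul_cancel, map_one, one_smul] at this
            have hmap1 : B'.map H.subtype ≠ ⊥ := by
              intro h
              apply hB'1
              rw [eq_bot_iff]
              intro y hy
              have : (y : G) ∈ B'.map H.subtype := ⟨y, hy, rfl⟩
              rw [h, Subgroup.mem_bot] at this
              rw [Subgroup.mem_bot]
              exact Subtype.ext this
            have hprC : pr C := by
              refine ⟨conj_smul_ne_bot hmap1 g⁻¹, hCB.trans hBA, ?_⟩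
              rw [hC, normalizer_conj_smul]
              have := conj_smul_mono (le_normalizer_map_subtype B' hB'n) g⁻¹
              rwa [conj_smul_normal H g⁻¹] at this
            have hBC : B ≤ C := hBmin' hprC hCB
            have hCeq : C = B := le_antisymm hCB hBC
            have hmapeq : B'.map H.subtype = Bg := by
              rw [hBg, ← hCeq, hC, smul_smul, ← map_mul, mul_inv_cancel, map_one, one_smul]
            ext y
            rw [Subgroup.mem_subgroupOf, ← hmapeq]
            constructor
            · intro hy
              exact ⟨y, hy, rfl⟩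
            · rintro ⟨z, hz, hzy⟩
              have : z = y := Subtype.ext hzy
              rwa [← this]
        have hih := ih _ hHcard H rfl (Bg.subgroupOf H) (S.subgroupOf H) hmin hS.subgroupOf
        rw [← Subgroup.subgroupOf_normalizer_eq hSH] at hih
        intro b hb
        have : (⟨b, hBgH hb⟩ : H) ∈ Bg.subgroupOf H := by
          rw [Subgroup.mem_subgroupOf]; exact hb
        have := hih this
        rw [Subgroup.mem_subgroupOf] at this
        exact this
      -- the normal closure of `B` is `A`
      have hJn : (Subgroup.normalClosure (B : Set G)).Normal := inferInstance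
      have hJA : Subgroup.normalClosure (B : Set G) ≤ A := Subgroup.normalClosure_le_normal hBA
      have hJ1 : Subgroup.normalClosure (B : Set G) ≠ ⊥ := by
        intro h
        apply hB1
        rw [eq_bot_iff, ← h]
        exact Subgroup.le_normalClosure
      have hJeq : Subgroup.normalClosure (B : Set G) = A :=
        (hAmin _ hJn hJA).resolve_left hJ1
      rw [← hJeq, Subgroup.normalClosure, Subgroup.closure_le]
      intro x hx
      rw [Group.mem_conjugatesOfSet_iff] at hx
      obtain ⟨b, hb, hbx⟩ := hx
      obtain ⟨g, hg⟩ := isConj_iff.1 hbx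
      apply hconj g
      rw [Subgroup.mem_pointwise_smul_iff_inv_smul_mem, MulAut.smul_def, MulAut.conj_inv_apply,
        ← hg]
      have : g⁻¹ * (g * b * g⁻¹) * g = b := by group
      rw [this]; exact hb

/-- **Wielandt's lemma**: a minimal normal subgroup normalizes every subnormal subgroup. -/
theorem IsMinNormal.le_normalizer_of_isSubnormal {G : Type u} [Group G] [Finite G]
    {A S : Subgroup G} (hA : IsMinNormal A) (hS : S.IsSubnormal) :
    A ≤ Subgroup.normalizer (S : Set G) :=
  wielandt_aux _ G rfl A S hA hS

end Cfsg.Agent.Helper3
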