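import Mathlib
import Cfsg.Prelude
import Cfsg.Agent.Lead.BG124b
import Cfsg.Agent.Helper1.BG116e
import Cfsg.Agent.Helper3.BGAlpha
import Cfsg.Agent.Helper4.BG12c
import Cfsg.Agent.Helper4.BG12b
import Cfsg.Agent.S1403
import Cfsg.Agent.S1404
import Cfsg.Agent.S1410
import Cfsg.Agent.S1412

set_option autoImplicit false
set_option linter.unusedSectionVars false
set_option linter.unusedVariables false

/-!
Bender–Glauberman Theorem 12.12 (a nonabelian `p`-subgroup lies in a unique maximal subgroup):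
preparations.  Part (U1) of helper1's plan v3, the `p`-length-one Frattini argument in subgroup
form, and transfer of the rank between Sylow subgroups.
-/

namespace Cfsg.Agent.Helper3.BG1212

open Cfsg Cfsg.Agent.Helper1 Cfsg.Agent.Helper2 Cfsg.Agent.Helper1.BGT Cfsg.Agent.Helper1.BGU
  Cfsg.Agent.Helper1.BGV Cfsg.Agent.Helper1.BGW Cfsg.Agent.Helper1.BGX Cfsg.Agent.Lead.BG12
open scoped commutatorElement Pointwise

universe u

variable {G : Type u} [Group G] [Finite G]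

/-- a subgroup of a commutative subgroup is commutative -/
theorem isMulCommutative_of_le {A B : Subgroup G} (hB : IsMulCommutative ↥B) (hAB : A ≤ B) :
    IsMulCommutative ↥A := by
  refine ⟨⟨fun a b => ?_⟩⟩
  apply Subtype.ext
  have := hB.is_comm.comm ⟨a.1, hAB a.2⟩ ⟨b.1, hAB b.2⟩
  have h2 := congrArg Subtype.val this
  simpa using h2

/-- an elementary abelian subgroup of order exactly `p ^ 2` inside one of order `> p` -/
theorem exists_ea_sq {p : ℕ} [hp : Fact p.Prime] {X : Subgroup G} (h : HasEA p 1 X) :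
    ∃ A : Subgroup G, A ≤ X ∧ Cfsg.IsElementaryAbelian p A ∧ Nat.card A = p ^ 2 := by
  obtain ⟨F, hFX, hFe, hFcard⟩ := h
  have hFp : IsPGroup p ↥F := Cfsg.Agent.Helper3.BGAlpha.isPGroup_of_elementary hFe
  obtain ⟨k, hk⟩ := IsPGroup.iff_card.mp hFp
  have hk2 : 2 ≤ k := by
    by_contra hlt
    push Not at hlt
    rw [hk, pow_one] at hFcard
    have : p ^ k ≤ p ^ 1 := Nat.pow_le_pow_right hp.out.pos (by omega)
    rw [pow_one] at this
    omega
  have hdvd : p ^ 2 ∣ Nat.card ↥F := by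
    rw [hk]; exact pow_dvd_pow p hk2
  obtain ⟨K, hK⟩ := Sylow.exists_subgroup_card_pow_prime p hdvd
  refine ⟨K.map F.subtype, (Subgroup.map_subtype_le _).trans hFX,
    isElementaryAbelian_of_le hFe (Subgroup.map_subtype_le _), ?_⟩
  rw [Subgroup.card_map_of_injective F.subtype_injective]
  exact hK

/-- nonabelian `p`-subgroups only exist for odd `p` -/
theorem ne_two_of_nonabelian (hodd : Odd (Nat.card G)) {p : ℕ} [hp : Fact p.Prime]
    {P : Subgroup G} (hP : IsPGroup p ↥P) (hna : ¬ IsMulCommutative ↥P) : p ≠ 2 := by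
  rintro rfl
  obtain ⟨k, hk⟩ := IsPGroup.iff_card.mp hP
  have hodd' : Odd (Nat.card ↥P) := Odd.of_dvd_nat hodd (Subgroup.card_subgroup_dvd_card _)
  have h1 : Nat.card ↥P = 1 := by
    rcases Nat.eq_zero_or_pos k with rfl | hk0
    · rw [hk, pow_zero]
    · exfalso
      rw [hk] at hodd'
      have : Even (2 ^ k) := (Nat.even_pow.mpr ⟨even_two, hk0.ne'⟩)
      exact (Nat.not_even_iff_odd.mpr hodd') this
  have : Subsingleton ↥P := (Nat.card_eq_one_iff_unique.mp h1).1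
  exact hna ⟨⟨fun a b => Subsingleton.elim _ _⟩⟩

/-- a nonabelian `p`-subgroup is not cyclic -/
theorem not_isCyclic_of_nonabelian {P : Subgroup G} (hna : ¬ IsMulCommutative ↥P) :
    ¬ IsCyclic ↥P := by
  intro hc
  exact hna ⟨⟨fun a b => (IsCyclic.commGroup (α := ↥P)).mul_comm a b⟩⟩

/-- a nonabelian `p`-subgroup contains an elementary abelian subgroup of order `> p` -/
theorem hasEA_one_of_nonabelian (hodd : Odd (Nat.card G)) {p : ℕ} [hp : Fact p.Prime]
    {P : Subgroup G} (hP : IsPGroup p ↥P) (hna : ¬ IsMulCommutative ↥P) : HasEA p 1 P :=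
  hasEA_one_of_not_isCyclic (ne_two_of_nonabelian hodd hP hna) hP (not_isCyclic_of_nonabelian hna)

/-- **(U1)**: a maximal subgroup containing a nonabelian `p`-subgroup has `p ∈ σ(M)`. -/
theorem mem_sigma_of_nonabelian (hG : Cfsg.IsMinSimpleOddOrder G) {M : Subgroup G}
    (hM : IsCoatom M) {p : ℕ} [hp : Fact p.Prime] {P : Subgroup G} (hPM : P ≤ M)
    (hP : IsPGroup p ↥P) (hna : ¬ IsMulCommutative ↥P) : p ∈ Cfsg.sigma M := by
  by_contra hpσ
  have hr2 : Cfsg.PRankLE p 2 ↥M := pRankLE_of_not_mem_sigma hG hM hp.out hpσ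
  have hea := (hasEA_one_of_nonabelian hG.1 hP hna).mono hPM
  have hr1 : ¬ Cfsg.PRankLE p 1 ↥M := not_pRankLE_of_hasEA hea
  have hτ : p ∈ Cfsg.tau2 M := ⟨hp.out, hpσ, hr2, hr1⟩
  obtain ⟨A, hAM, hAe, hAcard⟩ := exists_ea_sq hea
  have h125 := Cfsg.Agent.Helper4.BG12.thm125 hG hM hτ ⟨hAM, hAe, hAcard⟩
  obtain ⟨Q, hQ⟩ := (hP.comap_subtype : IsPGroup p ↥(P.subgroupOf M)).exists_le_sylow
  have hQc := (h125.2.1 Q).1
  apply hna
  refine ⟨⟨fun a b => ?_⟩⟩
  apply Subtype.ext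
  have ha : (⟨a.1, hPM a.2⟩ : ↥M) ∈ (Q : Subgroup ↥M) :=
    hQ (Subgroup.mem_subgroupOf.2 a.2)
  have hb : (⟨b.1, hPM b.2⟩ : ↥M) ∈ (Q : Subgroup ↥M) :=
    hQ (Subgroup.mem_subgroupOf.2 b.2)
  have := hQc.is_comm.comm ⟨_, ha⟩ ⟨_, hb⟩
  have h2 := congrArg (fun x : ↥(Q : Subgroup ↥M) => ((x : ↥M) : G)) this
  simpa using h2

/-- **(U1')**: a nonabelian `p`-subgroup of a maximal subgroup `M` lies in a Sylow `p`-subgroup of
`G` contained in `M` whose normalizer is in `M`. -/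
theorem exists_sigCtx_of_nonabelian (hG : Cfsg.IsMinSimpleOddOrder G) {M : Subgroup G}
    (hM : IsCoatom M) {p : ℕ} [hp : Fact p.Prime] {P : Subgroup G} (hPM : P ≤ M)
    (hP : IsPGroup p ↥P) (hna : ¬ IsMulCommutative ↥P) :
    ∃ T : Subgroup G, P ≤ T ∧ SigCtx M p T := by
  have hpσ := mem_sigma_of_nonabelian hG hM hPM hP hna
  obtain ⟨T, hPT, hTM, hTp, hTcard⟩ := Cfsg.Agent.Lead.exists_le_card_eq_ppart hP hPM
  have hTc : Nat.card T = p ^ (Nat.card G).factorization p := by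
    rw [hTcard, Cfsg.Agent.Helper4.BG12.factorization_eq_of_mem_sigma hG hM hpσ]
  exact ⟨T, hPT, Cfsg.Agent.Helper4.BG12.sigCtx_of_sylow hG hM hpσ hTM hTp hTc⟩

/-- `p ∈ σ(M)` from a `SigCtx` with nontrivial Sylow subgroup -/
theorem SigCtx_mem_sigma {M T : Subgroup G} {p : ℕ} [hp : Fact p.Prime] (c : SigCtx M p T)
    (hT1 : T ≠ ⊥) : p ∈ Cfsg.sigma M :=
  mem_sigma_of_normalizer_le c.le hT1 c.pgroup c.cardM c.norm

/-- the rank of Sylow `p`-subgroups of `G` does not depend on the Sylow subgroup -/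
theorem hasEA_of_sylow {p k : ℕ} [hp : Fact p.Prime] {T T' : Subgroup G}
    (hT : IsPGroup p ↥T) (hT' : Nat.card T' = p ^ (Nat.card G).factorization p)
    (h : HasEA p k T) : HasEA p k T' := by
  obtain ⟨F, hFT, hFe, hFcard⟩ := h
  have hT'top : Nat.card T' = p ^ (Nat.card (⊤ : Subgroup G)).factorization p := by
    rw [Subgroup.card_top]; exact hT'
  obtain ⟨m, -, hm⟩ := Cfsg.Agent.Lead.exists_conj_le_of_card_eq_ppart (le_top : T' ≤ ⊤) hT'top
    (le_top : T ≤ ⊤) hT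
  refine ⟨F.map (MulAut.conj m).toMonoidHom, (Subgroup.map_mono hFT).trans hm,
    Cfsg.Agent.Helper3.BGAlpha.elementary_map_conj hFe m, ?_⟩
  rw [Cfsg.Agent.Lead.card_map_conj]
  exact hFcard

/-- **`p`-length one and the Frattini argument**, in subgroup form: for a proper subgroup `H` and a
Sylow `p`-subgroup `S` of `H`, `H = O_{p'}(H) N_H(S)`. -/
theorem exists_pPrime_frattini (hG : Cfsg.IsMinSimpleOddOrder G) {p : ℕ} [hp : Fact p.Prime]
    {H S : Subgroup G} (hH : H ≠ ⊤) (hSH : S ≤ H) (hSp : IsPGroup p ↥S)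
    (hScard : Nat.card S = p ^ (Nat.card H).factorization p) :
    ∃ K : Subgroup G, K ≤ H ∧ H ≤ Subgroup.normalizer (K : Set G) ∧ (Nat.card K).Coprime p ∧
      ∀ h ∈ H, ∃ k ∈ K, ∃ n ∈ H ⊓ Subgroup.normalizer (S : Set G), h = k * n := by
  haveI hsolv : Group.IsSolvable ↥H := hG.2.2.2 H hH
  have hpl := Cfsg.Agent.S1410.result hG p H hH
  obtain ⟨K₀, hK₀n, hK₀cop, hK₀S⟩ := exists_normal_of_pLengthLE_one p hpl
  have hcard' : Nat.card (S.subgroupOf H) = p ^ (Nat.card H).factorization p := by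
    rw [Cfsg.Agent.Lead.card_subgroupOf_of_le hSH]; exact hScard
  obtain ⟨S', hS'⟩ : ∃ S' : Sylow p ↥H, (S' : Subgroup ↥H) = S.subgroupOf H :=
    ⟨Sylow.ofCard (S.subgroupOf H) hcard', Sylow.coe_ofCard _ _⟩
  have htop := sup_normalizer_eq_top_of_sup_normal K₀ hK₀cop S' (hK₀S S')
  refine ⟨K₀.map H.subtype, Subgroup.map_subtype_le _, Cfsg.Agent.Helper1.BGV.le_normalizer_map_subtype K₀, ?_, ?_⟩
  · rw [Subgroup.card_map_of_injective H.subtype_injective]; exact hK₀cop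
  · intro h hh
    have hmem : (⟨h, hh⟩ : ↥H) ∈ K₀ ⊔ Subgroup.normalizer ((S' : Subgroup ↥H) : Set ↥H) := by
      rw [htop]; exact Subgroup.mem_top _
    have hset : ((K₀ ⊔ Subgroup.normalizer ((S' : Subgroup ↥H) : Set ↥H) : Subgroup ↥H) : Set ↥H) =
        (K₀ : Set ↥H) * (Subgroup.normalizer ((S' : Subgroup ↥H) : Set ↥H) : Set ↥H) :=
      Subgroup.normal_mul K₀ _
    have hmem' : (⟨h, hh⟩ : ↥H) ∈
        (K₀ : Set ↥H) * (Subgroup.normalizer ((S' : Subgroup ↥H) : Set ↥H) : Set ↥H) := by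
      rw [← hset]; exact hmem
    obtain ⟨k, hk, n, hn, hkn⟩ := Set.mem_mul.mp hmem'
    refine ⟨(k : G), ⟨k, hk, rfl⟩, (n : G), ⟨n.2, ?_⟩, ?_⟩
    · apply Subgroup.mem_normalizer_fintype
      intro y hy
      have h1 := (Subgroup.mem_normalizer_iff.1 hn ⟨y, hSH hy⟩).1 (by
        rw [hS', Subgroup.mem_subgroupOf]; exact hy)
      rw [hS', Subgroup.mem_subgroupOf] at h1
      simpa using h1
    · have := congrArg Subtype.val hkn
      simpa using this.symm

end Cfsg.Agent.Helper3.BG1212
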