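import Mathlib
import Cfsg.Prelude
import Cfsg.Agent.Helper3.BG1212a
import Cfsg.Agent.Helper4.BG12e
import Cfsg.Agent.Lead.BG127h

set_option autoImplicit false
set_option linter.unusedSectionVars false
set_option linter.unusedVariables false

/-!
Bender–Glauberman Corollary 13.3(a) (a cyclic Sylow subgroup of a complement `E` of `M_σ` acts in a
prime manner on `M_σ`): general lemmas and the case `p ∈ σ(H)`.
-/

namespace Cfsg.Agent.Helper3.BG131

open Cfsg Cfsg.Agent.Helper1 Cfsg.Agent.Helper1.BGU Cfsg.Agent.Helper1.BGX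
open scoped commutatorElement Pointwise

universe u

variable {G : Type u} [Group G] [Finite G]

omit [Finite G] in
/-- if the commutator `c = y s y⁻¹ s⁻¹` commutes with `s` and has order prime to that of `s`, then
`y` and `s` commute -/
theorem commute_of_commute_commutator {y s : G} (hcs : (y * s * y⁻¹ * s⁻¹) * s = s * (y * s * y⁻¹ * s⁻¹))
    (hcop : (orderOf (y * s * y⁻¹ * s⁻¹)).Coprime (orderOf s)) : y * s = s * y := by
  obtain ⟨c, hc⟩ : ∃ c : G, c = y * s * y⁻¹ * s⁻¹ := ⟨_, rfl⟩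
  rw [← hc] at hcs hcop
  have h1 : y * s * y⁻¹ = c * s := by rw [hc]; group
  have h2 : (y * s * y⁻¹) ^ orderOf s = 1 := by
    rw [conj_pow, pow_orderOf_eq_one]; group
  have h3 : (c * s) ^ orderOf s = c ^ orderOf s := by
    rw [(show Commute c s from hcs).mul_pow, pow_orderOf_eq_one, mul_one]
  rw [h1, h3] at h2
  have h4 : orderOf c ∣ orderOf s := orderOf_dvd_of_pow_eq_one h2
  have h5 : orderOf c = 1 := Nat.Coprime.eq_one_of_dvd hcop h4
  rw [orderOf_eq_one_iff] at h5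
  rw [h5] at h1
  calc y * s = (y * s * y⁻¹) * y := by group
    _ = s * y := by rw [h1, one_mul]

omit [Finite G] in
/-- if `y` normalizes `A` and `s` centralizes `A` then `[y, s]` centralizes `A` -/
theorem commutator_mem_centralizer {A : Subgroup G} {y s : G}
    (hy : y ∈ Subgroup.normalizer (A : Set G)) (hs : s ∈ Subgroup.centralizer (A : Set G)) :
    y * s * y⁻¹ * s⁻¹ ∈ Subgroup.centralizer (A : Set G) := by
  refine Subgroup.mem_centralizer_iff.2 ?_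
  intro a ha
  have hsa : ∀ b ∈ A, b * s = s * b := fun b hb => Subgroup.mem_centralizer_iff.1 hs b hb
  have ha' : y⁻¹ * a * y ∈ A := by
    have := (Subgroup.mem_normalizer_iff.1 (Subgroup.inv_mem _ hy) a).1 ha
    simpa using this
  have h1 : a * s = s * a := hsa a ha
  have h2 : (y⁻¹ * a * y) * s = s * (y⁻¹ * a * y) := hsa _ ha'
  have h3 : a * s⁻¹ = s⁻¹ * a := by
    calc a * s⁻¹ = s⁻¹ * (s * a) * s⁻¹ := by group
      _ = s⁻¹ * (a * s) * s⁻¹ := by rw [h1]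
      _ = s⁻¹ * a := by group
  calc a * (y * s * y⁻¹ * s⁻¹) = y * ((y⁻¹ * a * y) * s) * y⁻¹ * s⁻¹ := by group
    _ = y * (s * (y⁻¹ * a * y)) * y⁻¹ * s⁻¹ := by rw [h2]
    _ = y * s * y⁻¹ * (a * s⁻¹) := by group
    _ = y * s * y⁻¹ * (s⁻¹ * a) := by rw [h3]
    _ = y * s * y⁻¹ * s⁻¹ * a := by group

/-- **(R1)**: a subgroup `M` with cyclic Sylow `p`-subgroups contains no elementary abelian
subgroup of order `p ^ 2` -/
theorem false_of_ea_sq_of_cyclic_sylow {p : ℕ} [hp : Fact p.Prime] {M S A : Subgroup G}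
    (hSM : S ≤ M) (hSc : IsCyclic ↥S) (hScard : Nat.card S = p ^ (Nat.card M).factorization p)
    (hAM : A ≤ M) (hAe : Cfsg.IsElementaryAbelian p A) (hAcard : Nat.card A = p ^ 2) : False := by
  obtain ⟨m, hm, hmA⟩ := Cfsg.Agent.Lead.exists_conj_le_of_card_eq_ppart hSM hScard hAM
    (Cfsg.Agent.Helper3.BGAlpha.isPGroup_of_elementary hAe)
  have h1 : Cfsg.PRankLE p 1 ↥S := pRankLE_one_of_isCyclic hSc p
  refine not_pRankLE_of_hasEA ⟨_, hmA, Cfsg.Agent.Helper3.BGAlpha.elementary_map_conj hAe m, ?_⟩ h1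
  rw [Cfsg.Agent.Lead.card_map_conj, hAcard, pow_one]
  have := hp.out.one_lt
  nlinarith

/-- **(R2)**: a prime of `τ₂(H)` is not ideal -/
theorem false_of_ideal_tau2 (hG : Cfsg.IsMinSimpleOddOrder G) {H : Subgroup G} (hH : IsCoatom H)
    {p : ℕ} [hp : Fact p.Prime] (hpτ : p ∈ Cfsg.tau2 H) {A : Subgroup G}
    (hA : A ≤ H ∧ Cfsg.IsElementaryAbelian p A ∧ Nat.card A = p ^ 2)
    (hid : Cfsg.IsIdealPrime p G) : False := by
  obtain ⟨P, hAP⟩ := (Cfsg.Agent.Helper3.BGAlpha.isPGroup_of_elementary hA.2.1).exists_le_sylow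
  obtain ⟨B, hBP, hBe, hAB⟩ := hid.2.2 P A hAP hA.2.1 hA.2.2
  have hBC : B ≤ Subgroup.centralizer (A : Set G) := by
    intro b hb
    refine Subgroup.mem_centralizer_iff.2 ?_
    intro a ha
    exact isElementaryAbelian_commute hBe (hAB.le ha) hb
  have hBH : B ≤ H := hBC.trans (Cfsg.Agent.Helper4.BG12.centralizer_le_of_tau2 hG hH hpτ hA)
  have hcard : p ^ 2 < Nat.card B := by
    rw [← hA.2.2]; exact Cfsg.Agent.Lead.card_lt_of_lt hAB
  exact not_pRankLE_of_hasEA ⟨B, hBH, hBe, hcard⟩ hpτ.2.2.1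

/-- an element of order `p ^ k` and an element of `M_σ`, `p ∉ σ(M)`, have coprime orders -/
theorem coprime_orderOf_of_mem_sigmaCore {M : Subgroup G} {p : ℕ} [hp : Fact p.Prime]
    (hpM : p ∉ Cfsg.sigma M) {c s : G} (hc : c ∈ Cfsg.sigmaCore M)
    (hs : IsPGroup p ↥(Subgroup.zpowers s)) : (orderOf c).Coprime (orderOf s) := by
  obtain ⟨k, hk⟩ := IsPGroup.iff_card.mp hs
  rw [Nat.card_zpowers] at hk
  rw [hk]
  apply Nat.Coprime.pow_right
  have h1 : orderOf c ∣ Nat.card (Cfsg.sigmaCore M) := Subgroup.orderOf_dvd_natCard _ hc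
  rw [Nat.coprime_comm, Nat.Prime.coprime_iff_not_dvd hp.out]
  intro hd
  exact hpM (Cfsg.Agent.Lead.BG12.mem_sigma_of_dvd_card_sigmaCore hp.out (hd.trans h1))

/-- the commutator of an element of `M_σ` with an element of `M` lies in `M_σ` -/
theorem commutator_mem_sigmaCore {M : Subgroup G} {y s : G} (hy : y ∈ Cfsg.sigmaCore M)
    (hs : s ∈ M) : y * s * y⁻¹ * s⁻¹ ∈ Cfsg.sigmaCore M := by
  have hn := Cfsg.Agent.Lead.BG12.le_normalizer_sigmaCore M hs
  have h1 : s * y⁻¹ * s⁻¹ ∈ Cfsg.sigmaCore M :=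
    (Subgroup.mem_normalizer_iff.1 hn y⁻¹).1 (Subgroup.inv_mem _ hy)
  have e : y * s * y⁻¹ * s⁻¹ = y * (s * y⁻¹ * s⁻¹) := by group
  rw [e]
  exact Subgroup.mul_mem _ hy h1

/-- the commutator of an element of `H` with an element of `H_σ` lies in `H_σ` -/
theorem commutator_mem_sigmaCore' {H : Subgroup G} {y s : G} (hy : y ∈ H)
    (hs : s ∈ Cfsg.sigmaCore H) : y * s * y⁻¹ * s⁻¹ ∈ Cfsg.sigmaCore H := by
  have hn := Cfsg.Agent.Lead.BG12.le_normalizer_sigmaCore H hy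
  have h1 : y * s * y⁻¹ ∈ Cfsg.sigmaCore H := (Subgroup.mem_normalizer_iff.1 hn s).1 hs
  exact Subgroup.mul_mem _ h1 (Subgroup.inv_mem _ hs)

/-- **The case `p ∈ σ(H)`**: a `p`-element `s` of `M ∩ H` centralizes `M_σ ∩ H`, for `p ∉ σ(M)`,
`p ∈ σ(H)` and `H` not conjugate to `M`. -/
theorem commute_of_mem_sigma (hG : Cfsg.IsMinSimpleOddOrder G) {M H : Subgroup G}
    (hM : IsCoatom M) (hH : IsCoatom H) (hnc : ∀ x : G, M ≠ MulAut.conj x • H) {p : ℕ}
    [hp : Fact p.Prime] (hpM : p ∉ Cfsg.sigma M) (hpH : p ∈ Cfsg.sigma H) {y s : G}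
    (hy : y ∈ Cfsg.sigmaCore M) (hyH : y ∈ H) (hsM : s ∈ M) (hsH : s ∈ H)
    (hsp : IsPGroup p ↥(Subgroup.zpowers s)) : y * s = s * y := by
  have hsσ : s ∈ Cfsg.sigmaCore H :=
    Cfsg.Agent.Lead.BG12.le_sigmaCore' hG hH hpH (Subgroup.zpowers_le.2 hsH) hsp
      (Subgroup.mem_zpowers s)
  obtain ⟨c, hc⟩ : ∃ c : G, c = y * s * y⁻¹ * s⁻¹ := ⟨_, rfl⟩
  have hcM : c ∈ Cfsg.sigmaCore M := hc ▸ commutator_mem_sigmaCore hy hsM
  have hcH : c ∈ Cfsg.sigmaCore H := hc ▸ commutator_mem_sigmaCore' hyH hsσ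
  have hcop : (orderOf c).Coprime (orderOf s) := coprime_orderOf_of_mem_sigmaCore hpM hcM hsp
  have hder := sigmaCore_le_commutator hG hH
  have h1 : c * s * c⁻¹ * s⁻¹ ∈ Cfsg.alphaCore H :=
    Cfsg.Agent.Lead.BG127.commutator_mem_alphaCore hG hH (hder hcH) (hder hsσ) hcop
  have h2 : c * s * c⁻¹ * s⁻¹ ∈ Cfsg.sigmaCore M := commutator_mem_sigmaCore hcM hsM
  have hbot := Cfsg.Agent.Helper4.BG11.alphaCore_inf_sigmaCore_eq_bot hG hH hM hnc
  have h3 : c * s * c⁻¹ * s⁻¹ = 1 := by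
    have : c * s * c⁻¹ * s⁻¹ ∈ Cfsg.alphaCore H ⊓ Cfsg.sigmaCore M := ⟨h1, h2⟩
    rw [hbot, Subgroup.mem_bot] at this
    exact this
  have hcs : c * s = s * c := by
    calc c * s = (c * s * c⁻¹ * s⁻¹) * (s * c) := by group
      _ = s * c := by rw [h3, one_mul]
  apply commute_of_commute_commutator
  · rw [← hc]; exact hcs
  · rw [← hc]; exact hcop

end Cfsg.Agent.Helper3.BG131
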