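import Mathlib
import Cfsg.Prelude
import Cfsg.Agent.Helper3.BG131a

set_option autoImplicit false
set_option linter.unusedSectionVars false
set_option linter.unusedVariables false

/-!
Bender–Glauberman Corollary 13.3(a): the core contradiction of the case `p ∈ τ₂(H)`.
-/

namespace Cfsg.Agent.Helper3.BG131

open Cfsg Cfsg.Agent.Helper1 Cfsg.Agent.Helper1.BGU Cfsg.Agent.Helper1.BGX
open scoped commutatorElement Pointwise

universe u

variable {G : Type u} [Group G] [Finite G]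

/-- an elementary abelian group of order `q ^ 2` is not cyclic -/
theorem not_isCyclic_of_ea_sq {q : ℕ} [hq : Fact q.Prime] {A : Subgroup G}
    (hAe : Cfsg.IsElementaryAbelian q A) (hAcard : Nat.card A = q ^ 2) : ¬ IsCyclic ↥A := by
  intro hc
  have h1 : Cfsg.PRankLE q 1 ↥A := pRankLE_one_of_isCyclic hc q
  refine not_pRankLE_of_hasEA ⟨A, le_rfl, hAe, ?_⟩ h1
  rw [hAcard, pow_one]
  have := hq.out.one_lt
  nlinarith

/-- **Core contradiction.**  `M` has cyclic Sylow `p`-subgroups, `p ∈ τ₂(H)`, `A' ≤ H` is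
elementary abelian of order `p ^ 2` meeting `M` nontrivially, and `A'` centralizes an element `w`
of prime order of `M_σ`. -/
theorem false_of_centralizing_ea (hG : Cfsg.IsMinSimpleOddOrder G) {M H : Subgroup G}
    (hM : IsCoatom M) (hH : IsCoatom H) {p : ℕ} [hp : Fact p.Prime] (hpτ : p ∈ Cfsg.tau2 H)
    {S X A' : Subgroup G} (hSM : S ≤ M) (hSc : IsCyclic ↥S)
    (hScard : Nat.card S = p ^ (Nat.card M).factorization p) (hXM : X ≤ M) (hXA : X ≤ A')
    (hX1 : X ≠ ⊥)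
    (hA' : A' ≤ H ∧ Cfsg.IsElementaryAbelian p A' ∧ Nat.card A' = p ^ 2) {q : ℕ}
    [hq : Fact q.Prime] {w : G} (hw : w ∈ Cfsg.sigmaCore M) (hwq : orderOf w = q)
    (hwA : w ∈ Subgroup.centralizer (A' : Set G)) : False := by
  have hA'p : IsPGroup p ↥A' := Cfsg.Agent.Helper3.BGAlpha.isPGroup_of_elementary hA'.2.1
  have hXp : IsPGroup p ↥X := hA'p.to_le hXA
  have hw1 : w ≠ 1 := by
    rintro rfl
    rw [orderOf_one] at hwq
    exact hq.out.one_lt.ne hwq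
  -- `Q₁ = ⟨w⟩`
  obtain ⟨Q₁, hQ₁⟩ : ∃ Q₁ : Subgroup G, Q₁ = Subgroup.zpowers w := ⟨_, rfl⟩
  have hQ₁card : Nat.card Q₁ = q := by rw [hQ₁, Nat.card_zpowers, hwq]
  have hQ₁q : IsPGroup q ↥Q₁ := IsPGroup.of_card (n := 1) (by rw [hQ₁card, pow_one])
  have hQ₁1 : Q₁ ≠ ⊥ := by
    rw [hQ₁]; exact fun h => hw1 (Subgroup.zpowers_eq_bot.1 h)
  have hQ₁top : Q₁ ≠ ⊤ := sylow_ne_top hG q _ hQ₁q
  have hQ₁σ : Q₁ ≤ Cfsg.sigmaCore M := by rw [hQ₁]; exact Subgroup.zpowers_le.2 hw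
  have hQ₁M : Q₁ ≤ M := hQ₁σ.trans Cfsg.Agent.Lead.BG12.sigmaCore_le
  have hqσM : q ∈ Cfsg.sigma M := by
    apply Cfsg.Agent.Lead.BG12.mem_sigma_of_dvd_card_sigmaCore hq.out
    rw [← hwq]
    exact Subgroup.orderOf_dvd_natCard _ hw
  have hA'N : A' ≤ Subgroup.normalizer (Q₁ : Set G) := by
    intro a ha
    rw [hQ₁]
    apply Cfsg.Agent.Helper4.BG10.centralizer_singleton_le_normalizer_zpowers
    refine Subgroup.mem_centralizer_singleton_iff.2 ?_
    exact (Subgroup.mem_centralizer_iff.1 hwA a ha)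
  obtain ⟨L, hL, hNL⟩ := exists_coatom_ge (normalizer_ne_top_of_simple hG hQ₁1 hQ₁top)
  have hA'L : A' ≤ L := hA'N.trans hNL
  have hQ₁L : Q₁ ≤ L := Subgroup.le_normalizer.trans hNL
  by_cases hLM : L = M
  · exact false_of_ea_sq_of_cyclic_sylow hSM hSc hScard (hLM ▸ hA'L) hA'.2.1 hA'.2.2
  -- a Sylow `q`-subgroup `T` of `M ∩ L`
  obtain ⟨T, hQ₁T, hTML, hTq, hTcard⟩ :=
    Cfsg.Agent.Lead.exists_le_card_eq_ppart hQ₁q (le_inf hQ₁M hQ₁L)
  have hmax : ∀ T' : Subgroup G, IsPGroup q ↥T' → T ≤ T' → T' ≤ M ⊓ L → T' = T := by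
    intro T' hT'q hTT' hT'ML
    have h1 := Cfsg.Agent.Lead.card_dvd_ppart_of_isPGroup hT'q hT'ML
    rw [← hTcard] at h1
    exact (Subgroup.eq_of_le_of_card_ge hTT' (Nat.le_of_dvd Nat.card_pos h1)).symm
  obtain ⟨hNT, hTcardL⟩ := Cfsg.Agent.Helper4.BG10.sigma_subgroup_embedding hG hM hL hLM hqσM
    hQ₁1 hQ₁T hNL hTq hTML hmax
  have hTM : T ≤ M := hTML.trans inf_le_left
  have hTL : T ≤ L := hTML.trans inf_le_right
  by_cases hqL : q ∈ Cfsg.sigma L
  · -- case (d)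
    have hTcardG : Nat.card T = q ^ (Nat.card G).factorization q := by
      rw [hTcardL, Cfsg.Agent.Helper4.BG12.factorization_eq_of_mem_sigma hG hL hqL]
    have cL : SigCtx L q T := Cfsg.Agent.Helper4.BG12.sigCtx_of_sylow hG hL hqL hTL hTq hTcardG
    by_cases hpβ : p ∈ Cfsg.beta L
    · exact false_of_ideal_tau2 hG hH hpτ hA' hpβ.2
    · have hnd := Cfsg.Agent.Helper4.BG10.sigCtx_not_dvd_relIndex_normalizer cL hp.out hpβ
      have hfac := Cfsg.Agent.Lead.BG12.factorization_eq_of_not_dvd_relIndex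
        (inf_le_left : L ⊓ Subgroup.normalizer (T : Set G) ≤ L) hp.out hnd
      obtain ⟨PN, -, hPNle, hPNp, hPNcard⟩ :=
        Cfsg.Agent.Lead.exists_le_card_eq_ppart (p := p)
          (H := L ⊓ Subgroup.normalizer (T : Set G)) (U := ⊥) IsPGroup.of_bot bot_le
      rw [hfac] at hPNcard
      obtain ⟨m, hm, hmA⟩ := Cfsg.Agent.Lead.exists_conj_le_of_card_eq_ppart
        (hPNle.trans inf_le_left) hPNcard hA'L hA'p
      have hle : A'.map (MulAut.conj m).toMonoidHom ≤ M :=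
        hmA.trans (hPNle.trans (inf_le_right.trans hNT))
      refine false_of_ea_sq_of_cyclic_sylow hSM hSc hScard hle
        (Cfsg.Agent.Helper3.BGAlpha.elementary_map_conj hA'.2.1 m) ?_
      rw [Cfsg.Agent.Lead.card_map_conj]; exact hA'.2.2
  · -- case (e)
    have hqτL : q ∈ Cfsg.tau2 L :=
      (Cfsg.Agent.Lead.BG12.lemma122a hG hL hQ₁q hQ₁1 hNL).resolve_left hqL
    obtain ⟨Aq₀, hAq₀L, hAq₀e, hAq₀card⟩ :=
      Cfsg.Agent.Helper4.BG12.exists_ea2_of_not_pRankLE_one hG hqτL.2.2.2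
    obtain ⟨m, hm, hmAq⟩ := Cfsg.Agent.Lead.exists_conj_le_of_card_eq_ppart hTL hTcardL hAq₀L
      (Cfsg.Agent.Helper3.BGAlpha.isPGroup_of_elementary hAq₀e)
    obtain ⟨Aq, hAq⟩ : ∃ Aq : Subgroup G, Aq = Aq₀.map (MulAut.conj m).toMonoidHom := ⟨_, rfl⟩
    have hAqe : Cfsg.IsElementaryAbelian q Aq :=
      hAq ▸ Cfsg.Agent.Helper3.BGAlpha.elementary_map_conj hAq₀e m
    have hAqcard : Nat.card Aq = q ^ 2 := by
      rw [hAq, Cfsg.Agent.Lead.card_map_conj]; exact hAq₀card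
    have hAqT : Aq ≤ T := hAq ▸ hmAq
    have hAqM : Aq ≤ M := hAqT.trans hTM
    have hAqL : Aq ≤ L := hAqT.trans hTL
    have hAqq : IsPGroup q ↥Aq := Cfsg.Agent.Helper3.BGAlpha.isPGroup_of_elementary hAqe
    have t125 := Cfsg.Agent.Helper4.BG12.thm125 hG hL hqτL ⟨hAqL, hAqe, hAqcard⟩
    have hLσM : Cfsg.sigmaCore L ⊓ M = ⊥ := t125.2.2.2.2.1 M hM (Ne.symm hLM) hAqM
    -- `p ∉ σ(L)`
    have hpL : p ∉ Cfsg.sigma L := by
      intro hpσ
      have h1 : X ≤ Cfsg.sigmaCore L :=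
        Cfsg.Agent.Lead.BG12.le_sigmaCore' hG hL hpσ (hXA.trans hA'L) hXp
      have h2 : X ≤ Cfsg.sigmaCore L ⊓ M := le_inf h1 hXM
      rw [hLσM] at h2
      exact hX1 (le_bot_iff.1 h2)
    -- a complement `E_L ⊇ A_q`
    obtain ⟨EL, hEL, hAqEL⟩ := Cfsg.Agent.Helper4.BG10.exists_compl_sigmaCore_ge hG hL hAqL (by
      intro t ht hd
      rw [hAqcard] at hd
      have : t = q := (Nat.prime_dvd_prime_iff_eq ht hq.out).1 (ht.dvd_of_dvd_pow hd)
      rw [this]; exact hqL)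
    have c126 := Cfsg.Agent.Helper4.BG12.cor126 hG hL hqτL hEL ⟨hAqEL, hAqe, hAqcard⟩
    have hELN : EL ≤ Subgroup.normalizer (Aq : Set G) := c126.1.1
    have hNAq : Subgroup.normalizer (Aq : Set G) ≤ M :=
      Cfsg.Agent.Helper4.BG12.normalizer_le_of_not_isCyclic hG
        (Cfsg.Agent.Helper3.BGAlpha.hypAlpha hG) hM hqσM hAqq hAqM
        (not_isCyclic_of_ea_sq hAqe hAqcard)
    -- `A'` is conjugate into `E_L`
    obtain ⟨E', hE', hA'E'⟩ := Cfsg.Agent.Helper4.BG10.exists_compl_sigmaCore_ge hG hL hA'L (by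
      intro t ht hd
      rw [hA'.2.2] at hd
      have : t = p := (Nat.prime_dvd_prime_iff_eq ht hp.out).1 (ht.dvd_of_dvd_pow hd)
      rw [this]; exact hpL)
    obtain ⟨l, hl, hlE⟩ := Cfsg.Agent.Lead.BG127.exists_conj_compl hG hL hEL hE'
    have hle : A'.map (MulAut.conj l).toMonoidHom ≤ M := by
      have h1 : MulAut.conj l • A' ≤ MulAut.conj l • E' := conj_smul_mono hA'E' l
      rw [hlE] at h1
      exact h1.trans (hELN.trans hNAq)
    refine false_of_ea_sq_of_cyclic_sylow hSM hSc hScard hle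
      (Cfsg.Agent.Helper3.BGAlpha.elementary_map_conj hA'.2.1 l) ?_
    rw [Cfsg.Agent.Lead.card_map_conj]; exact hA'.2.2

end Cfsg.Agent.Helper3.BG131
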