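import Mathlib
import Cfsg.Prelude
import Cfsg.Agent.Helper3.BG131b

set_option autoImplicit false
set_option linter.unusedSectionVars false
set_option linter.unusedVariables false

/-!
Bender–Glauberman Corollary 13.3(a): the case `p ∈ τ₂(H)` and the final statement: a cyclic Sylow
subgroup `S` of a complement `E` of `M_σ` acts in a prime manner on `M_σ`.
-/

namespace Cfsg.Agent.Helper3.BG131

open Cfsg Cfsg.Agent.Helper1 Cfsg.Agent.Helper1.BGU Cfsg.Agent.Helper1.BGX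
open scoped commutatorElement Pointwise

universe u

variable {G : Type u} [Group G] [Finite G]

/-- **The case `p ∈ τ₂(H)`.** -/
theorem commute_of_mem_tau2 (hG : Cfsg.IsMinSimpleOddOrder G) {M H : Subgroup G}
    (hM : IsCoatom M) (hH : IsCoatom H) (hnc : ∀ x : G, M ≠ MulAut.conj x • H) {p : ℕ}
    [hp : Fact p.Prime] (hpM : p ∉ Cfsg.sigma M) (hpH : p ∈ Cfsg.tau2 H) {S X : Subgroup G}
    (hSM : S ≤ M) (hSc : IsCyclic ↥S) (hSp : IsPGroup p ↥S)
    (hScard : Nat.card S = p ^ (Nat.card M).factorization p) (hXS : X ≤ S)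
    (hXcard : Nat.card X = p) (hNX : Subgroup.normalizer (X : Set G) ≤ H) {y s : G}
    (hy : y ∈ Cfsg.sigmaCore M) (hyX : y ∈ Subgroup.centralizer (X : Set G)) (hs : s ∈ S) :
    y * s = s * y := by
  have hp1 := hp.out.one_lt
  have hX1 : X ≠ ⊥ := by
    intro h
    rw [h, Subgroup.card_bot] at hXcard
    exact hp1.ne hXcard
  have hScomm : ∀ a ∈ S, ∀ b ∈ S, a * b = b * a := by
    intro a ha b hb
    have := (IsCyclic.commGroup (α := ↥S)).mul_comm ⟨a, ha⟩ ⟨b, hb⟩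
    exact congrArg Subtype.val this
  have hSCX : S ≤ Subgroup.centralizer (X : Set G) := by
    intro a ha
    refine Subgroup.mem_centralizer_iff.2 ?_
    intro x hx
    exact hScomm x (hXS hx) a ha
  have hCXH : Subgroup.centralizer (X : Set G) ≤ H :=
    (Subgroup.centralizer_le_normalizer _).trans hNX
  have hSH : S ≤ H := hSCX.trans hCXH
  have hyH : y ∈ H := hCXH hyX
  -- `H_σ` is nilpotent, so `σ(M) ∩ σ(H) = ∅`
  obtain ⟨A₀, hA₀H, hA₀e, hA₀card⟩ :=
    Cfsg.Agent.Helper4.BG12.exists_ea2_of_not_pRankLE_one hG hpH.2.2.2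
  have t125 := Cfsg.Agent.Helper4.BG12.thm125 hG hH hpH ⟨hA₀H, hA₀e, hA₀card⟩
  have hnil := t125.1
  have hdisj : ∀ r : ℕ, r ∈ Cfsg.sigma M → r ∉ Cfsg.sigma H := fun r hrM hrH =>
    Cfsg.Agent.Helper4.BG11.not_mem_sigma_of_isNilpotent_sigmaCore hG hH hM hnil hnc hrH hrM
  -- the subgroup `D₀ = C_{M_σ}(X) S`
  obtain ⟨Y, hY⟩ : ∃ Y : Subgroup G, Y = Cfsg.sigmaCore M ⊓ Subgroup.centralizer (X : Set G) :=
    ⟨_, rfl⟩
  have hYσ : Y ≤ Cfsg.sigmaCore M := by rw [hY]; exact inf_le_left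
  have hYH : Y ≤ H := by rw [hY]; exact inf_le_right.trans hCXH
  have hyY : y ∈ Y := by rw [hY]; exact ⟨hy, hyX⟩
  have hSNY : S ≤ Subgroup.normalizer (Y : Set G) := by
    intro a ha
    rw [hY]
    exact Cfsg.Agent.Helper4.BG10.mem_normalizer_inf
      (Cfsg.Agent.Lead.BG12.le_normalizer_sigmaCore M (hSM ha))
      (Subgroup.le_normalizer (hSCX ha))
  have hD₀H : Y ⊔ S ≤ H := sup_le hYH hSH
  have hcardD := Cfsg.Agent.Helper1.card_sup_mul_card_inf (N := Y) (A := S) hSNY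
  obtain ⟨k, hk⟩ := IsPGroup.iff_card.mp hSp
  have hD₀π : ∀ t : ℕ, t.Prime → t ∣ Nat.card ↥(Y ⊔ S) → t ∉ Cfsg.sigma H := by
    intro t ht hd
    have h1 : t ∣ Nat.card Y * Nat.card S := by
      rw [← hcardD]; exact Dvd.dvd.mul_right hd _
    rcases (Nat.Prime.dvd_mul ht).1 h1 with h2 | h2
    · apply hdisj
      exact Cfsg.Agent.Lead.BG12.mem_sigma_of_dvd_card_sigmaCore ht
        (h2.trans (Subgroup.card_dvd_of_le hYσ))
    · rw [hk] at h2
      have : t = p := (Nat.prime_dvd_prime_iff_eq ht hp.out).1 (ht.dvd_of_dvd_pow h2)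
      rw [this]; exact hpH.2.1
  obtain ⟨EH, hEH, hD₀E⟩ := Cfsg.Agent.Helper4.BG10.exists_compl_sigmaCore_ge hG hH hD₀H hD₀π
  obtain ⟨A', hA'E, hA'e, hA'card⟩ :=
    Cfsg.Agent.Lead.BG127.exists_elementary_le_compl hG hH hEH hpH
  have c126 := Cfsg.Agent.Helper4.BG12.cor126 hG hH hpH hEH ⟨hA'E, hA'e, hA'card⟩
  have hEN : EH ≤ Subgroup.normalizer (A' : Set G) := c126.1.1
  have hSE : S ≤ EH := le_sup_right.trans hD₀E
  have hYE : Y ≤ EH := le_sup_left.trans hD₀E
  have hXA' : X ≤ A' := c126.1.2 X (hXS.trans hSE) hXcard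
  have hA'H : A' ≤ H := hA'E.trans hEH.1
  -- `S` centralizes `A'`
  have hSCA : S ≤ Subgroup.centralizer (A' : Set G) := by
    have hSNA : S ≤ Subgroup.normalizer (A' : Set G) := hSE.trans hEN
    have hcardT := Cfsg.Agent.Helper1.card_sup_mul_card_inf (N := A') (A := S) hSNA
    have hTp : IsPGroup p ↥(A' ⊔ S) := by
      have h1 : Nat.card ↥(A' ⊔ S) ∣ p ^ (2 + k) := by
        rw [pow_add, ← hA'card, ← hk, ← hcardT]
        exact Dvd.intro _ rfl
      obtain ⟨j, -, hj⟩ := (Nat.dvd_prime_pow hp.out).1 h1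
      exact IsPGroup.of_card hj
    have hTH : A' ⊔ S ≤ H := sup_le hA'H hSH
    obtain ⟨P, hP⟩ :=
      (hTp.comap_subtype : IsPGroup p ↥((A' ⊔ S).subgroupOf H)).exists_le_sylow
    have hPc := (t125.2.1 P).1
    intro a ha
    refine Subgroup.mem_centralizer_iff.2 ?_
    intro b hb
    have haP : (⟨a, hSH ha⟩ : ↥H) ∈ (P : Subgroup ↥H) :=
      hP (Subgroup.mem_subgroupOf.2 (Subgroup.mem_sup_right ha))
    have hbP : (⟨b, hA'H hb⟩ : ↥H) ∈ (P : Subgroup ↥H) :=
      hP (Subgroup.mem_subgroupOf.2 (Subgroup.mem_sup_left hb))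
    have := hPc.is_comm.comm ⟨_, hbP⟩ ⟨_, haP⟩
    have h2 := congrArg (fun z : ↥(P : Subgroup ↥H) => ((z : ↥H) : G)) this
    simpa using h2
  have hyN : y ∈ Subgroup.normalizer (A' : Set G) := hEN (hYE hyY)
  -- the commutator
  by_contra hne
  obtain ⟨c, hc⟩ : ∃ c : G, c = y * s * y⁻¹ * s⁻¹ := ⟨_, rfl⟩
  have hc1 : c ≠ 1 := by
    intro h
    apply hne
    calc y * s = (y * s * y⁻¹ * s⁻¹) * (s * y) := by group
      _ = s * y := by rw [← hc, h, one_mul]
  have hcM : c ∈ Cfsg.sigmaCore M := hc ▸ commutator_mem_sigmaCore hy (hSM hs)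
  have hcA : c ∈ Subgroup.centralizer (A' : Set G) :=
    hc ▸ commutator_mem_centralizer hyN (hSCA hs)
  have hord : orderOf c ≠ 1 := fun h => hc1 (orderOf_eq_one_iff.1 h)
  obtain ⟨q, hq, hqd⟩ := Nat.exists_prime_and_dvd hord
  haveI := Fact.mk hq
  have hwq : orderOf (c ^ (orderOf c / q)) = q :=
    orderOf_pow_orderOf_div (orderOf_pos c).ne' hqd
  exact false_of_centralizing_ea hG hM hH hpH hSM hSc hScard (hXS.trans hSM) hXA' hX1
    ⟨hA'H, hA'e, hA'card⟩ (Subgroup.pow_mem _ hcM _) hwq (Subgroup.pow_mem _ hcA _)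

/-- **Bender–Glauberman Corollary 13.3(a)**: a nontrivial cyclic Sylow subgroup `S` of a
complement `E` of `M_σ` acts in a prime manner on `M_σ`. -/
theorem prime_action (hG : Cfsg.IsMinSimpleOddOrder G) (M : Subgroup G) (hM : IsCoatom M)
    (E : Subgroup G) (hE : Cfsg.IsComplIn E (Cfsg.sigmaCore M) M) (p : ℕ) [hp : Fact p.Prime]
    (S : Sylow p ↥E) (hS1 : (S : Subgroup ↥E) ≠ ⊥) (hSc : IsCyclic ↥(S : Subgroup ↥E)) :
    ∀ x ∈ (S : Subgroup ↥E).map E.subtype, x ≠ 1 →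
      Cfsg.sigmaCore M ⊓ Subgroup.centralizer ({x} : Set G) =
        Cfsg.sigmaCore M ⊓
          Subgroup.centralizer ((((S : Subgroup ↥E).map E.subtype : Subgroup G)) : Set G) := by
  have hp1 := hp.out.one_lt
  obtain ⟨SG, hSG⟩ : ∃ SG : Subgroup G, SG = (S : Subgroup ↥E).map E.subtype := ⟨_, rfl⟩
  rw [← hSG]
  have hSGE : SG ≤ E := by rw [hSG]; exact Subgroup.map_subtype_le _
  have hSGM : SG ≤ M := hSGE.trans hE.1
  have hSGp : IsPGroup p ↥SG := by rw [hSG]; exact S.2.map _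
  have hSGc : IsCyclic ↥SG := by
    have e : ↥(S : Subgroup ↥E) ≃* ↥((S : Subgroup ↥E).map E.subtype) :=
      (S : Subgroup ↥E).equivMapOfInjective E.subtype E.subtype_injective
    rw [hSG]
    exact isCyclic_of_surjective e.toMonoidHom e.surjective
  have hSGcardS : Nat.card SG = Nat.card ↥(S : Subgroup ↥E) := by
    rw [hSG]; exact Subgroup.card_map_of_injective E.subtype_injective
  have hSG1 : SG ≠ ⊥ := by
    intro h
    apply hS1
    rw [← Subgroup.card_eq_one, ← hSGcardS, h, Subgroup.card_bot]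
  have hpE : p ∣ Nat.card E :=
    (Cfsg.Agent.Helper1.BGV.dvd_card_of_isPGroup_ne_bot hSGp hSG1).trans (Subgroup.card_dvd_of_le hSGE)
  have hpM : p ∉ Cfsg.sigma M :=
    Cfsg.Agent.Helper4.BG12.not_mem_sigma_of_dvd_card_compl hG hM hE hp.out hpE
  have hSGcard : Nat.card SG = p ^ (Nat.card M).factorization p := by
    rw [hSGcardS, S.card_eq_multiplicity,
      Cfsg.Agent.Helper4.BG10.factorization_compl_eq hE hp.out hpM]
  -- the main claim
  have main : ∀ x₀ ∈ SG, x₀ ≠ 1 → x₀ ^ p = 1 → ∀ y ∈ Cfsg.sigmaCore M, y * x₀ = x₀ * y →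
      ∀ s ∈ SG, y * s = s * y := by
    intro x₀ hx₀ hx₀1 hx₀p y hy hyx s hs
    obtain ⟨X, hX⟩ : ∃ X : Subgroup G, X = Subgroup.zpowers x₀ := ⟨_, rfl⟩
    have hXcard : Nat.card X = p := by
      rw [hX, Nat.card_zpowers]; exact orderOf_eq_prime hx₀p hx₀1
    have hXS : X ≤ SG := by rw [hX]; exact Subgroup.zpowers_le.2 hx₀
    have hXp : IsPGroup p ↥X := hSGp.to_le hXS
    have hX1 : X ≠ ⊥ := by
      rw [hX]; exact fun h => hx₀1 (Subgroup.zpowers_eq_bot.1 h)
    have hXtop : X ≠ ⊤ := sylow_ne_top hG p _ hXp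
    obtain ⟨H, hH, hNX⟩ := exists_coatom_ge (normalizer_ne_top_of_simple hG hX1 hXtop)
    have hNS : Subgroup.normalizer (SG : Set G) ≤ Subgroup.normalizer (X : Set G) :=
      Cfsg.Agent.Lead.BG12.normalizer_le_normalizer_of_isCyclic hSGc hXS
    have hSGH : SG ≤ H := Subgroup.le_normalizer.trans (hNS.trans hNX)
    have hyX : y ∈ Subgroup.centralizer (X : Set G) := by
      refine Subgroup.mem_centralizer_iff.2 ?_
      intro z hz
      rw [hX] at hz
      obtain ⟨n, rfl⟩ := Subgroup.mem_zpowers_iff.1 hz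
      exact ((Commute.zpow_left (show Commute x₀ y from hyx.symm) n).eq)
    have hyH : y ∈ H := hNX (Subgroup.centralizer_le_normalizer _ hyX)
    -- `H` is not conjugate to `M`
    have hnc : ∀ g : G, M ≠ MulAut.conj g • H := by
      intro g hg
      have hcardMH : Nat.card M = Nat.card H := by rw [hg, card_conj_smul]
      have hcardH : Nat.card SG = p ^ (Nat.card H).factorization p := by
        rw [hSGcard, hcardMH]
      have hpσH : p ∈ Cfsg.sigma H :=
        Cfsg.Agent.Lead.BG12.mem_sigma_of_normalizer_le hSGH hSG1 hSGp hcardH (hNS.trans hNX)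
      have hHM : H = MulAut.conj g⁻¹ • M := by
        rw [hg, Cfsg.Agent.Helper1.BGT.conj_smul_smul, inv_mul_cancel, map_one, one_smul]
      have hH' : IsCoatom (MulAut.conj g⁻¹ • M) := hHM ▸ hH
      exact hpM (Cfsg.Agent.Lead.BG12.mem_sigma_of_mem_sigma_conj_smul hG hH' (hHM ▸ hpσH))
    rcases Cfsg.Agent.Lead.BG12.lemma122a hG hH hXp hX1 hNX with hpσ | hpτ
    · exact commute_of_mem_sigma hG hM hH hnc hpM hpσ hy hyH (hSGM hs) (hSGH hs)
        (hSGp.to_le (Subgroup.zpowers_le.2 hs))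
    · exact commute_of_mem_tau2 hG hM hH hnc hpM hpτ hSGM hSGc hSGp hSGcard hXS hXcard hNX hy
        hyX hs
  intro x hx hx1
  ext y
  rw [Subgroup.mem_inf, Subgroup.mem_inf]
  constructor
  · rintro ⟨hyσ, hyx⟩
    refine ⟨hyσ, Subgroup.mem_centralizer_iff.2 ?_⟩
    intro s hs
    -- an element of order `p` in `⟨x⟩`
    have hyx' : x * y = y * x := (Subgroup.mem_centralizer_singleton_iff.1 hyx).symm
    have hxp : IsPGroup p ↥(Subgroup.zpowers x) := hSGp.to_le (Subgroup.zpowers_le.2 hx)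
    obtain ⟨k, hk⟩ := IsPGroup.iff_card.mp hxp
    rw [Nat.card_zpowers] at hk
    have hk0 : k ≠ 0 := by
      rintro rfl
      rw [pow_zero, orderOf_eq_one_iff] at hk
      exact hx1 hk
    have hpd : p ∣ orderOf x := by rw [hk]; exact dvd_pow_self p hk0
    have hord : orderOf (x ^ (orderOf x / p)) = p :=
      orderOf_pow_orderOf_div (orderOf_pos x).ne' hpd
    have hx₀1 : x ^ (orderOf x / p) ≠ 1 := by
      intro h
      rw [h, orderOf_one] at hord
      exact hp1.ne hord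
    have hx₀p : (x ^ (orderOf x / p)) ^ p = 1 :=
      orderOf_dvd_iff_pow_eq_one.1 (by rw [hord])
    have hcomm : y * x ^ (orderOf x / p) = x ^ (orderOf x / p) * y :=
      ((Commute.pow_left (show Commute x y from hyx') _).eq).symm
    exact (main _ (Subgroup.pow_mem _ hx _) hx₀1 hx₀p y hyσ hcomm s hs).symm
  · rintro ⟨hyσ, hyS⟩
    refine ⟨hyσ, Subgroup.mem_centralizer_singleton_iff.2 ?_⟩
    exact (Subgroup.mem_centralizer_iff.1 hyS x hx).symm

end Cfsg.Agent.Helper3.BG131
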