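import Mathlib
import Cfsg.Prelude
import Cfsg.Agent.Helper3.BG131c

set_option autoImplicit false
set_option linter.unusedSectionVars false
set_option linter.unusedVariables false

/-!
Bender–Glauberman Lemma 13.1(a) / 13.2 in the general form (C): if `M`, `H` are non-conjugate
maximal subgroups, `r ∉ σ(M)` and `r ∉ τ₁(H)`, then every `r`-element of `M ∩ H` centralizes
`M_σ ∩ H`.
-/

namespace Cfsg.Agent.Helper3.BG134

open Cfsg Cfsg.Agent.Helper1 Cfsg.Agent.Helper1.BGU Cfsg.Agent.Helper1.BGX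
open Cfsg.Agent.Helper3.BG131
open scoped commutatorElement Pointwise

universe u

variable {G : Type u} [Group G] [Finite G]

/-- an `r`-element of `H` lies in `H'` when `r ∈ τ₃(H)` -/
theorem mem_commutator_of_mem_tau3 (hG : Cfsg.IsMinSimpleOddOrder G) {H : Subgroup G} {r : ℕ}
    [hr : Fact r.Prime] (hrτ : r ∈ Cfsg.tau3 H) {s : G} (hsH : s ∈ H)
    (hsr : IsPGroup r ↥(Subgroup.zpowers s)) : s ∈ ⁅H, H⁆ := by
  have hnd := Cfsg.Agent.Lead.BG12.not_dvd_index_commutator_of_mem_tau3 hG hrτ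
  have hz : IsPGroup r ↥(Subgroup.zpowers (⟨s, hsH⟩ : ↥H)) := by
    obtain ⟨k, hk⟩ := IsPGroup.iff_card.mp hsr
    apply IsPGroup.of_card (n := k)
    rw [Nat.card_zpowers] at hk ⊢
    rw [← hk]
    exact (orderOf_injective H.subtype H.subtype_injective ⟨s, hsH⟩).symm
  obtain ⟨P, hP⟩ := hz.exists_le_sylow
  have h1 : (⟨s, hsH⟩ : ↥H) ∈ commutator ↥H :=
    Cfsg.Agent.Helper4.sylow_le_normal_of_not_dvd_index r (commutator ↥H) hnd P
      (hP (Subgroup.mem_zpowers _))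
  rw [← Subgroup.map_subtype_commutator]
  exact ⟨⟨s, hsH⟩, h1, rfl⟩

/-- **(T1)**: a `p`-element `s` of `M ∩ H'` centralizes `M_σ ∩ H`, for `p ∉ σ(M)` and `H` not
conjugate to `M`. -/
theorem commute_of_mem_commutator (hG : Cfsg.IsMinSimpleOddOrder G) {M H : Subgroup G}
    (hM : IsCoatom M) (hH : IsCoatom H) (hnc : ∀ x : G, M ≠ MulAut.conj x • H) {p : ℕ}
    [hp : Fact p.Prime] (hpM : p ∉ Cfsg.sigma M) {y s : G}
    (hy : y ∈ Cfsg.sigmaCore M) (hyH : y ∈ H) (hsM : s ∈ M) (hsH' : s ∈ ⁅H, H⁆)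
    (hsp : IsPGroup p ↥(Subgroup.zpowers s)) : y * s = s * y := by
  obtain ⟨c, hc⟩ : ∃ c : G, c = y * s * y⁻¹ * s⁻¹ := ⟨_, rfl⟩
  have hcM : c ∈ Cfsg.sigmaCore M := hc ▸ commutator_mem_sigmaCore hy hsM
  have hcH : c ∈ ⁅H, H⁆ := by
    have hn := Cfsg.Agent.Lead.BG12.le_normalizer_commutator_self H hyH
    have h1 : y * s * y⁻¹ ∈ ⁅H, H⁆ := (Subgroup.mem_normalizer_iff.1 hn s).1 hsH'
    rw [hc]
    exact Subgroup.mul_mem _ h1 (Subgroup.inv_mem _ hsH')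
  have hcop : (orderOf c).Coprime (orderOf s) := coprime_orderOf_of_mem_sigmaCore hpM hcM hsp
  have h1 : c * s * c⁻¹ * s⁻¹ ∈ Cfsg.alphaCore H :=
    Cfsg.Agent.Lead.BG127.commutator_mem_alphaCore hG hH hcH hsH' hcop
  have h2 : c * s * c⁻¹ * s⁻¹ ∈ Cfsg.sigmaCore M := commutator_mem_sigmaCore hcM hsM
  have hbot := Cfsg.Agent.Helper4.BG11.alphaCore_inf_sigmaCore_eq_bot hG hH hM hnc
  have h3 : c * s * c⁻¹ * s⁻¹ = 1 := by
    have : c * s * c⁻¹ * s⁻¹ ∈ Cfsg.alphaCore H ⊓ Cfsg.sigmaCore M := ⟨h1, h2⟩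
    rw [hbot, Subgroup.mem_bot] at this
    exact this
  have hcs : c * s = s * c := by
    calc c * s = (c * s * c⁻¹ * s⁻¹) * (s * c) := by group
      _ = s * c := by rw [h3, one_mul]
  apply commute_of_commute_commutator
  · rw [← hc]; exact hcs
  · rw [← hc]; exact hcop

/-- a prime `p ∉ σ(M)` for which `M` contains an elementary abelian subgroup of order `p ^ 2`
lies in `τ₂(M)` -/
theorem mem_tau2_of_ea_sq (hG : Cfsg.IsMinSimpleOddOrder G) {M : Subgroup G} (hM : IsCoatom M)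
    {p : ℕ} [hp : Fact p.Prime] (hpM : p ∉ Cfsg.sigma M) {A : Subgroup G} (hAM : A ≤ M)
    (hAe : Cfsg.IsElementaryAbelian p A) (hAcard : Nat.card A = p ^ 2) : p ∈ Cfsg.tau2 M := by
  refine ⟨hp.out, hpM, ?_, ?_⟩
  · apply pRankLE_of_not_mem_alpha hp.out
    intro hα
    exact hpM (alpha_subset_sigma hG hM hα)
  · refine not_pRankLE_of_hasEA ⟨A, hAM, hAe, ?_⟩
    rw [hAcard, pow_one]
    have := hp.out.one_lt
    nlinarith

/-- if `M ∌ σ`-prime `p` has an `E_{p²}` subgroup `A ≤ M ∩ L`, `L ≠ M`, then `M_σ ∩ L = 1` -/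
theorem false_of_ea_le (hG : Cfsg.IsMinSimpleOddOrder G) {M L : Subgroup G} (hM : IsCoatom M)
    (hL : IsCoatom L) (hLM : L ≠ M) {p : ℕ} [hp : Fact p.Prime] (hpM : p ∉ Cfsg.sigma M)
    {A : Subgroup G} (hAM : A ≤ M) (hAL : A ≤ L) (hAe : Cfsg.IsElementaryAbelian p A)
    (hAcard : Nat.card A = p ^ 2) {w : G} (hw : w ∈ Cfsg.sigmaCore M) (hwL : w ∈ L)
    (hw1 : w ≠ 1) : False := by
  have hpτ := mem_tau2_of_ea_sq hG hM hpM hAM hAe hAcard
  have t125 := Cfsg.Agent.Helper4.BG12.thm125 hG hM hpτ ⟨hAM, hAe, hAcard⟩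
  have h1 : Cfsg.sigmaCore M ⊓ L = ⊥ := t125.2.2.2.2.1 L hL hLM hAL
  have h2 : w ∈ Cfsg.sigmaCore M ⊓ L := ⟨hw, hwL⟩
  rw [h1, Subgroup.mem_bot] at h2
  exact hw1 h2

end Cfsg.Agent.Helper3.BG134
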