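import Mathlib
import Cfsg.Prelude
import Cfsg.Agent.Helper3.BG134a

set_option autoImplicit false
set_option linter.unusedSectionVars false
set_option linter.unusedVariables false

/-!
Bender–Glauberman Lemma 13.1(a) / 13.2 in the general form (C): the case `r ∈ τ₂(H)`, and the
statement (C) itself.
-/

namespace Cfsg.Agent.Helper3.BG134

open Cfsg Cfsg.Agent.Helper1 Cfsg.Agent.Helper1.BGU Cfsg.Agent.Helper1.BGX
open Cfsg.Agent.Helper3.BG131
open scoped commutatorElement Pointwise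

universe u

variable {G : Type u} [Group G] [Finite G]

/-- **Core contradiction, general form.**  `p ∉ σ(M)`, `p ∈ τ₂(H)`, `H ≠ M`, `A' ≤ H` is
elementary abelian of order `p ^ 2` meeting `M` nontrivially, and `A'` centralizes an element `w`
of prime order of `M_σ`. -/
theorem false_of_centralizing_ea' (hG : Cfsg.IsMinSimpleOddOrder G) {M H : Subgroup G}
    (hM : IsCoatom M) (hH : IsCoatom H) (hHM : H ≠ M) {p : ℕ} [hp : Fact p.Prime]
    (hpτ : p ∈ Cfsg.tau2 H) (hpM : p ∉ Cfsg.sigma M)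
    {X A' : Subgroup G} (hXM : X ≤ M) (hXA : X ≤ A')
    (hX1 : X ≠ ⊥)
    (hA' : A' ≤ H ∧ Cfsg.IsElementaryAbelian p A' ∧ Nat.card A' = p ^ 2) {q : ℕ}
    [hq : Fact q.Prime] {w : G} (hw : w ∈ Cfsg.sigmaCore M) (hwq : orderOf w = q)
    (hwA : w ∈ Subgroup.centralizer (A' : Set G)) : False := by
  have hA'p : IsPGroup p ↥A' := Cfsg.Agent.Helper3.BGAlpha.isPGroup_of_elementary hA'.2.1
  have hXp : IsPGroup p ↥X := hA'p.to_le hXA
  have hw1 : w ≠ 1 := by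
    rintro rfl
    rw [orderOf_one] at hwq
    exact hq.out.one_lt.ne hwq
  -- `Q₁ = ⟨w⟩`
  obtain ⟨Q₁, hQ₁⟩ : ∃ Q₁ : Subgroup G, Q₁ = Subgroup.zpowers w := ⟨_, rfl⟩
  have hQ₁card : Nat.card Q₁ = q := by rw [hQ₁, Nat.card_zpowers, hwq]
  have hQ₁q : IsPGroup q ↥Q₁ := IsPGroup.of_card (n := 1) (by rw [hQ₁card, pow_one])
  have hQ₁1 : Q₁ ≠ ⊥ := by
    rw [hQ₁]; exact fun h => hw1 (Subgroup.zpowers_eq_bot.1 h)
  have hQ₁top : Q₁ ≠ ⊤ := sylow_ne_top hG q _ hQ₁q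
  have hQ₁σ : Q₁ ≤ Cfsg.sigmaCore M := by rw [hQ₁]; exact Subgroup.zpowers_le.2 hw
  have hQ₁M : Q₁ ≤ M := hQ₁σ.trans Cfsg.Agent.Lead.BG12.sigmaCore_le
  have hqσM : q ∈ Cfsg.sigma M := by
    apply Cfsg.Agent.Lead.BG12.mem_sigma_of_dvd_card_sigmaCore hq.out
    rw [← hwq]
    exact Subgroup.orderOf_dvd_natCard _ hw
  have hA'N : A' ≤ Subgroup.normalizer (Q₁ : Set G) := by
    intro a ha
    rw [hQ₁]
    apply Cfsg.Agent.Helper4.BG10.centralizer_singleton_le_normalizer_zpowers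
    refine Subgroup.mem_centralizer_singleton_iff.2 ?_
    exact (Subgroup.mem_centralizer_iff.1 hwA a ha)
  obtain ⟨L, hL, hNL⟩ := exists_coatom_ge (normalizer_ne_top_of_simple hG hQ₁1 hQ₁top)
  have hA'L : A' ≤ L := hA'N.trans hNL
  have hQ₁L : Q₁ ≤ L := Subgroup.le_normalizer.trans hNL
  by_cases hLM : L = M
  · have hwH : w ∈ H := Cfsg.Agent.Helper4.BG12.centralizer_le_of_tau2 hG hH hpτ hA' hwA
    exact false_of_ea_le hG hM hH hHM hpM (hLM ▸ hA'L) hA'.1 hA'.2.1 hA'.2.2 hw hwH hw1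
  -- a Sylow `q`-subgroup `T` of `M ∩ L`
  obtain ⟨T, hQ₁T, hTML, hTq, hTcard⟩ :=
    Cfsg.Agent.Lead.exists_le_card_eq_ppart hQ₁q (le_inf hQ₁M hQ₁L)
  have hmax : ∀ T' : Subgroup G, IsPGroup q ↥T' → T ≤ T' → T' ≤ M ⊓ L → T' = T := by
    intro T' hT'q hTT' hT'ML
    have h1 := Cfsg.Agent.Lead.card_dvd_ppart_of_isPGroup hT'q hT'ML
    rw [← hTcard] at h1
    exact (Subgroup.eq_of_le_of_card_ge hTT' (Nat.le_of_dvd Nat.card_pos h1)).symm
  obtain ⟨hNT, hTcardL⟩ := Cfsg.Agent.Helper4.BG10.sigma_subgroup_embedding hG hM hL hLM hqσM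
    hQ₁1 hQ₁T hNL hTq hTML hmax
  have hTM : T ≤ M := hTML.trans inf_le_left
  have hTL : T ≤ L := hTML.trans inf_le_right
  by_cases hqL : q ∈ Cfsg.sigma L
  · -- case (d)
    have hTcardG : Nat.card T = q ^ (Nat.card G).factorization q := by
      rw [hTcardL, Cfsg.Agent.Helper4.BG12.factorization_eq_of_mem_sigma hG hL hqL]
    have cL : SigCtx L q T := Cfsg.Agent.Helper4.BG12.sigCtx_of_sylow hG hL hqL hTL hTq hTcardG
    by_cases hpβ : p ∈ Cfsg.beta L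
    · exact false_of_ideal_tau2 hG hH hpτ hA' hpβ.2
    · have hnd := Cfsg.Agent.Helper4.BG10.sigCtx_not_dvd_relIndex_normalizer cL hp.out hpβ
      have hfac := Cfsg.Agent.Lead.BG12.factorization_eq_of_not_dvd_relIndex
        (inf_le_left : L ⊓ Subgroup.normalizer (T : Set G) ≤ L) hp.out hnd
      obtain ⟨PN, -, hPNle, hPNp, hPNcard⟩ :=
        Cfsg.Agent.Lead.exists_le_card_eq_ppart (p := p)
          (H := L ⊓ Subgroup.normalizer (T : Set G)) (U := ⊥) IsPGroup.of_bot bot_le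
      rw [hfac] at hPNcard
      obtain ⟨m, hm, hmA⟩ := Cfsg.Agent.Lead.exists_conj_le_of_card_eq_ppart
        (hPNle.trans inf_le_left) hPNcard hA'L hA'p
      have hle : A'.map (MulAut.conj m).toMonoidHom ≤ M :=
        hmA.trans (hPNle.trans (inf_le_right.trans hNT))
      have hleL : A'.map (MulAut.conj m).toMonoidHom ≤ L := by
        rintro _ ⟨a, ha, rfl⟩
        exact L.mul_mem (L.mul_mem hm (hA'L ha)) (L.inv_mem hm)
      refine false_of_ea_le hG hM hL hLM hpM hle hleL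
        (Cfsg.Agent.Helper3.BGAlpha.elementary_map_conj hA'.2.1 m) ?_ hw
        (hQ₁L (hQ₁ ▸ Subgroup.mem_zpowers w)) hw1
      rw [Cfsg.Agent.Lead.card_map_conj]; exact hA'.2.2
  · -- case (e)
    have hqτL : q ∈ Cfsg.tau2 L :=
      (Cfsg.Agent.Lead.BG12.lemma122a hG hL hQ₁q hQ₁1 hNL).resolve_left hqL
    obtain ⟨Aq₀, hAq₀L, hAq₀e, hAq₀card⟩ :=
      Cfsg.Agent.Helper4.BG12.exists_ea2_of_not_pRankLE_one hG hqτL.2.2.2
    obtain ⟨m, hm, hmAq⟩ := Cfsg.Agent.Lead.exists_conj_le_of_card_eq_ppart hTL hTcardL hAq₀L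
      (Cfsg.Agent.Helper3.BGAlpha.isPGroup_of_elementary hAq₀e)
    obtain ⟨Aq, hAq⟩ : ∃ Aq : Subgroup G, Aq = Aq₀.map (MulAut.conj m).toMonoidHom := ⟨_, rfl⟩
    have hAqe : Cfsg.IsElementaryAbelian q Aq :=
      hAq ▸ Cfsg.Agent.Helper3.BGAlpha.elementary_map_conj hAq₀e m
    have hAqcard : Nat.card Aq = q ^ 2 := by
      rw [hAq, Cfsg.Agent.Lead.card_map_conj]; exact hAq₀card
    have hAqT : Aq ≤ T := hAq ▸ hmAq
    have hAqM : Aq ≤ M := hAqT.trans hTM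
    have hAqL : Aq ≤ L := hAqT.trans hTL
    have hAqq : IsPGroup q ↥Aq := Cfsg.Agent.Helper3.BGAlpha.isPGroup_of_elementary hAqe
    have t125 := Cfsg.Agent.Helper4.BG12.thm125 hG hL hqτL ⟨hAqL, hAqe, hAqcard⟩
    have hLσM : Cfsg.sigmaCore L ⊓ M = ⊥ := t125.2.2.2.2.1 M hM (Ne.symm hLM) hAqM
    -- `p ∉ σ(L)`
    have hpL : p ∉ Cfsg.sigma L := by
      intro hpσ
      have h1 : X ≤ Cfsg.sigmaCore L :=
        Cfsg.Agent.Lead.BG12.le_sigmaCore' hG hL hpσ (hXA.trans hA'L) hXp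
      have h2 : X ≤ Cfsg.sigmaCore L ⊓ M := le_inf h1 hXM
      rw [hLσM] at h2
      exact hX1 (le_bot_iff.1 h2)
    -- a complement `E_L ⊇ A_q`
    obtain ⟨EL, hEL, hAqEL⟩ := Cfsg.Agent.Helper4.BG10.exists_compl_sigmaCore_ge hG hL hAqL (by
      intro t ht hd
      rw [hAqcard] at hd
      have : t = q := (Nat.prime_dvd_prime_iff_eq ht hq.out).1 (ht.dvd_of_dvd_pow hd)
      rw [this]; exact hqL)
    have c126 := Cfsg.Agent.Helper4.BG12.cor126 hG hL hqτL hEL ⟨hAqEL, hAqe, hAqcard⟩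
    have hELN : EL ≤ Subgroup.normalizer (Aq : Set G) := c126.1.1
    have hNAq : Subgroup.normalizer (Aq : Set G) ≤ M :=
      Cfsg.Agent.Helper4.BG12.normalizer_le_of_not_isCyclic hG
        (Cfsg.Agent.Helper3.BGAlpha.hypAlpha hG) hM hqσM hAqq hAqM
        (not_isCyclic_of_ea_sq hAqe hAqcard)
    -- `A'` is conjugate into `E_L`
    obtain ⟨E', hE', hA'E'⟩ := Cfsg.Agent.Helper4.BG10.exists_compl_sigmaCore_ge hG hL hA'L (by
      intro t ht hd
      rw [hA'.2.2] at hd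
      have : t = p := (Nat.prime_dvd_prime_iff_eq ht hp.out).1 (ht.dvd_of_dvd_pow hd)
      rw [this]; exact hpL)
    obtain ⟨l, hl, hlE⟩ := Cfsg.Agent.Lead.BG127.exists_conj_compl hG hL hEL hE'
    have hle : A'.map (MulAut.conj l).toMonoidHom ≤ M := by
      have h1 : MulAut.conj l • A' ≤ MulAut.conj l • E' := conj_smul_mono hA'E' l
      rw [hlE] at h1
      exact h1.trans (hELN.trans hNAq)
    have hleL : A'.map (MulAut.conj l).toMonoidHom ≤ L := by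
      rintro _ ⟨a, ha, rfl⟩
      exact L.mul_mem (L.mul_mem hl (hA'L ha)) (L.inv_mem hl)
    refine false_of_ea_le hG hM hL hLM hpM hle hleL
      (Cfsg.Agent.Helper3.BGAlpha.elementary_map_conj hA'.2.1 l) ?_ hw
      (hQ₁L (hQ₁ ▸ Subgroup.mem_zpowers w)) hw1
    rw [Cfsg.Agent.Lead.card_map_conj]; exact hA'.2.2


/-- **The case `p ∈ τ₂(H)`, general form**: a `p`-element `s` of `M ∩ H` centralizes `M_σ ∩ H`. -/
theorem commute_of_mem_tau2' (hG : Cfsg.IsMinSimpleOddOrder G) {M H : Subgroup G}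
    (hM : IsCoatom M) (hH : IsCoatom H) (hnc : ∀ x : G, M ≠ MulAut.conj x • H) {p : ℕ}
    [hp : Fact p.Prime] (hpM : p ∉ Cfsg.sigma M) (hpH : p ∈ Cfsg.tau2 H) {y s : G}
    (hy : y ∈ Cfsg.sigmaCore M) (hyH : y ∈ H) (hsM : s ∈ M) (hsH : s ∈ H)
    (hsp : IsPGroup p ↥(Subgroup.zpowers s)) : y * s = s * y := by
  have hp1 := hp.out.one_lt
  by_cases hs1 : s = 1
  · rw [hs1, mul_one, one_mul]
  have hHM : H ≠ M := by
    intro h
    apply hnc 1
    rw [map_one, one_smul, h]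
  obtain ⟨S, hS⟩ : ∃ S : Subgroup G, S = Subgroup.zpowers s := ⟨_, rfl⟩
  have hsS : s ∈ S := hS ▸ Subgroup.mem_zpowers s
  have hSM : S ≤ M := by rw [hS]; exact Subgroup.zpowers_le.2 hsM
  have hSH : S ≤ H := by rw [hS]; exact Subgroup.zpowers_le.2 hsH
  have hSp : IsPGroup p ↥S := hS ▸ hsp
  -- the subgroup `X` of order `p` of `S`
  obtain ⟨k, hk⟩ := IsPGroup.iff_card.mp hsp
  rw [Nat.card_zpowers] at hk
  have hk0 : k ≠ 0 := by
    rintro rfl
    rw [pow_zero, orderOf_eq_one_iff] at hk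
    exact hs1 hk
  have hpd : p ∣ orderOf s := by rw [hk]; exact dvd_pow_self p hk0
  have hord : orderOf (s ^ (orderOf s / p)) = p :=
    orderOf_pow_orderOf_div (orderOf_pos s).ne' hpd
  obtain ⟨X, hX⟩ : ∃ X : Subgroup G, X = Subgroup.zpowers (s ^ (orderOf s / p)) := ⟨_, rfl⟩
  have hXcard : Nat.card X = p := by rw [hX, Nat.card_zpowers, hord]
  have hXS : X ≤ S := by
    rw [hX]; exact Subgroup.zpowers_le.2 (Subgroup.pow_mem _ hsS _)
  have hX1 : X ≠ ⊥ := by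
    intro h
    rw [h, Subgroup.card_bot] at hXcard
    exact hp1.ne hXcard
  -- `H_σ` is nilpotent, so `σ(M) ∩ σ(H) = ∅`
  obtain ⟨A₀, hA₀H, hA₀e, hA₀card⟩ :=
    Cfsg.Agent.Helper4.BG12.exists_ea2_of_not_pRankLE_one hG hpH.2.2.2
  have t125 := Cfsg.Agent.Helper4.BG12.thm125 hG hH hpH ⟨hA₀H, hA₀e, hA₀card⟩
  have hnil := t125.1
  have hdisj : ∀ r : ℕ, r ∈ Cfsg.sigma M → r ∉ Cfsg.sigma H := fun r hrM hrH =>
    Cfsg.Agent.Helper4.BG11.not_mem_sigma_of_isNilpotent_sigmaCore hG hH hM hnil hnc hrH hrM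
  -- the subgroup `D₀ = (M_σ ∩ H) S`
  obtain ⟨Y, hY⟩ : ∃ Y : Subgroup G, Y = Cfsg.sigmaCore M ⊓ H := ⟨_, rfl⟩
  have hYσ : Y ≤ Cfsg.sigmaCore M := by rw [hY]; exact inf_le_left
  have hYH : Y ≤ H := by rw [hY]; exact inf_le_right
  have hyY : y ∈ Y := by rw [hY]; exact ⟨hy, hyH⟩
  have hSNY : S ≤ Subgroup.normalizer (Y : Set G) := by
    intro a ha
    rw [hY]
    exact Cfsg.Agent.Helper4.BG10.mem_normalizer_inf
      (Cfsg.Agent.Lead.BG12.le_normalizer_sigmaCore M (hSM ha))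
      (Subgroup.le_normalizer (hSH ha))
  have hD₀H : Y ⊔ S ≤ H := sup_le hYH hSH
  have hcardD := Cfsg.Agent.Helper1.card_sup_mul_card_inf (N := Y) (A := S) hSNY
  obtain ⟨k', hk'⟩ := IsPGroup.iff_card.mp hSp
  have hD₀π : ∀ t : ℕ, t.Prime → t ∣ Nat.card ↥(Y ⊔ S) → t ∉ Cfsg.sigma H := by
    intro t ht hd
    have h1 : t ∣ Nat.card Y * Nat.card S := by
      rw [← hcardD]; exact Dvd.dvd.mul_right hd _
    rcases (Nat.Prime.dvd_mul ht).1 h1 with h2 | h2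
    · apply hdisj
      exact Cfsg.Agent.Lead.BG12.mem_sigma_of_dvd_card_sigmaCore ht
        (h2.trans (Subgroup.card_dvd_of_le hYσ))
    · rw [hk'] at h2
      have : t = p := (Nat.prime_dvd_prime_iff_eq ht hp.out).1 (ht.dvd_of_dvd_pow h2)
      rw [this]; exact hpH.2.1
  obtain ⟨EH, hEH, hD₀E⟩ := Cfsg.Agent.Helper4.BG10.exists_compl_sigmaCore_ge hG hH hD₀H hD₀π
  obtain ⟨A', hA'E, hA'e, hA'card⟩ :=
    Cfsg.Agent.Lead.BG127.exists_elementary_le_compl hG hH hEH hpH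
  have c126 := Cfsg.Agent.Helper4.BG12.cor126 hG hH hpH hEH ⟨hA'E, hA'e, hA'card⟩
  have hEN : EH ≤ Subgroup.normalizer (A' : Set G) := c126.1.1
  have hSE : S ≤ EH := le_sup_right.trans hD₀E
  have hYE : Y ≤ EH := le_sup_left.trans hD₀E
  have hXA' : X ≤ A' := c126.1.2 X (hXS.trans hSE) hXcard
  have hA'H : A' ≤ H := hA'E.trans hEH.1
  -- `S` centralizes `A'`
  have hSCA : S ≤ Subgroup.centralizer (A' : Set G) := by
    have hSNA : S ≤ Subgroup.normalizer (A' : Set G) := hSE.trans hEN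
    have hcardT := Cfsg.Agent.Helper1.card_sup_mul_card_inf (N := A') (A := S) hSNA
    have hTp : IsPGroup p ↥(A' ⊔ S) := by
      have h1 : Nat.card ↥(A' ⊔ S) ∣ p ^ (2 + k') := by
        rw [pow_add, ← hA'card, ← hk', ← hcardT]
        exact Dvd.intro _ rfl
      obtain ⟨j, -, hj⟩ := (Nat.dvd_prime_pow hp.out).1 h1
      exact IsPGroup.of_card hj
    have hTH : A' ⊔ S ≤ H := sup_le hA'H hSH
    obtain ⟨P, hP⟩ :=
      (hTp.comap_subtype : IsPGroup p ↥((A' ⊔ S).subgroupOf H)).exists_le_sylow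
    have hPc := (t125.2.1 P).1
    intro a ha
    refine Subgroup.mem_centralizer_iff.2 ?_
    intro b hb
    have haP : (⟨a, hSH ha⟩ : ↥H) ∈ (P : Subgroup ↥H) :=
      hP (Subgroup.mem_subgroupOf.2 (Subgroup.mem_sup_right ha))
    have hbP : (⟨b, hA'H hb⟩ : ↥H) ∈ (P : Subgroup ↥H) :=
      hP (Subgroup.mem_subgroupOf.2 (Subgroup.mem_sup_left hb))
    have := hPc.is_comm.comm ⟨_, hbP⟩ ⟨_, haP⟩
    have h2 := congrArg (fun z : ↥(P : Subgroup ↥H) => ((z : ↥H) : G)) this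
    simpa using h2
  have hyN : y ∈ Subgroup.normalizer (A' : Set G) := hEN (hYE hyY)
  -- the commutator
  by_contra hne
  obtain ⟨c, hc⟩ : ∃ c : G, c = y * s * y⁻¹ * s⁻¹ := ⟨_, rfl⟩
  have hc1 : c ≠ 1 := by
    intro h
    apply hne
    calc y * s = (y * s * y⁻¹ * s⁻¹) * (s * y) := by group
      _ = s * y := by rw [← hc, h, one_mul]
  have hcM : c ∈ Cfsg.sigmaCore M := hc ▸ commutator_mem_sigmaCore hy hsM
  have hcA : c ∈ Subgroup.centralizer (A' : Set G) :=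
    hc ▸ commutator_mem_centralizer hyN (hSCA hsS)
  have hord' : orderOf c ≠ 1 := fun h => hc1 (orderOf_eq_one_iff.1 h)
  obtain ⟨q, hq, hqd⟩ := Nat.exists_prime_and_dvd hord'
  haveI := Fact.mk hq
  have hwq : orderOf (c ^ (orderOf c / q)) = q :=
    orderOf_pow_orderOf_div (orderOf_pos c).ne' hqd
  exact false_of_centralizing_ea' hG hM hH hHM hpH hpM (hXS.trans hSM) hXA' hX1
    ⟨hA'H, hA'e, hA'card⟩ (Subgroup.pow_mem _ hcM _) hwq (Subgroup.pow_mem _ hcA _)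

/-- **(C)** (Bender–Glauberman 13.1(a), 13.2): for non-conjugate maximal subgroups `M`, `H` and a
prime `r ∉ σ(M)`, `r ∉ τ₁(H)`, every `r`-element of `M ∩ H` centralizes `M_σ ∩ H`. -/
theorem commute_of_not_mem_tau1 (hG : Cfsg.IsMinSimpleOddOrder G) {M H : Subgroup G}
    (hM : IsCoatom M) (hH : IsCoatom H) (hnc : ∀ x : G, M ≠ MulAut.conj x • H) {r : ℕ}
    [hr : Fact r.Prime] (hrM : r ∉ Cfsg.sigma M) (hrH : r ∉ Cfsg.tau1 H) {y s : G}
    (hy : y ∈ Cfsg.sigmaCore M) (hyH : y ∈ H) (hsM : s ∈ M) (hsH : s ∈ H)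
    (hsr : IsPGroup r ↥(Subgroup.zpowers s)) : y * s = s * y := by
  by_cases hs1 : s = 1
  · rw [hs1, mul_one, one_mul]
  by_cases hσ : r ∈ Cfsg.sigma H
  · exact commute_of_mem_sigma hG hM hH hnc hrM hσ hy hyH hsM hsH hsr
  have h2 : Cfsg.PRankLE r 2 ↥H := by
    apply pRankLE_of_not_mem_alpha hr.out
    intro hα
    exact hσ (alpha_subset_sigma hG hH hα)
  by_cases h1 : Cfsg.PRankLE r 1 ↥H
  · by_cases hd : r ∣ Nat.card ↥⁅H, H⁆
    · have hτ3 : r ∈ Cfsg.tau3 H := ⟨hr.out, hσ, hd, h1⟩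
      exact commute_of_mem_commutator hG hM hH hnc hrM hy hyH hsM
        (mem_commutator_of_mem_tau3 hG hτ3 hsH hsr) hsr
    · exfalso
      apply hrH
      refine ⟨hr.out, hσ, ?_, hd, h1⟩
      have hz1 : Subgroup.zpowers s ≠ ⊥ := fun h => hs1 (Subgroup.zpowers_eq_bot.1 h)
      exact (Cfsg.Agent.Helper1.BGV.dvd_card_of_isPGroup_ne_bot hsr hz1).trans
        (Subgroup.card_dvd_of_le (Subgroup.zpowers_le.2 hsH))
  · exact commute_of_mem_tau2' hG hM hH hnc hrM ⟨hr.out, hσ, h2, h1⟩ hy hyH hsM hsH hsr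

end Cfsg.Agent.Helper3.BG134
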