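import Mathlib
import Cfsg.Prelude
import Cfsg.Agent.Helper3.BG134b
import Cfsg.Agent.Helper4.BG13a
import Cfsg.Agent.Helper2.GL2OddC

set_option autoImplicit false
set_option linter.unusedSectionVars false
set_option linter.unusedVariables false

/-!
Bender–Glauberman Theorem 13.4 (`S1428`), step 1: if `p ∈ τ₁(M)`, `P ≤ E` has order `p`, `R ≤ E ∩ C(P)`
has prime order `r ≠ p` and `R` does not centralize `C_{M_σ}(P)`, then every `H ∈ 𝓜(N(P))` is not
conjugate to `M`, `p ∈ β(H)` and `r ∈ τ₁(H)`.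
-/

namespace Cfsg.Agent.Helper3.BG134

open Cfsg Cfsg.Agent.Helper1 Cfsg.Agent.Helper1.BGU Cfsg.Agent.Helper1.BGX
open Cfsg.Agent.Helper3.BG131
open scoped commutatorElement Pointwise

universe u

variable {G : Type u} [Group G] [Finite G]

/-- if `T ≤ K ≤ L` and `T` has the order of a Sylow `p`-subgroup of `L`, then `p ∤ |L : K|` -/
theorem not_dvd_relIndex_of_ppart_le {p : ℕ} [hp : Fact p.Prime] {T K L : Subgroup G}
    (hTK : T ≤ K) (hKL : K ≤ L) (hT : Nat.card T = p ^ (Nat.card L).factorization p) :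
    ¬ p ∣ K.relIndex L := by
  intro hd
  have h1 := Cfsg.Agent.Helper1.relIndex_mul_card_of_le hKL
  have h2 : p ^ ((Nat.card L).factorization p + 1) ∣ Nat.card L := by
    have h3 : p * p ^ (Nat.card L).factorization p ∣ K.relIndex L * Nat.card K := by
      refine Nat.mul_dvd_mul hd ?_
      rw [← hT]
      exact Subgroup.card_dvd_of_le hTK
    rw [pow_succ']
    exact h1 ▸ h3
  exact Nat.pow_succ_factorization_not_dvd Nat.card_pos.ne' hp.out h2

/-- **Step 1 of Bender–Glauberman 13.4.** -/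
theorem step1 (hG : Cfsg.IsMinSimpleOddOrder G) {M : Subgroup G} (hM : IsCoatom M)
    {E : Subgroup G} (hE : Cfsg.IsComplIn E (Cfsg.sigmaCore M) M) {p : ℕ} [hp : Fact p.Prime]
    (hpτ : p ∈ Cfsg.tau1 M) {P : Subgroup G} (hPE : P ≤ E) (hP : Nat.card P = p) {r : ℕ}
    [hr : Fact r.Prime] {R : Subgroup G} (hRE : R ≤ E)
    (hRP : R ≤ Subgroup.centralizer (P : Set G)) (hR : Nat.card R = r) {y s : G}
    (hy : y ∈ Cfsg.sigmaCore M) (hyP : y ∈ Subgroup.centralizer (P : Set G)) (hs : s ∈ R)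
    (hys : y * s ≠ s * y) {H : Subgroup G} (hH : IsCoatom H)
    (hNP : Subgroup.normalizer (P : Set G) ≤ H) :
    (∀ g : G, M ≠ MulAut.conj g • H) ∧ p ∈ Cfsg.beta H ∧ r ∈ Cfsg.tau1 H := by
  have hp1 := hp.out.one_lt
  have hr1 := hr.out.one_lt
  have hPp : IsPGroup p ↥P := IsPGroup.of_card (n := 1) (by rw [hP, pow_one])
  have hRr : IsPGroup r ↥R := IsPGroup.of_card (n := 1) (by rw [hR, pow_one])
  have hP1 : P ≠ ⊥ := by
    intro h
    rw [h, Subgroup.card_bot] at hP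
    exact hp1.ne hP
  have hPM : P ≤ M := hPE.trans hE.1
  have hRM : R ≤ M := hRE.trans hE.1
  have hCPH : Subgroup.centralizer (P : Set G) ≤ H :=
    (Subgroup.centralizer_le_normalizer _).trans hNP
  have hPH : P ≤ H := Subgroup.le_normalizer.trans hNP
  have hRH : R ≤ H := hRP.trans hCPH
  have hyH : y ∈ H := hCPH hyP
  have hsM : s ∈ M := hRM hs
  have hsH : s ∈ H := hRH hs
  have hsr : IsPGroup r ↥(Subgroup.zpowers s) := hRr.to_le (Subgroup.zpowers_le.2 hs)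
  have hpσM : p ∉ Cfsg.sigma M := hpτ.2.1
  have hrσM : r ∉ Cfsg.sigma M :=
    Cfsg.Agent.Helper4.BG12.not_mem_sigma_of_dvd_card_compl hG hM hE hr.out
      (hR ▸ Subgroup.card_dvd_of_le hRE)
  -- a cyclic Sylow `p`-subgroup `S ≥ P` of `M`
  obtain ⟨S, hPS, hSE, hSp, hScardE⟩ := Cfsg.Agent.Lead.exists_le_card_eq_ppart hPp hPE
  have hSM : S ≤ M := hSE.trans hE.1
  have hSc : IsCyclic ↥S := Cfsg.Agent.Lead.BG12.isCyclic_of_pRankLE_one hG.1 hpτ.2.2.2.2 hSM hSp
  have hScard : Nat.card S = p ^ (Nat.card M).factorization p := by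
    rw [hScardE, Cfsg.Agent.Helper4.BG10.factorization_compl_eq hE hp.out hpσM]
  have hS1 : S ≠ ⊥ := fun h => hP1 (le_bot_iff.1 (h ▸ hPS))
  have hNS : Subgroup.normalizer (S : Set G) ≤ Subgroup.normalizer (P : Set G) :=
    Cfsg.Agent.Lead.BG12.normalizer_le_normalizer_of_isCyclic hSc hPS
  have hSH : S ≤ H := Subgroup.le_normalizer.trans (hNS.trans hNP)
  -- `H` is not conjugate to `M`
  have hnc : ∀ g : G, M ≠ MulAut.conj g • H := by
    intro g hg
    have hcardMH : Nat.card M = Nat.card H := by rw [hg, card_conj_smul]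
    have hcardH : Nat.card S = p ^ (Nat.card H).factorization p := by
      rw [hScard, hcardMH]
    have hpσH : p ∈ Cfsg.sigma H :=
      Cfsg.Agent.Lead.BG12.mem_sigma_of_normalizer_le hSH hS1 hSp hcardH (hNS.trans hNP)
    have hHM : H = MulAut.conj g⁻¹ • M := by
      rw [hg, Cfsg.Agent.Helper1.BGT.conj_smul_smul, inv_mul_cancel, map_one, one_smul]
    have hH' : IsCoatom (MulAut.conj g⁻¹ • M) := hHM ▸ hH
    exact hpσM (Cfsg.Agent.Lead.BG12.mem_sigma_of_mem_sigma_conj_smul hG hH' (hHM ▸ hpσH))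
  have hnc' : ∀ g : G, H ≠ MulAut.conj g • M := by
    intro g hg
    apply hnc g⁻¹
    rw [hg, Cfsg.Agent.Helper1.BGT.conj_smul_smul, inv_mul_cancel, map_one, one_smul]
  -- `r ∈ τ₁(H)`
  have hrτH : r ∈ Cfsg.tau1 H := by
    by_contra hcon
    exact hys (commute_of_not_mem_tau1 hG hM hH hnc hrσM hcon hy hyH hsM hsH hsr)
  refine ⟨hnc, ?_, hrτH⟩
  -- the commutator
  obtain ⟨c, hc⟩ : ∃ c : G, c = y * s * y⁻¹ * s⁻¹ := ⟨_, rfl⟩
  have hc1 : c ≠ 1 := by
    intro h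
    apply hys
    calc y * s = (y * s * y⁻¹ * s⁻¹) * (s * y) := by group
      _ = s * y := by rw [← hc, h, one_mul]
  have hcM : c ∈ Cfsg.sigmaCore M := hc ▸ commutator_mem_sigmaCore hy hsM
  have hord' : orderOf c ≠ 1 := fun h => hc1 (orderOf_eq_one_iff.1 h)
  obtain ⟨q, hq, hqd⟩ := Nat.exists_prime_and_dvd hord'
  haveI := Fact.mk hq
  have hqσM : q ∈ Cfsg.sigma M :=
    Cfsg.Agent.Lead.BG12.mem_sigma_of_dvd_card_sigmaCore hq
      (hqd.trans (Subgroup.orderOf_dvd_natCard _ hcM))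
  rcases Cfsg.Agent.Lead.BG12.lemma122a hG hH hPp hP1 hNP with hpσ | hpτ2
  · -- `p ∈ σ(H)`: then `p` is ideal
    have hPσ : P ≤ Cfsg.sigmaCore H := Cfsg.Agent.Lead.BG12.le_sigmaCore' hG hH hpσ hPH hPp
    have hder := sigmaCore_le_commutator hG hH
    have hpH' : p ∣ Nat.card ↥⁅H, H⁆ := hP ▸ Subgroup.card_dvd_of_le (hPσ.trans hder)
    have hcH' : c ∈ ⁅H, H⁆ := by
      rw [hc]
      have := Subgroup.commutator_mem_commutator hyH hsH
      rwa [commutatorElement_def] at this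
    have hqH' : q ∣ Nat.card ↥⁅H, H⁆ := hqd.trans (Subgroup.orderOf_dvd_natCard _ hcH')
    have hid := Cfsg.Agent.Helper4.BG13.isIdealPrime_of_dvd_card_commutator hG hM hH hnc'
      hpτ.2.2.1 hpσM hpτ.2.2.2.1 hpH' hqσM hqH'
    exact Cfsg.Agent.Helper4.BG12.mem_beta_of_ideal_of_mem_sigma hG hH hid hpσ
  · -- `p ∈ τ₂(H)`: contradiction
    exfalso
    obtain ⟨A₀, hA₀H, hA₀e, hA₀card⟩ :=
      Cfsg.Agent.Helper4.BG12.exists_ea2_of_not_pRankLE_one hG hpτ2.2.2.2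
    have t125 := Cfsg.Agent.Helper4.BG12.thm125 hG hH hpτ2 ⟨hA₀H, hA₀e, hA₀card⟩
    have hnil := t125.1
    have hdisj : ∀ t : ℕ, t ∈ Cfsg.sigma M → t ∉ Cfsg.sigma H := fun t htM htH =>
      Cfsg.Agent.Helper4.BG11.not_mem_sigma_of_isNilpotent_sigmaCore hG hH hM hnil hnc htH htM
    -- the subgroup `D₀ = (M_σ ∩ H) (P R)`
    obtain ⟨Y, hY⟩ : ∃ Y : Subgroup G, Y = Cfsg.sigmaCore M ⊓ H := ⟨_, rfl⟩
    have hYσ : Y ≤ Cfsg.sigmaCore M := by rw [hY]; exact inf_le_left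
    have hYH : Y ≤ H := by rw [hY]; exact inf_le_right
    have hyY : y ∈ Y := by rw [hY]; exact ⟨hy, hyH⟩
    have hRNP : R ≤ Subgroup.normalizer (P : Set G) :=
      hRP.trans (Subgroup.centralizer_le_normalizer _)
    have hcardK := Cfsg.Agent.Helper1.card_sup_mul_card_inf (N := P) (A := R) hRNP
    have hKM : P ⊔ R ≤ M := sup_le hPM hRM
    have hKH : P ⊔ R ≤ H := sup_le hPH hRH
    have hKNY : P ⊔ R ≤ Subgroup.normalizer (Y : Set G) := by
      intro a ha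
      rw [hY]
      exact Cfsg.Agent.Helper4.BG10.mem_normalizer_inf
        (Cfsg.Agent.Lead.BG12.le_normalizer_sigmaCore M (hKM ha))
        (Subgroup.le_normalizer (hKH ha))
    have hD₀H : Y ⊔ (P ⊔ R) ≤ H := sup_le hYH hKH
    have hcardD := Cfsg.Agent.Helper1.card_sup_mul_card_inf (N := Y) (A := P ⊔ R) hKNY
    have hD₀π : ∀ t : ℕ, t.Prime → t ∣ Nat.card ↥(Y ⊔ (P ⊔ R)) → t ∉ Cfsg.sigma H := by
      intro t ht hd
      have h1 : t ∣ Nat.card Y * Nat.card ↥(P ⊔ R) := by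
        rw [← hcardD]; exact Dvd.dvd.mul_right hd _
      rcases (Nat.Prime.dvd_mul ht).1 h1 with h2 | h2
      · apply hdisj
        exact Cfsg.Agent.Lead.BG12.mem_sigma_of_dvd_card_sigmaCore ht
          (h2.trans (Subgroup.card_dvd_of_le hYσ))
      · have h3 : t ∣ Nat.card P * Nat.card R := by
          rw [← hcardK]; exact Dvd.dvd.mul_right h2 _
        rw [hP, hR] at h3
        rcases (Nat.Prime.dvd_mul ht).1 h3 with h4 | h4
        · rw [(Nat.prime_dvd_prime_iff_eq ht hp.out).1 h4]; exact hpτ2.2.1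
        · rw [(Nat.prime_dvd_prime_iff_eq ht hr.out).1 h4]; exact hrτH.2.1
    obtain ⟨EH, hEH, hD₀E⟩ := Cfsg.Agent.Helper4.BG10.exists_compl_sigmaCore_ge hG hH hD₀H hD₀π
    obtain ⟨A', hA'E, hA'e, hA'card⟩ :=
      Cfsg.Agent.Lead.BG127.exists_elementary_le_compl hG hH hEH hpτ2
    have c126 := Cfsg.Agent.Helper4.BG12.cor126 hG hH hpτ2 hEH ⟨hA'E, hA'e, hA'card⟩
    have hEN : EH ≤ Subgroup.normalizer (A' : Set G) := c126.1.1
    have hKE : P ⊔ R ≤ EH := le_sup_right.trans hD₀E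
    have hYE : Y ≤ EH := le_sup_left.trans hD₀E
    have hPA' : P ≤ A' := c126.1.2 P (le_sup_left.trans hKE) hP
    have hA'H : A' ≤ H := hA'E.trans hEH.1
    have hA'p : IsPGroup p ↥A' := Cfsg.Agent.Helper3.BGAlpha.isPGroup_of_elementary hA'e
    -- `p ∤ |E_H : C_{E_H}(A')|`
    obtain ⟨T, hA'T, hTE, hTp, hTcard⟩ := Cfsg.Agent.Lead.exists_le_card_eq_ppart hA'p hA'E
    have hTH : T ≤ H := hTE.trans hEH.1
    have hTC : T ≤ Subgroup.centralizer (A' : Set G) := by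
      obtain ⟨PH, hPH'⟩ :=
        (hTp.comap_subtype : IsPGroup p ↥(T.subgroupOf H)).exists_le_sylow
      have hPc := (t125.2.1 PH).1
      intro a ha
      refine Subgroup.mem_centralizer_iff.2 ?_
      intro b hb
      have haP : (⟨a, hTH ha⟩ : ↥H) ∈ (PH : Subgroup ↥H) :=
        hPH' (Subgroup.mem_subgroupOf.2 ha)
      have hbP : (⟨b, hA'H hb⟩ : ↥H) ∈ (PH : Subgroup ↥H) :=
        hPH' (Subgroup.mem_subgroupOf.2 (hA'T hb))
      have := hPc.is_comm.comm ⟨_, hbP⟩ ⟨_, haP⟩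
      have h2 := congrArg (fun z : ↥(PH : Subgroup ↥H) => ((z : ↥H) : G)) this
      simpa using h2
    have hnd : ¬ p ∣ (EH ⊓ Subgroup.centralizer (A' : Set G)).relIndex EH :=
      not_dvd_relIndex_of_ppart_le (le_inf hTE hTC) inf_le_left hTcard
    have hoddG : Odd (Nat.card G) := hG.1
    have hoddE : Odd (Nat.card EH) := Odd.of_dvd_nat hoddG (Subgroup.card_subgroup_dvd_card EH)
    have hp2 : p ≠ 2 := by
      rintro rfl
      have h2 : 2 ∣ Nat.card G := hpτ.2.2.1.trans (Subgroup.card_subgroup_dvd_card M)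
      exact (Nat.not_even_iff_odd.2 hoddG) (even_iff_two_dvd.2 h2)
    have hcomm := Cfsg.Agent.Helper2.GL2Odd.commutator_le_centralizer_of_card_prime_sq p hp2 A' EH
      hoddE hEN hA'card hA'e.2 hnd
    have hcE : c ∈ ⁅EH, EH⁆ := by
      rw [hc]
      have := Subgroup.commutator_mem_commutator (hYE hyY) (hKE (Subgroup.mem_sup_right hs))
      rwa [commutatorElement_def] at this
    have hcA : c ∈ Subgroup.centralizer (A' : Set G) := hcomm hcE
    have hwq : orderOf (c ^ (orderOf c / q)) = q :=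
      orderOf_pow_orderOf_div (orderOf_pos c).ne' hqd
    exact false_of_centralizing_ea hG hM hH hpτ2 hSM hSc hScard hPM hPA' hP1
      ⟨hA'H, hA'e, hA'card⟩ (Subgroup.pow_mem _ hcM _) hwq (Subgroup.pow_mem _ hcA _)

end Cfsg.Agent.Helper3.BG134
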