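import Mathlib
import Cfsg.Prelude
import Cfsg.Agent.Helper3.BG134c
import Cfsg.Agent.Helper1.SylowInt

set_option autoImplicit false
set_option linter.unusedSectionVars false
set_option linter.unusedVariables false

/-!
Bender–Glauberman Theorem 13.4 (`S1428`): auxiliary lemmas (invariant Sylow subgroups, cyclicity
of `C_{M_α}(P)` for `p ∈ τ₁(M)`, rank of Sylow subgroups of `M_α`, the commutator subgroup
`[Q, s]` of an abelian group `Q`).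
-/

namespace Cfsg.Agent.Helper3.BG134

open Cfsg Cfsg.Agent.Helper1 Cfsg.Agent.Helper1.BGU Cfsg.Agent.Helper1.BGX
open Cfsg.Agent.Helper3.BG131
open scoped commutatorElement Pointwise

universe u

variable {G : Type u} [Group G] [Finite G]

/-- under a coprime action of `A` on `K ≰ X`, some `A`-invariant Sylow subgroup of `K` is not
contained in `X` -/
theorem exists_invariant_sylow_not_le (A K X : Subgroup G)
    (hAK : A ≤ Subgroup.normalizer (K : Set G)) (hcop : (Nat.card A).Coprime (Nat.card K))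
    (hsolv : Group.IsSolvable A ∨ Group.IsSolvable K) (hKX : ¬ K ≤ X) :
    ∃ t : ℕ, t.Prime ∧ ∃ T : Subgroup G, T ≤ K ∧ IsPGroup t ↥T ∧
      Nat.card T = t ^ (Nat.card K).factorization t ∧
      A ≤ Subgroup.normalizer (T : Set G) ∧ ¬ T ≤ X := by
  by_contra hcon
  push Not at hcon
  apply hKX
  have hdvd : Nat.card K ∣ Nat.card ↥(K ⊓ X) := by
    rw [Nat.dvd_iff_prime_pow_dvd_dvd]
    intro t k ht hd
    haveI := Fact.mk ht
    obtain ⟨Pt, hPt⟩ := Cfsg.Agent.Helper1.exists_invariant_sylow (p := t) A K hAK hcop hsolv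
    have hcard : Nat.card ↥((Pt : Subgroup ↥K).map K.subtype) =
        t ^ (Nat.card K).factorization t := by
      rw [Subgroup.card_map_of_injective K.subtype_injective, Pt.card_eq_multiplicity]
    have hTX := hcon t ht _ (Subgroup.map_subtype_le _) (Pt.2.map _) hcard hPt
    have hk : k ≤ (Nat.card K).factorization t :=
      (Nat.Prime.pow_dvd_iff_le_factorization ht Nat.card_pos.ne').1 hd
    calc t ^ k ∣ t ^ (Nat.card K).factorization t := pow_dvd_pow t hk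
      _ = Nat.card ↥((Pt : Subgroup ↥K).map K.subtype) := hcard.symm
      _ ∣ Nat.card ↥(K ⊓ X) :=
        Subgroup.card_dvd_of_le (le_inf (Subgroup.map_subtype_le _) hTX)
  have h1 : K ⊓ X = K :=
    Subgroup.eq_of_le_of_card_ge inf_le_left (Nat.le_of_dvd Nat.card_pos hdvd)
  rw [← h1]
  exact inf_le_right

/-- **Cyclicity of `C_{M_α}(P)`**: for `p ∉ σ(M)` with `M` of `p`-rank one and `P ≤ M` of order
`p`, every `t`-subgroup (`t ∈ α(M)`) of `C_M(P)` is cyclic. -/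
theorem isCyclic_of_le_centralizer (hG : Cfsg.IsMinSimpleOddOrder G) {M : Subgroup G}
    (hM : IsCoatom M) {p : ℕ} [hp : Fact p.Prime] (hpσ : p ∉ Cfsg.sigma M)
    (hrk : Cfsg.PRankLE p 1 ↥M) {P : Subgroup G} (hPM : P ≤ M) (hP : Nat.card P = p) {t : ℕ}
    [ht : Fact t.Prime] (htα : t ∈ Cfsg.alpha M) {T : Subgroup G} (hTM : T ≤ M)
    (hT : IsPGroup t ↥T) (hTP : T ≤ Subgroup.centralizer (P : Set G)) : IsCyclic ↥T := by
  by_contra hnc
  have hp1 := hp.out.one_lt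
  have hPp : IsPGroup p ↥P := IsPGroup.of_card (n := 1) (by rw [hP, pow_one])
  have hP1 : P ≠ ⊥ := by
    intro h
    rw [h, Subgroup.card_bot] at hP
    exact hp1.ne hP
  have hPtop : P ≠ ⊤ := sylow_ne_top hG p _ hPp
  have hT1 : T ≠ ⊥ := by
    rintro rfl
    exact hnc inferInstance
  have ht2 : t ≠ 2 := Cfsg.Agent.Helper4.BG10.prime_ne_two_of_ne_bot hG hT hT1
  have hea : HasEA t 1 T := Cfsg.Agent.Helper1.BGW.hasEA_one_of_not_isCyclic ht2 hT hnc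
  have hTα : T ≤ Cfsg.alphaCore M := by
    intro x hx
    have h1 := le_alphaCore hG hM htα hTM hT
    have h2 : (⟨x, hTM hx⟩ : ↥M) ∈ T.subgroupOf M := Subgroup.mem_subgroupOf.2 hx
    exact ⟨⟨x, hTM hx⟩, h1 h2, rfl⟩
  have hr : ¬ Cfsg.RankLE 1 ↥(Cfsg.alphaCore M ⊓ Subgroup.centralizer (P : Set G)) :=
    not_rankLE_of_hasEA ht.out (hea.mono (le_inf hTα hTP))
  have hPα : ∀ q : ℕ, q.Prime → q ∣ Nat.card P → q ∉ Cfsg.alpha M := by
    intro q hq hd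
    rw [hP] at hd
    rw [(Nat.prime_dvd_prime_iff_eq hq hp.out).1 hd]
    exact fun h => hpσ (alpha_subset_sigma hG hM h)
  have hU := lemma103 hG M hM P hPM hPα hr
  -- a cyclic Sylow `p`-subgroup `S ≥ P` of `M`
  obtain ⟨S, hPS, hSM, hSp, hScard⟩ := Cfsg.Agent.Lead.exists_le_card_eq_ppart hPp hPM
  have hSc : IsCyclic ↥S := Cfsg.Agent.Lead.BG12.isCyclic_of_pRankLE_one hG.1 hrk hSM hSp
  have hS1 : S ≠ ⊥ := fun h => hP1 (le_bot_iff.1 (h ▸ hPS))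
  have hNS : Subgroup.normalizer (S : Set G) ≤ Subgroup.normalizer (P : Set G) :=
    Cfsg.Agent.Lead.BG12.normalizer_le_normalizer_of_isCyclic hSc hPS
  obtain ⟨L, hL, hNL⟩ := exists_coatom_ge (normalizer_ne_top_of_simple hG hP1 hPtop)
  have hLM : L = M :=
    hU.unique ⟨hL, inf_le_right.trans ((Subgroup.centralizer_le_normalizer _).trans hNL)⟩
      ⟨hM, inf_le_left⟩
  exact hpσ (Cfsg.Agent.Lead.BG12.mem_sigma_of_normalizer_le hSM hS1 hSp hScard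
    (hLM ▸ hNS.trans hNL))

/-- a Sylow `p`-subgroup of `M`, `p ∈ α(M)`, has `p`-rank at least three -/
theorem not_pRankLE_two_of_card_eq_ppart {M : Subgroup G} {p : ℕ} [hp : Fact p.Prime]
    (hpα : p ∈ Cfsg.alpha M) {B : Subgroup G} (hBM : B ≤ M)
    (hB : Nat.card B = p ^ (Nat.card M).factorization p) : ¬ Cfsg.PRankLE p 2 ↥B := by
  obtain ⟨F, hFM, hFe, hFcard⟩ := hasEA_of_not_pRankLE hpα.2
  obtain ⟨m, hm, hmF⟩ := Cfsg.Agent.Lead.exists_conj_le_of_card_eq_ppart hBM hB hFM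
    (Cfsg.Agent.Helper3.BGAlpha.isPGroup_of_elementary hFe)
  refine not_pRankLE_of_hasEA ⟨_, hmF, Cfsg.Agent.Helper3.BGAlpha.elementary_map_conj hFe m, ?_⟩
  rw [Cfsg.Agent.Lead.card_map_conj]
  exact hFcard

omit [Finite G] in
/-- the subgroup `[Q, s] = {x s x⁻¹ s⁻¹ : x ∈ Q}` of an abelian subgroup `Q` normalized by `s` -/
def commSub (Q : Subgroup G) (s : G) (hQ : ∀ a ∈ Q, ∀ b ∈ Q, a * b = b * a)
    (hs : s ∈ Subgroup.normalizer (Q : Set G)) : Subgroup G where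
  carrier := {v | ∃ x ∈ Q, v = x * s * x⁻¹ * s⁻¹}
  one_mem' := ⟨1, Q.one_mem, by group⟩
  mul_mem' := by
    rintro v w ⟨x, hx, rfl⟩ ⟨x', hx', rfl⟩
    refine ⟨x * x', Q.mul_mem hx hx', ?_⟩
    have ha : s * x⁻¹ * s⁻¹ ∈ Q := (Subgroup.mem_normalizer_iff.1 hs _).1 (Q.inv_mem hx)
    have ha' : s * x'⁻¹ * s⁻¹ ∈ Q := (Subgroup.mem_normalizer_iff.1 hs _).1 (Q.inv_mem hx')
    have h1 : (s * x⁻¹ * s⁻¹) * x' = x' * (s * x⁻¹ * s⁻¹) := hQ _ ha _ hx'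
    have h2 : (s * x⁻¹ * s⁻¹) * (s * x'⁻¹ * s⁻¹) = (s * x'⁻¹ * s⁻¹) * (s * x⁻¹ * s⁻¹) :=
      hQ _ ha _ ha'
    calc x * s * x⁻¹ * s⁻¹ * (x' * s * x'⁻¹ * s⁻¹)
        = x * ((s * x⁻¹ * s⁻¹) * x') * (s * x'⁻¹ * s⁻¹) := by group
      _ = x * (x' * (s * x⁻¹ * s⁻¹)) * (s * x'⁻¹ * s⁻¹) := by rw [h1]
      _ = x * x' * ((s * x⁻¹ * s⁻¹) * (s * x'⁻¹ * s⁻¹)) := by group
      _ = x * x' * ((s * x'⁻¹ * s⁻¹) * (s * x⁻¹ * s⁻¹)) := by rw [h2]
      _ = x * x' * s * (x * x')⁻¹ * s⁻¹ := by group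
  inv_mem' := by
    rintro v ⟨x, hx, rfl⟩
    refine ⟨x⁻¹, Q.inv_mem hx, ?_⟩
    have ha : s * x⁻¹ * s⁻¹ ∈ Q := (Subgroup.mem_normalizer_iff.1 hs _).1 (Q.inv_mem hx)
    have h1 : x * (s * x⁻¹ * s⁻¹) = (s * x⁻¹ * s⁻¹) * x := hQ _ hx _ ha
    calc (x * s * x⁻¹ * s⁻¹)⁻¹ = (x * (s * x⁻¹ * s⁻¹))⁻¹ := by group
      _ = ((s * x⁻¹ * s⁻¹) * x)⁻¹ := by rw [h1]
      _ = x⁻¹ * s * x⁻¹⁻¹ * s⁻¹ := by group

omit [Finite G] in
theorem mem_commSub {Q : Subgroup G} {s : G} {hQ : ∀ a ∈ Q, ∀ b ∈ Q, a * b = b * a}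
    {hs : s ∈ Subgroup.normalizer (Q : Set G)} {v : G} :
    v ∈ commSub Q s hQ hs ↔ ∃ x ∈ Q, v = x * s * x⁻¹ * s⁻¹ := Iff.rfl

omit [Finite G] in
theorem commSub_le {Q : Subgroup G} {s : G} (hQ : ∀ a ∈ Q, ∀ b ∈ Q, a * b = b * a)
    (hs : s ∈ Subgroup.normalizer (Q : Set G)) : commSub Q s hQ hs ≤ Q := by
  rintro v ⟨x, hx, rfl⟩
  have ha : s * x⁻¹ * s⁻¹ ∈ Q := (Subgroup.mem_normalizer_iff.1 hs _).1 (Q.inv_mem hx)
  have e : x * s * x⁻¹ * s⁻¹ = x * (s * x⁻¹ * s⁻¹) := by group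
  rw [e]
  exact Q.mul_mem hx ha

omit [Finite G] in
/-- an element normalizing `Q` and commuting with `s` normalizes `[Q, s]` -/
theorem mem_normalizer_commSub {Q : Subgroup G} {s : G} (hQ : ∀ a ∈ Q, ∀ b ∈ Q, a * b = b * a)
    (hs : s ∈ Subgroup.normalizer (Q : Set G)) {n : G}
    (hn : n ∈ Subgroup.normalizer (Q : Set G)) (hns : n * s = s * n) :
    n ∈ Subgroup.normalizer ((commSub Q s hQ hs : Subgroup G) : Set G) := by
  have key : ∀ m : G, m ∈ Subgroup.normalizer (Q : Set G) → m * s = s * m →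
      ∀ v ∈ commSub Q s hQ hs, m * v * m⁻¹ ∈ commSub Q s hQ hs := by
    rintro m hm hms v ⟨x, hx, rfl⟩
    refine ⟨m * x * m⁻¹, (Subgroup.mem_normalizer_iff.1 hm x).1 hx, ?_⟩
    have h1 : m⁻¹ * s = s * m⁻¹ := by
      calc m⁻¹ * s = m⁻¹ * (s * m) * m⁻¹ := by group
        _ = m⁻¹ * (m * s) * m⁻¹ := by rw [hms]
        _ = s * m⁻¹ := by group
    have h2 : m⁻¹ * s⁻¹ = s⁻¹ * m⁻¹ := by
      calc m⁻¹ * s⁻¹ = s⁻¹ * (s * m⁻¹) * s⁻¹ := by group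
        _ = s⁻¹ * (m⁻¹ * s) * s⁻¹ := by rw [h1]
        _ = s⁻¹ * m⁻¹ := by group
    calc m * (x * s * x⁻¹ * s⁻¹) * m⁻¹ = m * x * s * x⁻¹ * (s⁻¹ * m⁻¹) := by group
      _ = m * x * s * x⁻¹ * (m⁻¹ * s⁻¹) := by rw [h2]
      _ = m * x * (s * m⁻¹) * (m * x⁻¹ * m⁻¹) * s⁻¹ := by group
      _ = m * x * (m⁻¹ * s) * (m * x⁻¹ * m⁻¹) * s⁻¹ := by rw [h1]
      _ = m * x * m⁻¹ * s * (m * x * m⁻¹)⁻¹ * s⁻¹ := by group
  rw [Subgroup.mem_normalizer_iff]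
  intro v
  constructor
  · exact key n hn hns v
  · intro hv
    have hn' : n⁻¹ ∈ Subgroup.normalizer (Q : Set G) := Subgroup.inv_mem _ hn
    have hns' : n⁻¹ * s = s * n⁻¹ := by
      calc n⁻¹ * s = n⁻¹ * (s * n) * n⁻¹ := by group
        _ = n⁻¹ * (n * s) * n⁻¹ := by rw [hns]
        _ = s * n⁻¹ := by group
    have := key n⁻¹ hn' hns' _ hv
    simpa [mul_assoc] using this

omit [Finite G] in
/-- `s` acts fixed-point-freely on `[Q, s]` when the orders are coprime -/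
theorem eq_one_of_mem_commSub_of_commute {Q : Subgroup G} {s : G}
    (hQ : ∀ a ∈ Q, ∀ b ∈ Q, a * b = b * a) (hs : s ∈ Subgroup.normalizer (Q : Set G)) {v : G}
    (hv : v ∈ commSub Q s hQ hs) (hvs : v * s = s * v)
    (hcop : (orderOf v).Coprime (orderOf s)) : v = 1 := by
  obtain ⟨x, hx, rfl⟩ := hv
  have h1 : x * s = s * x := commute_of_commute_commutator hvs hcop
  calc x * s * x⁻¹ * s⁻¹ = (s * x) * x⁻¹ * s⁻¹ := by rw [h1]
    _ = 1 := by group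

end Cfsg.Agent.Helper3.BG134
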