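import Mathlib
import Cfsg.Prelude
import Cfsg.Agent.Helper3.BG134d
import Cfsg.Agent.Helper4.BG12g

set_option autoImplicit false
set_option linter.unusedSectionVars false
set_option linter.unusedVariables false

/-!
Bender–Glauberman Theorem 13.4 (`S1428`): the "(d)-world".  If `V ≤ M` is a nontrivial
`q`-subgroup, `q ∈ σ(M)`, `N(V) ≤ H ≠ M` and `H_σ ∩ M ≠ 1`, then `M` and `H` share a Sylow
`q`-subgroup `T ≥ V` of `G` with `N(T) ≤ M ∩ H`; primes of `τ₁(H)` dividing `|M|` outside `σ(M)`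
lie in `τ₁(M)`.
-/

namespace Cfsg.Agent.Helper3.BG134

open Cfsg Cfsg.Agent.Helper1 Cfsg.Agent.Helper1.BGU Cfsg.Agent.Helper1.BGX
open Cfsg.Agent.Helper3.BG131 Cfsg.Agent.Helper4.BG10
open scoped commutatorElement Pointwise

universe u

variable {G : Type u} [Group G] [Finite G]

/-- the "(d)-world" -/
theorem exists_NU (hG : Cfsg.IsMinSimpleOddOrder G) {M H : Subgroup G} (hM : IsCoatom M)
    (hH : IsCoatom H) (hHM : H ≠ M) {q : ℕ} [hq : Fact q.Prime] (hqσ : q ∈ Cfsg.sigma M)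
    {V : Subgroup G} (hVM : V ≤ M) (hVq : IsPGroup q ↥V) (hV1 : V ≠ ⊥)
    (hNV : Subgroup.normalizer (V : Set G) ≤ H) (hσ : Cfsg.sigmaCore H ⊓ M ≠ ⊥) :
    ∃ T : Subgroup G, V ≤ T ∧ NU M H q T := by
  have hVH : V ≤ H := Subgroup.le_normalizer.trans hNV
  by_cases hqH : q ∈ Cfsg.sigma H
  · obtain ⟨T, hVT, hTMH, hTq, hTcard⟩ :=
      Cfsg.Agent.Lead.exists_le_card_eq_ppart hVq (le_inf hVM hVH)
    have hmax : ∀ T' : Subgroup G, IsPGroup q ↥T' → T ≤ T' → T' ≤ M ⊓ H → T' = T := by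
      intro T' hT'q hTT' hT'MH
      have h1 := Cfsg.Agent.Lead.card_dvd_ppart_of_isPGroup hT'q hT'MH
      rw [← hTcard] at h1
      exact (Subgroup.eq_of_le_of_card_ge hTT' (Nat.le_of_dvd Nat.card_pos h1)).symm
    obtain ⟨hNT, hTcardH⟩ := Cfsg.Agent.Helper4.BG10.sigma_subgroup_embedding hG hM hH hHM hqσ
      hV1 hVT hNV hTq hTMH hmax
    have hTM : T ≤ M := hTMH.trans inf_le_left
    have hTH : T ≤ H := hTMH.trans inf_le_right
    have hTcardG : Nat.card T = q ^ (Nat.card G).factorization q := by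
      rw [hTcardH, Cfsg.Agent.Helper4.BG12.factorization_eq_of_mem_sigma hG hH hqH]
    have cH : SigCtx H q T := Cfsg.Agent.Helper4.BG12.sigCtx_of_sylow hG hH hqH hTH hTq hTcardG
    have cM : SigCtx M q T := Cfsg.Agent.Helper4.BG12.sigCtx_of_sylow hG hM hqσ hTM hTq hTcardG
    exact ⟨T, hVT, ⟨cM, cH, Ne.symm hHM⟩⟩
  · exfalso
    obtain ⟨A, -, -, -, -, -, hbot, -⟩ :=
      Cfsg.Agent.Helper4.BG12.ecfg_data hG hM hH hHM hqσ hqH hVM hVq hV1 hNV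
    exact hσ hbot

/-- in the "(d)-world", a prime `r ∈ τ₁(H)` dividing `|M|`, `r ∉ σ(M)`, lies in `τ₁(M)` -/
theorem mem_tau1_of_NU {M H : Subgroup G} {q : ℕ} [hq : Fact q.Prime] {T : Subgroup G}
    (h : NU M H q T) {r : ℕ} [hr : Fact r.Prime] (hrH : r ∈ Cfsg.tau1 H)
    (hrM : r ∣ Nat.card M) (hrσ : r ∉ Cfsg.sigma M) : r ∈ Cfsg.tau1 M := by
  have hG := h.cM.min
  have hM := h.cM.coatom
  have hrβ : r ∉ Cfsg.beta M := fun hβ => hrσ (mem_sigma_of_mem_beta hG hM hβ)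
  obtain ⟨D, hD⟩ : ∃ D : Subgroup G, D = M ⊓ Subgroup.normalizer (T : Set G) := ⟨_, rfl⟩
  have hDM : D ≤ M := hD ▸ inf_le_left
  have hDH : D ≤ H := hD ▸ inf_le_right.trans h.cH.norm
  have hnd : ¬ r ∣ D.relIndex M := hD ▸ sigCtx_not_dvd_relIndex_normalizer h.cM hr.out hrβ
  have hfac := Cfsg.Agent.Lead.BG12.factorization_eq_of_not_dvd_relIndex hDM hr.out hnd
  have hrβcard : ¬ r ∣ Nat.card ↥(Cfsg.piCoreOf (Cfsg.beta M) M) :=
    fun hd => hrβ (Cfsg.Agent.Helper1.BGT.piCoreOf_isPi (Cfsg.beta M) M r hr.out hd)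
  refine ⟨hr.out, hrσ, hrM, ?_, ?_⟩
  · -- `r ∤ |M'|`
    apply Cfsg.Agent.Helper4.BG12.not_dvd_card_commutator_of_mul hr.out
      (Cfsg.Agent.Helper1.BGT.le_normalizer_piCoreOf (Cfsg.beta M) M) hDM ?_ hrβcard ?_
    · intro m hm
      obtain ⟨b, hb, n, hn, e⟩ := sigCtx_exists_mul_betaCore h.cM m hm
      refine ⟨b, hb, n, ?_, e⟩
      rw [hD]
      refine ⟨?_, hn⟩
      have : n = b⁻¹ * m := by rw [e]; group
      rw [this]
      exact M.mul_mem (M.inv_mem (Cfsg.Agent.Helper1.BGT.piCoreOf_le _ _ hb)) hm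
    · intro hd
      exact hrH.2.2.2.1 (hd.trans (Subgroup.card_dvd_of_le (Subgroup.commutator_mono hDH hDH)))
  · -- `M` has `r`-rank one
    by_contra hnr
    obtain ⟨F, hFM, hFe, hFcard⟩ := hasEA_of_not_pRankLE hnr
    obtain ⟨SD, -, hSDle, hSDr, hSDcard⟩ :=
      Cfsg.Agent.Lead.exists_le_card_eq_ppart (p := r) (H := D) (U := ⊥) IsPGroup.of_bot bot_le
    rw [hfac] at hSDcard
    obtain ⟨m, hm, hmF⟩ := Cfsg.Agent.Lead.exists_conj_le_of_card_eq_ppart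
      (hSDle.trans hDM) hSDcard hFM (Cfsg.Agent.Helper3.BGAlpha.isPGroup_of_elementary hFe)
    refine not_pRankLE_of_hasEA ⟨_, hmF.trans (hSDle.trans hDH),
      Cfsg.Agent.Helper3.BGAlpha.elementary_map_conj hFe m, ?_⟩ hrH.2.2.2.2
    rw [Cfsg.Agent.Lead.card_map_conj]
    exact hFcard

end Cfsg.Agent.Helper3.BG134
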