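import Mathlib
import Cfsg.Prelude
import Cfsg.Agent.Helper3.BG1212a
import Cfsg.Agent.Helper6.FaithfulIrr

set_option autoImplicit false
set_option linter.unusedSectionVars false
set_option linter.unusedVariables false

/-!
Bender–Glauberman Theorem 12.12: the case of Sylow `p`-subgroups of rank at least three (U3),
modulo the `p`-group lemma (U2).
-/

namespace Cfsg.Agent.Helper3.BG1212

open Cfsg Cfsg.Agent.Helper1 Cfsg.Agent.Helper2 Cfsg.Agent.Helper1.BGT Cfsg.Agent.Helper1.BGU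
  Cfsg.Agent.Helper1.BGV Cfsg.Agent.Helper1.BGW Cfsg.Agent.Helper1.BGX Cfsg.Agent.Lead.BG12
open scoped commutatorElement Pointwise

universe u

variable {G : Type u} [Group G] [Finite G]

/-- the `p`-group lemma (U2): in a `p`-group `S` (`p` odd) of rank at least three, the centralizer
of an element of order `p` of `S'` has rank at least three. -/
def HypU2 (G : Type u) [Group G] : Prop :=
  ∀ (p : ℕ) [Fact p.Prime] (S : Subgroup G), p ≠ 2 → IsPGroup p ↥S → ¬ Cfsg.PRankLE p 2 ↥S →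
    ∀ x ∈ ⁅S, S⁆, x ^ p = 1 →
      ¬ Cfsg.PRankLE p 2 ↥(S ⊓ Subgroup.centralizer ({x} : Set G))

/-- the quotient generation lemma (GQ) -/
def HypGQ (G : Type u) [Group G] : Prop :=
  ∀ (p : ℕ) [Fact p.Prime] (Z₀ P₁ K D : Subgroup G), Nat.card Z₀ = p → Z₀ ≤ P₁ →
    P₁ ≤ Subgroup.centralizer (Z₀ : Set G) → Nat.card P₁ = p ^ 3 → (∀ x ∈ P₁, x ^ p = 1) →
    P₁ ≤ Subgroup.normalizer (K : Set G) → K ≤ Subgroup.centralizer (Z₀ : Set G) →
    ¬ p ∣ Nat.card K →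
    (∀ B : Subgroup G, Z₀ ≤ B → B ≤ P₁ → Nat.card B = p ^ 2 →
      K ⊓ Subgroup.centralizer (B : Set G) ≤ D) → K ≤ D

/-- a nonabelian `p`-subgroup `P` has a central element of order `p` inside `P'` -/
theorem exists_central_commutator {p : ℕ} [hp : Fact p.Prime] {P : Subgroup G}
    (hP : IsPGroup p ↥P) (hna : ¬ IsMulCommutative ↥P) :
    ∃ x : G, x ∈ ⁅P, P⁆ ∧ x ∈ P ∧ x ∈ Subgroup.centralizer (P : Set G) ∧ x ≠ 1 ∧ x ^ p = 1 := by
  have hN : commutator ↥P ≠ ⊥ := by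
    intro h
    apply hna
    refine ⟨⟨fun a b => ?_⟩⟩
    have h1 : ⁅a, b⁆ ∈ commutator ↥P := Subgroup.commutator_mem_commutator
      (Subgroup.mem_top a) (Subgroup.mem_top b)
    rw [h, Subgroup.mem_bot, commutatorElement_eq_one_iff_mul_comm] at h1
    exact h1
  obtain ⟨b, hbN, hbZ, hb1⟩ :=
    Cfsg.Agent.Helper6.exists_mem_center_of_normal_ne_bot p hP (commutator ↥P) hN
  have hmap : (commutator ↥P).map P.subtype = ⁅P, P⁆ := Subgroup.map_subtype_commutator P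
  have hbc : (b : G) ∈ ⁅P, P⁆ := by
    rw [← hmap]; exact ⟨b, hbN, rfl⟩
  have hbC : (b : G) ∈ Subgroup.centralizer (P : Set G) := by
    refine Subgroup.mem_centralizer_iff.2 ?_
    intro y hy
    have := Subgroup.mem_center_iff.1 hbZ ⟨y, hy⟩
    exact congrArg Subtype.val this
  -- the subgroup `Ω = P' ∩ P ∩ C(P)`
  obtain ⟨Ω, hΩ⟩ : ∃ Ω : Subgroup G, Ω = ⁅P, P⁆ ⊓ (P ⊓ Subgroup.centralizer (P : Set G)) :=
    ⟨_, rfl⟩
  have hΩP : Ω ≤ P := by rw [hΩ]; exact inf_le_right.trans inf_le_left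
  have hΩp : IsPGroup p ↥Ω := hP.to_le hΩP
  have hΩ1 : Ω ≠ ⊥ := by
    intro h
    have hb : (b : G) ∈ Ω := by
      rw [hΩ]; exact ⟨hbc, b.2, hbC⟩
    rw [h, Subgroup.mem_bot] at hb
    exact hb1 (Subtype.ext hb)
  obtain ⟨z, hz, hz1, hzp⟩ := exists_central_of_order hΩp hΩ1
  have hzΩ : z ∈ Ω := hz.1
  rw [hΩ] at hzΩ
  exact ⟨z, hzΩ.1, hzΩ.2.1, hzΩ.2.2, hz1, hzp⟩

/-- the centralizer of a nontrivial element is a proper subgroup -/
theorem centralizer_singleton_ne_top (hG : Cfsg.IsMinSimpleOddOrder G) {p : ℕ} [hp : Fact p.Prime]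
    {x : G} (hx1 : x ≠ 1) (hxp : x ^ p = 1) :
    Subgroup.centralizer ({x} : Set G) ≠ ⊤ := by
  intro htop
  have hzbot : Subgroup.zpowers x ≠ ⊥ := fun h => hx1 (Subgroup.zpowers_eq_bot.1 h)
  have hztop : Subgroup.zpowers x ≠ ⊤ :=
    sylow_ne_top hG p _ (Cfsg.Agent.Helper3.BGAlpha.isPGroup_of_elementary
      (Cfsg.Agent.Helper1.SCN3.elementary_zpowers hxp))
  apply normalizer_ne_top_of_simple hG hzbot hztop
  rw [eq_top_iff]
  intro g _
  apply Subgroup.centralizer_le_normalizer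
  refine Subgroup.mem_centralizer_iff.2 ?_
  intro y hy
  obtain ⟨k, rfl⟩ := Subgroup.mem_zpowers_iff.1 hy
  have hg : g ∈ Subgroup.centralizer ({x} : Set G) := htop ▸ Subgroup.mem_top g
  have h1 : g * x = x * g := Subgroup.mem_centralizer_singleton_iff.1 hg
  exact ((Commute.zpow_left (show Commute x g from h1.symm) k).eq)

/-- **(U3)**: the rank at least three case.  Every maximal subgroup containing the nonabelian
`p`-subgroup `P` is the one containing `C(x)`. -/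
theorem eq_of_rank3 (hG : Cfsg.IsMinSimpleOddOrder G) (hU2 : HypU2 G) {p : ℕ} [hp : Fact p.Prime]
    {P : Subgroup G} (hP : IsPGroup p ↥P) (hna : ¬ IsMulCommutative ↥P) {x : G}
    (hxc : x ∈ ⁅P, P⁆) (hxC : x ∈ Subgroup.centralizer (P : Set G)) (hx1 : x ≠ 1)
    (hxp : x ^ p = 1) {Hs : Subgroup G} (hHs : IsCoatom Hs)
    (hCH : Subgroup.centralizer ({x} : Set G) ≤ Hs) {M T : Subgroup G} (hM : IsCoatom M)
    (hPT : P ≤ T) (c : SigCtx M p T) (hr : ¬ Cfsg.PRankLE p 2 ↥T) : M = Hs := by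
  have hp2 := ne_two_of_nonabelian hG.1 hP hna
  have hxT : x ∈ ⁅T, T⁆ := Subgroup.commutator_mono hPT hPT hxc
  have h3 := hU2 p T hp2 c.pgroup hr x hxT hxp
  obtain ⟨K, hK⟩ : ∃ K : Subgroup G, K = M ⊓ Subgroup.centralizer ({x} : Set G) := ⟨_, rfl⟩
  have hKM : K ≤ M := by rw [hK]; exact inf_le_left
  have hKtop : K ≠ ⊤ := by
    intro h
    exact hM.1 (top_le_iff.1 (h ▸ hKM))
  have hPK : P ≤ K := by
    rw [hK]
    refine le_inf (hPT.trans c.le) ?_
    intro y hy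
    refine Subgroup.mem_centralizer_singleton_iff.2 ?_
    exact Subgroup.mem_centralizer_iff.1 hxC y hy
  have hK1 : ¬ Cfsg.RankLE 1 ↥K :=
    not_rankLE_of_hasEA hp.out ((hasEA_one_of_nonabelian hG.1 hP hna).mono hPK)
  have hK2 : ¬ Cfsg.RankLE 2 ↥K := by
    apply not_rankLE_of_hasEA hp.out
    apply (hasEA_of_not_pRankLE h3).mono
    rw [hK]
    exact inf_le_inf_right _ c.le
  have hKU := Cfsg.Agent.S1403.result hG K hKtop hK1 (Or.inl hK2)
  have hKH : K ≤ Hs := by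
    rw [hK]; exact inf_le_right.trans hCH
  exact hKU.unique ⟨hM, hKM⟩ ⟨hHs, hKH⟩

end Cfsg.Agent.Helper3.BG1212
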