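import Mathlib
import Cfsg.Prelude
import Cfsg.Agent.Helper3.BG1212b
import Cfsg.Agent.Helper4.BG10d
import Cfsg.Agent.S1416

set_option autoImplicit false
set_option linter.unusedSectionVars false
set_option linter.unusedVariables false

/-!
Bender–Glauberman Theorem 12.12: the case of nonabelian Sylow `p`-subgroups of rank two (U4),
modulo the quotient generation lemma (GQ).
-/

namespace Cfsg.Agent.Helper3.BG1212

open Cfsg Cfsg.Agent.Helper1 Cfsg.Agent.Helper2 Cfsg.Agent.Helper1.BGT Cfsg.Agent.Helper1.BGU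
  Cfsg.Agent.Helper1.BGV Cfsg.Agent.Helper1.BGW Cfsg.Agent.Helper1.BGX Cfsg.Agent.Lead.BG12
open scoped commutatorElement Pointwise

universe u

variable {G : Type u} [Group G] [Finite G]

/-- the structure of a nonabelian Sylow `p`-subgroup `S` of rank at most two: `P₁ ≤ S` nonabelian
of order `p ^ 3` and exponent `p`, `Z₀ = Z(P₁) = P₁' = S'` of order `p`, central in `S`. -/
structure R2 (p : ℕ) (S P₁ Z₀ : Subgroup G) : Prop where
  le : P₁ ≤ S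
  card : Nat.card P₁ = p ^ 3
  exp : ∀ x ∈ P₁, x ^ p = 1
  na : ¬ IsMulCommutative ↥P₁
  zcard : Nat.card Z₀ = p
  zeq : Z₀ = P₁ ⊓ Subgroup.centralizer (P₁ : Set G)
  zcent : Z₀ ≤ Subgroup.centralizer (S : Set G)
  comm : ⁅S, S⁆ = Z₀
  comm1 : ⁅P₁, P₁⁆ = Z₀

theorem exists_r2 (hG : Cfsg.IsMinSimpleOddOrder G) (p : ℕ) [hp : Fact p.Prime] (Q : Sylow p G)
    (hr : Cfsg.PRankLE p 2 ↥(Q : Subgroup G)) (hna : ¬ IsMulCommutative ↥(Q : Subgroup G)) :
    ∃ P₁ Z₀ : Subgroup G, R2 p (Q : Subgroup G) P₁ Z₀ := by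
  obtain ⟨Z, Z1, q⟩ := Cfsg.Agent.Helper4.BG10.exists_qStr hG p Q hr hna
  rcases Cfsg.Agent.S1412.result hG p Q hr with h | ⟨P1, P2, hsup, hcm, hP1na, hP1card, hexp,
    hP2cyc, hcl⟩
  · exact absurd h hna
  obtain ⟨hZ1card, hP1comm⟩ := Cfsg.Agent.Helper1.R2S.center_of_card_cube' P1 hP1card hP1na
  have hP1Q : P1 ≤ (Q : Subgroup G) := by rw [← hsup]; exact le_sup_left
  have hle : ⁅P1, P1⁆ ≤ Z1 := by
    rw [← q.hcomm]; exact Subgroup.commutator_mono hP1Q hP1Q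
  have heq : P1 ⊓ Subgroup.centralizer (P1 : Set G) = Z1 := by
    apply Subgroup.eq_of_le_of_card_ge
    · rw [← hP1comm]; exact hle
    · rw [q.hZ1card, hZ1card]
  refine ⟨P1, Z1, hP1Q, hP1card, ?_, hP1na, q.hZ1card, heq.symm, q.hZ1Z.trans q.hZc, q.hcomm,
    hP1comm.trans heq⟩
  intro x hx
  have h1 := Monoid.pow_exponent_eq_one (⟨x, hx⟩ : ↥P1)
  rw [hexp] at h1
  have h2 := congrArg Subtype.val h1
  simpa using h2

section points

variable {p : ℕ} [hp : Fact p.Prime] {S P₁ Z₀ : Subgroup G}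

theorem R2.zle (r : R2 p S P₁ Z₀) : Z₀ ≤ P₁ := by
  rw [r.zeq]; exact inf_le_left

theorem R2.zcentP (r : R2 p S P₁ Z₀) : Z₀ ≤ Subgroup.centralizer (P₁ : Set G) := by
  rw [r.zeq]; exact inf_le_right

theorem R2.z_ne_bot (r : R2 p S P₁ Z₀) : Z₀ ≠ ⊥ := by
  intro h
  have := r.zcard
  rw [h, Subgroup.card_bot] at this
  exact hp.out.one_lt.ne this

/-- the points of `A` other than `Z₀` are conjugate under `P₁` -/
theorem exists_conj_point (r : R2 p S P₁ Z₀) {A X X' : Subgroup G} (hZA : Z₀ ≤ A)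
    (hAP : A ≤ P₁) (hAcard : Nat.card A = p ^ 2) (hXA : X ≤ A) (hXcard : Nat.card X = p)
    (hXZ : X ≠ Z₀) (hX'A : X' ≤ A) (hX'card : Nat.card X' = p) (hX'Z : X' ≠ Z₀) :
    ∃ g ∈ P₁, X.map (MulAut.conj g).toMonoidHom = X' := by
  have hp1 := hp.out.one_lt
  -- `X ⊓ Z₀ = ⊥`
  have hinf : X ⊓ Z₀ = ⊥ := by
    by_contra hne
    obtain ⟨y, hy1⟩ := (Subgroup.ne_bot_iff_exists_ne_one).1 hne
    have hyX : (y : G) ∈ X := (Subgroup.mem_inf.1 y.2).1
    have hyZ : (y : G) ∈ Z₀ := (Subgroup.mem_inf.1 y.2).2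
    have hy1' : (y : G) ≠ 1 := fun h => hy1 (Subtype.ext h)
    have h1 := zpowers_eq_of_card_prime hXcard hyX hy1'
    have h2 := zpowers_eq_of_card_prime r.zcard hyZ hy1'
    exact hXZ (h1.symm.trans h2)
  have hZNX : Z₀ ≤ Subgroup.normalizer (X : Set G) := by
    refine le_trans ?_ (Subgroup.centralizer_le_normalizer _)
    exact r.zcentP.trans (Subgroup.centralizer_le (SetLike.coe_subset_coe.mpr (hXA.trans hAP)))
  have hcard := Cfsg.Agent.Helper1.card_sup_mul_card_inf (N := X) (A := Z₀) hZNX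
  rw [hinf, Subgroup.card_bot, mul_one, hXcard, r.zcard] at hcard
  have hsup : X ⊔ Z₀ = A := by
    apply Subgroup.eq_of_le_of_card_ge (sup_le hXA hZA)
    rw [hcard, hAcard, pow_two]
  -- a generator of `X'`
  have hX'1 : 1 < Nat.card X' := by rw [hX'card]; exact hp1
  obtain ⟨x', hx', hx'1⟩ := exists_ne_one_of_one_lt_card hX'1
  have hX'gen : Subgroup.zpowers x' = X' := zpowers_eq_of_card_prime hX'card hx' hx'1
  have hx'A : x' ∈ ((X ⊔ Z₀ : Subgroup G) : Set G) := by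
    rw [hsup]; exact hX'A hx'
  rw [Subgroup.coe_mul_of_right_le_normalizer_left X Z₀ hZNX] at hx'A
  obtain ⟨y, hy, z, hz, hyz⟩ := Set.mem_mul.mp hx'A
  have hy1 : y ≠ 1 := by
    rintro rfl
    rw [one_mul] at hyz
    apply hX'Z
    rw [← hX'gen, ← hyz]
    exact zpowers_eq_of_card_prime r.zcard hz (hyz ▸ hx'1)
  have hXgen : Subgroup.zpowers y = X := zpowers_eq_of_card_prime hXcard hy hy1
  have hyZ : y ∉ Z₀ := by
    intro h
    exact hXZ (hXgen.symm.trans (zpowers_eq_of_card_prime r.zcard h hy1))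
  have hyP : y ∈ P₁ := hAP (hXA hy)
  have hyC : y ∉ Subgroup.centralizer (P₁ : Set G) := by
    intro h
    apply hyZ
    rw [r.zeq]; exact ⟨hyP, h⟩
  rw [Subgroup.mem_centralizer_iff] at hyC
  push Not at hyC
  obtain ⟨g₀, hg₀, hg₀y⟩ := hyC
  -- the commutator `c`
  obtain ⟨c, hc⟩ : ∃ c : G, c = ⁅g₀, y⁆ := ⟨_, rfl⟩
  have hcZ : c ∈ Z₀ := by
    rw [hc, ← r.comm1]; exact Subgroup.commutator_mem_commutator hg₀ hyP
  have hc1 : c ≠ 1 := by
    intro h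
    rw [hc, commutatorElement_eq_one_iff_mul_comm] at h
    exact hg₀y h
  have hcy : g₀ * y * g₀⁻¹ = c * y := by
    rw [hc, commutatorElement_def]; group
  have hcent : ∀ w ∈ Z₀, ∀ v ∈ P₁, v * w = w * v := fun w hw v hv =>
    Subgroup.mem_centralizer_iff.1 (r.zcentP hw) v hv
  have hZgen : Subgroup.zpowers c = Z₀ := zpowers_eq_of_card_prime r.zcard hcZ hc1
  have hzc : z ∈ Submonoid.powers c := by
    rw [mem_powers_iff_mem_zpowers, hZgen]; exact hz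
  obtain ⟨k, hk⟩ := (Submonoid.mem_powers_iff _ _).1 hzc
  have key : ∀ n : ℕ, g₀ ^ n * y * (g₀ ^ n)⁻¹ = y * c ^ n := by
    intro n
    induction n with
    | zero => simp
    | succ n ih =>
      have hcn : c ^ n ∈ Z₀ := Subgroup.pow_mem _ hcZ n
      have e1 : g₀ * c ^ n = c ^ n * g₀ := hcent _ hcn g₀ hg₀
      have e2 : y * c = c * y := hcent c hcZ y hyP
      calc g₀ ^ (n + 1) * y * (g₀ ^ (n + 1))⁻¹
          = g₀ * (g₀ ^ n * y * (g₀ ^ n)⁻¹) * g₀⁻¹ := by rw [pow_succ']; group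
        _ = g₀ * (y * c ^ n) * g₀⁻¹ := by rw [ih]
        _ = (g₀ * y * g₀⁻¹) * (g₀ * c ^ n) * g₀⁻¹ := by group
        _ = (c * y) * (c ^ n * g₀) * g₀⁻¹ := by rw [hcy, e1]
        _ = (c * y) * c ^ n := by group
        _ = y * c ^ (n + 1) := by rw [← e2, pow_succ', mul_assoc]
  refine ⟨g₀ ^ k, Subgroup.pow_mem _ hg₀ k, ?_⟩
  rw [← hXgen, MonoidHom.map_zpowers, ← hX'gen]
  congr 1
  show g₀ ^ k * y * (g₀ ^ k)⁻¹ = x'
  rw [key k, hk, hyz]

end points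

/-- **(U4a)**: for a nonabelian Sylow `p`-subgroup `S ≤ M` of rank two, `C(Z₀) ≤ M` and
`N(Z₀) ≤ M`. -/
theorem centralizer_le_of_r2 (hG : Cfsg.IsMinSimpleOddOrder G) (hGQ : HypGQ G) {p : ℕ}
    [hp : Fact p.Prime] {M S P₁ Z₀ : Subgroup G} (hM : IsCoatom M) (c : SigCtx M p S)
    (r : R2 p S P₁ Z₀) :
    Subgroup.centralizer (Z₀ : Set G) ≤ M ∧ Subgroup.normalizer (Z₀ : Set G) ≤ M := by
  have hZ₀S : Z₀ ≤ S := r.zle.trans r.le
  have hZ₀p : IsPGroup p ↥Z₀ := c.pgroup.to_le hZ₀S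
  have hZ₀top : Z₀ ≠ ⊤ := sylow_ne_top hG p _ hZ₀p
  have hS1 : S ≠ ⊥ := fun h => r.z_ne_bot (le_bot_iff.1 (h ▸ hZ₀S))
  have hH : Subgroup.centralizer (Z₀ : Set G) ≠ ⊤ := by
    intro h
    apply normalizer_ne_top_of_simple hG r.z_ne_bot hZ₀top
    rw [eq_top_iff, ← h]
    exact Subgroup.centralizer_le_normalizer _
  have hSH : S ≤ Subgroup.centralizer (Z₀ : Set G) := Subgroup.le_centralizer_iff.1 r.zcent
  have hScard : Nat.card S =
      p ^ (Nat.card ↥(Subgroup.centralizer (Z₀ : Set G))).factorization p := by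
    apply Cfsg.Agent.Lead.card_eq_ppart_of_le hSH le_top c.pgroup
    rw [Subgroup.card_top]; exact c.cardG
  obtain ⟨K, hKH, hHK, hKcop, hfr⟩ := exists_pPrime_frattini hG hH hSH c.pgroup hScard
  have hKM : K ≤ M := by
    apply hGQ p Z₀ P₁ K M r.zcard r.zle (r.le.trans hSH) r.card r.exp
      (r.le.trans (hSH.trans hHK)) hKH
    · exact (Nat.Prime.coprime_iff_not_dvd hp.out).1 hKcop.symm
    · intro B hZB hBP hBcard
      have hBe : Cfsg.IsElementaryAbelian p B :=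
        ⟨IsPGroup.isMulCommutative_of_card_eq_prime_sq hBcard, fun b hb => r.exp b (hBP hb)⟩
      have hBM : B ≤ M := hBP.trans (r.le.trans c.le)
      exact inf_le_right.trans (Cfsg.Agent.S1416.result hG M hM p B ⟨hBM, hBe, hBcard⟩).1
  have hHM : Subgroup.centralizer (Z₀ : Set G) ≤ M := by
    intro h hh
    obtain ⟨k, hk, n, hn, rfl⟩ := hfr h hh
    exact M.mul_mem (hKM hk) (c.norm hn.2)
  refine ⟨hHM, ?_⟩
  have hpσ := SigCtx_mem_sigma c hS1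
  have h2 := (Cfsg.Agent.S1404.result hG M hM p hpσ Z₀ hZ₀p r.z_ne_bot (hZ₀S.trans c.le)).2
  rw [h2]
  exact sup_le inf_le_left hHM

/-- **(U4b)**: a nonabelian Sylow `p`-subgroup of rank two lies in a unique maximal subgroup. -/
theorem eq_of_common_sylow (hG : Cfsg.IsMinSimpleOddOrder G) (hGQ : HypGQ G) {p : ℕ}
    [hp : Fact p.Prime] {M L S P₁ Z₀ : Subgroup G} (hM : IsCoatom M) (hL : IsCoatom L)
    (cM : SigCtx M p S) (cL : SigCtx L p S) (r : R2 p S P₁ Z₀) : M = L := by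
  by_contra hne
  have hp1 := hp.out.one_lt
  -- the subgroup `A`
  have hdvd : p ^ (1 + 1) ∣ Nat.card ↥P₁ := by rw [r.card]; exact pow_dvd_pow p (by norm_num)
  have hZcard' : Nat.card ↥(Z₀.subgroupOf P₁) = p ^ 1 := by
    rw [Cfsg.Agent.Lead.card_subgroupOf_of_le r.zle, r.zcard, pow_one]
  obtain ⟨K', hK'card, hZK'⟩ := Sylow.exists_subgroup_card_pow_succ hdvd hZcard'
  obtain ⟨A, hA⟩ : ∃ A : Subgroup G, A = K'.map P₁.subtype := ⟨_, rfl⟩
  have hAP : A ≤ P₁ := by rw [hA]; exact Subgroup.map_subtype_le _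
  have hAcard : Nat.card A = p ^ 2 := by
    rw [hA, Subgroup.card_map_of_injective P₁.subtype_injective]; exact hK'card
  have hZA : Z₀ ≤ A := by
    intro z hz
    rw [hA]
    exact ⟨⟨z, r.zle hz⟩, hZK' (Subgroup.mem_subgroupOf.2 hz), rfl⟩
  have hAe : Cfsg.IsElementaryAbelian p A :=
    ⟨IsPGroup.isMulCommutative_of_card_eq_prime_sq hAcard, fun b hb => r.exp b (hAP hb)⟩
  have hAS : A ≤ S := hAP.trans r.le
  have hD : HypD G := Cfsg.Agent.Helper1.BG116.hypD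
  have hα : HypAlpha G := Cfsg.Agent.Helper3.BGAlpha.hypAlpha hG
  -- uniqueness holds for `M` and for `L`
  have huniq : ∀ {M' L' : Subgroup G}, IsCoatom M' → IsCoatom L' → SigCtx M' p S →
      SigCtx L' p S → M' ≠ L' → ¬ NonUniq M' p A := by
    intro M' L' hM' hL' cM' cL' hne' hno
    obtain ⟨-, -, hnil⟩ := thm124b hG hD hα hM' (hAS.trans cM'.le) hAe hAcard hno
    have hN := Cfsg.Agent.Helper4.BG11.normalizer_eq_of_isNilpotent_sigmaCore cM' hnil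
    have hle : M' ≤ L' := hN ▸ cL'.norm
    exact hne' ((hM'.le_iff_eq hL'.1).1 hle).symm
  have hM1 := huniq hM hL cM cL hne
  have hL1 := huniq hL hM cL cM (Ne.symm hne)
  unfold NonUniq at hM1 hL1
  push Not at hM1 hL1
  obtain ⟨X, hXA, hXcard, hXM, hXu⟩ := hM1
  obtain ⟨X', hX'A, hX'card, hX'L, hX'u⟩ := hL1
  have hNZM := (centralizer_le_of_r2 hG hGQ hM cM r).2
  have hNZL := (centralizer_le_of_r2 hG hGQ hL cL r).2
  have hXZ : X ≠ Z₀ := by
    rintro rfl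
    exact hne (hXu L hL hNZL).symm
  have hX'Z : X' ≠ Z₀ := by
    rintro rfl
    exact hne (hX'u M hM hNZM)
  obtain ⟨g, hg, hgX⟩ := exists_conj_point r hZA hAP hAcard hXA hXcard hXZ hX'A hX'card hX'Z
  have hgM : g ∈ M := cM.le (r.le hg)
  have hX'M : Subgroup.normalizer (X' : Set G) ≤ M := by
    rw [← hgX, Cfsg.Agent.Lead.normalizer_map_conj]
    rintro _ ⟨n, hn, rfl⟩
    exact M.mul_mem (M.mul_mem hgM (hXM hn)) (M.inv_mem hgM)
  exact hne (hX'u M hM hX'M)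

/-- **(U4c)**: the rank two case. -/
theorem eq_of_rank2 (hG : Cfsg.IsMinSimpleOddOrder G) (hGQ : HypGQ G) {p : ℕ}
    [hp : Fact p.Prime] {P : Subgroup G} (hP : IsPGroup p ↥P) (hna : ¬ IsMulCommutative ↥P)
    {M L TM TL : Subgroup G} (hM : IsCoatom M) (hL : IsCoatom L) (cM : SigCtx M p TM)
    (cL : SigCtx L p TL) (hPTM : P ≤ TM) (hPTL : P ≤ TL) (hr : Cfsg.PRankLE p 2 ↥TM) :
    M = L := by
  have hTMna : ¬ IsMulCommutative ↥TM := fun h => hna (isMulCommutative_of_le h hPTM)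
  have hTLna : ¬ IsMulCommutative ↥TL := fun h => hna (isMulCommutative_of_le h hPTL)
  have hr' : Cfsg.PRankLE p 2 ↥TL := by
    by_contra hcon
    exact not_pRankLE_of_hasEA (hasEA_of_sylow cL.pgroup cM.cardG (hasEA_of_not_pRankLE hcon)) hr
  obtain ⟨QM, hQM⟩ : ∃ Q : Sylow p G, (Q : Subgroup G) = TM :=
    ⟨Sylow.ofCard TM cM.cardG, Sylow.coe_ofCard _ _⟩
  obtain ⟨QL, hQL⟩ : ∃ Q : Sylow p G, (Q : Subgroup G) = TL :=
    ⟨Sylow.ofCard TL cL.cardG, Sylow.coe_ofCard _ _⟩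
  obtain ⟨P₁, Z₀, rM⟩ := exists_r2 hG p QM (hQM ▸ hr) (hQM ▸ hTMna)
  obtain ⟨P₁', Z₀', rL⟩ := exists_r2 hG p QL (hQL ▸ hr') (hQL ▸ hTLna)
  rw [hQM] at rM
  rw [hQL] at rL
  -- `P' = Z₀ = Z₀'`
  have hPc1 : ⁅P, P⁆ ≠ ⊥ := by
    intro h
    apply hna
    refine ⟨⟨fun a b => ?_⟩⟩
    apply Subtype.ext
    have h1 : ⁅(a : G), (b : G)⁆ ∈ ⁅P, P⁆ := Subgroup.commutator_mem_commutator a.2 b.2
    rw [h, Subgroup.mem_bot, commutatorElement_eq_one_iff_mul_comm] at h1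
    exact h1
  have key : ∀ {T P₂ Z : Subgroup G}, R2 p T P₂ Z → P ≤ T → ⁅P, P⁆ = Z := by
    intro T P₂ Z r hPT
    have hle : ⁅P, P⁆ ≤ Z := by
      rw [← r.comm]; exact Subgroup.commutator_mono hPT hPT
    apply Subgroup.eq_of_le_of_card_ge hle
    have hd : Nat.card ↥⁅P, P⁆ ∣ p := by
      rw [← r.zcard]; exact Subgroup.card_dvd_of_le hle
    rcases (Nat.dvd_prime hp.out).1 hd with h1 | h1
    · exact absurd (Subgroup.card_eq_one.1 h1) hPc1
    · rw [h1, r.zcard]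
  have hZZ : Z₀ = Z₀' := (key rM hPTM).symm.trans (key rL hPTL)
  have hCM := (centralizer_le_of_r2 hG hGQ hM cM rM).1
  have hTLM : TL ≤ M := by
    refine le_trans ?_ hCM
    rw [hZZ]
    exact Subgroup.le_centralizer_iff.1 rL.zcent
  have hTM1 : TM ≠ ⊥ := fun h => rM.z_ne_bot (le_bot_iff.1 (h ▸ (rM.zle.trans rM.le)))
  have hpσM := SigCtx_mem_sigma cM hTM1
  have cM' : SigCtx M p TL :=
    Cfsg.Agent.Helper4.BG12.sigCtx_of_sylow hG hM hpσM hTLM cL.pgroup cL.cardG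
  exact eq_of_common_sylow hG hGQ hM hL cM' cL rL

/-- **Bender–Glauberman Theorem 12.12**, modulo (U2) and (GQ). -/
theorem thm1212 (hG : Cfsg.IsMinSimpleOddOrder G) (hU2 : HypU2 G) (hGQ : HypGQ G) (p : ℕ)
    [hp : Fact p.Prime] (P : Subgroup G) (hP : IsPGroup p ↥P) (hna : ¬ IsMulCommutative ↥P) :
    Cfsg.InUniqueMaximal P := by
  have hPtop : P ≠ ⊤ := sylow_ne_top hG p P hP
  obtain ⟨M₀, hM₀, hPM₀⟩ := exists_coatom_ge hPtop
  refine ⟨M₀, ⟨hM₀, hPM₀⟩, ?_⟩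
  rintro L ⟨hL, hPL⟩
  obtain ⟨T₀, hPT₀, c₀⟩ := exists_sigCtx_of_nonabelian hG hM₀ hPM₀ hP hna
  obtain ⟨TL, hPTL, cL⟩ := exists_sigCtx_of_nonabelian hG hL hPL hP hna
  by_cases hr : Cfsg.PRankLE p 2 ↥T₀
  · exact (eq_of_rank2 hG hGQ hP hna hM₀ hL c₀ cL hPT₀ hPTL hr).symm
  · obtain ⟨x, hxc, hxP, hxC, hx1, hxp⟩ := exists_central_commutator hP hna
    obtain ⟨Hs, hHs, hCH⟩ := exists_coatom_ge (centralizer_singleton_ne_top hG hx1 hxp)
    have hrL : ¬ Cfsg.PRankLE p 2 ↥TL := by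
      intro h
      exact not_pRankLE_of_hasEA (hasEA_of_sylow c₀.pgroup cL.cardG (hasEA_of_not_pRankLE hr)) h
    have h1 := eq_of_rank3 hG hU2 hP hna hxc hxC hx1 hxp hHs hCH hM₀ hPT₀ c₀ hr
    have h2 := eq_of_rank3 hG hU2 hP hna hxc hxC hx1 hxp hHs hCH hL hPTL cL hrL
    exact h2.trans h1.symm

end Cfsg.Agent.Helper3.BG1212
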