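import Mathlib
import Cfsg.Prelude
import Cfsg.Agent.Helper3.BG1212c
import Cfsg.Agent.Helper2.BGU2
import Cfsg.Agent.Helper2.BGGQ

set_option autoImplicit false
set_option linter.unusedSectionVars false
set_option linter.unusedVariables false

/-!
Bender–Glauberman Theorem 12.12, hypothesis-free: the hypotheses (U2) and (GQ) are discharged by
helper2's lemmas.
-/

namespace Cfsg.Agent.Helper3.BG1212

open Cfsg Cfsg.Agent.Helper1 Cfsg.Agent.Helper1.BGU Cfsg.Agent.Helper1.BGX
open scoped commutatorElement Pointwise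

universe u

variable {G : Type u} [Group G] [Finite G]

theorem hypU2 : HypU2 G := by
  intro p hp S hp2 hS hr x hx hxp
  exact Cfsg.Agent.Helper2.BGU2.not_pRankLE_two_inf_centralizer hp2 hS hr hx hxp

theorem hypGQ : HypGQ G := by
  intro p hp Z₀ P₁ K D hZcard hZP hPZ hPcard hPexp hPK hKZ hK hB
  -- `Z₀` normalizes `K ⊓ D`
  have hZN : Z₀ ≤ Subgroup.normalizer ((K ⊓ D : Subgroup G) : Set G) := by
    refine le_trans ?_ (Subgroup.centralizer_le_normalizer _)
    refine Subgroup.le_centralizer_iff.1 ?_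
    exact inf_le_left.trans hKZ
  have hmain : K ≤ (K ⊓ D) ⊔ Z₀ := by
    apply Cfsg.Agent.Helper2.BGGQ.le_of_hyperplanes_mod_center_subgroup (p := p) (K ⊔ P₁) Z₀ P₁ K
      ((K ⊓ D) ⊔ Z₀) (hZP.trans le_sup_right) (sup_le hKZ hPZ) le_sup_right le_sup_left
      (sup_le Subgroup.le_normalizer hPK) hZcard hZP hPcard hPexp hK le_sup_right
    intro B hZB hBP hBcard
    exact le_trans (le_inf inf_le_left (hB B hZB.le hBP hBcard)) le_sup_left
  intro k hk
  have hk' : k ∈ (((K ⊓ D) ⊔ Z₀ : Subgroup G) : Set G) := hmain hk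
  rw [Subgroup.coe_mul_of_right_le_normalizer_left (K ⊓ D) Z₀ hZN] at hk'
  obtain ⟨d, hd, z, hz, hdz⟩ := Set.mem_mul.mp hk'
  have hd' : d ∈ K ⊓ D := hd
  have hzK : z ∈ K := by
    have : z = d⁻¹ * k := by rw [← hdz]; group
    rw [this]
    exact K.mul_mem (K.inv_mem hd'.1) hk
  have hz1 : z = 1 := by
    by_contra hne
    have hgen := Cfsg.Agent.Lead.BG12.zpowers_eq_of_card_prime hZcard hz hne
    apply hK
    rw [← hZcard, ← hgen]
    exact Subgroup.card_dvd_of_le (Subgroup.zpowers_le.2 hzK)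
  rw [hz1, mul_one] at hdz
  rw [← hdz]
  exact hd'.2

/-- **Bender–Glauberman Theorem 12.12**: a nonabelian `p`-subgroup of a minimal simple group of
odd order lies in a unique maximal subgroup. -/
theorem nonabelian_uniqueness (hG : Cfsg.IsMinSimpleOddOrder G) (p : ℕ) [hp : Fact p.Prime]
    (P : Subgroup G) (hP : IsPGroup p ↥P) (hna : ¬ IsMulCommutative ↥P) :
    Cfsg.InUniqueMaximal P :=
  thm1212 hG hypU2 hypGQ p P hP hna

end Cfsg.Agent.Helper3.BG1212
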