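import Mathlib
import Cfsg.Prelude
import Cfsg.Agent.Helper3.BG134e
import Cfsg.Agent.Helper1.BGFrobB
import Cfsg.Agent.S1422

set_option autoImplicit false
set_option linter.unusedSectionVars false
set_option linter.unusedVariables false

/-!
Bender–Glauberman Theorem 13.4 (`S1428`): construction of the Frobenius kernel `V₀ = [Q₀, s]` and the
`H`-side (`N(V₀) ≤ H`).
-/

namespace Cfsg.Agent.Helper3.BG134

open Cfsg Cfsg.Agent.Helper1 Cfsg.Agent.Helper1.BGU Cfsg.Agent.Helper1.BGX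
open Cfsg.Agent.Helper3.BG131 Cfsg.Agent.Helper4.BG10
open scoped commutatorElement Pointwise

universe u

variable {G : Type u} [Group G] [Finite G]

/-- `p`-subgroups of `M`, `p ∈ α(M)`, lie in `M_α` -/
theorem le_alphaCore' (hG : Cfsg.IsMinSimpleOddOrder G) {M : Subgroup G} (hM : IsCoatom M)
    {p : ℕ} [hp : Fact p.Prime] (hpα : p ∈ Cfsg.alpha M) {S : Subgroup G} (hSM : S ≤ M)
    (hSp : IsPGroup p ↥S) : S ≤ Cfsg.alphaCore M := by
  intro x hx
  have h1 := le_alphaCore hG hM hpα hSM hSp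
  have h2 : (⟨x, hSM hx⟩ : ↥M) ∈ S.subgroupOf M := Subgroup.mem_subgroupOf.2 hx
  exact ⟨⟨x, hSM hx⟩, h1 h2, rfl⟩

/-- commuting with `s` means centralizing `⟨s⟩` -/
theorem mem_centralizer_zpowers_of_commute {s v : G} (h : v * s = s * v) :
    v ∈ Subgroup.centralizer ((Subgroup.zpowers s : Subgroup G) : Set G) := by
  rw [Subgroup.mem_centralizer_iff]
  intro b hb
  obtain ⟨k, rfl⟩ := Subgroup.mem_zpowers_iff.1 hb
  exact ((Commute.zpow_left (show Commute s v from h.symm) k).eq)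

/-- **The Frobenius kernel.**  `C ≤ M ∩ H` (`M ≠ H` maximal) is normalized but not centralized by
`R = ⟨s⟩` of prime order `r ∤ |C|`.  Then there are a prime `q` and a `q`-subgroup `V₀ ≠ 1` of `C`
normalized by `R` on which `s` acts fixed-point-freely. -/
theorem exists_V0 (hG : Cfsg.IsMinSimpleOddOrder G) {M H : Subgroup G} (hM : IsCoatom M)
    (hH : IsCoatom H) (hHM : H ≠ M) {C R : Subgroup G} (hCM : C ≤ M) (hCH : C ≤ H)
    (hRC : R ≤ Subgroup.normalizer (C : Set G)) {r : ℕ} [hr : Fact r.Prime]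
    (hR : Nat.card R = r) (hcop : (Nat.card C).Coprime r) {y s : G} (hy : y ∈ C) (hs : s ∈ R)
    (hys : y * s ≠ s * y) :
    ∃ q : ℕ, q.Prime ∧ q ≠ r ∧ ∃ V : Subgroup G, V ≤ C ∧ IsPGroup q ↥V ∧ V ≠ ⊥ ∧
      R ≤ Subgroup.normalizer (V : Set G) ∧ (∀ v ∈ V, v * s = s * v → v = 1) := by
  have hs1 : s ≠ 1 := by
    rintro rfl
    exact hys (by rw [mul_one, one_mul])
  have hRs : Subgroup.zpowers s = R := zpowers_eq_of_prime_card hR hs hs1
  have hos : orderOf s = r := by rw [← Nat.card_zpowers, hRs, hR]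
  have hRsol : Group.IsSolvable ↥R := by
    haveI : IsCyclic ↥R := isCyclic_of_prime_card hR
    haveI : CommGroup ↥R := IsCyclic.commGroup
    infer_instance
  have hnle : ¬ C ≤ Subgroup.centralizer ({s} : Set G) := by
    intro h
    exact hys (Subgroup.mem_centralizer_singleton_iff.1 (h hy))
  obtain ⟨q, hq, Q₀, hQ₀C, hQ₀q, -, hRQ₀, hQ₀s⟩ :=
    exists_invariant_sylow_not_le R C (Subgroup.centralizer ({s} : Set G)) hRC
      (by rw [hR]; exact hcop.symm) (Or.inl hRsol) hnle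
  haveI := Fact.mk hq
  -- `Q₀` is abelian
  have hQ₀ab : ∀ a ∈ Q₀, ∀ b ∈ Q₀, a * b = b * a := by
    by_contra hna
    have hna' : ¬ IsMulCommutative ↥Q₀ := by
      intro hc
      apply hna
      intro a ha b hb
      have := hc.is_comm.comm (⟨a, ha⟩ : ↥Q₀) ⟨b, hb⟩
      exact congrArg Subtype.val this
    have hU := Cfsg.Agent.S1422.result hG q Q₀ hQ₀q hna'
    exact hHM (hU.unique ⟨hH, hQ₀C.trans hCH⟩ ⟨hM, hQ₀C.trans hCM⟩)
  have hsQ₀ : s ∈ Subgroup.normalizer (Q₀ : Set G) := hRQ₀ hs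
  obtain ⟨x, hxQ₀, hxs⟩ := SetLike.not_le_iff_exists.1 hQ₀s
  have hxs' : x * s ≠ s * x := fun h => hxs (Subgroup.mem_centralizer_singleton_iff.2 h)
  have hQ₀1 : Q₀ ≠ ⊥ := by
    rintro rfl
    rw [Subgroup.mem_bot] at hxQ₀
    rw [hxQ₀] at hxs'
    exact hxs' (by rw [mul_one, one_mul])
  have hqr : q ≠ r := by
    rintro rfl
    have h1 : q ∣ Nat.card C :=
      (Cfsg.Agent.Helper1.BGV.dvd_card_of_isPGroup_ne_bot hQ₀q hQ₀1).trans
        (Subgroup.card_dvd_of_le hQ₀C)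
    exact hq.one_lt.ne' (Nat.Coprime.eq_one_of_dvd hcop.symm h1)
  refine ⟨q, hq, hqr, commSub Q₀ s hQ₀ab hsQ₀, (commSub_le hQ₀ab hsQ₀).trans hQ₀C,
    hQ₀q.to_le (commSub_le hQ₀ab hsQ₀), ?_, ?_, ?_⟩
  · intro hbot
    have h1 : x * s * x⁻¹ * s⁻¹ ∈ commSub Q₀ s hQ₀ab hsQ₀ := ⟨x, hxQ₀, rfl⟩
    rw [hbot, Subgroup.mem_bot] at h1
    apply hxs'
    calc x * s = (x * s * x⁻¹ * s⁻¹) * (s * x) := by group
      _ = s * x := by rw [h1, one_mul]
  · intro n hn
    apply mem_normalizer_commSub hQ₀ab hsQ₀ (hRQ₀ hn)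
    rw [← hRs] at hn
    obtain ⟨k, rfl⟩ := Subgroup.mem_zpowers_iff.1 hn
    exact (Commute.zpow_left (Commute.refl s) k).eq
  · intro v hv hvs
    apply eq_one_of_mem_commSub_of_commute hQ₀ab hsQ₀ hv hvs
    rw [hos]
    have hvq : IsPGroup q ↥(Subgroup.zpowers v) :=
      hQ₀q.to_le (Subgroup.zpowers_le.2 (commSub_le hQ₀ab hsQ₀ hv))
    obtain ⟨k, hk⟩ := IsPGroup.iff_card.mp hvq
    rw [Nat.card_zpowers] at hk
    rw [hk]
    apply Nat.Coprime.pow_left
    exact (Nat.coprime_primes hq hr.out).2 hqr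

/-- the join `V R` of a `q`-group `V` and a group `R` of prime order `r` normalizing it has order
dividing `|V| r` -/
theorem card_sup_dvd {V R : Subgroup G} (hRV : R ≤ Subgroup.normalizer (V : Set G)) :
    Nat.card ↥(V ⊔ R) ∣ Nat.card V * Nat.card R := by
  have h := Cfsg.Agent.Helper1.card_sup_mul_card_inf (N := V) (A := R) hRV
  exact Dvd.intro _ h

/-- **The `H`-side.**  `p ∈ β(H)`, `r ∈ τ₁(H)`, `P, R ≤ H` commuting of orders `p`, `r`, and
`V ≤ H` a nontrivial `q`-subgroup (`q ∉ α(H)`) centralized by `P`, normalized by `R`, with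
`C_V(R) = 1`.  Then `N(V) ≤ H`. -/
theorem normalizer_le_of_frobenius (hG : Cfsg.IsMinSimpleOddOrder G) {H : Subgroup G}
    (hH : IsCoatom H) {p : ℕ} [hp : Fact p.Prime] (hpβ : p ∈ Cfsg.beta H) {r : ℕ}
    [hr : Fact r.Prime] (hrτ : r ∈ Cfsg.tau1 H) {P R : Subgroup G} (hPH : P ≤ H)
    (hP : Nat.card P = p) (hRH : R ≤ H) (hR : Nat.card R = r)
    (hRP : R ≤ Subgroup.centralizer (P : Set G)) {q : ℕ} [hq : Fact q.Prime]
    (hqα : q ∉ Cfsg.alpha H) (hqr : q ≠ r) {V : Subgroup G} (hVH : V ≤ H) (hVq : IsPGroup q ↥V)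
    (hV1 : V ≠ ⊥) (hVP : V ≤ Subgroup.centralizer (P : Set G))
    (hRV : R ≤ Subgroup.normalizer (V : Set G))
    (hfpf : V ⊓ Subgroup.centralizer (R : Set G) = ⊥) :
    Subgroup.normalizer (V : Set G) ≤ H ∧
      ∀ L : Subgroup G, IsCoatom L → Subgroup.normalizer (V : Set G) ≤ L → L = H := by
  have hp1 := hp.out.one_lt
  have hpα : p ∈ Cfsg.alpha H := hpβ.1
  have hpσ : p ∈ Cfsg.sigma H := alpha_subset_sigma hG hH hpα
  have hrσ : r ∉ Cfsg.sigma H := hrτ.2.1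
  have hrα : r ∉ Cfsg.alpha H := fun h => hrσ (alpha_subset_sigma hG hH h)
  have hpr : p ≠ r := by rintro rfl; exact hrσ hpσ
  have hpq : p ≠ q := by rintro rfl; exact hqα hpα
  have hPp : IsPGroup p ↥P := IsPGroup.of_card (n := 1) (by rw [hP, pow_one])
  have hP1 : P ≠ ⊥ := by
    intro h
    rw [h, Subgroup.card_bot] at hP
    exact hp1.ne hP
  have hsolH : Group.IsSolvable ↥H := hG.2.2.2 H hH.1
  obtain ⟨k, hk⟩ := IsPGroup.iff_card.mp hVq
  -- the group `A = V R` acts coprimely on `H_α`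
  have hAH : V ⊔ R ≤ H := sup_le hVH hRH
  have hAK : V ⊔ R ≤ Subgroup.normalizer ((Cfsg.alphaCore H : Subgroup G) : Set G) :=
    hAH.trans (Cfsg.Agent.Helper4.BG11.le_normalizer_alphaCore H)
  have hcop : (Nat.card ↥(V ⊔ R)).Coprime (Nat.card ↥(Cfsg.alphaCore H)) := by
    apply Nat.Coprime.coprime_dvd_left (card_sup_dvd hRV)
    apply Nat.coprime_of_dvd
    intro t ht h1 h2
    have htα : t ∈ Cfsg.alpha H := mem_alpha_of_dvd_card_alphaCore ht h2
    rw [hk, hR] at h1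
    rcases (Nat.Prime.dvd_mul ht).1 h1 with h3 | h3
    · rw [(Nat.prime_dvd_prime_iff_eq ht hq.out).1 (ht.dvd_of_dvd_pow h3)] at htα
      exact hqα htα
    · rw [(Nat.prime_dvd_prime_iff_eq ht hr.out).1 h3] at htα
      exact hrα htα
  have hsolA : Group.IsSolvable ↥(V ⊔ R) := isSolvable_of_le hAH hsolH
  have hPα : P ≤ Cfsg.alphaCore H := le_alphaCore' hG hH hpα hPH hPp
  have hAP : V ⊔ R ≤ Subgroup.normalizer (P : Set G) :=
    (sup_le hVP hRP).trans (Subgroup.centralizer_le_normalizer _)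
  obtain ⟨B', hPB, hAB⟩ := Cfsg.Agent.Helper1.exists_invariant_sylow_ge (p := p) (V ⊔ R)
    (Cfsg.alphaCore H) hAK hcop (Or.inl hsolA) P hPα hPp hAP
  obtain ⟨B, hB⟩ : ∃ B : Subgroup G,
      B = (B' : Subgroup ↥(Cfsg.alphaCore H)).map (Cfsg.alphaCore H).subtype := ⟨_, rfl⟩
  rw [← hB] at hPB hAB
  have hBα : B ≤ Cfsg.alphaCore H := by rw [hB]; exact Subgroup.map_subtype_le _
  have hBH : B ≤ H := hBα.trans (Subgroup.map_subtype_le _)
  have hBp : IsPGroup p ↥B := by rw [hB]; exact B'.2.map _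
  have hBcard : Nat.card B = p ^ (Nat.card H).factorization p := by
    rw [hB]; exact card_sylow_alphaCore hG hH hpα B'
  -- `C_B(R)` is cyclic
  have hcyc : IsCyclic ↥(B ⊓ Subgroup.centralizer (R : Set G)) :=
    isCyclic_of_le_centralizer hG hH hrσ hrτ.2.2.2.2 hRH hR hpα (inf_le_left.trans hBH)
      (hBp.to_le inf_le_left) inf_le_right
  -- Lemma F'
  have hne : B ⊓ Subgroup.centralizer (V : Set G) ⊓ Subgroup.centralizer (R : Set G) ≠ ⊥ := by
    intro h
    apply hP1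
    rw [eq_bot_iff, ← h]
    refine le_inf (le_inf hPB ?_) ?_
    · intro x hx
      rw [Subgroup.mem_centralizer_iff]
      intro v hv
      exact (Subgroup.mem_centralizer_iff.1 (hVP hv) x hx).symm
    · intro x hx
      rw [Subgroup.mem_centralizer_iff]
      intro v hv
      exact (Subgroup.mem_centralizer_iff.1 (hRP hv) x hx).symm
  have hp2 : p ≠ 2 := Cfsg.Agent.Helper4.BG10.prime_ne_two_of_ne_bot hG hPp hP1
  have hBV : B ≤ Subgroup.centralizer (V : Set G) :=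
    Cfsg.Agent.Helper1.BGFrob.frobenius_cyclic_centralizer hp.out hp2 hr.out hpr.symm hBp
      (le_sup_left.trans hAB) (le_sup_right.trans hAB) hRV hR
      (by rw [hk]; exact Nat.Coprime.pow_left k ((Nat.coprime_primes hq.out hp.out).2 hpq.symm))
      (by rw [hk]; exact Nat.Coprime.pow_left k ((Nat.coprime_primes hq.out hr.out).2 hqr))
      hfpf hcyc hne
  -- uniqueness
  have hea3 : HasEA p 2 B := hasEA_of_not_pRankLE (not_pRankLE_two_of_card_eq_ppart hpα hBH hBcard)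
  have hea : HasEA p 1 (Cfsg.alphaCore H ⊓ Subgroup.centralizer (V : Set G)) :=
    (hasEA_weaken hea3 (by norm_num)).mono (le_inf hBα hBV)
  have hr1 : ¬ Cfsg.RankLE 1 ↥(Cfsg.alphaCore H ⊓ Subgroup.centralizer (V : Set G)) :=
    not_rankLE_of_hasEA hp.out hea
  have hVα : ∀ t : ℕ, t.Prime → t ∣ Nat.card V → t ∉ Cfsg.alpha H := by
    intro t ht hd
    rw [hk] at hd
    rw [(Nat.prime_dvd_prime_iff_eq ht hq.out).1 (ht.dvd_of_dvd_pow hd)]
    exact hqα
  have hU := lemma103 hG H hH V hVH hVα hr1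
  have hVtop : V ≠ ⊤ := sylow_ne_top hG q _ hVq
  have huniq : ∀ L : Subgroup G, IsCoatom L → Subgroup.normalizer (V : Set G) ≤ L → L = H :=
    fun L hL hNL =>
      hU.unique ⟨hL, inf_le_right.trans ((Subgroup.centralizer_le_normalizer _).trans hNL)⟩
        ⟨hH, inf_le_left⟩
  obtain ⟨L, hL, hNL⟩ := exists_coatom_ge (normalizer_ne_top_of_simple hG hV1 hVtop)
  exact ⟨huniq L hL hNL ▸ hNL, huniq⟩

end Cfsg.Agent.Helper3.BG134
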