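import Mathlib
import Cfsg.Prelude
import Cfsg.Agent.Helper3.BG134f

set_option autoImplicit false
set_option linter.unusedSectionVars false
set_option linter.unusedVariables false

/-!
Bender–Glauberman Theorem 13.4 (`S1428`): the `M`-side.  In the "(d)-world" `NU M H q T` with the
Frobenius group `V R`, `V ≤ T`, `N(V) ≤ H`, there is an element `x'` of prime order `t ∈ β(M)` of
`C_{M_β}(R)` on which `P` acts nontrivially.
-/

namespace Cfsg.Agent.Helper3.BG134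

open Cfsg Cfsg.Agent.Helper1 Cfsg.Agent.Helper1.BGU Cfsg.Agent.Helper1.BGX
open Cfsg.Agent.Helper3.BG131 Cfsg.Agent.Helper4.BG10
open scoped commutatorElement Pointwise

universe u

variable {G : Type u} [Group G] [Finite G]

/-- **The `M`-side.** -/
theorem exists_fpf_on_betaCore {M H : Subgroup G} {q : ℕ} [hq : Fact q.Prime] {T : Subgroup G}
    (h : NU M H q T) {V : Subgroup G} (hVT : V ≤ T) (hVq : IsPGroup q ↥V) (hV1 : V ≠ ⊥)
    (hNV : Subgroup.normalizer (V : Set G) ≤ H) {p : ℕ} [hp : Fact p.Prime]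
    (hpσ : p ∉ Cfsg.sigma M) {P : Subgroup G} (hPM : P ≤ M) (hP : Nat.card P = p) {r : ℕ}
    [hr : Fact r.Prime] (hrτ : r ∈ Cfsg.tau1 M) {R : Subgroup G} (hRM : R ≤ M)
    (hR : Nat.card R = r) (hRP : R ≤ Subgroup.centralizer (P : Set G))
    (hVP : V ≤ Subgroup.centralizer (P : Set G)) (hRV : R ≤ Subgroup.normalizer (V : Set G))
    {s : G} (hs : s ∈ R) (hs1 : s ≠ 1) (hfpf : ∀ v ∈ V, v * s = s * v → v = 1) (hqr : q ≠ r)
    (hCP : Cfsg.sigmaCore M ⊓ Subgroup.centralizer (P : Set G) ≤ H) :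
    ∃ t : ℕ, t ∈ Cfsg.beta M ∧ ∃ x' : G, x' ∈ Cfsg.piCoreOf (Cfsg.beta M) M ∧ orderOf x' = t ∧
      x' ∈ Subgroup.centralizer (R : Set G) ∧
      P ≤ Subgroup.normalizer ((Subgroup.zpowers x' : Subgroup G) : Set G) ∧
      ∃ u ∈ P, x' * u ≠ u * x' := by
  have hG := h.cM.min
  have hM := h.cM.coatom
  have hH := h.cH.coatom
  have hp1 := hp.out.one_lt
  have hRs : Subgroup.zpowers s = R := zpowers_eq_of_prime_card hR hs hs1
  have hos : orderOf s = r := by rw [← Nat.card_zpowers, hRs, hR]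
  have hrσ : r ∉ Cfsg.sigma M := hrτ.2.1
  have hqβ : q ∉ Cfsg.beta M := h.not_mem_beta
  have hpβ : p ∉ Cfsg.beta M := fun hβ => hpσ (mem_sigma_of_mem_beta hG hM hβ)
  have hrβ : r ∉ Cfsg.beta M := fun hβ => hrσ (mem_sigma_of_mem_beta hG hM hβ)
  obtain ⟨Mb, hMb⟩ : ∃ Mb : Subgroup G, Mb = Cfsg.piCoreOf (Cfsg.beta M) M := ⟨_, rfl⟩
  rw [← hMb]
  have hMbM : Mb ≤ M := hMb ▸ Cfsg.Agent.Helper1.BGT.piCoreOf_le _ _
  have hMbπ : ∀ t : ℕ, t.Prime → t ∣ Nat.card Mb → t ∈ Cfsg.beta M :=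
    hMb ▸ Cfsg.Agent.Helper1.BGT.piCoreOf_isPi (Cfsg.beta M) M
  have hMbσ : Mb ≤ Cfsg.sigmaCore M :=
    Cfsg.Agent.Helper4.BG12.le_sigmaCore_of_isPi hG hM hMbM
      (fun t ht hd => mem_sigma_of_mem_beta hG hM (hMbπ t ht hd))
  have hsolM : Group.IsSolvable ↥M := hG.2.2.2 M hM.1
  obtain ⟨k, hk⟩ := IsPGroup.iff_card.mp hVq
  have hVM : V ≤ M := hVT.trans h.cM.le
  -- `P ≤ C(R)` and `P ≤ C(V)`
  have hPR : P ≤ Subgroup.centralizer (R : Set G) := by
    intro x hx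
    rw [Subgroup.mem_centralizer_iff]
    intro v hv
    exact (Subgroup.mem_centralizer_iff.1 (hRP hv) x hx).symm
  have hPV : P ≤ Subgroup.centralizer (V : Set G) := by
    intro x hx
    rw [Subgroup.mem_centralizer_iff]
    intro v hv
    exact (Subgroup.mem_centralizer_iff.1 (hVP hv) x hx).symm
  -- the group `A₀ = V (P R)`
  have hRNP : R ≤ Subgroup.normalizer (P : Set G) :=
    hRP.trans (Subgroup.centralizer_le_normalizer _)
  have hKV : P ⊔ R ≤ Subgroup.normalizer (V : Set G) :=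
    sup_le (hPV.trans (Subgroup.centralizer_le_normalizer _)) hRV
  have hA₀M : V ⊔ (P ⊔ R) ≤ M := sup_le hVM (sup_le hPM hRM)
  have hA₀K : V ⊔ (P ⊔ R) ≤ Subgroup.normalizer (Mb : Set G) :=
    hA₀M.trans (hMb ▸ Cfsg.Agent.Helper1.BGT.le_normalizer_piCoreOf (Cfsg.beta M) M)
  have hcop : (Nat.card ↥(V ⊔ (P ⊔ R))).Coprime (Nat.card Mb) := by
    apply Nat.Coprime.coprime_dvd_left (card_sup_dvd hKV)
    apply Nat.coprime_of_dvd
    intro t ht h1 h2
    have htβ := hMbπ t ht h2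
    rcases (Nat.Prime.dvd_mul ht).1 h1 with h3 | h3
    · rw [hk] at h3
      rw [(Nat.prime_dvd_prime_iff_eq ht hq.out).1 (ht.dvd_of_dvd_pow h3)] at htβ
      exact hqβ htβ
    · have h4 := h3.trans (card_sup_dvd hRNP)
      rw [hP, hR] at h4
      rcases (Nat.Prime.dvd_mul ht).1 h4 with h5 | h5
      · rw [(Nat.prime_dvd_prime_iff_eq ht hp.out).1 h5] at htβ
        exact hpβ htβ
      · rw [(Nat.prime_dvd_prime_iff_eq ht hr.out).1 h5] at htβ
        exact hrβ htβ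
  have hsolA : Group.IsSolvable ↥(V ⊔ (P ⊔ R)) := isSolvable_of_le hA₀M hsolM
  -- `M_β ≰ C(V)`
  have hnle : ¬ Mb ≤ Subgroup.centralizer (V : Set G) := by
    intro hle
    apply h.ne
    have hMH : M ≤ H := by
      intro m hm
      obtain ⟨b, hb, n, hn, e⟩ := sigCtx_exists_mul_betaCore h.cM m hm
      rw [e]
      refine H.mul_mem (hNV (Subgroup.centralizer_le_normalizer _ (hle ?_))) (h.cH.norm hn)
      rw [hMb]; exact hb
    exact ((hM.le_iff_eq hH.1).1 hMH).symm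
  obtain ⟨t, ht, T', hT'Mb, hT't, -, hA₀T', hT'V⟩ :=
    exists_invariant_sylow_not_le (V ⊔ (P ⊔ R)) Mb (Subgroup.centralizer (V : Set G)) hA₀K hcop
      (Or.inl hsolA) hnle
  haveI := Fact.mk ht
  have hT'1 : T' ≠ ⊥ := by
    rintro rfl
    exact hT'V bot_le
  have htβ : t ∈ Cfsg.beta M :=
    hMbπ t ht ((Cfsg.Agent.Helper1.BGV.dvd_card_of_isPGroup_ne_bot hT't hT'1).trans
      (Subgroup.card_dvd_of_le hT'Mb))
  have htq : t ≠ q := by rintro rfl; exact hqβ htβ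
  have htr : t ≠ r := by rintro rfl; exact hrβ htβ
  have ht2 : t ≠ 2 := Cfsg.Agent.Helper4.BG10.prime_ne_two_of_ne_bot hG hT't hT'1
  have hT'M : T' ≤ M := hT'Mb.trans hMbM
  have hVT' : V ≤ Subgroup.normalizer (T' : Set G) := le_sup_left.trans hA₀T'
  have hPT' : P ≤ Subgroup.normalizer (T' : Set G) :=
    (le_sup_left.trans le_sup_right).trans hA₀T'
  have hRT' : R ≤ Subgroup.normalizer (T' : Set G) :=
    (le_sup_right.trans le_sup_right).trans hA₀T'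
  have hcyc : IsCyclic ↥(T' ⊓ Subgroup.centralizer (R : Set G)) :=
    isCyclic_of_le_centralizer hG hM hrσ hrτ.2.2.2.2 hRM hR htβ.1 (inf_le_left.trans hT'M)
      (hT't.to_le inf_le_left) inf_le_right
  have hfpf' : V ⊓ Subgroup.centralizer (R : Set G) = ⊥ := by
    rw [eq_bot_iff]
    rintro v ⟨hv, hvR⟩
    rw [Subgroup.mem_bot]
    exact hfpf v hv (Subgroup.mem_centralizer_iff.1 hvR s hs).symm
  have hVt : (Nat.card V).Coprime t := by
    rw [hk]; exact Nat.Coprime.pow_left k ((Nat.coprime_primes hq.out ht).2 htq.symm)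
  have hVr : (Nat.card V).Coprime r := by
    rw [hk]; exact Nat.Coprime.pow_left k ((Nat.coprime_primes hq.out hr.out).2 hqr)
  -- Lemma F'
  have hF : T' ⊓ Subgroup.centralizer (V : Set G) ⊓ Subgroup.centralizer (R : Set G) = ⊥ := by
    by_contra hne
    exact hT'V (Cfsg.Agent.Helper1.BGFrob.frobenius_cyclic_centralizer ht ht2 hr.out htr.symm
      hT't hVT' hRT' hRV hR hVt hVr hfpf' hcyc hne)
  -- `C_{T'}(R) ≠ 1`
  have hex : ∃ x₁ ∈ T', x₁ ≠ 1 ∧ s * x₁ * s⁻¹ = x₁ := by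
    by_contra hcon
    push Not at hcon
    apply hT'V
    obtain ⟨j, hj⟩ := IsPGroup.iff_card.mp hT't
    refine Cfsg.Agent.Helper1.BGFrob.le_centralizer_of_fixed_le_central (Z0 := ⊥) hr.out hVT'
      (hRT' hs) (hRV hs) (by rw [← hos]; exact pow_orderOf_eq_one s) ?_ ?_ ?_ ?_ bot_le bot_le
      bot_le ?_ ?_
    · rw [hj, hk]
      exact Nat.Coprime.pow _ _ ((Nat.coprime_primes ht hq.out).2 htq)
    · rw [hj]
      intro hd
      exact htr ((Nat.prime_dvd_prime_iff_eq hr.out ht).1 (hr.out.dvd_of_dvd_pow hd)).symm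
    · rw [hk]
      intro hd
      exact hqr ((Nat.prime_dvd_prime_iff_eq hr.out hq.out).1 (hr.out.dvd_of_dvd_pow hd)).symm
    · intro g hg hsg
      apply hfpf g hg
      calc g * s = (s * g * s⁻¹) * s := by rw [hsg]
        _ = s * g := by group
    · rw [Subgroup.mem_normalizer_iff]
      intro x
      simp [Subgroup.mem_bot]
    · intro x hx hsx
      rw [Subgroup.mem_bot]
      by_contra hx1
      exact hcon x hx hx1 hsx
  obtain ⟨x₁, hx₁T, hx₁1, hsx₁⟩ := hex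
  have hx₁s : x₁ * s = s * x₁ := by
    calc x₁ * s = (s * x₁ * s⁻¹) * s := by rw [hsx₁]
      _ = s * x₁ := by group
  have hx₁R : x₁ ∈ Subgroup.centralizer (R : Set G) := by
    rw [← hRs]; exact mem_centralizer_zpowers_of_commute hx₁s
  obtain ⟨X₁, hX₁⟩ : ∃ X₁ : Subgroup G, X₁ = T' ⊓ Subgroup.centralizer (R : Set G) := ⟨_, rfl⟩
  rw [← hX₁] at hcyc
  have hX₁t : IsPGroup t ↥X₁ := hX₁ ▸ hT't.to_le inf_le_left
  have hX₁1 : X₁ ≠ ⊥ := by
    intro hbot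
    have : x₁ ∈ X₁ := hX₁ ▸ ⟨hx₁T, hx₁R⟩
    rw [hbot, Subgroup.mem_bot] at this
    exact hx₁1 this
  obtain ⟨z, hz⟩ := exists_prime_orderOf_dvd_card' t
    (Cfsg.Agent.Helper1.BGV.dvd_card_of_isPGroup_ne_bot hX₁t hX₁1)
  obtain ⟨x', hx'⟩ : ∃ x' : G, x' = (z : G) := ⟨_, rfl⟩
  have hox' : orderOf x' = t := by rw [hx', Subgroup.orderOf_coe]; exact hz
  have hx'X₁ : x' ∈ X₁ := hx' ▸ z.2
  have hx'T : x' ∈ T' := (hX₁ ▸ hx'X₁ : x' ∈ T' ⊓ Subgroup.centralizer (R : Set G)).1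
  have hx'R : x' ∈ Subgroup.centralizer (R : Set G) :=
    (hX₁ ▸ hx'X₁ : x' ∈ T' ⊓ Subgroup.centralizer (R : Set G)).2
  have hx'1 : x' ≠ 1 := by
    rintro h1
    rw [h1, orderOf_one] at hox'
    exact ht.one_lt.ne hox'
  -- `P` normalizes `⟨x'⟩`
  have hPX₁ : P ≤ Subgroup.normalizer (X₁ : Set G) := by
    apply Cfsg.Agent.Helper1.BGFrob.le_normalizer_of_conj_mem
    intro n hn v hv
    rw [hX₁] at hv ⊢
    refine ⟨Cfsg.Agent.Helper1.BGFrob.conj_mem_of_le_normalizer hPT' hn hv.1, ?_⟩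
    exact Subgroup.mul_mem _ (Subgroup.mul_mem _ (hPR hn) hv.2) (Subgroup.inv_mem _ (hPR hn))
  have hPX' : P ≤ Subgroup.normalizer ((Subgroup.zpowers x' : Subgroup G) : Set G) :=
    hPX₁.trans (Cfsg.Agent.Lead.BG12.normalizer_le_normalizer_of_isCyclic hcyc
      (Subgroup.zpowers_le.2 hx'X₁))
  refine ⟨t, htβ, x', hT'Mb hx'T, hox', hx'R, hPX', ?_⟩
  by_contra hall
  push Not at hall
  -- then `x' ∈ C_{M_β}(P) ≤ H`, so `x'` centralizes `T ≥ V`
  have hx'P : x' ∈ Subgroup.centralizer (P : Set G) := by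
    rw [Subgroup.mem_centralizer_iff]
    intro u hu
    exact (hall u hu).symm
  have hx'H : x' ∈ H := hCP ⟨hMbσ (hT'Mb hx'T), hx'P⟩
  have hx'CT : x' ∈ Subgroup.centralizer (T : Set G) :=
    h.betaCore_inf_le_centralizer ⟨hMb ▸ hT'Mb hx'T, hx'H⟩
  have hx'V : x' ∈ Subgroup.centralizer (V : Set G) := Subgroup.centralizer_le hVT hx'CT
  have : x' ∈ T' ⊓ Subgroup.centralizer (V : Set G) ⊓ Subgroup.centralizer (R : Set G) :=
    ⟨⟨hx'T, hx'V⟩, hx'R⟩
  rw [hF, Subgroup.mem_bot] at this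
  exact hx'1 this

end Cfsg.Agent.Helper3.BG134
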