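import Mathlib
import Cfsg.Prelude
import Cfsg.Agent.Helper3.BG134g

set_option autoImplicit false
set_option linter.unusedSectionVars false
set_option linter.unusedVariables false

/-!
Bender–Glauberman Theorem 13.4 (`S1428`): for `p ∈ τ₁(M)`, `P ≤ E` of order `p` and `R ≤ E ∩ C(P)`
of prime order, `C_{M_σ}(P) ≤ C_{M_σ}(R)`.
-/

namespace Cfsg.Agent.Helper3.BG134

open Cfsg Cfsg.Agent.Helper1 Cfsg.Agent.Helper1.BGU Cfsg.Agent.Helper1.BGX
open Cfsg.Agent.Helper3.BG131 Cfsg.Agent.Helper4.BG10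
open scoped commutatorElement Pointwise

universe u

variable {G : Type u} [Group G] [Finite G]

/-- **Bender–Glauberman Theorem 13.4.** -/
theorem thm134 (hG : Cfsg.IsMinSimpleOddOrder G) (M : Subgroup G) (hM : IsCoatom M)
    (E : Subgroup G) (hE : Cfsg.IsComplIn E (Cfsg.sigmaCore M) M) (p : ℕ)
    (hpτ : p ∈ Cfsg.tau1 M) (P : Subgroup G) (hPE : P ≤ E) (hP : Nat.card P = p)
    (R : Subgroup G) (hRE : R ≤ E ⊓ Subgroup.centralizer (P : Set G))
    (hR : (Nat.card R).Prime) :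
    Cfsg.sigmaCore M ⊓ Subgroup.centralizer (P : Set G) ≤
      Cfsg.sigmaCore M ⊓ Subgroup.centralizer (R : Set G) := by
  haveI hp : Fact p.Prime := ⟨hpτ.1⟩
  obtain ⟨r, hr0⟩ : ∃ r : ℕ, r = Nat.card R := ⟨_, rfl⟩
  haveI hr : Fact r.Prime := ⟨hr0 ▸ hR⟩
  have hRcard : Nat.card R = r := hr0.symm
  have hp1 := hp.out.one_lt
  have hr1 := hr.out.one_lt
  have hRE' : R ≤ E := hRE.trans inf_le_left
  have hRP : R ≤ Subgroup.centralizer (P : Set G) := hRE.trans inf_le_right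
  have hPM : P ≤ M := hPE.trans hE.1
  have hRM : R ≤ M := hRE'.trans hE.1
  have hPp : IsPGroup p ↥P := IsPGroup.of_card (n := 1) (by rw [hP, pow_one])
  have hRr : IsPGroup r ↥R := IsPGroup.of_card (n := 1) (by rw [hRcard, pow_one])
  have hP1 : P ≠ ⊥ := by
    intro h
    rw [h, Subgroup.card_bot] at hP
    exact hp1.ne hP
  have hR1 : R ≠ ⊥ := by
    intro h
    rw [h, Subgroup.card_bot] at hRcard
    exact hr1.ne hRcard
  have hPtop : P ≠ ⊤ := sylow_ne_top hG p _ hPp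
  have hRtop : R ≠ ⊤ := sylow_ne_top hG r _ hRr
  have hpσ : p ∉ Cfsg.sigma M := hpτ.2.1
  have hrσ : r ∉ Cfsg.sigma M :=
    Cfsg.Agent.Helper4.BG12.not_mem_sigma_of_dvd_card_compl hG hM hE hr.out
      (hRcard ▸ Subgroup.card_dvd_of_le hRE')
  have hPR : P ≤ Subgroup.centralizer (R : Set G) := by
    intro x hx
    rw [Subgroup.mem_centralizer_iff]
    intro v hv
    exact (Subgroup.mem_centralizer_iff.1 (hRP hv) x hx).symm
  -- suppose not
  by_contra hcon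
  obtain ⟨y, hyC, hyn⟩ := SetLike.not_le_iff_exists.1 hcon
  have hyσ : y ∈ Cfsg.sigmaCore M := hyC.1
  have hyP : y ∈ Subgroup.centralizer (P : Set G) := hyC.2
  have hynR : y ∉ Subgroup.centralizer (R : Set G) := fun h => hyn ⟨hyσ, h⟩
  obtain ⟨s, hs, hys⟩ : ∃ s ∈ R, y * s ≠ s * y := by
    by_contra hall
    push Not at hall
    apply hynR
    rw [Subgroup.mem_centralizer_iff]
    intro v hv
    exact (hall v hv).symm
  have hs1 : s ≠ 1 := by
    rintro rfl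
    exact hys (by rw [mul_one, one_mul])
  -- `r ≠ p`
  have hrp : r ≠ p := by
    rintro rfl
    have hRNP : R ≤ Subgroup.normalizer (P : Set G) :=
      hRP.trans (Subgroup.centralizer_le_normalizer _)
    have hPRp : IsPGroup r ↥(P ⊔ R) := by
      have h1 := card_sup_dvd hRNP
      rw [hP, hRcard, ← pow_two] at h1
      obtain ⟨j, -, hj⟩ := (Nat.dvd_prime_pow hr.out).1 h1
      exact IsPGroup.of_card hj
    have hc : IsCyclic ↥(P ⊔ R) :=
      Cfsg.Agent.Lead.BG12.isCyclic_of_pRankLE_one hG.1 hpτ.2.2.2.2 (sup_le hPM hRM) hPRp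
    have hPRe : P = R := Cfsg.Agent.Lead.BG12.eq_of_card_eq_of_le_isCyclic hc le_sup_left
      le_sup_right (hP.trans hRcard.symm)
    exact hynR (hPRe ▸ hyP)
  -- `H ∈ 𝓜(N(P))`
  obtain ⟨H, hH, hNPH⟩ := exists_coatom_ge (normalizer_ne_top_of_simple hG hP1 hPtop)
  obtain ⟨hnc, hpβH, hrτH⟩ := step1 hG hM hE hpτ hPE hP hRE' hRP hRcard hyσ hyP hs hys hH hNPH
  have hHM : H ≠ M := by
    intro h
    apply hnc 1
    rw [map_one, one_smul, h]
  have hnc' : ∀ g : G, H ≠ MulAut.conj g • M := by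
    intro g hg
    apply hnc g⁻¹
    rw [hg, Cfsg.Agent.Helper1.BGT.conj_smul_smul, inv_mul_cancel, map_one, one_smul]
  have hCPH : Subgroup.centralizer (P : Set G) ≤ H :=
    (Subgroup.centralizer_le_normalizer _).trans hNPH
  have hPH : P ≤ H := Subgroup.le_normalizer.trans hNPH
  have hRH : R ≤ H := hRP.trans hCPH
  -- the Frobenius kernel `V`
  obtain ⟨C, hC⟩ : ∃ C : Subgroup G,
      C = Cfsg.sigmaCore M ⊓ Subgroup.centralizer (P : Set G) := ⟨_, rfl⟩
  have hCσ : C ≤ Cfsg.sigmaCore M := hC ▸ inf_le_left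
  have hCM : C ≤ M := hCσ.trans Cfsg.Agent.Lead.BG12.sigmaCore_le
  have hCP : C ≤ Subgroup.centralizer (P : Set G) := hC ▸ inf_le_right
  have hCH : C ≤ H := hCP.trans hCPH
  have hRC : R ≤ Subgroup.normalizer (C : Set G) := by
    intro a ha
    rw [hC]
    exact Cfsg.Agent.Helper4.BG10.mem_normalizer_inf
      (Cfsg.Agent.Lead.BG12.le_normalizer_sigmaCore M (hRM ha))
      (Subgroup.le_normalizer (hRP ha))
  have hcopC : (Nat.card C).Coprime r := by
    rw [Nat.coprime_comm, Nat.Prime.coprime_iff_not_dvd hr.out]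
    intro hd
    exact hrσ (Cfsg.Agent.Lead.BG12.mem_sigma_of_dvd_card_sigmaCore hr.out
      (hd.trans (Subgroup.card_dvd_of_le hCσ)))
  obtain ⟨q, hq, hqr, V, hVC, hVq, hV1, hRV, hfpf⟩ :=
    exists_V0 hG hM hH hHM hCM hCH hRC hRcard hcopC (hC ▸ hyC) hs hys
  haveI := Fact.mk hq
  have hVM : V ≤ M := hVC.trans hCM
  have hVH : V ≤ H := hVC.trans hCH
  have hVP : V ≤ Subgroup.centralizer (P : Set G) := hVC.trans hCP
  have hqσ : q ∈ Cfsg.sigma M :=
    Cfsg.Agent.Lead.BG12.mem_sigma_of_dvd_card_sigmaCore hq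
      ((Cfsg.Agent.Helper1.BGV.dvd_card_of_isPGroup_ne_bot hVq hV1).trans
        (Subgroup.card_dvd_of_le (hVC.trans hCσ)))
  have hqαH : q ∉ Cfsg.alpha H :=
    Cfsg.Agent.Helper4.BG11.not_mem_alpha_of_mem_sigma_of_not_conj hG hM hH hnc' hqσ
  have hfpf' : V ⊓ Subgroup.centralizer (R : Set G) = ⊥ := by
    rw [eq_bot_iff]
    rintro v ⟨hv, hvR⟩
    rw [Subgroup.mem_bot]
    exact hfpf v hv (Subgroup.mem_centralizer_iff.1 hvR s hs).symm
  -- the `H`-side
  obtain ⟨hNV, -⟩ := normalizer_le_of_frobenius hG hH hpβH hrτH hPH hP hRH hRcard hRP hqαH hqr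
    hVH hVq hV1 hVP hRV hfpf'
  -- the (d)-world
  have hpσH : p ∈ Cfsg.sigma H := alpha_subset_sigma hG hH hpβH.1
  have hσ : Cfsg.sigmaCore H ⊓ M ≠ ⊥ := by
    intro hbot
    apply hP1
    rw [eq_bot_iff, ← hbot]
    exact le_inf (Cfsg.Agent.Lead.BG12.le_sigmaCore' hG hH hpσH hPH hPp) hPM
  obtain ⟨T, hVT, hNU⟩ := exists_NU hG hM hH hHM hqσ hVM hVq hV1 hNV hσ
  have hrτM : r ∈ Cfsg.tau1 M :=
    mem_tau1_of_NU hNU hrτH (hRcard ▸ Subgroup.card_dvd_of_le hRM) hrσ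
  -- the `M`-side
  obtain ⟨t, htβ, x', hx'Mb, hox', hx'R, hPX', u, hu, hx'u⟩ :=
    exists_fpf_on_betaCore hNU hVT hVq hV1 hNV hpσ hPM hP hrτM hRM hRcard hRP hVP hRV hs hs1
      hfpf hqr (hC ▸ hCH)
  have htp : t.Prime := htβ.1.1
  haveI := Fact.mk htp
  have htσ : t ∈ Cfsg.sigma M := mem_sigma_of_mem_beta hG hM htβ
  have hx'M : x' ∈ M := Cfsg.Agent.Helper1.BGT.piCoreOf_le _ _ hx'Mb
  have hx'σ : x' ∈ Cfsg.sigmaCore M := by
    apply Cfsg.Agent.Helper4.BG12.le_sigmaCore_of_isPi hG hM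
      (Cfsg.Agent.Helper1.BGT.piCoreOf_le (Cfsg.beta M) M) ?_ hx'Mb
    intro t' ht' hd
    exact mem_sigma_of_mem_beta hG hM
      (Cfsg.Agent.Helper1.BGT.piCoreOf_isPi (Cfsg.beta M) M t' ht' hd)
  -- swap the roles of `P` and `R`
  obtain ⟨L, hL, hNRL⟩ := exists_coatom_ge (normalizer_ne_top_of_simple hG hR1 hRtop)
  obtain ⟨hncL, hrβL, hpτL⟩ := step1 hG hM hE hrτM hRE' hRcard hPE hPR hP hx'σ hx'R hu hx'u hL
    hNRL
  have hncL' : ∀ g : G, L ≠ MulAut.conj g • M := by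
    intro g hg
    apply hncL g⁻¹
    rw [hg, Cfsg.Agent.Helper1.BGT.conj_smul_smul, inv_mul_cancel, map_one, one_smul]
  have hCRL : Subgroup.centralizer (R : Set G) ≤ L :=
    (Subgroup.centralizer_le_normalizer _).trans hNRL
  obtain ⟨X', hX'⟩ : ∃ X' : Subgroup G, X' = Subgroup.zpowers x' := ⟨_, rfl⟩
  have hX'card : Nat.card X' = t := by rw [hX', Nat.card_zpowers, hox']
  have hX't : IsPGroup t ↥X' := IsPGroup.of_card (n := 1) (by rw [hX'card, pow_one])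
  have hx'1 : x' ≠ 1 := by
    rintro h1
    rw [h1, orderOf_one] at hox'
    exact htp.one_lt.ne hox'
  have hX'1 : X' ≠ ⊥ := by
    rw [hX']; exact fun h => hx'1 (Subgroup.zpowers_eq_bot.1 h)
  have hX'R : X' ≤ Subgroup.centralizer (R : Set G) := by
    rw [hX']; exact Subgroup.zpowers_le.2 hx'R
  have hX'M : X' ≤ M := by rw [hX']; exact Subgroup.zpowers_le.2 hx'M
  have htαL : t ∉ Cfsg.alpha L :=
    Cfsg.Agent.Helper4.BG11.not_mem_alpha_of_mem_sigma_of_not_conj hG hM hL hncL' htσ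
  have htp' : t ≠ p := by rintro rfl; exact hpσ htσ
  have hfpfX : X' ⊓ Subgroup.centralizer (P : Set G) = ⊥ := by
    rw [eq_bot_iff]
    rintro v ⟨hv, hvP⟩
    rw [Subgroup.mem_bot]
    by_contra hv1
    have h1 : Subgroup.zpowers v = X' := zpowers_eq_of_prime_card hX'card hv hv1
    have h2 : x' ∈ Subgroup.zpowers v := by rw [h1, hX']; exact Subgroup.mem_zpowers x'
    have h3 : x' ∈ Subgroup.centralizer (P : Set G) := Subgroup.zpowers_le.2 hvP h2
    exact hx'u (Subgroup.mem_centralizer_iff.1 h3 u hu).symm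
  have hRL : R ≤ L := Subgroup.le_normalizer.trans hNRL
  have hPL : P ≤ L := hPR.trans hCRL
  have hX'L : X' ≤ L := hX'R.trans hCRL
  obtain ⟨-, huniq⟩ := normalizer_le_of_frobenius hG hL hrβL hpτL hRL hRcard hPL hP hPR htαL htp'
    hX'L hX't hX'1 hX'R (hX' ▸ hPX') hfpfX
  -- `N(X') ≤ M` as `X'` is a nontrivial `β(M)`-subgroup
  have hNX'M : Subgroup.normalizer (X' : Set G) ≤ M := by
    apply Cfsg.Agent.Helper4.BG10.normalizer_le_of_beta_subgroup hG hM hX'M hX'1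
    intro t' ht' hd
    rw [hX'card] at hd
    rw [(Nat.prime_dvd_prime_iff_eq ht' htp).1 hd]
    exact htβ
  have hML : M = L := huniq M hM hNX'M
  apply hncL 1
  rw [map_one, one_smul]
  exact hML

end Cfsg.Agent.Helper3.BG134
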