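import Mathlib
import Cfsg.Prelude
import Cfsg.Agent.Helper1.Hall
import Cfsg.Agent.Helper1.HallExtra
import Cfsg.Agent.Helper1.Coprime
import Cfsg.Agent.Helper1.TypeP
import Cfsg.Agent.Helper4.BG10d
import Cfsg.Agent.Helper1.BGXj
import Cfsg.Agent.Lead.BG12b

set_option autoImplicit false
set_option linter.unusedSectionVars false
set_option linter.unusedVariables false

/-!
The standard factorisation `M = K U M_σ` (Bender–Glauberman 14.2(a), first part): if `K` is a Hall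
`κ(M)`-subgroup of `M` and no prime of `κ(M)` divides `|M'|`, then `M` has a normal Hall subgroup `N`
of index `|K|` containing `M'`; `U := N ∩ E` for a complement `E ≥ K` of `M_σ`; and `U M_σ = N` for
every `U` of a standard factorisation.
-/

namespace Cfsg.Agent.Helper3.BG142

open Cfsg Cfsg.Agent.Helper1
open scoped commutatorElement Pointwise

universe u

variable {G : Type u} [Group G]

/-- a subgroup of `M` containing `M'` is normal in `M` -/
theorem le_normalizer_of_commutator_le {M N : Subgroup G} (hNM : N ≤ M) (hder : ⁅M, M⁆ ≤ N) :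
    M ≤ Subgroup.normalizer (N : Set G) := by
  intro g hg
  rw [Subgroup.mem_normalizer_iff]
  intro h
  constructor
  · intro hh
    have h1 : g * h * g⁻¹ = ⁅g, h⁆ * h := by
      rw [commutatorElement_def]; group
    rw [h1]
    exact N.mul_mem (hder (Subgroup.commutator_mem_commutator hg (hNM hh))) hh
  · intro hh
    have h1 : h = ⁅g⁻¹, g * h * g⁻¹⁆ * (g * h * g⁻¹) := by
      rw [commutatorElement_def]; group
    rw [h1]
    exact N.mul_mem (hder (Subgroup.commutator_mem_commutator (M.inv_mem hg) (hNM hh))) hh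

/-- a Hall subgroup `K` of `M` is coprime to its index -/
theorem coprime_of_isPiHallOf {π : Set ℕ} {K M : Subgroup G} (hK : Cfsg.IsPiHallOf π K M) :
    (K.relIndex M).Coprime (Nat.card K) := by
  apply Nat.Coprime.symm
  apply Nat.coprime_of_dvd
  intro p hp h1 h2
  exact hK.2.2 p hp (hK.2.1 p hp h1) h2

/-- a normal Hall subgroup of `M` of index `|K|`, when `|M'|` is coprime to `|K|` -/
theorem exists_normal_hall_of_coprime_commutator [Finite G] {M K : Subgroup G}
    (hsol : Group.IsSolvable ↥M) (hKM : K ≤ M) (hcop : (K.relIndex M).Coprime (Nat.card K))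
    (hder : (Nat.card ↥⁅M, M⁆).Coprime (Nat.card K)) :
    ∃ N : Subgroup G, N ≤ M ∧ ⁅M, M⁆ ≤ N ∧ Nat.card N = K.relIndex M := by
  have hcard : Nat.card M = K.relIndex M * Nat.card K := (Cfsg.Agent.Helper1.relIndex_mul_card_of_le hKM).symm
  have hH := (hallProp_of_solvable _ ↥M rfl).internal _ _ hcard hcop
  obtain ⟨N, hNM, hNcard, hle⟩ := hH.2 ⁅M, M⁆ (Subgroup.commutator_le_self M) hder
  exact ⟨N, hNM, hle, hNcard⟩

variable [Finite G]

/-- the normal Hall `κ(M)'`-subgroup of `M` -/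
theorem exists_kappa_compl (hG : Cfsg.IsMinSimpleOddOrder G) {M : Subgroup G} (hM : IsCoatom M)
    {K : Subgroup G} (hK : Cfsg.IsPiHallOf (Cfsg.kappa M) K M)
    (hκ : ∀ p ∈ Cfsg.kappa M, ¬ p ∣ Nat.card ↥⁅M, M⁆) :
    ∃ N : Subgroup G, N ≤ M ∧ ⁅M, M⁆ ≤ N ∧ M ≤ Subgroup.normalizer (N : Set G) ∧
      Nat.card N * Nat.card K = Nat.card M ∧ (Nat.card N).Coprime (Nat.card K) ∧
      Cfsg.sigmaCore M ≤ N ∧ K ⊓ N = ⊥ ∧ ∀ m ∈ M, ∃ x ∈ N, ∃ y ∈ K, m = x * y := by
  haveI : Group.IsSolvable ↥M := hG.2.2.2 M hM.1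
  have hcop := coprime_of_isPiHallOf hK
  have hder : (Nat.card ↥⁅M, M⁆).Coprime (Nat.card K) := by
    apply Nat.Coprime.symm
    apply Nat.coprime_of_dvd
    intro p hp h1 h2
    exact hκ p (hK.2.1 p hp h1) h2
  obtain ⟨N, hNM, hle, hNcard⟩ :=
    exists_normal_hall_of_coprime_commutator (hG.2.2.2 M hM.1) hK.1 hcop hder
  have hcard : Nat.card N * Nat.card K = Nat.card M := by
    rw [hNcard]; exact Cfsg.Agent.Helper1.relIndex_mul_card_of_le hK.1
  have hcopN : (Nat.card N).Coprime (Nat.card K) := hNcard ▸ hcop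
  have hNidx : N.relIndex M = Nat.card K := by
    have h1 := Cfsg.Agent.Helper1.relIndex_mul_card_of_le hNM
    have hpos : 0 < Nat.card N := Nat.card_pos
    have h2 : N.relIndex M * Nat.card N = Nat.card K * Nat.card N := by
      rw [h1, ← hcard, mul_comm]
    exact Nat.eq_of_mul_eq_mul_right hpos h2
  refine ⟨N, hNM, hle, le_normalizer_of_commutator_le hNM hle, hcard, hcopN,
    (Cfsg.Agent.Helper1.BGX.sigmaCore_le_commutator hG hM).trans hle,
    (Subgroup.disjoint_of_coprime_natCard hcopN.symm).eq_bot, ?_⟩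
  apply exists_mul_of_coprime_relIndex
  rw [hNidx, ← hNcard]
  exact hcopN.symm

/-- existence of the standard factorisation `M = K U M_σ` -/
theorem exists_sigmaDecomposition (hG : Cfsg.IsMinSimpleOddOrder G) {M : Subgroup G}
    (hM : IsCoatom M) {K : Subgroup G} (hKc : IsCyclic K)
    (hK : Cfsg.IsPiHallOf (Cfsg.kappa M) K M)
    (hκ : ∀ p ∈ Cfsg.kappa M, ¬ p ∣ Nat.card ↥⁅M, M⁆) :
    ∃ U : Subgroup G, Cfsg.IsSigmaDecomposition M K U := by
  obtain ⟨N, hNM, hle, hNn, hcard, hcopN, hσN, hKN, hprod⟩ := exists_kappa_compl hG hM hK hκ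
  have hKσ : ∀ t : ℕ, t.Prime → t ∣ Nat.card K → t ∉ Cfsg.sigma M := by
    intro t ht hd
    exact (hK.2.1 t ht hd).2.2.1
  obtain ⟨E, hE, hKE⟩ := Cfsg.Agent.Helper4.BG10.exists_compl_sigmaCore_ge hG hM hK.1 hKσ
  have hσM : Cfsg.sigmaCore M ≤ M := hE.2.1
  have hMσ : M ≤ Subgroup.normalizer (Cfsg.sigmaCore M : Set G) :=
    Cfsg.Agent.Lead.BG12.le_normalizer_sigmaCore M
  refine ⟨N ⊓ E, hKc, hK, ⟨inf_le_left.trans hNM, sup_le hK.1 hσM, ?_, ?_⟩, ?_⟩
  · rw [eq_bot_iff]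
    intro g hg
    obtain ⟨hgU, hgKσ⟩ := Subgroup.mem_inf.1 hg
    obtain ⟨hgN, hgE⟩ := Subgroup.mem_inf.1 hgU
    rw [sup_comm] at hgKσ
    obtain ⟨s, hs, k, hk, rfl⟩ := mem_sup_of_le_normalizer (hK.1.trans hMσ) hgKσ
    have hkN : k ∈ N := by
      have : k = s⁻¹ * (s * k) := by group
      rw [this]
      exact N.mul_mem (N.inv_mem (hσN hs)) hgN
    have hk1 : k = 1 := by
      have : k ∈ K ⊓ N := Subgroup.mem_inf.2 ⟨hk, hkN⟩
      rw [hKN] at this
      exact Subgroup.mem_bot.1 this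
    rw [hk1, mul_one] at hgE ⊢
    have : s ∈ E ⊓ Cfsg.sigmaCore M := Subgroup.mem_inf.2 ⟨hgE, hs⟩
    rw [hE.2.2.1] at this
    exact this
  · intro m hm
    obtain ⟨e, he, s, hs, rfl⟩ := hE.2.2.2 m hm
    obtain ⟨n, hn, k, hk, hnk⟩ := hprod e (hE.1 he)
    have hnE : n ∈ E := by
      have : n = e * k⁻¹ := by rw [hnk]; group
      rw [this]
      exact E.mul_mem he (E.inv_mem (hKE hk))
    refine ⟨n, Subgroup.mem_inf.2 ⟨hn, hnE⟩, k * s,
      Subgroup.mul_mem _ (Subgroup.mem_sup_left hk) (Subgroup.mem_sup_right hs), ?_⟩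
    rw [hnk, mul_assoc]
  · intro k hk
    have h1 := Subgroup.mem_normalizer_iff.1 (hNn (hK.1 hk))
    have h2 := Subgroup.mem_normalizer_iff.1 (Subgroup.le_normalizer (hKE hk))
    rw [Subgroup.mem_normalizer_iff]
    intro h
    rw [Subgroup.mem_inf, Subgroup.mem_inf, h1 h, h2 h]

/-- `U M_σ` is the normal Hall `κ(M)'`-subgroup, for every standard factorisation -/
theorem sup_sigmaCore_eq (hG : Cfsg.IsMinSimpleOddOrder G) {M : Subgroup G}
    (hM : IsCoatom M) {K U : Subgroup G} (hKU : Cfsg.IsSigmaDecomposition M K U)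
    (hκ : ∀ p ∈ Cfsg.kappa M, ¬ p ∣ Nat.card ↥⁅M, M⁆) {N : Subgroup G} (hNM : N ≤ M)
    (hNn : M ≤ Subgroup.normalizer (N : Set G))
    (hcard : Nat.card N * Nat.card K = Nat.card M) (hcopN : (Nat.card N).Coprime (Nat.card K))
    (hσN : Cfsg.sigmaCore M ≤ N) : U ⊔ Cfsg.sigmaCore M = N := by
  have hK := hKU.hall
  have hσM : Cfsg.sigmaCore M ≤ M := hKU.compl.2.1.trans' le_sup_right
  have hMσ : M ≤ Subgroup.normalizer (Cfsg.sigmaCore M : Set G) :=
    Cfsg.Agent.Lead.BG12.le_normalizer_sigmaCore M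
  have hUM : U ≤ M := hKU.compl.1
  -- `K ∩ M_σ = 1`
  have hKσ : K ⊓ Cfsg.sigmaCore M = ⊥ := by
    apply (Subgroup.disjoint_of_coprime_natCard _).eq_bot
    apply Nat.coprime_of_dvd
    intro p hp h1 h2
    exact (hK.2.1 p hp h1).2.2.1 (Cfsg.Agent.Lead.BG12.mem_sigma_of_dvd_card_sigmaCore hp h2)
  have hc1 : Nat.card (Cfsg.sigmaCore M ⊔ K : Subgroup G) =
      Nat.card K * Nat.card (Cfsg.sigmaCore M) :=
    card_sup_of_le_normalizer (hK.1.trans hMσ) hKσ
  have hc2 := IsComplIn_card_mul hKU.compl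
  rw [sup_comm, hc1] at hc2
  -- `|U| |M_σ| = |N|`
  have hc3 : Nat.card U * Nat.card (Cfsg.sigmaCore M) = Nat.card N := by
    have hpos : 0 < Nat.card K := Nat.card_pos
    have : Nat.card U * Nat.card (Cfsg.sigmaCore M) * Nat.card K = Nat.card N * Nat.card K := by
      rw [hcard, ← hc2]; ring
    exact Nat.eq_of_mul_eq_mul_right hpos this
  have hUσ : U ⊓ Cfsg.sigmaCore M = ⊥ := by
    rw [eq_bot_iff, ← hKU.compl.2.2.1]
    exact inf_le_inf_left _ le_sup_right
  have hc4 : Nat.card (Cfsg.sigmaCore M ⊔ U : Subgroup G) =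
      Nat.card U * Nat.card (Cfsg.sigmaCore M) :=
    card_sup_of_le_normalizer (hUM.trans hMσ) hUσ
  -- `U ≤ N`
  have hUN : U ≤ N := by
    intro u hu
    haveI : (N.subgroupOf M).Normal :=
      (Subgroup.normal_subgroupOf_iff_le_normalizer hNM).2 hNn
    have hidx : (N.subgroupOf M).index = Nat.card K := by
      have h1 := relIndex_mul_card_of_le hNM
      have hpos : 0 < Nat.card N := Nat.card_pos
      have h2 : N.relIndex M * Nat.card N = Nat.card K * Nat.card N := by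
        rw [h1, ← hcard, mul_comm]
      exact Nat.eq_of_mul_eq_mul_right hpos h2
    have hcop : (Nat.card U).Coprime (N.subgroupOf M).index := by
      rw [hidx]
      exact Nat.Coprime.coprime_dvd_left (Dvd.intro _ hc3) hcopN
    have h1 : (⟨u, hUM hu⟩ : ↥M) ^ Nat.card U = 1 := by
      apply Subtype.ext
      rw [Subgroup.coe_pow, Subgroup.coe_one]
      have := pow_card_eq_one' (G := ↥U) (x := ⟨u, hu⟩)
      exact congrArg Subtype.val this
    have := Cfsg.Agent.Lead.BG12.mem_of_pow_eq_one_of_coprime_index (N.subgroupOf M) hcop h1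
    exact Subgroup.mem_subgroupOf.1 this
  rw [sup_comm]
  apply Subgroup.eq_of_le_of_card_ge (sup_le hσN hUN)
  rw [hc4, hc3]

/-- `U M_σ ⊲ M` for every standard factorisation -/
theorem le_normalizer_sup_sigmaCore (hG : Cfsg.IsMinSimpleOddOrder G) {M : Subgroup G}
    (hM : IsCoatom M) {K U : Subgroup G} (hKU : Cfsg.IsSigmaDecomposition M K U)
    (hκ : ∀ p ∈ Cfsg.kappa M, ¬ p ∣ Nat.card ↥⁅M, M⁆) :
    M ≤ Subgroup.normalizer ((U ⊔ Cfsg.sigmaCore M : Subgroup G) : Set G) := by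
  obtain ⟨N, hNM, hle, hNn, hcard, hcopN, hσN, hKN, hprod⟩ :=
    exists_kappa_compl hG hM hKU.hall hκ
  rw [sup_sigmaCore_eq hG hM hKU hκ hNM hNn hcard hcopN hσN]
  exact hNn

end Cfsg.Agent.Helper3.BG142
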