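import Mathlib
import Cfsg.Prelude
import Cfsg.Agent.Helper3.BG142a
import Cfsg.Agent.Helper4.BG12e

set_option autoImplicit false
set_option linter.unusedSectionVars false
set_option linter.unusedVariables false

/-!
Bender–Glauberman 14.2: `M' = U M_σ` and `K* ≤ M''` for a standard factorisation `M = K U M_σ`
with `K ≠ 1` acting regularly on `U`.
-/

namespace Cfsg.Agent.Helper3.BG142

open Cfsg Cfsg.Agent.Helper1
open scoped commutatorElement Pointwise

universe u

variable {G : Type u} [Group G] [Finite G]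

/-- If `M = N K` with `N ⊲ M` solvable, `(|N|, |K|) = 1` and `N ≤ M'`, then `[N, K] = N`. -/
theorem commutator_eq_of_normal_compl {M N K : Subgroup G} (hNM : N ≤ M) (hKM : K ≤ M)
    (hNn : M ≤ Subgroup.normalizer (N : Set G))
    (hprod : ∀ m ∈ M, ∃ x ∈ N, ∃ y ∈ K, m = x * y)
    (hcop : (Nat.card N).Coprime (Nat.card K)) (hsol : Group.IsSolvable ↥N)
    (hN' : N ≤ ⁅M, M⁆) : ⁅N, K⁆ = N := by
  haveI hKn : (N.subgroupOf M).Normal :=
    (Subgroup.normal_subgroupOf_iff_le_normalizer hNM).2 hNn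
  have hsup : N.subgroupOf M ⊔ K.subgroupOf M = ⊤ := by
    rw [eq_top_iff]
    rintro ⟨m, hm⟩ -
    obtain ⟨a, ha, b, hb, e⟩ := hprod m hm
    have : (⟨m, hm⟩ : ↥M) = ⟨a, hNM ha⟩ * ⟨b, hKM hb⟩ := Subtype.ext e
    rw [this]
    exact Subgroup.mul_mem _ (Subgroup.mem_sup_left (Subgroup.mem_subgroupOf.mpr ha))
      (Subgroup.mem_sup_right (Subgroup.mem_subgroupOf.mpr hb))
  have hcop' : (Nat.card ↥(N.subgroupOf M)).Coprime (Nat.card ↥(K.subgroupOf M)) := by
    rw [Cfsg.Agent.Lead.card_subgroupOf_of_le hNM, Cfsg.Agent.Lead.card_subgroupOf_of_le hKM]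
    exact hcop
  have hsol' : Group.IsSolvable ↥(N.subgroupOf M) := by
    have e : ↥(N.subgroupOf M) ≃* ↥N := Subgroup.subgroupOfEquivOfLe hNM
    exact Group.isSolvable_of_isSolvable_injective (f := e.toMonoidHom) e.injective
  have hle : N.subgroupOf M ≤ commutator ↥M := by
    intro x hx
    have h1 : (x : G) ∈ ⁅M, M⁆ := hN' (Subgroup.mem_subgroupOf.mp hx)
    rw [← Subgroup.map_subtype_commutator] at h1
    obtain ⟨y, hy, hxy⟩ := h1
    have : y = x := Subtype.ext hxy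
    exact this ▸ hy
  have key := Cfsg.Agent.Helper4.BG12.commutator_eq_of_le_commutator (N.subgroupOf M)
    (K.subgroupOf M) hsup hcop' hsol' hle
  have h2 := congrArg (Subgroup.map M.subtype) key
  rw [Subgroup.map_commutator, Subgroup.map_subgroupOf_eq_of_le hNM,
    Subgroup.map_subgroupOf_eq_of_le hKM] at h2
  exact h2

/-- **BG 14.2**: `M' = U M_σ` when `K` acts regularly on `U`. -/
theorem commutator_eq_sup (hG : Cfsg.IsMinSimpleOddOrder G) {M : Subgroup G}
    (hM : IsCoatom M) {K U : Subgroup G} (hKU : Cfsg.IsSigmaDecomposition M K U)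
    (hκ : ∀ p ∈ Cfsg.kappa M, ¬ p ∣ Nat.card ↥⁅M, M⁆)
    (hreg : U ⊓ Subgroup.centralizer (K : Set G) = ⊥) :
    ⁅M, M⁆ = U ⊔ Cfsg.sigmaCore M := by
  obtain ⟨N, hNM, hle, hNn, hcard, hcopN, hσN, hKN, hprod⟩ :=
    exists_kappa_compl hG hM hKU.hall hκ
  have hN := sup_sigmaCore_eq hG hM hKU hκ hNM hNn hcard hcopN hσN
  apply le_antisymm
  · rw [hN]; exact hle
  · apply sup_le _ (Cfsg.Agent.Helper1.BGX.sigmaCore_le_commutator hG hM)
    have hUM : U ≤ M := hKU.compl.1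
    have hUN : U ≤ N := hN ▸ le_sup_left
    have hcop : (Nat.card K).Coprime (Nat.card U) :=
      (Nat.Coprime.coprime_dvd_left (Subgroup.card_dvd_of_le hUN) hcopN).symm
    have hsol : Group.IsSolvable ↥U :=
      Cfsg.Agent.Helper1.isSolvable_of_le hUM (hG.2.2.2 M hM.1)
    have h1 := coprime_commutator_sup_centralizer K U hKU.normal hcop (Or.inr hsol)
    rw [hreg, sup_bot_eq] at h1
    rw [← h1]
    exact Subgroup.commutator_mono hUM hKU.hall.1

/-- **BG 14.2**: `K* = C_{M_σ}(K) ≤ M''` when `M' = U M_σ`. -/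
theorem inf_centralizer_le_commutator_commutator (hG : Cfsg.IsMinSimpleOddOrder G)
    {M : Subgroup G} (hM : IsCoatom M) {K U : Subgroup G}
    (hKU : Cfsg.IsSigmaDecomposition M K U)
    (hκ : ∀ p ∈ Cfsg.kappa M, ¬ p ∣ Nat.card ↥⁅M, M⁆)
    (hreg : U ⊓ Subgroup.centralizer (K : Set G) = ⊥) :
    Cfsg.sigmaCore M ⊓ Subgroup.centralizer (K : Set G) ≤ ⁅⁅M, M⁆, ⁅M, M⁆⁆ := by
  obtain ⟨N, hNM, hle, hNn, hcard, hcopN, hσN, hKN, hprod⟩ :=
    exists_kappa_compl hG hM hKU.hall hκ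
  have hN := sup_sigmaCore_eq hG hM hKU hκ hNM hNn hcard hcopN hσN
  have hder := commutator_eq_sup hG hM hKU hκ hreg
  have hNder : N = ⁅M, M⁆ := by rw [hder, hN]
  have hsol : Group.IsSolvable ↥N :=
    Cfsg.Agent.Helper1.isSolvable_of_le hNM (hG.2.2.2 M hM.1)
  have hNK := commutator_eq_of_normal_compl hNM hKU.hall.1 hNn hprod hcopN hsol hNder.le
  have key := Cfsg.Agent.Helper4.BG12.inf_centralizer_le_commutator_of_commutator_eq N K
    (hKU.hall.1.trans hNn) hcopN hNK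
  rw [← hNder]
  exact (inf_le_inf_right _ hσN).trans key

end Cfsg.Agent.Helper3.BG142
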