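import Mathlib
import Cfsg.Agent.Helper3.FrobActE

set_option autoImplicit false

/-!
More on Frobenius-type actions: the quotient by the fixed points of a normal subgroup, and a
version of `comm_act'` without the hypothesis `C_A(F) = 1`.
-/

namespace Cfsg.Agent.Helper3.FrobActF

open Cfsg.Agent.Helper3.FrobActA Cfsg.Agent.Helper3.FrobActB Cfsg.Agent.Helper3.FrobActE

universe u v

variable {G : Type u} [Group G] [Finite G] {A : Type v} [Group A] [Finite A]

/-- If `F` is normal, then `F` has no fixed points on `A ⧸ C_A(F)` (coprime action, `C_A(F)` abelian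
and normal). -/
theorem fix_quot_fix_eq_bot (ψ : G →* MulAut A) (F : Subgroup G) [hFn : F.Normal]
    [hn : (fix ψ F).Normal] (hNab : ∀ a ∈ fix ψ F, ∀ b ∈ fix ψ F, a * b = b * a)
    (hcop : (Nat.card (fix ψ F)).Coprime (Nat.card F)) :
    fix (quotAct ψ (fix ψ F) (fix_normal_inv F ψ)) F = ⊥ := by
  rw [eq_bot_iff]
  intro q hq
  obtain ⟨m, hm⟩ := fixQuotHom_surjective ψ F (fix ψ F) (fix_normal_inv F ψ) hNab hcop ⟨q, hq⟩
  have h2 := congrArg Subtype.val hm
  rw [fixQuotHom_apply] at h2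
  change ((m : A) : A ⧸ fix ψ F) = q at h2
  rw [Subgroup.mem_bot, ← h2]
  exact (QuotientGroup.eq_one_iff _).mpr m.2

/-- A Frobenius-type group `F H` with `|H| = p` prime acting coprimely on an elementary abelian
`r`-group `A` with `|C_A(H)| ≤ r`: the commutators of elements of `F` act trivially on `A`. -/
theorem comm_act_general (r : ℕ) (hr : r.Prime) (hcomm : ∀ a b : A, a * b = b * a)
    (hexp : ∀ a : A, a ^ r = 1) (ψ : G →* MulAut A) (F H : Subgroup G) [hFn : F.Normal]
    (hnil : Group.IsNilpotent F)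
    (hfpf : ∀ h ∈ H, h ≠ 1 → ∀ f ∈ F, h * f * h⁻¹ = f → f = 1)
    (hFH : F ⊔ H = ⊤) (p : ℕ) (hp : p.Prime) (hH : Nat.card H = p)
    (hcop : (Nat.card G).Coprime (Nat.card A))
    (hle : Nat.card (fix ψ H) ≤ r) : ∀ a ∈ F, ∀ b ∈ F, ψ (a * b) = ψ (b * a) := by
  set N := fix ψ F with hNdef
  haveI hNn : N.Normal := ⟨fun n hn g => by
    have : g * n * g⁻¹ = n := by rw [hcomm g n, mul_inv_cancel_right]
    rw [this]; exact hn⟩
  have hNinv : Inv ψ N := fix_normal_inv F ψ
  have hNab : ∀ a ∈ N, ∀ b ∈ N, a * b = b * a := fun a _ b _ => hcomm a b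
  have hcopN : (Nat.card G).Coprime (Nat.card N) :=
    Nat.Coprime.coprime_dvd_right (Subgroup.card_subgroup_dvd_card N) hcop
  have hc : ∀ S : Subgroup G, (Nat.card N).Coprime (Nat.card S) := fun S =>
    (Nat.Coprime.coprime_dvd_left (Subgroup.card_subgroup_dvd_card S) hcopN).symm
  have hCF : fix (quotAct ψ N hNinv) F = ⊥ := fix_quot_fix_eq_bot ψ F hNab (hc F)
  have hcommQ : ∀ a b : A ⧸ N, a * b = b * a := by
    intro a b
    induction a using QuotientGroup.induction_on with
    | H a =>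
    induction b using QuotientGroup.induction_on with
    | H b =>
    rw [← QuotientGroup.mk_mul, ← QuotientGroup.mk_mul, hcomm a b]
  have hexpQ : ∀ a : A ⧸ N, a ^ r = 1 := by
    intro a
    induction a using QuotientGroup.induction_on with
    | H a => rw [← QuotientGroup.mk_pow, hexp a]; rfl
  have hleQ : Nat.card (fix (quotAct ψ N hNinv) H) ≤ r := by
    have h1 := card_fix_eq ψ H N hNinv hNab (hc H)
    have h2 : Nat.card (fix (quotAct ψ N hNinv) H) ∣ Nat.card (fix ψ H) := ⟨_, by rw [h1, mul_comm]⟩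
    exact le_trans (Nat.le_of_dvd Nat.card_pos h2) hle
  have hmain := comm_act' r hr hcommQ hexpQ (quotAct ψ N hNinv) F H hnil hfpf hCF hFH p hp hH hleQ
  intro a ha b hb
  set c : G := (a * b) * (b * a)⁻¹ with hcdef
  have hcF : c ∈ F := F.mul_mem (F.mul_mem ha hb) (F.inv_mem (F.mul_mem hb ha))
  have h1 : quotAct ψ N hNinv c = 1 := by
    rw [hcdef, map_mul, hmain a ha b hb, ← map_mul, mul_inv_cancel, map_one]
  have h2 : resAct ψ N hNinv c = 1 := by
    apply MulEquiv.ext
    intro n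
    apply Subtype.ext
    rw [resAct_apply]
    exact n.2 c hcF
  have h3 : ψ c = 1 := eq_one_of_res_quot ψ N hNinv hcopN c h2 h1
  have h4 : ψ (a * b) = ψ c * ψ (b * a) := by
    rw [← map_mul, hcdef, inv_mul_cancel_right]
  rw [h4, h3, one_mul]

end Cfsg.Agent.Helper3.FrobActF
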