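import Mathlib
import Cfsg.Prelude
import Cfsg.Agent.Helper4.BG13b

set_option autoImplicit false
set_option linter.unusedSectionVars false
set_option linter.unusedVariables false

/-!
Generic lemmas for Bender–Glauberman Theorem 13.7 (`tau12_regular`):

* `mem_of_mem_commutator_sup_of_fixed`: the norm map argument.  For a coprime action of `V` on `K`
  and a `V`-invariant normal subgroup `N` of `K` with `K / N` abelian, an element of `[K, V] N`
  fixed by `V` modulo `N` lies in `N`.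
* `frob_formula'`: helper3's Theorem C for conjugation actions with an arbitrary complement.
* `le_normalizer_inf_centralizer_of_commutator`: if `[v, d]` centralizes `S` for all `d ∈ X` then
  `v` normalizes `C_S(X)`.
-/

namespace Cfsg.Agent.Helper3.BG137

open Cfsg Cfsg.Agent.Helper1
open Cfsg.Agent.Helper3.FrobActA
open scoped commutatorElement Pointwise

universe u

variable {G : Type u} [Group G] [Finite G]

/-- conjugation by an element of the normalizer, as an endomorphism of the subgroup -/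
def conjEnd (K : Subgroup G) (v : G) (hv : v ∈ Subgroup.normalizer (K : Set G)) : ↥K →* ↥K where
  toFun k := ⟨v * k * v⁻¹, (Subgroup.mem_normalizer_iff.1 hv k).1 k.2⟩
  map_one' := by apply Subtype.ext; simp
  map_mul' a b := by apply Subtype.ext; simp only [Subgroup.coe_mul]; group

/-- **The norm map argument.** -/
theorem mem_of_mem_commutator_sup_of_fixed {K V N : Subgroup G}
    (hVK : V ≤ Subgroup.normalizer (K : Set G)) (hcop : (Nat.card V).Coprime (Nat.card K))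
    (hNK : N ≤ K) (hKN : K ≤ Subgroup.normalizer (N : Set G))
    (hVN : V ≤ Subgroup.normalizer (N : Set G)) (hab : ⁅K, K⁆ ≤ N) {a : G} (haK : a ∈ K)
    (hfix : ∀ v ∈ V, v * a * v⁻¹ * a⁻¹ ∈ N) (ha : a ∈ ⁅K, V⁆ ⊔ N) : a ∈ N := by
  classical
  haveI hNn : (N.subgroupOf K).Normal := (Subgroup.normal_subgroupOf_iff_le_normalizer hNK).2 hKN
  have hcomm : ∀ x y : ↥K ⧸ N.subgroupOf K, x * y = y * x := by
    intro x y
    induction x using QuotientGroup.induction_on with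
    | H x =>
    induction y using QuotientGroup.induction_on with
    | H y =>
    rw [← QuotientGroup.mk_mul, ← QuotientGroup.mk_mul, QuotientGroup.eq]
    rw [Subgroup.mem_subgroupOf]
    have h1 : ⁅(y : G)⁻¹, (x : G)⁻¹⁆ ∈ ⁅K, K⁆ :=
      Subgroup.commutator_mem_commutator (K.inv_mem y.2) (K.inv_mem x.2)
    have h2 : (((x * y)⁻¹ * (y * x) : ↥K) : G) = ⁅(y : G)⁻¹, (x : G)⁻¹⁆ := by
      simp only [Subgroup.coe_mul, Subgroup.coe_inv, commutatorElement_def]
      group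
    rw [h2]
    exact hab h1
  letI : CommGroup (↥K ⧸ N.subgroupOf K) :=
    { (inferInstance : Group (↥K ⧸ N.subgroupOf K)) with mul_comm := hcomm }
  haveI : Fintype ↥V := Fintype.ofFinite _
  let mk : ↥K →* ↥K ⧸ N.subgroupOf K := QuotientGroup.mk' (N.subgroupOf K)
  let ν : ↥K → ↥K ⧸ N.subgroupOf K := fun k =>
    ∏ v : ↥V, mk (conjEnd K (v : G) (hVK v.2) k)
  have hνmul : ∀ k l : ↥K, ν (k * l) = ν k * ν l := by
    intro k l
    simp only [ν, map_mul]
    exact Finset.prod_mul_distrib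
  have hνone : ν 1 = 1 := by
    simp only [ν, map_one]
    exact Finset.prod_const_one
  have hνinv : ∀ k : ↥K, ν k⁻¹ = (ν k)⁻¹ := by
    intro k
    have h1 : ν k⁻¹ * ν k = 1 := by rw [← hνmul, inv_mul_cancel, hνone]
    exact eq_inv_of_mul_eq_one_left h1
  -- invariance under conjugation by `V`
  have hνconj : ∀ (w : ↥V) (k : ↥K), ν (conjEnd K (w : G) (hVK w.2) k) = ν k := by
    intro w k
    simp only [ν]
    refine Fintype.prod_equiv (Equiv.mulRight w) _ _ ?_
    intro v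
    congr 1
    apply Subtype.ext
    simp only [conjEnd, MonoidHom.coe_mk, OneHom.coe_mk, Equiv.coe_mulRight, Subgroup.coe_mul]
    group
  -- `ν` kills `N`
  have hνN : ∀ k : ↥K, (k : G) ∈ N → ν k = 1 := by
    intro k hk
    simp only [ν]
    apply Finset.prod_eq_one
    intro v _
    change (QuotientGroup.mk (conjEnd K (v : G) (hVK v.2) k) : ↥K ⧸ N.subgroupOf K) = 1
    rw [QuotientGroup.eq_one_iff, Subgroup.mem_subgroupOf]
    exact (Subgroup.mem_normalizer_iff.1 (hVN v.2) _).1 hk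
  -- the kernel as a subgroup of `G`
  let J : Subgroup G :=
    { carrier := {g | ∃ h : g ∈ K, ν ⟨g, h⟩ = 1}
      one_mem' := ⟨K.one_mem, hνone⟩
      mul_mem' := by
        rintro x y ⟨hx, hx1⟩ ⟨hy, hy1⟩
        refine ⟨K.mul_mem hx hy, ?_⟩
        have : (⟨x * y, K.mul_mem hx hy⟩ : ↥K) = ⟨x, hx⟩ * ⟨y, hy⟩ := rfl
        rw [this, hνmul, hx1, hy1, one_mul]
      inv_mem' := by
        rintro x ⟨hx, hx1⟩
        refine ⟨K.inv_mem hx, ?_⟩
        have : (⟨x⁻¹, K.inv_mem hx⟩ : ↥K) = (⟨x, hx⟩ : ↥K)⁻¹ := rfl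
        rw [this, hνinv, hx1, inv_one] }
  have hJ : ⁅K, V⁆ ⊔ N ≤ J := by
    refine sup_le ?_ ?_
    · rw [Subgroup.commutator_le]
      intro k hk w hw
      have hmem : ⁅k, w⁆ ∈ K := by
        rw [commutatorElement_def]
        have h1 : w * k⁻¹ * w⁻¹ ∈ K := (Subgroup.mem_normalizer_iff.1 (hVK hw) _).1 (K.inv_mem hk)
        have : k * w * k⁻¹ * w⁻¹ = k * (w * k⁻¹ * w⁻¹) := by group
        rw [this]
        exact K.mul_mem hk h1
      refine ⟨hmem, ?_⟩
      have h2 : (⟨⁅k, w⁆, hmem⟩ : ↥K) =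
          ⟨k, hk⟩ * conjEnd K w (hVK hw) (⟨k, hk⟩ : ↥K)⁻¹ := by
        apply Subtype.ext
        simp only [conjEnd, MonoidHom.coe_mk, OneHom.coe_mk, Subgroup.coe_mul, Subgroup.coe_inv,
          commutatorElement_def]
        group
      rw [h2, hνmul, hνconj ⟨w, hw⟩, hνinv, mul_inv_cancel]
    · intro n hn
      exact ⟨hNK hn, hνN ⟨n, hNK hn⟩ hn⟩
  obtain ⟨haK', hνa⟩ := hJ ha
  -- `ν a = (mk a) ^ |V|`
  have hνa' : ν ⟨a, haK'⟩ = (mk ⟨a, haK'⟩) ^ Nat.card V := by
    simp only [ν]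
    rw [Nat.card_eq_fintype_card, ← Finset.card_univ, ← Finset.prod_const]
    apply Finset.prod_congr rfl
    intro v _
    change (QuotientGroup.mk (conjEnd K (v : G) (hVK v.2) ⟨a, haK'⟩) : ↥K ⧸ N.subgroupOf K) =
      QuotientGroup.mk (⟨a, haK'⟩ : ↥K)
    rw [QuotientGroup.eq, Subgroup.mem_subgroupOf]
    have h3 := N.inv_mem (hfix v v.2)
    have h4 : (((conjEnd K (v : G) (hVK v.2) ⟨a, haK'⟩)⁻¹ * (⟨a, haK'⟩ : ↥K) : ↥K) : G) =
        (v * a * v⁻¹)⁻¹ * a := by
      simp only [conjEnd, MonoidHom.coe_mk, OneHom.coe_mk, Subgroup.coe_mul, Subgroup.coe_inv]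
    rw [h4]
    have h5 : (v * a * v⁻¹)⁻¹ * a = (v * a * v⁻¹)⁻¹ * (v * a * v⁻¹ * a⁻¹)⁻¹ * (v * a * v⁻¹) := by
      group
    rw [h5]
    have hvaK : (v : G) * a * (v : G)⁻¹ ∈ K := (Subgroup.mem_normalizer_iff.1 (hVK v.2) _).1 haK'
    have := (Subgroup.mem_normalizer_iff.1 (hKN (K.inv_mem hvaK)) _).1 h3
    simpa using this
  rw [hνa'] at hνa
  -- coprimality
  have hord1 : orderOf (mk ⟨a, haK'⟩) ∣ Nat.card V := orderOf_dvd_of_pow_eq_one hνa
  have hord2 : orderOf (mk ⟨a, haK'⟩) ∣ Nat.card K := by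
    have h6 : orderOf (mk ⟨a, haK'⟩) ∣ orderOf (⟨a, haK'⟩ : ↥K) := orderOf_map_dvd mk _
    exact h6.trans (orderOf_dvd_natCard _)
  have hord : orderOf (mk ⟨a, haK'⟩) = 1 := Nat.eq_one_of_dvd_coprimes hcop hord1 hord2
  have h7 : mk ⟨a, haK'⟩ = 1 := orderOf_eq_one_iff.1 hord
  have h8 : (⟨a, haK'⟩ : ↥K) ∈ N.subgroupOf K := (QuotientGroup.eq_one_iff _).1 h7
  exact Subgroup.mem_subgroupOf.1 h8

end Cfsg.Agent.Helper3.BG137
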