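import Mathlib
import Cfsg.Prelude
import Cfsg.Agent.Helper3.BG137a

set_option autoImplicit false
set_option linter.unusedSectionVars false
set_option linter.unusedVariables false

/-!
More generic lemmas for Bender–Glauberman Theorem 13.7.
-/

namespace Cfsg.Agent.Helper3.BG137

open Cfsg Cfsg.Agent.Helper1
open Cfsg.Agent.Helper3.FrobActA
open scoped commutatorElement Pointwise

universe u

variable {G : Type u} [Group G] [Finite G]

/-- For a coprime action on an abelian group, `C_K(V) ∩ [K, V] = 1`. -/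
theorem inf_centralizer_inf_commutator_eq_bot {K V : Subgroup G}
    (hVK : V ≤ Subgroup.normalizer (K : Set G)) (hcop : (Nat.card V).Coprime (Nat.card K))
    (hab : ∀ a ∈ K, ∀ b ∈ K, a * b = b * a) :
    Subgroup.centralizer (V : Set G) ⊓ ⁅K, V⁆ = ⊥ := by
  rw [eq_bot_iff]
  intro a ha
  have hKV : ⁅K, V⁆ ≤ K := Subgroup.le_normalizer_iff_commutator_le_left.1 hVK
  have haK : a ∈ K := hKV ha.2
  have hab' : ⁅K, K⁆ ≤ (⊥ : Subgroup G) := by
    rw [Subgroup.commutator_le]
    intro x hx y hy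
    rw [Subgroup.mem_bot, commutatorElement_eq_one_iff_mul_comm]
    exact hab x hx y hy
  refine mem_of_mem_commutator_sup_of_fixed hVK hcop bot_le ?_ ?_ hab' haK ?_ ?_
  · intro k _
    rw [Subgroup.mem_normalizer_iff]
    intro n
    simp only [Subgroup.mem_bot]
    constructor
    · rintro rfl; group
    · intro h
      have : n = k⁻¹ * (k * n * k⁻¹) * k := by group
      rw [this, h]; group
  · intro k _
    rw [Subgroup.mem_normalizer_iff]
    intro n
    simp only [Subgroup.mem_bot]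
    constructor
    · rintro rfl; group
    · intro h
      have : n = k⁻¹ * (k * n * k⁻¹) * k := by group
      rw [this, h]; group
  · intro v hv
    rw [Subgroup.mem_bot]
    have := (Subgroup.mem_centralizer_iff.1 ha.1 v hv)
    rw [this]; group
  · exact Subgroup.mem_sup_left ha.2

/-- **helper3's Theorem C for conjugation actions**, arbitrary complement `P`. -/
theorem frob_formula' (S Q P : Subgroup G) (hQS : Q ≤ Subgroup.normalizer (S : Set G))
    (hPS : P ≤ Subgroup.normalizer (S : Set G)) (hPQ : P ≤ Subgroup.normalizer (Q : Set G))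
    (hQnil : Group.IsNilpotent ↥Q)
    (hfpf : ∀ h ∈ P, h ≠ 1 → ∀ f ∈ Q, h * f = f * h → f = 1) (hsolv : Group.IsSolvable ↥S)
    (hcop : (Nat.card ↥(Q ⊔ P)).Coprime (Nat.card S)) :
    Nat.card ↥(S ⊓ Subgroup.centralizer ((Q ⊔ P : Subgroup G) : Set G)) ^ Nat.card P * Nat.card S =
      Nat.card ↥(S ⊓ Subgroup.centralizer (P : Set G)) ^ Nat.card P *
        Nat.card ↥(S ⊓ Subgroup.centralizer (Q : Set G)) := by
  classical
  have hQL : Q ≤ Q ⊔ P := le_sup_left
  have hPL : P ≤ Q ⊔ P := le_sup_right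
  have hLS : Q ⊔ P ≤ Subgroup.normalizer (S : Set G) := sup_le hQS hPS
  have hLQ : Q ⊔ P ≤ Subgroup.normalizer (Q : Set G) := sup_le Subgroup.le_normalizer hPQ
  set φ := Cfsg.Agent.S1446.conjAct S (Q ⊔ P) hLS with hφ
  set F : Subgroup ↥(Q ⊔ P) := Q.subgroupOf (Q ⊔ P) with hF
  set H : Subgroup ↥(Q ⊔ P) := P.subgroupOf (Q ⊔ P) with hH
  haveI hFn : F.Normal := (Subgroup.normal_subgroupOf_iff_le_normalizer hQL).mpr hLQ
  have hFnil : Group.IsNilpotent F :=
    (Group.isNilpotent_congr (Subgroup.subgroupOfEquivOfLe hQL)).mpr hQnil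
  have hFH : F ⊔ H = ⊤ := by
    rw [hF, hH, ← Subgroup.subgroupOf_sup hQL hPL, Subgroup.subgroupOf_self]
  have hHcard : Nat.card H = Nat.card P :=
    Nat.card_congr (Subgroup.subgroupOfEquivOfLe hPL).toEquiv
  have hfpf' : ∀ h ∈ H, h ≠ 1 → ∀ f ∈ F, h * f * h⁻¹ = f → f = 1 := by
    intro h hh h1 f hf hfix
    have hhP : (h : G) ∈ P := Subgroup.mem_subgroupOf.mp hh
    have hh1 : (h : G) ≠ 1 := fun e => h1 (Subtype.ext e)
    have hfQ : (f : G) ∈ Q := Subgroup.mem_subgroupOf.mp hf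
    have hcomm : (h : G) * (f : G) = (f : G) * (h : G) := by
      have h2 := congrArg Subtype.val hfix
      simp only [Subgroup.coe_mul, Subgroup.coe_inv] at h2
      rw [mul_inv_eq_iff_eq_mul] at h2
      exact h2
    exact Subtype.ext (hfpf _ hhP hh1 _ hfQ hcomm)
  have key := Cfsg.Agent.Helper3.FrobActE.card_fix_formula F H hFnil hfpf' hFH S φ hsolv hcop
  have e1 : Nat.card (fix φ ⊤) =
      Nat.card ↥(S ⊓ Subgroup.centralizer ((Q ⊔ P : Subgroup G) : Set G)) := by
    have := Cfsg.Agent.S1446.card_fix_conjAct S (Q ⊔ P) hLS (Q ⊔ P) le_rfl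
    rw [Subgroup.subgroupOf_self] at this
    exact this
  rw [e1, Cfsg.Agent.S1446.card_fix_conjAct S (Q ⊔ P) hLS P hPL,
    Cfsg.Agent.S1446.card_fix_conjAct S (Q ⊔ P) hLS Q hQL, hHcard] at key
  exact key

/-- If `[v, d]` centralizes `S` for every `d ∈ X`, `v` normalizes `S` and `X` normalizes `S`, then `v`
normalizes `C_S(X)`. -/
theorem mem_normalizer_inf_centralizer_of_commutator {S X : Subgroup G} {v : G}
    (hv : v ∈ Subgroup.normalizer (S : Set G)) (hXS : X ≤ Subgroup.normalizer (S : Set G))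
    (hc : ∀ d ∈ X, ⁅v, d⁆ ∈ Subgroup.centralizer (S : Set G))
    (hc' : ∀ d ∈ X, ⁅v⁻¹, d⁆ ∈ Subgroup.centralizer (S : Set G)) :
    v ∈ Subgroup.normalizer ((S ⊓ Subgroup.centralizer (X : Set G) : Subgroup G) : Set G) := by
  have key : ∀ w : G, w ∈ Subgroup.normalizer (S : Set G) →
      (∀ d ∈ X, ⁅w⁻¹, d⁆ ∈ Subgroup.centralizer (S : Set G)) →
      ∀ s ∈ S ⊓ Subgroup.centralizer (X : Set G),
        w * s * w⁻¹ ∈ S ⊓ Subgroup.centralizer (X : Set G) := by
    intro w hw hcw s hs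
    have hwsS : w * s * w⁻¹ ∈ S := (Subgroup.mem_normalizer_iff.1 hw s).1 hs.1
    refine Subgroup.mem_inf.2 ⟨hwsS, ?_⟩
    rw [Subgroup.mem_centralizer_iff]
    intro d hd
    -- `d * (w s w⁻¹) = (w s w⁻¹) * d`
    have h1 := Subgroup.mem_centralizer_iff.1 (hcw d hd) s hs.1
    -- `s * ⁅w⁻¹, d⁆ = ⁅w⁻¹, d⁆ * s`
    have h2 := Subgroup.mem_centralizer_iff.1 hs.2 d hd
    -- `d * s = s * d`
    have e1 : w⁻¹ * d * w = ⁅w⁻¹, d⁆ * d := by
      rw [commutatorElement_def]; group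
    have e2 : (w⁻¹ * d * w) * s = s * (w⁻¹ * d * w) := by
      rw [e1, mul_assoc, h2, ← mul_assoc, ← h1, mul_assoc]
    calc d * (w * s * w⁻¹) = w * ((w⁻¹ * d * w) * s) * w⁻¹ := by group
      _ = w * (s * (w⁻¹ * d * w)) * w⁻¹ := by rw [e2]
      _ = w * s * w⁻¹ * d := by group
  rw [Subgroup.mem_normalizer_iff]
  intro s
  constructor
  · exact key v hv hc' s
  · intro h
    have hv' : v⁻¹ ∈ Subgroup.normalizer (S : Set G) := Subgroup.inv_mem _ hv
    have := key v⁻¹ hv' (by simpa using hc) _ h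
    have e : v⁻¹ * (v * s * v⁻¹) * v⁻¹⁻¹ = s := by group
    rwa [e] at this

end Cfsg.Agent.Helper3.BG137
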