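import Mathlib
import Cfsg.Prelude
import Cfsg.Agent.Helper3.BG137b
import Cfsg.Agent.Helper3.BG134h

set_option autoImplicit false
set_option linter.unusedSectionVars false
set_option linter.unusedVariables false

/-!
Bender–Glauberman Theorem 13.7, first steps: `X` does not centralize `A`, `R = C_A(X)` is a singular
point.
-/

namespace Cfsg.Agent.Helper3.BG137

open Cfsg Cfsg.Agent.Helper1 Cfsg.Agent.Helper1.BGU
open scoped commutatorElement Pointwise

universe u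

variable {G : Type u} [Group G] [Finite G]

/-- step (a): `X` does not centralize `A`. -/
theorem not_le_centralizer (hG : Cfsg.IsMinSimpleOddOrder G) {M : Subgroup G} (hM : IsCoatom M)
    {E : Subgroup G} (hE : Cfsg.IsComplIn E (Cfsg.sigmaCore M) M) {p : ℕ} [hp : Fact p.Prime]
    (hpτ : p ∈ Cfsg.tau1 M) {X : Subgroup G} (hXE : X ≤ E) (hX : Nat.card X = p) {t : ℕ}
    [ht : Fact t.Prime] (htτ : t ∈ Cfsg.tau2 M) {A : Subgroup G}
    (hA : A ≤ E ∧ Cfsg.IsElementaryAbelian t A ∧ Nat.card A = t ^ 2)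
    (hY : Cfsg.sigmaCore M ⊓ Subgroup.centralizer (X : Set G) ≠ ⊥) :
    ¬ A ≤ Subgroup.centralizer (X : Set G) := by
  intro hAX
  have hXM : X ≤ M := hXE.trans hE.1
  have hXp : IsPGroup p ↥X := IsPGroup.of_card (n := 1) (by rw [hX, pow_one])
  have hX1 : X ≠ ⊥ := by
    intro h
    rw [h, Subgroup.card_bot] at hX
    exact hp.out.one_lt.ne hX
  have hXtop : X ≠ ⊤ := fun h => hM.1 (top_le_iff.1 (h ▸ hXM))
  obtain ⟨H, hH, hNXH⟩ := exists_coatom_ge (normalizer_ne_top_of_simple hG hX1 hXtop)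
  have hHM : H ≠ M := by
    intro h
    exact Cfsg.Agent.Helper4.BG13.not_normalizer_le_of_rank_one hG hpτ.2.1 hpτ.2.2.1
      hpτ.2.2.2.2 hXM hXp hX1 (h ▸ hNXH)
  have hCXH : Subgroup.centralizer (X : Set G) ≤ H :=
    (Subgroup.centralizer_le_normalizer _).trans hNXH
  have hbot := (Cfsg.Agent.Helper4.BG12.thm125 hG hM htτ ⟨hA.1.trans hE.1, hA.2⟩).2.2.2.2.1
    H hH hHM (hAX.trans hCXH)
  apply hY
  rw [eq_bot_iff, ← hbot]
  exact inf_le_inf_left _ hCXH

/-- `R = C_A(X)` has order `t`. -/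
theorem card_inf_centralizer {t : ℕ} [ht : Fact t.Prime] {A X : Subgroup G}
    (hAcard : Nat.card A = t ^ 2) (hAX : ¬ A ≤ Subgroup.centralizer (X : Set G))
    (hR1 : A ⊓ Subgroup.centralizer (X : Set G) ≠ ⊥) :
    Nat.card ↥(A ⊓ Subgroup.centralizer (X : Set G)) = t := by
  have hd : Nat.card ↥(A ⊓ Subgroup.centralizer (X : Set G)) ∣ t ^ 2 :=
    hAcard ▸ Subgroup.card_dvd_of_le inf_le_left
  obtain ⟨j, hj2, hj⟩ := (Nat.dvd_prime_pow ht.out).1 hd
  interval_cases j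
  · exfalso
    rw [pow_zero] at hj
    exact hR1 (Subgroup.card_eq_one.1 hj)
  · rw [hj, pow_one]
  · exfalso
    apply hAX
    have : A ⊓ Subgroup.centralizer (X : Set G) = A :=
      Subgroup.eq_of_le_of_card_ge inf_le_left (by rw [hj, hAcard])
    exact inf_eq_left.1 this

/-- step (b): `R = C_A(X)` is a singular point and `N(R) ≤ M`. -/
theorem singular_point (hG : Cfsg.IsMinSimpleOddOrder G) {M : Subgroup G} (hM : IsCoatom M)
    {E : Subgroup G} (hE : Cfsg.IsComplIn E (Cfsg.sigmaCore M) M) {p : ℕ} [hp : Fact p.Prime]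
    (hpτ : p ∈ Cfsg.tau1 M) {X : Subgroup G} (hXE : X ≤ E) (hX : Nat.card X = p) {t : ℕ}
    [ht : Fact t.Prime] (htτ : t ∈ Cfsg.tau2 M) {A : Subgroup G}
    (hA : A ≤ E ∧ Cfsg.IsElementaryAbelian t A ∧ Nat.card A = t ^ 2)
    (hY : Cfsg.sigmaCore M ⊓ Subgroup.centralizer (X : Set G) ≠ ⊥)
    (hR1 : A ⊓ Subgroup.centralizer (X : Set G) ≠ ⊥) :
    Nat.card ↥(A ⊓ Subgroup.centralizer (X : Set G)) = t ∧
      Cfsg.sigmaCore M ⊓ Subgroup.centralizer (X : Set G) ≤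
        Subgroup.centralizer ((A ⊓ Subgroup.centralizer (X : Set G) : Subgroup G) : Set G) ∧
      Cfsg.sigmaCore M ⊓
        Subgroup.centralizer ((A ⊓ Subgroup.centralizer (X : Set G) : Subgroup G) : Set G) ≠ ⊥ ∧
      Subgroup.normalizer ((A ⊓ Subgroup.centralizer (X : Set G) : Subgroup G) : Set G) ≤ M := by
  have hAX := not_le_centralizer hG hM hE hpτ hXE hX htτ hA hY
  have hRcard := card_inf_centralizer hA.2.2 hAX hR1
  obtain ⟨R, hR⟩ : ∃ R : Subgroup G, R = A ⊓ Subgroup.centralizer (X : Set G) := ⟨_, rfl⟩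
  rw [← hR] at hRcard ⊢
  have hRA : R ≤ A := hR ▸ inf_le_left
  have hRE : R ≤ E ⊓ Subgroup.centralizer (X : Set G) :=
    hR ▸ inf_le_inf_right _ hA.1
  have h134 := Cfsg.Agent.Helper3.BG134.thm134 hG M hM E hE p hpτ X hXE hX R hRE
    (hRcard ▸ ht.out)
  have hYR : Cfsg.sigmaCore M ⊓ Subgroup.centralizer (X : Set G) ≤
      Subgroup.centralizer (R : Set G) := h134.trans inf_le_right
  have hsing : Cfsg.sigmaCore M ⊓ Subgroup.centralizer (R : Set G) ≠ ⊥ := by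
    intro h
    apply hY
    rw [eq_bot_iff, ← h]
    exact h134
  refine ⟨hRcard, hYR, hsing, ?_⟩
  obtain ⟨hCM, huniq⟩ :=
    (Cfsg.Agent.Helper4.BG12.cor126 hG hM htτ hE hA).2.2 R hRA hRcard hsing
  have hR1' : R ≠ ⊥ := hR ▸ hR1
  have hRtop : R ≠ ⊤ := fun h => hM.1 (top_le_iff.1 (h ▸ (hRA.trans (hA.1.trans hE.1))))
  obtain ⟨K, hK, hNK⟩ := exists_coatom_ge (normalizer_ne_top_of_simple hG hR1' hRtop)
  have := huniq K hK ((Subgroup.centralizer_le_normalizer _).trans hNK)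
  exact this ▸ hNK

end Cfsg.Agent.Helper3.BG137
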