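import Mathlib
import Cfsg.Prelude
import Cfsg.Agent.Helper3.BG137c
import Cfsg.Agent.Helper3.BG131a
import Cfsg.Agent.Helper3.BG134a
import Cfsg.Agent.Helper4.BG13d

set_option autoImplicit false
set_option linter.unusedSectionVars false
set_option linter.unusedVariables false

/-!
Bender–Glauberman Theorem 13.7 (`tau12_regular`, "(P6)"): for `p ∈ τ₁(M)`, `X ≤ E` of order `p`
with `C_{M_σ}(X) ≠ 1` and `t ∈ τ₂(M)`, `A ≤ E` elementary abelian of order `t²`: `C_A(X) = 1`.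

Proof (helper1): let `R = C_A(X) ≠ 1`.  By BG 13.4, `R` is a singular point, so `M` is the only
maximal subgroup containing `C(R)`.  Let `L ∈ 𝓜(N(A))`; then `L ≠ M`, `E ≤ L`, `M_σ ∩ L = 1`,
`t ∈ σ(L)`, `A ≤ L_σ`.  As `X` does not centralize `A`, `X ≰ L'` (normal `t`-complement of `L'`),
so `p ∈ τ₁(L) ∪ τ₂(L)`.  If `p ∈ τ₂(L)` then `C(X) ≤ L`, so `C_{M_σ}(X) ≤ M_σ ∩ L = 1`.  If
`p ∈ τ₁(L)` then BG 13.5 for `(L, X, R)` says that `L` is the only maximal subgroup containing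
`C(R)`, so `L = M`.
-/

namespace Cfsg.Agent.Helper3.BG137

open Cfsg Cfsg.Agent.Helper1 Cfsg.Agent.Helper1.BGU
open scoped commutatorElement Pointwise

universe u

variable {G : Type u} [Group G] [Finite G]

/-- **Bender–Glauberman Theorem 13.7** (`tau12_regular`). -/
theorem p6 (hG : Cfsg.IsMinSimpleOddOrder G) {M : Subgroup G} (hM : IsCoatom M)
    {E : Subgroup G} (hE : Cfsg.IsComplIn E (Cfsg.sigmaCore M) M)
    {t : ℕ} [ht : Fact t.Prime] (htτ : t ∈ Cfsg.tau2 M)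
    {A : Subgroup G} (hA : A ≤ E ∧ Cfsg.IsElementaryAbelian t A ∧ Nat.card A = t ^ 2)
    {p : ℕ} [hp : Fact p.Prime] (hpτ : p ∈ Cfsg.tau1 M)
    {X : Subgroup G} (hXE : X ≤ E) (hX : Nat.card X = p)
    (hY : Cfsg.sigmaCore M ⊓ Subgroup.centralizer (X : Set G) ≠ ⊥) :
    A ⊓ Subgroup.centralizer (X : Set G) = ⊥ := by
  by_contra hR1
  obtain ⟨hRcard, hYR, hsing, hNRM⟩ := singular_point hG hM hE hpτ hXE hX htτ hA hY hR1
  have hAX := not_le_centralizer hG hM hE hpτ hXE hX htτ hA hY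
  have c126 := Cfsg.Agent.Helper4.BG12.cor126 hG hM htτ hE hA
  obtain ⟨R, hR⟩ : ∃ R : Subgroup G, R = A ⊓ Subgroup.centralizer (X : Set G) := ⟨_, rfl⟩
  rw [← hR] at hRcard hYR hsing hNRM
  have hRA : R ≤ A := hR ▸ inf_le_left
  have hRX : R ≤ Subgroup.centralizer (X : Set G) := hR ▸ inf_le_right
  obtain ⟨hCRM, hRuniq⟩ := c126.2.2 R hRA hRcard hsing
  have hAM : A ≤ M := hA.1.trans hE.1
  have hAcard := hA.2.2
  have hA1 : A ≠ ⊥ := by
    intro h
    rw [h, Subgroup.card_bot] at hAcard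
    have := Nat.one_lt_pow (n := 2) (by norm_num) ht.out.one_lt
    omega
  have hAtop : A ≠ ⊤ := fun h => hM.1 (top_le_iff.1 (h ▸ hAM))
  obtain ⟨L, hL, hNAL⟩ := exists_coatom_ge (normalizer_ne_top_of_simple hG hA1 hAtop)
  have hLM : L ≠ M := fun h => c126.2.1.2.2 (h ▸ hNAL)
  have hEL : E ≤ L := c126.1.1.trans hNAL
  have hAL : A ≤ L := Subgroup.le_normalizer.trans hNAL
  have hσL : Cfsg.sigmaCore M ⊓ L = ⊥ :=
    (Cfsg.Agent.Helper4.BG12.thm125 hG hM htτ ⟨hAM, hA.2⟩).2.2.2.2.1 L hL hLM hAL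
  have hXL : X ≤ L := hXE.trans hEL
  have hAprimes : ∀ q : ℕ, q.Prime → q ∣ Nat.card A → q = t := by
    intro q hq hqd
    rw [hAcard] at hqd
    exact (Nat.prime_dvd_prime_iff_eq hq ht.out).1 (hq.dvd_of_dvd_pow hqd)
  have hXprimes : ∀ q : ℕ, q.Prime → q ∣ Nat.card X → q = p := by
    intro q hq hqd
    rw [hX] at hqd
    exact (Nat.prime_dvd_prime_iff_eq hq hp.out).1 hqd
  -- `t ∈ σ(L)`
  have htσL : t ∈ Cfsg.sigma L := by
    by_contra htσ
    have hn1 : ¬ Cfsg.PRankLE t 1 ↥L := by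
      refine not_pRankLE_of_hasEA ⟨A, hAL, hA.2.1, ?_⟩
      rw [hAcard]
      exact Nat.pow_lt_pow_right ht.out.one_lt (by norm_num)
    by_cases h2 : Cfsg.PRankLE t 2 ↥L
    · have htτL : t ∈ Cfsg.tau2 L := ⟨ht.out, htσ, h2, hn1⟩
      obtain ⟨EL, hEL', hAEL⟩ :=
        Cfsg.Agent.Helper4.BG10.exists_compl_sigmaCore_ge hG hL hAL (by
          intro q hq hqd
          rw [hAprimes q hq hqd]
          exact htσ)
      exact (Cfsg.Agent.Helper4.BG12.cor126 hG hL htτL hEL' ⟨hAEL, hA.2⟩).2.1.2.2 hNAL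
    · exact htσ (Cfsg.Agent.Helper1.BGX.alpha_subset_sigma hG hL ⟨ht.out, h2⟩)
  have hAσL : A ≤ Cfsg.sigmaCore L :=
    Cfsg.Agent.Helper4.BG12.le_sigmaCore_of_isPi hG hL hAL (by
      intro q hq hqd
      rw [hAprimes q hq hqd]
      exact htσL)
  have hpt : p ≠ t := by
    intro h
    exact htτ.2.2.2 (h ▸ hpτ.2.2.2.2)
  have hAt : IsPGroup t ↥A := IsPGroup.of_card hAcard
  have hpL : p ∣ Nat.card L := hX ▸ Subgroup.card_dvd_of_le hXL
  have hσc := Cfsg.Agent.Helper1.BGX.sigmaCore_le_commutator hG hL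
  -- `X ≰ L'`
  have hXL' : ¬ X ≤ ⁅L, L⁆ := by
    intro hXL'
    have htβ : t ∉ Cfsg.beta L := fun hβ =>
      Cfsg.Agent.Helper3.BG131.false_of_ideal_tau2 hG hM htτ ⟨hAM, hA.2⟩ hβ.2
    have htL : t ∣ Nat.card L := by
      have h1 : t ^ 2 ∣ Nat.card L := hAcard ▸ Subgroup.card_dvd_of_le hAL
      exact (dvd_pow_self t (by norm_num)).trans h1
    have hnpc := ((Cfsg.Agent.S1414.result hG L hL).2.2.2.2 t ht.out htL htβ).1
    apply hAX
    intro a ha
    rw [Subgroup.mem_centralizer_iff]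
    intro x hx
    have hcop : (orderOf x).Coprime t := by
      have h1 : orderOf x ∣ p := by
        rw [← hX]
        exact Subgroup.orderOf_dvd_natCard _ hx
      exact Nat.Coprime.coprime_dvd_left h1 ((Nat.coprime_primes hp.out ht.out).2 hpt)
    exact Cfsg.Agent.Helper4.BG13.commute_of_hasNormalPComplement hnpc (hAσL.trans hσc) hAt
      (hXL' hx) hcop (c126.1.1 (hXE hx)) a ha
  by_cases hpσL : p ∈ Cfsg.sigma L
  · apply hXL'
    have h1 : X ≤ Cfsg.sigmaCore L :=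
      Cfsg.Agent.Helper4.BG12.le_sigmaCore_of_isPi hG hL hXL (by
        intro q hq hqd
        rw [hXprimes q hq hqd]
        exact hpσL)
    exact h1.trans hσc
  have hXp : IsPGroup p ↥X := IsPGroup.of_card (n := 1) (by rw [hX, pow_one])
  by_cases h1 : Cfsg.PRankLE p 1 ↥L
  · by_cases hd : p ∣ Nat.card ↥⁅L, L⁆
    · -- `p ∈ τ₃(L)`
      have hτ3 : p ∈ Cfsg.tau3 L := ⟨hp.out, hpσL, hd, h1⟩
      apply hXL'
      intro x hx
      refine Cfsg.Agent.Helper3.BG134.mem_commutator_of_mem_tau3 hG hτ3 (hXL hx) ?_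
      exact hXp.to_le (Subgroup.zpowers_le.2 hx)
    · -- `p ∈ τ₁(L)`
      have hτ1 : p ∈ Cfsg.tau1 L := ⟨hp.out, hpσL, hpL, hd, h1⟩
      have h := (Cfsg.Agent.Helper4.BG13.cent_tau1_uniq hG hL hτ1 hXL hX (X := R)
        (le_inf (hRA.trans hAσL) hRX) hRcard default).2.1
      exact hLM (hRuniq L hL h.1)
  · by_cases h2 : Cfsg.PRankLE p 2 ↥L
    · -- `p ∈ τ₂(L)`
      have hτ2 : p ∈ Cfsg.tau2 L := ⟨hp.out, hpσL, h2, h1⟩
      have hX1 : X ≠ ⊥ := by
        intro h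
        rw [h, Subgroup.card_bot] at hX
        exact hp.out.one_lt.ne hX
      obtain ⟨⟨x, hxX⟩, hx1'⟩ := (Subgroup.ne_bot_iff_exists_ne_one.1 hX1)
      have hx1 : x ≠ 1 := fun h => hx1' (Subtype.ext h)
      have hR1' : R ≠ ⊥ := hR ▸ hR1
      obtain ⟨⟨y, hyR⟩, hy1'⟩ := (Subgroup.ne_bot_iff_exists_ne_one.1 hR1')
      have hy1 : y ≠ 1 := fun h => hy1' (Subtype.ext h)
      have hord : orderOf x ∣ p := by
        rw [← hX]
        exact Subgroup.orderOf_dvd_natCard _ hxX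
      have hxy : x * y = y * x := Subgroup.mem_centralizer_iff.1 (hRX hyR) x hxX
      have hc := (Cfsg.Agent.Helper4.BG12.centralizer_le_of_tau2_elt hG hL (hXL hxX) hx1 (by
        intro q hq hqd
        rw [(Nat.prime_dvd_prime_iff_eq hq hp.out).1 (hqd.trans hord)]
        exact hτ2) ⟨hXL hxX, y, hAσL (hRA hyR), hy1, hxy⟩).1
      apply hY
      rw [eq_bot_iff, ← hσL]
      refine le_inf inf_le_left ?_
      intro z hz
      apply hc
      rw [Subgroup.mem_centralizer_iff]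
      intro h hh
      rw [Set.mem_singleton_iff] at hh
      subst hh
      exact Subgroup.mem_centralizer_iff.1 (Subgroup.mem_inf.1 hz).2 h hxX
    · exact hpσL (Cfsg.Agent.Helper1.BGX.alpha_subset_sigma hG hL ⟨hp.out, h2⟩)

/-- **Bender–Glauberman Theorem 13.7**, contrapositive form: if `X` centralizes a non-identity
element of `A` then `X` acts regularly on `M_σ`. -/
theorem tau12_regular (hG : Cfsg.IsMinSimpleOddOrder G) {M : Subgroup G} (hM : IsCoatom M)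
    {E : Subgroup G} (hE : Cfsg.IsComplIn E (Cfsg.sigmaCore M) M)
    {p : ℕ} [hp : Fact p.Prime] (hpτ : p ∈ Cfsg.tau1 M)
    {X : Subgroup G} (hXE : X ≤ E) (hX : Nat.card X = p)
    {t : ℕ} [ht : Fact t.Prime] (htτ : t ∈ Cfsg.tau2 M)
    {A : Subgroup G} (hA : A ≤ E ∧ Cfsg.IsElementaryAbelian t A ∧ Nat.card A = t ^ 2)
    (hAX : A ⊓ Subgroup.centralizer (X : Set G) ≠ ⊥) :
    Cfsg.sigmaCore M ⊓ Subgroup.centralizer (X : Set G) = ⊥ := by
  by_contra hY
  exact hAX (p6 hG hM hE htτ hA hpτ hXE hX hY)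

/-- elementwise form of BG 13.7: a non-identity element of `X` commutes with no non-identity
element of `A`. -/
theorem p6_elt (hG : Cfsg.IsMinSimpleOddOrder G) {M : Subgroup G} (hM : IsCoatom M)
    {E : Subgroup G} (hE : Cfsg.IsComplIn E (Cfsg.sigmaCore M) M)
    {t : ℕ} [ht : Fact t.Prime] (htτ : t ∈ Cfsg.tau2 M)
    {A : Subgroup G} (hA : A ≤ E ∧ Cfsg.IsElementaryAbelian t A ∧ Nat.card A = t ^ 2)
    {p : ℕ} [hp : Fact p.Prime] (hpτ : p ∈ Cfsg.tau1 M)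
    {X : Subgroup G} (hXE : X ≤ E) (hX : Nat.card X = p)
    (hY : Cfsg.sigmaCore M ⊓ Subgroup.centralizer (X : Set G) ≠ ⊥)
    {x a : G} (hx : x ∈ X) (hx1 : x ≠ 1) (ha : a ∈ A) (hxa : x * a = a * x) : a = 1 := by
  have hbot := p6 hG hM hE htτ hA hpτ hXE hX hY
  have hXz : X = Subgroup.zpowers x := by
    symm
    apply Subgroup.eq_of_le_of_card_ge (Subgroup.zpowers_le.2 hx)
    rw [Nat.card_zpowers, hX]
    have h1 : orderOf x ∣ p := by
      rw [← hX]
      exact Subgroup.orderOf_dvd_natCard _ hx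
    rcases (Nat.dvd_prime hp.out).1 h1 with h | h
    · exact absurd (orderOf_eq_one_iff.1 h) hx1
    · exact h.ge
  have haC : a ∈ Subgroup.centralizer (X : Set G) := by
    rw [hXz, Subgroup.mem_centralizer_iff]
    intro h hh
    obtain ⟨k, rfl⟩ := Subgroup.mem_zpowers_iff.1 hh
    exact ((Commute.zpow_left (show Commute x a from hxa) k).eq)
  have : a ∈ (⊥ : Subgroup G) := hbot ▸ Subgroup.mem_inf.2 ⟨ha, haC⟩
  exact Subgroup.mem_bot.1 this

end Cfsg.Agent.Helper3.BG137
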