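import Mathlib
import Cfsg.Prelude
import Cfsg.Agent.Helper3.BG137d
import Cfsg.Agent.Helper1.BGT3regC
import Cfsg.Agent.Helper4.BG14K
import Cfsg.Agent.Lead.BG127b

set_option autoImplicit false
set_option linter.unusedSectionVars false
set_option linter.unusedVariables false

/-!
Towards Bender–Glauberman Theorem 14.4 (S1432): a nonregular `τ₃(M)`-subgroup of prime order forces
`τ₂(M) = ∅`; the primes of a `σ(M)'`-element centralizing a non-identity element of `M_σ` lie either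
all in `κ(M)` or all in `τ₂(M)`.
-/

namespace Cfsg.Agent.Helper3.BG144

open Cfsg Cfsg.Agent.Helper1 Cfsg.Agent.Helper1.BGU Cfsg.Agent.Lead.BG12 Cfsg.Agent.Helper4.BG10
  Cfsg.Agent.Helper4.BG12
open scoped commutatorElement Pointwise

universe u

variable {G : Type u} [Group G] [Finite G]

/-- a subgroup of order `k ∈ τ₃(M)` of a complement `E` is normal in `E` -/
theorem compl_le_normalizer_of_tau3 (hG : Cfsg.IsMinSimpleOddOrder G) {M : Subgroup G}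
    (hM : IsCoatom M) {E : Subgroup G} (hE : Cfsg.IsComplIn E (Cfsg.sigmaCore M) M) {k : ℕ}
    [hk : Fact k.Prime] (hkτ : k ∈ Cfsg.tau3 M) {Y : Subgroup G} (hYE : Y ≤ E)
    (hYk : IsPGroup k ↥Y) : E ≤ Subgroup.normalizer (Y : Set G) := by
  have hEM : E ≤ M := hE.1
  obtain ⟨E₃, hE₃⟩ := Cfsg.Agent.Helper1.BGT3reg.exists_hall_tau3 hG hM hEM
  obtain ⟨hE₃c, hE₃E', hEE₃⟩ := (Cfsg.Agent.S1415.result hG M hM E hE).2.2 E₃ hE₃
  have hE₃E : E₃ ≤ E := hE₃.1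
  obtain ⟨P, -, hPE₃, hPp, hPcard₃⟩ :=
    Cfsg.Agent.Lead.exists_le_card_eq_ppart (p := k) (H := E₃) (U := ⊥) IsPGroup.of_bot bot_le
  have hfac₃ : (Nat.card E₃).factorization k = (Nat.card E).factorization k :=
    factorization_eq_of_not_dvd_relIndex hE₃E hk.out (hE₃.2.2 k hk.out hkτ)
  have hPcardE : Nat.card P = k ^ (Nat.card E).factorization k := by rw [hPcard₃, hfac₃]
  have hPE : P ≤ E := hPE₃.trans hE₃E
  have hEP : E ≤ Subgroup.normalizer (P : Set G) :=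
    hEE₃.trans (Cfsg.Agent.Helper1.BGT3reg.normalizer_le_normalizer_of_le_isCyclic hE₃c hPE₃)
  have hYP : Y ≤ P :=
    Cfsg.Agent.Helper1.BGT3reg.le_of_normal_sylow hPE hPp hPcardE hEP hYE hYk
  exact hEE₃.trans (Cfsg.Agent.Helper1.BGT3reg.normalizer_le_normalizer_of_le_isCyclic hE₃c
    (hYP.trans hPE₃))

/-- **(F1)** a nonregular subgroup of order `k ∈ τ₃(M)` forces `τ₂(M) = ∅` -/
theorem false_of_tau3_nonregular_of_tau2 (hG : Cfsg.IsMinSimpleOddOrder G) {M : Subgroup G}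
    (hM : IsCoatom M) {E : Subgroup G} (hE : Cfsg.IsComplIn E (Cfsg.sigmaCore M) M) {k : ℕ}
    [hk : Fact k.Prime] (hkτ : k ∈ Cfsg.tau3 M) {Y : Subgroup G} (hYE : Y ≤ E)
    (hYcard : Nat.card Y = k)
    (hY : Cfsg.sigmaCore M ⊓ Subgroup.centralizer (Y : Set G) ≠ ⊥) {p : ℕ} [hp : Fact p.Prime]
    (hpτ : p ∈ Cfsg.tau2 M) : False := by
  have hYk : IsPGroup k ↥Y := IsPGroup.of_card (n := 1) (by rw [hYcard, pow_one])
  have hEY := compl_le_normalizer_of_tau3 hG hM hE hkτ hYE hYk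
  obtain ⟨A, hA⟩ := Cfsg.Agent.Lead.BG127.exists_elementary_le_compl hG hM hE hpτ
  have c126 := Cfsg.Agent.Helper4.BG12.cor126 hG hM hpτ hE hA
  have hEA : E ≤ Subgroup.normalizer (A : Set G) := c126.1.1
  have hYM : Y ≤ M := hYE.trans hE.1
  have hY1 : Y ≠ ⊥ := by
    intro h
    rw [h, Subgroup.card_bot] at hYcard
    exact hk.out.one_lt.ne hYcard
  have hkM : k ∣ Nat.card M := hYcard ▸ Subgroup.card_dvd_of_le hYM
  have hYtop : Y ≠ ⊤ := fun h => hM.1 (top_le_iff.1 (h ▸ hYM))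
  obtain ⟨H, hH, hNYH⟩ := exists_coatom_ge (normalizer_ne_top_of_simple hG hY1 hYtop)
  have hHM : H ≠ M := by
    intro h
    exact Cfsg.Agent.Helper4.BG13.not_normalizer_le_of_rank_one hG hkτ.2.1 hkM
      hkτ.2.2.2 hYM hYk hY1 (h ▸ hNYH)
  -- `A` centralizes `Y`: `[A, Y] ≤ A ∩ Y = 1`
  have hkp : k ≠ p := by
    intro h
    exact hpτ.2.2.2 (h ▸ hkτ.2.2.2)
  have hAY : A ⊓ Y = ⊥ := by
    apply (Subgroup.disjoint_of_coprime_natCard _).eq_bot
    rw [hA.2.2, hYcard]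
    exact Nat.Coprime.pow_left 2 ((Nat.coprime_primes hp.out hk.out).2 hkp.symm)
  have hAC : A ≤ Subgroup.centralizer (Y : Set G) := by
    intro a ha
    rw [Subgroup.mem_centralizer_iff]
    intro y hy
    have h1 : a * y * a⁻¹ ∈ Y :=
      (Subgroup.mem_normalizer_iff.1 (hEY (hA.1 ha)) y).1 hy
    have h2 : y * a⁻¹ * y⁻¹ ∈ A :=
      (Subgroup.mem_normalizer_iff.1 (hEA (hYE hy)) a⁻¹).1 (A.inv_mem ha)
    have h3 : a * y * a⁻¹ * y⁻¹ ∈ A ⊓ Y := by
      refine Subgroup.mem_inf.2 ⟨?_, Y.mul_mem h1 (Y.inv_mem hy)⟩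
      have : a * y * a⁻¹ * y⁻¹ = a * (y * a⁻¹ * y⁻¹) := by group
      rw [this]
      exact A.mul_mem ha h2
    rw [hAY, Subgroup.mem_bot] at h3
    have : a * y = (a * y * a⁻¹ * y⁻¹) * (y * a) := by group
    rw [this, h3, one_mul]
  have hCYH : Subgroup.centralizer (Y : Set G) ≤ H :=
    (Subgroup.centralizer_le_normalizer _).trans hNYH
  have hbot := (Cfsg.Agent.Helper4.BG12.thm125 hG hM hpτ ⟨hA.1.trans hE.1, hA.2⟩).2.2.2.2.1
    H hH hHM (hAC.trans hCYH)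
  apply hY
  rw [eq_bot_iff, ← hbot]
  exact inf_le_inf_left _ hCYH

end Cfsg.Agent.Helper3.BG144
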