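import Mathlib
import Cfsg.Prelude
import Cfsg.Agent.Helper3.BG144a
import Cfsg.Agent.Helper3.CoprimeHall

set_option autoImplicit false
set_option linter.unusedSectionVars false
set_option linter.unusedVariables false

/-!
Bender–Glauberman Theorem 14.4 (S1432), modulo the facts of Theorem 14.2 about Hall
`κ(M)`-subgroups.
-/

namespace Cfsg.Agent.Helper3.BG144

open Cfsg Cfsg.Agent.Helper1 Cfsg.Agent.Helper1.BGU Cfsg.Agent.Lead.BG12 Cfsg.Agent.Helper4.BG10
  Cfsg.Agent.Helper4.BG12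
open scoped commutatorElement Pointwise

universe u

variable {G : Type u} [Group G] [Finite G]

/-- the type of a prime `p ∉ σ(M)` of an element of `M` centralizing `x ∈ M_σ^#` -/
theorem mem_kappa_or_tau2 (hG : Cfsg.IsMinSimpleOddOrder G) {M : Subgroup G} (hM : IsCoatom M)
    {x : G} (hx : x ∈ Cfsg.sigmaCore M) (hx1 : x ≠ 1) {p : ℕ} [hp : Fact p.Prime]
    (hpσ : p ∉ Cfsg.sigma M) {y : G} (hyM : y ∈ M) (hy : orderOf y = p) (hyx : y * x = x * y) :
    p ∈ Cfsg.kappa M ∨ p ∈ Cfsg.tau2 M := by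
  by_cases h1 : Cfsg.PRankLE p 1 ↥M
  · exact Or.inl (Cfsg.Agent.Helper4.BG14.mem_kappa_of_commute hG hpσ h1 hyM hy hx hx1 hyx)
  · by_cases h2 : Cfsg.PRankLE p 2 ↥M
    · exact Or.inr ⟨hp.out, hpσ, h2, h1⟩
    · exact absurd (Cfsg.Agent.Helper1.BGX.alpha_subset_sigma hG hM ⟨hp.out, h2⟩) hpσ

/-- a `κ(M)`-element and a `τ₂(M)`-element of prime orders, both centralizing `x ∈ M_σ^#`, do not
commute -/
theorem false_of_mixed (hG : Cfsg.IsMinSimpleOddOrder G) {M : Subgroup G} (hM : IsCoatom M)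
    {E : Subgroup G} (hE : Cfsg.IsComplIn E (Cfsg.sigmaCore M) M)
    {x : G} (hx : x ∈ Cfsg.sigmaCore M) (hx1 : x ≠ 1) {k : ℕ} [hk : Fact k.Prime]
    (hkκ : k ∈ Cfsg.kappa M) {p : ℕ} [hp : Fact p.Prime] (hpτ : p ∈ Cfsg.tau2 M) {u v : G}
    (huE : u ∈ E) (hu : orderOf u = k) (hux : u * x = x * u) (hvE : v ∈ E) (hv : orderOf v = p)
    (huv : u * v = v * u) : False := by
  obtain ⟨Y, hYdef⟩ : ∃ Y : Subgroup G, Y = Subgroup.zpowers u := ⟨_, rfl⟩
  have hYE : Y ≤ E := by rw [hYdef]; exact Subgroup.zpowers_le.2 huE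
  have hYcard : Nat.card Y = k := by rw [hYdef, Nat.card_zpowers, hu]
  have hxC : x ∈ Subgroup.centralizer (Y : Set G) := by
    rw [hYdef, Subgroup.mem_centralizer_iff]
    intro h hh
    obtain ⟨j, rfl⟩ := Subgroup.mem_zpowers_iff.1 hh
    exact (Commute.zpow_left (show Commute u x from hux) j).eq
  have hY : Cfsg.sigmaCore M ⊓ Subgroup.centralizer (Y : Set G) ≠ ⊥ := by
    intro h
    have : x ∈ (⊥ : Subgroup G) := h ▸ Subgroup.mem_inf.2 ⟨hx, hxC⟩
    exact hx1 (Subgroup.mem_bot.1 this)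
  by_cases hkτ1 : k ∈ Cfsg.tau1 M
  · obtain ⟨A, hA⟩ := Cfsg.Agent.Lead.BG127.exists_elementary_le_compl hG hM hE hpτ
    have c126 := Cfsg.Agent.Helper4.BG12.cor126 hG hM hpτ hE hA
    have hvA : v ∈ A := by
      have h1 : Subgroup.zpowers v ≤ A :=
        c126.1.2 (Subgroup.zpowers v) (Subgroup.zpowers_le.2 hvE) (by rw [Nat.card_zpowers, hv])
      exact h1 (Subgroup.mem_zpowers v)
    have hbot := Cfsg.Agent.Helper3.BG137.p6 hG hM hE hpτ hA hkτ1 hYE hYcard hY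
    have hvC : v ∈ Subgroup.centralizer (Y : Set G) := by
      rw [hYdef, Subgroup.mem_centralizer_iff]
      intro h hh
      obtain ⟨j, rfl⟩ := Subgroup.mem_zpowers_iff.1 hh
      exact (Commute.zpow_left (show Commute u v from huv) j).eq
    have : v ∈ (⊥ : Subgroup G) := hbot ▸ Subgroup.mem_inf.2 ⟨hvA, hvC⟩
    have hv1 : v = 1 := Subgroup.mem_bot.1 this
    rw [hv1, orderOf_one] at hv
    exact hp.out.one_lt.ne hv
  · have hk1 : Cfsg.PRankLE k 1 ↥M := Cfsg.Agent.Helper4.BG14.pRankLE_one_of_mem_kappa hkκ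
    have hkτ3 : k ∈ Cfsg.tau3 M := by
      refine ⟨hk.out, hkκ.2.2.1, ?_, hk1⟩
      by_contra h
      exact hkτ1 ⟨hk.out, hkκ.2.2.1, hkκ.2.1, h, hk1⟩
    exact false_of_tau3_nonregular_of_tau2 hG hM hE hkτ3 hYE hYcard hY hpτ

/-- the prime-order power of `x'` for a prime divisor of its order -/
theorem exists_pow_orderOf_eq {x' : G} {p : ℕ} (hp : p.Prime) (hpd : p ∣ orderOf x') :
    ∃ j : ℕ, orderOf (x' ^ j) = p := by
  refine ⟨orderOf x' / p, ?_⟩
  have h0 : orderOf x' ≠ 0 := (orderOf_pos x').ne'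
  exact orderOf_pow_orderOf_div h0 hpd

/-- **Bender–Glauberman Theorem 14.4**, modulo the prime action and the TI-property of `K*` for
Hall `κ(M)`-subgroups `K` (BG 14.2). -/
theorem thm144 (hG : Cfsg.IsMinSimpleOddOrder G) {M : Subgroup G} (hM : IsCoatom M)
    (hK : ∀ K : Subgroup G, Cfsg.IsPiHallOf (Cfsg.kappa M) K M → K ≠ ⊥ →
      (∀ k ∈ K, k ≠ 1 → Cfsg.sigmaCore M ⊓ Subgroup.centralizer ({k} : Set G) =
        Cfsg.sigmaCore M ⊓ Subgroup.centralizer (K : Set G)) ∧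
      ∀ g : G, g ∉ M → (Cfsg.sigmaCore M ⊓ Subgroup.centralizer (K : Set G)) ⊓
        M.map (MulAut.conj g).toMonoidHom = ⊥)
    {x : G} (hx : x ∈ Cfsg.sigmaCore M) (hx1 : x ≠ 1) {x' : G}
    (hx' : x' ∈ M ⊓ Subgroup.centralizer ({x} : Set G)) (hx'1 : x' ≠ 1)
    (hσ : ∀ p : ℕ, p.Prime → p ∣ orderOf x' → p ∉ Cfsg.sigma M) :
    ((∀ p : ℕ, p.Prime → p ∣ orderOf x' → p ∈ Cfsg.kappa M) ∧
        Subgroup.centralizer ({x} : Set G) ≤ M) ∨
      ((∀ p : ℕ, p.Prime → p ∣ orderOf x' → p ∈ Cfsg.tau2 M) ∧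
        (∃ L : Subgroup G, IsCoatom L ∧ ∀ p : ℕ, p.Prime → p ∣ orderOf x' → p ∈ Cfsg.sigma L) ∧
        (Subgroup.centralizer ({x'} : Set G) ≤ M ∧ ∀ L : Subgroup G, IsCoatom L →
          Subgroup.centralizer ({x'} : Set G) ≤ L → L = M)) := by
  obtain ⟨hx'M, hx'C⟩ := Subgroup.mem_inf.1 hx'
  have hx'x : x' * x = x * x' := by
    have := Subgroup.mem_centralizer_iff.1 hx'C x (Set.mem_singleton x)
    exact this.symm
  -- the complement `E ∋ x'`
  have hZM : Subgroup.zpowers x' ≤ M := Subgroup.zpowers_le.2 hx'M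
  have hZσ : ∀ t : ℕ, t.Prime → t ∣ Nat.card (Subgroup.zpowers x') → t ∉ Cfsg.sigma M := by
    intro t ht hd
    rw [Nat.card_zpowers] at hd
    exact hσ t ht hd
  obtain ⟨E, hE, hZE⟩ := Cfsg.Agent.Helper4.BG10.exists_compl_sigmaCore_ge hG hM hZM hZσ
  have hx'E : x' ∈ E := hZE (Subgroup.mem_zpowers x')
  -- type of each prime
  have htype : ∀ p : ℕ, p.Prime → p ∣ orderOf x' → p ∈ Cfsg.kappa M ∨ p ∈ Cfsg.tau2 M := by
    intro p hp hpd
    haveI : Fact p.Prime := ⟨hp⟩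
    obtain ⟨j, hj⟩ := exists_pow_orderOf_eq hp hpd
    exact mem_kappa_or_tau2 hG hM hx hx1 (hσ p hp hpd) (M.pow_mem hx'M j) hj
      (Commute.pow_left (show Commute x' x from hx'x) j).eq
  have hdisj : ∀ p : ℕ, p ∈ Cfsg.kappa M → p ∈ Cfsg.tau2 M → False := by
    intro p hκ hτ
    haveI : Fact p.Prime := ⟨hκ.1⟩
    exact hτ.2.2.2 (Cfsg.Agent.Helper4.BG14.pRankLE_one_of_mem_kappa hκ)
  -- no mixing
  have hmix : ∀ k : ℕ, k.Prime → k ∣ orderOf x' → k ∈ Cfsg.kappa M →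
      ∀ p : ℕ, p.Prime → p ∣ orderOf x' → p ∈ Cfsg.tau2 M → False := by
    intro k hk hkd hkκ p hp hpd hpτ
    haveI : Fact k.Prime := ⟨hk⟩
    haveI : Fact p.Prime := ⟨hp⟩
    obtain ⟨j, hj⟩ := exists_pow_orderOf_eq hk hkd
    obtain ⟨i, hi⟩ := exists_pow_orderOf_eq hp hpd
    exact false_of_mixed hG hM hE hx hx1 hkκ hpτ (E.pow_mem hx'E j) hj
      (Commute.pow_left (show Commute x' x from hx'x) j).eq (E.pow_mem hx'E i) hi
      ((Commute.refl x').pow_pow j i).eq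
  -- a prime divisor of `o(x')`
  have hord1 : orderOf x' ≠ 1 := by
    rw [Ne, orderOf_eq_one_iff]; exact hx'1
  obtain ⟨q, hq, hqd⟩ := Nat.exists_prime_and_dvd hord1
  haveI : Fact q.Prime := ⟨hq⟩
  obtain ⟨j, hj⟩ := exists_pow_orderOf_eq hq hqd
  obtain ⟨y, hydef⟩ : ∃ y : G, y = x' ^ j := ⟨_, rfl⟩
  rw [← hydef] at hj
  have hyM : y ∈ M := hydef ▸ M.pow_mem hx'M j
  have hyE : y ∈ E := hydef ▸ E.pow_mem hx'E j
  have hyx : y * x = x * y := hydef ▸ (Commute.pow_left (show Commute x' x from hx'x) j).eq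
  have hy1 : y ≠ 1 := by
    intro h
    rw [h, orderOf_one] at hj
    exact hq.one_lt.ne hj
  rcases htype q hq hqd with hqκ | hqτ
  · -- all primes in `κ(M)`
    left
    refine ⟨fun p hp hpd => ?_, ?_⟩
    · rcases htype p hp hpd with h | h
      · exact h
      · exact absurd (hmix q hq hqd hqκ p hp hpd h) id
    · -- a Hall `κ(M)`-subgroup containing `y`
      haveI hsolv : Group.IsSolvable ↥M := hG.2.2.2 M hM.1
      obtain ⟨m, n, hd⟩ := Cfsg.Agent.Helper3.exists_piDecomp (Cfsg.kappa M) (Nat.card M)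
        Nat.card_pos.ne'
      have hYM : Subgroup.zpowers y ≤ M := Subgroup.zpowers_le.2 hyM
      have hYcop : (Nat.card (Subgroup.zpowers y)).Coprime n := by
        rw [Nat.card_zpowers, hj, Nat.Prime.coprime_iff_not_dvd hq]
        intro hqn
        exact hd.right q hq hqn hqκ
      obtain ⟨K, hKM, hKcard, hYK⟩ :=
        (Cfsg.Agent.Helper3.hall_internal M hsolv hd).2 _ hYM hYcop
      have hKhall : Cfsg.IsPiHallOf (Cfsg.kappa M) K M :=
        (Cfsg.Agent.Helper3.isPiHallOf_iff_card hd).2 ⟨hKM, hKcard⟩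
      have hyK : y ∈ K := hYK (Subgroup.mem_zpowers y)
      have hK1 : K ≠ ⊥ := by
        intro h
        rw [h, Subgroup.mem_bot] at hyK
        exact hy1 hyK
      obtain ⟨hprime, hTI⟩ := hK K hKhall hK1
      have hxK : x ∈ Cfsg.sigmaCore M ⊓ Subgroup.centralizer (K : Set G) := by
        rw [← hprime y hyK hy1]
        refine Subgroup.mem_inf.2 ⟨hx, ?_⟩
        rw [Subgroup.mem_centralizer_iff]
        intro h hh
        rw [Set.mem_singleton_iff] at hh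
        rw [hh]
        exact hyx
      intro c hc
      by_contra hcM
      have hcx : c * x * c⁻¹ = x := by
        have := Subgroup.mem_centralizer_iff.1 hc x (Set.mem_singleton x)
        rw [← this]; group
      have hxmap : x ∈ M.map (MulAut.conj c).toMonoidHom := by
        refine Subgroup.mem_map.2 ⟨x, Cfsg.Agent.Lead.BG12.sigmaCore_le hx, ?_⟩
        simpa using hcx
      have : x ∈ (⊥ : Subgroup G) := hTI c hcM ▸ Subgroup.mem_inf.2 ⟨hxK, hxmap⟩
      exact hx1 (Subgroup.mem_bot.1 this)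
  · -- all primes in `τ₂(M)`
    right
    have hall : ∀ p : ℕ, p.Prime → p ∣ orderOf x' → p ∈ Cfsg.tau2 M := by
      intro p hp hpd
      rcases htype p hp hpd with h | h
      · exact absurd (hmix p hp hpd h q hq hqd hqτ) id
      · exact h
    have hx'σ : x' ∈ Cfsg.sigmaHat M := ⟨hx'M, x, hx, hx1, hx'x⟩
    refine ⟨hall, ?_,
      Cfsg.Agent.Helper4.BG12.centralizer_le_of_tau2_elt hG hM hx'M hx'1 hall hx'σ⟩
    -- the maximal subgroup `L ≥ N(A_q)`
    obtain ⟨A, hA⟩ := Cfsg.Agent.Lead.BG127.exists_elementary_le_compl hG hM hE hqτ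
    have c126 := Cfsg.Agent.Helper4.BG12.cor126 hG hM hqτ hE hA
    have hAM : A ≤ M := hA.1.trans hE.1
    have hAcard := hA.2.2
    have hA1 : A ≠ ⊥ := by
      intro h
      rw [h, Subgroup.card_bot] at hAcard
      have := Nat.one_lt_pow (n := 2) (by norm_num) hq.one_lt
      omega
    have hAtop : A ≠ ⊤ := fun h => hM.1 (top_le_iff.1 (h ▸ hAM))
    obtain ⟨L, hL, hNAL⟩ := exists_coatom_ge (normalizer_ne_top_of_simple hG hA1 hAtop)
    obtain ⟨hLM, hqσL⟩ :=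
      Cfsg.Agent.Helper4.BG14.mem_sigma_of_normalizer_ea_le hG hM hL hqτ hE hA hNAL
    have hEL : E ≤ L := c126.1.1.trans hNAL
    refine ⟨L, hL, ?_⟩
    intro r hr hrd
    haveI : Fact r.Prime := ⟨hr⟩
    by_cases hrq : r = q
    · rw [hrq]; exact hqσL
    by_contra hrσL
    have hrτ := hall r hr hrd
    obtain ⟨i, hi⟩ := exists_pow_orderOf_eq hr hrd
    obtain ⟨v, hvdef⟩ : ∃ v : G, v = x' ^ i := ⟨_, rfl⟩
    rw [← hvdef] at hi
    have hvE : v ∈ E := hvdef ▸ E.pow_mem hx'E i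
    have hvM : v ∈ M := hE.1 hvE
    have hvx : v * x = x * v := hvdef ▸ (Commute.pow_left (show Commute x' x from hx'x) i).eq
    have hvy : v * y = y * v := by
      rw [hvdef, hydef]; exact ((Commute.refl x').pow_pow i j).eq
    have hv1 : v ≠ 1 := by
      intro h
      rw [h, orderOf_one] at hi
      exact hr.one_lt.ne hi
    have hvprimes : ∀ p : ℕ, p.Prime → p ∣ orderOf v → p = r := by
      intro p hp hpd
      rw [hi] at hpd
      exact (Nat.prime_dvd_prime_iff_eq hp hr).1 hpd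
    -- `r ∈ τ₂(L)`
    have hrτL : r ∈ Cfsg.tau2 L := by
      obtain ⟨B, hB⟩ := Cfsg.Agent.Lead.BG127.exists_elementary_le_compl hG hM hE hrτ
      have hn1 : ¬ Cfsg.PRankLE r 1 ↥L := by
        refine not_pRankLE_of_hasEA ⟨B, hB.1.trans hEL, hB.2.1, ?_⟩
        rw [hB.2.2]
        exact Nat.pow_lt_pow_right hr.one_lt (by norm_num)
      by_cases h2 : Cfsg.PRankLE r 2 ↥L
      · exact ⟨hr, hrσL, h2, hn1⟩
      · exact absurd (Cfsg.Agent.Helper1.BGX.alpha_subset_sigma hG hL ⟨hr, h2⟩) hrσL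
    -- `v` is singular in `L` and in `M`
    have hyσL : y ∈ Cfsg.sigmaCore L := by
      have h1 : Subgroup.zpowers y ≤ Cfsg.sigmaCore L :=
        Cfsg.Agent.Helper4.BG12.le_sigmaCore_of_isPi hG hL
          (Subgroup.zpowers_le.2 (hEL hyE)) (by
            intro t ht htd
            rw [Nat.card_zpowers, hj] at htd
            rw [(Nat.prime_dvd_prime_iff_eq ht hq).1 htd]
            exact hqσL)
      exact h1 (Subgroup.mem_zpowers y)
    have h1 := (Cfsg.Agent.Helper4.BG12.centralizer_le_of_tau2_elt hG hL (hEL hvE) hv1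
      (fun p hp hpd => (hvprimes p hp hpd) ▸ hrτL) ⟨hEL hvE, y, hyσL, hy1, hvy⟩)
    have h2 := (Cfsg.Agent.Helper4.BG12.centralizer_le_of_tau2_elt hG hM hvM hv1
      (fun p hp hpd => (hvprimes p hp hpd) ▸ hrτ) ⟨hvM, x, hx, hx1, hvx⟩)
    exact hLM (h2.2 L hL h1.1)

end Cfsg.Agent.Helper3.BG144
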