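import Mathlib
import Cfsg.Prelude
import Cfsg.Agent.Lead.BG127h
import Cfsg.Agent.Helper1.BG116e
import Cfsg.Agent.Helper3.BGAlpha
import Cfsg.Agent.Helper3.BG144b
import Cfsg.Agent.Helper4.BG12f
import Cfsg.Agent.Helper4.BG13a
import Cfsg.Agent.Helper1.BGXh
import Cfsg.Agent.Lead.T36Final
import Cfsg.Agent.Helper2.T36b
import Cfsg.Agent.Helper3.IrrCyclic
import Cfsg.Agent.Helper3.BG142a
import Cfsg.Agent.Helper1.Card

set_option autoImplicit false
set_option linter.unusedSectionVars false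
set_option linter.unusedVariables false

namespace Cfsg.Agent.Helper3.BG1211

open Cfsg Cfsg.Agent.Lead.BG127

universe u

variable {G : Type u} [Group G] [Finite G]

/-- (N1) nonabelian Sylow case: a `p`-element of `E` commuting with a nonidentity element of
`M_σ` lies in `A ∩ C(M_σ)`. -/
theorem mem_of_commute_of_nonabelian (hG : Cfsg.IsMinSimpleOddOrder G) {M : Subgroup G}
    (hM : IsCoatom M) {E : Subgroup G} (hE : Cfsg.IsComplIn E (Cfsg.sigmaCore M) M) {p : ℕ}
    [hp : Fact p.Prime] (hpτ : p ∈ Cfsg.tau2 M)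
    (hS : ∀ S : Sylow p G, ¬ IsMulCommutative ((S : Subgroup G)))
    {A : Subgroup G} (hA : A ≤ E ∧ Cfsg.IsElementaryAbelian p A ∧ Nat.card A = p ^ 2)
    {t : G} (htE : t ∈ E) (htp : IsPGroup p ↥(Subgroup.zpowers t))
    {x : G} (hx : x ∈ Cfsg.sigmaCore M) (hx1 : x ≠ 1) (htx : t * x = x * t) :
    t ∈ A ⊓ Subgroup.centralizer ((Cfsg.sigmaCore M : Subgroup G) : Set G) := by
  have c : Ctx M E p A := ⟨hG, Cfsg.Agent.Helper1.BG116.hypD, Cfsg.Agent.Helper3.BGAlpha.hypAlpha hG,
    hM, hE, hpτ, hA.1, hA.2.1, hA.2.2⟩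
  have h126 := c.c126
  have hEA : E ≤ Subgroup.normalizer (A : Set G) := h126.1.1
  have hP₀ : IsPGroup p ↥(Subgroup.zpowers t ⊔ A) :=
    htp.to_sup_of_normal_right' c.isPGroup ((Subgroup.zpowers_le.2 htE).trans hEA)
  obtain ⟨S, Z₀, Y, x₀, hP₀S, b⟩ := c.exists_big hS hP₀ le_sup_right
  have htS : t ∈ S := hP₀S (le_sup_left (a := Subgroup.zpowers t) (Subgroup.mem_zpowers t))
  have htM : t ∈ M := hE.1 htE
  have htCA : t ∈ Subgroup.centralizer (A : Set G) := by
    rw [Subgroup.mem_centralizer_iff]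
    intro a ha
    exact (b.commute_of_mem htS htM ha).symm
  obtain ⟨hd1, hd2⟩ := b.hdec x₀ b.hx₀ b.x₀_not_mem
  have htsup : t ∈ Subgroup.zpowers x₀ ⊔ Y := by
    rw [hd2]; exact Subgroup.mem_inf.2 ⟨htS, htCA⟩
  have hYCA : Y ≤ Subgroup.centralizer (A : Set G) := by
    have : Y ≤ S ⊓ Subgroup.centralizer (A : Set G) := by rw [← hd2]; exact le_sup_right
    exact this.trans inf_le_right
  have hYN : Y ≤ Subgroup.normalizer ((Subgroup.zpowers x₀ : Subgroup G) : Set G) := by
    intro y hy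
    have hyx : y * x₀ = x₀ * y := (Subgroup.mem_centralizer_iff.1 (hYCA hy) x₀ b.hx₀).symm
    rw [Subgroup.mem_normalizer_iff]
    intro h
    have : y * h * y⁻¹ = h ∨ True := Or.inr trivial
    constructor
    · intro hh
      obtain ⟨k, rfl⟩ := hh
      have : y * x₀ ^ k * y⁻¹ = x₀ ^ k := by
        have hc : Commute y x₀ := hyx
        rw [(hc.zpow_right k).eq, mul_inv_cancel_right]
      rw [this]; exact ⟨k, rfl⟩
    · intro hh
      obtain ⟨k, hk⟩ := hh
      have hc : Commute y x₀ := hyx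
      have : h = x₀ ^ k := by
        have h2 : y⁻¹ * (y * h * y⁻¹) * y = h := by group
        rw [← h2, ← hk]
        have hc' : Commute y⁻¹ (x₀ ^ k) := (hc.zpow_right k).inv_left
        rw [hc'.eq]; group
      rw [this]; exact ⟨k, rfl⟩
  obtain ⟨a, ha, y, hy, hta⟩ := Cfsg.Agent.Helper1.mem_sup_of_le_normalizer hYN htsup
  have haA : a ∈ A := by
    obtain ⟨k, rfl⟩ := ha
    exact A.zpow_mem b.hx₀ k
  have hay : Commute a y := (Subgroup.mem_centralizer_iff.1 (hYCA hy) a haA)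
  have hap : a ^ p = 1 := hA.2.1.2 a haA
  have htpow : t ^ p = y ^ p := by
    rw [hta, hay.mul_pow, hap, one_mul]
  have hYp : IsPGroup p ↥Y := b.hSp.to_le b.hYS
  by_cases ht1 : t ^ p = 1
  · -- `t ∈ A`
    have htA : t ∈ A := c.mem_of_pow_eq_one hP₀
      (sup_le ((Subgroup.zpowers_le.2 htE).trans hE.1) c.leM) le_sup_right
      (le_sup_left (a := Subgroup.zpowers t) (Subgroup.mem_zpowers t)) ht1
    by_cases ht0 : t = 1
    · rw [ht0]; exact Subgroup.one_mem _
    have heq : Subgroup.zpowers t = Subgroup.zpowers x₀ := by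
      by_contra hne
      have h0 := b.uniq htA ht0 hne
      have hxC : x ∈ Cfsg.sigmaCore M ⊓
          Subgroup.centralizer ((Subgroup.zpowers t : Subgroup G) : Set G) := by
        refine Subgroup.mem_inf.2 ⟨hx, ?_⟩
        rw [Subgroup.mem_centralizer_iff]
        intro z hz
        obtain ⟨k, rfl⟩ := hz
        have hc : Commute t x := htx
        exact (hc.zpow_left k).eq
      rw [h0, Subgroup.mem_bot] at hxC
      exact hx1 hxC
    rw [b.inf_eq, ← heq]
    exact Subgroup.mem_zpowers t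
  · exfalso
    have hyp1 : y ^ p ≠ 1 := by rw [← htpow]; exact ht1
    obtain ⟨m, hm, hm1⟩ := exists_pow_mem_of_isCyclic b.hYc hYp b.hZY b.hZcard (Y.pow_mem hy p) hyp1
    have hZ := b.zpowers_eq_Z hm hm1
    have hxC : x ∈ Cfsg.sigmaCore M ⊓ Subgroup.centralizer (Z₀ : Set G) := by
      refine Subgroup.mem_inf.2 ⟨hx, ?_⟩
      rw [← hZ, Subgroup.mem_centralizer_iff]
      intro z hz
      obtain ⟨k, rfl⟩ := hz
      have hc : Commute t x := htx
      rw [← htpow]
      exact (((hc.pow_left p).pow_left m).zpow_left k).eq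
    rw [b.Z_regular, Subgroup.mem_bot] at hxC
    exact hx1 hxC

/-- a subgroup `T ≤ N` of order `t ^ v_t(|E|)` bounds the `t`-part -/
theorem factorization_le_of_subgroup {E N T : Subgroup G} {t : ℕ} (ht : t.Prime) (hTN : T ≤ N)
    (hT : Nat.card T = t ^ (Nat.card E).factorization t) :
    (Nat.card E).factorization t ≤ (Nat.card N).factorization t := by
  have h1 : t ^ (Nat.card E).factorization t ∣ Nat.card N := by
    rw [← hT]; exact Subgroup.card_dvd_of_le hTN
  exact (ht.pow_dvd_iff_le_factorization Nat.card_pos.ne').1 h1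

/-- (L2), the key step. -/
theorem factorization_le_inf_normalizer (hG : Cfsg.IsMinSimpleOddOrder G) {M : Subgroup G}
    (hM : IsCoatom M) {E : Subgroup G} (hE : Cfsg.IsComplIn E (Cfsg.sigmaCore M) M) {p : ℕ}
    [hp : Fact p.Prime] (hpτ : p ∈ Cfsg.tau2 M)
    {A : Subgroup G} (hA : A ≤ E ∧ Cfsg.IsElementaryAbelian p A ∧ Nat.card A = p ^ 2)
    (P : Sylow p G) (hAP : A ≤ (P : Subgroup G)) (hPE : (P : Subgroup G) ≤ E)
    (hPab : ∀ a ∈ (P : Subgroup G), ∀ b ∈ (P : Subgroup G), a * b = b * a)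
    {t : ℕ} (ht : t.Prime) :
    (Nat.card E).factorization t ≤
      (Nat.card ↥(E ⊓ Subgroup.normalizer ((P : Subgroup G) : Set G))).factorization t := by
  haveI : Fact t.Prime := ⟨ht⟩
  have c : Ctx M E p A := ⟨hG, Cfsg.Agent.Helper1.BG116.hypD, Cfsg.Agent.Helper3.BGAlpha.hypAlpha hG,
    hM, hE, hpτ, hA.1, hA.2.1, hA.2.2⟩
  have h126 := c.c126
  have hEA : E ≤ Subgroup.normalizer (A : Set G) := h126.1.1
  have hCAE : Subgroup.centralizer (A : Set G) ≤ E := by
    have := h126.2.1.1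
    rwa [h126.2.1.2.1] at this
  have hEM : E ≤ M := hE.1
  have hPcardG : Nat.card (P : Subgroup G) = p ^ (Nat.card G).factorization p :=
    P.card_eq_multiplicity
  have hPcardE : Nat.card (P : Subgroup G) = p ^ (Nat.card E).factorization p := by
    apply Cfsg.Agent.Lead.card_eq_ppart_of_le hPE (le_top : E ≤ ⊤) P.2
    rw [Subgroup.card_top]; exact hPcardG
  by_cases htp : t = p
  · subst htp
    exact factorization_le_of_subgroup ht (le_inf hPE Subgroup.le_normalizer) hPcardE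
  by_cases hr1 : Cfsg.PRankLE t 1 ↥M
  swap
  · -- `t ∈ τ₂(M)`
    by_cases htE : t ∣ Nat.card E
    swap
    · rw [Nat.factorization_eq_zero_of_not_dvd htE]; exact Nat.zero_le _
    have htσ : t ∉ Cfsg.sigma M :=
      Cfsg.Agent.Helper4.BG12.not_mem_sigma_of_dvd_card_compl hG hM hE ht htE
    have htτ : t ∈ Cfsg.tau2 M :=
      ⟨ht, htσ, Cfsg.Agent.Lead.BG12.pRankLE_of_not_mem_sigma hG hM ht htσ, hr1⟩
    obtain ⟨P', Q, hP'E, hQE, hP'Q⟩ :=
      Cfsg.Agent.Helper4.BG12.exists_sylow_commuting hG hM hE hpτ htτ (Ne.symm htp)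
    obtain ⟨e, heE, heP⟩ :=
      Cfsg.Agent.Lead.exists_conj_le_of_card_eq_ppart hPE hPcardE hP'E P'.2
    have heq : (P' : Subgroup G).map (MulAut.conj e).toMonoidHom = (P : Subgroup G) := by
      apply Subgroup.eq_of_le_of_card_ge heP
      rw [Cfsg.Agent.Lead.card_map_conj, hPcardG, P'.card_eq_multiplicity]
    have hQcardE : Nat.card (Q : Subgroup G) = t ^ (Nat.card E).factorization t := by
      apply Cfsg.Agent.Lead.card_eq_ppart_of_le hQE (le_top : E ≤ ⊤) Q.2
      rw [Subgroup.card_top]; exact Q.card_eq_multiplicity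
    refine factorization_le_of_subgroup (T := (Q : Subgroup G).map (MulAut.conj e).toMonoidHom)
      ht ?_ (by rw [Cfsg.Agent.Lead.card_map_conj, hQcardE])
    rintro _ ⟨q, hq, rfl⟩
    refine Subgroup.mem_inf.2 ⟨?_, ?_⟩
    · exact E.mul_mem (E.mul_mem heE (hQE hq)) (E.inv_mem heE)
    · apply Subgroup.centralizer_le_normalizer
      rw [Subgroup.mem_centralizer_iff]
      intro g hg
      rw [← heq] at hg
      obtain ⟨g', hg', rfl⟩ := hg
      have := Subgroup.mem_centralizer_iff.1 (hP'Q hg') q hq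
      simp only [MulEquiv.coe_toMonoidHom, MulAut.conj_apply]
      calc e * g' * e⁻¹ * (e * q * e⁻¹) = e * (g' * q) * e⁻¹ := by group
        _ = e * (q * g') * e⁻¹ := by rw [← this]
        _ = e * q * e⁻¹ * (e * g' * e⁻¹) := by group
  by_cases htE' : t ∣ Nat.card ↥⁅E, E⁆
  · -- `t ∈ τ₃(M)`
    have htE : t ∣ Nat.card E :=
      htE'.trans (Subgroup.card_dvd_of_le (Subgroup.commutator_le_self E))
    have htσ : t ∉ Cfsg.sigma M :=
      Cfsg.Agent.Helper4.BG12.not_mem_sigma_of_dvd_card_compl hG hM hE ht htE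
    have htτ : t ∈ Cfsg.tau3 M :=
      ⟨ht, htσ, htE'.trans (Subgroup.card_dvd_of_le (Subgroup.commutator_mono hEM hEM)), hr1⟩
    obtain ⟨R, -, hRE, hRt, hRcard⟩ :=
      Cfsg.Agent.Lead.exists_le_card_eq_ppart (p := t) (H := E) (U := ⊥) IsPGroup.of_bot bot_le
    have hER : E ≤ Subgroup.normalizer (R : Set G) :=
      Cfsg.Agent.Helper3.BG144.compl_le_normalizer_of_tau3 hG hM hE htτ hRE hRt
    have hRc : IsCyclic ↥R :=
      Cfsg.Agent.Lead.BG12.isCyclic_of_pRankLE_one hG.1 hr1 (hRE.trans hEM) hRt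
    have hAR : A ⊓ R = ⊥ := by
      apply (Subgroup.disjoint_of_coprime_natCard _).eq_bot
      rw [hA.2.2, hRcard]
      exact Nat.Coprime.pow _ _ ((Nat.coprime_primes hp.out ht).2 (Ne.symm htp))
    have hRCA : R ≤ Subgroup.centralizer (A : Set G) := by
      intro r hr
      rw [Subgroup.mem_centralizer_iff]
      intro a ha
      exact Cfsg.Agent.Helper1.BGV.commute_of_normalize_of_disjoint (hA.1.trans hER)
        (hRE.trans hEA) hAR ha hr
    have hNAR : Subgroup.normalizer (A : Set G) ≤ Subgroup.normalizer (R : Set G) := by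
      intro g hg
      apply Cfsg.Agent.Helper3.IrrCyclic.mem_normalizer_of_conj_le
      have hle : R.map (MulAut.conj g).toMonoidHom ≤ R := by
        apply Cfsg.Agent.Helper1.BGT3reg.le_of_normal_sylow hRE hRt hRcard hER _ (hRt.map _)
        rintro _ ⟨r, hr, rfl⟩
        apply hCAE
        rw [Subgroup.mem_centralizer_iff]
        intro a ha
        have ha' : g⁻¹ * a * g ∈ A := by
          have := (Subgroup.mem_normalizer_iff.1 (Subgroup.inv_mem _ hg) a).1 ha
          simpa using this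
        have h1 := Subgroup.mem_centralizer_iff.1 (hRCA hr) _ ha'
        simp only [MulEquiv.coe_toMonoidHom, MulAut.conj_apply]
        calc a * (g * r * g⁻¹) = g * (g⁻¹ * a * g * r) * g⁻¹ := by group
          _ = g * (r * (g⁻¹ * a * g)) * g⁻¹ := by rw [h1]
          _ = g * r * g⁻¹ * a := by group
      intro b hb
      exact hle ⟨b, hb, rfl⟩
    have hNPA : Subgroup.normalizer ((P : Subgroup G) : Set G) ≤ Subgroup.normalizer (A : Set G) := by
      intro g hg
      apply Cfsg.Agent.Helper3.IrrCyclic.mem_normalizer_of_conj_le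
      intro a ha
      have h1 : g * a * g⁻¹ ∈ (P : Subgroup G) :=
        (Subgroup.mem_normalizer_iff.1 hg a).1 (hAP ha)
      apply c.mem_of_pow_eq_one P.2 (hPE.trans hEM) hAP h1
      rw [conj_pow, hA.2.1.2 a ha, mul_one, mul_inv_cancel]
    have hP1 : (P : Subgroup G) ≠ ⊥ := by
      intro h
      apply c.ne_bot
      exact le_bot_iff.1 (h ▸ hAP)
    obtain ⟨M', c'⟩ := Cfsg.Agent.Helper1.BGX.exists_sigCtx_of_sylow hG P hP1
    have h4 := c'.le_commutator_normalizer (Cfsg.Agent.Lead.T36Red.pl1_holds hG)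
    have h5 := Cfsg.Agent.Helper2.T36.commutator_le_centralizer_of_isCyclic R
      (Subgroup.normalizer (A : Set G)) hRc hNAR
    have hPCR : (P : Subgroup G) ≤ Subgroup.centralizer (R : Set G) :=
      (h4.trans (Subgroup.commutator_mono hNPA hNPA)).trans h5
    refine factorization_le_of_subgroup (T := R) ht ?_ hRcard
    refine le_inf hRE ?_
    refine le_trans ?_ (Subgroup.centralizer_le_normalizer _)
    exact Subgroup.le_centralizer_iff.1 hPCR
  · -- Frattini
    have hE'E : ⁅E, E⁆ ≤ E := Subgroup.commutator_le_self E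
    have hEE' : E ≤ Subgroup.normalizer ((⁅E, E⁆ : Subgroup G) : Set G) :=
      Cfsg.Agent.Helper3.BG142.le_normalizer_of_commutator_le hE'E le_rfl
    have hLE : (P : Subgroup G) ⊔ ⁅E, E⁆ ≤ E := sup_le hPE hE'E
    have hEL : E ≤ Subgroup.normalizer (((P : Subgroup G) ⊔ ⁅E, E⁆ : Subgroup G) : Set G) :=
      Cfsg.Agent.Helper3.BG142.le_normalizer_of_commutator_le hLE le_sup_right
    have hPcardL : Nat.card (P : Subgroup G) =
        p ^ (Nat.card ↥((P : Subgroup G) ⊔ ⁅E, E⁆)).factorization p := by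
      apply Cfsg.Agent.Lead.card_eq_ppart_of_le (le_sup_left : (P : Subgroup G) ≤ _)
        (le_top : (P : Subgroup G) ⊔ ⁅E, E⁆ ≤ ⊤) P.2
      rw [Subgroup.card_top]; exact hPcardG
    have hfr := Cfsg.Agent.Helper4.BG13.frattini_of_card_eq_ppart hEL
      (le_sup_left : (P : Subgroup G) ≤ _) P.2 hPcardL
    have hsup : ⁅E, E⁆ ⊔ (E ⊓ Subgroup.normalizer ((P : Subgroup G) : Set G)) = E := by
      apply le_antisymm (sup_le hE'E inf_le_left)
      intro h hh
      obtain ⟨c₀, hc₀, hc₀N⟩ := hfr h hh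
      have hc₀' : c₀ ∈ ⁅E, E⁆ ⊔ (P : Subgroup G) := by rw [sup_comm]; exact hc₀
      obtain ⟨d, hd, u, hu, rfl⟩ :=
        Cfsg.Agent.Helper1.mem_sup_of_le_normalizer (hPE.trans hEE') hc₀'
      have hh' : h = d * (u * ((d * u)⁻¹ * h)) := by group
      rw [hh']
      refine Subgroup.mul_mem_sup hd (Subgroup.mem_inf.2 ⟨?_, ?_⟩)
      · exact E.mul_mem (hPE hu) (E.mul_mem (E.inv_mem (hLE hc₀)) hh)
      · exact Subgroup.mul_mem _ (Subgroup.le_normalizer hu) hc₀N
    have hcard := Cfsg.Agent.Helper1.card_sup_mul_card_inf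
      (N := ⁅E, E⁆) (A := E ⊓ Subgroup.normalizer ((P : Subgroup G) : Set G))
      (inf_le_left.trans hEE')
    rw [hsup] at hcard
    have h6 := congrArg (fun n : ℕ => n.factorization t) hcard
    simp only [Nat.factorization_mul Nat.card_pos.ne' Nat.card_pos.ne', Finsupp.add_apply,
      Nat.factorization_eq_zero_of_not_dvd htE', zero_add] at h6
    omega

  
/-- Sylow subgroups conjugate to an abelian one are abelian -/
theorem sylow_comm_of_exists {p : ℕ} [hp : Fact p.Prime] (S₀ : Sylow p G)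
    (h : IsMulCommutative ((S₀ : Subgroup G))) (P : Sylow p G) :
    ∀ a ∈ (P : Subgroup G), ∀ b ∈ (P : Subgroup G), a * b = b * a := by
  obtain ⟨g, rfl⟩ := MulAction.exists_smul_eq G S₀ P
  intro a ha b hb
  rw [Sylow.coe_subgroup_smul, Cfsg.Agent.Helper1.mem_conj_smul] at ha hb
  have h1 := congrArg Subtype.val (h.is_comm.comm ⟨_, ha⟩ ⟨_, hb⟩)
  simp only [Subgroup.coe_mul] at h1
  calc a * b = g * ((g⁻¹ * a * g) * (g⁻¹ * b * g)) * g⁻¹ := by group
    _ = g * ((g⁻¹ * b * g) * (g⁻¹ * a * g)) * g⁻¹ := by rw [h1]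
    _ = b * a := by group

/-- (L2): in the abelian case the Sylow `p`-subgroup of `G` containing `A` is normal in `E`. -/
theorem compl_le_normalizer_sylow (hG : Cfsg.IsMinSimpleOddOrder G) {M : Subgroup G}
    (hM : IsCoatom M) {E : Subgroup G} (hE : Cfsg.IsComplIn E (Cfsg.sigmaCore M) M) {p : ℕ}
    [hp : Fact p.Prime] (hpτ : p ∈ Cfsg.tau2 M)
    {A : Subgroup G} (hA : A ≤ E ∧ Cfsg.IsElementaryAbelian p A ∧ Nat.card A = p ^ 2)
    (P : Sylow p G) (hAP : A ≤ (P : Subgroup G))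
    (hPab : ∀ a ∈ (P : Subgroup G), ∀ b ∈ (P : Subgroup G), a * b = b * a) :
    (P : Subgroup G) ≤ E ∧ E ≤ Subgroup.normalizer ((P : Subgroup G) : Set G) := by
  have c : Ctx M E p A := ⟨hG, Cfsg.Agent.Helper1.BG116.hypD, Cfsg.Agent.Helper3.BGAlpha.hypAlpha hG,
    hM, hE, hpτ, hA.1, hA.2.1, hA.2.2⟩
  have h126 := c.c126
  have hCAE : Subgroup.centralizer (A : Set G) ≤ E := by
    have := h126.2.1.1
    rwa [h126.2.1.2.1] at this
  have hPE : (P : Subgroup G) ≤ E := by
    intro g hg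
    apply hCAE
    rw [Subgroup.mem_centralizer_iff]
    intro a ha
    exact hPab a (hAP ha) g hg
  refine ⟨hPE, ?_⟩
  have hdvd : Nat.card E ∣
      Nat.card ↥(E ⊓ Subgroup.normalizer ((P : Subgroup G) : Set G)) := by
    rw [← Nat.factorization_prime_le_iff_dvd Nat.card_pos.ne' Nat.card_pos.ne']
    intro t ht
    exact factorization_le_inf_normalizer hG hM hE hpτ hA P hAP hPE hPab ht
  have heq : E ⊓ Subgroup.normalizer ((P : Subgroup G) : Set G) = E :=
    Subgroup.eq_of_le_of_card_ge inf_le_left (Nat.le_of_dvd Nat.card_pos hdvd)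
  rw [← heq]
  exact inf_le_right

/-- **BG 12.10(a)**: `F(E)` is an abelian normal subgroup of `E` containing `C_E(x)` for every
`x ∈ M_σ^#`, provided the `τ₁ ∪ τ₃`-elements of `E` act regularly. -/
theorem fitting_compl (hG : Cfsg.IsMinSimpleOddOrder G) {M : Subgroup G}
    (hM : IsCoatom M) {E : Subgroup G} (hE : Cfsg.IsComplIn E (Cfsg.sigmaCore M) M)
    (h : ∀ e ∈ E, e ≠ 1 → (∀ p : ℕ, p.Prime → p ∣ orderOf e → p ∈ Cfsg.tau1 M ∪ Cfsg.tau3 M) →
      Cfsg.sigmaCore M ⊓ Subgroup.centralizer ({e} : Set G) = ⊥) :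
    Cfsg.fittingOf E ≤ E ∧ E ≤ Subgroup.normalizer ((Cfsg.fittingOf E : Subgroup G) : Set G) ∧
      IsMulCommutative ↥(Cfsg.fittingOf E) ∧
      ∀ x ∈ Cfsg.sigmaCore M, x ≠ 1 →
        E ⊓ Subgroup.centralizer ({x} : Set G) ≤ Cfsg.fittingOf E := by
  have hEM : E ≤ M := hE.1
  have hFE : Cfsg.fittingOf E ≤ E := Cfsg.Agent.Helper1.BGV.fittingOf_le E
  refine ⟨hFE, Cfsg.Agent.Helper1.BGV.le_normalizer_fittingOf E, ?_, ?_⟩
  · apply Cfsg.Agent.Helper4.BG12.isMulCommutative_of_nilpotent_of_not_mem_sigma hG hM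
      (hFE.trans hEM) (Cfsg.Agent.Helper1.BGV.fittingOf_isNilpotent E)
    intro p hp hpd
    exact Cfsg.Agent.Helper4.BG12.not_mem_sigma_of_dvd_card_compl hG hM hE hp
      (hpd.trans (Subgroup.card_dvd_of_le hFE))
  intro x hx hx1 e he
  obtain ⟨heE, heC⟩ := Subgroup.mem_inf.1 he
  have hex : e * x = x * e := by
    have := Subgroup.mem_centralizer_iff.1 heC x (Set.mem_singleton x)
    exact this.symm
  have hZE : Subgroup.zpowers e ≤ E := Subgroup.zpowers_le.2 heE
  have hcomm : ∀ z ∈ Subgroup.zpowers e, z * x = x * z := by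
    intro z hz
    obtain ⟨k, rfl⟩ := hz
    have hc : Commute e x := hex
    exact (hc.zpow_left k).eq
  have hD : Subgroup.zpowers e ⊓ Cfsg.fittingOf E = Subgroup.zpowers e := by
    apply Cfsg.Agent.Helper4.BG13.eq_of_forall_pgroup_le inf_le_left
    intro s hs T hTK hTs
    by_cases hT1 : T = ⊥
    · rw [hT1]; exact bot_le
    have hTE : T ≤ E := hTK.trans hZE
    have hsT : s ∣ Nat.card T := Cfsg.Agent.Helper1.BGV.dvd_card_of_isPGroup_ne_bot hTs hT1
    have hsE : s ∣ Nat.card E := hsT.trans (Subgroup.card_dvd_of_le hTE)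
    have hsσ : s ∉ Cfsg.sigma M :=
      Cfsg.Agent.Helper4.BG12.not_mem_sigma_of_dvd_card_compl hG hM hE hs.out hsE
    obtain ⟨y, hy⟩ := exists_prime_orderOf_dvd_card' (G := ↥T) s hsT
    have hyo : orderOf (y : G) = s := by rw [Subgroup.orderOf_coe]; exact hy
    have hy1 : (y : G) ≠ 1 := by
      intro h1
      rw [h1, orderOf_one] at hyo
      exact hs.out.one_lt.ne hyo
    have hr1 : ¬ Cfsg.PRankLE s 1 ↥M := by
      intro hr1
      have h0 := h (y : G) (hTE y.2) hy1 (by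
        intro q hq hqd
        rw [hyo] at hqd
        have : q = s := (Nat.prime_dvd_prime_iff_eq hq hs.out).1 hqd
        subst this
        by_cases hd : q ∣ Nat.card ↥⁅M, M⁆
        · exact Or.inr ⟨hq, hsσ, hd, hr1⟩
        · exact Or.inl ⟨hq, hsσ, hsE.trans (Subgroup.card_dvd_of_le hEM), hd, hr1⟩)
      have hxC : x ∈ Cfsg.sigmaCore M ⊓ Subgroup.centralizer ({(y : G)} : Set G) := by
        refine Subgroup.mem_inf.2 ⟨hx, ?_⟩
        rw [Subgroup.mem_centralizer_singleton_iff]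
        exact (hcomm _ (hTK y.2)).symm
      rw [h0, Subgroup.mem_bot] at hxC
      exact hx1 hxC
    have hsτ : s ∈ Cfsg.tau2 M :=
      ⟨hs.out, hsσ, Cfsg.Agent.Lead.BG12.pRankLE_of_not_mem_sigma hG hM hs.out hsσ, hr1⟩
    obtain ⟨A, hAE, hAe, hAc⟩ := exists_elementary_le_compl hG hM hE hsτ
    have c : Ctx M E s A := ⟨hG, Cfsg.Agent.Helper1.BG116.hypD,
      Cfsg.Agent.Helper3.BGAlpha.hypAlpha hG, hM, hE, hsτ, hAE, hAe, hAc⟩
    refine le_inf hTK ?_
    by_cases hS : ∀ S : Sylow s G, ¬ IsMulCommutative ((S : Subgroup G))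
    · have hTB : T ≤ A ⊓ Subgroup.centralizer ((Cfsg.sigmaCore M : Subgroup G) : Set G) := by
        intro t ht
        exact mem_of_commute_of_nonabelian hG hM hE hsτ hS ⟨hAE, hAe, hAc⟩ (hTE ht)
          (hTs.to_le (Subgroup.zpowers_le.2 ht)) hx hx1 (hcomm t (hTK ht))
      refine hTB.trans ?_
      apply le_fittingOf_of_normal_nilpotent (inf_le_left.trans hAE)
      · intro g hg
        have hgA := c.c126.1.1 hg
        have hgσ := Cfsg.Agent.Lead.BG12.le_normalizer_sigmaCore M (hEM hg)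
        apply Cfsg.Agent.Helper3.IrrCyclic.mem_normalizer_of_conj_le
        intro b hb
        obtain ⟨hbA, hbC⟩ := Subgroup.mem_inf.1 hb
        refine Subgroup.mem_inf.2 ⟨(Subgroup.mem_normalizer_iff.1 hgA b).1 hbA, ?_⟩
        rw [Subgroup.mem_centralizer_iff]
        intro z hz
        have hz' : g⁻¹ * z * g ∈ Cfsg.sigmaCore M := by
          have := (Subgroup.mem_normalizer_iff.1 (Subgroup.inv_mem _ hgσ) z).1 hz
          simpa using this
        have h1 := Subgroup.mem_centralizer_iff.1 hbC _ hz'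
        calc z * (g * b * g⁻¹) = g * (g⁻¹ * z * g * b) * g⁻¹ := by group
          _ = g * (b * (g⁻¹ * z * g)) * g⁻¹ := by rw [h1]
          _ = g * b * g⁻¹ * z := by group
      · exact (c.isPGroup.to_le inf_le_left).isNilpotent
    · simp only [not_forall, not_not] at hS
      obtain ⟨S₀, hS₀⟩ := hS
      obtain ⟨P, hAP⟩ := c.isPGroup.exists_le_sylow
      have hPab := sylow_comm_of_exists S₀ hS₀ P
      obtain ⟨hPE, hEP⟩ := compl_le_normalizer_sylow hG hM hE hsτ ⟨hAE, hAe, hAc⟩ P hAP hPab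
      have hPcardE : Nat.card (P : Subgroup G) = s ^ (Nat.card E).factorization s := by
        apply Cfsg.Agent.Lead.card_eq_ppart_of_le hPE (le_top : E ≤ ⊤) P.2
        rw [Subgroup.card_top]; exact P.card_eq_multiplicity
      have hTP : T ≤ (P : Subgroup G) :=
        Cfsg.Agent.Helper1.BGT3reg.le_of_normal_sylow hPE P.2 hPcardE hEP hTE hTs
      exact hTP.trans (le_fittingOf_of_normal_nilpotent hPE hEP P.2.isNilpotent)
  have hmem : e ∈ Subgroup.zpowers e ⊓ Cfsg.fittingOf E := by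
    rw [hD]; exact Subgroup.mem_zpowers e
  exact (Subgroup.mem_inf.1 hmem).2

end Cfsg.Agent.Helper3.BG1211
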