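import Mathlib

set_option autoImplicit false
set_option linter.unusedSectionVars false
set_option linter.unusedVariables false

/-!
Pure algebra: an elementary abelian group of order `r ^ 2` of automorphisms of an abelian group
cannot act freely.
-/

namespace Cfsg.Agent.Helper3.BG1211

open scoped BigOperators

variable {A : Type*} [CommGroup A] {r : ℕ} [hr : Fact r.Prime]

/-- the norm of a fixed-point-free automorphism of order dividing `r` is trivial -/
theorem norm_eq_one (v : MulAut A) (hv : v ^ r = 1) (hfix : ∀ a : A, v a = a → a = 1) (a : A) :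
    ∏ j : ZMod r, (v ^ j.val) a = 1 := by
  haveI : NeZero r := ⟨hr.out.ne_zero⟩
  apply hfix
  rw [map_prod]
  have h1 : ∀ j : ZMod r, v ((v ^ j.val) a) = (fun k : ZMod r => (v ^ k.val) a) (Equiv.addRight 1 j) := by
    intro j
    simp only [Equiv.coe_addRight]
    rw [← MulAut.mul_apply, ← pow_succ']
    congr 1
    rw [pow_eq_pow_mod (j.val + 1) hv, ZMod.val_add, ZMod.val_one_eq_one_mod]
    congr 1
    rw [Nat.add_mod_mod]
  rw [Fintype.prod_equiv (Equiv.addRight (1 : ZMod r)) (fun j : ZMod r => v ((v ^ j.val) a))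
    (fun k : ZMod r => (v ^ k.val) a) h1]

theorem pow_eq_one_of_free_pair (β ω : MulAut A) (hc : Commute β ω) (hβ : β ^ r = 1)
    (hω : ω ^ r = 1) (hfix : ∀ i : ℕ, ∀ a : A, (β * ω ^ i) a = a → a = 1)
    (hfixω : ∀ a : A, ω a = a → a = 1) (a : A) : a ^ r = 1 := by
  haveI : NeZero r := ⟨hr.out.ne_zero⟩
  have hpowr : ∀ i : ℕ, (β * ω ^ i) ^ r = 1 := by
    intro i
    rw [(hc.pow_right i).mul_pow, hβ, one_mul, ← pow_mul, mul_comm, pow_mul, hω, one_pow]
  -- the double product
  have h1 : ∏ j : ZMod r, ∏ i : ZMod r, ((β * ω ^ j.val) ^ i.val) a = 1 := by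
    apply Finset.prod_eq_one
    intro j _
    exact norm_eq_one _ (hpowr j.val) (hfix j.val) a
  rw [Finset.prod_comm] at h1
  have h2 : ∀ i : ZMod r, ∏ j : ZMod r, ((β * ω ^ j.val) ^ i.val) a =
      if i = 0 then a ^ r else 1 := by
    intro i
    by_cases hi : i = 0
    · subst hi
      simp only [ZMod.val_zero, pow_zero, MulAut.one_apply, Finset.prod_const, Finset.card_univ,
        ZMod.card, if_true]
    · rw [if_neg hi]
      have h3 : ∀ j : ZMod r, ((β * ω ^ j.val) ^ i.val) a =
          (β ^ i.val) ((fun k : ZMod r => (ω ^ k.val) a) (Equiv.mulRight₀ i hi j)) := by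
        intro j
        have he : (Equiv.mulRight₀ i hi) j = j * i := rfl
        rw [he, (hc.pow_right j.val).mul_pow, MulAut.mul_apply, ← pow_mul]
        congr 2
        rw [pow_eq_pow_mod (j.val * i.val) hω, ZMod.val_mul]
      rw [Finset.prod_congr rfl (fun j _ => h3 j), ← map_prod,
        Fintype.prod_equiv (Equiv.mulRight₀ i hi)
          (fun j : ZMod r => (fun k : ZMod r => (ω ^ k.val) a) (Equiv.mulRight₀ i hi j))
          (fun k : ZMod r => (ω ^ k.val) a) (fun _ => rfl),
        norm_eq_one ω hω hfixω a, map_one]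
  rw [Finset.prod_congr rfl (fun i _ => h2 i), Finset.prod_ite_eq' ] at h1
  simpa using h1

end Cfsg.Agent.Helper3.BG1211
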