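import Mathlib
import Cfsg.Agent.Helper3.FrobG2

set_option autoImplicit false
set_option linter.unusedSectionVars false
set_option linter.unusedVariables false

/-!
Eigen-projection construction: in an abelian `p`-group `S` normalized by a `p'`-group `H`, an
`H`-invariant subgroup `⟨z⟩` of order `p` with `z = s₀ ^ (p ^ a)`, `exp S ∣ p ^ (a + 1)`, is the socle
of an `H`-invariant cyclic subgroup `⟨c⟩` of order `p ^ (a + 1)`.
-/

namespace Cfsg.Agent.Helper3.BG1211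

open scoped BigOperators

universe u

variable {G : Type u} [Group G] [Finite G]

/-- Teichmüller-type congruence. -/
theorem pow_prime_pow_modEq {p x y : ℕ} (a : ℕ) (h : x ≡ y [MOD p]) :
    x ^ p ^ a ≡ y ^ p ^ a [MOD p ^ (a + 1)] := by
  rw [Nat.modEq_iff_dvd] at h ⊢
  have h1 : ((p : ℕ) : ℤ) ∣ (y : ℤ) - (x : ℤ) := h
  have h2 := dvd_sub_pow_of_dvd_sub h1 a
  push_cast
  exact_mod_cast h2

theorem pow_prime_pow_modEq_self {p : ℕ} [hp : Fact p.Prime] (x a : ℕ) :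
    x ^ p ^ a ≡ x [MOD p] := by
  rw [← ZMod.natCast_eq_natCast_iff]
  push_cast
  exact ZMod.pow_card_pow _

theorem pow_eq_pow_of_modEq {x : G} {n m₁ m₂ : ℕ} (hx : x ^ n = 1) (h : m₁ ≡ m₂ [MOD n]) :
    x ^ m₁ = x ^ m₂ := by
  rw [pow_eq_pow_mod m₁ hx, pow_eq_pow_mod m₂ hx]
  exact congrArg _ h

theorem modEq_of_pow_eq_pow {p : ℕ} [hp : Fact p.Prime] {z : G} (hz : z ^ p = 1) (hz1 : z ≠ 1)
    {m₁ m₂ : ℕ} (h : z ^ m₁ = z ^ m₂) : m₁ ≡ m₂ [MOD p] := by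
  have ho : orderOf z = p := by
    have hd : orderOf z ∣ p := orderOf_dvd_of_pow_eq_one hz
    rcases (Nat.dvd_prime hp.out).1 hd with h1 | h1
    · exact absurd (orderOf_eq_one_iff.1 h1) hz1
    · exact h1
  have := pow_eq_pow_iff_modEq.1 h
  rwa [ho] at this

/-- **Eigen-projection.** -/
theorem exists_invariant_cyclic {p : ℕ} [hp : Fact p.Prime] {S H : Subgroup G}
    (hScomm : ∀ a ∈ S, ∀ b ∈ S, a * b = b * a)
    (hHS : H ≤ Subgroup.normalizer (S : Set G)) (hpH : ¬ p ∣ Nat.card H)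
    (a : ℕ) (hexp : ∀ s ∈ S, s ^ (p ^ (a + 1)) = 1)
    {s₀ : G} (hs₀ : s₀ ∈ S) (hz1 : s₀ ^ (p ^ a) ≠ 1)
    (hHz : ∀ h ∈ H, h * s₀ ^ (p ^ a) * h⁻¹ ∈ Subgroup.zpowers (s₀ ^ (p ^ a))) :
    ∃ c ∈ S, (∀ h ∈ H, h * c * h⁻¹ ∈ Subgroup.zpowers c) ∧
      c ^ (p ^ a) = (s₀ ^ (p ^ a)) ^ (Nat.card H) := by
  classical
  haveI : Fintype H := Fintype.ofFinite H
  letI _cg : CommGroup S :=
    { (inferInstance : Group S) with
      mul_comm := fun x y => Subtype.ext (hScomm x x.2 y y.2) }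
  obtain ⟨z, hzdef⟩ : ∃ z : G, z = s₀ ^ (p ^ a) := ⟨_, rfl⟩
  rw [← hzdef] at hz1 hHz ⊢
  have hzS : z ∈ S := hzdef ▸ S.pow_mem hs₀ _
  have hzp : z ^ p = 1 := by
    rw [hzdef, ← pow_mul, ← pow_succ]; exact hexp s₀ hs₀
  have hk : ∀ h : H, ∃ n : ℕ, z ^ n = (h : G) * z * (h : G)⁻¹ := by
    intro h
    have h1 := hHz h h.2
    rw [← mem_powers_iff_mem_zpowers] at h1
    exact (Submonoid.mem_powers_iff _ _).1 h1
  choose k hk using hk
  -- multiplicativity of `k` mod `p`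
  have hK1 : ∀ h h' : H, k (h * h') ≡ k h * k h' [MOD p] := by
    intro h h'
    apply modEq_of_pow_eq_pow hzp hz1
    rw [hk (h * h'), pow_mul, hk h]
    have : ((h * h' : H) : G) * z * ((h * h' : H) : G)⁻¹ =
        (h : G) * ((h' : G) * z * (h' : G)⁻¹) * (h : G)⁻¹ := by
      rw [Subgroup.coe_mul]; group
    rw [this, ← hk h', conj_pow]
  have hK2 : k 1 ≡ 1 [MOD p] := by
    apply modEq_of_pow_eq_pow hzp hz1
    rw [hk 1, pow_one]; simp
  obtain ⟨χ, hχdef⟩ : ∃ χ : H → ℕ, χ = fun h => (k h) ^ p ^ a := ⟨_, rfl⟩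
  have hX1 : ∀ h h' : H, χ (h * h') ≡ χ h * χ h' [MOD p ^ (a + 1)] := by
    intro h h'
    rw [hχdef]
    have := pow_prime_pow_modEq a (hK1 h h')
    rwa [mul_pow] at this
  have hX2 : ∀ h : H, χ h ≡ k h [MOD p] := by
    intro h
    rw [hχdef]
    exact pow_prime_pow_modEq_self _ _
  obtain ⟨φ, hφ⟩ : ∃ φ : H →* MulAut S, φ = Cfsg.Agent.Helper3.FrobG2.conjAct S H hHS := ⟨_, rfl⟩
  have hφapp : ∀ (h : H) (s : S), ((φ h s : S) : G) = (h : G) * s * (h : G)⁻¹ := by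
    intro h s; rw [hφ]; rfl
  obtain ⟨s₀', hs₀'⟩ : ∃ s₀' : S, (s₀' : G) = s₀ := ⟨⟨s₀, hs₀⟩, rfl⟩
  obtain ⟨z', hz'⟩ : ∃ z' : S, (z' : G) = z := ⟨⟨z, hzS⟩, rfl⟩
  have hz'pow : s₀' ^ (p ^ a) = z' := by
    apply Subtype.ext
    rw [Subgroup.coe_pow, hs₀', hz', hzdef]
  have hz'p : z' ^ p = 1 := by
    apply Subtype.ext
    rw [Subgroup.coe_pow, hz', hzp]; rfl
  have hexp' : ∀ s : S, s ^ (p ^ (a + 1)) = 1 := by
    intro s
    apply Subtype.ext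
    rw [Subgroup.coe_pow, hexp s s.2]; rfl
  obtain ⟨c', hc'⟩ : ∃ c' : S, c' = ∏ h : H, (φ h s₀') ^ (χ h⁻¹) := ⟨_, rfl⟩
  have hinv : ∀ g : H, φ g c' = c' ^ (χ g) := by
    intro g
    rw [hc', map_prod, ← Finset.prod_pow]
    have h1 : ∀ h : H, φ g ((φ h s₀') ^ (χ h⁻¹)) =
        (fun h' : H => (φ h' s₀') ^ (χ (h'⁻¹ * g))) (Equiv.mulLeft g h) := by
      intro h
      simp only [Equiv.coe_mulLeft]
      rw [map_pow, ← MulAut.mul_apply, ← map_mul]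
      congr 2
      group
    rw [Fintype.prod_equiv (Equiv.mulLeft g) (fun h : H => φ g ((φ h s₀') ^ (χ h⁻¹)))
      (fun h' : H => (φ h' s₀') ^ (χ (h'⁻¹ * g))) h1]
    apply Finset.prod_congr rfl
    intro h' _
    rw [← pow_mul]
    exact pow_eq_pow_of_modEq (hexp' _) (hX1 h'⁻¹ g)
  have hpow : c' ^ (p ^ a) = z' ^ (Nat.card H) := by
    rw [hc', ← Finset.prod_pow]
    have h1 : ∀ h : H, ((φ h s₀') ^ (χ h⁻¹)) ^ (p ^ a) = z' := by
      intro h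
      rw [pow_right_comm, ← map_pow, hz'pow]
      have h2 : φ h z' = z' ^ (k h) := by
        apply Subtype.ext
        rw [hφapp, Subgroup.coe_pow, hz', hk h]
      rw [h2, ← pow_mul]
      have h3 : k h * χ h⁻¹ ≡ 1 [MOD p] := by
        have h4 : k h * χ h⁻¹ ≡ k h * k h⁻¹ [MOD p] := Nat.ModEq.mul_left _ (hX2 h⁻¹)
        have h5 : k h * k h⁻¹ ≡ k (h * h⁻¹) [MOD p] := (hK1 h h⁻¹).symm
        rw [mul_inv_cancel] at h5
        exact (h4.trans h5).trans hK2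
      rw [pow_eq_pow_of_modEq hz'p h3, pow_one]
    rw [Finset.prod_congr rfl (fun h _ => h1 h), Finset.prod_const, Finset.card_univ,
      Nat.card_eq_fintype_card]
  refine ⟨(c' : G), c'.2, ?_, ?_⟩
  · intro h hh
    have h1 := congrArg Subtype.val (hinv ⟨h, hh⟩)
    rw [hφapp, Subgroup.coe_pow] at h1
    change h * (c' : G) * h⁻¹ = _ at h1
    rw [h1]
    exact Subgroup.pow_mem _ (Subgroup.mem_zpowers _) _
  · have h1 := congrArg Subtype.val hpow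
    rw [Subgroup.coe_pow, Subgroup.coe_pow, hz'] at h1
    exact h1

end Cfsg.Agent.Helper3.BG1211
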