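import Mathlib
import Cfsg.Prelude
import Cfsg.Agent.Helper3.BG1211a
import Cfsg.Agent.Helper3.BG1211b
import Cfsg.Agent.Helper2.GL2OddC
import Cfsg.Agent.Helper3.BG134c

set_option autoImplicit false
set_option linter.unusedSectionVars false
set_option linter.unusedVariables false

/-!
BG 12.10(b), abelian case: the lines of `A = Ω₁(P)`.
-/

namespace Cfsg.Agent.Helper3.BG1211

open Cfsg Cfsg.Agent.Lead.BG127

universe u

variable {G : Type u} [Group G] [Finite G]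

/-- the abelian context: `P` an abelian Sylow `p`-subgroup of `G` containing `A` -/
structure ACtx (M E : Subgroup G) (p : ℕ) (A : Subgroup G) (P : Subgroup G) : Prop where
  ctx : Ctx M E p A
  hAP : A ≤ P
  pgroup : IsPGroup p ↥P
  card : Nat.card P = p ^ (Nat.card G).factorization p
  comm : ∀ a ∈ P, ∀ b ∈ P, a * b = b * a

variable {M E : Subgroup G} {p : ℕ} [hp : Fact p.Prime] {A P : Subgroup G}

theorem ACtx.exists_sylow (c : ACtx M E p A P) : ∃ S : Sylow p G, (S : Subgroup G) = P :=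
  ⟨Sylow.ofCard P c.card, Sylow.coe_ofCard _ _⟩

theorem ACtx.leE (c : ACtx M E p A P) : P ≤ E := by
  obtain ⟨S, rfl⟩ := c.exists_sylow
  exact (compl_le_normalizer_sylow c.ctx.min c.ctx.coatom c.ctx.compl c.ctx.tau
    ⟨c.ctx.le, c.ctx.elem, c.ctx.card⟩ S c.hAP c.comm).1

theorem ACtx.le_normalizer (c : ACtx M E p A P) : E ≤ Subgroup.normalizer (P : Set G) := by
  obtain ⟨S, rfl⟩ := c.exists_sylow
  exact (compl_le_normalizer_sylow c.ctx.min c.ctx.coatom c.ctx.compl c.ctx.tau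
    ⟨c.ctx.le, c.ctx.elem, c.ctx.card⟩ S c.hAP c.comm).2

theorem ACtx.leM (c : ACtx M E p A P) : P ≤ M := c.leE.trans c.ctx.compl.1

theorem ACtx.cardE (c : ACtx M E p A P) : Nat.card P = p ^ (Nat.card E).factorization p := by
  apply Cfsg.Agent.Lead.card_eq_ppart_of_le c.leE (le_top : E ≤ ⊤) c.pgroup
  rw [Subgroup.card_top]; exact c.card

theorem ACtx.cardM (c : ACtx M E p A P) : Nat.card P = p ^ (Nat.card M).factorization p := by
  apply Cfsg.Agent.Lead.card_eq_ppart_of_le c.leM (le_top : M ≤ ⊤) c.pgroup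
  rw [Subgroup.card_top]; exact c.card

/-- `A = Ω₁(P)` -/
theorem ACtx.mem_of_pow_eq_one (c : ACtx M E p A P) {y : G} (hy : y ∈ P) (hyp : y ^ p = 1) :
    y ∈ A :=
  c.ctx.mem_of_pow_eq_one c.pgroup c.leM c.hAP hy hyp

theorem ACtx.normalizer_le (c : ACtx M E p A P) :
    Subgroup.normalizer (P : Set G) ≤ Subgroup.normalizer (A : Set G) := by
  intro g hg
  apply Cfsg.Agent.Helper3.IrrCyclic.mem_normalizer_of_conj_le
  intro a ha
  have h1 : g * a * g⁻¹ ∈ P := (Subgroup.mem_normalizer_iff.1 hg a).1 (c.hAP ha)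
  apply c.mem_of_pow_eq_one h1
  rw [conj_pow, c.ctx.elem.2 a ha, mul_one, mul_inv_cancel]

theorem ACtx.normalizer_not_le (c : ACtx M E p A P) :
    ¬ Subgroup.normalizer (P : Set G) ≤ M := by
  obtain ⟨R, hR⟩ := (Cfsg.Agent.Lead.exists_sylow_eq_subgroupOf_iff M P c.leM).2 c.cardM
  have hmap : (R : Subgroup M).map M.subtype = P := by
    rw [hR]; exact Subgroup.map_subgroupOf_eq_of_le c.leM
  have := ((c.ctx.t125.2.1 R).2 (by rw [hmap]; exact c.hAP)).2
  rwa [hmap] at this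

theorem ACtx.normalizerA_not_le (c : ACtx M E p A P) :
    ¬ Subgroup.normalizer (A : Set G) ≤ M := c.ctx.c126.2.1.2.2

theorem ACtx.centralizer_le (c : ACtx M E p A P) : Subgroup.centralizer (A : Set G) ≤ E := by
  have := c.ctx.c126.2.1.1
  rwa [c.ctx.c126.2.1.2.1] at this

theorem ACtx.le_centralizer (c : ACtx M E p A P) : P ≤ Subgroup.centralizer (A : Set G) := by
  intro g hg
  rw [Subgroup.mem_centralizer_iff]
  intro a ha
  exact c.comm a (c.hAP ha) g hg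

/-- `N_G(A)' ≤ C_G(A)` -/
theorem ACtx.commutator_le (c : ACtx M E p A P) :
    ⁅Subgroup.normalizer (A : Set G), Subgroup.normalizer (A : Set G)⁆ ≤
      Subgroup.centralizer (A : Set G) := by
  apply Cfsg.Agent.Helper2.GL2Odd.commutator_le_centralizer_of_card_prime_sq p c.ctx.ne_two A
    (Subgroup.normalizer (A : Set G))
    (Odd.of_dvd_nat c.ctx.min.1 (Subgroup.card_subgroup_dvd_card _)) le_rfl c.ctx.card
    c.ctx.elem.2
  rw [inf_eq_right.2 (Subgroup.centralizer_le_normalizer _)]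
  apply Cfsg.Agent.Helper3.BG134.not_dvd_relIndex_of_ppart_le c.le_centralizer
    (Subgroup.centralizer_le_normalizer _)
  apply Cfsg.Agent.Lead.card_eq_ppart_of_le
    (c.le_centralizer.trans (Subgroup.centralizer_le_normalizer _))
    (le_top : Subgroup.normalizer (A : Set G) ≤ ⊤) c.pgroup
  rw [Subgroup.card_top]; exact c.card

/-- uniqueness of the maximal subgroup over `C(X)` pushes `N(X)` into it -/
theorem normalizer_le_of_uniq' (hG : Cfsg.IsMinSimpleOddOrder G) {X M : Subgroup G} (hX1 : X ≠ ⊥)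
    (hXtop : X ≠ ⊤)
    (huniq : ∀ L : Subgroup G, IsCoatom L → Subgroup.centralizer (X : Set G) ≤ L → L = M) :
    Subgroup.normalizer (X : Set G) ≤ M := by
  obtain ⟨L, hL, hNL⟩ := Cfsg.Agent.Helper1.BGU.exists_coatom_ge
    (Cfsg.Agent.Helper1.BGU.normalizer_ne_top_of_simple hG hX1 hXtop)
  have := huniq L hL ((Subgroup.centralizer_le_normalizer _).trans hNL)
  rw [← this]; exact hNL

theorem conj_mem_zpowers_of_conj_mem {n a : G} (h : n * a * n⁻¹ ∈ Subgroup.zpowers a) :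
    ∀ y ∈ Subgroup.zpowers a, n * y * n⁻¹ ∈ Subgroup.zpowers a := by
  intro y hy
  obtain ⟨k, rfl⟩ := hy
  rw [← conj_zpow]
  exact Subgroup.zpow_mem _ h k

/-- a line of `A` normalized by a subgroup not contained in `M` is regular -/
theorem ACtx.regular_of_normalizer (c : ACtx M E p A P) {a : G} (ha : a ∈ A) (ha1 : a ≠ 1)
    {N : Subgroup G} (hNM : ¬ N ≤ M) (hN : ∀ n ∈ N, n * a * n⁻¹ ∈ Subgroup.zpowers a) :
    Cfsg.sigmaCore M ⊓ Subgroup.centralizer ((Subgroup.zpowers a : Subgroup G) : Set G) = ⊥ := by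
  by_contra hne
  have hcard := c.ctx.card_zpowers ha ha1
  have h1 := c.ctx.c126.2.2 (Subgroup.zpowers a) (Subgroup.zpowers_le.2 ha) hcard hne
  apply hNM
  have hX1 : Subgroup.zpowers a ≠ ⊥ := fun h => ha1 (Subgroup.zpowers_eq_bot.1 h)
  have hXtop : Subgroup.zpowers a ≠ ⊤ := by
    intro h
    have h2 : (⊤ : Subgroup G) ≤ M := h ▸ (Subgroup.zpowers_le.2 (c.ctx.leM ha))
    exact c.ctx.coatom.1 (top_le_iff.1 h2)
  refine le_trans ?_ (normalizer_le_of_uniq' c.ctx.min hX1 hXtop h1.2)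
  intro n hn
  apply Cfsg.Agent.Helper3.IrrCyclic.mem_normalizer_of_conj_le
  exact conj_mem_zpowers_of_conj_mem (hN n hn)

/-- two independent elements generate `A` -/
theorem ACtx.exists_mul_pow (c : ACtx M E p A P) {a a' : G} (ha : a ∈ A) (ha1 : a ≠ 1)
    (ha' : a' ∈ A) (hne : a' ∉ Subgroup.zpowers a) :
    ∀ x ∈ A, ∃ i j : ℤ, x = a ^ i * a' ^ j := by
  have hle : Subgroup.zpowers a ⊔ Subgroup.zpowers a' ≤ A :=
    sup_le (Subgroup.zpowers_le.2 ha) (Subgroup.zpowers_le.2 ha')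
  have hlt : Subgroup.zpowers a < Subgroup.zpowers a ⊔ Subgroup.zpowers a' := by
    refine lt_of_le_of_ne le_sup_left ?_
    intro h
    apply hne
    rw [h]
    exact (le_sup_right : Subgroup.zpowers a' ≤ _) (Subgroup.mem_zpowers a')
  have hcard := c.ctx.card_zpowers ha ha1
  have hd1 : Nat.card ↥(Subgroup.zpowers a ⊔ Subgroup.zpowers a') ∣ p ^ 2 := by
    rw [← c.ctx.card]; exact Subgroup.card_dvd_of_le hle
  have hd2 : p ∣ Nat.card ↥(Subgroup.zpowers a ⊔ Subgroup.zpowers a') := by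
    rw [← hcard]; exact Subgroup.card_dvd_of_le le_sup_left
  have heq : Subgroup.zpowers a ⊔ Subgroup.zpowers a' = A := by
    apply Subgroup.eq_of_le_of_card_ge hle
    rw [c.ctx.card]
    obtain ⟨i, hi, hpi⟩ := (Nat.dvd_prime_pow hp.out).1 hd1
    have hi2 : i = 2 := by
      have h1 : i ≠ 0 := by
        rintro rfl
        rw [pow_zero] at hpi
        rw [hpi] at hd2
        exact hp.out.one_lt.ne' (Nat.dvd_one.1 hd2)
      have h2 : i ≠ 1 := by
        rintro rfl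
        rw [pow_one] at hpi
        have h3 : Subgroup.zpowers a = Subgroup.zpowers a ⊔ Subgroup.zpowers a' :=
          Subgroup.eq_of_le_of_card_ge le_sup_left (by rw [hpi, hcard])
        exact hlt.ne h3
      omega
    rw [hpi, hi2]
  intro x hx
  rw [← heq] at hx
  have hnorm : Subgroup.zpowers a' ≤ Subgroup.normalizer ((Subgroup.zpowers a : Subgroup G) : Set G) := by
    intro y hy
    apply Cfsg.Agent.Helper3.IrrCyclic.mem_normalizer_of_conj_le
    intro b hb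
    have hyA : y ∈ A := Subgroup.zpowers_le.2 ha' hy
    have hbA : b ∈ A := Subgroup.zpowers_le.2 ha hb
    rw [c.ctx.comm hyA hbA, mul_inv_cancel_right]
    exact hb
  obtain ⟨u, hu, v, hv, rfl⟩ := Cfsg.Agent.Helper1.mem_sup_of_le_normalizer hnorm hx
  obtain ⟨i, rfl⟩ := hu
  obtain ⟨j, rfl⟩ := hv
  exact ⟨i, j, rfl⟩

/-- **(R2)**: an eigenline of a non-scalar element of `N(A)` is `N(A)`-invariant -/
theorem ACtx.normalizer_fixes_of_eigen (c : ACtx M E p A P) {e : G}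
    (he : e ∈ Subgroup.normalizer (A : Set G))
    (hns : ¬ ∀ a' ∈ A, e * a' * e⁻¹ ∈ Subgroup.zpowers a') {a : G} (ha : a ∈ A) (ha1 : a ≠ 1)
    (hea : e * a * e⁻¹ ∈ Subgroup.zpowers a) :
    ∀ n ∈ Subgroup.normalizer (A : Set G), n * a * n⁻¹ ∈ Subgroup.zpowers a := by
  intro n hn
  by_contra hna
  apply hns
  have ha'A : n * a * n⁻¹ ∈ A := (Subgroup.mem_normalizer_iff.1 hn a).1 ha
  obtain ⟨k, hk⟩ := Subgroup.mem_zpowers_iff.1 hea
  -- `e` acts on `n a n⁻¹` by the same power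
  have hd : n⁻¹ * e * n * e⁻¹ ∈ Subgroup.centralizer (A : Set G) := by
    apply c.commutator_le
    have := Subgroup.commutator_mem_commutator (Subgroup.inv_mem _ hn) he
    rwa [commutatorElement_def, inv_inv] at this
  have hk' : e * (n * a * n⁻¹) * e⁻¹ = (n * a * n⁻¹) ^ k := by
    have hakA : a ^ k ∈ A := A.zpow_mem ha k
    have h1 := Subgroup.mem_centralizer_iff.1 hd (a ^ k) hakA
    -- h1 : a^k * d = d * a^k
    rw [conj_zpow]
    calc e * (n * a * n⁻¹) * e⁻¹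
        = n * ((n⁻¹ * e * n * e⁻¹) * (e * a * e⁻¹)) * (n⁻¹ * e * n * e⁻¹)⁻¹ * n⁻¹ := by group
      _ = n * ((n⁻¹ * e * n * e⁻¹) * a ^ k) * (n⁻¹ * e * n * e⁻¹)⁻¹ * n⁻¹ := by rw [hk]
      _ = n * (a ^ k * (n⁻¹ * e * n * e⁻¹)) * (n⁻¹ * e * n * e⁻¹)⁻¹ * n⁻¹ := by rw [h1]
      _ = n * a ^ k * n⁻¹ := by group
  intro x hx
  obtain ⟨i, j, rfl⟩ := c.exists_mul_pow ha ha1 ha'A hna x hx
  have hcomm : Commute (a ^ i) ((n * a * n⁻¹) ^ j) :=
    c.ctx.comm (A.zpow_mem ha i) (A.zpow_mem ha'A j)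
  have : e * (a ^ i * (n * a * n⁻¹) ^ j) * e⁻¹ = (a ^ i * (n * a * n⁻¹) ^ j) ^ k := by
    rw [hcomm.mul_zpow]
    calc e * (a ^ i * (n * a * n⁻¹) ^ j) * e⁻¹
        = (e * a ^ i * e⁻¹) * (e * (n * a * n⁻¹) ^ j * e⁻¹) := by group
      _ = (e * a * e⁻¹) ^ i * (e * (n * a * n⁻¹) * e⁻¹) ^ j := by
        have e1 : e * a ^ i * e⁻¹ = (e * a * e⁻¹) ^ i := (conj_zpow).symm
        have e2 : e * (n * a * n⁻¹) ^ j * e⁻¹ = (e * (n * a * n⁻¹) * e⁻¹) ^ j := (conj_zpow).symm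
        rw [e1, e2]
      _ = (a ^ k) ^ i * ((n * a * n⁻¹) ^ k) ^ j := by rw [hk, hk']
      _ = (a ^ i) ^ k * ((n * a * n⁻¹) ^ j) ^ k := by
        rw [← zpow_mul, ← zpow_mul, ← zpow_mul, ← zpow_mul, mul_comm k i, mul_comm k j]
  rw [this]
  exact Subgroup.zpow_mem _ (Subgroup.mem_zpowers _) k

end Cfsg.Agent.Helper3.BG1211
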