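import Mathlib
import Cfsg.Prelude
import Cfsg.Agent.Helper3.BG1211c
import Cfsg.Agent.Helper3.BG1211d
import Cfsg.Agent.Helper3.FrobG2
import Cfsg.Agent.Helper1.BGXd
import Cfsg.Agent.Helper4.BG13d
import Cfsg.Agent.S1419

set_option autoImplicit false
set_option linter.unusedSectionVars false
set_option linter.unusedVariables false

/-!
BG 12.10(b), abelian case: the irreducible case is contradictory (BG 12.11(c)).  Part 1.
-/

namespace Cfsg.Agent.Helper3.BG1211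

open Cfsg Cfsg.Agent.Lead.BG127

universe u

variable {G : Type u} [Group G] [Finite G]
variable {M E : Subgroup G} {p : ℕ} [hp : Fact p.Prime] {A P : Subgroup G}

theorem ACtx.zpowers_eq_of_mem (c : ACtx M E p A P) {x y : G} (hx : x ∈ A)
    (hy : y ∈ Subgroup.zpowers x) (hy1 : y ≠ 1) : Subgroup.zpowers y = Subgroup.zpowers x := by
  have hx1 : x ≠ 1 := by
    rintro rfl
    rw [Subgroup.zpowers_one_eq_bot, Subgroup.mem_bot] at hy
    exact hy1 hy
  have hyA : y ∈ A := Subgroup.zpowers_le.2 hx hy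
  apply Subgroup.eq_of_le_of_card_ge (Subgroup.zpowers_le.2 hy)
  rw [c.ctx.card_zpowers hx hx1, c.ctx.card_zpowers hyA hy1]

/-- a scalar element with a nonidentity fixed point centralizes `A` -/
theorem ACtx.scalar_centralizes_of_fixed (c : ACtx M E p A P) {e : G}
    (hsc : ∀ a ∈ A, e * a * e⁻¹ ∈ Subgroup.zpowers a) {a₀ : G} (ha₀ : a₀ ∈ A) (ha₀1 : a₀ ≠ 1)
    (hfix : e * a₀ = a₀ * e) : ∀ x ∈ A, e * x = x * e := by
  intro x hx
  by_cases hxa : x ∈ Subgroup.zpowers a₀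
  · obtain ⟨i, rfl⟩ := hxa
    exact ((show Commute e a₀ from hfix).zpow_right i).eq
  -- ψ(x) = e x e⁻¹ x⁻¹
  have hψx : e * x * e⁻¹ * x⁻¹ ∈ Subgroup.zpowers x :=
    Subgroup.mul_mem _ (hsc x hx) (Subgroup.inv_mem _ (Subgroup.mem_zpowers x))
  have hax : a₀ * x ∈ A := A.mul_mem ha₀ hx
  have hψax : e * (a₀ * x) * e⁻¹ * (a₀ * x)⁻¹ ∈ Subgroup.zpowers (a₀ * x) :=
    Subgroup.mul_mem _ (hsc _ hax) (Subgroup.inv_mem _ (Subgroup.mem_zpowers _))
  have hxx : e * x * e⁻¹ ∈ A := Subgroup.zpowers_le.2 hx (hsc x hx)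
  have heq : e * (a₀ * x) * e⁻¹ * (a₀ * x)⁻¹ = e * x * e⁻¹ * x⁻¹ := by
    have h1 : e * (a₀ * x) * e⁻¹ = a₀ * (e * x * e⁻¹) := by
      calc e * (a₀ * x) * e⁻¹ = (e * a₀) * x * e⁻¹ := by group
        _ = (a₀ * e) * x * e⁻¹ := by rw [hfix]
        _ = a₀ * (e * x * e⁻¹) := by group
    rw [h1, mul_inv_rev]
    have h2 : a₀ * (e * x * e⁻¹) = (e * x * e⁻¹) * a₀ := c.ctx.comm ha₀ hxx
    calc a₀ * (e * x * e⁻¹) * (x⁻¹ * a₀⁻¹) = (a₀ * (e * x * e⁻¹)) * x⁻¹ * a₀⁻¹ := by group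
      _ = ((e * x * e⁻¹) * a₀) * x⁻¹ * a₀⁻¹ := by rw [h2]
      _ = (e * x * e⁻¹) * (a₀ * x⁻¹) * a₀⁻¹ := by group
      _ = (e * x * e⁻¹) * (x⁻¹ * a₀) * a₀⁻¹ := by rw [c.ctx.comm ha₀ (A.inv_mem hx)]
      _ = e * x * e⁻¹ * x⁻¹ := by group
  by_contra hne
  have hψ1 : e * x * e⁻¹ * x⁻¹ ≠ 1 := by
    intro h1
    apply hne
    have : e * x * e⁻¹ = x := by
      calc e * x * e⁻¹ = (e * x * e⁻¹ * x⁻¹) * x := by group
        _ = x := by rw [h1, one_mul]
    calc e * x = (e * x * e⁻¹) * e := by group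
      _ = x * e := by rw [this]
  have h3 := c.zpowers_eq_of_mem hx hψx hψ1
  rw [← heq] at hψ1 h3
  have h4 := c.zpowers_eq_of_mem hax hψax hψ1
  have h5 : Subgroup.zpowers x = Subgroup.zpowers (a₀ * x) := h3.symm.trans h4
  have h6 : a₀ * x ∈ Subgroup.zpowers x := h5 ▸ Subgroup.mem_zpowers _
  have h7 : a₀ ∈ Subgroup.zpowers x := by
    have := Subgroup.mul_mem _ h6 (Subgroup.inv_mem _ (Subgroup.mem_zpowers x))
    rwa [mul_inv_cancel_right] at this
  have h8 := c.zpowers_eq_of_mem hx h7 ha₀1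
  exact hxa (h8 ▸ Subgroup.mem_zpowers x)

theorem ACtx.sigmaCore_ne_bot (c : ACtx M E p A P) : Cfsg.sigmaCore M ≠ ⊥ := by
  obtain ⟨x₀, -, -, hsing⟩ := c.ctx.exists_singular
  intro h
  apply hsing
  rw [h, bot_inf_eq]

/-- **Step 3**: an element of prime order `r` of `E`, regular on `M_σ`, which is scalar or irreducible
on `A`, centralizes `A`. -/
theorem ACtx.centralizes_of_prime_order (c : ACtx M E p A P) {e₁ : G} (he₁E : e₁ ∈ E) {r : ℕ}
    (hr : r.Prime) (hord : orderOf e₁ = r) (hrσ : r ∉ Cfsg.sigma M)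
    (hreg : Cfsg.sigmaCore M ⊓ Subgroup.centralizer ({e₁} : Set G) = ⊥)
    (hall : (∀ a ∈ A, e₁ * a * e₁⁻¹ ∈ Subgroup.zpowers a) ∨
      (∀ x ∈ A, x ≠ 1 → e₁ * x * e₁⁻¹ ∉ Subgroup.zpowers x)) :
    ∀ x ∈ A, e₁ * x = x * e₁ := by
  by_contra hnc
  -- `e₁` has no nonidentity fixed point on `A`
  have hfpf : A ⊓ Subgroup.centralizer ((Subgroup.zpowers e₁ : Subgroup G) : Set G) = ⊥ := by
    rw [Cfsg.Agent.Helper1.BGX.centralizer_zpowers_eq, Subgroup.eq_bot_iff_forall]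
    intro a ha
    by_contra ha1
    obtain ⟨haA, haC⟩ := Subgroup.mem_inf.1 ha
    have hcomm : e₁ * a = a * e₁ := (Subgroup.mem_centralizer_singleton_iff.1 haC).symm
    rcases hall with hsc | hirr
    · exact hnc (c.scalar_centralizes_of_fixed hsc haA ha1 hcomm)
    · apply hirr a haA ha1
      rw [hcomm, mul_inv_cancel_right]
      exact Subgroup.mem_zpowers a
  have hEM : E ≤ M := c.ctx.compl.1
  have he₁N : Subgroup.zpowers e₁ ≤ Subgroup.normalizer (A : Set G) :=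
    (Subgroup.zpowers_le.2 he₁E).trans c.ctx.c126.1.1
  have hsolv : Group.IsSolvable ↥(Cfsg.sigmaCore M) := by
    haveI : Group.IsSolvable ↥M := c.ctx.min.2.2.2 M c.ctx.coatom.1
    exact Group.isSolvable_of_isSolvable_injective
      (f := Subgroup.inclusion (Cfsg.Agent.Lead.BG12.sigmaCore_le (M := M)))
      (Subgroup.inclusion_injective _)
  have hcard : Nat.card ↥(Subgroup.zpowers e₁) = r := by rw [Nat.card_zpowers, hord]
  have hcop : (Nat.card A * Nat.card ↥(Subgroup.zpowers e₁)).Coprime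
      (Nat.card ↥(Cfsg.sigmaCore M)) := by
    rw [c.ctx.card, hcard]
    apply Nat.Coprime.mul_left
    · exact Nat.Coprime.pow_left _ ((Nat.Prime.coprime_iff_not_dvd hp.out).2
        c.ctx.not_dvd_card_sigmaCore)
    · exact (Nat.Prime.coprime_iff_not_dvd hr).2
        (fun hd => hrσ (Cfsg.Agent.Lead.BG12.mem_sigma_of_dvd_card_sigmaCore hr hd))
  have hle := Cfsg.Agent.Helper3.FrobG2.le_centralizer_of_frobenius A (Subgroup.zpowers e₁)
    (Cfsg.sigmaCore M) c.ctx.isPGroup.isNilpotent (hcard ▸ hr) he₁N hfpf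
    c.ctx.le_normalizer_sigmaCore
    ((Subgroup.zpowers_le.2 (hEM he₁E)).trans (Cfsg.Agent.Lead.BG12.le_normalizer_sigmaCore M))
    hsolv hcop (by rw [Cfsg.Agent.Helper1.BGX.centralizer_zpowers_eq]; exact hreg)
  apply c.sigmaCore_ne_bot
  rw [← c.ctx.t125.2.2.2.1]
  exact (inf_eq_left.2 (Subgroup.le_centralizer_iff.1 hle)).symm

/-- the elements of `G` normalizing every cyclic subgroup of `A` -/
def scalarSub (A : Subgroup G) : Subgroup G :=
  ⨅ a : A, Subgroup.normalizer ((Subgroup.zpowers (a : G) : Subgroup G) : Set G)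

theorem mem_scalarSub {A : Subgroup G} {e : G} :
    e ∈ scalarSub A ↔ ∀ a ∈ A, e * a * e⁻¹ ∈ Subgroup.zpowers a := by
  unfold scalarSub
  rw [Subgroup.mem_iInf]
  constructor
  · intro h a ha
    exact (Subgroup.mem_normalizer_iff.1 (h ⟨a, ha⟩) a).1 (Subgroup.mem_zpowers a)
  · intro h a
    apply Cfsg.Agent.Helper3.IrrCyclic.mem_normalizer_of_conj_le
    exact conj_mem_zpowers_of_conj_mem (h a a.2)

/-- **Step 1**: a non-scalar element has a non-scalar power of prime power order -/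
theorem exists_prime_power_nonscalar {A : Subgroup G} {w : G} (hns : w ∉ scalarSub A) :
    ∃ r : ℕ, r.Prime ∧ ∃ w' ∈ Subgroup.zpowers w, IsPGroup r ↥(Subgroup.zpowers w') ∧
      w' ∉ scalarSub A := by
  by_contra hcon
  apply hns
  have hD : Subgroup.zpowers w ⊓ scalarSub A = Subgroup.zpowers w := by
    apply Cfsg.Agent.Helper4.BG13.eq_of_forall_pgroup_le inf_le_left
    intro s hs T hTK hTs
    refine le_inf hTK ?_
    intro t ht
    by_contra hts
    exact hcon ⟨s, hs.out, t, hTK ht, hTs.to_le (Subgroup.zpowers_le.2 ht), hts⟩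
  have : w ∈ Subgroup.zpowers w ⊓ scalarSub A := by rw [hD]; exact Subgroup.mem_zpowers w
  exact (Subgroup.mem_inf.1 this).2

/-- an element of `E` centralizing `A` is scalar -/
theorem mem_scalarSub_of_commute {A : Subgroup G} {e : G} (h : ∀ a ∈ A, e * a = a * e) :
    e ∈ scalarSub A := by
  rw [mem_scalarSub]
  intro a ha
  rw [h a ha, mul_inv_cancel_right]
  exact Subgroup.mem_zpowers a

/-- **Step 2**: a non-scalar element of `E` of `r`-power order has `r ∈ τ₁(M)` -/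
theorem ACtx.mem_tau1_of_nonscalar (c : ACtx M E p A P)
    (hab : ∀ q : ℕ, q ∈ Cfsg.tau2 M → ∀ [Fact q.Prime], ∃ S : Sylow q G,
      IsMulCommutative ((S : Subgroup G)))
    {r : ℕ} [hr : Fact r.Prime] {w : G} (hwE : w ∈ E)
    (hwr : IsPGroup r ↥(Subgroup.zpowers w)) (hns : w ∉ scalarSub A) :
    r ≠ p ∧ r ∈ Cfsg.tau1 M := by
  have hG := c.ctx.min
  have hM := c.ctx.coatom
  have hE := c.ctx.compl
  have hEM : E ≤ M := hE.1
  have hEA : E ≤ Subgroup.normalizer (A : Set G) := c.ctx.c126.1.1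
  have hZE : Subgroup.zpowers w ≤ E := Subgroup.zpowers_le.2 hwE
  have hw1 : Subgroup.zpowers w ≠ ⊥ := by
    intro h
    apply hns
    rw [Subgroup.zpowers_eq_bot.1 h]
    exact Subgroup.one_mem _
  have hrE : r ∣ Nat.card E :=
    (Cfsg.Agent.Helper1.BGV.dvd_card_of_isPGroup_ne_bot hwr hw1).trans
      (Subgroup.card_dvd_of_le hZE)
  have hrσ : r ∉ Cfsg.sigma M :=
    Cfsg.Agent.Helper4.BG12.not_mem_sigma_of_dvd_card_compl hG hM hE hr.out hrE
  have hrp : r ≠ p := by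
    rintro rfl
    apply hns
    apply mem_scalarSub_of_commute
    intro a ha
    have hwP : w ∈ P := Cfsg.Agent.Helper1.BGT3reg.le_of_normal_sylow c.leE c.pgroup c.cardE
      c.le_normalizer hZE hwr (Subgroup.mem_zpowers w)
    exact c.comm w hwP a (c.hAP ha)
  refine ⟨hrp, ?_⟩
  -- a normal `r`-subgroup of `E` containing `w` centralizes `A`
  have key : ∀ Q : Subgroup G, Q ≤ E → E ≤ Subgroup.normalizer (Q : Set G) → IsPGroup r ↥Q →
      w ∈ Q → False := by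
    intro Q hQE hEQ hQr hwQ
    apply hns
    apply mem_scalarSub_of_commute
    intro a ha
    have hdisj : A ⊓ Q = ⊥ := by
      apply (Subgroup.disjoint_of_coprime_natCard _).eq_bot
      obtain ⟨k, hk⟩ := IsPGroup.iff_card.mp hQr
      rw [c.ctx.card, hk]
      exact Nat.Coprime.pow _ _ ((Nat.coprime_primes hp.out hr.out).2 (Ne.symm hrp))
    exact (Cfsg.Agent.Helper1.BGV.commute_of_normalize_of_disjoint (c.ctx.le.trans hEQ)
      (hQE.trans hEA) hdisj ha hwQ).symm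
  by_cases hr1 : Cfsg.PRankLE r 1 ↥M
  · by_cases hd : r ∣ Nat.card ↥⁅M, M⁆
    · exfalso
      have hrτ : r ∈ Cfsg.tau3 M := ⟨hr.out, hrσ, hd, hr1⟩
      exact key (Subgroup.zpowers w) hZE
        (Cfsg.Agent.Helper3.BG144.compl_le_normalizer_of_tau3 hG hM hE hrτ hZE hwr) hwr
        (Subgroup.mem_zpowers w)
    · exact ⟨hr.out, hrσ, hrE.trans (Subgroup.card_dvd_of_le hEM), hd, hr1⟩
  · exfalso
    have hrτ : r ∈ Cfsg.tau2 M :=
      ⟨hr.out, hrσ, Cfsg.Agent.Lead.BG12.pRankLE_of_not_mem_sigma hG hM hr.out hrσ, hr1⟩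
    obtain ⟨B, hBE, hBe, hBc⟩ := exists_elementary_le_compl hG hM hE hrτ
    obtain ⟨S₀, hS₀⟩ := hab r hrτ
    have hBr : IsPGroup r ↥B := IsPGroup.of_card hBc
    obtain ⟨Q, hBQ⟩ := hBr.exists_le_sylow
    have hQab := sylow_comm_of_exists S₀ hS₀ Q
    obtain ⟨hQE, hEQ⟩ := compl_le_normalizer_sylow hG hM hE hrτ ⟨hBE, hBe, hBc⟩ Q hBQ hQab
    have hQcardE : Nat.card (Q : Subgroup G) = r ^ (Nat.card E).factorization r := by
      apply Cfsg.Agent.Lead.card_eq_ppart_of_le hQE (le_top : E ≤ ⊤) Q.2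
      rw [Subgroup.card_top]; exact Q.card_eq_multiplicity
    exact key Q hQE hEQ Q.2
      (Cfsg.Agent.Helper1.BGT3reg.le_of_normal_sylow hQE Q.2 hQcardE hEQ hZE hwr
        (Subgroup.mem_zpowers w))

end Cfsg.Agent.Helper3.BG1211
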