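import Mathlib
import Cfsg.Prelude
import Cfsg.Agent.Helper3.BG1211e
import Cfsg.Agent.Helper3.BG131a
import Cfsg.Agent.Helper4.BG14P5
import Cfsg.Agent.Helper4.BG10d
import Cfsg.Agent.S1414
import Cfsg.Agent.S1427

set_option autoImplicit false
set_option linter.unusedSectionVars false
set_option linter.unusedVariables false

/-!
BG 12.10(b), abelian case: the irreducible case is contradictory (BG 12.11(c)).  Part 2: the maximal
subgroup `L ≥ N(A)`.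
-/

namespace Cfsg.Agent.Helper3.BG1211

open Cfsg Cfsg.Agent.Lead.BG127

universe u

variable {G : Type u} [Group G] [Finite G]
variable {M E : Subgroup G} {p : ℕ} [hp : Fact p.Prime] {A P : Subgroup G}

theorem ACtx.hA' (c : ACtx M E p A P) :
    A ≤ E ∧ Cfsg.IsElementaryAbelian p A ∧ Nat.card A = p ^ 2 :=
  ⟨c.ctx.le, c.ctx.elem, c.ctx.card⟩

theorem ACtx.mem_sigma_L (c : ACtx M E p A P) {L : Subgroup G} (hL : IsCoatom L)
    (hNL : Subgroup.normalizer (A : Set G) ≤ L) : L ≠ M ∧ p ∈ Cfsg.sigma L :=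
  Cfsg.Agent.Helper4.BG14.mem_sigma_of_normalizer_ea_le c.ctx.min c.ctx.coatom hL c.ctx.tau
    c.ctx.compl c.hA' hNL

theorem ACtx.le_sigmaCore_L (c : ACtx M E p A P) {L : Subgroup G} (hL : IsCoatom L)
    (hNL : Subgroup.normalizer (A : Set G) ≤ L) {Y : Subgroup G} (hYL : Y ≤ L)
    (hYp : IsPGroup p ↥Y) : Y ≤ Cfsg.sigmaCore L := by
  apply Cfsg.Agent.Helper4.BG12.le_sigmaCore_of_isPi c.ctx.min hL hYL
  intro t ht htd
  obtain ⟨k, hk⟩ := IsPGroup.iff_card.mp hYp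
  rw [hk] at htd
  have : t = p := (Nat.prime_dvd_prime_iff_eq ht hp.out).1 (ht.dvd_of_dvd_pow htd)
  rw [this]
  exact (c.mem_sigma_L hL hNL).2

/-- **(4c)** -/
theorem ACtx.not_mem_sigma_L (c : ACtx M E p A P) {L : Subgroup G} (hL : IsCoatom L)
    (hNL : Subgroup.normalizer (A : Set G) ≤ L) {r : ℕ} [hr : Fact r.Prime] (hrp : r ≠ p)
    {w : G} (hwE : w ∈ E) (hwr : IsPGroup r ↥(Subgroup.zpowers w)) (hns : w ∉ scalarSub A) :
    r ∉ Cfsg.sigma L := by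
  intro hrσ
  have hG := c.ctx.min
  have hEL : E ≤ L := c.ctx.c126.1.1.trans hNL
  have hAL : A ≤ L := c.ctx.le.trans hEL
  have hpL : p ∣ Nat.card L := by
    have h1 : p ∣ Nat.card A := by rw [c.ctx.card]; exact dvd_pow_self p (by norm_num)
    exact h1.trans (Subgroup.card_dvd_of_le hAL)
  have hpβ : p ∉ Cfsg.beta L := by
    intro hβ
    exact Cfsg.Agent.Helper3.BG131.false_of_ideal_tau2 hG c.ctx.coatom c.ctx.tau
      ⟨c.ctx.leM, c.ctx.elem, c.ctx.card⟩ hβ.2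
  obtain ⟨P', N, hNn, hNP'⟩ := ((Cfsg.Agent.S1414.result hG L hL).2.2.2.2 p hp.out hpL hpβ).2.1
  haveI := hNn
  have hAσ : A ≤ Cfsg.sigmaCore L := c.le_sigmaCore_L hL hNL hAL c.ctx.isPGroup
  have hWσ : Subgroup.zpowers w ≤ Cfsg.sigmaCore L := by
    apply Cfsg.Agent.Helper4.BG12.le_sigmaCore_of_isPi hG hL ((Subgroup.zpowers_le.2 hwE).trans hEL)
    intro t ht htd
    obtain ⟨k, hk⟩ := IsPGroup.iff_card.mp hwr
    rw [hk] at htd
    have : t = r := (Nat.prime_dvd_prime_iff_eq ht hr.out).1 (ht.dvd_of_dvd_pow htd)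
    rw [this]; exact hrσ
  have hwσ : w ∈ Cfsg.sigmaCore L := hWσ (Subgroup.mem_zpowers w)
  -- `w ∈ N`
  have hidx : N.index = Nat.card (P' : Subgroup ↥(Cfsg.sigmaCore L)) := hNP'.symm.index_eq_card
  have hwo : orderOf (⟨w, hwσ⟩ : ↥(Cfsg.sigmaCore L)) = orderOf w := by
    rw [← Subgroup.orderOf_coe]
  have hcop : N.index.Coprime (orderOf (⟨w, hwσ⟩ : ↥(Cfsg.sigmaCore L))) := by
    rw [hidx, hwo]
    obtain ⟨k, hk⟩ := IsPGroup.iff_card.mp P'.isPGroup'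
    obtain ⟨j, hj⟩ := IsPGroup.iff_card.mp hwr
    rw [hk, ← Nat.card_zpowers, hj]
    exact Nat.Coprime.pow _ _ ((Nat.coprime_primes hp.out hr.out).2 (Ne.symm hrp))
  obtain ⟨m, hm⟩ := exists_pow_eq_self_of_coprime hcop
  have hwN : (⟨w, hwσ⟩ : ↥(Cfsg.sigmaCore L)) ∈ N := by
    rw [← hm]
    exact N.pow_mem (N.pow_index_mem _) m
  -- `p ∤ |N|`
  have hpN : ¬ p ∣ Nat.card N := by
    intro hd
    have h1 := hNP'.card_mul_card
    have h2 : Nat.card (P' : Subgroup ↥(Cfsg.sigmaCore L)) =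
        p ^ (Nat.card ↥(Cfsg.sigmaCore L)).factorization p := P'.card_eq_multiplicity
    have h3 : p * Nat.card (P' : Subgroup ↥(Cfsg.sigmaCore L)) ∣
        Nat.card N * Nat.card (P' : Subgroup ↥(Cfsg.sigmaCore L)) :=
      Nat.mul_dvd_mul hd (dvd_refl _)
    rw [h1, h2, ← pow_succ'] at h3
    exact Nat.pow_succ_factorization_not_dvd Nat.card_pos.ne' hp.out h3
  apply hns
  apply mem_scalarSub_of_commute
  intro a ha
  have haσ : a ∈ Cfsg.sigmaCore L := hAσ ha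
  have htN : (⟨a, haσ⟩ : ↥(Cfsg.sigmaCore L)) * ⟨w, hwσ⟩ * (⟨a, haσ⟩ : ↥(Cfsg.sigmaCore L))⁻¹ *
      (⟨w, hwσ⟩ : ↥(Cfsg.sigmaCore L))⁻¹ ∈ N :=
    N.mul_mem (hNn.conj_mem _ hwN _) (N.inv_mem hwN)
  have htA : a * w * a⁻¹ * w⁻¹ ∈ A := by
    have h1 : w * a⁻¹ * w⁻¹ ∈ A :=
      (Subgroup.mem_normalizer_iff.1 (c.ctx.c126.1.1 hwE) a⁻¹).1 (A.inv_mem ha)
    have : a * w * a⁻¹ * w⁻¹ = a * (w * a⁻¹ * w⁻¹) := by group
    rw [this]; exact A.mul_mem ha h1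
  have ht1 : a * w * a⁻¹ * w⁻¹ = 1 := by
    have ho1 : orderOf (a * w * a⁻¹ * w⁻¹) ∣ p :=
      orderOf_dvd_of_pow_eq_one (c.ctx.elem.2 _ htA)
    have ho2 : orderOf (a * w * a⁻¹ * w⁻¹) ∣ Nat.card N := by
      have h1 := Subgroup.orderOf_dvd_natCard N htN
      rwa [← Subgroup.orderOf_coe] at h1
    rcases (Nat.dvd_prime hp.out).1 ho1 with h1 | h1
    · exact orderOf_eq_one_iff.1 h1
    · exact absurd (h1 ▸ ho2) hpN
  calc w * a = (a * w * a⁻¹ * w⁻¹)⁻¹ * (a * w) := by group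
    _ = a * w := by rw [ht1, inv_one, one_mul]

/-- **(4d)** -/
theorem ACtx.not_pRankLE_one_L (c : ACtx M E p A P) {L : Subgroup G} (hL : IsCoatom L)
    (hNL : Subgroup.normalizer (A : Set G) ≤ L) {r : ℕ} [hr : Fact r.Prime]
    (hrσL : r ∉ Cfsg.sigma L)
    {w : G} (hwE : w ∈ E) (hwr : IsPGroup r ↥(Subgroup.zpowers w)) (hns : w ∉ scalarSub A)
    {e₁ : G} (he₁ : e₁ ∈ Subgroup.zpowers w) (he₁1 : e₁ ≠ 1) (he₁A : ∀ a ∈ A, e₁ * a = a * e₁) :
    ¬ Cfsg.PRankLE r 1 ↥L := by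
  intro hr1
  have hG := c.ctx.min
  have hEL : E ≤ L := c.ctx.c126.1.1.trans hNL
  have hAL : A ≤ L := c.ctx.le.trans hEL
  have hWL : Subgroup.zpowers w ≤ L := (Subgroup.zpowers_le.2 hwE).trans hEL
  have hAσ : A ≤ Cfsg.sigmaCore L := c.le_sigmaCore_L hL hNL hAL c.ctx.isPGroup
  obtain ⟨E', hE', hWE'⟩ := Cfsg.Agent.Helper4.BG10.exists_compl_sigmaCore_ge hG hL hWL (by
    intro t ht htd
    obtain ⟨k, hk⟩ := IsPGroup.iff_card.mp hwr
    rw [hk] at htd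
    have : t = r := (Nat.prime_dvd_prime_iff_eq ht hr.out).1 (ht.dvd_of_dvd_pow htd)
    rw [this]; exact hrσL)
  obtain ⟨S, hS⟩ := (hwr.comap_subtype : IsPGroup r ↥((Subgroup.zpowers w).subgroupOf E')).exists_le_sylow
  have hSmapL : (S : Subgroup ↥E').map E'.subtype ≤ L := by
    rintro _ ⟨x, -, rfl⟩
    exact hE'.1 x.2
  have hSmapr : IsPGroup r ↥((S : Subgroup ↥E').map E'.subtype) := S.isPGroup'.map _
  have hcyc : IsCyclic ↥((S : Subgroup ↥E').map E'.subtype) :=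
    Cfsg.Agent.Lead.BG12.isCyclic_of_pRankLE_one hG.1 hr1 hSmapL hSmapr
  have hSc : IsCyclic ↥(S : Subgroup ↥E') := by
    haveI := hcyc
    exact isCyclic_of_surjective
      ((S : Subgroup ↥E').equivMapOfInjective E'.subtype E'.subtype_injective).symm.toMonoidHom
      ((S : Subgroup ↥E').equivMapOfInjective E'.subtype E'.subtype_injective).symm.surjective
  have hmemS : ∀ y ∈ Subgroup.zpowers w, y ∈ (S : Subgroup ↥E').map E'.subtype := by
    intro y hy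
    exact ⟨⟨y, hWE' hy⟩, hS (Subgroup.mem_subgroupOf.2 hy), rfl⟩
  have hS1 : (S : Subgroup ↥E') ≠ ⊥ := by
    intro hbot
    obtain ⟨x, hx, hxe⟩ := hmemS e₁ he₁
    have hx' : x ∈ (S : Subgroup ↥E') := hx
    rw [hbot, Subgroup.mem_bot] at hx'
    rw [hx'] at hxe
    exact he₁1 hxe.symm
  have h1427 := Cfsg.Agent.S1427.result hG L hL E' hE' r S hS1 hSc e₁ (hmemS e₁ he₁) he₁1
  apply hns
  apply mem_scalarSub_of_commute
  intro a ha
  have h1 : a ∈ Cfsg.sigmaCore L ⊓ Subgroup.centralizer ({e₁} : Set G) := by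
    refine Subgroup.mem_inf.2 ⟨hAσ ha, ?_⟩
    rw [Subgroup.mem_centralizer_singleton_iff]
    exact (he₁A a ha).symm
  rw [h1427] at h1
  exact Subgroup.mem_centralizer_iff.1 (Subgroup.mem_inf.1 h1).2 w (hmemS w (Subgroup.mem_zpowers w))

end Cfsg.Agent.Helper3.BG1211
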