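import Mathlib
import Cfsg.Prelude
import Cfsg.Agent.Helper3.BG1211f
import Cfsg.Agent.Helper4.BG13a
import Cfsg.Agent.Helper4.BG12f

set_option autoImplicit false
set_option linter.unusedSectionVars false
set_option linter.unusedVariables false

/-!
BG 12.10(b), abelian case: the irreducible case is contradictory (BG 12.11(c)).  Part 3: the final
contradiction.
-/

namespace Cfsg.Agent.Helper3.BG1211

open Cfsg Cfsg.Agent.Lead.BG127

universe u

variable {G : Type u} [Group G] [Finite G]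
variable {M E : Subgroup G} {p : ℕ} [hp : Fact p.Prime] {A P : Subgroup G}

/-- an element commuting with the irreducible `w`, not centralizing `A`, is fixed-point-free on `A` -/
theorem ACtx.fixed_eq_one (c : ACtx M E p A P) {w : G}
    (hwN : w ∈ Subgroup.normalizer (A : Set G))
    (hirr : ∀ x ∈ A, x ≠ 1 → w * x * w⁻¹ ∉ Subgroup.zpowers x) {v : G} (hvw : v * w = w * v)
    (hvC : v ∉ Subgroup.centralizer (A : Set G)) {a : G} (ha : a ∈ A) (hva : v * a = a * v) :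
    a = 1 := by
  by_contra ha1
  have haD : a ∈ A ⊓ Subgroup.centralizer ({v} : Set G) := by
    refine Subgroup.mem_inf.2 ⟨ha, ?_⟩
    rw [Subgroup.mem_centralizer_singleton_iff]; exact hva.symm
  have hDA : A ⊓ Subgroup.centralizer ({v} : Set G) ≤ A := inf_le_left
  have hDne : A ⊓ Subgroup.centralizer ({v} : Set G) ≠ A := by
    intro h
    apply hvC
    rw [Subgroup.mem_centralizer_iff]
    intro x hx
    have hxA : x ∈ A := hx
    have : x ∈ A ⊓ Subgroup.centralizer ({v} : Set G) := by rw [h]; exact hxA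
    exact Subgroup.mem_centralizer_singleton_iff.1 (Subgroup.mem_inf.1 this).2
  have hcardZ := c.ctx.card_zpowers ha ha1
  have hZD : Subgroup.zpowers a ≤ A ⊓ Subgroup.centralizer ({v} : Set G) :=
    Subgroup.zpowers_le.2 haD
  have hd1 : Nat.card ↥(A ⊓ Subgroup.centralizer ({v} : Set G)) ∣ p ^ 2 := by
    rw [← c.ctx.card]; exact Subgroup.card_dvd_of_le hDA
  have hcardD : Nat.card ↥(A ⊓ Subgroup.centralizer ({v} : Set G)) = p := by
    obtain ⟨i, hi, hpi⟩ := (Nat.dvd_prime_pow hp.out).1 hd1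
    have h0 : i ≠ 0 := by
      rintro rfl
      rw [pow_zero] at hpi
      have := Subgroup.card_dvd_of_le hZD
      rw [hpi, hcardZ] at this
      exact hp.out.one_lt.ne' (Nat.dvd_one.1 this)
    have h2 : i ≠ 2 := by
      rintro rfl
      apply hDne
      exact Subgroup.eq_of_le_of_card_ge hDA (by rw [hpi, c.ctx.card])
    have : i = 1 := by omega
    rw [hpi, this, pow_one]
  have hDZ : Subgroup.zpowers a = A ⊓ Subgroup.centralizer ({v} : Set G) :=
    Subgroup.eq_of_le_of_card_ge hZD (by rw [hcardD, hcardZ])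
  apply hirr a ha ha1
  rw [hDZ]
  refine Subgroup.mem_inf.2 ⟨(Subgroup.mem_normalizer_iff.1 hwN a).1 ha, ?_⟩
  rw [Subgroup.mem_centralizer_singleton_iff]
  calc w * a * w⁻¹ * v = w * a * (w⁻¹ * (v * w)) * w⁻¹ := by group
    _ = w * a * (w⁻¹ * (w * v)) * w⁻¹ := by rw [hvw]
    _ = w * (a * v) * w⁻¹ := by group
    _ = w * (v * a) * w⁻¹ := by rw [hva]
    _ = (w * v) * a * w⁻¹ := by group
    _ = (v * w) * a * w⁻¹ := by rw [hvw]
    _ = v * (w * a * w⁻¹) := by group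

/-- **(ii)**: an element of order dividing `r` of `N(A)` commuting with the irreducible `r`-element
`w ∈ E` lies in `M`. -/
theorem ACtx.mem_of_commute_irreducible (c : ACtx M E p A P) {r : ℕ} [hr : Fact r.Prime]
    (hrp : r ≠ p) {w : G} (hwE : w ∈ E) (hwr : IsPGroup r ↥(Subgroup.zpowers w))
    (hirr : ∀ x ∈ A, x ≠ 1 → w * x * w⁻¹ ∉ Subgroup.zpowers x) {b : G}
    (hbN : b ∈ Subgroup.normalizer (A : Set G)) (hbw : b * w = w * b) (hbr : b ^ r = 1) :
    b ∈ M := by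
  classical
  have hEM : E ≤ M := c.ctx.compl.1
  have hEN : E ≤ Subgroup.normalizer (A : Set G) := c.ctx.c126.1.1
  have hwN : w ∈ Subgroup.normalizer (A : Set G) := hEN hwE
  have hCM : Subgroup.centralizer (A : Set G) ≤ M := c.centralizer_le.trans hEM
  obtain ⟨a₀, ha₀, ha₀1⟩ : ∃ a₀ ∈ A, a₀ ≠ 1 := by
    by_contra hcon
    apply c.ctx.ne_bot
    rw [Subgroup.eq_bot_iff_forall]
    intro x hx
    by_contra hx1
    exact hcon ⟨x, hx, hx1⟩
  -- `w ∉ C(A)`
  have hwC : w ∉ Subgroup.centralizer (A : Set G) := by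
    intro hw
    apply hirr a₀ ha₀ ha₀1
    have := Subgroup.mem_centralizer_iff.1 hw a₀ ha₀
    rw [← this, mul_inv_cancel_right]
    exact Subgroup.mem_zpowers a₀
  -- the least `j` with `w ^ r ^ j ∈ C(A)`
  have hex : ∃ j : ℕ, w ^ r ^ j ∈ Subgroup.centralizer (A : Set G) := by
    obtain ⟨k, hk⟩ := IsPGroup.iff_card.mp hwr
    rw [Nat.card_zpowers] at hk
    exact ⟨k, by rw [← hk, pow_orderOf_eq_one]; exact Subgroup.one_mem _⟩
  have hj := Nat.find_spec hex
  have hjmin := fun m => Nat.find_min hex (m := m)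
  have hj0 : Nat.find hex ≠ 0 := by
    intro h0
    rw [h0, pow_zero, pow_one] at hj
    exact hwC hj
  obtain ⟨j, hjj⟩ : ∃ j, Nat.find hex = j + 1 := ⟨Nat.find hex - 1, by omega⟩
  obtain ⟨u, hu⟩ : ∃ u : G, u = w ^ r ^ j := ⟨_, rfl⟩
  have huC : u ∉ Subgroup.centralizer (A : Set G) := by
    rw [hu]; exact hjmin j (by omega)
  have hurC : u ^ r ∈ Subgroup.centralizer (A : Set G) := by
    rw [hu, ← pow_mul, ← pow_succ, ← hjj]; exact hj
  have huE : u ∈ E := hu ▸ E.pow_mem hwE _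
  have huN : u ∈ Subgroup.normalizer (A : Set G) := hEN huE
  have huw : u * w = w * u := by
    rw [hu]; exact ((Commute.refl w).pow_left _).eq
  have hbu : Commute b u := by
    rw [hu]; exact (show Commute b w from hbw).pow_right _
  by_contra hbM
  have hvC : ∀ i : ℕ, b * u ^ i ∉ Subgroup.centralizer (A : Set G) := by
    intro i hv
    apply hbM
    have : b = (b * u ^ i) * (u ^ i)⁻¹ := by group
    rw [this]
    exact M.mul_mem (hCM hv) (M.inv_mem (M.pow_mem (hEM huE) i))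
  -- the action on `A`
  letI _cg : CommGroup A :=
    { (inferInstance : Group A) with
      mul_comm := fun x y => Subtype.ext (c.ctx.comm x.2 y.2) }
  obtain ⟨φ, hφ⟩ : ∃ φ : ↥(Subgroup.normalizer (A : Set G)) →* MulAut A,
      φ = Cfsg.Agent.Helper3.FrobG2.conjAct A (Subgroup.normalizer (A : Set G)) le_rfl := ⟨_, rfl⟩
  have hφapp : ∀ (n : ↥(Subgroup.normalizer (A : Set G))) (x : A),
      ((φ n x : A) : G) = (n : G) * x * (n : G)⁻¹ := by
    intro n x; rw [hφ]; rfl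
  have hφ1 : ∀ n : ↥(Subgroup.normalizer (A : Set G)),
      (n : G) ∈ Subgroup.centralizer (A : Set G) → φ n = 1 := by
    intro n hn
    apply MulEquiv.ext
    intro x
    apply Subtype.ext
    rw [hφapp, MulAut.one_apply]
    have := Subgroup.mem_centralizer_iff.1 hn x x.2
    rw [← this, mul_inv_cancel_right]
  have hfixed : ∀ (n : ↥(Subgroup.normalizer (A : Set G))) (x : A), φ n x = x →
      (n : G) * x = x * (n : G) := by
    intro n x hx
    have h1 := congrArg Subtype.val hx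
    rw [hφapp] at h1
    calc (n : G) * x = ((n : G) * x * (n : G)⁻¹) * n := by group
      _ = x * n := by rw [h1]
  have hβr : (φ ⟨b, hbN⟩) ^ r = 1 := by
    rw [← map_pow]
    apply hφ1
    change b ^ r ∈ _
    rw [hbr]; exact Subgroup.one_mem _
  have hωr : (φ ⟨u, huN⟩) ^ r = 1 := by
    rw [← map_pow]
    apply hφ1
    exact hurC
  have hcomm : Commute (φ ⟨b, hbN⟩) (φ ⟨u, huN⟩) := by
    change φ ⟨b, hbN⟩ * φ ⟨u, huN⟩ = φ ⟨u, huN⟩ * φ ⟨b, hbN⟩
    rw [← map_mul, ← map_mul]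
    congr 1
    exact Subtype.ext hbu.eq
  have hfix : ∀ i : ℕ, ∀ x : A, (φ ⟨b, hbN⟩ * (φ ⟨u, huN⟩) ^ i) x = x → x = 1 := by
    intro i x hx
    rw [← map_pow, ← map_mul] at hx
    have h1 := hfixed _ x hx
    apply Subtype.ext
    refine c.fixed_eq_one hwN hirr (v := b * u ^ i) ?_ (hvC i) x.2 h1
    have hc : Commute (b * u ^ i) w :=
      (show Commute b w from hbw).mul_left ((show Commute u w from huw).pow_left i)
    exact hc.eq
  have hfixω : ∀ x : A, (φ ⟨u, huN⟩) x = x → x = 1 := by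
    intro x hx
    have h1 := hfixed _ x hx
    apply Subtype.ext
    exact c.fixed_eq_one hwN hirr huw huC x.2 h1
  have hall := pow_eq_one_of_free_pair (φ ⟨b, hbN⟩) (φ ⟨u, huN⟩) hcomm hβr hωr hfix hfixω
    (⟨a₀, ha₀⟩ : A)
  have h1 : a₀ ^ r = 1 := by
    have := congrArg Subtype.val hall
    exact this
  have h2 : a₀ ^ p = 1 := c.ctx.elem.2 a₀ ha₀
  have h3 : orderOf a₀ ∣ Nat.gcd r p := Nat.dvd_gcd (orderOf_dvd_of_pow_eq_one h1)
    (orderOf_dvd_of_pow_eq_one h2)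
  rw [(Nat.coprime_primes hr.out hp.out).2 hrp, Nat.dvd_one, orderOf_eq_one_iff] at h3
  exact ha₀1 h3

/-- **(4e)–(4h)** -/
theorem ACtx.false_of_rank_two (c : ACtx M E p A P) {L : Subgroup G} (hL : IsCoatom L)
    (hNL : Subgroup.normalizer (A : Set G) ≤ L) {r : ℕ} [hr : Fact r.Prime] (hrp : r ≠ p)
    (hrτ : r ∈ Cfsg.tau1 M) (hrσL : r ∉ Cfsg.sigma L) (hr1L : ¬ Cfsg.PRankLE r 1 ↥L)
    {w : G} (hwE : w ∈ E) (hwr : IsPGroup r ↥(Subgroup.zpowers w))
    (hirr : ∀ x ∈ A, x ≠ 1 → w * x * w⁻¹ ∉ Subgroup.zpowers x) : False := by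
  have hG := c.ctx.min
  have hNPL : Subgroup.normalizer (P : Set G) ≤ L := c.normalizer_le.trans hNL
  have hPL : P ≤ L := Subgroup.le_normalizer.trans hNPL
  have hPσ : P ≤ Cfsg.sigmaCore L := c.le_sigmaCore_L hL hNL hPL c.pgroup
  have hσL : Cfsg.sigmaCore L ≤ L := Cfsg.Agent.Lead.BG12.sigmaCore_le
  have hLσ : L ≤ Subgroup.normalizer ((Cfsg.sigmaCore L : Subgroup G) : Set G) :=
    Cfsg.Agent.Lead.BG12.le_normalizer_sigmaCore L
  have hPcardσ : Nat.card P = p ^ (Nat.card ↥(Cfsg.sigmaCore L)).factorization p := by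
    apply Cfsg.Agent.Lead.card_eq_ppart_of_le hPσ (le_top : Cfsg.sigmaCore L ≤ ⊤) c.pgroup
    rw [Subgroup.card_top]; exact c.card
  have hfr := Cfsg.Agent.Helper4.BG13.frattini_of_card_eq_ppart hLσ hPσ c.pgroup hPcardσ
  have hsup : Cfsg.sigmaCore L ⊔ Subgroup.normalizer (P : Set G) = L := by
    apply le_antisymm (sup_le hσL hNPL)
    intro h hh
    obtain ⟨c₀, hc₀, hc₀N⟩ := hfr h hh
    have : h = c₀ * (c₀⁻¹ * h) := by group
    rw [this]
    exact Subgroup.mul_mem_sup hc₀ hc₀N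
  have hcard := Cfsg.Agent.Helper1.card_sup_mul_card_inf
    (N := Cfsg.sigmaCore L) (A := Subgroup.normalizer (P : Set G)) (hNPL.trans hLσ)
  rw [hsup] at hcard
  have hrσcard : ¬ r ∣ Nat.card ↥(Cfsg.sigmaCore L) :=
    fun hd => hrσL (Cfsg.Agent.Lead.BG12.mem_sigma_of_dvd_card_sigmaCore hr.out hd)
  have hrinf : ¬ r ∣ Nat.card ↥(Cfsg.sigmaCore L ⊓ Subgroup.normalizer (P : Set G)) :=
    fun hd => hrσcard (hd.trans (Subgroup.card_dvd_of_le inf_le_left))
  have hfac : (Nat.card L).factorization r =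
      (Nat.card ↥(Subgroup.normalizer (P : Set G))).factorization r := by
    have h6 := congrArg (fun n : ℕ => n.factorization r) hcard
    simp only [Nat.factorization_mul Nat.card_pos.ne' Nat.card_pos.ne', Finsupp.add_apply,
      Nat.factorization_eq_zero_of_not_dvd hrσcard,
      Nat.factorization_eq_zero_of_not_dvd hrinf, zero_add, add_zero] at h6
    exact h6
  have hWN : Subgroup.zpowers w ≤ Subgroup.normalizer (P : Set G) :=
    (Subgroup.zpowers_le.2 hwE).trans c.le_normalizer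
  obtain ⟨T, hWT, hTN, hTr, hTcard⟩ := Cfsg.Agent.Lead.exists_le_card_eq_ppart hwr hWN
  rw [← hfac] at hTcard
  have hTL : T ≤ L := hTN.trans hNPL
  obtain ⟨B₀, hB₀L, hB₀e, hB₀c⟩ := Cfsg.Agent.Helper4.BG12.exists_ea2_of_not_pRankLE_one hG hr1L
  have hB₀r : IsPGroup r ↥B₀ := IsPGroup.of_card hB₀c
  obtain ⟨m, hm, hmB⟩ := Cfsg.Agent.Lead.exists_conj_le_of_card_eq_ppart hTL hTcard hB₀L hB₀r
  have hTab := Cfsg.Agent.Helper4.BG12.commute_of_isPGroup_of_not_mem_sigma hG hL hrσL hTL hTr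
  have hwT : w ∈ T := hWT (Subgroup.mem_zpowers w)
  -- `B ≤ M`
  have hBM : B₀.map (MulAut.conj m).toMonoidHom ≤ M := by
    rintro _ ⟨b₀, hb₀, rfl⟩
    have hbT : (MulAut.conj m).toMonoidHom b₀ ∈ T := hmB ⟨b₀, hb₀, rfl⟩
    apply c.mem_of_commute_irreducible hrp hwE hwr hirr (c.normalizer_le (hTN hbT))
      (hTab _ hbT w hwT)
    simp only [MulEquiv.coe_toMonoidHom, MulAut.conj_apply]
    rw [conj_pow, hB₀e.2 b₀ hb₀, mul_one, mul_inv_cancel]
  have hBr : IsPGroup r ↥(B₀.map (MulAut.conj m).toMonoidHom) := hB₀r.map _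
  have hcyc := Cfsg.Agent.Lead.BG12.isCyclic_of_pRankLE_one hG.1 hrτ.2.2.2.2 hBM hBr
  refine Cfsg.Agent.Helper4.BG12.not_isCyclic_of_ea2 (p := r) ?_ ?_ hcyc
  · rintro _ ⟨b₀, hb₀, rfl⟩
    simp only [MulEquiv.coe_toMonoidHom, MulAut.conj_apply]
    rw [conj_pow, hB₀e.2 b₀ hb₀, mul_one, mul_inv_cancel]
  · rw [Cfsg.Agent.Lead.card_map_conj, hB₀c]

/-- **The irreducible case is contradictory.** -/
theorem ACtx.false_of_irreducible (c : ACtx M E p A P)
    (h : ∀ e ∈ E, e ≠ 1 → (∀ q : ℕ, q.Prime → q ∣ orderOf e → q ∈ Cfsg.tau1 M ∪ Cfsg.tau3 M) →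
      Cfsg.sigmaCore M ⊓ Subgroup.centralizer ({e} : Set G) = ⊥)
    (hab : ∀ q : ℕ, q ∈ Cfsg.tau2 M → ∀ [Fact q.Prime], ∃ S : Sylow q G,
      IsMulCommutative ((S : Subgroup G)))
    (hall : ∀ e ∈ E, e ∈ scalarSub A ∨ (∀ x ∈ A, x ≠ 1 → e * x * e⁻¹ ∉ Subgroup.zpowers x))
    {w : G} (hwE : w ∈ E) (hns : w ∉ scalarSub A) : False := by
  have hG := c.ctx.min
  obtain ⟨r, hr, w', hw'z, hw'r, hw'ns⟩ := exists_prime_power_nonscalar hns
  haveI : Fact r.Prime := ⟨hr⟩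
  have hw'E : w' ∈ E := Subgroup.zpowers_le.2 hwE hw'z
  have hirr := (hall w' hw'E).resolve_left hw'ns
  obtain ⟨hrp, hrτ⟩ := c.mem_tau1_of_nonscalar hab hw'E hw'r hw'ns
  -- the element of order `r`
  have hw'1 : w' ≠ 1 := by
    rintro rfl
    exact hw'ns (Subgroup.one_mem _)
  have hrd : r ∣ orderOf w' := by
    obtain ⟨k, hk⟩ := IsPGroup.iff_card.mp hw'r
    rw [Nat.card_zpowers] at hk
    rw [hk]
    apply dvd_pow_self
    rintro rfl
    rw [pow_zero, orderOf_eq_one_iff] at hk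
    exact hw'1 hk
  obtain ⟨e₁, he₁def⟩ : ∃ e₁ : G, e₁ = w' ^ (orderOf w' / r) := ⟨_, rfl⟩
  have he₁o : orderOf e₁ = r := by
    rw [he₁def]
    exact orderOf_pow_orderOf_div (orderOf_pos w').ne' hrd
  have he₁z : e₁ ∈ Subgroup.zpowers w' := he₁def ▸ Subgroup.pow_mem _ (Subgroup.mem_zpowers _) _
  have he₁E : e₁ ∈ E := Subgroup.zpowers_le.2 hw'E he₁z
  have he₁1 : e₁ ≠ 1 := by
    intro h1
    rw [h1, orderOf_one] at he₁o
    exact hr.one_lt.ne he₁o
  have hreg := h e₁ he₁E he₁1 (by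
    intro q hq hqd
    rw [he₁o] at hqd
    have : q = r := (Nat.prime_dvd_prime_iff_eq hq hr).1 hqd
    rw [this]; exact Or.inl hrτ)
  have he₁A := c.centralizes_of_prime_order he₁E hr he₁o hrτ.2.1 hreg (by
    rcases hall e₁ he₁E with h1 | h1
    · exact Or.inl (mem_scalarSub.1 h1)
    · exact Or.inr h1)
  -- the maximal subgroup `L ≥ N(A)`
  have hAtop : A ≠ ⊤ := by
    intro hA
    have h2 : (⊤ : Subgroup G) ≤ M := hA ▸ c.ctx.leM
    exact c.ctx.coatom.1 (top_le_iff.1 h2)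
  obtain ⟨L, hL, hNL⟩ := Cfsg.Agent.Helper1.BGU.exists_coatom_ge
    (Cfsg.Agent.Helper1.BGU.normalizer_ne_top_of_simple hG c.ctx.ne_bot hAtop)
  have hrσL := c.not_mem_sigma_L hL hNL hrp hw'E hw'r hw'ns
  have hr1L := c.not_pRankLE_one_L hL hNL hrσL hw'E hw'r hw'ns he₁z he₁1 he₁A
  exact c.false_of_rank_two hL hNL hrp hrτ hrσL hr1L hw'E hw'r hirr

end Cfsg.Agent.Helper3.BG1211
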