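import Mathlib
import Cfsg.Prelude
import Cfsg.Agent.Helper3.BG1211g

set_option autoImplicit false
set_option linter.unusedSectionVars false
set_option linter.unusedVariables false

/-!
BG 12.10(b), abelian case: an `E`-invariant regular line in the image of the power map, and the
`E`-invariant cyclic subgroup of order `exp P` over it.
-/

namespace Cfsg.Agent.Helper3.BG1211

open Cfsg Cfsg.Agent.Lead.BG127

universe u

variable {G : Type u} [Group G] [Finite G]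
variable {M E : Subgroup G} {p : ℕ} [hp : Fact p.Prime] {A P : Subgroup G}

theorem ACtx.exists_regular_line (c : ACtx M E p A P)
    (h : ∀ e ∈ E, e ≠ 1 → (∀ q : ℕ, q.Prime → q ∣ orderOf e → q ∈ Cfsg.tau1 M ∪ Cfsg.tau3 M) →
      Cfsg.sigmaCore M ⊓ Subgroup.centralizer ({e} : Set G) = ⊥)
    (hab : ∀ q : ℕ, q ∈ Cfsg.tau2 M → ∀ [Fact q.Prime], ∃ S : Sylow q G,
      IsMulCommutative ((S : Subgroup G)))
    (a : ℕ) (hexp : ∀ s ∈ P, s ^ (p ^ (a + 1)) = 1) {s₀ : G} (hs₀ : s₀ ∈ P)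
    (hz₀ : s₀ ^ (p ^ a) ≠ 1) :
    ∃ s₁ ∈ P, s₁ ^ (p ^ a) ≠ 1 ∧
      (∀ e ∈ E, e * s₁ ^ (p ^ a) * e⁻¹ ∈ Subgroup.zpowers (s₁ ^ (p ^ a))) ∧
      Cfsg.sigmaCore M ⊓
        Subgroup.centralizer ((Subgroup.zpowers (s₁ ^ (p ^ a)) : Subgroup G) : Set G) = ⊥ := by
  have hEN : E ≤ Subgroup.normalizer (A : Set G) := c.ctx.c126.1.1
  have hpowA : ∀ s ∈ P, s ^ (p ^ a) ∈ A := by
    intro s hs
    apply c.mem_of_pow_eq_one (P.pow_mem hs _)
    rw [← pow_mul, ← pow_succ]; exact hexp s hs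
  by_cases hα : ∀ s ∈ P, s ^ (p ^ a) ∈ Subgroup.zpowers (s₀ ^ (p ^ a))
  · have hN : ∀ n ∈ Subgroup.normalizer (P : Set G),
        n * s₀ ^ (p ^ a) * n⁻¹ ∈ Subgroup.zpowers (s₀ ^ (p ^ a)) := by
      intro n hn
      rw [← conj_pow]
      exact hα _ ((Subgroup.mem_normalizer_iff.1 hn s₀).1 hs₀)
    exact ⟨s₀, hs₀, hz₀, fun e he => hN e (c.le_normalizer he),
      c.regular_of_normalizer (hpowA s₀ hs₀) hz₀ c.normalizer_not_le hN⟩
  · simp only [not_forall] at hα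
    obtain ⟨s₂, hs₂, hz₂⟩ := hα
    have hsurj : ∀ x ∈ A, ∃ s ∈ P, s ^ (p ^ a) = x := by
      intro x hx
      obtain ⟨i, j, rfl⟩ := c.exists_mul_pow (hpowA s₀ hs₀) hz₀ (hpowA s₂ hs₂) hz₂ x hx
      refine ⟨s₀ ^ i * s₂ ^ j, P.mul_mem (P.zpow_mem hs₀ i) (P.zpow_mem hs₂ j), ?_⟩
      have hc : Commute (s₀ ^ i) (s₂ ^ j) := c.comm _ (P.zpow_mem hs₀ i) _ (P.zpow_mem hs₂ j)
      rw [hc.mul_pow]
      congr 1
      · rw [← zpow_natCast, ← zpow_mul, ← zpow_natCast s₀ (p ^ a), ← zpow_mul, mul_comm]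
      · rw [← zpow_natCast, ← zpow_mul, ← zpow_natCast s₂ (p ^ a), ← zpow_mul, mul_comm]
    by_cases hsc : ∀ e ∈ E, e ∈ scalarSub A
    · obtain ⟨A₁, hA₁A, hA₁c, hA₁reg⟩ := c.ctx.t125.2.2.2.2.2
      have h1 : 1 < Nat.card A₁ := hA₁c ▸ hp.out.one_lt
      obtain ⟨x, hx, hx1⟩ := Cfsg.Agent.Helper1.BGT.exists_ne_one_of_one_lt_card h1
      have hxA : x ∈ A := hA₁A hx
      have hZ : Subgroup.zpowers x = A₁ :=
        Subgroup.eq_of_le_of_card_ge (Subgroup.zpowers_le.2 hx)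
          (by rw [c.ctx.card_zpowers hxA hx1, hA₁c])
      obtain ⟨s₁, hs₁, rfl⟩ := hsurj x hxA
      refine ⟨s₁, hs₁, hx1, fun e he => mem_scalarSub.1 (hsc e he) _ hxA, ?_⟩
      rw [hZ]; exact hA₁reg
    · simp only [not_forall] at hsc
      obtain ⟨w, hwE, hns⟩ := hsc
      by_cases hred : ∃ e ∈ E, e ∉ scalarSub A ∧ ∃ x ∈ A, x ≠ 1 ∧ e * x * e⁻¹ ∈ Subgroup.zpowers x
      · obtain ⟨e, heE, hens, x, hxA, hx1, hex⟩ := hred
        have hN := c.normalizer_fixes_of_eigen (hEN heE) (fun hh => hens (mem_scalarSub.2 hh))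
          hxA hx1 hex
        obtain ⟨s₁, hs₁, rfl⟩ := hsurj x hxA
        exact ⟨s₁, hs₁, hx1, fun e' he' => hN e' (hEN he'),
          c.regular_of_normalizer hxA hx1 c.normalizerA_not_le hN⟩
      · exfalso
        have hall : ∀ e ∈ E, e ∈ scalarSub A ∨
            (∀ x ∈ A, x ≠ 1 → e * x * e⁻¹ ∉ Subgroup.zpowers x) := by
          intro e heE
          by_cases hes : e ∈ scalarSub A
          · exact Or.inl hes
          · refine Or.inr ?_
            intro x hxA hx1 hex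
            exact hred ⟨e, heE, hes, x, hxA, hx1, hex⟩
        exact c.false_of_irreducible h hab hall hwE hns

end Cfsg.Agent.Helper3.BG1211
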