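import Mathlib
import Cfsg.Prelude
import Cfsg.Agent.Helper1.Coprime
import Cfsg.Agent.Helper1.Card

set_option autoImplicit false
set_option linter.unusedSectionVars false
set_option linter.unusedVariables false

/-!
Pure group theory for BG 12.10(b): products with a normalized subgroup, coprime elements of a
product, and a criterion for two groups to have the same exponent.
-/

namespace Cfsg.Agent.Helper3.BG1211

universe u

variable {G : Type u} [Group G]

/-- powers of a product `a * k` with `a` in a subgroup normalized by `k` -/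
theorem mul_pow_mem_mul {N : Subgroup G} {a k : G} (ha : a ∈ N)
    (hk : k ∈ Subgroup.normalizer (N : Set G)) (n : ℕ) :
    ∃ a' ∈ N, (a * k) ^ n = a' * k ^ n := by
  induction n with
  | zero => exact ⟨1, N.one_mem, by simp⟩
  | succ n ih =>
    obtain ⟨a', ha', h⟩ := ih
    refine ⟨a' * (k ^ n * a * (k ^ n)⁻¹), N.mul_mem ha' ?_, ?_⟩
    · exact (Subgroup.mem_normalizer_iff.1 ((Subgroup.normalizer (N : Set G)).pow_mem hk n) a).1 ha
    · rw [pow_succ, h, pow_succ]; group

/-- an element of `N D` of order prime to `|D|` lies in `N` -/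
theorem mem_of_coprime_card_of_mem_sup [Finite G] {N D : Subgroup G}
    (hDN : D ≤ Subgroup.normalizer (N : Set G)) {g : G}
    (hg : g ∈ N ⊔ D) (hc : (orderOf g).Coprime (Nat.card D)) : g ∈ N := by
  obtain ⟨a, ha, k, hk, rfl⟩ := Cfsg.Agent.Helper1.mem_sup_of_le_normalizer hDN hg
  obtain ⟨a', ha', h⟩ := mul_pow_mem_mul ha (hDN hk) (orderOf (a * k))
  rw [pow_orderOf_eq_one] at h
  have hkm : k ^ orderOf (a * k) ∈ N := by
    have h1 : k ^ orderOf (a * k) = a'⁻¹ := eq_inv_of_mul_eq_one_right h.symm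
    rw [h1]; exact N.inv_mem ha'
  have hcop : (orderOf (a * k)).Coprime (orderOf k) :=
    Nat.Coprime.coprime_dvd_right (Subgroup.orderOf_dvd_natCard D hk) hc
  obtain ⟨m, hm⟩ := exists_pow_eq_self_of_coprime hcop
  have hkN : k ∈ N := by
    rw [← hm]; exact N.pow_mem hkm m
  exact N.mul_mem ha hkN

/-- the order of `a * k` divides that of `k` when `⟨a * k⟩` avoids the normalized subgroup -/
theorem orderOf_dvd_of_mul {N : Subgroup G} {a k : G} (ha : a ∈ N)
    (hk : k ∈ Subgroup.normalizer (N : Set G))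
    (hdisj : Subgroup.zpowers (a * k) ⊓ N = ⊥) : orderOf (a * k) ∣ orderOf k := by
  obtain ⟨a', ha', h⟩ := mul_pow_mem_mul ha hk (orderOf k)
  rw [pow_orderOf_eq_one, mul_one] at h
  apply orderOf_dvd_of_pow_eq_one
  have h1 : (a * k) ^ orderOf k ∈ Subgroup.zpowers (a * k) ⊓ N :=
    Subgroup.mem_inf.2 ⟨Subgroup.pow_mem _ (Subgroup.mem_zpowers _) _, h ▸ ha'⟩
  rw [hdisj, Subgroup.mem_bot] at h1
  exact h1

/-- criterion for equal exponents -/
theorem exponent_eq_of_forall [Finite G] {E₀ E : Subgroup G} (hle : E₀ ≤ E)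
    (h : ∀ e ∈ E, ∀ q k : ℕ, q.Prime → orderOf e = q ^ k → ∃ e₀ ∈ E₀, q ^ k ∣ orderOf e₀) :
    Monoid.exponent ↥E₀ = Monoid.exponent ↥E := by
  apply Nat.dvd_antisymm
  · apply Monoid.exponent_dvd_of_forall_pow_eq_one
    intro g
    have h1 := Monoid.pow_exponent_eq_one (⟨g.1, hle g.2⟩ : ↥E)
    apply Subtype.ext
    have h2 := congrArg Subtype.val h1
    simpa using h2
  · apply Monoid.exponent_dvd_of_forall_pow_eq_one
    intro g
    have hd : orderOf (g : G) ∣ Monoid.exponent ↥E₀ := by
      rw [Nat.dvd_iff_prime_pow_dvd_dvd]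
      intro q k hq hqk
      have ho : orderOf ((g : G) ^ (orderOf (g : G) / q ^ k)) = q ^ k :=
        orderOf_pow_orderOf_div (orderOf_pos _).ne' hqk
      obtain ⟨e₀, he₀, hd⟩ := h _ (E.pow_mem g.2 _) q k hq ho
      refine hd.trans ?_
      have : orderOf (⟨e₀, he₀⟩ : ↥E₀) = orderOf e₀ := Subgroup.orderOf_mk e₀ he₀
      rw [← this]
      exact Monoid.order_dvd_exponent _
    apply Subtype.ext
    have h2 : (g : G) ^ Monoid.exponent ↥E₀ = 1 := orderOf_dvd_iff_pow_eq_one.1 hd
    simpa using h2

/-- normalizing both factors normalizes the join -/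
theorem le_normalizer_sup' {E C D : Subgroup G} (hC : E ≤ Subgroup.normalizer (C : Set G))
    (hD : E ≤ Subgroup.normalizer (D : Set G)) :
    E ≤ Subgroup.normalizer ((C ⊔ D : Subgroup G) : Set G) :=
  (le_inf hC hD).trans (Subgroup.normalizer_inf_normalizer_le_normalizer_sup C D)

/-- the order of a product divides the product of the orders -/
theorem card_sup_dvd_mul [Finite G] {C D : Subgroup G} (hD : D ≤ Subgroup.normalizer (C : Set G)) :
    Nat.card ↥(C ⊔ D) ∣ Nat.card C * Nat.card D :=
  Dvd.intro _ (Cfsg.Agent.Helper1.card_sup_mul_card_inf hD)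

/-- an element of prime order has a regular centralizer-trace as soon as a power of it has -/
theorem centralizer_singleton_le_pow (e : G) (n : ℕ) :
    Subgroup.centralizer ({e} : Set G) ≤ Subgroup.centralizer ({e ^ n} : Set G) := by
  intro x hx
  rw [Subgroup.mem_centralizer_singleton_iff] at hx ⊢
  exact ((Commute.pow_left (show Commute e x from hx.symm) n)).eq.symm

end Cfsg.Agent.Helper3.BG1211
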