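import Mathlib
import Cfsg.Prelude
import Cfsg.Agent.Helper3.BG1211h
import Cfsg.Agent.Helper3.BG1211i
import Cfsg.Agent.Helper3.CoprimeHall

set_option autoImplicit false
set_option linter.unusedSectionVars false
set_option linter.unusedVariables false

/-!
BG 12.10(b), abelian case, one prime: an `E`-invariant cyclic subgroup of `P` of order `exp P`
whose socle acts regularly on `M_σ`.
-/

namespace Cfsg.Agent.Helper3.BG1211

open Cfsg Cfsg.Agent.Lead.BG127

universe u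

variable {G : Type u} [Group G] [Finite G]

/-- a `p`-complement of a solvable subgroup -/
theorem exists_pcompl (E : Subgroup G) (hsolv : Group.IsSolvable ↥E) (p : ℕ) [hp : Fact p.Prime] :
    ∃ H : Subgroup G, H ≤ E ∧ ¬ p ∣ Nat.card H ∧
      Nat.card H * p ^ (Nat.card E).factorization p = Nat.card E := by
  have hE0 : Nat.card E ≠ 0 := Nat.card_pos.ne'
  have hd : PiDecomp {q : ℕ | q ≠ p} (Nat.card E)
      (Nat.card E / p ^ (Nat.card E).factorization p) (p ^ (Nat.card E).factorization p) := by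
    refine ⟨by rw [mul_comm]; exact (Nat.ordProj_mul_ordCompl_eq_self (Nat.card E) p).symm, ?_, ?_⟩
    · intro q hq hqd hqp
      have : q = p := hqp
      subst this
      exact Nat.not_dvd_ordCompl hq hE0 hqd
    · intro q hq hqd hqp
      exact hqp ((Nat.prime_dvd_prime_iff_eq hq hp.out).1 (hq.dvd_of_dvd_pow hqd))
  obtain ⟨H, hHE, hHc, -⟩ := (hall_internal E hsolv hd).2 ⊥ bot_le
    (by rw [Subgroup.card_bot]; exact Nat.coprime_one_left _)
  refine ⟨H, hHE, ?_, ?_⟩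
  · rw [hHc]; exact Nat.not_dvd_ordCompl hp.out hE0
  · rw [hHc, mul_comm]; exact Nat.ordProj_mul_ordCompl_eq_self (Nat.card E) p

variable {M E : Subgroup G} {p : ℕ} [hp : Fact p.Prime] {A P : Subgroup G}

theorem ACtx.exists_invariant_regular (c : ACtx M E p A P)
    (h : ∀ e ∈ E, e ≠ 1 → (∀ q : ℕ, q.Prime → q ∣ orderOf e → q ∈ Cfsg.tau1 M ∪ Cfsg.tau3 M) →
      Cfsg.sigmaCore M ⊓ Subgroup.centralizer ({e} : Set G) = ⊥)
    (hab : ∀ q : ℕ, q ∈ Cfsg.tau2 M → ∀ [Fact q.Prime], ∃ S : Sylow q G,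
      IsMulCommutative ((S : Subgroup G))) :
    ∃ c₀ ∈ P, (∀ e ∈ E, e * c₀ * e⁻¹ ∈ Subgroup.zpowers c₀) ∧
      (∀ e ∈ E, (∃ k : ℕ, e ^ (p ^ k) = 1) → orderOf e ∣ orderOf c₀) ∧
      (∀ x ∈ Subgroup.zpowers c₀, orderOf x = p →
        Cfsg.sigmaCore M ⊓ Subgroup.centralizer ({x} : Set G) = ⊥) := by
  classical
  have hEM : E ≤ M := c.ctx.compl.1
  have hsolvE : Group.IsSolvable ↥E := by
    haveI : Group.IsSolvable ↥M := c.ctx.min.2.2.2 M c.ctx.coatom.1
    exact Group.isSolvable_of_isSolvable_injective (f := Subgroup.inclusion hEM)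
      (Subgroup.inclusion_injective _)
  -- the exponent of `P`
  have hex : ∃ k : ℕ, ∀ s ∈ P, s ^ (p ^ k) = 1 := by
    obtain ⟨n, hn⟩ := IsPGroup.iff_card.1 c.pgroup
    refine ⟨n, fun s hs => ?_⟩
    rw [← hn]
    exact orderOf_dvd_iff_pow_eq_one.1 (Subgroup.orderOf_dvd_natCard P hs)
  have hk₀ := Nat.find_spec hex
  have hk₀0 : Nat.find hex ≠ 0 := by
    intro h0
    rw [h0] at hk₀
    have h1 : 1 < Nat.card A := by
      rw [c.ctx.card]; exact Nat.one_lt_pow (by norm_num) hp.out.one_lt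
    obtain ⟨x, hx, hx1⟩ := Cfsg.Agent.Helper1.BGT.exists_ne_one_of_one_lt_card h1
    apply hx1
    have := hk₀ x (c.hAP hx)
    simpa using this
  obtain ⟨a, ha⟩ := Nat.exists_eq_succ_of_ne_zero hk₀0
  have hexp : ∀ s ∈ P, s ^ (p ^ (a + 1)) = 1 := by
    rw [ha] at hk₀; exact hk₀
  have hmin : ¬ ∀ s ∈ P, s ^ (p ^ a) = 1 := Nat.find_min hex (by rw [ha]; exact Nat.lt_succ_self a)
  simp only [not_forall] at hmin
  obtain ⟨s₀, hs₀, hz₀⟩ := hmin
  obtain ⟨s₁, hs₁, hz₁, hinv, hreg⟩ := c.exists_regular_line h hab a hexp hs₀ hz₀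
  -- the `p`-complement
  obtain ⟨H, hHE, hpH, hHcard⟩ := exists_pcompl E hsolvE p
  have hHP : H ≤ Subgroup.normalizer (P : Set G) := hHE.trans c.le_normalizer
  have hcopH : (Nat.card H).Coprime p := ((Nat.Prime.coprime_iff_not_dvd hp.out).2 hpH).symm
  have hdisj : H ⊓ P = ⊥ := by
    apply (Subgroup.disjoint_of_coprime_natCard _).eq_bot
    rw [c.cardE]
    exact Nat.Coprime.pow_right _ hcopH
  have hsup : P ⊔ H = E := by
    apply Subgroup.eq_of_le_of_card_ge (sup_le c.leE hHE)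
    rw [Cfsg.Agent.Helper1.card_sup_of_le_normalizer hHP hdisj, c.cardE, hHcard]
  obtain ⟨c₀, hc₀P, hc₀inv, hc₀pow⟩ := exists_invariant_cyclic c.comm hHP hpH a hexp hs₁ hz₁
    (fun k hk => hinv k (hHE hk))
  have hzp : (s₁ ^ (p ^ a)) ^ p = 1 := by
    rw [← pow_mul, ← pow_succ]; exact hexp s₁ hs₁
  have hzo : orderOf (s₁ ^ (p ^ a)) = p := orderOf_eq_prime hzp hz₁
  have hc₀ne : c₀ ^ (p ^ a) ≠ 1 := by
    rw [hc₀pow]
    intro h1
    apply hpH
    rw [← hzo]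
    exact orderOf_dvd_of_pow_eq_one h1
  have hc₀o : orderOf c₀ = p ^ (a + 1) := orderOf_eq_prime_pow hc₀ne (hexp c₀ hc₀P)
  refine ⟨c₀, hc₀P, ?_, ?_, ?_⟩
  · intro e he
    rw [← hsup] at he
    obtain ⟨s, hs, k, hk, rfl⟩ := Cfsg.Agent.Helper1.mem_sup_of_le_normalizer hHP he
    have h1 := hc₀inv k hk
    have h2 : k * c₀ * k⁻¹ ∈ P := (Subgroup.zpowers_le.2 hc₀P) h1
    have h3 : s * k * c₀ * (s * k)⁻¹ = k * c₀ * k⁻¹ := by
      have h4 := c.comm s hs _ h2
      calc s * k * c₀ * (s * k)⁻¹ = (s * (k * c₀ * k⁻¹)) * s⁻¹ := by group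
        _ = ((k * c₀ * k⁻¹) * s) * s⁻¹ := by rw [h4]
        _ = k * c₀ * k⁻¹ := by group
    rw [h3]; exact h1
  · rintro e he ⟨k, hk⟩
    have hdvd : orderOf e ∣ p ^ k := orderOf_dvd_of_pow_eq_one hk
    have heP : e ∈ P := by
      apply mem_of_coprime_card_of_mem_sup hHP (hsup ▸ he)
      exact Nat.Coprime.coprime_dvd_left hdvd (Nat.Coprime.pow_left k hcopH.symm)
    rw [hc₀o]
    exact orderOf_dvd_of_pow_eq_one (hexp e heP)
  · intro x hx hxo
    have hx1 : x ≠ 1 := by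
      intro h1
      rw [h1, orderOf_one] at hxo
      exact hp.out.one_lt.ne hxo
    have hxz : x ∈ Subgroup.zpowers (s₁ ^ (p ^ a)) := by
      rw [← mem_powers_iff_mem_zpowers] at hx
      obtain ⟨j, rfl⟩ := (Submonoid.mem_powers_iff _ _).1 hx
      have h1 : (c₀ ^ j) ^ p = 1 := by rw [← hxo]; exact pow_orderOf_eq_one _
      rw [← pow_mul] at h1
      have h2 : p ^ a * p ∣ j * p := by
        rw [← pow_succ, ← hc₀o]; exact orderOf_dvd_of_pow_eq_one h1
      obtain ⟨t, rfl⟩ := Nat.dvd_of_mul_dvd_mul_right hp.out.pos h2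
      rw [pow_mul, hc₀pow, ← pow_mul]
      exact Subgroup.pow_mem _ (Subgroup.mem_zpowers _) _
    have hzx : Subgroup.zpowers x = Subgroup.zpowers (s₁ ^ (p ^ a)) := by
      apply Subgroup.eq_of_le_of_card_ge (Subgroup.zpowers_le.2 hxz)
      rw [Nat.card_zpowers, Nat.card_zpowers, hxo, hzo]
    rw [← Cfsg.Agent.Helper1.BGX.centralizer_zpowers_eq, hzx]
    exact hreg

end Cfsg.Agent.Helper3.BG1211
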