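import Mathlib
import Cfsg.Prelude
import Cfsg.Agent.Helper3.BG1211j

set_option autoImplicit false
set_option linter.unusedSectionVars false
set_option linter.unusedVariables false

/-!
BG 12.10(b), abelian case: assembling the primes of `τ₂(M)`.
-/

namespace Cfsg.Agent.Helper3.BG1211

open Cfsg Cfsg.Agent.Lead.BG127

universe u

variable {G : Type u} [Group G] [Finite G]

theorem exists_actx (hG : Cfsg.IsMinSimpleOddOrder G) {M : Subgroup G}
    (hM : IsCoatom M) {E : Subgroup G} (hE : Cfsg.IsComplIn E (Cfsg.sigmaCore M) M)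
    {p : ℕ} [hp : Fact p.Prime] (hpτ : p ∈ Cfsg.tau2 M)
    (hab : ∀ q : ℕ, q ∈ Cfsg.tau2 M → ∀ [Fact q.Prime], ∃ S : Sylow q G,
      IsMulCommutative ((S : Subgroup G))) :
    ∃ A P : Subgroup G, ACtx M E p A P := by
  obtain ⟨A, hAE, hAe, hAc⟩ := exists_elementary_le_compl hG hM hE hpτ
  have c : Ctx M E p A := ⟨hG, Cfsg.Agent.Helper1.BG116.hypD,
    Cfsg.Agent.Helper3.BGAlpha.hypAlpha hG, hM, hE, hpτ, hAE, hAe, hAc⟩
  obtain ⟨S, hS⟩ := c.isPGroup.exists_le_sylow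
  obtain ⟨S₀, hS₀⟩ := hab p hpτ
  exact ⟨A, S, c, hS, S.isPGroup', S.card_eq_multiplicity, sylow_comm_of_exists S₀ hS₀ S⟩

/-- membership in `τ₁ ∪ τ₃` of the primes of `E` outside `τ₂` -/
theorem mem_tau13_of_not_mem_tau2 (hG : Cfsg.IsMinSimpleOddOrder G) {M : Subgroup G}
    (hM : IsCoatom M) {E : Subgroup G} (hE : Cfsg.IsComplIn E (Cfsg.sigmaCore M) M)
    {q : ℕ} (hq : q.Prime) (hqE : q ∣ Nat.card E) (hqτ : q ∉ Cfsg.tau2 M) :
    q ∈ Cfsg.tau1 M ∪ Cfsg.tau3 M := by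
  have hEM : E ≤ M := hE.1
  have hsσ : q ∉ Cfsg.sigma M :=
    Cfsg.Agent.Helper4.BG12.not_mem_sigma_of_dvd_card_compl hG hM hE hq hqE
  have hr2 := Cfsg.Agent.Lead.BG12.pRankLE_of_not_mem_sigma hG hM hq hsσ
  have hr1 : Cfsg.PRankLE q 1 ↥M := by
    by_contra hr1
    exact hqτ ⟨hq, hsσ, hr2, hr1⟩
  by_cases hd : q ∣ Nat.card ↥⁅M, M⁆
  · exact Or.inr ⟨hq, hsσ, hd, hr1⟩
  · exact Or.inl ⟨hq, hsσ, hqE.trans (Subgroup.card_dvd_of_le hEM), hd, hr1⟩

theorem exists_normal_regular (hG : Cfsg.IsMinSimpleOddOrder G) {M : Subgroup G}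
    (hM : IsCoatom M) {E : Subgroup G} (hE : Cfsg.IsComplIn E (Cfsg.sigmaCore M) M)
    (h : ∀ e ∈ E, e ≠ 1 → (∀ q : ℕ, q.Prime → q ∣ orderOf e → q ∈ Cfsg.tau1 M ∪ Cfsg.tau3 M) →
      Cfsg.sigmaCore M ⊓ Subgroup.centralizer ({e} : Set G) = ⊥)
    (hab : ∀ q : ℕ, q ∈ Cfsg.tau2 M → ∀ [Fact q.Prime], ∃ S : Sylow q G,
      IsMulCommutative ((S : Subgroup G))) (S : Finset ℕ) :
    ∃ C : Subgroup G, C ≤ E ∧ E ≤ Subgroup.normalizer (C : Set G) ∧
      (∀ q : ℕ, q.Prime → q ∣ Nat.card C → q ∈ S ∧ q ∈ Cfsg.tau2 M) ∧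
      (∀ p ∈ S, p ∈ Cfsg.tau2 M → ∀ e ∈ E, (∃ k : ℕ, e ^ (p ^ k) = 1) →
        ∃ c' ∈ C, orderOf e ∣ orderOf c') ∧
      (∀ x ∈ C, (orderOf x).Prime →
        Cfsg.sigmaCore M ⊓ Subgroup.centralizer ({x} : Set G) = ⊥) := by
  classical
  induction S using Finset.induction_on with
  | empty =>
    refine ⟨⊥, bot_le, ?_, ?_, ?_, ?_⟩
    · intro e _
      apply Cfsg.Agent.Helper3.IrrCyclic.mem_normalizer_of_conj_le
      intro b hb
      rw [Subgroup.mem_bot] at hb ⊢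
      rw [hb, mul_one, mul_inv_cancel]
    · intro q hq hqd
      rw [Subgroup.card_bot] at hqd
      exact absurd (Nat.dvd_one.1 hqd) hq.ne_one
    · intro p hp
      exact absurd hp (Finset.notMem_empty p)
    · intro x hx hxo
      rw [Subgroup.mem_bot] at hx
      rw [hx, orderOf_one] at hxo
      exact absurd hxo Nat.not_prime_one
  | insert p S hpS ih =>
    obtain ⟨C, hCE, hCn, hCcard, hCexp, hCreg⟩ := ih
    by_cases hpτ : p ∈ Cfsg.tau2 M
    · haveI : Fact p.Prime := ⟨hpτ.1⟩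
      obtain ⟨A, P, c⟩ := exists_actx hG hM hE hpτ hab
      obtain ⟨c₀, hc₀P, hc₀inv, hc₀exp, hc₀reg⟩ := c.exists_invariant_regular h hab
      have hZE : Subgroup.zpowers c₀ ≤ E := Subgroup.zpowers_le.2 (c.leE hc₀P)
      have hZn : E ≤ Subgroup.normalizer ((Subgroup.zpowers c₀ : Subgroup G) : Set G) := by
        intro e he
        apply Cfsg.Agent.Helper3.IrrCyclic.mem_normalizer_of_conj_le
        intro b hb
        obtain ⟨i, rfl⟩ := hb
        have h1 : e * c₀ ^ i * e⁻¹ = (e * c₀ * e⁻¹) ^ i := (conj_zpow).symm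
        rw [h1]
        exact Subgroup.zpow_mem _ (hc₀inv e he) i
      have hZcard : ∃ k : ℕ, Nat.card (Subgroup.zpowers c₀) = p ^ k := by
        obtain ⟨k, hk⟩ := c.pgroup ⟨c₀, hc₀P⟩
        have hk' : c₀ ^ (p ^ k) = 1 := by
          have := congrArg Subtype.val hk
          simpa using this
        obtain ⟨j, -, hj⟩ := (Nat.dvd_prime_pow hpτ.1).1 (orderOf_dvd_of_pow_eq_one hk')
        exact ⟨j, by rw [Nat.card_zpowers, hj]⟩
      obtain ⟨kZ, hkZ⟩ := hZcard
      have hpC : ¬ p ∣ Nat.card C := fun hd => hpS (hCcard p hpτ.1 hd).1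
      refine ⟨C ⊔ Subgroup.zpowers c₀, sup_le hCE hZE, le_normalizer_sup' hCn hZn, ?_, ?_, ?_⟩
      · intro q hq hqd
        have h1 := hqd.trans (card_sup_dvd_mul (hZE.trans hCn))
        rcases (Nat.Prime.dvd_mul hq).1 h1 with h2 | h2
        · obtain ⟨h3, h4⟩ := hCcard q hq h2
          exact ⟨Finset.mem_insert_of_mem h3, h4⟩
        · rw [hkZ] at h2
          have : q = p := (Nat.prime_dvd_prime_iff_eq hq hpτ.1).1 (hq.dvd_of_dvd_pow h2)
          subst this
          exact ⟨Finset.mem_insert_self _ _, hpτ⟩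
      · intro p' hp' hp'τ e he hek
        rcases Finset.mem_insert.1 hp' with rfl | hp'S
        · exact ⟨c₀, Subgroup.mem_sup_right (Subgroup.mem_zpowers c₀), hc₀exp e he hek⟩
        · obtain ⟨c', hc', hd⟩ := hCexp p' hp'S hp'τ e he hek
          exact ⟨c', Subgroup.mem_sup_left hc', hd⟩
      · intro x hx hxo
        by_cases hxp : orderOf x = p
        · apply hc₀reg x _ hxp
          apply mem_of_coprime_card_of_mem_sup (hCE.trans hZn) (sup_comm C _ ▸ hx)
          rw [hxp]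
          exact (Nat.Prime.coprime_iff_not_dvd hpτ.1).2 hpC
        · apply hCreg x _ hxo
          apply mem_of_coprime_card_of_mem_sup (hZE.trans hCn) hx
          rw [hkZ]
          apply Nat.Coprime.pow_right
          exact (Nat.coprime_primes hxo hpτ.1).2 hxp
    · refine ⟨C, hCE, hCn, ?_, ?_, hCreg⟩
      · intro q hq hqd
        obtain ⟨h3, h4⟩ := hCcard q hq hqd
        exact ⟨Finset.mem_insert_of_mem h3, h4⟩
      · intro p' hp' hp'τ e he hek
        rcases Finset.mem_insert.1 hp' with rfl | hp'S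
        · exact absurd hp'τ hpτ
        · exact hCexp p' hp'S hp'τ e he hek

/-- **BG 12.10(b)** when the Sylow `p`-subgroups of `G` are abelian for all `p ∈ τ₂(M)`. -/
theorem exists_regular_of_abelian (hG : Cfsg.IsMinSimpleOddOrder G) {M : Subgroup G}
    (hM : IsCoatom M) {E : Subgroup G} (hE : Cfsg.IsComplIn E (Cfsg.sigmaCore M) M)
    (h : ∀ e ∈ E, e ≠ 1 → (∀ q : ℕ, q.Prime → q ∣ orderOf e → q ∈ Cfsg.tau1 M ∪ Cfsg.tau3 M) →
      Cfsg.sigmaCore M ⊓ Subgroup.centralizer ({e} : Set G) = ⊥)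
    (hab : ∀ q : ℕ, q ∈ Cfsg.tau2 M → ∀ [Fact q.Prime], ∃ S : Sylow q G,
      IsMulCommutative ((S : Subgroup G))) :
    ∃ E₀ : Subgroup G, E₀ ≤ E ∧ Monoid.exponent ↥E₀ = Monoid.exponent ↥E ∧
      ∀ e ∈ E₀, e ≠ 1 → Cfsg.sigmaCore M ⊓ Subgroup.centralizer ({e} : Set G) = ⊥ := by
  have hEM : E ≤ M := hE.1
  have hsolvE : Group.IsSolvable ↥E := by
    haveI : Group.IsSolvable ↥M := hG.2.2.2 M hM.1
    exact Group.isSolvable_of_isSolvable_injective (f := Subgroup.inclusion hEM)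
      (Subgroup.inclusion_injective _)
  obtain ⟨C, hCE, hCn, hCcard, hCexp, hCreg⟩ :=
    exists_normal_regular hG hM hE h hab (Nat.card E).primeFactors
  obtain ⟨m, n, hd⟩ := exists_piDecomp {q : ℕ | q ∉ Cfsg.tau2 M} (Nat.card E) Nat.card_pos.ne'
  obtain ⟨hconj, hD⟩ := hall_internal E hsolvE hd
  obtain ⟨H, hHE, hHc, -⟩ := hD ⊥ bot_le
    (by rw [Subgroup.card_bot]; exact Nat.coprime_one_left _)
  have hHC : H ≤ Subgroup.normalizer (C : Set G) := hHE.trans hCn
  have hle : C ⊔ H ≤ E := sup_le hCE hHE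
  refine ⟨C ⊔ H, hle, ?_, ?_⟩
  · apply exponent_eq_of_forall hle
    intro e he q k hq hek
    rcases Nat.eq_zero_or_pos k with rfl | hk
    · exact ⟨1, Subgroup.one_mem _, by simp⟩
    have hqe : q ∣ orderOf e := by rw [hek]; exact dvd_pow_self q hk.ne'
    have hqE : q ∣ Nat.card E := hqe.trans (Subgroup.orderOf_dvd_natCard E he)
    have hqS : q ∈ (Nat.card E).primeFactors :=
      Nat.mem_primeFactors.2 ⟨hq, hqE, Nat.card_pos.ne'⟩
    have hepow : e ^ (q ^ k) = 1 := by rw [← hek]; exact pow_orderOf_eq_one e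
    by_cases hqτ : q ∈ Cfsg.tau2 M
    · obtain ⟨c', hc', hdvd⟩ := hCexp q hqS hqτ e he ⟨k, hepow⟩
      exact ⟨c', Subgroup.mem_sup_left hc', hek ▸ hdvd⟩
    · have hcop : (Nat.card (Subgroup.zpowers e)).Coprime n := by
        rw [Nat.card_zpowers, hek]
        apply Nat.Coprime.pow_left
        rw [Nat.Prime.coprime_iff_not_dvd hq]
        intro hqn
        exact hd.right q hq hqn hqτ
      obtain ⟨H', hH'E, hH'c, heH'⟩ := hD (Subgroup.zpowers e) (Subgroup.zpowers_le.2 he) hcop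
      obtain ⟨g, hgE, hg⟩ := hconj H' H hH'E hHE hH'c hHc
      refine ⟨g * e * g⁻¹, Subgroup.mem_sup_right ?_, ?_⟩
      · rw [← hg, Cfsg.Agent.Helper1.mem_conj_smul]
        have : g⁻¹ * (g * e * g⁻¹) * g = e := by group
        rw [this]
        exact heH' (Subgroup.mem_zpowers e)
      · have : orderOf (g * e * g⁻¹) = orderOf e := by
          rw [← MulAut.conj_apply]
          exact MulEquiv.orderOf_eq (MulAut.conj g) e
        rw [this, hek]
  · intro e he he1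
    have ho1 : orderOf e ≠ 1 := fun h1 => he1 (orderOf_eq_one_iff.1 h1)
    obtain ⟨q, hq, hqe⟩ := Nat.exists_prime_and_dvd ho1
    have ho : orderOf (e ^ (orderOf e / q)) = q :=
      orderOf_pow_orderOf_div (orderOf_pos e).ne' hqe
    have he' : e ^ (orderOf e / q) ∈ C ⊔ H := Subgroup.pow_mem _ he _
    have he'1 : e ^ (orderOf e / q) ≠ 1 := by
      intro h1
      rw [h1, orderOf_one] at ho
      exact hq.ne_one ho.symm
    have hreg' : Cfsg.sigmaCore M ⊓
        Subgroup.centralizer ({e ^ (orderOf e / q)} : Set G) = ⊥ := by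
      by_cases hqτ : q ∈ Cfsg.tau2 M
      · apply hCreg _ _ (by rw [ho]; exact hq)
        apply mem_of_coprime_card_of_mem_sup hHC he'
        rw [ho, hHc, Nat.Prime.coprime_iff_not_dvd hq]
        intro hqm
        exact hd.left q hq hqm hqτ
      · apply h _ (hle he') he'1
        intro q' hq' hq'd
        rw [ho] at hq'd
        have : q' = q := (Nat.prime_dvd_prime_iff_eq hq' hq).1 hq'd
        subst this
        apply mem_tau13_of_not_mem_tau2 hG hM hE hq' _ hqτ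
        exact hqe.trans (Subgroup.orderOf_dvd_natCard E (hle he))
    rw [eq_bot_iff, ← hreg']
    exact inf_le_inf_left _ (centralizer_singleton_le_pow e _)

end Cfsg.Agent.Helper3.BG1211
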