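import Mathlib
import Cfsg.Prelude
import Cfsg.Agent.Helper1.Gaschutz
import Cfsg.Agent.Lead.SylowLemmas

set_option autoImplicit false
set_option linter.unusedSectionVars false
set_option linter.unusedVariables false

/-!
A relative form of Gaschütz's theorem: an abelian normal subgroup `A₀` of `E` that is
complemented in a subgroup `T` of index prime to `|A₀|` is complemented in `E`.
-/

namespace Cfsg.Agent.Helper3.BG1211

universe u

variable {G : Type u} [Group G] [Finite G]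

theorem exists_compl_of_compl_in_sylow {E A₀ T Y : Subgroup G} (hAT : A₀ ≤ T) (hTE : T ≤ E)
    (hEN : E ≤ Subgroup.normalizer (A₀ : Set G))
    (hcomm : ∀ a ∈ A₀, ∀ b ∈ A₀, a * b = b * a)
    (hcop : (Nat.card A₀).Coprime (T.relIndex E))
    (hdisj : Y ⊓ A₀ = ⊥) (hsup : A₀ ⊔ Y = T) :
    ∃ K : Subgroup G, K ≤ E ∧ K ⊓ A₀ = ⊥ ∧ ∀ e ∈ E, ∃ a ∈ A₀, ∃ k ∈ K, e = a * k := by
  have hAE : A₀ ≤ E := hAT.trans hTE
  have hYT : Y ≤ T := hsup ▸ le_sup_right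
  have hYE : Y ≤ E := hYT.trans hTE
  haveI hn : (A₀.subgroupOf E).Normal := Subgroup.normal_subgroupOf_of_le_normalizer hEN
  haveI hc : IsMulCommutative ↥(A₀.subgroupOf E) :=
    ⟨⟨fun a b => Subtype.ext (Subtype.ext (hcomm _ a.2 _ b.2))⟩⟩
  have hcop' : (Nat.card ↥(A₀.subgroupOf E)).Coprime (T.subgroupOf E).index := by
    rw [Cfsg.Agent.Lead.card_subgroupOf_of_le hAE]
    exact hcop
  have hAK : Y.subgroupOf E ⊓ A₀.subgroupOf E = ⊥ := by
    rw [eq_bot_iff]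
    intro x hx
    obtain ⟨h1, h2⟩ := Subgroup.mem_inf.1 hx
    rw [Subgroup.mem_subgroupOf] at h1 h2
    have h3 : (x : G) ∈ Y ⊓ A₀ := Subgroup.mem_inf.2 ⟨h1, h2⟩
    rw [hdisj, Subgroup.mem_bot] at h3
    rw [Subgroup.mem_bot]
    exact Subtype.ext h3
  have hKA : A₀.subgroupOf E ⊔ Y.subgroupOf E = T.subgroupOf E := by
    rw [← Subgroup.subgroupOf_sup hAE hYE, hsup]
  obtain ⟨H', hH'⟩ := Cfsg.Agent.Helper1.gaschutz_exists (A₀.subgroupOf E) (T.subgroupOf E) hcop'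
    (Y.subgroupOf E) hAK hKA
  refine ⟨H'.map E.subtype, Subgroup.map_subtype_le H', ?_, ?_⟩
  · rw [eq_bot_iff]
    rintro x hx
    obtain ⟨⟨k, hk, rfl⟩, h2⟩ := Subgroup.mem_inf.1 hx
    have h3 : k ∈ A₀.subgroupOf E ⊓ H' := Subgroup.mem_inf.2 ⟨Subgroup.mem_subgroupOf.2 h2, hk⟩
    rw [hH'.disjoint.eq_bot, Subgroup.mem_bot] at h3
    rw [Subgroup.mem_bot, h3]
    rfl
  · intro e he
    obtain ⟨⟨a, k⟩, hak, -⟩ := hH'.existsUnique (⟨e, he⟩ : ↥E)
    refine ⟨((a : ↥E) : G), Subgroup.mem_subgroupOf.1 a.2, ((k : ↥E) : G), ⟨(k : ↥E), k.2, rfl⟩, ?_⟩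
    have := congrArg Subtype.val hak
    simpa using this.symm

end Cfsg.Agent.Helper3.BG1211
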