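import Mathlib
import Cfsg.Prelude
import Cfsg.Agent.Helper3.BG1211k
import Cfsg.Agent.Helper3.BG1211l
import Cfsg.Agent.Helper1.TypeP
import Cfsg.Agent.Helper3.BG134c

set_option autoImplicit false
set_option linter.unusedSectionVars false
set_option linter.unusedVariables false

/-!
BG 12.10(b), nonabelian case.
-/

namespace Cfsg.Agent.Helper3.BG1211

open Cfsg Cfsg.Agent.Lead.BG127

universe u

variable {G : Type u} [Group G] [Finite G]
variable {M E : Subgroup G} {p : ℕ} [hp : Fact p.Prime] {A : Subgroup G}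

/-- `E` normalizes `A ∩ C(M_σ)` -/
theorem ctx_le_normalizer_inf (c : Ctx M E p A) :
    E ≤ Subgroup.normalizer
      ((A ⊓ Subgroup.centralizer ((Cfsg.sigmaCore M : Subgroup G) : Set G) : Subgroup G) : Set G) := by
  intro g hg
  have hgA := c.c126.1.1 hg
  have hgσ := Cfsg.Agent.Lead.BG12.le_normalizer_sigmaCore M (c.compl.1 hg)
  apply Cfsg.Agent.Helper3.IrrCyclic.mem_normalizer_of_conj_le
  intro b hb
  obtain ⟨hbA, hbC⟩ := Subgroup.mem_inf.1 hb
  refine Subgroup.mem_inf.2 ⟨(Subgroup.mem_normalizer_iff.1 hgA b).1 hbA, ?_⟩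
  rw [Subgroup.mem_centralizer_iff]
  intro z hz
  have hz' : g⁻¹ * z * g ∈ Cfsg.sigmaCore M := by
    have := (Subgroup.mem_normalizer_iff.1 (Subgroup.inv_mem _ hgσ) z).1 hz
    simpa using this
  have h1 := Subgroup.mem_centralizer_iff.1 hbC _ hz'
  calc z * (g * b * g⁻¹) = g * (g⁻¹ * z * g * b) * g⁻¹ := by group
    _ = g * (b * (g⁻¹ * z * g)) * g⁻¹ := by rw [h1]
    _ = g * b * g⁻¹ * z := by group

/-- the `p`-parts of `|E|` and `|M|` agree -/
theorem ctx_factorization_compl (c : Ctx M E p A) :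
    (Nat.card E).factorization p = (Nat.card M).factorization p := by
  have h1 := Cfsg.Agent.Helper1.IsComplIn_card_mul c.compl
  have h2 := congrArg (fun n : ℕ => n.factorization p) h1
  simp only [Nat.factorization_mul Nat.card_pos.ne' Nat.card_pos.ne', Finsupp.add_apply,
    Nat.factorization_eq_zero_of_not_dvd c.not_dvd_card_sigmaCore, add_zero] at h2
  exact h2

/-- structure of a Sylow `p`-subgroup of `E` in the nonabelian case: `T = ⟨x₀⟩ × ⟨y⟩` with
`⟨x₀⟩ = A ∩ C(M_σ)`. -/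
theorem ctx_exists_decomp_of_nonabelian (c : Ctx M E p A)
    (hS : ∀ S : Sylow p G, ¬ IsMulCommutative ((S : Subgroup G))) {T : Subgroup G}
    (hAT : A ≤ T) (hTE : T ≤ E) (hTp : IsPGroup p ↥T)
    (hTc : Nat.card T = p ^ (Nat.card E).factorization p) :
    ∃ x₀ y : G, x₀ ∈ A ∧ x₀ ≠ 1 ∧
      A ⊓ Subgroup.centralizer ((Cfsg.sigmaCore M : Subgroup G) : Set G) = Subgroup.zpowers x₀ ∧
      Subgroup.zpowers y ⊓ Subgroup.zpowers x₀ = ⊥ ∧
      Subgroup.zpowers x₀ ⊔ Subgroup.zpowers y = T ∧ (∀ a ∈ T, ∀ b ∈ T, a * b = b * a) ∧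
      p ∣ orderOf y ∧ Cfsg.tau2 M = {p} := by
  obtain ⟨S, Z₀, Y, x₀, hTS, b⟩ := c.exists_big hS hTp hAT
  have hTM : T ≤ M := hTE.trans c.compl.1
  have hTle : T ≤ S ⊓ Subgroup.centralizer (A : Set G) := by
    intro t ht
    refine Subgroup.mem_inf.2 ⟨hTS ht, ?_⟩
    rw [Subgroup.mem_centralizer_iff]
    intro a ha
    exact (b.commute_of_mem (hTS ht) (hTM ht) ha).symm
  have hTeq : T = S ⊓ Subgroup.centralizer (A : Set G) := by
    apply Subgroup.eq_of_le_of_card_ge hTle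
    have h1 : Nat.card ↥(S ⊓ Subgroup.centralizer (A : Set G)) ∣
        p ^ (Nat.card M).factorization p :=
      Cfsg.Agent.Lead.card_dvd_ppart_of_isPGroup (b.hSp.to_le inf_le_left)
        (inf_le_right.trans c.cent_le)
    rw [hTc, ctx_factorization_compl c]
    exact Nat.le_of_dvd (pow_pos hp.out.pos _) h1
  obtain ⟨hd1, hd2⟩ := b.hdec x₀ b.hx₀ b.x₀_not_mem
  haveI := b.hYc
  obtain ⟨g, hg⟩ := IsCyclic.exists_generator (α := ↥Y)
  have hY : Y = Subgroup.zpowers (g : G) := by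
    apply le_antisymm
    · intro x hx
      obtain ⟨k, hk⟩ := Subgroup.mem_zpowers_iff.1 (hg ⟨x, hx⟩)
      refine Subgroup.mem_zpowers_iff.2 ⟨k, ?_⟩
      have := congrArg Subtype.val hk
      simpa using this
    · exact Subgroup.zpowers_le.2 g.2
  refine ⟨x₀, (g : G), b.hx₀, b.hx₀1, b.inf_eq, ?_, ?_, ?_, ?_, b.tau2_eq⟩
  · rw [← hY, inf_comm]; exact hd1
  · rw [← hY, hd2, ← hTeq]
  · intro a ha b' hb'
    have ha' := Subgroup.mem_inf.1 (hTle ha)
    have hb'' := Subgroup.mem_inf.1 (hTle hb')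
    exact commute_of_sylow_abelian (fun P => (c.t125.2.1 P).1) b.hSp
      (Subgroup.mem_inf.2 ⟨hTS ha, hTM ha⟩) (Subgroup.mem_inf.2 ⟨hTS hb', hTM hb'⟩)
  · have h1 : Nat.card Z₀ ∣ Nat.card Y := Subgroup.card_dvd_of_le b.hZY
    rw [b.hZcard, hY, Nat.card_zpowers] at h1
    exact h1

/-- **BG 12.10(b)** when the Sylow `p`-subgroups of `G` are nonabelian for some `p ∈ τ₂(M)`. -/
theorem exists_regular_of_nonabelian (hG : Cfsg.IsMinSimpleOddOrder G) {M : Subgroup G}
    (hM : IsCoatom M) {E : Subgroup G} (hE : Cfsg.IsComplIn E (Cfsg.sigmaCore M) M)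
    (h : ∀ e ∈ E, e ≠ 1 → (∀ q : ℕ, q.Prime → q ∣ orderOf e → q ∈ Cfsg.tau1 M ∪ Cfsg.tau3 M) →
      Cfsg.sigmaCore M ⊓ Subgroup.centralizer ({e} : Set G) = ⊥)
    {p : ℕ} [hp : Fact p.Prime] (hpτ : p ∈ Cfsg.tau2 M)
    (hS : ∀ S : Sylow p G, ¬ IsMulCommutative ((S : Subgroup G))) :
    ∃ E₀ : Subgroup G, E₀ ≤ E ∧ Monoid.exponent ↥E₀ = Monoid.exponent ↥E ∧
      ∀ e ∈ E₀, e ≠ 1 → Cfsg.sigmaCore M ⊓ Subgroup.centralizer ({e} : Set G) = ⊥ := by
  obtain ⟨A, hAE, hAe, hAc⟩ := exists_elementary_le_compl hG hM hE hpτ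
  have c : Ctx M E p A := ⟨hG, Cfsg.Agent.Helper1.BG116.hypD,
    Cfsg.Agent.Helper3.BGAlpha.hypAlpha hG, hM, hE, hpτ, hAE, hAe, hAc⟩
  obtain ⟨T, hAT, hTE, hTp, hTc⟩ := Cfsg.Agent.Lead.exists_le_card_eq_ppart c.isPGroup hAE
  obtain ⟨x₀, y, hx₀A, hx₀1, hA₀, hdisj, hsup, hTcomm, hpy, htau⟩ :=
    ctx_exists_decomp_of_nonabelian c hS hAT hTE hTp hTc
  have hEN : E ≤ Subgroup.normalizer ((Subgroup.zpowers x₀ : Subgroup G) : Set G) := by
    rw [← hA₀]; exact ctx_le_normalizer_inf c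
  have hA₀card : Nat.card (Subgroup.zpowers x₀) = p := c.card_zpowers hx₀A hx₀1
  have hx₀o : orderOf x₀ = p := by rw [← Nat.card_zpowers]; exact hA₀card
  have hx₀T : x₀ ∈ T := hAT hx₀A
  have hyT : y ∈ T := by
    rw [← hsup]; exact Subgroup.mem_sup_right (Subgroup.mem_zpowers y)
  have hcop : (Nat.card (Subgroup.zpowers x₀)).Coprime (T.relIndex E) := by
    rw [hA₀card, Nat.Prime.coprime_iff_not_dvd hp.out]
    exact Cfsg.Agent.Helper3.BG134.not_dvd_relIndex_of_ppart_le le_rfl hTE hTc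
  obtain ⟨K, hKE, hKdisj, hKdec⟩ := exists_compl_of_compl_in_sylow
    (Subgroup.zpowers_le.2 hx₀T) hTE hEN
    (fun a ha b hb => hTcomm a (Subgroup.zpowers_le.2 hx₀T ha) b (Subgroup.zpowers_le.2 hx₀T hb))
    hcop hdisj hsup
  -- every element of `T` is killed by the order of `y`
  have hTexp : ∀ t ∈ T, t ^ orderOf y = 1 := by
    intro t ht
    rw [← hsup] at ht
    have hyN : Subgroup.zpowers y ≤
        Subgroup.normalizer ((Subgroup.zpowers x₀ : Subgroup G) : Set G) :=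
      (Subgroup.zpowers_le.2 (hTE hyT)).trans hEN
    obtain ⟨a, ha, b, hb, rfl⟩ := Cfsg.Agent.Helper1.mem_sup_of_le_normalizer hyN ht
    have hab : Commute a b :=
      hTcomm a (Subgroup.zpowers_le.2 hx₀T ha) b (Subgroup.zpowers_le.2 hyT hb)
    rw [hab.mul_pow]
    have h1 : a ^ orderOf y = 1 := by
      obtain ⟨i, rfl⟩ := ha
      obtain ⟨m, hm⟩ := hpy
      rw [hm, ← zpow_natCast, ← zpow_mul, mul_comm, zpow_mul, zpow_natCast, pow_mul, ← hx₀o,
        pow_orderOf_eq_one, one_pow, one_zpow]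
    have h2 : b ^ orderOf y = 1 := by
      obtain ⟨i, rfl⟩ := hb
      rw [← zpow_natCast, ← zpow_mul, mul_comm, zpow_mul, zpow_natCast, pow_orderOf_eq_one,
        one_zpow]
    rw [h1, h2, one_mul]
  -- the image of `y` in `K`
  obtain ⟨a_y, ha_y, k_y, hk_y, hyak⟩ := hKdec y (hTE hyT)
  have hoy : orderOf y ∣ orderOf k_y := by
    rw [hyak]
    apply orderOf_dvd_of_mul ha_y (hEN (hKE hk_y))
    rw [← hyak]; exact hdisj
  refine ⟨K, hKE, ?_, ?_⟩
  · apply exponent_eq_of_forall hKE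
    intro e he q k hq hek
    by_cases hqp : q = p
    · subst hqp
      have hep : IsPGroup q ↥(Subgroup.zpowers e) := by
        apply IsPGroup.of_card (n := k)
        rw [Nat.card_zpowers, hek]
      obtain ⟨m, hmE, hm⟩ := Cfsg.Agent.Lead.exists_conj_le_of_card_eq_ppart hTE hTc
        (Subgroup.zpowers_le.2 he) hep
      have hmT : m * e * m⁻¹ ∈ T := hm ⟨e, Subgroup.mem_zpowers e, rfl⟩
      have h1 : orderOf (m * e * m⁻¹) = orderOf e := by
        rw [← MulAut.conj_apply]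
        exact MulEquiv.orderOf_eq (MulAut.conj m) e
      refine ⟨k_y, hk_y, ?_⟩
      rw [← hek, ← h1]
      exact (orderOf_dvd_of_pow_eq_one (hTexp _ hmT)).trans hoy
    · obtain ⟨a, ha, k', hk', heak⟩ := hKdec e he
      refine ⟨k', hk', ?_⟩
      rw [← hek, heak]
      apply orderOf_dvd_of_mul ha (hEN (hKE hk'))
      rw [← heak]
      apply (Subgroup.disjoint_of_coprime_natCard _).eq_bot
      rw [Nat.card_zpowers, hek, hA₀card]
      exact Nat.Coprime.pow_left _ ((Nat.coprime_primes hq hp.out).2 hqp)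
  · intro e he he1
    have ho1 : orderOf e ≠ 1 := fun h1 => he1 (orderOf_eq_one_iff.1 h1)
    obtain ⟨q, hq, hqe⟩ := Nat.exists_prime_and_dvd ho1
    have ho : orderOf (e ^ (orderOf e / q)) = q :=
      orderOf_pow_orderOf_div (orderOf_pos e).ne' hqe
    have he' : e ^ (orderOf e / q) ∈ K := Subgroup.pow_mem _ he _
    have he'1 : e ^ (orderOf e / q) ≠ 1 := by
      intro h1
      rw [h1, orderOf_one] at ho
      exact hq.ne_one ho.symm
    have hreg' : Cfsg.sigmaCore M ⊓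
        Subgroup.centralizer ({e ^ (orderOf e / q)} : Set G) = ⊥ := by
      by_cases hqp : q = p
      · subst hqp
        rw [Subgroup.eq_bot_iff_forall]
        intro x hx
        by_contra hx1
        obtain ⟨hxσ, hxC⟩ := Subgroup.mem_inf.1 hx
        have hcomm : e ^ (orderOf e / q) * x = x * e ^ (orderOf e / q) :=
          (Subgroup.mem_centralizer_singleton_iff.1 hxC).symm
        have hep : IsPGroup q ↥(Subgroup.zpowers (e ^ (orderOf e / q))) := by
          apply IsPGroup.of_card (n := 1)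
          rw [Nat.card_zpowers, ho, pow_one]
        have hmem := mem_of_commute_of_nonabelian hG hM hE hpτ hS ⟨hAE, hAe, hAc⟩ (hKE he') hep
          hxσ hx1 hcomm
        rw [hA₀] at hmem
        have : e ^ (orderOf e / q) ∈ K ⊓ Subgroup.zpowers x₀ := Subgroup.mem_inf.2 ⟨he', hmem⟩
        rw [hKdisj, Subgroup.mem_bot] at this
        exact he'1 this
      · apply h _ (hKE he') he'1
        intro q' hq' hq'd
        rw [ho] at hq'd
        have : q' = q := (Nat.prime_dvd_prime_iff_eq hq' hq).1 hq'd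
        subst this
        apply mem_tau13_of_not_mem_tau2 hG hM hE hq' _ _
        · exact hqe.trans (Subgroup.orderOf_dvd_natCard E (hKE he))
        · rw [htau]
          exact hqp
    rw [eq_bot_iff, ← hreg']
    exact inf_le_inf_left _ (centralizer_singleton_le_pow e _)

end Cfsg.Agent.Helper3.BG1211
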