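import Mathlib
import Cfsg.Prelude
import Cfsg.Agent.Helper3.BG1211m

set_option autoImplicit false
set_option linter.unusedSectionVars false
set_option linter.unusedVariables false

/-!
Towards BG 15.2(b) (`U₀`): a cyclic subgroup of full exponent with regular socle in a Sylow
`p`-subgroup of a complement `E`, `p ∈ τ₂(M)`; and the general assembly over the primes.
-/

namespace Cfsg.Agent.Helper3.BG1211

open Cfsg Cfsg.Agent.Lead.BG127

universe u

variable {G : Type u} [Group G]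

/-- the socle of a cyclic `p`-group -/
theorem mem_zpowers_pow_of_orderOf_eq {p : ℕ} [hp : Fact p.Prime] {a : ℕ} {c₀ x : G}
    (ho : orderOf c₀ = p ^ (a + 1)) (hx : x ∈ Subgroup.zpowers c₀) (hxp : x ^ p = 1) :
    x ∈ Subgroup.zpowers (c₀ ^ (p ^ a)) := by
  have hfin : IsOfFinOrder c₀ := by
    rw [← orderOf_pos_iff, ho]; exact pow_pos hp.out.pos _
  rw [← hfin.mem_powers_iff_mem_zpowers] at hx
  obtain ⟨j, rfl⟩ := (Submonoid.mem_powers_iff _ _).1 hx
  rw [← pow_mul] at hxp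
  have h2 : p ^ a * p ∣ j * p := by
    rw [← pow_succ, ← ho]; exact orderOf_dvd_of_pow_eq_one hxp
  obtain ⟨t, rfl⟩ := Nat.dvd_of_mul_dvd_mul_right hp.out.pos h2
  rw [pow_mul]
  exact Subgroup.pow_mem _ (Subgroup.mem_zpowers _) _

/-- in `⟨x₀⟩ × ⟨y⟩` with `|x₀| = p ∣ |y|` everything is killed by `|y|` -/
theorem decomp_pow_eq_one {p : ℕ} {T : Subgroup G} {x₀ y : G}
    (hsup : Subgroup.zpowers x₀ ⊔ Subgroup.zpowers y = T)
    (hTcomm : ∀ a ∈ T, ∀ b ∈ T, a * b = b * a) (hx₀o : orderOf x₀ = p) (hpy : p ∣ orderOf y) :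
    ∀ t ∈ T, t ^ orderOf y = 1 := by
  intro t ht
  have hx₀T : x₀ ∈ T := by
    rw [← hsup]; exact Subgroup.mem_sup_left (Subgroup.mem_zpowers x₀)
  have hyT : y ∈ T := by
    rw [← hsup]; exact Subgroup.mem_sup_right (Subgroup.mem_zpowers y)
  have hyN : Subgroup.zpowers y ≤
      Subgroup.normalizer ((Subgroup.zpowers x₀ : Subgroup G) : Set G) := by
    intro g hg
    rw [Subgroup.mem_normalizer_iff]
    intro n
    have hgT : g ∈ T := Subgroup.zpowers_le.2 hyT hg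
    constructor
    · intro hn
      have := hTcomm g hgT n (Subgroup.zpowers_le.2 hx₀T hn)
      rw [this, mul_inv_cancel_right]; exact hn
    · intro hn
      have h1 : n = g⁻¹ * (g * n * g⁻¹) * g := by group
      have h2 := hTcomm g⁻¹ (T.inv_mem hgT) _ (Subgroup.zpowers_le.2 hx₀T hn)
      rw [h1, h2, mul_assoc, inv_mul_cancel, mul_one]; exact hn
  rw [← hsup] at ht
  obtain ⟨a, ha, b, hb, rfl⟩ := Cfsg.Agent.Helper1.mem_sup_of_le_normalizer hyN ht
  have hab : Commute a b :=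
    hTcomm a (Subgroup.zpowers_le.2 hx₀T ha) b (Subgroup.zpowers_le.2 hyT hb)
  rw [hab.mul_pow]
  have h1 : a ^ orderOf y = 1 := by
    obtain ⟨i, rfl⟩ := ha
    obtain ⟨m, hm⟩ := hpy
    rw [hm, ← zpow_natCast, ← zpow_mul, mul_comm, zpow_mul, zpow_natCast, pow_mul, ← hx₀o,
      pow_orderOf_eq_one, one_pow, one_zpow]
  have h2 : b ^ orderOf y = 1 := by
    obtain ⟨i, rfl⟩ := hb
    rw [← zpow_natCast, ← zpow_mul, mul_comm, zpow_mul, zpow_natCast, pow_orderOf_eq_one,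
      one_zpow]
  rw [h1, h2, one_mul]

variable [Finite G]
variable {M E : Subgroup G} {p : ℕ} [hp : Fact p.Prime] {A P : Subgroup G}

/-- some `p^a`-th power in `P` spans a regular line (no invariance claimed) -/
theorem ACtx.exists_regular_pow (c : ACtx M E p A P)
    (a : ℕ) (hexp : ∀ s ∈ P, s ^ (p ^ (a + 1)) = 1) {s₀ : G} (hs₀ : s₀ ∈ P)
    (hz₀ : s₀ ^ (p ^ a) ≠ 1) :
    ∃ s₁ ∈ P, s₁ ^ (p ^ a) ≠ 1 ∧
      Cfsg.sigmaCore M ⊓
        Subgroup.centralizer ((Subgroup.zpowers (s₁ ^ (p ^ a)) : Subgroup G) : Set G) = ⊥ := by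
  have hpowA : ∀ s ∈ P, s ^ (p ^ a) ∈ A := by
    intro s hs
    apply c.mem_of_pow_eq_one (P.pow_mem hs _)
    rw [← pow_mul, ← pow_succ]; exact hexp s hs
  by_cases hα : ∀ s ∈ P, s ^ (p ^ a) ∈ Subgroup.zpowers (s₀ ^ (p ^ a))
  · have hN : ∀ n ∈ Subgroup.normalizer (P : Set G),
        n * s₀ ^ (p ^ a) * n⁻¹ ∈ Subgroup.zpowers (s₀ ^ (p ^ a)) := by
      intro n hn
      rw [← conj_pow]
      exact hα _ ((Subgroup.mem_normalizer_iff.1 hn s₀).1 hs₀)
    exact ⟨s₀, hs₀, hz₀, c.regular_of_normalizer (hpowA s₀ hs₀) hz₀ c.normalizer_not_le hN⟩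
  · simp only [not_forall] at hα
    obtain ⟨s₂, hs₂, hz₂⟩ := hα
    have hsurj : ∀ x ∈ A, ∃ s ∈ P, s ^ (p ^ a) = x := by
      intro x hx
      obtain ⟨i, j, rfl⟩ := c.exists_mul_pow (hpowA s₀ hs₀) hz₀ (hpowA s₂ hs₂) hz₂ x hx
      refine ⟨s₀ ^ i * s₂ ^ j, P.mul_mem (P.zpow_mem hs₀ i) (P.zpow_mem hs₂ j), ?_⟩
      have hc : Commute (s₀ ^ i) (s₂ ^ j) := c.comm _ (P.zpow_mem hs₀ i) _ (P.zpow_mem hs₂ j)
      rw [hc.mul_pow]
      congr 1
      · rw [← zpow_natCast, ← zpow_mul, ← zpow_natCast s₀ (p ^ a), ← zpow_mul, mul_comm]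
      · rw [← zpow_natCast, ← zpow_mul, ← zpow_natCast s₂ (p ^ a), ← zpow_mul, mul_comm]
    obtain ⟨A₁, hA₁A, hA₁c, hA₁reg⟩ := c.ctx.t125.2.2.2.2.2
    have h1 : 1 < Nat.card A₁ := hA₁c ▸ hp.out.one_lt
    obtain ⟨x, hx, hx1⟩ := Cfsg.Agent.Helper1.BGT.exists_ne_one_of_one_lt_card h1
    have hxA : x ∈ A := hA₁A hx
    have hZ : Subgroup.zpowers x = A₁ :=
      Subgroup.eq_of_le_of_card_ge (Subgroup.zpowers_le.2 hx)
        (by rw [c.ctx.card_zpowers hxA hx1, hA₁c])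
    obtain ⟨s₁, hs₁, rfl⟩ := hsurj x hxA
    refine ⟨s₁, hs₁, hx1, ?_⟩
    rw [hZ]; exact hA₁reg

/-- a cyclic subgroup of full exponent with regular socle in a Sylow `p`-subgroup `T` of `E` -/
theorem exists_regular_cyclic_of_sylow (hG : Cfsg.IsMinSimpleOddOrder G) {M : Subgroup G}
    (hM : IsCoatom M) {E : Subgroup G} (hE : Cfsg.IsComplIn E (Cfsg.sigmaCore M) M)
    {p : ℕ} [hp : Fact p.Prime] (hpτ : p ∈ Cfsg.tau2 M) {T : Subgroup G} (hTE : T ≤ E)
    (hTp : IsPGroup p ↥T) (hTc : Nat.card T = p ^ (Nat.card E).factorization p) :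
    ∃ c₀ ∈ T, (∀ t ∈ T, orderOf t ∣ orderOf c₀) ∧
      (∀ x ∈ Subgroup.zpowers c₀, orderOf x = p →
        Cfsg.sigmaCore M ⊓ Subgroup.centralizer ({x} : Set G) = ⊥) := by
  classical
  obtain ⟨B, hBE, hBe, hBc⟩ := exists_elementary_le_compl hG hM hE hpτ
  have hBp : IsPGroup p ↥B := Cfsg.Agent.Helper3.BGAlpha.isPGroup_of_elementary hBe
  obtain ⟨m, hmE, hm⟩ := Cfsg.Agent.Lead.exists_conj_le_of_card_eq_ppart hTE hTc hBE hBp
  obtain ⟨A, hAdef⟩ : ∃ A : Subgroup G, A = B.map (MulAut.conj m).toMonoidHom := ⟨_, rfl⟩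
  have hAT : A ≤ T := hAdef ▸ hm
  have hAE : A ≤ E := hAT.trans hTE
  have hAe : Cfsg.IsElementaryAbelian p A :=
    hAdef ▸ Cfsg.Agent.Helper3.BGAlpha.elementary_map_conj hBe m
  have hAc : Nat.card A = p ^ 2 := by
    rw [hAdef, Cfsg.Agent.Lead.card_map_conj, hBc]
  have c : Ctx M E p A := ⟨hG, Cfsg.Agent.Helper1.BG116.hypD,
    Cfsg.Agent.Helper3.BGAlpha.hypAlpha hG, hM, hE, hpτ, hAE, hAe, hAc⟩
  by_cases hS : ∀ S : Sylow p G, ¬ IsMulCommutative ((S : Subgroup G))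
  · obtain ⟨x₀, y, hx₀A, hx₀1, hA₀, hdisj, hsup, hTcomm, hpy, htau⟩ :=
      ctx_exists_decomp_of_nonabelian c hS hAT hTE hTp hTc
    have hx₀o : orderOf x₀ = p := by
      rw [← Nat.card_zpowers]; exact c.card_zpowers hx₀A hx₀1
    have hyT : y ∈ T := by
      rw [← hsup]; exact Subgroup.mem_sup_right (Subgroup.mem_zpowers y)
    refine ⟨y, hyT, ?_, ?_⟩
    · intro t ht
      exact orderOf_dvd_of_pow_eq_one (decomp_pow_eq_one hsup hTcomm hx₀o hpy t ht)
    · intro x hx hxo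
      have hx1 : x ≠ 1 := by
        intro h1
        rw [h1, orderOf_one] at hxo
        exact hp.out.one_lt.ne hxo
      rw [Subgroup.eq_bot_iff_forall]
      intro z hz
      by_contra hz1
      obtain ⟨hzσ, hzC⟩ := Subgroup.mem_inf.1 hz
      have hcomm : x * z = z * x := (Subgroup.mem_centralizer_singleton_iff.1 hzC).symm
      have hep : IsPGroup p ↥(Subgroup.zpowers x) := by
        apply IsPGroup.of_card (n := 1)
        rw [Nat.card_zpowers, hxo, pow_one]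
      have hxE : x ∈ E := hTE (Subgroup.zpowers_le.2 hyT hx)
      have hmem := mem_of_commute_of_nonabelian hG hM hE hpτ hS ⟨hAE, hAe, hAc⟩ hxE hep
        hzσ hz1 hcomm
      rw [hA₀] at hmem
      have : x ∈ Subgroup.zpowers y ⊓ Subgroup.zpowers x₀ := Subgroup.mem_inf.2 ⟨hx, hmem⟩
      rw [hdisj, Subgroup.mem_bot] at this
      exact hx1 this
  · simp only [not_forall, not_not] at hS
    obtain ⟨S₀, hS₀⟩ := hS
    obtain ⟨P, hTP⟩ := hTp.exists_le_sylow
    have hPab := sylow_comm_of_exists S₀ hS₀ P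
    have c' : ACtx M E p A (P : Subgroup G) :=
      ⟨c, hAT.trans hTP, P.isPGroup', P.card_eq_multiplicity, hPab⟩
    have hTeq : T = (P : Subgroup G) := by
      apply Subgroup.eq_of_le_of_card_ge hTP
      rw [hTc, c'.cardE]
    have c'' : ACtx M E p A T := hTeq ▸ c'
    -- the exponent of `T`
    have hex : ∃ k : ℕ, ∀ s ∈ T, s ^ (p ^ k) = 1 := by
      obtain ⟨n, hn⟩ := IsPGroup.iff_card.1 hTp
      refine ⟨n, fun s hs => ?_⟩
      rw [← hn]
      exact orderOf_dvd_iff_pow_eq_one.1 (Subgroup.orderOf_dvd_natCard T hs)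
    have hk₀ := Nat.find_spec hex
    have hk₀0 : Nat.find hex ≠ 0 := by
      intro h0
      rw [h0] at hk₀
      have h1 : 1 < Nat.card A := by
        rw [hAc]; exact Nat.one_lt_pow (by norm_num) hp.out.one_lt
      obtain ⟨x, hx, hx1⟩ := Cfsg.Agent.Helper1.BGT.exists_ne_one_of_one_lt_card h1
      apply hx1
      have := hk₀ x (hAT hx)
      simpa using this
    obtain ⟨a, ha⟩ := Nat.exists_eq_succ_of_ne_zero hk₀0
    have hexp : ∀ s ∈ T, s ^ (p ^ (a + 1)) = 1 := by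
      rw [ha] at hk₀; exact hk₀
    have hmin : ¬ ∀ s ∈ T, s ^ (p ^ a) = 1 :=
      Nat.find_min hex (by rw [ha]; exact Nat.lt_succ_self a)
    simp only [not_forall] at hmin
    obtain ⟨s₀, hs₀, hz₀⟩ := hmin
    obtain ⟨s₁, hs₁, hz₁, hreg⟩ := c''.exists_regular_pow a hexp hs₀ hz₀
    have hs₁o : orderOf s₁ = p ^ (a + 1) := orderOf_eq_prime_pow hz₁ (hexp s₁ hs₁)
    have hzp : (s₁ ^ (p ^ a)) ^ p = 1 := by
      rw [← pow_mul, ← pow_succ]; exact hexp s₁ hs₁
    have hzo : orderOf (s₁ ^ (p ^ a)) = p := orderOf_eq_prime hzp hz₁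
    refine ⟨s₁, hs₁, ?_, ?_⟩
    · intro t ht
      rw [hs₁o]
      exact orderOf_dvd_of_pow_eq_one (hexp t ht)
    · intro x hx hxo
      have hxz : x ∈ Subgroup.zpowers (s₁ ^ (p ^ a)) :=
        mem_zpowers_pow_of_orderOf_eq hs₁o hx (by rw [← hxo]; exact pow_orderOf_eq_one x)
      have hzx : Subgroup.zpowers x = Subgroup.zpowers (s₁ ^ (p ^ a)) := by
        apply Subgroup.eq_of_le_of_card_ge (Subgroup.zpowers_le.2 hxz)
        rw [Nat.card_zpowers, Nat.card_zpowers, hxo, hzo]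
      rw [← Cfsg.Agent.Helper1.BGX.centralizer_zpowers_eq, hzx]
      exact hreg

/-- assembling invariant cyclic subgroups over a set of primes -/
theorem exists_normal_of_forall_prime (E : Subgroup G) (R : G → Prop) (S : Finset ℕ)
    (hstep : ∀ p ∈ S, p.Prime → ∃ c₀ ∈ E, (∀ e ∈ E, e * c₀ * e⁻¹ ∈ Subgroup.zpowers c₀) ∧
      (∃ k : ℕ, orderOf c₀ = p ^ k) ∧
      (∀ e ∈ E, (∃ k : ℕ, e ^ (p ^ k) = 1) → orderOf e ∣ orderOf c₀) ∧
      (∀ x ∈ Subgroup.zpowers c₀, orderOf x = p → R x)) :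
    ∃ C : Subgroup G, C ≤ E ∧ E ≤ Subgroup.normalizer (C : Set G) ∧
      (∀ q : ℕ, q.Prime → q ∣ Nat.card C → q ∈ S) ∧
      (∀ p ∈ S, p.Prime → ∀ e ∈ E, (∃ k : ℕ, e ^ (p ^ k) = 1) →
        ∃ c' ∈ C, orderOf e ∣ orderOf c') ∧
      (∀ x ∈ C, (orderOf x).Prime → R x) := by
  classical
  induction S using Finset.induction_on with
  | empty =>
    refine ⟨⊥, bot_le, ?_, ?_, ?_, ?_⟩
    · intro e _
      apply Cfsg.Agent.Helper3.IrrCyclic.mem_normalizer_of_conj_le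
      intro b hb
      rw [Subgroup.mem_bot] at hb ⊢
      rw [hb, mul_one, mul_inv_cancel]
    · intro q hq hqd
      rw [Subgroup.card_bot] at hqd
      exact absurd (Nat.dvd_one.1 hqd) hq.ne_one
    · intro p hp
      exact absurd hp (Finset.notMem_empty p)
    · intro x hx hxo
      rw [Subgroup.mem_bot] at hx
      rw [hx, orderOf_one] at hxo
      exact absurd hxo Nat.not_prime_one
  | insert p S hpS ih =>
    obtain ⟨C, hCE, hCn, hCcard, hCexp, hCreg⟩ :=
      ih (fun q hq => hstep q (Finset.mem_insert_of_mem hq))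
    by_cases hpp : p.Prime
    · obtain ⟨c₀, hc₀E, hc₀inv, ⟨kZ, hkZ'⟩, hc₀exp, hc₀reg⟩ :=
        hstep p (Finset.mem_insert_self p S) hpp
      have hZE : Subgroup.zpowers c₀ ≤ E := Subgroup.zpowers_le.2 hc₀E
      have hZn : E ≤ Subgroup.normalizer ((Subgroup.zpowers c₀ : Subgroup G) : Set G) := by
        intro e he
        apply Cfsg.Agent.Helper3.IrrCyclic.mem_normalizer_of_conj_le
        intro b hb
        obtain ⟨i, rfl⟩ := hb
        have h1 : e * c₀ ^ i * e⁻¹ = (e * c₀ * e⁻¹) ^ i := (conj_zpow).symm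
        rw [h1]
        exact Subgroup.zpow_mem _ (hc₀inv e he) i
      have hkZ : Nat.card (Subgroup.zpowers c₀) = p ^ kZ := by rw [Nat.card_zpowers, hkZ']
      have hpC : ¬ p ∣ Nat.card C := fun hd => hpS (hCcard p hpp hd)
      refine ⟨C ⊔ Subgroup.zpowers c₀, sup_le hCE hZE, le_normalizer_sup' hCn hZn, ?_, ?_, ?_⟩
      · intro q hq hqd
        have h1 := hqd.trans (card_sup_dvd_mul (hZE.trans hCn))
        rcases (Nat.Prime.dvd_mul hq).1 h1 with h2 | h2
        · exact Finset.mem_insert_of_mem (hCcard q hq h2)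
        · rw [hkZ] at h2
          have : q = p := (Nat.prime_dvd_prime_iff_eq hq hpp).1 (hq.dvd_of_dvd_pow h2)
          subst this
          exact Finset.mem_insert_self _ _
      · intro p' hp' hp'p e he hek
        rcases Finset.mem_insert.1 hp' with rfl | hp'S
        · exact ⟨c₀, Subgroup.mem_sup_right (Subgroup.mem_zpowers c₀), hc₀exp e he hek⟩
        · obtain ⟨c', hc', hd⟩ := hCexp p' hp'S hp'p e he hek
          exact ⟨c', Subgroup.mem_sup_left hc', hd⟩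
      · intro x hx hxo
        by_cases hxp : orderOf x = p
        · apply hc₀reg x _ hxp
          apply mem_of_coprime_card_of_mem_sup (hCE.trans hZn) (sup_comm C _ ▸ hx)
          rw [hxp]
          exact (Nat.Prime.coprime_iff_not_dvd hpp).2 hpC
        · apply hCreg x _ hxo
          apply mem_of_coprime_card_of_mem_sup (hZE.trans hCn) hx
          rw [hkZ]
          apply Nat.Coprime.pow_right
          exact (Nat.coprime_primes hxo hpp).2 hxp
    · refine ⟨C, hCE, hCn, ?_, ?_, hCreg⟩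
      · intro q hq hqd
        exact Finset.mem_insert_of_mem (hCcard q hq hqd)
      · intro p' hp' hp'p e he hek
        rcases Finset.mem_insert.1 hp' with rfl | hp'S
        · exact absurd hp'p hpp
        · exact hCexp p' hp'S hp'p e he hek

end Cfsg.Agent.Helper3.BG1211
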