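import Mathlib
import Cfsg.Prelude
import Cfsg.Agent.Helper1.BG16a
import Cfsg.Agent.Helper4.BG14K
import Cfsg.Agent.Helper1.BG147b
import Cfsg.Agent.Lead.NilHallFusionB
import Cfsg.Agent.S1364
import Cfsg.Agent.S1357

set_option autoImplicit false
set_option linter.unusedSectionVars false
set_option linter.unusedVariables false

/-!
BG Section 16: from the types back to the standard factorisation (`⇒` directions).
-/

namespace Cfsg.Agent.Helper3.BG16T

open Cfsg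

universe u

variable {G : Type u} [Group G] [Finite G]

/-- a cyclic Hall subgroup `W` of `M` forces `r`-rank at most one for the primes of `W` -/
theorem pRankLE_one_of_cyclic_hall {M W : Subgroup G} (hsolv : Group.IsSolvable ↥M)
    (hWM : W ≤ M) (hWc : IsCyclic ↥W) (hWh : (Nat.card W).Coprime (W.relIndex M))
    {r : ℕ} (hr : r.Prime) (hrW : r ∣ Nat.card W) : Cfsg.PRankLE r 1 ↥M := by
  haveI := Fact.mk hr
  intro A hAc hAr
  have hcard : Nat.card (A.map M.subtype) = Nat.card A :=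
    Subgroup.card_map_of_injective M.subtype_injective
  have hA'M : A.map M.subtype ≤ M := Subgroup.map_subtype_le _
  have hA'r : ∀ x ∈ A.map M.subtype, x ^ r = 1 := by
    rintro _ ⟨a, ha, rfl⟩
    have := hAr a ha
    have h2 := congrArg Subtype.val this
    simpa using h2
  have hHall : Cfsg.IsPiHallOf {q | q ∣ Nat.card W} W M := by
    refine ⟨hWM, fun q _ h => h, ?_⟩
    intro q hq hqW hqI
    have := Nat.Coprime.eq_one_of_dvd (Nat.Coprime.coprime_dvd_left hqW hWh) hqI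
    exact hq.one_lt.ne' this
  have hprimes : ∀ q : ℕ, q.Prime → q ∣ Nat.card (A.map M.subtype) → q ∈ {q | q ∣ Nat.card W} := by
    intro q hq hqd
    haveI := Fact.mk hq
    obtain ⟨x, hx⟩ := exists_prime_orderOf_dvd_card' (G := ↥(A.map M.subtype)) q hqd
    have h1 : (x : G) ^ r = 1 := hA'r _ x.2
    have h2 : orderOf (x : G) = q := by rw [Subgroup.orderOf_coe]; exact hx
    have h3 : q ∣ r := h2 ▸ orderOf_dvd_of_pow_eq_one h1
    have h4 : q = r := (Nat.prime_dvd_prime_iff_eq hq hr).1 h3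
    rw [h4]; exact hrW
  obtain ⟨m, hm, hle⟩ := Cfsg.Agent.Helper1.BG147.exists_conj_ge_of_hall hsolv hHall hA'M hprimes
  haveI : IsCyclic ↥(W.map (MulAut.conj m).toMonoidHom) := by
    haveI := hWc
    exact isCyclic_of_surjective (W.equivMapOfInjective _ (MulAut.conj m).injective)
      (W.equivMapOfInjective _ (MulAut.conj m).injective).surjective
  haveI : IsCyclic ↥(A.map M.subtype) := Subgroup.isCyclic_of_le hle
  obtain ⟨g, hg⟩ := IsCyclic.exists_generator (α := ↥(A.map M.subtype))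
  have h1 : orderOf g = Nat.card ↥(A.map M.subtype) := orderOf_eq_card_of_forall_mem_zpowers hg
  have h2 : (g : G) ^ r = 1 := hA'r _ g.2
  have h3 : orderOf g ∣ r := by
    rw [← Subgroup.orderOf_coe]; exact orderOf_dvd_of_pow_eq_one h2
  rw [← hcard, ← h1, pow_one]
  exact Nat.le_of_dvd hr.pos h3

/-- the primes of `W₁` in type-`P` data lie in `κ(M)` -/
theorem mem_kappa_of_isTypePWith (hG : Cfsg.IsMinSimpleOddOrder G) {M W₁ U W₂ : Subgroup G}
    (hM : IsCoatom M) (hP : Cfsg.IsTypePWith M W₁ U W₂) {r : ℕ} (hr : r.Prime)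
    (hrW : r ∣ Nat.card W₁) : r ∈ Cfsg.kappa M := by
  haveI := Fact.mk hr
  have hsolv : Group.IsSolvable ↥M := hG.2.2.2 M hM.1
  have hW₁M : W₁ ≤ M := hP.W₁_compl.2.1
  obtain ⟨d', hd'⟩ := exists_prime_orderOf_dvd_card' (G := ↥W₁) r hrW
  have hd : orderOf (d' : G) = r := by rw [Subgroup.orderOf_coe]; exact hd'
  have hdW : (d' : G) ∈ W₁ := d'.2
  have hd1 : (d' : G) ≠ 1 := by
    intro h
    rw [h, orderOf_one] at hd
    exact hr.one_lt.ne hd
  obtain ⟨y, hy1⟩ := (Subgroup.ne_bot_iff_exists_ne_one).1 hP.selfNormalizing.2.1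
  have hy1' : (y : G) ≠ 1 := fun h => hy1 (Subtype.ext h)
  have hyσ : (y : G) ∈ Cfsg.sigmaCore M :=
    Cfsg.Agent.Helper4.BG15.fittingHallOf_le_sigmaCore hG hM (hP.W₂_le y.2).1
  have hcomm : (d' : G) * y = y * d' := hP.selfNormalizing.2.2.2.1 _ hdW _ y.2
  have hrσ : r ∉ Cfsg.sigma M := by
    intro hrσ
    have hpg : IsPGroup r ↥(Subgroup.zpowers (d' : G)) := by
      apply IsPGroup.of_card (n := 1)
      rw [Nat.card_zpowers, hd, pow_one]
    have h1 : Subgroup.zpowers (d' : G) ≤ Cfsg.sigmaCore M :=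
      Cfsg.Agent.Lead.BG12.le_sigmaCore' hG hM hrσ (Subgroup.zpowers_le.2 (hW₁M hdW)) hpg
    have h2 : (d' : G) ∈ ⁅M, M⁆ ⊓ W₁ :=
      Subgroup.mem_inf.2 ⟨Cfsg.Agent.Helper1.BGX.sigmaCore_le_commutator hG hM
        (h1 (Subgroup.mem_zpowers _)), hdW⟩
    rw [hP.W₁_compl.2.2.1] at h2
    exact hd1 (Subgroup.mem_bot.1 h2)
  have hr1 : Cfsg.PRankLE r 1 ↥M :=
    pRankLE_one_of_cyclic_hall hsolv hW₁M hP.W₁_cyclic hP.W₁_hall hr hrW
  exact Cfsg.Agent.Helper4.BG14.mem_kappa_of_commute hG hrσ hr1 (hW₁M hdW) hd hyσ hy1' hcomm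

/-- type-`P` data force `κ(M) ≠ ∅` -/
theorem kappa_nonempty_of_isTypePWith (hG : Cfsg.IsMinSimpleOddOrder G) {M W₁ U W₂ : Subgroup G}
    (hM : IsCoatom M) (hP : Cfsg.IsTypePWith M W₁ U W₂) : (Cfsg.kappa M).Nonempty := by
  obtain ⟨r, hr, hrd⟩ := Nat.exists_prime_and_dvd
    (show Nat.card W₁ ≠ 1 from fun h => hP.W₁_ne (Subgroup.card_eq_one.mp h))
  exact ⟨r, mem_kappa_of_isTypePWith hG hM hP hr hrd⟩

/-- type-`P` data force `K ≠ 1` in any standard factorisation -/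
theorem K_ne_bot_of_isTypePWith (hG : Cfsg.IsMinSimpleOddOrder G) {M W₁ U' W₂ K U : Subgroup G}
    (hM : IsCoatom M) (hP : Cfsg.IsTypePWith M W₁ U' W₂)
    (hKU : Cfsg.IsSigmaDecomposition M K U) : K ≠ ⊥ := by
  obtain ⟨r, hrκ⟩ := kappa_nonempty_of_isTypePWith hG hM hP
  intro hK
  have h1 := hKU.hall.2.2 r hrκ.1 hrκ
  apply h1
  rw [hK, Subgroup.relIndex_bot_left]
  exact hrκ.2.1

/-- **S1380 (⇒), first half**: a maximal subgroup of Frobenius type has `K = 1`. -/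
theorem K_eq_bot_of_isOfTypeF (hG : Cfsg.IsMinSimpleOddOrder G) {M K U : Subgroup G}
    (hM : IsCoatom M) (hKU : Cfsg.IsSigmaDecomposition M K U) (hF : Cfsg.IsOfTypeF ↥M) :
    K = ⊥ := by
  by_contra hK1
  have hsolv : Group.IsSolvable ↥M := hG.2.2.2 M hM.1
  obtain ⟨-, -, -, -, UF, -, hcompl, -, ⟨U₀, hU₀, hexp, hreg⟩⟩ := hF
  obtain ⟨r, hr, hrK⟩ := Nat.exists_prime_and_dvd
    (show Nat.card K ≠ 1 from fun h => hK1 (Subgroup.card_eq_one.mp h))
  haveI := Fact.mk hr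
  have hrκ : r ∈ Cfsg.kappa M := hKU.hall.2.1 r hr hrK
  have hrσ : r ∉ Cfsg.sigma M := hrκ.2.2.1
  have h1 : ¬ r ∣ Nat.card (Cfsg.fittingHall ↥M) := by
    intro h
    have h2 : r ∣ Nat.card (Cfsg.fittingHallOf M) := by
      rw [Cfsg.Agent.Helper1.card_fittingHallOf]; exact h
    exact hrσ (Cfsg.Agent.Helper4.BG15.mem_sigma_of_dvd_card_fittingHallOf hG hM hr h2)
  have h3 : Nat.card (Cfsg.fittingHall ↥M) * Nat.card UF = Nat.card ↥M := hcompl.card_mul_card
  have hrM : r ∣ Nat.card ↥M := hrκ.2.1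
  have hrU : r ∣ Nat.card UF := by
    rw [← h3] at hrM
    exact (hr.dvd_mul.1 hrM).resolve_left h1
  obtain ⟨u, hu⟩ := exists_prime_orderOf_dvd_card' (G := ↥UF) r hrU
  have h4 : r ∣ Monoid.exponent ↥UF := hu ▸ Monoid.order_dvd_exponent u
  rw [← hexp] at h4
  have h5 : r ∣ Nat.card ↥U₀ := h4.trans Group.exponent_dvd_nat_card
  obtain ⟨u₀, hu₀⟩ := exists_prime_orderOf_dvd_card' (G := ↥U₀) r h5
  have hu₀M : orderOf (((u₀ : ↥M)) : G) = r := by
    rw [Subgroup.orderOf_coe, Subgroup.orderOf_coe]; exact hu₀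
  have hu₀1 : (u₀ : ↥M) ≠ 1 := by
    intro h
    rw [h, OneMemClass.coe_one, orderOf_one] at hu₀M
    exact hr.one_lt.ne hu₀M
  have hprimes : ∀ q : ℕ, q.Prime → q ∣ Nat.card (Subgroup.zpowers (((u₀ : ↥M)) : G)) →
      q ∈ Cfsg.kappa M := by
    intro q hq hqd
    rw [Nat.card_zpowers, hu₀M] at hqd
    rw [(Nat.prime_dvd_prime_iff_eq hq hr).1 hqd]
    exact hrκ
  obtain ⟨m, hm, hle⟩ := Cfsg.Agent.Helper1.BG147.exists_conj_ge_of_hall hsolv hKU.hall
    (Subgroup.zpowers_le.2 (u₀ : ↥M).2) hprimes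
  obtain ⟨k, hk, hkeq⟩ := hle (Subgroup.mem_zpowers _)
  have hkeq' : m * k * m⁻¹ = ((u₀ : ↥M) : G) := by
    simpa [MulAut.conj_apply] using hkeq
  obtain ⟨-, hKne, hKle, -⟩ := Cfsg.Agent.S1364.result hG M hM K U hKU hK1
  obtain ⟨y, hy1⟩ := (Subgroup.ne_bot_iff_exists_ne_one).1 hKne
  have hy1' : (y : G) ≠ 1 := fun h => hy1 (Subtype.ext h)
  have hyk : k * (y : G) = y * k :=
    Subgroup.mem_centralizer_iff.1 (Subgroup.mem_inf.1 y.2).2 k hk
  have hz : m * (y : G) * m⁻¹ ∈ Cfsg.fittingHallOf M :=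
    (Subgroup.mem_normalizer_iff.1
      (Cfsg.Agent.Helper2.CNMax.le_normalizer_fittingHallOf M hm) y).1 (hKle y.2)
  obtain ⟨z', hz', hzeq⟩ := hz
  have hzeq' : (z' : G) = m * (y : G) * m⁻¹ := hzeq
  have hcomm : (u₀ : ↥M) * z' = z' * (u₀ : ↥M) := by
    apply Subtype.ext
    rw [Subgroup.coe_mul, Subgroup.coe_mul, hzeq', ← hkeq']
    calc m * k * m⁻¹ * (m * (y : G) * m⁻¹) = m * (k * (y : G)) * m⁻¹ := by group
      _ = m * ((y : G) * k) * m⁻¹ := by rw [hyk]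
      _ = _ := by group
  have hz1 := hreg (u₀ : ↥M) u₀.2 hu₀1 z' hz' hcomm
  apply hy1'
  have h6 : m * (y : G) * m⁻¹ = 1 := by rw [← hzeq', hz1]; rfl
  have : (y : G) = m⁻¹ * (m * (y : G) * m⁻¹) * m := by group
  rw [this, h6]; group

/-- **S1380 (⇒)**: a maximal subgroup of Frobenius type (in particular of Type I) has `K = 1`,
`U ≠ 1` and `M_F = M_σ`. -/
theorem isOfTypeF_imp (hG : Cfsg.IsMinSimpleOddOrder G) {M K U : Subgroup G}
    (hM : IsCoatom M) (hKU : Cfsg.IsSigmaDecomposition M K U) (hF : Cfsg.IsOfTypeF ↥M) :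
    K = ⊥ ∧ U ≠ ⊥ ∧ Cfsg.fittingHallOf M = Cfsg.sigmaCore M := by
  have hK := K_eq_bot_of_isOfTypeF hG hM hKU hF
  have hFσ : Cfsg.fittingHallOf M = Cfsg.sigmaCore M := by
    by_contra hne
    have h1 := (Cfsg.Agent.S1357.result hG M hM K U hKU hne).2.2
    rw [hK, Subgroup.card_bot] at h1
    exact Nat.not_prime_one h1
  refine ⟨hK, ?_, hFσ⟩
  intro hU
  have htop : Cfsg.fittingHall ↥M ≠ ⊤ := hF.2.2.2.1
  apply htop
  rw [eq_top_iff]
  intro x _
  have hx : (x : G) ∈ Cfsg.fittingHallOf M := by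
    rw [hFσ]
    obtain ⟨a, ha, b, hb, hab⟩ := hKU.compl.2.2.2 x x.2
    rw [hU, Subgroup.mem_bot] at ha
    rw [hK, bot_sup_eq] at hb
    rw [hab, ha, one_mul]; exact hb
  obtain ⟨x', hx', hxeq⟩ := hx
  have : x' = x := Subtype.ext hxeq
  rw [← this]; exact hx'

theorem isOfTypeI_imp (hG : Cfsg.IsMinSimpleOddOrder G) {M K U : Subgroup G}
    (hM : IsCoatom M) (hKU : Cfsg.IsSigmaDecomposition M K U) (hI : Cfsg.IsOfTypeI M) :
    K = ⊥ ∧ U ≠ ⊥ ∧ Cfsg.fittingHallOf M = Cfsg.sigmaCore M :=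
  isOfTypeF_imp hG hM hKU hI.1

/-- `IsComplIn` is symmetric -/
theorem isComplIn_symm {A B M : Subgroup G} (h : Cfsg.IsComplIn A B M) : Cfsg.IsComplIn B A M := by
  apply Cfsg.Agent.Helper1.BG16.isComplIn_of_card h.2.1 h.1
  · rw [inf_comm]; exact h.2.2.1
  · rw [mul_comm]; exact Cfsg.Agent.Helper1.IsComplIn_card_mul h

omit [Finite G] in
theorem map_conj_le {M X : Subgroup G} (hX : X ≤ M) {m : G} (hm : m ∈ M) :
    X.map (MulAut.conj m).toMonoidHom ≤ M := by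
  rintro _ ⟨x, hx, rfl⟩
  simp only [MulEquiv.coe_toMonoidHom, MulAut.conj_apply]
  exact M.mul_mem (M.mul_mem hm (hX hx)) (M.inv_mem hm)

omit [Finite G] in
theorem map_conj_eq_of_mem_normalizer {X : Subgroup G} {m : G}
    (hm : m ∈ Subgroup.normalizer (X : Set G)) : X.map (MulAut.conj m).toMonoidHom = X := by
  apply le_antisymm
  · rintro _ ⟨x, hx, rfl⟩
    simp only [MulEquiv.coe_toMonoidHom, MulAut.conj_apply]
    exact (Subgroup.mem_normalizer_iff.1 hm x).1 hx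
  · intro y hy
    refine ⟨m⁻¹ * y * m, ?_, ?_⟩
    · have := (Subgroup.mem_normalizer_iff.1 (Subgroup.inv_mem _ hm) y).1 hy
      simpa using this
    · simp only [MulEquiv.coe_toMonoidHom, MulAut.conj_apply]; group

/-- conjugating a standard factorisation by an element of `M` -/
theorem isSigmaDecomposition_conj {M K U : Subgroup G}
    (hKU : Cfsg.IsSigmaDecomposition M K U) {m : G} (hm : m ∈ M) :
    Cfsg.IsSigmaDecomposition M (K.map (MulAut.conj m).toMonoidHom)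
      (U.map (MulAut.conj m).toMonoidHom) := by
  have hinj : Function.Injective (MulAut.conj m).toMonoidHom := (MulAut.conj m).injective
  have hMm : M.map (MulAut.conj m).toMonoidHom = M :=
    map_conj_eq_of_mem_normalizer (Subgroup.le_normalizer hm)
  have hσm : (Cfsg.sigmaCore M).map (MulAut.conj m).toMonoidHom = Cfsg.sigmaCore M :=
    map_conj_eq_of_mem_normalizer (Cfsg.Agent.Lead.BG12.le_normalizer_sigmaCore M hm)
  refine ⟨?_, ⟨map_conj_le hKU.hall.1 hm, ?_, ?_⟩, ?_, ?_⟩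
  · haveI := hKU.cyclic
    exact isCyclic_of_surjective (K.equivMapOfInjective _ hinj)
      (K.equivMapOfInjective _ hinj).surjective
  · intro p hp hpd
    rw [Subgroup.card_map_of_injective hinj] at hpd
    exact hKU.hall.2.1 p hp hpd
  · intro p hp hpκ hpd
    apply hKU.hall.2.2 p hp hpκ
    rw [← Subgroup.relIndex_map_map_of_injective K M hinj, hMm]
    exact hpd
  · have hc := Cfsg.Agent.Helper1.IsComplIn_card_mul hKU.compl
    apply Cfsg.Agent.Helper1.BG16.isComplIn_of_card (map_conj_le hKU.compl.1 hm)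
      (sup_le (map_conj_le hKU.hall.1 hm) Cfsg.Agent.Lead.BG12.sigmaCore_le)
    · have h1 : U.map (MulAut.conj m).toMonoidHom ⊓
          (K.map (MulAut.conj m).toMonoidHom ⊔ Cfsg.sigmaCore M) =
          (U ⊓ (K ⊔ Cfsg.sigmaCore M)).map (MulAut.conj m).toMonoidHom := by
        rw [Subgroup.map_inf _ _ _ hinj, Subgroup.map_sup, hσm]
      rw [h1, hKU.compl.2.2.1, Subgroup.map_bot]
    · have h2 : K.map (MulAut.conj m).toMonoidHom ⊔ Cfsg.sigmaCore M =
          (K ⊔ Cfsg.sigmaCore M).map (MulAut.conj m).toMonoidHom := by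
        rw [Subgroup.map_sup, hσm]
      rw [h2, Subgroup.card_map_of_injective hinj, Subgroup.card_map_of_injective hinj]
      exact hc
  · rintro _ ⟨k, hk, rfl⟩
    have h1 : (MulAut.conj m).toMonoidHom k ∈
        (Subgroup.normalizer (U : Set G)).map (MulAut.conj m).toMonoidHom :=
      ⟨k, hKU.normal hk, rfl⟩
    have h2 := Subgroup.le_normalizer_map (H := U) (MulAut.conj m).toMonoidHom h1
    exact h2

/-- the standard factorisation with `K = 1` attached to a complement of `M_σ`, when `κ(M) = ∅` -/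
theorem isSigmaDecomposition_bot {M U : Subgroup G} (hκ : Cfsg.kappa M = ∅)
    (hU : Cfsg.IsComplIn (Cfsg.sigmaCore M) U M) : Cfsg.IsSigmaDecomposition M ⊥ U := by
  refine ⟨?_, ⟨bot_le, ?_, ?_⟩, ?_, bot_le⟩
  · exact isCyclic_of_subsingleton
  · intro p hp hpd
    rw [Subgroup.card_bot] at hpd
    exact absurd (Nat.dvd_one.1 hpd) hp.one_lt.ne'
  · intro p hp hpκ
    rw [hκ] at hpκ
    exact absurd hpκ (Set.notMem_empty p)
  · rw [bot_sup_eq]; exact isComplIn_symm hU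

/-- `K = 1` in a standard factorisation means `κ(M) = ∅` -/
theorem kappa_eq_empty_of_K_eq_bot {M U : Subgroup G}
    (hKU : Cfsg.IsSigmaDecomposition M ⊥ U) : Cfsg.kappa M = ∅ := by
  apply Set.eq_empty_of_forall_notMem
  intro r hrκ
  apply hKU.hall.2.2 r hrκ.1 hrκ
  rw [Subgroup.relIndex_bot_left]
  exact hrκ.2.1

/-- with `K = 1`: `M = U M_σ` -/
theorem U_sup_sigmaCore_eq {M U : Subgroup G}
    (hKU : Cfsg.IsSigmaDecomposition M ⊥ U) : U ⊔ Cfsg.sigmaCore M = M := by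
  apply le_antisymm (sup_le hKU.compl.1 Cfsg.Agent.Lead.BG12.sigmaCore_le)
  intro x hx
  obtain ⟨a, ha, b, hb, hab⟩ := hKU.compl.2.2.2 x hx
  rw [bot_sup_eq] at hb
  rw [hab]
  exact Subgroup.mul_mem _ (Subgroup.mem_sup_left ha) (Subgroup.mem_sup_right hb)

omit [Finite G] in
/-- the set-level translation: `A(M) ∖ A₁(M)` in the language of types is `A(M) ∖ M_σ` in the language
of the standard factorisation. -/
theorem typeA_diff_eq {M U : Subgroup G}
    (hA : Cfsg.typeA M = {a | a ∈ U ⊔ Cfsg.sigmaCore M ∧ a ≠ 1 ∧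
      ∃ x ∈ Cfsg.sigmaCore M, x ≠ 1 ∧ a * x = x * a})
    (hA1 : Cfsg.typeA1 M = (↑(Cfsg.sigmaCore M) : Set G) \ {1})
    (hDM : U ⊔ Cfsg.sigmaCore M ≤ M) :
    Cfsg.typeA M \ Cfsg.typeA1 M = Cfsg.sigmaA M U \ (Cfsg.sigmaCore M : Set G) := by
  ext a
  rw [hA, hA1]
  simp only [Set.mem_sdiff, Set.mem_ofPred_eq, Cfsg.sigmaA, Cfsg.sigmaHat, Set.mem_inter_iff,
    SetLike.mem_coe, Set.mem_singleton_iff]
  constructor
  · rintro ⟨⟨haD, ha1, x, hx, hx1, hax⟩, hna⟩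
    exact ⟨⟨⟨hDM haD, x, hx, hx1, hax⟩, haD⟩, fun h => hna ⟨h, ha1⟩⟩
  · rintro ⟨⟨⟨haM, x, hx, hx1, hax⟩, haD⟩, hna⟩
    exact ⟨⟨haD, fun h => hna (h ▸ Subgroup.one_mem _), x, hx, hx1, hax⟩, fun h => hna h.1⟩

end Cfsg.Agent.Helper3.BG16T
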