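import Mathlib
import Cfsg.Prelude.Def_CaseTheorems
import Cfsg.Agent.Lead.BswDefs
import Cfsg.Agent.Helper1.BsdDefs1
import Cfsg.Agent.Helper9.Bsd_I1_I2

/-!
# S0508 (Brauer-Suzuki-Wall, dihedral Sylow 2-subgroups), PART 1, pieces I3a, I3b (helper3):
the two dihedral lemmas transported to a subgroup `S` of `G` isomorphic to a dihedral group.
-/

set_option autoImplicit false

namespace Cfsg.Agent.Helper1.Bsd

open Cfsg.Agent.Lead.Bsw (Hyp)

variable {G : Type*} [Group G]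

/-- the image of `Z ⊓ S` in the dihedral group -/
theorem h3b_mem_image (S : Subgroup G) (n : ℕ) (e : ↥S ≃* DihedralGroup n) (Z : Subgroup G)
    (x : G) (hx : x ∈ S) :
    e ⟨x, hx⟩ ∈ (Z.subgroupOf S).map e.toMonoidHom ↔ x ∈ Z := by
  constructor
  · intro h
    obtain ⟨y, hy, hyx⟩ := Subgroup.mem_map.1 h
    have h1 : y = ⟨x, hx⟩ := e.injective hyx
    rw [h1] at hy
    exact Subgroup.mem_subgroupOf.1 hy
  · intro h
    exact Subgroup.mem_map.2 ⟨⟨x, hx⟩, Subgroup.mem_subgroupOf.2 h, rfl⟩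

/-- P3a: P1 transported to a subgroup `S` of `G` isomorphic to a dihedral group. -/
theorem sub_outside (S : Subgroup G) (n : ℕ) (hn : 2 ≤ n) (e : ↥S ≃* DihedralGroup n)
    (Z : Subgroup G) (hZS : Z ≤ S) (hZ : IsCyclic ↥Z) (hi : Z.relIndex S = 2) :
    ∀ x ∈ S, x ∉ Z → x * x = 1 ∧ ∀ z ∈ Z, x * z * x⁻¹ = z⁻¹ := by
  intro x hx hxZ
  -- the image of `Z`
  have hcyc : IsCyclic ↥((Z.subgroupOf S).map e.toMonoidHom) := by
    have e1 : ↥Z ≃* ↥(Z.subgroupOf S) := (Subgroup.subgroupOfEquivOfLe hZS).symm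
    have e2 : ↥(Z.subgroupOf S) ≃* ↥((Z.subgroupOf S).map e.toMonoidHom) :=
      (Z.subgroupOf S).equivMapOfInjective e.toMonoidHom e.injective
    exact isCyclic_of_surjective (e1.trans e2) (e1.trans e2).surjective
  have hidx : ((Z.subgroupOf S).map e.toMonoidHom).index = 2 := by
    have h1 : ((Z.subgroupOf S).map e.toMonoidHom).index = (Z.subgroupOf S).index :=
      Subgroup.index_map_equiv (Z.subgroupOf S) e
    rw [h1]
    exact hi
  have hxn : e ⟨x, hx⟩ ∉ (Z.subgroupOf S).map e.toMonoidHom := by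
    rw [h3b_mem_image S n e Z x hx]
    exact hxZ
  obtain ⟨h1, h2⟩ := dih_outside n hn _ hcyc hidx (e ⟨x, hx⟩) hxn
  constructor
  · have h3 : e (⟨x, hx⟩ * ⟨x, hx⟩) = e 1 := by
      rw [map_mul, map_one]
      exact h1
    have h4 := e.injective h3
    exact congrArg Subtype.val h4
  · intro z hz
    have hzS : z ∈ S := hZS hz
    have hzi : e ⟨z, hzS⟩ ∈ (Z.subgroupOf S).map e.toMonoidHom :=
      (h3b_mem_image S n e Z z hzS).2 hz
    have h3 := h2 _ hzi
    have h4 : e (⟨x, hx⟩ * ⟨z, hzS⟩ * (⟨x, hx⟩ : ↥S)⁻¹) = e ((⟨z, hzS⟩ : ↥S)⁻¹) := by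
      rw [map_mul, map_mul, map_inv, map_inv]
      exact h3
    have h5 := e.injective h4
    exact congrArg Subtype.val h5

/-- P3b: P2 transported. -/
theorem sub_exists (S : Subgroup G) (n : ℕ) (hn : 2 ≤ n) (e : ↥S ≃* DihedralGroup n)
    (t : G) (htS : t ∈ S) (ht : orderOf t = 2) (hc : ∀ x ∈ S, x * t = t * x) :
    ∃ Z : Subgroup G, Z ≤ S ∧ IsCyclic ↥Z ∧ Z.relIndex S = 2 ∧ t ∈ Z := by
  have ht' : orderOf (e ⟨t, htS⟩) = 2 := by
    rw [MulEquiv.orderOf_eq e ⟨t, htS⟩, Subgroup.orderOf_mk]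
    exact ht
  have hc' : ∀ x : DihedralGroup n, x * e ⟨t, htS⟩ = e ⟨t, htS⟩ * x := by
    intro x
    obtain ⟨y, rfl⟩ := e.surjective x
    rw [← map_mul, ← map_mul]
    congr 1
    exact Subtype.ext (hc y.1 y.2)
  obtain ⟨Z', hZ'c, hZ'i, htZ'⟩ := dih_exists n hn (e ⟨t, htS⟩) ht' hc'
  refine ⟨(Z'.comap e.toMonoidHom).map S.subtype, ?_, ?_, ?_, ?_⟩
  · intro x hxm
    obtain ⟨y, _, rfl⟩ := Subgroup.mem_map.1 hxm
    exact y.2
  · have e1 : ↥(Z'.comap e.toMonoidHom) ≃* ↥((Z'.comap e.toMonoidHom).map S.subtype) :=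
      (Z'.comap e.toMonoidHom).equivMapOfInjective S.subtype S.subtype_injective
    have e2 : ↥(Z'.comap e.toMonoidHom) ≃* ↥Z' :=
      { toFun := fun y => ⟨e y.1, y.2⟩
        invFun := fun y => ⟨e.symm y.1, by
          show e (e.symm y.1) ∈ Z'
          rw [e.apply_symm_apply]
          exact y.2⟩
        left_inv := fun y => Subtype.ext (e.symm_apply_apply y.1)
        right_inv := fun y => Subtype.ext (e.apply_symm_apply y.1)
        map_mul' := fun y z => Subtype.ext (map_mul e y.1 z.1) }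
    exact isCyclic_of_surjective (e2.symm.trans e1) (e2.symm.trans e1).surjective
  · have h1 : ((Z'.comap e.toMonoidHom).map S.subtype).subgroupOf S = Z'.comap e.toMonoidHom := by
      ext y
      rw [Subgroup.mem_subgroupOf]
      constructor
      · intro h
        obtain ⟨z, hz, hzy⟩ := Subgroup.mem_map.1 h
        have : z = y := Subtype.ext hzy
        rw [← this]
        exact hz
      · intro h
        exact Subgroup.mem_map.2 ⟨y, h, rfl⟩
    show (((Z'.comap e.toMonoidHom).map S.subtype).subgroupOf S).index = 2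
    rw [h1, Subgroup.index_comap_of_surjective Z' e.surjective]
    exact hZ'i
  · exact Subgroup.mem_map.2 ⟨⟨t, htS⟩, htZ', rfl⟩

end Cfsg.Agent.Helper1.Bsd
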