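import Mathlib
set_option autoImplicit false
universe u v
namespace Cfsg.Agent.Helper3.SuzA

variable {K : Type v} [CommGroup K]

/-- The standing hypothesis: a `2`-group with at least two involutions on which the commutative group `K`
acts by automorphisms, transitively on involutions. -/
structure Hyp (K : Type v) [CommGroup K] (P : Type u) [Group P] [MulDistribMulAction K P] : Prop where
  pgroup : IsPGroup 2 P
  two : ∃ x y : P, x ≠ y ∧ x ≠ 1 ∧ x * x = 1 ∧ y ≠ 1 ∧ y * y = 1
  trans : ∀ x y : P, x ≠ 1 → x * x = 1 → y ≠ 1 → y * y = 1 → ∃ k : K, k • x = y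

section basic
variable {P : Type u} [Group P] [MulDistribMulAction K P]

theorem smul_eq_one_iff' (k : K) (x : P) : k • x = 1 ↔ x = 1 := by
  constructor
  · intro h
    have : k⁻¹ • (k • x) = k⁻¹ • (1 : P) := by rw [h]
    rwa [inv_smul_smul, smul_one] at this
  · rintro rfl; exact smul_one k

theorem smul_mem_center (k : K) {x : P} (hx : x ∈ Subgroup.center P) : k • x ∈ Subgroup.center P := by
  rw [Subgroup.mem_center_iff] at hx ⊢
  intro y
  have h := hx (k⁻¹ • y)
  have : k • (k⁻¹ • y * x) = k • (x * k⁻¹ • y) := by rw [h]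
  rwa [smul_mul', smul_mul', smul_inv_smul] at this

theorem exists_invol_pow (hP : IsPGroup 2 P) {z : P} (hz : z ≠ 1) :
    ∃ n : ℕ, z ^ n ≠ 1 ∧ z ^ n * z ^ n = 1 := by
  obtain ⟨a, ha⟩ := (IsPGroup.iff_orderOf.mp hP) z
  have ha0 : a ≠ 0 := by
    rintro rfl
    rw [pow_zero, orderOf_eq_one_iff] at ha
    exact hz ha
  obtain ⟨b, rfl⟩ : ∃ b, a = b + 1 := ⟨a - 1, by omega⟩
  refine ⟨2 ^ b, ?_, ?_⟩
  · apply pow_ne_one_of_lt_orderOf (by positivity)
    rw [ha, pow_succ]; have : 0 < 2 ^ b := by positivity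
    omega
  · rw [← pow_add, ← two_mul, mul_comm, ← pow_succ, ← ha, pow_orderOf_eq_one]

theorem invol_central [Finite P] (h : Hyp K P) {x : P} (hx : x * x = 1) : x ∈ Subgroup.center P := by
  by_cases hx1 : x = 1
  · rw [hx1]; exact one_mem _
  have : Nontrivial P := ⟨⟨x, 1, hx1⟩⟩
  have hc := h.pgroup.center_nontrivial
  obtain ⟨⟨z, hzc⟩, hz1⟩ := exists_ne (1 : Subgroup.center P)
  have hz1' : z ≠ 1 := fun e => hz1 (Subtype.ext e)
  obtain ⟨n, hn1, hn2⟩ := exists_invol_pow h.pgroup hz1'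
  obtain ⟨k, hk⟩ := h.trans (z ^ n) x hn1 hn2 hx1 hx
  rw [← hk]
  exact smul_mem_center k (Subgroup.pow_mem _ hzc n)

/-- `Ω₁(P)`: the elements of square one, a central subgroup. -/
def Z0 (P : Type u) [Group P] : Subgroup P where
  carrier := {x | x ∈ Subgroup.center P ∧ x * x = 1}
  one_mem' := ⟨one_mem _, by simp⟩
  mul_mem' := by
    rintro a b ⟨ha, ha2⟩ ⟨hb, hb2⟩
    refine ⟨mul_mem ha hb, ?_⟩
    have hc := (Subgroup.mem_center_iff.mp ha) b
    calc a * b * (a * b) = a * (b * a) * b := by group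
      _ = a * (a * b) * b := by rw [hc]
      _ = (a * a) * (b * b) := by group
      _ = 1 := by rw [ha2, hb2, one_mul]
  inv_mem' := by
    rintro a ⟨ha, ha2⟩
    refine ⟨inv_mem ha, ?_⟩
    have : a⁻¹ = a := inv_eq_of_mul_eq_one_left ha2
    rw [this, ha2]

theorem mem_Z0_iff [Finite P] (h : Hyp K P) {x : P} : x ∈ Z0 P ↔ x * x = 1 :=
  ⟨fun hx => hx.2, fun hx => ⟨invol_central h hx, hx⟩⟩

theorem Z0_le_center : Z0 P ≤ Subgroup.center P := fun _ hx => hx.1

theorem Z0_sq {x : P} (hx : x ∈ Z0 P) : x * x = 1 := hx.2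

instance Z0_normal : (Z0 P).Normal := by
  constructor
  intro n hn g
  have := (Subgroup.mem_center_iff.mp hn.1) g
  have e : g * n * g⁻¹ = n := by rw [this]; group
  rw [e]; exact hn

theorem smul_mem_Z0 (k : K) {x : P} (hx : x ∈ Z0 P) : k • x ∈ Z0 P := by
  refine ⟨smul_mem_center k hx.1, ?_⟩
  rw [← smul_mul', hx.2, smul_one]

theorem Z0_comm {a : P} (ha : a ∈ Z0 P) (b : P) : a * b = b * a :=
  ((Subgroup.mem_center_iff.mp ha.1) b).symm

theorem Z0_inv {a : P} (ha : a ∈ Z0 P) : a⁻¹ = a := inv_eq_of_mul_eq_one_left ha.2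

/-- The action on a `K`-invariant subgroup. -/
@[reducible] def subAct (S : Subgroup P) (hS : ∀ k : K, ∀ x ∈ S, k • x ∈ S) : MulDistribMulAction K S where
  smul k x := ⟨k • (x : P), hS k x x.2⟩
  one_smul x := Subtype.ext (one_smul K (x : P))
  mul_smul k l x := Subtype.ext (mul_smul k l (x : P))
  smul_mul k x y := Subtype.ext (smul_mul' k (x : P) (y : P))
  smul_one k := Subtype.ext (smul_one k)

theorem subAct_coe (S : Subgroup P) (hS : ∀ k : K, ∀ x ∈ S, k • x ∈ S) (k : K) (x : S) :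
    (((subAct S hS).smul k x : S) : P) = k • (x : P) := rfl

/-- The action on the quotient by a `K`-invariant normal subgroup. -/
@[reducible] def quotAct (N : Subgroup P) [N.Normal] (hN : ∀ k : K, ∀ x ∈ N, k • x ∈ N) :
    MulDistribMulAction K (P ⧸ N) where
  smul k q := QuotientGroup.map N N (MulDistribMulAction.toMonoidHom P k) (fun x hx => hN k x hx) q
  one_smul q := by
    induction q using QuotientGroup.induction_on with
    | H x =>
      change (((1 : K) • x : P) : P ⧸ N) = (x : P ⧸ N)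
      rw [one_smul]
  mul_smul k l q := by
    induction q using QuotientGroup.induction_on with
    | H x =>
      change (((k * l) • x : P) : P ⧸ N) = ((k • (l • x) : P) : P ⧸ N)
      rw [mul_smul]
  smul_mul k q r := by
    change QuotientGroup.map N N _ _ (q * r) = QuotientGroup.map N N _ _ q * QuotientGroup.map N N _ _ r
    exact map_mul _ q r
  smul_one k := by
    change QuotientGroup.map N N _ _ 1 = 1
    exact map_one _

theorem quotAct_mk (N : Subgroup P) [N.Normal] (hN : ∀ k : K, ∀ x ∈ N, k • x ∈ N) (k : K) (x : P) :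
    (quotAct N hN).smul k (x : P ⧸ N) = ((k • x : P) : P ⧸ N) := rfl

end basic

section trick
variable {P : Type u} [Group P] [MulDistribMulAction K P]

theorem exists_sq_smul (W : Subgroup P) [Finite W]
    (hWK : ∀ (k : K), ∀ a ∈ W, k • a ∈ W)
    (htr : ∀ a ∈ W, ∀ b ∈ W, a ≠ 1 → b ≠ 1 → ∃ k : K, k • a = b)
    {a : P} (ha : a ∈ W) (ha1 : a ≠ 1) (ha2 : a * a = 1) (m : K) :
    ∃ k : K, (k * k) • a = m • a := by
  have horb : MulAction.orbit K a = (W : Set P) \ {1} := by
    ext b
    constructor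
    · rintro ⟨k, rfl⟩
      refine ⟨hWK k a ha, ?_⟩
      simp only [Set.mem_singleton_iff]
      intro h; exact ha1 ((smul_eq_one_iff' k a).mp h)
    · rintro ⟨hb, hb1⟩
      simp only [Set.mem_singleton_iff] at hb1
      obtain ⟨k, hk⟩ := htr a ha b hb ha1 hb1
      exact ⟨k, hk⟩
  have hfin : (W : Set P).Finite := Set.toFinite _
  have hidx : (MulAction.stabilizer K a).index = Nat.card W - 1 := by
    rw [MulAction.index_stabilizer, horb, Set.ncard_sdiff_singleton_of_mem (one_mem W) ]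
    congr 1
  have h2 : 2 ∣ Nat.card W := by
    have ho : orderOf (⟨a, ha⟩ : W) = 2 := by
      apply orderOf_eq_prime
      · apply Subtype.ext; simp [pow_two, ha2]
      · intro h; exact ha1 (congrArg Subtype.val h)
    rw [← ho]; exact orderOf_dvd_natCard _
  obtain ⟨c, hc⟩ := h2
  have hcpos : 0 < c := by
    rcases Nat.eq_zero_or_pos c with h | h
    · rw [h, mul_zero] at hc; exact absurd hc (Nat.card_pos).ne'
    · exact h
  have hmem : m ^ (Nat.card W - 1) ∈ MulAction.stabilizer K a := by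
    rw [← hidx]; exact Subgroup.pow_index_mem _ m
  rw [MulAction.mem_stabilizer_iff] at hmem
  refine ⟨m ^ c, ?_⟩
  rw [← pow_add, ← two_mul, ← hc]
  have : Nat.card W = (Nat.card W - 1) + 1 := by omega
  rw [this, pow_succ', mul_smul]
  rw [hmem]

theorem field_trick (W : Subgroup P) [Finite W]
    (hW2 : ∀ a ∈ W, a * a = 1)
    (hWK : ∀ (k : K), ∀ a ∈ W, k • a ∈ W)
    (htr : ∀ a ∈ W, ∀ b ∈ W, a ≠ 1 → b ≠ 1 → ∃ k : K, k • a = b)
    (β : P → P → P) (hβW : ∀ a ∈ W, ∀ b ∈ W, β a b ∈ W)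
    (hl : ∀ a ∈ W, ∀ b ∈ W, ∀ c ∈ W, β (a * b) c = β a c * β b c)
    (hr : ∀ a ∈ W, ∀ b ∈ W, ∀ c ∈ W, β a (b * c) = β a b * β a c)
    (halt : ∀ a ∈ W, β a a = 1)
    (heq : ∀ (k : K), ∀ a ∈ W, ∀ b ∈ W, β (k • a) (k • b) = k • β a b) :
    ∀ a ∈ W, ∀ b ∈ W, β a b = 1 := by
  have hinv : ∀ a ∈ W, a⁻¹ = a := fun a ha => inv_eq_of_mul_eq_one_left (hW2 a ha)
  have h1l : ∀ b ∈ W, β 1 b = 1 := by
    intro b hb
    have h := hl 1 (one_mem W) 1 (one_mem W) b hb
    rw [one_mul] at h
    have : β 1 b * 1 = β 1 b * β 1 b := by rw [mul_one]; exact h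
    exact (mul_left_cancel this).symm
  -- sum lemma
  have hsum : ∀ k l : K, (∃ m : K, ∀ a ∈ W, m • a = k • a * l • a) ∨ (∀ a ∈ W, k • a * l • a = 1) := by
    intro k l
    by_cases hne : ∃ w ∈ W, w ≠ 1
    · obtain ⟨w, hw, hw1⟩ := hne
      by_cases hb0 : k • w * l • w = 1
      · right
        intro a ha
        by_cases ha1 : a = 1
        · rw [ha1, smul_one, smul_one, one_mul]
        · obtain ⟨r, rfl⟩ := htr w hw a ha hw1 ha1
          rw [smul_comm k r w, smul_comm l r w, ← smul_mul', hb0, smul_one]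
      · left
        obtain ⟨m, hm⟩ := htr w hw _ (mul_mem (hWK k w hw) (hWK l w hw)) hw1 hb0
        refine ⟨m, ?_⟩
        intro a ha
        by_cases ha1 : a = 1
        · rw [ha1, smul_one, smul_one, smul_one, one_mul]
        · obtain ⟨r, rfl⟩ := htr w hw a ha hw1 ha1
          rw [smul_comm m r w, hm, smul_comm k r w, smul_comm l r w, ← smul_mul']
    · right
      intro a ha
      have : a = 1 := by
        by_contra h; exact hne ⟨a, ha, h⟩
      rw [this, smul_one, smul_one, one_mul]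
  have hE : ∀ k l : K, ∀ x ∈ W, ∀ y ∈ W, β (k • x) (l • y) = β (l • x) (k • y) := by
    intro k l x hx y hy
    rcases hsum k l with ⟨m, hm⟩ | h0
    · have e1 := heq m x hx y hy
      rw [hm x hx, hm y hy, hm _ (hβW x hx y hy)] at e1
      rw [hl _ (hWK k x hx) _ (hWK l x hx) _ (mul_mem (hWK k y hy) (hWK l y hy)),
        hr _ (hWK k x hx) _ (hWK k y hy) _ (hWK l y hy),
        hr _ (hWK l x hx) _ (hWK k y hy) _ (hWK l y hy),
        heq k x hx y hy, heq l x hx y hy] at e1
      -- e1 : (k•β * B) * (C * l•β) = k•β * l•β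
      have e2 : β (k • x) (l • y) * β (l • x) (k • y) = 1 := by
        have e3 : k • β x y * (β (k • x) (l • y) * (β (l • x) (k • y) * l • β x y))
            = k • β x y * l • β x y := by
          rw [← e1]; group
        have e4 := mul_left_cancel e3
        have e5 : (β (k • x) (l • y) * β (l • x) (k • y)) * l • β x y = 1 * l • β x y := by
          rw [one_mul, mul_assoc]; exact e4
        exact mul_right_cancel e5
      have := eq_inv_of_mul_eq_one_left e2
      rw [this, hinv _ (hβW _ (hWK l x hx) _ (hWK k y hy))]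
    · have hkl : ∀ a ∈ W, k • a = l • a := by
        intro a ha
        have := eq_inv_of_mul_eq_one_left (h0 a ha)
        rw [this, hinv _ (hWK l a ha)]
      rw [hkl x hx, hkl y hy]
  intro a ha b hb
  by_cases ha1 : a = 1
  · rw [ha1]; exact h1l b hb
  by_cases hb1 : b = 1
  · rw [hb1]
    have h := hr a ha 1 (one_mem W) 1 (one_mem W)
    rw [one_mul] at h
    have : β a 1 * 1 = β a 1 * β a 1 := by rw [mul_one]; exact h
    exact (mul_left_cancel this).symm
  obtain ⟨m, rfl⟩ := htr a ha b hb ha1 hb1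
  obtain ⟨k, hk⟩ := exists_sq_smul W hWK htr ha ha1 (hW2 a ha) m
  rw [← hk, mul_smul]
  have := hE k 1 a ha (k • a) (hWK k a ha)
  rw [one_smul, one_smul] at this
  rw [← this]
  exact halt _ (hWK k a ha)

end trick

end Cfsg.Agent.Helper3.SuzA
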