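import Mathlib
import Cfsg.Agent.Helper3.SuzA
set_option autoImplicit false
universe u v
namespace Cfsg.Agent.Helper3.SuzA

variable {K : Type v} [CommGroup K]

section
variable {P : Type u} [Group P] [MulDistribMulAction K P]

theorem hyp_sub [Finite P] (h : Hyp K P) (S : Subgroup P) (hS : ∀ k : K, ∀ x ∈ S, k • x ∈ S)
    (hZS : Z0 P ≤ S) : @Hyp K _ S _ (subAct S hS) := by
  let _ := subAct S hS
  refine ⟨h.pgroup.to_subgroup S, ?_, ?_⟩
  · obtain ⟨x, y, hxy, hx1, hx2, hy1, hy2⟩ := h.two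
    refine ⟨⟨x, hZS ((mem_Z0_iff h).mpr hx2)⟩, ⟨y, hZS ((mem_Z0_iff h).mpr hy2)⟩, ?_, ?_, ?_, ?_, ?_⟩
    · intro e; exact hxy (congrArg Subtype.val e)
    · intro e; exact hx1 (congrArg Subtype.val e)
    · exact Subtype.ext hx2
    · intro e; exact hy1 (congrArg Subtype.val e)
    · exact Subtype.ext hy2
  · intro x y hx1 hx2 hy1 hy2
    obtain ⟨k, hk⟩ := h.trans (x : P) (y : P) (fun e => hx1 (Subtype.ext e)) (congrArg Subtype.val hx2)
      (fun e => hy1 (Subtype.ext e)) (congrArg Subtype.val hy2)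
    exact ⟨k, Subtype.ext hk⟩

theorem smul_mul_self (k : K) (x : P) : k • x * k • x = k • (x * x) := (smul_mul' k x x).symm

/-- (C) every element of `Z0` is the square of a central element, if the centre has exponent `> 2`. -/
theorem exists_central_sqrt [Finite P] (h : Hyp K P) (hz : ∃ z ∈ Subgroup.center P, z * z ≠ 1) :
    ∀ v ∈ Z0 P, ∃ z ∈ Subgroup.center P, z * z = v := by
  obtain ⟨z, hzc, hz2⟩ := hz
  obtain ⟨n, hn1, hn2⟩ := exists_invol_pow h.pgroup hz2
  -- w = (z*z)^n is an involution and the square of z^n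
  have hw : (z * z) ^ n = z ^ n * z ^ n := by
    rw [← pow_two, ← pow_mul, mul_comm, pow_mul, pow_two]
  intro v hv
  by_cases hv1 : v = 1
  · exact ⟨1, one_mem _, by rw [hv1, one_mul]⟩
  obtain ⟨k, hk⟩ := h.trans _ v hn1 hn2 hv1 hv.2
  refine ⟨k • z ^ n, smul_mem_center k (Subgroup.pow_mem _ hzc n), ?_⟩
  rw [smul_mul_self, ← hw, hk]

/-- (D) -/
theorem mem_center_of_sq_mem_Z0 [Finite P] (h : Hyp K P) (hz : ∃ z ∈ Subgroup.center P, z * z ≠ 1)
    {x : P} (hx : x * x ∈ Z0 P) : x ∈ Subgroup.center P := by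
  obtain ⟨z, hzc, hz2⟩ := exists_central_sqrt h hz _ (inv_mem hx)
  have hcomm := (Subgroup.mem_center_iff.mp hzc) x
  have h1 : (x * z) * (x * z) = 1 := by
    calc (x * z) * (x * z) = x * (z * x) * z := by group
      _ = x * (x * z) * z := by rw [← hcomm]
      _ = (x * x) * (z * z) := by group
      _ = 1 := by rw [hz2, mul_inv_cancel]
  have h2 := invol_central h h1
  have : x = (x * z) * z⁻¹ := by group
  rw [this]
  exact mul_mem h2 (inv_mem hzc)

theorem hyp_quot [Finite P] (h : Hyp K P) (hz : ∃ z ∈ Subgroup.center P, z * z ≠ 1) :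
    @Hyp K _ (P ⧸ Z0 P) _ (quotAct (Z0 P) (fun k _ hx => smul_mem_Z0 k hx)) := by
  let _ := quotAct (K := K) (Z0 P) (fun k _ hx => smul_mem_Z0 k hx)
  have hC := exists_central_sqrt h hz
  -- central elements with the same square agree mod Z0
  have key : ∀ a ∈ Subgroup.center P, ∀ b ∈ Subgroup.center P, a * a = b * b → a⁻¹ * b ∈ Z0 P := by
    intro a ha b hb hab
    refine ⟨mul_mem (inv_mem ha) hb, ?_⟩
    have hc := (Subgroup.mem_center_iff.mp hb) a⁻¹
    calc a⁻¹ * b * (a⁻¹ * b) = a⁻¹ * (b * a⁻¹) * b := by group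
      _ = a⁻¹ * (a⁻¹ * b) * b := by rw [hc]
      _ = (a * a)⁻¹ * (b * b) := by group
      _ = 1 := by rw [hab, inv_mul_cancel]
  refine ⟨h.pgroup.to_quotient (Z0 P), ?_, ?_⟩
  · obtain ⟨x, y, hxy, hx1, hx2, hy1, hy2⟩ := h.two
    obtain ⟨a, hac, ha⟩ := hC x ((mem_Z0_iff h).mpr hx2)
    obtain ⟨b, hbc, hb⟩ := hC y ((mem_Z0_iff h).mpr hy2)
    refine ⟨(a : P ⧸ Z0 P), (b : P ⧸ Z0 P), ?_, ?_, ?_, ?_, ?_⟩
    · intro e
      rw [QuotientGroup.eq] at e
      have := e.2
      apply hxy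
      rw [← ha, ← hb]
      have hc := (Subgroup.mem_center_iff.mp hbc) a⁻¹
      have e2 : (a * a)⁻¹ * (b * b) = 1 := by
        calc (a * a)⁻¹ * (b * b) = a⁻¹ * (a⁻¹ * b) * b := by group
          _ = a⁻¹ * (b * a⁻¹) * b := by rw [hc]
          _ = a⁻¹ * b * (a⁻¹ * b) := by group
          _ = 1 := this
      have := eq_inv_of_mul_eq_one_left e2
      exact inv_injective this
    · intro e
      rw [QuotientGroup.eq_one_iff] at e
      exact hx1 (by rw [← ha]; exact e.2)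
    · rw [← QuotientGroup.mk_mul, ha, QuotientGroup.eq_one_iff]
      exact (mem_Z0_iff h).mpr hx2
    · intro e
      rw [QuotientGroup.eq_one_iff] at e
      exact hy1 (by rw [← hb]; exact e.2)
    · rw [← QuotientGroup.mk_mul, hb, QuotientGroup.eq_one_iff]
      exact (mem_Z0_iff h).mpr hy2
  · intro x y
    induction x using QuotientGroup.induction_on with
    | H x =>
    induction y using QuotientGroup.induction_on with
    | H y =>
    intro hx1 hx2 hy1 hy2
    rw [← QuotientGroup.mk_mul, QuotientGroup.eq_one_iff] at hx2 hy2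
    have hxc := mem_center_of_sq_mem_Z0 h hz hx2
    have hyc := mem_center_of_sq_mem_Z0 h hz hy2
    have hx3 : x * x ≠ 1 := by
      intro e; apply hx1; rw [QuotientGroup.eq_one_iff]; exact (mem_Z0_iff h).mpr e
    have hy3 : y * y ≠ 1 := by
      intro e; apply hy1; rw [QuotientGroup.eq_one_iff]; exact (mem_Z0_iff h).mpr e
    obtain ⟨k, hk⟩ := h.trans (x * x) (y * y) hx3 hx2.2 hy3 hy2.2
    refine ⟨k, ?_⟩
    change (((k • x : P)) : P ⧸ Z0 P) = (y : P ⧸ Z0 P)
    rw [QuotientGroup.eq]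
    apply key _ (smul_mem_center k hxc) _ hyc
    rw [smul_mul_self, hk]

end

end Cfsg.Agent.Helper3.SuzA
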