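import Mathlib
import Cfsg.Agent.Helper3.SuzB
set_option autoImplicit false
universe u v
namespace Cfsg.Agent.Helper3.SuzA

variable {K : Type v} [CommGroup K]

section
variable {P : Type u} [Group P]

/-- the commutator `x⁻¹ y⁻¹ x y` -/
def cm (x y : P) : P := x⁻¹ * y⁻¹ * x * y

theorem cm_eq_one_iff {x y : P} : cm x y = 1 ↔ x * y = y * x := by
  unfold cm
  constructor
  · intro h
    have : y * x * (x⁻¹ * y⁻¹ * x * y) = y * x * 1 := by rw [h]
    rw [mul_one] at this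
    rw [← this]; group
  · intro h
    calc x⁻¹ * y⁻¹ * x * y = x⁻¹ * y⁻¹ * (x * y) := by group
      _ = x⁻¹ * y⁻¹ * (y * x) := by rw [h]
      _ = 1 := by group

theorem cm_self (x : P) : cm x x = 1 := by unfold cm; group

theorem conj_sq_of_cm_central {x y : P} (hc : cm x y ∈ Subgroup.center P) :
    y⁻¹ * (x * x) * y = (x * x) * (cm x y * cm x y) := by
  have h1 : y⁻¹ * x * y = x * cm x y := by unfold cm; group
  have hcx := (Subgroup.mem_center_iff.mp hc) x
  calc y⁻¹ * (x * x) * y = (y⁻¹ * x * y) * (y⁻¹ * x * y) := by group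
    _ = x * cm x y * (x * cm x y) := by rw [h1]
    _ = x * (cm x y * x) * cm x y := by group
    _ = x * (x * cm x y) * cm x y := by rw [← hcx]
    _ = (x * x) * (cm x y * cm x y) := by group

theorem cm_mul_left {x x' y : P} (hc : cm x y ∈ Subgroup.center P) :
    cm (x * x') y = cm x y * cm x' y := by
  have hcx := (Subgroup.mem_center_iff.mp hc) x'⁻¹
  calc cm (x * x') y = x'⁻¹ * (x⁻¹ * y⁻¹ * x * y) * y⁻¹ * x' * y := by unfold cm; group
    _ = (x'⁻¹ * cm x y) * y⁻¹ * x' * y := by unfold cm; group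
    _ = (cm x y * x'⁻¹) * y⁻¹ * x' * y := by rw [hcx]
    _ = cm x y * cm x' y := by unfold cm; group

theorem cm_mul_right {x y y' : P} (hc : cm x y ∈ Subgroup.center P) :
    cm x (y * y') = cm x y * cm x y' := by
  have hcx := (Subgroup.mem_center_iff.mp hc) (x⁻¹ * y'⁻¹ * x)
  calc cm x (y * y') = (x⁻¹ * y'⁻¹ * x) * (x⁻¹ * y⁻¹ * x * y) * y' := by unfold cm; group
    _ = ((x⁻¹ * y'⁻¹ * x) * cm x y) * y' := by unfold cm; group
    _ = (cm x y * (x⁻¹ * y'⁻¹ * x)) * y' := by rw [hcx]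
    _ = cm x y * cm x y' := by unfold cm; group

theorem cm_mul_central_left {x y z : P} (hz : z ∈ Subgroup.center P) : cm (x * z) y = cm x y := by
  have h1 := (Subgroup.mem_center_iff.mp hz) y
  have h2 := (Subgroup.mem_center_iff.mp (inv_mem hz)) (x⁻¹ * y⁻¹ * x)
  calc cm (x * z) y = z⁻¹ * (x⁻¹ * y⁻¹ * x) * (z * y) := by unfold cm; group
    _ = (x⁻¹ * y⁻¹ * x) * z⁻¹ * (y * z) := by rw [← h2, h1]
    _ = (x⁻¹ * y⁻¹ * x) * z⁻¹ * (z * y) := by rw [h1]
    _ = cm x y := by unfold cm; group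

theorem cm_mul_central_right {x y z : P} (hz : z ∈ Subgroup.center P) : cm x (y * z) = cm x y := by
  have h1 := (Subgroup.mem_center_iff.mp (inv_mem hz)) (y⁻¹ * x)
  have h2 := (Subgroup.mem_center_iff.mp (inv_mem hz)) x⁻¹
  calc cm x (y * z) = (x⁻¹ * z⁻¹) * (y⁻¹ * x) * y * z := by unfold cm; group
    _ = (z⁻¹ * x⁻¹) * (y⁻¹ * x) * y * z := by rw [h2]
    _ = x⁻¹ * y⁻¹ * x * y * (z⁻¹ * z) := by
        have h3 := (Subgroup.mem_center_iff.mp (inv_mem hz)) (x⁻¹ * y⁻¹ * x * y)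
        calc (z⁻¹ * x⁻¹) * (y⁻¹ * x) * y * z = (z⁻¹ * (x⁻¹ * y⁻¹ * x * y)) * z := by group
          _ = ((x⁻¹ * y⁻¹ * x * y) * z⁻¹) * z := by rw [h3]
          _ = x⁻¹ * y⁻¹ * x * y * (z⁻¹ * z) := by group
    _ = cm x y := by unfold cm; group

theorem exists_second_center [Finite P] (hP : IsPGroup 2 P) (hna : ∃ x y : P, x * y ≠ y * x) :
    ∃ x : P, x ∉ Subgroup.center P ∧ x * x ∈ Subgroup.center P ∧
      ∀ y : P, cm x y ∈ Subgroup.center P := by
  have hnt : Nontrivial (P ⧸ Subgroup.center P) := by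
    by_contra hsub
    rw [not_nontrivial_iff_subsingleton] at hsub
    obtain ⟨x, y, hxy⟩ := hna
    apply hxy
    have : (x : P ⧸ Subgroup.center P) = 1 := Subsingleton.elim _ _
    rw [QuotientGroup.eq_one_iff] at this
    exact ((Subgroup.mem_center_iff.mp this) y).symm
  have hQ : IsPGroup 2 (P ⧸ Subgroup.center P) := hP.to_quotient _
  have := hQ.center_nontrivial
  obtain ⟨⟨q, hqc⟩, hq1⟩ := exists_ne (1 : Subgroup.center (P ⧸ Subgroup.center P))
  have hq1' : q ≠ 1 := fun e => hq1 (Subtype.ext e)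
  obtain ⟨n, hn1, hn2⟩ := exists_invol_pow hQ hq1'
  have hqn : q ^ n ∈ Subgroup.center (P ⧸ Subgroup.center P) := Subgroup.pow_mem _ hqc n
  obtain ⟨x, hx⟩ := QuotientGroup.mk_surjective (q ^ n)
  rw [← hx] at hn1 hn2 hqn
  refine ⟨x, ?_, ?_, ?_⟩
  · intro hxc; apply hn1; rw [QuotientGroup.eq_one_iff]; exact hxc
  · rw [← QuotientGroup.mk_mul, QuotientGroup.eq_one_iff] at hn2; exact hn2
  · intro y
    have := (Subgroup.mem_center_iff.mp hqn) (y : P ⧸ Subgroup.center P)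
    rw [← QuotientGroup.mk_mul, ← QuotientGroup.mk_mul, QuotientGroup.eq] at this
    have e : cm x y = (y * x)⁻¹ * (x * y) := by unfold cm; group
    rw [e]; exact this

end

end Cfsg.Agent.Helper3.SuzA
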