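import Mathlib
import Cfsg.Agent.Helper3.SuzC
set_option autoImplicit false
universe u v
namespace Cfsg.Agent.Helper3.SuzA

variable {K : Type v} [CommGroup K]

section
variable {P : Type u} [Group P] [MulDistribMulAction K P]

theorem case_nonab [Finite P] (h : Hyp K P) (hz : ∃ z ∈ Subgroup.center P, z * z ≠ 1)
    (hna : ∃ x y : P, x * y ≠ y * x)
    (IHq : ∀ q ∈ Subgroup.center (P ⧸ Z0 P), q * q = 1) : False := by
  obtain ⟨x, hxc, hx2, hcm⟩ := exists_second_center h.pgroup hna
  have hcm0 : ∀ y, cm x y ∈ Z0 P := by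
    intro y
    refine ⟨hcm y, ?_⟩
    have h1 := conj_sq_of_cm_central (hcm y)
    have h2 := (Subgroup.mem_center_iff.mp hx2) y
    have h3 : y⁻¹ * (x * x) * y = x * x := by rw [mul_assoc, ← h2]; group
    rw [h3] at h1
    have h4 : x * x * 1 = x * x * (cm x y * cm x y) := by rw [mul_one]; exact h1
    exact (mul_left_cancel h4).symm
  have hq : (x : P ⧸ Z0 P) ∈ Subgroup.center (P ⧸ Z0 P) := by
    rw [Subgroup.mem_center_iff]
    intro q
    induction q using QuotientGroup.induction_on with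
    | H y =>
      rw [← QuotientGroup.mk_mul, ← QuotientGroup.mk_mul, QuotientGroup.eq]
      have e : (y * x)⁻¹ * (x * y) = cm x y := by unfold cm; group
      rw [e]; exact hcm0 y
  have := IHq _ hq
  rw [← QuotientGroup.mk_mul, QuotientGroup.eq_one_iff] at this
  exact hxc (mem_center_of_sq_mem_Z0 h hz this)

/-- squares are central when all commutators lie in `Z0`. -/
theorem sq_central_of_cm (hc : ∀ x y : P, cm x y ∈ Z0 P) (x : P) : x * x ∈ Subgroup.center P := by
  rw [Subgroup.mem_center_iff]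
  intro y
  have h1 := conj_sq_of_cm_central (hc x y).1
  rw [(hc x y).2, mul_one] at h1
  calc y * (x * x) = y * (y⁻¹ * (x * x) * y) := by rw [h1]
    _ = x * x * y := by group

theorem mul_pow_four_of_cm (hc : ∀ x y : P, cm x y ∈ Z0 P) (x y : P) :
    (x * y) ^ 4 = x ^ 4 * y ^ 4 := by
  have hX := sq_central_of_cm hc x
  have hc' := hc y x
  have hcy := (Subgroup.mem_center_iff.mp hc'.1)
  have e1 : (x * y) * (x * y) = (x * x) * (y * y) * cm y x := by
    have : y * x = x * y * cm y x := by unfold cm; group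
    calc (x * y) * (x * y) = x * (y * x) * y := by group
      _ = x * (x * y * cm y x) * y := by rw [← this]
      _ = x * x * y * (cm y x * y) := by group
      _ = x * x * y * (y * cm y x) := by rw [hcy y]
      _ = (x * x) * (y * y) * cm y x := by group
  have hXY : Commute (x * x) (y * y) := ((Subgroup.mem_center_iff.mp hX) (y * y)).symm
  have hXYc : Commute ((x * x) * (y * y)) (cm y x) := (hcy _)
  calc (x * y) ^ 4 = ((x * y) * (x * y)) ^ 2 := by rw [← pow_two, ← pow_mul]
    _ = ((x * x) * (y * y) * cm y x) ^ 2 := by rw [e1]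
    _ = ((x * x) * (y * y)) ^ 2 * (cm y x) ^ 2 := hXYc.mul_pow 2
    _ = ((x * x) * (y * y)) ^ 2 := by rw [pow_two (cm y x), hc'.2, mul_one]
    _ = (x * x) ^ 2 * (y * y) ^ 2 := hXY.mul_pow 2
    _ = x ^ 4 * y ^ 4 := by rw [← pow_two, ← pow_two, ← pow_mul, ← pow_mul]

theorem mul_pow_two_pow_of_cm (hc : ∀ x y : P, cm x y ∈ Z0 P) {i : ℕ} (hi : 2 ≤ i) (x y : P) :
    (x * y) ^ (2 ^ i) = x ^ (2 ^ i) * y ^ (2 ^ i) := by
  obtain ⟨j, rfl⟩ : ∃ j, i = 2 + j := ⟨i - 2, by omega⟩
  have hX : x ^ 4 ∈ Subgroup.center P := by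
    have : x ^ 4 = (x * x) ^ 2 := by rw [← pow_two, ← pow_mul]
    rw [this]; exact Subgroup.pow_mem _ (sq_central_of_cm hc x) 2
  have hcomm : Commute (x ^ 4) (y ^ 4) := ((Subgroup.mem_center_iff.mp hX) (y ^ 4)).symm
  have e : (2 : ℕ) ^ (2 + j) = 4 * 2 ^ j := by rw [pow_add]; norm_num
  rw [e, pow_mul, pow_mul, pow_mul, mul_pow_four_of_cm hc, hcomm.mul_pow]

end

end Cfsg.Agent.Helper3.SuzA
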