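import Mathlib
import Cfsg.Agent.Helper3.SuzD
set_option autoImplicit false
universe u v
namespace Cfsg.Agent.Helper3.SuzA

variable {K : Type v} [CommGroup K]

theorem card_ker_mul_card_range {G H : Type*} [Group G] [Group H] (f : G →* H) :
    Nat.card f.ker * Nat.card f.range = Nat.card G := by
  rw [← Subgroup.index_ker f]; exact Subgroup.card_mul_index f.ker

theorem range_eq_ker_of_count {A : Type*} [Group A] [Finite A] (s r : A →* A)
    (h1 : s.ker = r.range) (h2 : s.range ≤ r.ker) : s.range = r.ker := by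
  apply Subgroup.eq_of_le_of_card_ge h2
  have e1 := card_ker_mul_card_range s
  have e2 := card_ker_mul_card_range r
  rw [h1] at e1
  have hpos : 0 < Nat.card r.range := Nat.card_pos
  have : Nat.card r.range * Nat.card s.range = Nat.card r.range * Nat.card r.ker := by
    rw [e1, mul_comm, e2]
  exact (Nat.eq_of_mul_eq_mul_left hpos this).ge

/-- the `n`-th power endomorphism of the centre -/
def cpow (P : Type u) [Group P] (n : ℕ) : Subgroup.center P →* Subgroup.center P where
  toFun t := t ^ n
  map_one' := one_pow n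
  map_mul' a b := (show Commute a b from Subtype.ext ((Subgroup.mem_center_iff.mp b.2 (a : P)))).mul_pow n

section
variable {P : Type u} [Group P] [MulDistribMulAction K P]

theorem exists_sqrt_of_pow_eq_one [Finite P] (h : Hyp K P) (j : ℕ)
    (hj : ∀ z ∈ Subgroup.center P, z ^ (2 ^ (j + 1)) = 1)
    {u₀ : P} (hu₀c : u₀ ∈ Subgroup.center P) (hu₀ : u₀ ^ (2 ^ j) ≠ 1) :
    ∀ z ∈ Subgroup.center P, z ^ (2 ^ j) = 1 → ∃ t ∈ Subgroup.center P, t * t = z := by
  let s : Subgroup.center P →* Subgroup.center P := cpow P 2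
  let r : Subgroup.center P →* Subgroup.center P := cpow P (2 ^ j)
  have hs : ∀ t : Subgroup.center P, s t = t ^ 2 := fun t => rfl
  have hr : ∀ t : Subgroup.center P, r t = t ^ (2 ^ j) := fun t => rfl
  have h1 : s.ker = r.range := by
    ext z
    rw [MonoidHom.mem_ker, MonoidHom.mem_range, hs]
    constructor
    · intro hz
      have hz' : (z : P) * (z : P) = 1 := by
        have := congrArg Subtype.val hz
        simpa [pow_two] using this
      by_cases hz1 : (z : P) = 1
      · refine ⟨1, ?_⟩
        rw [hr, one_pow]; exact (Subtype.ext hz1).symm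
      · have hw2 : u₀ ^ (2 ^ j) * u₀ ^ (2 ^ j) = 1 := by
          rw [← pow_two, ← pow_mul, ← pow_succ]; exact hj u₀ hu₀c
        obtain ⟨k, hk⟩ := h.trans _ (z : P) hu₀ hw2 hz1 hz'
        refine ⟨⟨k • u₀, smul_mem_center k hu₀c⟩, ?_⟩
        rw [hr]
        apply Subtype.ext
        simp only [Subgroup.coe_pow]
        rw [← smul_pow', hk]
    · rintro ⟨t, rfl⟩
      rw [hr, ← pow_mul, ← pow_succ]
      apply Subtype.ext
      simp only [Subgroup.coe_pow, Subgroup.coe_one]
      exact hj _ t.2
  have h2 : s.range ≤ r.ker := by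
    rintro _ ⟨t, rfl⟩
    rw [MonoidHom.mem_ker, hr, hs, ← pow_mul, ← pow_succ']
    apply Subtype.ext
    simp only [Subgroup.coe_pow, Subgroup.coe_one]
    exact hj _ t.2
  have h3 := range_eq_ker_of_count s r h1 h2
  intro z hz hzj
  have : (⟨z, hz⟩ : Subgroup.center P) ∈ r.ker := by
    rw [MonoidHom.mem_ker, hr]
    apply Subtype.ext
    simp only [Subgroup.coe_pow, Subgroup.coe_one]
    exact hzj
  rw [← h3] at this
  obtain ⟨t, ht⟩ := this
  refine ⟨t, t.2, ?_⟩
  have := congrArg Subtype.val ht
  rw [hs] at this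
  simpa [pow_two] using this

theorem smul_cm (k : K) (x y : P) : k • cm x y = cm (k • x) (k • y) := by
  unfold cm
  rw [smul_mul', smul_mul', smul_mul', smul_inv', smul_inv']

end

end Cfsg.Agent.Helper3.SuzA
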