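import Mathlib
import Cfsg.Agent.Helper3.SuzE
set_option autoImplicit false
universe u v
namespace Cfsg.Agent.Helper3.SuzA

variable {K : Type v} [CommGroup K]

section
variable {P : Type u} [Group P] [MulDistribMulAction K P]

theorem comm_of_pow_hom [Finite P] (h : Hyp K P) (hc : ∀ x y : P, cm x y ∈ Z0 P) (n : ℕ)
    (hmul : ∀ x y : P, (x * y) ^ n = x ^ n * y ^ n) (hZ0 : ∀ x : P, x ^ n ∈ Z0 P)
    (hker : ∀ x : P, x ^ n = 1 → x ∈ Subgroup.center P) {x₀ : P} (hx₀ : x₀ ^ n ≠ 1) :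
    ∀ x y : P, x * y = y * x := by
  classical
  have hsurj : ∀ v ∈ Z0 P, ∃ x : P, x ^ n = v := by
    intro v hv
    by_cases hv1 : v = 1
    · exact ⟨1, by rw [one_pow, hv1]⟩
    · obtain ⟨k, hk⟩ := h.trans _ v hx₀ (hZ0 x₀).2 hv1 hv.2
      exact ⟨k • x₀, by rw [← smul_pow', hk]⟩
  let σ : P → P := fun v => if hv : ∃ x : P, x ^ n = v then hv.choose else 1
  have hσ : ∀ v ∈ Z0 P, (σ v) ^ n = v := by
    intro v hv
    have hex := hsurj v hv
    simp only [σ, dif_pos hex]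
    exact hex.choose_spec
  have WD : ∀ x x' y y' : P, x ^ n = x' ^ n → y ^ n = y' ^ n → cm x y = cm x' y' := by
    intro x x' y y' hx hy
    have hzx : x⁻¹ * x' ∈ Subgroup.center P := by
      apply hker; rw [hmul, inv_pow, hx, inv_mul_cancel]
    have hzy : y⁻¹ * y' ∈ Subgroup.center P := by
      apply hker; rw [hmul, inv_pow, hy, inv_mul_cancel]
    have e1 : x' = x * (x⁻¹ * x') := by group
    have e2 : y' = y * (y⁻¹ * y') := by group
    rw [e1, e2, cm_mul_central_left hzx, cm_mul_central_right hzy]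
  have key := field_trick (K := K) (Z0 P) (fun a ha => ha.2) (fun k a ha => smul_mem_Z0 k ha)
    (fun a ha b hb ha1 hb1 => h.trans a b ha1 ha.2 hb1 hb.2)
    (fun a b => cm (σ a) (σ b)) (fun a _ b _ => hc _ _)
    (by
      intro a ha b hb c _
      have : cm (σ (a * b)) (σ c) = cm (σ a * σ b) (σ c) := by
        apply WD _ _ _ _ _ rfl
        rw [hσ _ (mul_mem ha hb), hmul, hσ _ ha, hσ _ hb]
      change cm (σ (a * b)) (σ c) = cm (σ a) (σ c) * cm (σ b) (σ c)
      rw [this, cm_mul_left (hc _ _).1])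
    (by
      intro a _ b hb c hc'
      have : cm (σ a) (σ (b * c)) = cm (σ a) (σ b * σ c) := by
        apply WD _ _ _ _ rfl
        rw [hσ _ (mul_mem hb hc'), hmul, hσ _ hb, hσ _ hc']
      change cm (σ a) (σ (b * c)) = cm (σ a) (σ b) * cm (σ a) (σ c)
      rw [this, cm_mul_right (hc _ _).1])
    (fun a _ => cm_self _)
    (by
      intro k a ha b hb
      change cm (σ (k • a)) (σ (k • b)) = k • cm (σ a) (σ b)
      rw [smul_cm]
      apply WD
      · rw [hσ _ (smul_mem_Z0 k ha), ← smul_pow', hσ _ ha]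
      · rw [hσ _ (smul_mem_Z0 k hb), ← smul_pow', hσ _ hb])
  intro x y
  rw [← cm_eq_one_iff]
  have := key (x ^ n) (hZ0 x) (y ^ n) (hZ0 y)
  rw [← this]
  apply WD
  · rw [hσ _ (hZ0 x)]
  · rw [hσ _ (hZ0 y)]

/-- the kernel of the `2^i`-power map, a subgroup when `i ≥ 2` and commutators lie in `Z0`. -/
def powKer (hc : ∀ x y : P, cm x y ∈ Z0 P) {i : ℕ} (hi : 2 ≤ i) : Subgroup P where
  carrier := {x | x ^ (2 ^ i) = 1}
  one_mem' := one_pow _
  mul_mem' := by
    intro a b ha hb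
    change (a * b) ^ (2 ^ i) = 1
    rw [mul_pow_two_pow_of_cm hc hi, show a ^ (2 ^ i) = 1 from ha, show b ^ (2 ^ i) = 1 from hb, one_mul]
  inv_mem' := by
    intro a ha
    change (a⁻¹) ^ (2 ^ i) = 1
    rw [inv_pow, show a ^ (2 ^ i) = 1 from ha, inv_one]

theorem mem_powKer (hc : ∀ x y : P, cm x y ∈ Z0 P) {i : ℕ} (hi : 2 ≤ i) {x : P} :
    x ∈ powKer hc hi ↔ x ^ (2 ^ i) = 1 := Iff.rfl

end

end Cfsg.Agent.Helper3.SuzA
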