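import Mathlib
import Cfsg.Agent.Helper3.SuzF
set_option autoImplicit false
universe u v
namespace Cfsg.Agent.Helper3.SuzA

variable {K : Type v} [CommGroup K]

section
variable {P : Type u} [Group P] [MulDistribMulAction K P]

theorem case_ab [Finite P] (h : Hyp K P) (hz : ∃ z ∈ Subgroup.center P, z * z ≠ 1)
    (hc : ∀ x y : P, cm x y ∈ Z0 P)
    (IH : ∀ (S : Subgroup P), (∀ k : K, ∀ x ∈ S, k • x ∈ S) → Z0 P ≤ S → S ≠ ⊤ →
      (∃ s ∈ S, ∃ s' ∈ S, s * s' ≠ s' * s) → ∀ c ∈ S, (∀ s ∈ S, s * c = c * s) → c * c = 1) :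
    ∀ x y : P, x * y = y * x := by
  have hsq := sq_central_of_cm hc
  have hex : ∃ e : ℕ, ∀ x : P, x ^ (2 ^ e) = 1 := by
    obtain ⟨m, hm⟩ := IsPGroup.iff_card.mp h.pgroup
    exact ⟨m, fun x => by rw [← hm]; exact pow_card_eq_one'⟩
  classical
  obtain ⟨e, he, hmin⟩ : ∃ e, (∀ x : P, x ^ (2 ^ e) = 1) ∧ ∀ e' < e, ¬ ∀ x : P, x ^ (2 ^ e') = 1 :=
    ⟨Nat.find hex, Nat.find_spec hex, fun e' he' => Nat.find_min hex he'⟩
  by_cases he2 : e ≤ 2
  · have h4 : ∀ x : P, x ^ 4 = 1 := by
      intro x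
      obtain ⟨d, hd⟩ : ∃ d, 2 = e + d := ⟨2 - e, by omega⟩
      have : (4 : ℕ) = 2 ^ e * 2 ^ d := by rw [← pow_add, ← hd]; norm_num
      rw [this, pow_mul, he, one_pow]
    have hcen : ∀ x : P, x ∈ Subgroup.center P := by
      intro x
      apply mem_center_of_sq_mem_Z0 h hz
      refine ⟨hsq x, ?_⟩
      rw [← pow_two, ← pow_two, ← pow_mul]
      exact h4 x
    intro x y; exact ((Subgroup.mem_center_iff.mp (hcen y)) x)
  · push Not at he2
    obtain ⟨i, hi⟩ : ∃ i, e = i + 1 := ⟨e - 1, by omega⟩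
    have hi2 : 2 ≤ i := by omega
    have hmin' := hmin i (by omega)
    push Not at hmin'
    obtain ⟨x₀, hx₀⟩ := hmin'
    have hρmul := mul_pow_two_pow_of_cm hc hi2
    have hρZ0 : ∀ x : P, x ^ (2 ^ i) ∈ Z0 P := by
      intro x
      rw [mem_Z0_iff h, ← pow_two, ← pow_mul, ← pow_succ, ← hi]; exact he x
    by_cases hZS : ∀ z ∈ Subgroup.center P, z ^ (2 ^ i) = 1
    · -- kernel of the power map is the centre
      obtain ⟨j, hj⟩ : ∃ j, i = j + 1 := ⟨i - 1, by omega⟩
      have hu₀ : (x₀ * x₀) ^ (2 ^ j) ≠ 1 := by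
        rw [← pow_two, ← pow_mul, ← pow_succ', ← hj]; exact hx₀
      have hsqrt := exists_sqrt_of_pow_eq_one h j (by rw [← hj]; exact hZS) (hsq x₀) hu₀
      have hker : ∀ x : P, x ^ (2 ^ i) = 1 → x ∈ Subgroup.center P := by
        intro x hx
        have hxx : (x * x) ^ (2 ^ j) = 1 := by
          rw [← pow_two, ← pow_mul, ← pow_succ', ← hj]; exact hx
        obtain ⟨t, htc, ht⟩ := hsqrt (x * x) (hsq x) hxx
        have hcomm := (Subgroup.mem_center_iff.mp (inv_mem htc)) x
        have h1 : (x * t⁻¹) * (x * t⁻¹) = 1 := by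
          calc (x * t⁻¹) * (x * t⁻¹) = x * (t⁻¹ * x) * t⁻¹ := by group
            _ = x * (x * t⁻¹) * t⁻¹ := by rw [← hcomm]
            _ = (x * x) * (t * t)⁻¹ := by group
            _ = 1 := by rw [ht, mul_inv_cancel]
        have h2 := invol_central h h1
        have : x = (x * t⁻¹) * t := by group
        rw [this]; exact mul_mem h2 htc
      exact comm_of_pow_hom h hc (2 ^ i) hρmul hρZ0 hker hx₀
    · push Not at hZS
      obtain ⟨z₃, hz₃c, hz₃⟩ := hZS
      have hdec : ∀ x : P, ∃ s : P, s ^ (2 ^ i) = 1 ∧ ∃ z ∈ Subgroup.center P, x = s * z := by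
        intro x
        by_cases hx1 : x ^ (2 ^ i) = 1
        · exact ⟨x, hx1, 1, one_mem _, (mul_one x).symm⟩
        · obtain ⟨k, hk⟩ := h.trans _ _ hz₃ (hρZ0 z₃).2 hx1 (hρZ0 x).2
          refine ⟨x * (k • z₃)⁻¹, ?_, k • z₃, smul_mem_center k hz₃c, by group⟩
          rw [hρmul, inv_pow, ← smul_pow', hk, mul_inv_cancel]
      by_cases hSab : ∀ s ∈ powKer hc hi2, ∀ s' ∈ powKer hc hi2, s * s' = s' * s
      · intro x y
        obtain ⟨s, hs, z, hz, rfl⟩ := hdec x
        obtain ⟨s', hs', z', hz', rfl⟩ := hdec y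
        have h1 := hSab s hs s' hs'
        have c1 := (Subgroup.mem_center_iff.mp hz)
        have c2 := (Subgroup.mem_center_iff.mp hz')
        calc s * z * (s' * z') = s * (z * s') * z' := by group
          _ = s * (s' * z) * z' := by rw [c1 s']
          _ = (s * s') * (z * z') := by group
          _ = (s' * s) * (z' * z) := by rw [h1, c1 z']
          _ = s' * (s * z') * z := by group
          _ = s' * (z' * s) * z := by rw [c2 s]
          _ = s' * z' * (s * z) := by group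
      · exfalso
        push Not at hSab
        obtain ⟨s, hs, s', hs', hne⟩ := hSab
        have hSK : ∀ k : K, ∀ x ∈ powKer hc hi2, k • x ∈ powKer hc hi2 := by
          intro k x hx
          rw [mem_powKer] at hx ⊢
          rw [← smul_pow', hx, smul_one]
        have hZ0S : Z0 P ≤ powKer hc hi2 := by
          intro x hx
          rw [mem_powKer]
          obtain ⟨j, hj⟩ : ∃ j, i = j + 1 := ⟨i - 1, by omega⟩
          rw [hj, pow_succ', pow_mul, pow_two, hx.2, one_pow]
        have hStop : powKer hc hi2 ≠ ⊤ := by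
          intro htop
          have : x₀ ∈ powKer hc hi2 := by rw [htop]; trivial
          exact hx₀ this
        have hz3S : z₃ * z₃ ∈ powKer hc hi2 := by
          rw [mem_powKer, ← pow_two, ← pow_mul, ← pow_succ', ← hi]; exact he z₃
        have hcen3 : ∀ s ∈ powKer hc hi2, s * (z₃ * z₃) = (z₃ * z₃) * s := fun s _ =>
          (Subgroup.mem_center_iff.mp (mul_mem hz₃c hz₃c)) s
        have h4 := IH (powKer hc hi2) hSK hZ0S hStop ⟨s, hs, s', hs', hne⟩ (z₃ * z₃) hz3S hcen3
        apply hz₃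
        obtain ⟨j, hj⟩ : ∃ j, i = 2 + j := ⟨i - 2, by omega⟩
        have e4 : z₃ ^ 4 = 1 := by
          rw [show (4 : ℕ) = 2 * 2 from rfl, pow_mul, pow_two z₃, pow_two]; exact h4
        rw [hj, pow_add, pow_mul, show (2 : ℕ) ^ 2 = 4 from rfl, e4, one_pow]

end

/-- **Higman's lemma** (first half): in a nonabelian finite `2`-group with at least two involutions, on which a
commutative group of automorphisms acts transitively on the involutions, the centre has exponent two. -/
theorem center_exponent_two : ∀ n : ℕ, ∀ (P : Type u) [Group P] [Finite P] [MulDistribMulAction K P],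
    Nat.card P = n → Hyp K P → (∃ x y : P, x * y ≠ y * x) →
      ∀ z ∈ Subgroup.center P, z * z = 1 := by
  intro n
  induction n using Nat.strong_induction_on with
  | _ n ih =>
  intro P _ _ _ hn h hna
  by_contra hcon
  push Not at hcon
  have hz : ∃ z ∈ Subgroup.center P, z * z ≠ 1 := hcon
  have hZ0nt : 1 < Nat.card (Z0 P) := by
    obtain ⟨x, y, hxy, hx1, hx2, hy1, hy2⟩ := h.two
    rw [Finite.one_lt_card_iff_nontrivial]
    exact ⟨⟨⟨x, (mem_Z0_iff h).mpr hx2⟩, 1, fun e => hx1 (congrArg Subtype.val e)⟩⟩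
  have hqlt : Nat.card (P ⧸ Z0 P) < n := by
    have := Subgroup.card_eq_card_quotient_mul_card_subgroup (Z0 P)
    rw [hn] at this
    have hpos : 0 < Nat.card (P ⧸ Z0 P) := Nat.card_pos
    nlinarith
  by_cases hqa : ∃ x y : P ⧸ Z0 P, x * y ≠ y * x
  · have IHq := @ih _ hqlt (P ⧸ Z0 P) _ _ (quotAct (Z0 P) (fun k _ hx => smul_mem_Z0 k hx)) rfl
      (hyp_quot h hz) hqa
    exact case_nonab h hz hna IHq
  · push Not at hqa
    have hc : ∀ x y : P, cm x y ∈ Z0 P := by
      intro x y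
      have := hqa (x : P ⧸ Z0 P) (y : P ⧸ Z0 P)
      rw [← QuotientGroup.mk_mul, ← QuotientGroup.mk_mul, eq_comm, QuotientGroup.eq] at this
      have e : cm x y = (y * x)⁻¹ * (x * y) := by unfold cm; group
      rw [e]; exact this
    obtain ⟨x, y, hxy⟩ := hna
    apply hxy
    apply case_ab h hz hc
    intro S hSK hZ0S hStop hSna c hcS hcc
    have hlt : Nat.card S < n := by
      rw [← hn]
      apply lt_of_le_of_ne (Subgroup.card_le_card_group S)
      intro e; exact hStop (Subgroup.eq_top_of_card_eq S e)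
    have hSna' : ∃ a b : S, a * b ≠ b * a := by
      obtain ⟨s, hs, s', hs', hne⟩ := hSna
      exact ⟨⟨s, hs⟩, ⟨s', hs'⟩, fun e => hne (congrArg Subtype.val e)⟩
    have := @ih _ hlt S _ _ (subAct S hSK) rfl (hyp_sub h S hSK hZ0S) hSna' ⟨c, hcS⟩ (by
      rw [Subgroup.mem_center_iff]
      intro g
      exact Subtype.ext (hcc g g.2))
    exact congrArg Subtype.val this

end Cfsg.Agent.Helper3.SuzA
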