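import Mathlib
import Cfsg.Agent.Helper1.Fo3Defs

set_option autoImplicit false

/-!
# S1615 swarm, label F1: a non-central odd core of `⟨D_x⟩` produces twins (helper3)
-/

namespace Cfsg.Agent.Helper1.Fo3

open Cfsg.Agent.Lead.TTW Cfsg.Agent.Lead.TTM

variable {G : Type*} [Group G]

/-- F1 (A): a non-central odd core of `⟨D_x⟩` produces twins -/
theorem exists_twin [Finite G] {D : Set G} (hT : TT3 D) {x : G} (hx : x ∈ D)
    (h : ¬ Cfsg.oddCore ↥(Subgroup.closure (star D x)) ≤
      Subgroup.center ↥(Subgroup.closure (star D x))) :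
    ∃ y z, Twin D x y z := by
  classical
  set H : Subgroup G := Subgroup.closure (star D x) with hH
  set N : Subgroup ↥H := Cfsg.oddCore ↥H with hN
  have hNn : N.Normal := Cfsg.pPrimeCore_normal 2 ↥H
  have hNodd : (Nat.card N).Coprime 2 := Cfsg.Agent.Helper1.card_pPrimeCore_coprime 2
  let N' : Subgroup G := N.map H.subtype
  have hN'card : (Nat.card N').Coprime 2 := by
    have : Nat.card N' = Nat.card N := Subgroup.card_map_of_injective H.subtype_injective
    rw [this]; exact hNodd
  -- no 2-elements in N'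
  have h4 : ∀ g ∈ N', g ^ 4 = 1 → g = 1 := by
    intro g hg h4
    have h1 : orderOf g ∣ 4 := orderOf_dvd_of_pow_eq_one h4
    have h2 : orderOf g ∣ Nat.card N' := Subgroup.orderOf_dvd_natCard N' hg
    have hc : (Nat.card N').Coprime 4 := by
      have e : (4 : ℕ) = 2 ^ 2 := by norm_num
      rw [e]; exact Nat.Coprime.pow_right 2 hN'card
    have h3 : orderOf g ∣ 1 := by
      have := Nat.dvd_gcd h2 h1
      rwa [hc] at this
    exact orderOf_eq_one_iff.mp (Nat.dvd_one.mp h3)
  -- N' is normalized by H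
  have hnorm : ∀ k ∈ H, ∀ g ∈ N', k * g * k⁻¹ ∈ N' := by
    intro k hk g hg
    obtain ⟨g0, hg0, rfl⟩ := Subgroup.mem_map.mp hg
    exact Subgroup.mem_map.mpr
      ⟨⟨k, hk⟩ * g0 * ⟨k, hk⟩⁻¹, hNn.conj_mem g0 hg0 ⟨k, hk⟩, rfl⟩
  have hN'H : ∀ g ∈ N', g ∈ H := by
    intro g hg
    obtain ⟨g0, _, rfl⟩ := Subgroup.mem_map.mp hg
    exact g0.2
  -- x centralizes H
  have hxH : ∀ k ∈ H, Commute x k := by
    intro k hk
    induction hk using Subgroup.closure_induction with
    | mem y hy => exact hy.2.2
    | one => exact Commute.one_right x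
    | mul a b _ _ ha hb => exact ha.mul_right hb
    | inv a _ ha => exact ha.inv_right
  -- step 1: a generator moving an element of the odd core
  obtain ⟨y, hy, m, hm, hne⟩ : ∃ y ∈ star D x, ∃ m ∈ N', y * m * y⁻¹ ≠ m := by
    by_contra hcon
    push_neg at hcon
    apply h
    intro m0 hm0
    rw [Subgroup.mem_center_iff]
    intro g
    have hm' : (m0 : G) ∈ N' := Subgroup.mem_map.mpr ⟨m0, hm0, rfl⟩
    have key : ∀ k ∈ H, k * (m0 : G) = (m0 : G) * k := by
      intro k hk
      induction hk using Subgroup.closure_induction with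
      | mem y hy =>
        have := hcon y hy (m0 : G) hm'
        calc y * (m0 : G) = y * (m0 : G) * y⁻¹ * y := by group
          _ = (m0 : G) * y := by rw [this]
      | one => simp
      | mul a b _ _ ha hb => rw [mul_assoc, hb, ← mul_assoc, ha, mul_assoc]
      | inv a _ ha =>
        calc a⁻¹ * (m0 : G) = a⁻¹ * ((m0 : G) * a) * a⁻¹ := by group
          _ = a⁻¹ * (a * (m0 : G)) * a⁻¹ := by rw [ha]
          _ = (m0 : G) * a⁻¹ := by group
    apply Subtype.ext
    exact key g g.2
  have hyD : y ∈ D := hy.1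
  have hyx : y ≠ x := hy.2.1
  have hxy : Commute x y := hy.2.2
  have hyH : y ∈ H := Subgroup.subset_closure hy
  have hyi : y⁻¹ = y := hT.inv hyD
  have hyy : y * y = 1 := hT.sq y hyD
  have hyy' : ∀ a : G, y * (y * a) = a := fun a => by rw [← mul_assoc, hyy, one_mul]
  set n : G := m⁻¹ * (y * m * y⁻¹) with hn
  clear_value n
  have hnN : n ∈ N' := by
    rw [hn]; exact N'.mul_mem (N'.inv_mem hm) (hnorm y hyH m hm)
  have hn1 : n ≠ 1 := by
    intro e
    apply hne
    have e' : m * n = m := by rw [e, mul_one]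
    rw [hn, mul_inv_cancel_left] at e'
    exact e'
  have hyny : y * n * y = n⁻¹ := by
    apply eq_inv_of_mul_eq_one_right
    rw [hn, hyi]
    simp only [mul_assoc, hyy, hyy', mul_one, mul_inv_cancel_left, inv_mul_cancel]
  have hynyi : y * n⁻¹ * y = n := by
    have := congrArg (fun t => t⁻¹) hyny
    simp only [mul_inv_rev, inv_inv, hyi] at this
    rw [mul_assoc]; exact this
  set z : G := n⁻¹ * y * n with hz
  clear_value z
  have hzD : z ∈ D := by
    have := hT.conj n⁻¹ y hyD
    rw [inv_inv] at this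
    rw [hz]; exact this
  have hnH : n ∈ H := hN'H n hnN
  have hxn : Commute x n := hxH n hnH
  have hxz : Commute x z := by
    rw [hz]; exact (hxn.inv_right.mul_right hxy).mul_right hxn
  have hzx : z ≠ x := by
    intro e
    apply hyx
    have e1 : y = n * z * n⁻¹ := by rw [hz]; group
    rw [e1, e, ← hxn.eq]; group
  have hzstar : z ∈ star D x := ⟨hzD, hzx, hxz⟩
  have hyz : y * z = n * n := by
    calc y * z = (y * n⁻¹ * y) * n := by rw [hz]; group
      _ = n * n := by rw [hynyi]
  have pow4 : ∀ g : G, g ^ 4 = (g * g) * (g * g) := fun g => by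
    rw [show (4 : ℕ) = 2 + 2 from rfl, pow_add, pow_two]
  have hncomm : ¬ Commute y z := by
    intro hc
    apply hn1
    apply h4 n hnN
    have hzz : z * z = 1 := hT.sq z hzD
    have e1 : (y * z) * (y * z) = 1 := by
      calc (y * z) * (y * z) = y * (z * y) * z := by group
        _ = y * (y * z) * z := by rw [hc.eq]
        _ = (y * y) * (z * z) := by group
        _ = 1 := by rw [hyy, hzz, one_mul]
    rw [hyz] at e1
    rw [pow4]; exact e1
  -- the symmetric key lemma
  have L : ∀ a b : G, a ∈ star D x → b ∈ star D x → ¬ Commute a b → a * b ∈ N' →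
      ∀ u, u ∈ star D x → u ∈ star D a → u ∈ star D b := by
    intro a b ha hb hab hc u hux hua
    have haD := ha.1
    have hbD := hb.1
    have huD := hux.1
    have hau : Commute a u := hua.2.2
    have hua' : u ≠ a := hua.2.1
    have huH : u ∈ H := Subgroup.subset_closure hux
    have hub : u ≠ b := by
      intro e
      apply hab
      rw [← e]; exact hau
    refine ⟨huD, hub, ?_⟩
    by_contra hbu
    have h3 : (b * u) ^ 3 = 1 := hT.cube b hbD u huD hbu
    have h1 : u * (a * b) * u⁻¹ ∈ N' := hnorm u huH _ hc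
    have h2 : (a * b)⁻¹ * (u * (a * b) * u⁻¹) ∈ N' := N'.mul_mem (N'.inv_mem hc) h1
    have e2 : (a * b)⁻¹ * (u * (a * b) * u⁻¹) = (b * u) * (b * u) := by
      rw [mul_inv_rev, hT.inv haD, hT.inv hbD, hT.inv huD]
      calc b * a * (u * (a * b) * u) = b * (a * u) * a * b * u := by group
        _ = b * (u * a) * a * b * u := by rw [hau.eq]
        _ = b * u * (a * a) * b * u := by group
        _ = b * u * (b * u) := by rw [hT.sq a haD]; group
    rw [e2] at h2
    have h5 : b * u ∈ N' := by
      have e3 : b * u = ((b * u) * (b * u))⁻¹ := by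
        apply eq_inv_of_mul_eq_one_left
        rw [pow_three] at h3
        exact h3
      rw [e3]; exact N'.inv_mem h2
    have h6 : a * u ∈ N' := by
      have e4 : a * u = (a * b) * (b * u) := by
        calc a * u = a * (b * b) * u := by rw [hT.sq b hbD, mul_one]
          _ = (a * b) * (b * u) := by group
      rw [e4]; exact N'.mul_mem hc h5
    have h7 : (a * u) ^ 4 = 1 := by
      have e5 : (a * u) * (a * u) = 1 := by
        calc (a * u) * (a * u) = a * (u * a) * u := by group
          _ = a * (a * u) * u := by rw [hau.eq]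
          _ = (a * a) * (u * u) := by group
          _ = 1 := by rw [hT.sq a haD, hT.sq u huD, one_mul]
      rw [pow4, e5, one_mul]
    have h8 : a * u = 1 := h4 _ h6 h7
    apply hua'
    have e6 : a = u⁻¹ := eq_inv_of_mul_eq_one_left h8
    rw [hT.inv huD] at e6
    exact e6.symm
  have hyzN : y * z ∈ N' := by rw [hyz]; exact N'.mul_mem hnN hnN
  have hzy : z * y ∈ N' := by
    have e : z * y = (y * z)⁻¹ := by rw [mul_inv_rev, hT.inv hzD, hyi]
    rw [e]; exact N'.inv_mem hyzN
  refine ⟨y, z, hx, hy, hzstar, hncomm, ?_⟩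
  ext u
  constructor
  · rintro ⟨h1, h2⟩
    exact ⟨h1, L y z hy hzstar hncomm hyzN u h1 h2⟩
  · rintro ⟨h1, h2⟩
    exact ⟨h1, L z y hzstar hy (fun hc => hncomm hc.symm) hzy u h1 h2⟩

end Cfsg.Agent.Helper1.Fo3
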