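import Mathlib
import Cfsg.Agent.Helper1.Fo3Defs

set_option autoImplicit false

/-!
# S1615 swarm, label F7: sizes of stars (helper3)

* `ncard_star_eq`: stars have constant size along the class;
* `ncard_pow_three`: a non-empty pairwise non-commuting subset of `D` closed under its own
  conjugation has `3`-power size (orbit-stabilizer for the `3`-group generated by the products).
-/

namespace Cfsg.Agent.Helper1.Fo3

open Cfsg.Agent.Lead.TTW Cfsg.Agent.Lead.TTM

variable {G : Type*} [Group G]

/-- F7a: stars have constant size along the class -/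
theorem ncard_star_eq [Finite G] {D : Set G} (hT : TT3 D)
    (hcl : ∀ a ∈ D, ∀ b ∈ D, ∃ g : G, g * a * g⁻¹ = b) {a b : G} (ha : a ∈ D) (hb : b ∈ D) :
    (star D a).ncard = (star D b).ncard := by
  obtain ⟨g, rfl⟩ := hcl a ha b hb
  have himg : star D (g * a * g⁻¹) = (fun y => g * y * g⁻¹) '' star D a := by
    ext y
    rw [mem_star_conj hT g a y]
    constructor
    · intro h
      refine ⟨g⁻¹ * y * g, h, ?_⟩
      group
    · rintro ⟨w, hw, rfl⟩
      have e : g⁻¹ * (g * w * g⁻¹) * g = w := by group
      rw [e]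
      exact hw
  rw [himg]
  symm
  apply Set.ncard_image_of_injective
  intro y y' h
  have h' : g * y * g⁻¹ = g * y' * g⁻¹ := h
  exact mul_left_cancel (mul_right_cancel h')

/-- F7: a non-empty pairwise non-commuting subset of `D` closed under its own conjugation has
`3`-power size -/
theorem ncard_pow_three [Finite G] {D : Set G} (hT : TT3 D) {S : Set G} (hSD : S ⊆ D)
    (hne : S.Nonempty) (hconj : ∀ a ∈ S, ∀ w ∈ S, a * w * a⁻¹ ∈ S)
    (hw : ∀ a ∈ S, ∀ b ∈ S, Commute a b → a = b) : ∃ a : ℕ, S.ncard = 3 ^ a := by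
  classical
  obtain ⟨d, hd⟩ := hne
  obtain ⟨N, hN3, hN⟩ := Cfsg.Agent.Lead.TTF.prod_three_of_width_one hT hSD hconj hw hd
  have hsub : ∀ a ∈ S, a ∈ Subgroup.normalizer S := by
    intro a ha
    rw [Subgroup.mem_set_normalizer_iff]
    intro w
    constructor
    · intro hw'
      exact hconj a ha w hw'
    · intro hw'
      have := hconj a ha _ hw'
      have e : a * (a * w * a⁻¹) * a⁻¹ = w := by
        rw [hT.inv (hSD ha)]
        calc a * (a * w * a) * a = (a * a) * w * (a * a) := by group
          _ = w := by rw [hT.sq a (hSD ha), one_mul, mul_one]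
      rwa [e] at this
  let M : Subgroup G := Subgroup.closure {x | ∃ a ∈ S, ∃ b ∈ S, x = a * b}
  have hMN : M ≤ N := by
    rw [Subgroup.closure_le]
    rintro x ⟨a, ha, b, hb, rfl⟩
    exact hN a ha b hb
  have hM3 : IsPGroup 3 M := hN3.to_le hMN
  have hMnorm : M ≤ Subgroup.normalizer S := by
    rw [Subgroup.closure_le]
    rintro x ⟨a, ha, b, hb, rfl⟩
    exact Subgroup.mul_mem _ (hsub a ha) (hsub b hb)
  letI : MulAction ↥M G := MulAction.compHom G ((MulAut.conj : G →* MulAut G).comp M.subtype)
  have hsmul : ∀ (m : ↥M) (x : G), m • x = (m : G) * x * (m : G)⁻¹ := fun m x => rfl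
  have horb : MulAction.orbit ↥M d = S := by
    ext s
    constructor
    · rintro ⟨m, rfl⟩
      show m • d ∈ S
      rw [hsmul]
      exact ((Subgroup.mem_set_normalizer_iff.mp (hMnorm m.2)) d).mp hd
    · intro hs
      by_cases h : s = d
      · subst h
        exact MulAction.mem_orbit_self _
      · have hnc : ¬ Commute d s := fun hc => h (hw d hd s hs hc).symm
        have hc3 : (d * s) ^ 3 = 1 := hT.cube d (hSD hd) s (hSD hs) hnc
        have hbr : d * s * d = s * d * s := braid (hT.sq d (hSD hd)) (hT.sq s (hSD hs)) hc3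
        have hsi : s⁻¹ = s := hT.inv (hSD hs)
        have hdi : d⁻¹ = d := hT.inv (hSD hd)
        have hcS : s * d * s⁻¹ ∈ S := hconj s hs d hd
        have hmM : s * d * s⁻¹ * d ∈ M :=
          Subgroup.subset_closure ⟨s * d * s⁻¹, hcS, d, hd, rfl⟩
        refine ⟨⟨s * d * s⁻¹ * d, hmM⟩, ?_⟩
        show (⟨s * d * s⁻¹ * d, hmM⟩ : ↥M) • d = s
        rw [hsmul]
        show s * d * s⁻¹ * d * d * (s * d * s⁻¹ * d)⁻¹ = s
        rw [hsi]
        have e1 : (s * d * s * d)⁻¹ = d * s * d * s := by
          rw [mul_inv_rev, mul_inv_rev, mul_inv_rev, hsi, hdi]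
          group
        rw [e1]
        calc s * d * s * d * d * (d * s * d * s)
            = s * d * s * (d * d) * (d * s * d) * s := by group
          _ = s * d * s * (s * d * s) * s := by rw [hT.sq d (hSD hd), mul_one, hbr]
          _ = s * d * (s * s) * d * (s * s) := by group
          _ = s * (d * d) := by rw [hT.sq s (hSD hs)]; group
          _ = s := by rw [hT.sq d (hSD hd), mul_one]
  have hidx := MulAction.index_stabilizer ↥M d
  rw [horb] at hidx
  obtain ⟨n, hn⟩ := hM3.index (MulAction.stabilizer ↥M d)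
  exact ⟨n, by rw [← hidx, hn]⟩

end Cfsg.Agent.Helper1.Fo3
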