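import Mathlib
import Cfsg.Agent.Helper2.ExtLayer1

/-!
# Glauberman's corollary of the Z*-theorem, perfect form: definitions (helper3)

`Hyp K L S`: the subgroup `L` of `G` normalizes `K`, is perfect, and centralizes the Sylow `2`-subgroup `S` of `K`.
`Concl K L`: every `2`-element of `L` acts trivially on `K / O(K)`.
Theorem G (`glauberman_perfect`, file `GlaubFinal`): `Hyp K L S → Concl K L` for finite `G`.
-/

set_option autoImplicit false

namespace Cfsg.Agent.Helper3.Glaub

open Cfsg.Agent.Helper2

universe u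

/-- `L` normalizes `K`, is perfect, and centralizes the Sylow `2`-subgroup `S` of `K`. -/
structure Hyp {G : Type*} [Group G] (K L S : Subgroup G) : Prop where
  norm : L ≤ Subgroup.normalizer (K : Set G)
  perf : ⁅L, L⁆ = L
  le : S ≤ K
  pgroup : IsPGroup 2 ↥S
  odd : ¬ 2 ∣ S.relIndex K
  cent : L ≤ Subgroup.centralizer (S : Set G)

/-- Every `2`-element of `L` centralizes `K` modulo `O(K)`. -/
def Concl {G : Type*} [Group G] (K L : Subgroup G) : Prop :=
  ∀ τ ∈ L, IsPElt 2 τ → ∀ k ∈ K, τ * k * τ⁻¹ * k⁻¹ ∈ coreOf 2 K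

/-- Theorem G for all `K` of order at most `n` (in a fixed universe). -/
def Stmt (n : ℕ) : Prop :=
  ∀ (G : Type u) [Group G] [Finite G] (K L S : Subgroup G), Nat.card K ≤ n → Hyp K L S → Concl K L

end Cfsg.Agent.Helper3.Glaub
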