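import Mathlib
import Cfsg.Agent.Helper3.GlaubDefs
import Cfsg.Agent.Helper2.PComp7
import Cfsg.Agent.Helper2.ExtLayer4

/-!
# Theorem G, main case, part A: general lemmas and the local step (helper3)
-/

set_option autoImplicit false

namespace Cfsg.Agent.Helper3.Glaub

open Cfsg.Agent.Helper2 Cfsg.Agent.Helper1

variable {G : Type*} [Group G]

/-- Sylow maximality, relative form. -/
theorem eq_of_sylow_le [Finite G] {p : ℕ} [hp : Fact p.Prime] {K S Q : Subgroup G}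
    (hidx : ¬ p ∣ S.relIndex K) (hSQ : S ≤ Q) (hQK : Q ≤ K) (hQ : IsPGroup p ↥Q) : Q = S := by
  have h1 : S.relIndex Q * Q.relIndex K = S.relIndex K := Subgroup.relIndex_mul_relIndex S Q K hSQ hQK
  have h2 : ¬ p ∣ S.relIndex Q := fun h => hidx (h1 ▸ Dvd.dvd.mul_right h _)
  obtain ⟨n, hn⟩ := IsPGroup.iff_card.mp hQ
  have h3 : S.relIndex Q ∣ p ^ n := by
    rw [← hn]; exact Subgroup.relIndex_dvd_card S Q
  obtain ⟨m, -, hm⟩ := (Nat.dvd_prime_pow hp.out).mp h3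
  have hm0 : m = 0 := by
    by_contra hne
    apply h2
    rw [hm]
    exact dvd_pow_self p hne
  rw [hm0, pow_zero] at hm
  exact le_antisymm (Subgroup.relIndex_eq_one.mp hm) hSQ

/-- Every `p`-subgroup of `K` is `K`-conjugate into a Sylow `p`-subgroup `S` of `K` (relative form). -/
theorem exists_conj_into [Finite G] {p : ℕ} [hp : Fact p.Prime] {K S A : Subgroup G}
    (hS : IsPGroup p ↥S) (hidx : ¬ p ∣ S.relIndex K) (hAK : A ≤ K)
    (hA : IsPGroup p ↥A) : ∃ g ∈ K, ∀ a ∈ A, g * a * g⁻¹ ∈ S := by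
  have hS' : IsPGroup p ↥(S.subgroupOf K) := hS.comap_of_injective K.subtype K.subtype_injective
  have hA' : IsPGroup p ↥(A.subgroupOf K) := hA.comap_of_injective K.subtype K.subtype_injective
  let P : Sylow p ↥K := hS'.toSylow hidx
  obtain ⟨Q, hQ⟩ := hA'.exists_le_sylow
  obtain ⟨l, hl⟩ := MulAction.exists_smul_eq ↥K Q P
  refine ⟨l, l.2, fun a ha => ?_⟩
  have haQ : (⟨a, hAK ha⟩ : ↥K) ∈ (Q : Subgroup ↥K) := hQ (by
    rw [Subgroup.mem_subgroupOf]; exact ha)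
  have h1 : l * ⟨a, hAK ha⟩ * l⁻¹ ∈ ((l • Q : Sylow p ↥K) : Subgroup ↥K) := by
    rw [Sylow.coe_subgroup_smul]
    exact ⟨_, haQ, rfl⟩
  rw [hl] at h1
  have h2 : l * ⟨a, hAK ha⟩ * l⁻¹ ∈ S.subgroupOf K := h1
  rw [Subgroup.mem_subgroupOf] at h2
  exact h2

/-- `coreOf p N` is normalized by everything normalizing `N`. -/
theorem normalizer_le_normalizer_coreOf (p : ℕ) (N : Subgroup G) :
    Subgroup.normalizer (N : Set G) ≤ Subgroup.normalizer (coreOf p N : Set G) := by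
  intro g hg
  rw [mem_normalizer_iff_cj] at hg ⊢
  rw [← coreOf_cj, hg]

theorem isPElt_pow {p : ℕ} {x : G} (hx : IsPElt p x) (n : ℕ) : IsPElt p (x ^ n) := by
  obtain ⟨k, hk⟩ := hx
  exact ⟨k, by rw [← pow_mul, mul_comm, pow_mul, hk, one_pow]⟩

theorem isPElt_zpow {p : ℕ} {x : G} (hx : IsPElt p x) (n : ℤ) : IsPElt p (x ^ n) := by
  obtain ⟨k, hk⟩ := hx
  exact ⟨k, by rw [← zpow_natCast, ← zpow_mul, mul_comm, zpow_mul, zpow_natCast, hk, one_zpow]⟩

theorem isPGroup_zpowers_of_isPElt {p : ℕ} {x : G} (hx : IsPElt p x) :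
    IsPGroup p ↥(Subgroup.zpowers x) := by
  rintro ⟨y, hy⟩
  obtain ⟨n, rfl⟩ := Subgroup.mem_zpowers_iff.mp hy
  obtain ⟨k, hk⟩ := isPElt_zpow hx n
  exact ⟨k, Subtype.ext hk⟩

theorem isPElt_of_mem_isPGroup {p : ℕ} {S : Subgroup G} (hS : IsPGroup p ↥S) {x : G} (hx : x ∈ S) :
    IsPElt p x := by
  obtain ⟨k, hk⟩ := hS ⟨x, hx⟩
  exact ⟨k, congrArg Subtype.val hk⟩

/-- an element that is both a `2`-element and lies in a subgroup of odd order is trivial -/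
theorem eq_one_of_isPElt_of_coprime [Finite G] {p : ℕ} {x : G} (hx : IsPElt p x) {V : Subgroup G}
    (hV : (Nat.card ↥V).Coprime p) (hxV : x ∈ V) : x = 1 := by
  obtain ⟨k, hk⟩ := hx
  have h2 : orderOf x ∣ p ^ k := orderOf_dvd_of_pow_eq_one hk
  have h3 : orderOf x ∣ Nat.card ↥V := Subgroup.orderOf_dvd_natCard V hxV
  have h4 : orderOf x = 1 := Nat.eq_one_of_dvd_coprimes (Nat.Coprime.pow_right k hV) h3 h2
  exact orderOf_eq_one_iff.mp h4

/-- Elements of coprime order subgroups normalizing each other commute. -/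
theorem commute_of_coprime_of_normalize [Finite G] {p : ℕ} {R V : Subgroup G} (hR : IsPGroup p ↥R)
    (hV : (Nat.card ↥V).Coprime p) (hRV : R ≤ Subgroup.normalizer (V : Set G))
    (hVR : V ≤ Subgroup.normalizer (R : Set G)) : ∀ v ∈ V, ∀ r ∈ R, v * r = r * v := by
  intro v hv r hr
  have h1 : v * r * v⁻¹ * r⁻¹ ∈ R :=
    R.mul_mem ((Subgroup.mem_normalizer_iff.mp (hVR hv) r).mp hr) (R.inv_mem hr)
  have h2 : v * r * v⁻¹ * r⁻¹ ∈ V := by
    have h3 : r * v⁻¹ * r⁻¹ ∈ V := (Subgroup.mem_normalizer_iff.mp (hRV hr) v⁻¹).mp (V.inv_mem hv)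
    have : v * r * v⁻¹ * r⁻¹ = v * (r * v⁻¹ * r⁻¹) := by group
    rw [this]; exact V.mul_mem hv h3
  have h4 := eq_one_of_isPElt_of_coprime (isPElt_of_mem_isPGroup hR h1) hV h2
  have := congrArg (· * (r * v)) h4
  simpa [mul_assoc] using this

end Cfsg.Agent.Helper3.Glaub
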