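import Mathlib
import Cfsg.Agent.Helper3.GlaubA

/-!
# Theorem G, main case, part B: the local step (helper3)
-/

set_option autoImplicit false

namespace Cfsg.Agent.Helper3.Glaub

open Cfsg.Agent.Helper2 Cfsg.Agent.Helper1

variable {G : Type*} [Group G]

/-- The normalizer of an intersection contains the intersection of the normalizers. -/
theorem normalizer_inf_le (A B : Subgroup G) :
    Subgroup.normalizer (A : Set G) ⊓ Subgroup.normalizer (B : Set G) ≤
      Subgroup.normalizer ((A ⊓ B : Subgroup G) : Set G) := by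
  rintro g ⟨hgA, hgB⟩
  rw [Subgroup.mem_normalizer_iff]
  intro y
  rw [Subgroup.mem_inf, Subgroup.mem_inf, ← Subgroup.mem_normalizer_iff.mp hgA y,
    ← Subgroup.mem_normalizer_iff.mp hgB y]

/-- `Hyp` passes to local subgroups `K ⊓ N_G(T)`, `T ≤ S` tame. -/
theorem Hyp.normalizer [Finite G] {K L S : Subgroup G} (h : Hyp K L S) {T : Subgroup G} (hTS : T ≤ S)
    (htame : ¬ 2 ∣ (S ⊓ Subgroup.normalizer (T : Set G)).relIndex (K ⊓ Subgroup.normalizer (T : Set G))) :
    Hyp (K ⊓ Subgroup.normalizer (T : Set G)) L (S ⊓ Subgroup.normalizer (T : Set G)) where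
  norm := by
    intro l hl
    apply normalizer_inf_le
    refine ⟨h.norm hl, ?_⟩
    have h1 : l ∈ Subgroup.normalizer (T : Set G) :=
      Subgroup.centralizer_le_normalizer _ ((Subgroup.centralizer_le hTS) (h.cent hl))
    exact Subgroup.le_normalizer h1
  perf := h.perf
  le := inf_le_inf_right _ h.le
  pgroup := h.pgroup.to_le inf_le_left
  odd := htame
  cent := h.cent.trans (Subgroup.centralizer_le inf_le_left)

/-- `Hyp` passes to centralizers `K ⊓ C_G(s)`, `s ∈ S` fully centralized. -/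
theorem Hyp.centralizer [Finite G] {K L S : Subgroup G} (h : Hyp K L S) {s : G} (hs : s ∈ S)
    (htame : ¬ 2 ∣ (S ⊓ Subgroup.centralizer ({s} : Set G)).relIndex
      (K ⊓ Subgroup.centralizer ({s} : Set G))) :
    Hyp (K ⊓ Subgroup.centralizer ({s} : Set G)) L (S ⊓ Subgroup.centralizer ({s} : Set G)) where
  norm := by
    intro l hl
    apply normalizer_inf_le
    refine ⟨h.norm hl, ?_⟩
    have h1 : l ∈ Subgroup.centralizer ({s} : Set G) := by
      rw [Subgroup.mem_centralizer_singleton_iff]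
      have := Subgroup.mem_centralizer_iff.mp (h.cent hl) s hs
      exact this.symm
    exact Subgroup.le_normalizer h1
  perf := h.perf
  le := inf_le_inf_right _ h.le
  pgroup := h.pgroup.to_le inf_le_left
  odd := htame
  cent := h.cent.trans (Subgroup.centralizer_le inf_le_left)

section main
variable [Finite G] {K L S : Subgroup G}

/-- The local step: every element of `N_K(T)` acts on `T` like an element of `C_K(τ)`. -/
theorem local_step (h : Hyp K L S)
    (htwo : ∀ Q : Subgroup G, Q ≤ K → K ≤ Subgroup.normalizer (Q : Set G) → IsPGroup 2 ↥Q → Q = ⊥)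
    (ih : ∀ K' S' : Subgroup G, K' < K → Hyp K' L S' → Concl K' L)
    {τ : G} (hτL : τ ∈ L) (hτ : IsPElt 2 τ) {T : Subgroup G} (hTS : T ≤ S) (hT : T ≠ ⊥)
    (htame : ¬ 2 ∣ (S ⊓ Subgroup.normalizer (T : Set G)).relIndex (K ⊓ Subgroup.normalizer (T : Set G)))
    {x : G} (hx : x ∈ K ⊓ Subgroup.normalizer (T : Set G)) :
    ∃ y ∈ K, y * τ = τ * y ∧ ∀ a ∈ T, x⁻¹ * a * x = y⁻¹ * a * y := by
  set N := K ⊓ Subgroup.normalizer (T : Set G) with hN
  have hT2 : IsPGroup 2 ↥T := h.pgroup.to_le hTS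
  have hNlt : N < K := by
    refine lt_of_le_of_ne inf_le_left ?_
    intro heq
    apply hT
    apply htwo T (hTS.trans h.le) ?_ hT2
    rw [← heq]
    exact inf_le_right
  have hHyp := h.normalizer hTS htame
  have hC := ih N _ hNlt hHyp
  set V := coreOf 2 N with hV
  set A := Subgroup.zpowers τ with hA
  have hVN : V ≤ N := coreOf_le 2 N
  have hVcop : (Nat.card ↥V).Coprime 2 := card_coreOf_coprime 2 N
  have hLN : L ≤ Subgroup.normalizer (V : Set G) :=
    hHyp.norm.trans (normalizer_le_normalizer_coreOf 2 N)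
  have hAL : A ≤ L := Subgroup.zpowers_le.mpr hτL
  have hAD : A ≤ Subgroup.normalizer (V : Set G) := hAL.trans hLN
  have hA2 : IsPGroup 2 ↥A := isPGroup_zpowers_of_isPElt hτ
  have hcop : (Nat.card ↥V).Coprime (Nat.card ↥A) := by
    obtain ⟨n, hn⟩ := IsPGroup.iff_card.mp hA2
    rw [hn]
    exact Nat.Coprime.pow_right n hVcop
  have hAsolv : Group.IsSolvable ↥A := by
    apply Group.isSolvable_of_comm
    rintro ⟨a, ha⟩ ⟨b, hb⟩
    obtain ⟨m, rfl⟩ := Subgroup.mem_zpowers_iff.mp ha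
    obtain ⟨n, rfl⟩ := Subgroup.mem_zpowers_iff.mp hb
    apply Subtype.ext
    change τ ^ m * τ ^ n = τ ^ n * τ ^ m
    rw [← zpow_add, ← zpow_add, add_comm]
  have hfix : ∀ a ∈ A, ∀ k ∈ N, a * k * a⁻¹ * k⁻¹ ∈ V := by
    intro a ha k hk
    obtain ⟨n, rfl⟩ := Subgroup.mem_zpowers_iff.mp ha
    exact hC _ (hAL ha) (isPElt_zpow hτ n) k hk
  obtain ⟨n, hn, hy⟩ :=
    exists_mem_centralizer_of_trivial_quotient_action A N V hAD hVN hcop (Or.inr hAsolv) hfix x hx
  refine ⟨n⁻¹ * x, hy.1.1, ?_, ?_⟩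
  · have := Subgroup.mem_centralizer_iff.mp hy.2 τ (Subgroup.mem_zpowers τ)
    exact this.symm
  · intro a ha
    have hTN : T ≤ N := le_inf (hTS.trans h.le) Subgroup.le_normalizer
    have hcomm := commute_of_coprime_of_normalize hT2 hVcop
      (hTN.trans (Subgroup.le_normalizer.trans (normalizer_le_normalizer_coreOf 2 N)))
      (hVN.trans inf_le_right) n hn a ha
    have h1 : n * a * n⁻¹ = a := by rw [hcomm]; group
    calc x⁻¹ * a * x = x⁻¹ * (n * a * n⁻¹) * x := by rw [h1]
      _ = (n⁻¹ * x)⁻¹ * a * (n⁻¹ * x) := by group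

end main

end Cfsg.Agent.Helper3.Glaub
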