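import Mathlib
import Cfsg.Agent.Helper3.GlaubB
import Cfsg.Agent.Lead.AlperinTame2

/-!
# Theorem G, main case, part C: `C_K(τ)` controls `K`-fusion in `S` (helper3)
-/

set_option autoImplicit false

namespace Cfsg.Agent.Helper3.Glaub

open Cfsg.Agent.Helper2 Cfsg.Agent.Helper1

variable {G : Type*} [Group G]

/-- Normalizer in `↥K` versus normalizer in `G`. -/
theorem map_subtype_normalizer (K : Subgroup G) (T' : Subgroup ↥K) :
    (Subgroup.normalizer (T' : Set ↥K)).map K.subtype =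
      K ⊓ Subgroup.normalizer ((T'.map K.subtype : Subgroup G) : Set G) := by
  ext y
  rw [Subgroup.mem_map, Subgroup.mem_inf]
  constructor
  · rintro ⟨y', hy', rfl⟩
    refine ⟨y'.2, ?_⟩
    rw [Subgroup.mem_normalizer_iff] at hy' ⊢
    intro z
    constructor
    · rintro ⟨t, ht, rfl⟩
      exact ⟨y' * t * y'⁻¹, (hy' t).mp ht, rfl⟩
    · rintro ⟨t, ht, hte⟩
      refine ⟨y'⁻¹ * t * y', ?_, ?_⟩
      · apply (hy' (y'⁻¹ * t * y')).mpr
        have : y' * (y'⁻¹ * t * y') * y'⁻¹ = t := by group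
        rw [this]; exact ht
      · have h1 : (K.subtype t : G) = (y' : G) * z * (y' : G)⁻¹ := hte
        change ((y'⁻¹ * t * y' : ↥K) : G) = z
        rw [Subgroup.coe_mul, Subgroup.coe_mul, Subgroup.coe_inv]
        change (y' : G)⁻¹ * (K.subtype t : G) * (y' : G) = z
        rw [h1]; group
  · rintro ⟨hyK, hyN⟩
    refine ⟨⟨y, hyK⟩, ?_, rfl⟩
    rw [Subgroup.mem_normalizer_iff] at hyN ⊢
    intro t
    constructor
    · intro ht
      obtain ⟨t₂, ht₂, hte⟩ := (hyN (t : G)).mp ⟨t, ht, rfl⟩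
      have : (⟨y, hyK⟩ : ↥K) * t * (⟨y, hyK⟩ : ↥K)⁻¹ = t₂ := by
        apply Subtype.ext
        exact hte.symm
      rw [this]; exact ht₂
    · intro ht
      have h1 : y * (t : G) * y⁻¹ ∈ T'.map K.subtype := ⟨_, ht, rfl⟩
      obtain ⟨t₂, ht₂, hte⟩ := (hyN (t : G)).mpr h1
      have : t = t₂ := by
        apply Subtype.ext
        exact hte.symm
      rw [this]; exact ht₂

section main
variable [Finite G] {K L S : Subgroup G}

/-- **Claim 1**: `C_K(τ)` controls `K`-fusion in `S`. -/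
theorem fusion_control (h : Hyp K L S)
    (htwo : ∀ Q : Subgroup G, Q ≤ K → K ≤ Subgroup.normalizer (Q : Set G) → IsPGroup 2 ↥Q → Q = ⊥)
    (ih : ∀ K' S' : Subgroup G, K' < K → Hyp K' L S' → Concl K' L)
    {τ : G} (hτL : τ ∈ L) (hτ : IsPElt 2 τ) (A : Set G) (hA : A ⊆ (S : Set G)) {g : G}
    (hg : g ∈ K) (hAg : ∀ a ∈ A, g⁻¹ * a * g ∈ S) :
    ∃ y ∈ K, y * τ = τ * y ∧ ∀ a ∈ A, g⁻¹ * a * g = y⁻¹ * a * y := by
  have : Fact (Nat.Prime 2) := ⟨Nat.prime_two⟩
  set P' : Subgroup ↥K := S.subgroupOf K with hP'def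
  have hP' : IsPGroup 2 ↥P' := h.pgroup.comap_of_injective K.subtype K.subtype_injective
  have hPmap : P'.map K.subtype = S := Subgroup.map_subgroupOf_eq_of_le h.le
  have hPc : Nat.card ↥P' = 2 ^ (Nat.card ↥K).factorization 2 := by
    have hidx : ¬ 2 ∣ P'.index := h.odd
    have := (hP'.toSylow hidx).card_eq_multiplicity
    rwa [IsPGroup.toSylow_coe] at this
  set A' : Set ↥K := {a | (a : G) ∈ A} with hA'def
  set g' : ↥K := ⟨g, hg⟩ with hg'def
  have hA' : A' ⊆ (P' : Set ↥K) := by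
    intro a ha
    change a ∈ S.subgroupOf K
    rw [Subgroup.mem_subgroupOf]
    exact hA ha
  have hAg' : Cfsg.Agent.Lead.conjR g' A' ⊆ (P' : Set ↥K) := by
    rintro _ ⟨a, ha, rfl⟩
    change g'⁻¹ * a * g' ∈ S.subgroupOf K
    rw [Subgroup.mem_subgroupOf]
    exact hAg (a : G) ha
  have hchain := Cfsg.Agent.Lead.Alp.alperin_chain hP' hPc A' g' hA' hAg'
  set Kτ' : Subgroup ↥K := (Subgroup.centralizer ({τ} : Set G)).subgroupOf K with hKτ'
  have hstep : ∀ (T' : Subgroup ↥K) (x' : ↥K), Cfsg.Agent.Lead.Alp.StepRel 2 P' T' x' →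
      ∃ u ∈ Kτ', ∀ a ∈ T', x'⁻¹ * a * x' = u⁻¹ * a * u := by
    rintro T' x' ⟨Q', -, -, hT'eq, hc1, -, hxN, -⟩
    by_cases hT'bot : T' = ⊥
    · refine ⟨1, Kτ'.one_mem, ?_⟩
      intro a ha
      rw [hT'bot, Subgroup.mem_bot] at ha
      rw [ha]; simp
    set T : Subgroup G := T'.map K.subtype with hTdef
    have hTne : T ≠ ⊥ := by
      intro hbot
      apply hT'bot
      rw [eq_bot_iff]
      intro t ht
      have h1 : (t : G) ∈ T := ⟨t, ht, rfl⟩
      rw [hbot, Subgroup.mem_bot] at h1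
      rw [Subgroup.mem_bot]
      exact Subtype.ext h1
    have hT'P : T' ≤ P' := by rw [hT'eq]; exact inf_le_left
    have hTS : T ≤ S := by
      rw [← hPmap]
      exact Subgroup.map_mono hT'P
    have hNmap := map_subtype_normalizer K T'
    have hSNmap : (P' ⊓ Subgroup.normalizer (T' : Set ↥K)).map K.subtype =
        S ⊓ Subgroup.normalizer (T : Set G) := by
      rw [Subgroup.map_inf _ _ _ K.subtype_injective, hPmap, hNmap, ← inf_assoc,
        inf_eq_left.mpr h.le]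
    have htame' : ¬ 2 ∣ (P' ⊓ Subgroup.normalizer (T' : Set ↥K)).relIndex
        (Subgroup.normalizer (T' : Set ↥K)) :=
      Cfsg.Agent.Lead.Alp.not_dvd_relIndex_of_card_eq_ppart inf_le_right hc1
    have htame : ¬ 2 ∣ (S ⊓ Subgroup.normalizer (T : Set G)).relIndex
        (K ⊓ Subgroup.normalizer (T : Set G)) := by
      rw [← hSNmap, ← hNmap, Subgroup.relIndex_map_map_of_injective _ _ K.subtype_injective]
      exact htame'
    have hx : (x' : G) ∈ K ⊓ Subgroup.normalizer (T : Set G) := by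
      rw [← hNmap]
      exact ⟨x', hxN, rfl⟩
    obtain ⟨y, hyK, hyτ, hya⟩ := local_step h htwo ih hτL hτ hTS hTne htame hx
    refine ⟨⟨y, hyK⟩, ?_, ?_⟩
    · change (⟨y, hyK⟩ : ↥K) ∈ (Subgroup.centralizer ({τ} : Set G)).subgroupOf K
      rw [Subgroup.mem_subgroupOf, Subgroup.mem_centralizer_singleton_iff]
      exact hyτ
    · intro a ha
      apply Subtype.ext
      have h1 : (a : G) ∈ T := ⟨a, ha, rfl⟩
      exact hya (a : G) h1
  obtain ⟨u, hu, hua⟩ := Cfsg.Agent.Lead.Alp.chain_conj_eq hstep hchain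
  refine ⟨(u : G), u.2, ?_, ?_⟩
  · have h1 : u ∈ (Subgroup.centralizer ({τ} : Set G)).subgroupOf K := hu
    rw [Subgroup.mem_subgroupOf, Subgroup.mem_centralizer_singleton_iff] at h1
    exact h1
  · intro a ha
    have haK : a ∈ K := h.le (hA ha)
    have := hua ⟨a, haK⟩ ha
    exact congrArg Subtype.val this

end main

end Cfsg.Agent.Helper3.Glaub
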