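import Mathlib
import Cfsg.Agent.Helper3.GlaubC

/-!
# Theorem G, main case, part D: `τ` is weakly closed (helper3)
-/

set_option autoImplicit false

namespace Cfsg.Agent.Helper3.Glaub

open Cfsg.Agent.Helper2 Cfsg.Agent.Helper1

variable {G : Type*} [Group G]

/-- `K ⊓ C_G(g s g⁻¹)` is the conjugate of `K ⊓ C_G(s)` by `g ∈ K`. -/
theorem inf_centralizer_conj {K : Subgroup G} {g : G} (hg : g ∈ K) (s : G) :
    K ⊓ Subgroup.centralizer ({g * s * g⁻¹} : Set G) =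
      cj g (K ⊓ Subgroup.centralizer ({s} : Set G)) := by
  ext y
  rw [mem_cj_iff, Subgroup.mem_inf, Subgroup.mem_inf, Subgroup.mem_centralizer_singleton_iff,
    Subgroup.mem_centralizer_singleton_iff]
  constructor
  · rintro ⟨hyK, hy⟩
    refine ⟨K.mul_mem (K.mul_mem (K.inv_mem hg) hyK) hg, ?_⟩
    calc g⁻¹ * y * g * s = g⁻¹ * (y * (g * s * g⁻¹)) * g := by group
      _ = g⁻¹ * ((g * s * g⁻¹) * y) * g := by rw [hy]
      _ = s * (g⁻¹ * y * g) := by group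
  · rintro ⟨hyK, hy⟩
    refine ⟨?_, ?_⟩
    · have := K.mul_mem (K.mul_mem hg hyK) (K.inv_mem hg)
      have h2 : g * (g⁻¹ * y * g) * g⁻¹ = y := by group
      rwa [h2] at this
    · calc y * (g * s * g⁻¹) = g * ((g⁻¹ * y * g) * s) * g⁻¹ := by group
        _ = g * (s * (g⁻¹ * y * g)) * g⁻¹ := by rw [hy]
        _ = g * s * g⁻¹ * y := by group

section main
variable [Finite G] {K L S : Subgroup G}

/-- Every `2`-element of `K` has a `K`-conjugate in `S` that is fully centralized. -/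
theorem exists_fully_centralized (h : Hyp K L S) {s : G} (hsK : s ∈ K) (hs : IsPElt 2 s) :
    ∃ g ∈ K, g * s * g⁻¹ ∈ S ∧
      ¬ 2 ∣ (S ⊓ Subgroup.centralizer ({g * s * g⁻¹} : Set G)).relIndex
        (K ⊓ Subgroup.centralizer ({g * s * g⁻¹} : Set G)) := by
  have : Fact (Nat.Prime 2) := ⟨Nat.prime_two⟩
  set C := K ⊓ Subgroup.centralizer ({s} : Set G) with hC
  have hsC : s ∈ C := Subgroup.mem_inf.mpr ⟨hsK, Subgroup.mem_centralizer_singleton_iff.mpr rfl⟩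
  have hZ2 : IsPGroup 2 ↥(Subgroup.zpowers (⟨s, hsC⟩ : ↥C)) := by
    apply isPGroup_zpowers_of_isPElt
    obtain ⟨k, hk⟩ := hs
    exact ⟨k, Subtype.ext hk⟩
  obtain ⟨P₀, hP₀⟩ := hZ2.exists_le_sylow
  set P₀G : Subgroup G := (P₀ : Subgroup ↥C).map C.subtype with hP₀G
  have hP₀C : P₀G ≤ C := by
    rintro _ ⟨y, -, rfl⟩
    exact y.2
  have hP₀2 : IsPGroup 2 ↥P₀G := P₀.2.map _
  have hsP₀ : s ∈ P₀G := ⟨⟨s, hsC⟩, hP₀ (Subgroup.mem_zpowers _), rfl⟩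
  have hP₀idx : ¬ 2 ∣ P₀G.relIndex C := by
    have h1 : P₀G.relIndex C = (P₀ : Subgroup ↥C).index := by
      unfold Subgroup.relIndex Subgroup.subgroupOf
      rw [hP₀G, Subgroup.comap_map_eq_self_of_injective C.subtype_injective]
    rw [h1]
    exact P₀.not_dvd_index
  obtain ⟨g, hgK, hg⟩ := exists_conj_into h.pgroup h.odd (hP₀C.trans inf_le_left) hP₀2
  refine ⟨g, hgK, hg s hsP₀, ?_⟩
  rw [inf_centralizer_conj hgK s]
  have hle : cj g P₀G ≤ S ⊓ Subgroup.centralizer ({g * s * g⁻¹} : Set G) := by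
    rw [cj_le_iff]
    intro a ha
    refine Subgroup.mem_inf.mpr ⟨hg a ha, ?_⟩
    have haC := (Subgroup.mem_inf.mp (hP₀C ha)).2
    rw [Subgroup.mem_centralizer_singleton_iff] at haC ⊢
    calc g * a * g⁻¹ * (g * s * g⁻¹) = g * (a * s) * g⁻¹ := by group
      _ = g * (s * a) * g⁻¹ := by rw [haC]
      _ = g * s * g⁻¹ * (g * a * g⁻¹) := by group
  have h1 : (cj g P₀G).relIndex (cj g C) = P₀G.relIndex C :=
    Subgroup.relIndex_map_map_of_injective _ _ (MulAut.conj g).injective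
  have h2 := Subgroup.relIndex_dvd_of_le_left (cj g C) hle
  rw [h1] at h2
  exact fun h3 => hP₀idx (h3.trans h2)

/-- **Claim 2**: `τ` is weakly closed: a `K`-conjugate of `τ` in `S τ` equals `τ`. -/
theorem weakly_closed (h : Hyp K L S)
    (htwo : ∀ Q : Subgroup G, Q ≤ K → K ≤ Subgroup.normalizer (Q : Set G) → IsPGroup 2 ↥Q → Q = ⊥)
    (ih : ∀ K' S' : Subgroup G, K' < K → Hyp K' L S' → Concl K' L)
    {τ : G} (hτL : τ ∈ L) (hτ : IsPElt 2 τ) {k : G} (hk : k ∈ K)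
    (hks : k⁻¹ * τ * k * τ⁻¹ ∈ S) : k⁻¹ * τ * k * τ⁻¹ = 1 := by
  have : Fact (Nat.Prime 2) := ⟨Nat.prime_two⟩
  obtain ⟨s, hs⟩ : ∃ s, s = k⁻¹ * τ * k * τ⁻¹ := ⟨_, rfl⟩
  rw [← hs] at hks ⊢
  by_contra hne
  have hsτ : s * τ = k⁻¹ * τ * k := by rw [hs]; group
  have hsK : s ∈ K := h.le hks
  have hs2 : IsPElt 2 s := isPElt_of_mem_isPGroup h.pgroup hks
  have hτS : ∀ a ∈ S, τ * a = a * τ := fun a ha => Subgroup.mem_centralizer_iff.mp (h.cent hτL) a ha |>.symm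
  -- (ii) adjust `k` so that `k s k⁻¹ ∈ S`
  obtain ⟨k₂, hk₂K, hk₂τ, hk₂s⟩ : ∃ k₂ ∈ K, k₂⁻¹ * τ * k₂ = s * τ ∧ k₂ * s * k₂⁻¹ ∈ S := by
    set D := K ⊓ Subgroup.centralizer ({s * τ} : Set G) with hD
    set Sk : Subgroup G := cj k⁻¹ S with hSk
    have hSkD : Sk ≤ D := by
      rw [hSk, cj_le_iff]
      intro a ha
      refine Subgroup.mem_inf.mpr
        ⟨K.mul_mem (K.mul_mem (K.inv_mem hk) (h.le ha)) (by simpa using hk), ?_⟩
      rw [Subgroup.mem_centralizer_singleton_iff, hsτ]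
      have := hτS a ha
      calc k⁻¹ * a * k⁻¹⁻¹ * (k⁻¹ * τ * k) = k⁻¹ * (a * τ) * k := by group
        _ = k⁻¹ * (τ * a) * k := by rw [this]
        _ = k⁻¹ * τ * k * (k⁻¹ * a * k⁻¹⁻¹) := by group
    have hSk2 : IsPGroup 2 ↥Sk := isPGroup_cj h.pgroup _
    have hSkidx : ¬ 2 ∣ Sk.relIndex D := by
      have hKk : cj k⁻¹ K = K := by
        have : k⁻¹ ∈ Subgroup.normalizer (K : Set G) := Subgroup.le_normalizer (K.inv_mem hk)
        exact (mem_normalizer_iff_cj K k⁻¹).mp this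
      have h1 : Sk.relIndex K = S.relIndex K := by
        conv_lhs => rw [← hKk]
        exact Subgroup.relIndex_map_map_of_injective _ _ (MulAut.conj k⁻¹).injective
      have h2 : Sk.relIndex D * D.relIndex K = Sk.relIndex K :=
        Subgroup.relIndex_mul_relIndex Sk D K hSkD inf_le_left
      intro h3
      apply h.odd
      rw [← h1, ← h2]
      exact Dvd.dvd.mul_right h3 _
    have hsD : Subgroup.zpowers s ≤ D := by
      rw [Subgroup.zpowers_le]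
      refine Subgroup.mem_inf.mpr ⟨hsK, ?_⟩
      rw [Subgroup.mem_centralizer_singleton_iff]
      have h1 : τ * s = s * τ := hτS s hks
      calc s * (s * τ) = s * (τ * s) := by rw [h1]
        _ = s * τ * s := (mul_assoc s τ s).symm
    obtain ⟨c, hcD, hc⟩ := exists_conj_into hSk2 hSkidx hsD (isPGroup_zpowers_of_isPElt hs2)
    have hcs := hc s (Subgroup.mem_zpowers s)
    rw [hSk, mem_cj_iff] at hcs
    have hcD' := Subgroup.mem_inf.mp hcD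
    refine ⟨k * c, K.mul_mem hk hcD'.1, ?_, ?_⟩
    · have hcτ := hcD'.2
      rw [Subgroup.mem_centralizer_singleton_iff] at hcτ
      calc (k * c)⁻¹ * τ * (k * c) = c⁻¹ * (k⁻¹ * τ * k) * c := by group
        _ = c⁻¹ * (s * τ) * c := by rw [hsτ]
        _ = c⁻¹ * (c * (s * τ)) := by rw [mul_assoc, ← hcτ]
        _ = s * τ := by group
    · have : k * c * s * (k * c)⁻¹ = k⁻¹⁻¹ * (c * s * c⁻¹) * k⁻¹ := by group
      rw [this]; exact hcs
  -- (iii) `c ∈ C_K(s₂)` with `c⁻¹ τ c = s₂ τ`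
  obtain ⟨s₂, hs₂⟩ : ∃ s₂, s₂ = k₂ * s * k₂⁻¹ := ⟨_, rfl⟩
  rw [← hs₂] at hk₂s
  obtain ⟨y, hyK, hyτ, hya⟩ := fusion_control h htwo ih hτL hτ {s₂} (by
      intro a ha; rw [Set.mem_singleton_iff] at ha; rw [ha]; exact hk₂s) hk₂K (by
      intro a ha; rw [Set.mem_singleton_iff] at ha; rw [ha, hs₂]
      have : k₂⁻¹ * (k₂ * s * k₂⁻¹) * k₂ = s := by group
      rw [this]; exact hks)
  have hys : s = y⁻¹ * s₂ * y := by
    have := hya s₂ rfl
    rw [← this, hs₂]; group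
  obtain ⟨c, hc⟩ : ∃ c, c = k₂ * y⁻¹ := ⟨_, rfl⟩
  have hcK : c ∈ K := by rw [hc]; exact K.mul_mem hk₂K (K.inv_mem hyK)
  have hcs₂ : c⁻¹ * s₂ * c = s₂ := by
    calc c⁻¹ * s₂ * c = y * (k₂⁻¹ * s₂ * k₂) * y⁻¹ := by rw [hc]; group
      _ = y * s * y⁻¹ := by rw [hs₂]; group
      _ = s₂ := by rw [hys]; group
  have hcτ : c⁻¹ * τ * c = s₂ * τ := by
    calc c⁻¹ * τ * c = y * (k₂⁻¹ * τ * k₂) * y⁻¹ := by rw [hc]; group
      _ = y * (s * τ) * y⁻¹ := by rw [hk₂τ]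
      _ = y * s * (τ * y⁻¹) := by group
      _ = y * s * (y⁻¹ * τ) := by
          have : τ * y⁻¹ = y⁻¹ * τ := by
            calc τ * y⁻¹ = y⁻¹ * (y * τ) * y⁻¹ := by group
              _ = y⁻¹ * (τ * y) * y⁻¹ := by rw [hyτ]
              _ = y⁻¹ * τ := by group
          rw [this]
      _ = s₂ * τ := by rw [hys]; group
  -- (i') make `s₂` fully centralized
  obtain ⟨g, hgK, hgS, hgtame⟩ := exists_fully_centralized h (h.le hk₂s)
    (isPElt_of_mem_isPGroup h.pgroup hk₂s)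
  obtain ⟨s₃, hs₃⟩ : ∃ s₃, s₃ = g * s₂ * g⁻¹ := ⟨_, rfl⟩
  rw [← hs₃] at hgS hgtame
  obtain ⟨y₂, hy₂K, hy₂τ, hy₂a⟩ := fusion_control h htwo ih hτL hτ {s₂} (by
      intro a ha; rw [Set.mem_singleton_iff] at ha; rw [ha]; exact hk₂s) (K.inv_mem hgK) (by
      intro a ha; rw [Set.mem_singleton_iff] at ha; rw [ha]
      have : g⁻¹⁻¹ * s₂ * g⁻¹ = s₃ := by rw [hs₃]; group
      rw [this]; exact hgS)
  have hs₃y : s₃ = y₂⁻¹ * s₂ * y₂ := by
    have := hy₂a s₂ rfl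
    rw [← this, hs₃]; group
  obtain ⟨c₃, hc₃⟩ : ∃ c₃, c₃ = y₂⁻¹ * c * y₂ := ⟨_, rfl⟩
  have hc₃K : c₃ ∈ K := by rw [hc₃]; exact K.mul_mem (K.mul_mem (K.inv_mem hy₂K) hcK) hy₂K
  have hy₂τ' : y₂⁻¹ * τ * y₂ = τ := by
    calc y₂⁻¹ * τ * y₂ = y₂⁻¹ * (τ * y₂) := by group
      _ = y₂⁻¹ * (y₂ * τ) := by rw [hy₂τ]
      _ = τ := by group
  have hc₃s : c₃⁻¹ * s₃ * c₃ = s₃ := by
    calc c₃⁻¹ * s₃ * c₃ = y₂⁻¹ * (c⁻¹ * (y₂ * s₃ * y₂⁻¹) * c) * y₂ := by rw [hc₃]; group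
      _ = y₂⁻¹ * (c⁻¹ * s₂ * c) * y₂ := by rw [hs₃y]; group
      _ = s₃ := by rw [hcs₂, hs₃y]
  have hc₃τ : c₃⁻¹ * τ * c₃ = s₃ * τ := by
    calc c₃⁻¹ * τ * c₃ = y₂⁻¹ * (c⁻¹ * (y₂ * τ * y₂⁻¹) * c) * y₂ := by rw [hc₃]; group
      _ = y₂⁻¹ * (c⁻¹ * τ * c) * y₂ := by
          have : y₂ * τ * y₂⁻¹ = τ := by rw [hy₂τ]; group
          rw [this]
      _ = y₂⁻¹ * (s₂ * τ) * y₂ := by rw [hcτ]
      _ = (y₂⁻¹ * s₂ * y₂) * (y₂⁻¹ * τ * y₂) := by group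
      _ = s₃ * τ := by rw [hy₂τ', hs₃y]
  -- (iv) induction in `C_K(s₃)`
  have hs₃ne : s₃ ≠ 1 := by
    intro h1
    apply hne
    have h2 : s₂ = 1 := by
      have : s₂ = g⁻¹ * s₃ * g := by rw [hs₃]; group
      rw [this, h1]; group
    have h3 : s = k₂⁻¹ * s₂ * k₂ := by rw [hs₂]; group
    rw [h3, h2]; group
  set X := K ⊓ Subgroup.centralizer ({s₃} : Set G) with hX
  have hXlt : X < K := by
    refine lt_of_le_of_ne inf_le_left ?_
    intro heq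
    apply hs₃ne
    have hZ : Subgroup.zpowers s₃ = ⊥ := by
      apply htwo _ (Subgroup.zpowers_le.mpr (h.le hgS)) ?_
        (isPGroup_zpowers_of_isPElt (isPElt_of_mem_isPGroup h.pgroup hgS))
      intro x hx
      have hx' : x ∈ Subgroup.centralizer ({s₃} : Set G) := by
        rw [← heq] at hx; exact (Subgroup.mem_inf.mp hx).2
      apply Subgroup.centralizer_le_normalizer
      rw [Subgroup.mem_centralizer_iff]
      intro z hz
      obtain ⟨n, rfl⟩ := Subgroup.mem_zpowers_iff.mp hz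
      rw [Subgroup.mem_centralizer_singleton_iff] at hx'
      exact (Commute.zpow_left (show Commute s₃ x from hx'.symm) n).eq
    have := Subgroup.mem_zpowers s₃
    rw [hZ, Subgroup.mem_bot] at this
    exact this
  have hHyp := h.centralizer hgS hgtame
  have hc₃X : c₃ ∈ X := by
    refine Subgroup.mem_inf.mpr ⟨hc₃K, ?_⟩
    rw [Subgroup.mem_centralizer_singleton_iff]
    calc c₃ * s₃ = c₃ * (c₃⁻¹ * s₃ * c₃) := by rw [hc₃s]
      _ = s₃ * c₃ := by group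
  have hC := ih X _ hXlt hHyp τ hτL hτ c₃ hc₃X
  have hmem : s₃ ∈ coreOf 2 X := by
    have : τ * c₃ * τ⁻¹ * c₃⁻¹ = c₃ * (c₃⁻¹ * τ * c₃ * τ⁻¹) * c₃⁻¹ := by group
    have h2 : c₃⁻¹ * τ * c₃ * τ⁻¹ = s₃ := by rw [hc₃τ]; group
    rw [this, h2] at hC
    have h3 := hC
    have h4 : c₃ * s₃ * c₃⁻¹ = s₃ := by
      calc c₃ * s₃ * c₃⁻¹ = c₃ * (c₃⁻¹ * s₃ * c₃) * c₃⁻¹ := by rw [hc₃s]
        _ = s₃ := by group
    rwa [h4] at h3
  exact hs₃ne (eq_one_of_isPElt_of_coprime (isPElt_of_mem_isPGroup h.pgroup hgS)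
    (card_coreOf_coprime 2 X) hmem)

end main

end Cfsg.Agent.Helper3.Glaub
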