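import Mathlib
import Cfsg.Agent.Helper3.GlaubD
import Cfsg.Agent.Helper2.ZStarH

/-!
# Theorem G, main case `O(K) = 1 = O_2(K)` (helper3): Z* applied to `K⟨τ⟩`
-/

set_option autoImplicit false

namespace Cfsg.Agent.Helper3.Glaub

open Cfsg.Agent.Helper2 Cfsg.Agent.Helper1

variable {G : Type*} [Group G]

/-- PIECE G-main: case `O(K) = 1 = O_2(K)` of Theorem G. -/
theorem main_case [Finite G] (K L S : Subgroup G) (h : Hyp K L S)
    (hodd : ∀ V : Subgroup G, V ≤ K → K ≤ Subgroup.normalizer (V : Set G) →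
      (Nat.card V).Coprime 2 → V = ⊥)
    (htwo : ∀ Q : Subgroup G, Q ≤ K → K ≤ Subgroup.normalizer (Q : Set G) →
      IsPGroup 2 ↥Q → Q = ⊥)
    (ih : ∀ K' S' : Subgroup G, K' < K → Hyp K' L S' → Concl K' L) : Concl K L := by
  have : Fact (Nat.Prime 2) := ⟨Nat.prime_two⟩
  intro τ hτL hτ k hk
  suffices hone : τ * k * τ⁻¹ * k⁻¹ = 1 by rw [hone]; exact Subgroup.one_mem _
  have hτN : τ ∈ Subgroup.normalizer (K : Set G) := h.norm hτL
  have hZN : Subgroup.zpowers τ ≤ Subgroup.normalizer (K : Set G) := Subgroup.zpowers_le.mpr hτN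
  have hτK : ∀ x ∈ K, τ * x * τ⁻¹ ∈ K := fun x hx => (Subgroup.mem_normalizer_iff.mp hτN x).mp hx
  have hτcS : ∀ a ∈ S, τ * a = a * τ := fun a ha =>
    (Subgroup.mem_centralizer_iff.mp (h.cent hτL) a ha).symm
  set H := K ⊔ Subgroup.zpowers τ with hH
  have hKH : K ≤ H := le_sup_left
  have hτH : τ ∈ H := (le_sup_right : Subgroup.zpowers τ ≤ H) (Subgroup.mem_zpowers τ)
  set P := S ⊔ Subgroup.zpowers τ with hP
  have hZ2 : IsPGroup 2 ↥(Subgroup.zpowers τ) := isPGroup_zpowers_of_isPElt hτ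
  have hP2 : IsPGroup 2 ↥P := by
    apply IsPGroup.to_sup_of_normal_left' h.pgroup hZ2
    rw [Subgroup.zpowers_le]
    exact Subgroup.centralizer_le_normalizer _ (h.cent hτL)
  have hPH : P ≤ H := sup_le_sup_right h.le _
  have hP'2 : IsPGroup 2 ↥(P.subgroupOf H) :=
    hP2.comap_of_injective H.subtype H.subtype_injective
  obtain ⟨P₁, hP₁⟩ := hP'2.exists_le_sylow
  -- `P₁ ∩ K = S`
  set Q := (P₁ : Subgroup ↥H).map H.subtype ⊓ K with hQ
  have hQS : Q = S := by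
    apply eq_of_sylow_le h.odd ?_ inf_le_right ((P₁.2.map H.subtype).to_le inf_le_left)
    intro a ha
    refine Subgroup.mem_inf.mpr ⟨?_, h.le ha⟩
    have haP : a ∈ P := (le_sup_left : S ≤ P) ha
    exact ⟨⟨a, hPH haP⟩, hP₁ (Subgroup.mem_subgroupOf.mpr haP), rfl⟩
  set x : ↥H := ⟨τ, hτH⟩ with hx
  have hxP₁ : x ∈ P₁ := by
    apply hP₁
    rw [Subgroup.mem_subgroupOf]
    exact (le_sup_right : Subgroup.zpowers τ ≤ P) (Subgroup.mem_zpowers τ)
  have hiso : ∀ g : ↥H, g * x * g⁻¹ ∈ P₁ → g * x * g⁻¹ = x := by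
    intro g hg
    obtain ⟨k', hk', t, ht, hgk⟩ := mem_sup_of_le_normalizer hZN g.2
    have htτ : t * τ * t⁻¹ = τ := by
      obtain ⟨n, rfl⟩ := Subgroup.mem_zpowers_iff.mp ht
      have : Commute (τ ^ n) τ := (Commute.refl τ).zpow_left n
      rw [this.eq]; group
    have hconj : (g : G) * τ * (g : G)⁻¹ = k' * τ * k'⁻¹ := by
      rw [hgk]
      calc k' * t * τ * (k' * t)⁻¹ = k' * (t * τ * t⁻¹) * k'⁻¹ := by group
        _ = k' * τ * k'⁻¹ := by rw [htτ]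
    set s := k' * τ * k'⁻¹ * τ⁻¹ with hs
    have hsK : s ∈ K := by
      have h1 : τ * k'⁻¹ * τ⁻¹ ∈ K := hτK _ (K.inv_mem hk')
      have h2 : s = k' * (τ * k'⁻¹ * τ⁻¹) := by rw [hs]; group
      rw [h2]; exact K.mul_mem hk' h1
    have hsP₁ : s ∈ (P₁ : Subgroup ↥H).map H.subtype := by
      refine ⟨g * x * g⁻¹ * x⁻¹, (P₁ : Subgroup ↥H).mul_mem hg ((P₁ : Subgroup ↥H).inv_mem hxP₁), ?_⟩
      change (g : G) * τ * (g : G)⁻¹ * τ⁻¹ = s
      rw [hconj]
    have hsS : s ∈ S := by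
      rw [← hQS]
      exact Subgroup.mem_inf.mpr ⟨hsP₁, hsK⟩
    have hwc := weakly_closed h htwo ih hτL hτ (K.inv_mem hk') (by
      have : k'⁻¹⁻¹ * τ * k'⁻¹ * τ⁻¹ = s := by rw [hs]; group
      rw [this]; exact hsS)
    have hs1 : s = 1 := by
      have : k'⁻¹⁻¹ * τ * k'⁻¹ * τ⁻¹ = s := by rw [hs]; group
      rw [← this]; exact hwc
    apply Subtype.ext
    change (g : G) * τ * (g : G)⁻¹ = τ
    rw [hconj]
    have : k' * τ * k'⁻¹ = s * τ := by rw [hs]; group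
    rw [this, hs1, one_mul]
  have hz := Cfsg.Agent.Helper2.ZStar.glauberman_zstar_two P₁ x hxP₁ hiso ⟨k, hKH hk⟩
  -- the odd core of `H` meets `K` trivially
  set O := (Cfsg.oddCore ↥H).map H.subtype with hO
  set V₀ := O ⊓ K with hV₀
  have hOnorm : H ≤ Subgroup.normalizer (O : Set G) := by
    have h1 := Subgroup.le_normalizer_map (H := Cfsg.oddCore ↥H) H.subtype
    rw [Subgroup.normalizer_eq_top, ← MonoidHom.range_eq_map, Subgroup.range_subtype] at h1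
    exact h1
  have hV₀bot : V₀ = ⊥ := by
    apply hodd V₀ inf_le_right
    · intro y hy
      apply normalizer_inf_le
      exact ⟨hOnorm (hKH hy), Subgroup.le_normalizer hy⟩
    · have h1 : Nat.card ↥V₀ ∣ Nat.card ↥O := Subgroup.card_dvd_of_le inf_le_left
      have h2 : Nat.card ↥O = Nat.card ↥(Cfsg.oddCore ↥H) :=
        Subgroup.card_map_of_injective H.subtype_injective
      have h3 : (Nat.card ↥(Cfsg.oddCore ↥H)).Coprime 2 := card_pPrimeCore_coprime 2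
      rw [← h2] at h3
      exact Nat.Coprime.coprime_dvd_left h1 h3
  have hmem : τ * k * τ⁻¹ * k⁻¹ ∈ V₀ := by
    refine Subgroup.mem_inf.mpr ⟨⟨_, hz, rfl⟩, ?_⟩
    exact K.mul_mem (hτK k hk) (K.inv_mem hk)
  rw [hV₀bot, Subgroup.mem_bot] at hmem
  exact hmem

end Cfsg.Agent.Helper3.Glaub
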