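import Mathlib
import Cfsg.Agent.Helper3.ShCritical

set_option autoImplicit false

namespace Cfsg.Agent.Helper3.Shult

open Module Cfsg.Agent.Helper3.HH

set_option maxHeartbeats 1000000 in
/-- The critical lemma, with the lower bound for the centralizer as a hypothesis. -/
theorem shult_critical_gen {K : Type*} [Field K] [IsAlgClosed K] {W : Type*} [AddCommGroup W]
    [Module K W] [FiniteDimensional K W] [Nontrivial W] {Q : Type*} [Group Q] [Finite Q]
    (ρ : Representation K Q W)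
    (hirr : ∀ U : Submodule K W, (∀ g : Q, Submodule.map (ρ g) U ≤ U) → U = ⊥ ∨ U = ⊤)
    (hQK : ((Nat.card Q : ℕ) : K) ≠ 0)
    (ξ ξ' : Module.End K W) (hξ : ξ * ξ' = 1) (hξ' : ξ' * ξ = 1)
    (r : ℕ) (hr : r.Prime) (hξr : ξ ^ r = 1)
    (φ : Q → Q) (hφ : ∀ g, ξ * ρ g * ξ' = ρ (φ g))
    (hcomm : ∀ g h : Q, ∃ c : K, ρ (g * h * g⁻¹ * h⁻¹) = c • (1 : Module.End K W))
    (hfree : ∀ g : Q, (∃ c : K, ρ (φ g * g⁻¹) = c • (1 : Module.End K W)) →
      ∃ c : K, ρ g = c • (1 : Module.End K W))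
    (hlb : finrank K W * finrank K W ≤ (r - 1) * finrank K (cent ξ))
    (Z₀ : Subgroup Q) (hZ₀ : ∀ g, g ∈ Z₀ ↔ ∃ c : K, ρ g = c • (1 : Module.End K W)) :
    (finrank K W = 1 ∨ finrank K W + 1 = r) ∧ finrank K W * finrank K W = Z₀.index := by
  classical
  haveI : Fintype Q := Fintype.ofFinite Q
  have hirr' : ∀ U : Submodule K W, (∀ g ∈ (⊤ : Subgroup Q), Submodule.map (ρ g) U ≤ U) →
      U = ⊥ ∨ U = ⊤ := fun U hU => hirr U (fun g => hU g (Subgroup.mem_top g))
  obtain ⟨c, hc⟩ : ∃ c : Q →* Module.End K (Module.End K W), c = conjRep ρ := ⟨_, rfl⟩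
  have hcapp : ∀ g A, c g A = ρ g * A * ρ g⁻¹ := by
    intro g A; rw [hc, conjRep_apply]
  have hcfix : ∀ g A, c g A = A ↔ ρ g * A = A * ρ g := by
    intro g A; rw [hc, conjRep_eq_self_iff]
  obtain ⟨e, he⟩ : ∃ e : Module.End K (Module.End K W), e = ∑ g : Q, c g := ⟨_, rfl⟩
  have he_left : ∀ h : Q, c h * e = e := by
    intro h
    rw [he, Finset.mul_sum]
    apply Fintype.sum_equiv (Equiv.mulLeft h)
    intro g
    rw [Equiv.coe_mulLeft, map_mul]
  have he_scalar : ∀ A, ∃ l : K, e A = l • (1 : Module.End K W) := by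
    intro A
    apply schur ρ ⊤ hirr'
    intro h _
    rw [← hcfix, ← Module.End.mul_apply, he_left h]
  have he1 : e 1 = ((Nat.card Q : ℕ) : K) • (1 : Module.End K W) := by
    have hc1 : ∀ g, c g 1 = 1 := by
      intro g
      rw [hcapp, mul_one, rep_mul_inv]
    rw [he, LinearMap.sum_apply, Finset.sum_congr rfl (fun g _ => hc1 g), Finset.sum_const,
      Finset.card_univ, Nat.card_eq_fintype_card, Nat.cast_smul_eq_nsmul]
  have hone : (1 : Module.End K W) ≠ 0 := one_ne_zero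
  -- e kills the non-scalar group elements
  have he0 : ∀ g : Q, g ∉ Z₀ → e (ρ g) = 0 := by
    intro g hg
    choose cc hcc using fun h : Q => hcomm h g
    have h1 : ∀ h : Q, c h (ρ g) = cc h • ρ g := by
      intro h
      rw [hcapp, ← map_mul, ← map_mul]
      have : h * g * h⁻¹ = (h * g * h⁻¹ * g⁻¹) * g := by group
      rw [this, map_mul, hcc h, smul_mul_assoc, one_mul]
    have h2 : e (ρ g) = (∑ h : Q, cc h) • ρ g := by
      rw [he, LinearMap.sum_apply, Finset.sum_congr rfl (fun h _ => h1 h), Finset.sum_smul]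
    obtain ⟨l, hl⟩ := he_scalar (ρ g)
    by_cases hs : (∑ h : Q, cc h) = 0
    · rw [h2, hs, zero_smul]
    · exfalso
      apply hg
      rw [hZ₀]
      refine ⟨(∑ h : Q, cc h)⁻¹ * l, ?_⟩
      rw [mul_smul, ← hl, h2, smul_smul, inv_mul_cancel₀ hs, one_smul]
  -- the transversal
  obtain ⟨t, ht⟩ : ∃ t : Q ⧸ Z₀ → Q, ∀ i, (QuotientGroup.mk (t i) : Q ⧸ Z₀) = i :=
    ⟨Quotient.out, fun i => QuotientGroup.out_eq' i⟩
  have hfac : ∀ g : Q, ∃ l : K, ρ g = l • ρ (t (QuotientGroup.mk g)) := by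
    intro g
    have h1 : (t (QuotientGroup.mk g))⁻¹ * g ∈ Z₀ := by
      rw [← QuotientGroup.eq, ht]
    obtain ⟨l, hl⟩ := (hZ₀ _).1 h1
    refine ⟨l, ?_⟩
    have : g = t (QuotientGroup.mk g) * ((t (QuotientGroup.mk g))⁻¹ * g) := by group
    conv_lhs => rw [this]
    rw [map_mul, hl, mul_smul_comm, mul_one]
  haveI : Fintype (Q ⧸ Z₀) := Fintype.ofFinite _
  have hli : LinearIndependent K (fun i : Q ⧸ Z₀ => ρ (t i)) := by
    rw [Fintype.linearIndependent_iff]
    intro a ha i₀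
    have h1 : ∑ i, a i • ρ ((t i₀)⁻¹ * t i) = 0 := by
      have := congrArg (fun A => ρ (t i₀)⁻¹ * A) ha
      simp only [Finset.mul_sum, mul_zero, mul_smul_comm, ← map_mul] at this
      exact this
    have h2 := congrArg e h1
    rw [map_sum, map_zero, Finset.sum_eq_single i₀] at h2
    · rw [map_smul, inv_mul_cancel, map_one, he1, smul_smul] at h2
      rcases smul_eq_zero.1 h2 with h3 | h3
      · rcases mul_eq_zero.1 h3 with h4 | h4
        · exact h4
        · exact absurd h4 hQK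
      · exact absurd h3 hone
    · intro i _ hi
      rw [map_smul, he0, smul_zero]
      intro hmem
      apply hi
      rw [← QuotientGroup.eq, ht, ht] at hmem
      exact hmem.symm
    · intro h
      exact absurd (Finset.mem_univ _) h
  have hspan : ⊤ ≤ Submodule.span K (Set.range (fun i : Q ⧸ Z₀ => ρ (t i))) := by
    have hB : Submodule.span K (Set.range ρ) = ⊤ := by
      apply burnside
      · exact Submodule.subset_span ⟨1, map_one ρ⟩
      · intro a ha b hb
        have h1 : a * b ∈ Submodule.span K (Set.range ρ) * Submodule.span K (Set.range ρ) :=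
          Submodule.mul_mem_mul ha hb
        rw [Submodule.span_mul_span] at h1
        refine Submodule.span_mono ?_ h1
        rintro _ ⟨_, ⟨g, rfl⟩, _, ⟨h, rfl⟩, rfl⟩
        exact ⟨g * h, map_mul ρ g h⟩
      · intro U hU
        apply hirr U
        intro g
        rintro _ ⟨u, hu, rfl⟩
        exact hU (ρ g) (Submodule.subset_span ⟨g, rfl⟩) u hu
    rw [← hB]
    apply Submodule.span_le.2
    rintro _ ⟨g, rfl⟩
    obtain ⟨l, hl⟩ := hfac g
    rw [SetLike.mem_coe, hl]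
    exact Submodule.smul_mem _ _ (Submodule.subset_span ⟨_, rfl⟩)
  obtain ⟨b, hb⟩ : ∃ b : Basis (Q ⧸ Z₀) K (Module.End K W), ∀ i, b i = ρ (t i) :=
    ⟨Basis.mk hli hspan, fun i => Basis.mk_apply hli hspan i⟩
  have hDD : finrank K W * finrank K W = Fintype.card (Q ⧸ Z₀) := by
    rw [← Module.finrank_eq_card_basis b, Module.finrank_linearMap]
  have hindex : Z₀.index = Fintype.card (Q ⧸ Z₀) := by
    rw [Subgroup.index_eq_card, Nat.card_eq_fintype_card]
  refine ⟨?_, by rw [hDD, hindex]⟩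
  -- the conjugation by ξ
  obtain ⟨cx, hcx⟩ : ∃ cx : Module.End K (Module.End K W),
      cx = LinearMap.mulLeft K ξ ∘ₗ LinearMap.mulRight K ξ' := ⟨_, rfl⟩
  have hcxapp : ∀ A, cx A = ξ * A * ξ' := by
    intro A
    rw [hcx]
    simp [mul_assoc]
  have hφ' : ∀ g, ξ * ρ g = ρ (φ g) * ξ := by
    intro g
    rw [← hφ g, mul_assoc, hξ', mul_one]
  have hmem_of : ∀ g : Q, ∀ l : K, ρ g = l • (1 : Module.End K W) → g ∈ Z₀ :=
    fun g l hl => (hZ₀ g).2 ⟨l, hl⟩
  -- φ is compatible with the cosets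
  have hφZ : ∀ g g' : Q, (QuotientGroup.mk g : Q ⧸ Z₀) = QuotientGroup.mk g' →
      (QuotientGroup.mk (φ g) : Q ⧸ Z₀) = QuotientGroup.mk (φ g') := by
    intro g g' hgg'
    rw [QuotientGroup.eq] at hgg' ⊢
    obtain ⟨l, hl⟩ := (hZ₀ _).1 hgg'
    have h1 : ρ g' = l • ρ g := by
      have : g' = g * (g⁻¹ * g') := by group
      conv_lhs => rw [this]
      rw [map_mul, hl, mul_smul_comm, mul_one]
    apply hmem_of _ l
    rw [map_mul, ← hφ g', h1, mul_smul_comm, smul_mul_assoc, hφ g, mul_smul_comm,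
      ← map_mul, inv_mul_cancel, map_one]
  obtain ⟨σ, hσ⟩ : ∃ σ : Q ⧸ Z₀ → Q ⧸ Z₀, ∀ i, σ i = QuotientGroup.mk (φ (t i)) := ⟨_, fun _ => rfl⟩
  have hσmk : ∀ g : Q, σ (QuotientGroup.mk g) = QuotientGroup.mk (φ g) := by
    intro g
    rw [hσ]
    apply hφZ
    rw [ht]
  have hσiter : ∀ n : ℕ, ∀ g : Q, σ^[n] (QuotientGroup.mk g) = QuotientGroup.mk (φ^[n] g) := by
    intro n
    induction n with
    | zero => intro g; rfl
    | succ n ih =>
      intro g
      rw [Function.iterate_succ_apply', Function.iterate_succ_apply', ih, hσmk]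
  have hφiter : ∀ n : ℕ, ∀ g : Q, ξ ^ n * ρ g = ρ (φ^[n] g) * ξ ^ n := by
    intro n
    induction n with
    | zero => intro g; simp
    | succ n ih =>
      intro g
      rw [Function.iterate_succ_apply', pow_succ', mul_assoc, ih, ← mul_assoc, hφ', mul_assoc]
  have hσr : ∀ i, σ^[r] i = i := by
    intro i
    rw [← ht i, hσiter]
    have := hφiter r (t i)
    rw [hξr, one_mul, mul_one] at this
    symm
    rw [QuotientGroup.eq]
    apply hmem_of _ 1
    rw [map_mul, ← this, ← map_mul, inv_mul_cancel, map_one, one_smul]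
  have hσinj := inj_of_iterate σ r hr.pos hσr
  have hfixpt : ∀ i, σ i = i → i = QuotientGroup.mk 1 := by
    intro i hi
    rw [← ht i, hσmk] at hi
    rw [QuotientGroup.eq] at hi
    obtain ⟨l, hl⟩ := (hZ₀ _).1 hi
    have h1 : ∃ c : K, ρ (φ (t i) * (t i)⁻¹) = c • (1 : Module.End K W) := by
      refine ⟨l⁻¹, ?_⟩
      have e1 : φ (t i) * (t i)⁻¹ = φ (t i) * ((φ (t i))⁻¹ * t i)⁻¹ * (φ (t i))⁻¹ := by group
      have hl0 : l ≠ 0 := by
        intro h0
        rw [h0, zero_smul] at hl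
        have h3 : ρ ((φ (t i))⁻¹ * t i) * ρ ((φ (t i))⁻¹ * t i)⁻¹ = 1 := rep_mul_inv ρ _
        rw [hl, zero_mul] at h3
        exact hone h3.symm
      have h4 : ρ ((φ (t i))⁻¹ * t i)⁻¹ = l⁻¹ • (1 : Module.End K W) := by
        have h3 : ρ ((φ (t i))⁻¹ * t i) * ρ ((φ (t i))⁻¹ * t i)⁻¹ = 1 := rep_mul_inv ρ _
        rw [hl, smul_mul_assoc, one_mul] at h3
        rw [← h3, smul_smul, inv_mul_cancel₀ hl0, one_smul]
      rw [e1, map_mul, map_mul, h4, mul_smul_comm, mul_one, smul_mul_assoc, rep_mul_inv]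
    obtain ⟨l', hl'⟩ := hfree _ h1
    rw [← ht i]
    rw [QuotientGroup.eq]
    have : (t i)⁻¹ * 1 = (t i)⁻¹ := mul_one _
    rw [this]
    exact Z₀.inv_mem (hmem_of _ l' hl')
  have hfix1 : σ (QuotientGroup.mk 1) = QuotientGroup.mk 1 := by
    rw [hσmk]
    symm
    rw [QuotientGroup.eq, inv_one, one_mul]
    apply hmem_of _ 1
    rw [← hφ 1, map_one, mul_one, hξ, one_smul]
  -- the monomial relation
  choose s hs using fun i : Q ⧸ Z₀ => hfac (φ (t i))
  have hmono : ∀ i, cx (b i) = s i • b (σ i) := by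
    intro i
    rw [hcxapp, hb, hb, hφ, hs i, hσ]
  -- orbit representatives
  obtain ⟨R₀, hR₀sub, hR₀card, hR₀cov⟩ := orbit_reps σ r hr hσr _
    ((Finset.univ : Finset (Q ⧸ Z₀)).erase (QuotientGroup.mk 1)) rfl
    (by
      intro i hi
      rw [Finset.mem_erase] at hi ⊢
      refine ⟨?_, Finset.mem_univ _⟩
      intro h
      apply hi.1
      apply hσinj
      rw [h, hfix1])
    (by
      intro i hi h
      rw [Finset.mem_erase] at hi
      exact hi.1 (hfixpt i h))
  have h1R₀ : (QuotientGroup.mk 1 : Q ⧸ Z₀) ∉ R₀ := by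
    intro h
    have := hR₀sub h
    rw [Finset.mem_erase] at this
    exact this.1 rfl
  have hub := mono_fixed b cx σ hσinj s hmono (insert (QuotientGroup.mk 1) R₀) (by
    intro i
    by_cases hi : i = QuotientGroup.mk 1
    · exact ⟨QuotientGroup.mk 1, Finset.mem_insert_self _ _, 0, hi.symm⟩
    · obtain ⟨j, hj, n, hn⟩ := hR₀cov i (Finset.mem_erase.2 ⟨hi, Finset.mem_univ _⟩)
      exact ⟨j, Finset.mem_insert_of_mem hj, n, hn⟩)
  rw [Finset.card_insert_of_notMem h1R₀] at hub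
  have hcardι : Fintype.card (Q ⧸ Z₀) = r * R₀.card + 1 := by
    rw [← hR₀card, Finset.card_erase_of_mem (Finset.mem_univ _), Finset.card_univ]
    have : 0 < Fintype.card (Q ⧸ Z₀) := Fintype.card_pos
    omega
  have hle : finrank K (cent ξ) ≤ finrank K (LinearMap.ker (cx - 1)) := by
    apply Submodule.finrank_mono
    intro A hA
    rw [mem_cent] at hA
    rw [LinearMap.mem_ker, LinearMap.sub_apply, Module.End.one_apply, hcxapp, hA, mul_assoc, hξ,
      mul_one, sub_self]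
  have hDpos : 1 ≤ finrank K W := Module.finrank_pos
  apply arith_crit (finrank K W) r R₀.card hr hDpos (by rw [hDD, hcardι])
  calc _ ≤ _ := hlb
    _ ≤ _ := Nat.mul_le_mul_left _ (hle.trans hub)

end Cfsg.Agent.Helper3.Shult
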