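import Mathlib
import Cfsg.Agent.Helper3.ShClifford

set_option autoImplicit false

namespace Cfsg.Agent.Helper3.Shult

open Module Cfsg.Agent.Helper3.FrobActC

variable {K : Type*} [Field K] {V : Type*} [AddCommGroup V] [Module K V]
  {Γ : Type*} [Group Γ]

/-- `U` is isomorphic, as an `N`-module, to its twist by `g`. -/
def Tw (ρ : Representation K Γ V) (N : Subgroup Γ) (U : Submodule K V) (g : Γ) : Prop :=
  ∃ γ₀ : Module.End K V, (∀ u ∈ U, γ₀ u ∈ U) ∧ (∀ u ∈ U, γ₀ u = 0 → u = 0) ∧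
    ∀ n ∈ N, ∀ u ∈ U, γ₀ (ρ n u) = ρ (g * n * g⁻¹) (γ₀ u)

theorem tw_one (ρ : Representation K Γ V) (N : Subgroup Γ) (U : Submodule K V) :
    Tw ρ N U 1 := by
  refine ⟨1, fun u hu => hu, fun u _ h => h, ?_⟩
  intro n _ u _
  rw [Module.End.one_apply, Module.End.one_apply, one_mul, inv_one, mul_one]

theorem tw_mul {ρ : Representation K Γ V} {N : Subgroup Γ} {U : Submodule K V} {g h : Γ}
    (hh : ∀ n ∈ N, h * n * h⁻¹ ∈ N) (hg : Tw ρ N U g) (hh' : Tw ρ N U h) :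
    Tw ρ N U (g * h) := by
  obtain ⟨γg, hg1, hg2, hg3⟩ := hg
  obtain ⟨γh, hh1, hh2, hh3⟩ := hh'
  refine ⟨γg * γh, ?_, ?_, ?_⟩
  · intro u hu
    exact hg1 _ (hh1 u hu)
  · intro u hu h0
    rw [Module.End.mul_apply] at h0
    exact hh2 u hu (hg2 _ (hh1 u hu) h0)
  · intro n hn u hu
    rw [Module.End.mul_apply, Module.End.mul_apply, hh3 n hn u hu, hg3 _ (hh n hn) _ (hh1 u hu)]
    congr 2
    group

theorem tw_pow {ρ : Representation K Γ V} {N : Subgroup Γ} {U : Submodule K V} {g : Γ}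
    (hgN : ∀ n ∈ N, g * n * g⁻¹ ∈ N) (hg : Tw ρ N U g) (m : ℕ) : Tw ρ N U (g ^ m) := by
  induction m with
  | zero => rw [pow_zero]; exact tw_one ρ N U
  | succ m ih =>
    rw [pow_succ]
    exact tw_mul hgN ih hg

set_option maxHeartbeats 1000000 in
/-- the eigenvector trick: if a minimal invariant subspace `U ≤ W₂` is isomorphic to its twist by
`z`, some minimal invariant subspace of `W₂` is `z`-invariant. -/
theorem exists_inv_of_tw [IsAlgClosed K] [FiniteDimensional K V] (ρ : Representation K Γ V)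
    (N : Subgroup Γ) (W₂ U : Submodule K V) (hU : IsMinInv ρ N U) (hUW : U ≤ W₂) (z : Γ)
    (hzN : ∀ n ∈ N, z * n * z⁻¹ ∈ N) (hzW : W₂.map (ρ z⁻¹) ≤ W₂) (htw : Tw ρ N U z) :
    ∃ U' : Submodule K V, U' ≤ W₂ ∧ IsMinInv ρ N U' ∧ U'.map (ρ z) ≤ U' := by
  classical
  obtain ⟨γ₀, hγU, hγker, hγeq⟩ := htw
  obtain ⟨γ, hγ⟩ : ∃ γ : Module.End K ↥U, ∀ u : ↥U, ((γ u : ↥U) : V) = γ₀ u :=
    ⟨γ₀.restrict hγU, fun u => rfl⟩
  have hγinj : Function.Injective γ := by
    rw [injective_iff_map_eq_zero]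
    intro u hu
    apply Subtype.ext
    apply hγker u u.2
    rw [← hγ, hu]
    rfl
  have hγsurj : Function.Surjective γ := LinearMap.injective_iff_surjective.1 hγinj
  let H : Submodule K (↥U →ₗ[K] V) :=
    { carrier := {f | (∀ n ∈ N, ∀ u u' : ↥U, (u' : V) = ρ n (u : V) → f u' = ρ n (f u)) ∧
        ∀ u, f u ∈ W₂}
      add_mem' := by
        intro f g hf hg
        refine ⟨?_, ?_⟩
        · intro n hn u u' huu'
          rw [LinearMap.add_apply, LinearMap.add_apply, hf.1 n hn u u' huu', hg.1 n hn u u' huu',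
            map_add]
        · intro u
          rw [LinearMap.add_apply]
          exact W₂.add_mem (hf.2 u) (hg.2 u)
      zero_mem' := by
        refine ⟨?_, ?_⟩
        · intro n hn u u' _
          rw [LinearMap.zero_apply, LinearMap.zero_apply, map_zero]
        · intro u
          rw [LinearMap.zero_apply]
          exact W₂.zero_mem
      smul_mem' := by
        intro c f hf
        refine ⟨?_, ?_⟩
        · intro n hn u u' huu'
          rw [LinearMap.smul_apply, LinearMap.smul_apply, hf.1 n hn u u' huu', map_smul]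
        · intro u
          rw [LinearMap.smul_apply]
          exact W₂.smul_mem c (hf.2 u) }
  have hHmem : ∀ f : ↥U →ₗ[K] V, f ∈ H ↔
      (∀ n ∈ N, ∀ u u' : ↥U, (u' : V) = ρ n (u : V) → f u' = ρ n (f u)) ∧ ∀ u, f u ∈ W₂ :=
    fun f => Iff.rfl
  let Θ : (↥U →ₗ[K] V) →ₗ[K] (↥U →ₗ[K] V) :=
    { toFun := fun f => ρ z⁻¹ ∘ₗ f ∘ₗ γ
      map_add' := by
        intro f g
        rw [LinearMap.add_comp, LinearMap.comp_add]
      map_smul' := by
        intro c f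
        rw [LinearMap.smul_comp, LinearMap.comp_smul]
        rfl }
  have hΘapp : ∀ f u, Θ f u = ρ z⁻¹ (f (γ u)) := fun f u => rfl
  have hΘH : ∀ f ∈ H, Θ f ∈ H := by
    intro f hf
    rw [hHmem] at hf ⊢
    refine ⟨?_, ?_⟩
    · intro n hn u u' huu'
      rw [hΘapp, hΘapp]
      have h1 : ((γ u' : ↥U) : V) = ρ (z * n * z⁻¹) ((γ u : ↥U) : V) := by
        rw [hγ, hγ, huu', hγeq n hn u u.2]
      rw [hf.1 _ (hzN n hn) _ _ h1]
      rw [← Module.End.mul_apply, ← Module.End.mul_apply, ← map_mul, ← map_mul]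
      congr 2
      group
    · intro u
      rw [hΘapp]
      exact hzW (Submodule.mem_map_of_mem (hf.2 _))
  have hsubH : U.subtype ∈ H := by
    rw [hHmem]
    refine ⟨?_, fun u => hUW u.2⟩
    intro n hn u u' huu'
    exact huu'
  haveI : Nontrivial ↥H := by
    refine ⟨⟨⟨U.subtype, hsubH⟩, 0, ?_⟩⟩
    intro h
    have h1 := congrArg Subtype.val h
    change U.subtype = 0 at h1
    obtain ⟨u, huU, hu0⟩ := Submodule.exists_mem_ne_zero_of_ne_bot hU.1
    apply hu0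
    have := LinearMap.congr_fun h1 ⟨u, huU⟩
    exact this
  obtain ⟨μ, hμ⟩ := Module.End.exists_eigenvalue (Θ.restrict hΘH)
  obtain ⟨⟨f, hfH⟩, hfe⟩ := hμ.exists_hasEigenvector
  have hf0 : f ≠ 0 := by
    intro h
    apply hfe.2
    exact Subtype.ext h
  have hfeq : Θ f = μ • f := by
    have := hfe.apply_eq_smul
    exact congrArg Subtype.val this
  have hμ0 : μ ≠ 0 := by
    intro h0
    apply hf0
    ext u
    obtain ⟨u', rfl⟩ := hγsurj u
    have h1 := LinearMap.congr_fun hfeq u'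
    rw [hΘapp, h0, zero_smul, LinearMap.zero_apply] at h1
    rw [LinearMap.zero_apply]
    apply rho_injective ρ z⁻¹
    rw [h1, map_zero]
  have hfH' := (hHmem f).1 hfH
  have hRN : FInv ρ N (LinearMap.range f) := by
    apply finv_of_mem
    rintro n hn _ ⟨u, rfl⟩
    refine ⟨⟨ρ n u, hU.2.1.mem hn u.2⟩, ?_⟩
    exact hfH'.1 n hn u _ rfl
  have hRz : (LinearMap.range f).map (ρ z) ≤ LinearMap.range f := by
    rintro _ ⟨_, ⟨u, rfl⟩, rfl⟩
    have h1 := LinearMap.congr_fun hfeq u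
    rw [hΘapp, LinearMap.smul_apply] at h1
    have h2 : f (γ u) = μ • ρ z (f u) := by
      have := congrArg (ρ z) h1
      rw [map_smul] at this
      rw [← this]
      have h3 := rho_mul_inv ρ z (f (γ u))
      exact h3.symm
    refine ⟨μ⁻¹ • γ u, ?_⟩
    rw [map_smul, h2, smul_smul, inv_mul_cancel₀ hμ0, one_smul]
  refine ⟨LinearMap.range f, ?_, ⟨?_, hRN, ?_⟩, hRz⟩
  · rintro _ ⟨u, rfl⟩
    exact hfH'.2 u
  · intro h
    exact hf0 (LinearMap.range_eq_bot.1 h)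
  · intro W' hW' hW'le
    have hU'' : FInv ρ N ((W'.comap f).map U.subtype) := by
      apply finv_of_mem
      rintro n hn _ ⟨u, hu, rfl⟩
      refine ⟨⟨ρ n u, hU.2.1.mem hn u.2⟩, ?_, rfl⟩
      rw [SetLike.mem_coe, Submodule.mem_comap] at hu ⊢
      rw [hfH'.1 n hn u _ rfl]
      exact hW'.mem hn hu
    have hle : (W'.comap f).map U.subtype ≤ U := by
      rintro _ ⟨u, _, rfl⟩
      exact u.2
    rcases hU.2.2 _ hU'' hle with h | h
    · left
      rw [eq_bot_iff]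
      intro w hw
      obtain ⟨u, rfl⟩ := hW'le hw
      have h1 : (u : V) ∈ (W'.comap f).map U.subtype := ⟨u, hw, rfl⟩
      rw [h, Submodule.mem_bot] at h1
      have h2 : u = 0 := Subtype.ext h1
      rw [h2, map_zero]
      exact Submodule.zero_mem _
    · right
      apply le_antisymm hW'le
      rintro _ ⟨u, rfl⟩
      have h1 : (u : V) ∈ (W'.comap f).map U.subtype := by
        rw [h]; exact u.2
      obtain ⟨u', hu', hu'e⟩ := h1
      have : u' = u := Subtype.ext hu'e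
      rw [← this]
      exact hu'

set_option maxHeartbeats 1000000 in
/-- if the translates of a minimal invariant subspace are not independent, the subspace is
isomorphic to a nontrivial twist. -/
theorem tw_of_inf_ne_bot (ρ : Representation K Γ V) (N : Subgroup Γ) (x : Γ)
    (hpow : ∀ k : ℕ, ∀ n ∈ N, x ^ k * n * (x ^ k)⁻¹ ∈ N)
    (hpow' : ∀ k : ℕ, ∀ n ∈ N, (x ^ k)⁻¹ * n * x ^ k ∈ N)
    (U : Submodule K V) (hU : IsMinInv ρ N U) (j₀ : ℕ)
    (hj₀ : U.map (ρ (x ^ j₀)) ⊓ (Finset.range j₀).sup (fun i => U.map (ρ (x ^ i))) ≠ ⊥) :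
    ∃ d, 0 < d ∧ d ≤ j₀ ∧ Tw ρ N U (x ^ d) := by
  classical
  obtain ⟨Ui, hUi⟩ : ∃ Ui : ℕ → Submodule K V, ∀ k, Ui k = U.map (ρ (x ^ k)) := ⟨_, fun _ => rfl⟩
  have hUimin : ∀ k, IsMinInv ρ N (Ui k) := by
    intro k
    rw [hUi]
    exact isMinInv_map_of_norm hU _ (hpow' k) (hpow k)
  obtain ⟨S, hS⟩ : ∃ S : ℕ → Submodule K V, ∀ k, S k = (Finset.range k).sup Ui := ⟨_, fun _ => rfl⟩
  have hSinv : ∀ k, FInv ρ N (S k) := by
    intro k
    rw [hS]
    exact finv_range_sup Ui (fun k => (hUimin k).2.1) k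
  have hS0 : S 0 = ⊥ := by rw [hS, Finset.range_zero, Finset.sup_empty]
  have hSsucc : ∀ k, S (k + 1) = S k ⊔ Ui k := by
    intro k
    rw [hS, hS, Finset.range_add_one, Finset.sup_insert, sup_comm]
  have hex : ∃ j, Ui j ⊓ S j ≠ ⊥ := by
    refine ⟨j₀, ?_⟩
    rw [hUi, hS]
    have : Ui = fun i => U.map (ρ (x ^ i)) := funext hUi
    rw [this]
    exact hj₀
  obtain ⟨j, hj, hjmin, hjj₀⟩ : ∃ j, Ui j ⊓ S j ≠ ⊥ ∧ (∀ i < j, Ui i ⊓ S i = ⊥) ∧ j ≤ j₀ := by
    refine ⟨Nat.find hex, Nat.find_spec hex, ?_, ?_⟩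
    · intro i hi
      by_contra h
      exact Nat.find_min hex hi h
    · apply Nat.find_min' hex
      rw [hUi, hS]
      have : Ui = fun i => U.map (ρ (x ^ i)) := funext hUi
      rw [this]
      exact hj₀
  have hj0 : 0 < j := by
    rcases Nat.eq_zero_or_pos j with h | h
    · exfalso
      rw [h, hS0, inf_bot_eq] at hj
      exact hj rfl
    · exact h
  have hUjS : Ui j ≤ S j := by
    rcases (hUimin j).2.2 _ ((hUimin j).2.1.inf (hSinv j)) inf_le_left with h | h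
    · exact absurd h hj
    · rw [← h]; exact inf_le_right
  have hex2 : ∃ i, Ui j ≤ S (i + 1) := ⟨j - 1, by
    have : j - 1 + 1 = j := by omega
    rw [this]; exact hUjS⟩
  obtain ⟨i₀, hi₀, hi₀min⟩ : ∃ i₀, Ui j ≤ S (i₀ + 1) ∧ ¬ Ui j ≤ S i₀ := by
    refine ⟨Nat.find hex2, Nat.find_spec hex2, ?_⟩
    intro hle
    rcases Nat.eq_zero_or_pos (Nat.find hex2) with h | h
    · rw [h, hS0, le_bot_iff] at hle
      exact (hUimin j).1 hle
    · have hlt : Nat.find hex2 - 1 < Nat.find hex2 := by omega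
      apply Nat.find_min hex2 hlt
      have : Nat.find hex2 - 1 + 1 = Nat.find hex2 := by omega
      rw [this]
      exact hle
  have hi₀j : i₀ < j := by
    by_contra h
    push Not at h
    apply hi₀min
    refine hUjS.trans ?_
    rw [hS, hS]
    apply Finset.sup_mono
    intro a ha
    rw [Finset.mem_range] at ha ⊢
    omega
  have hdisjA : Ui j ⊓ S i₀ = ⊥ := by
    rcases (hUimin j).2.2 _ ((hUimin j).2.1.inf (hSinv i₀)) inf_le_left with h | h
    · exact h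
    · exfalso
      apply hi₀min
      rw [← h]; exact inf_le_right
  have hdisjB : S i₀ ⊓ Ui i₀ = ⊥ := by
    rw [inf_comm]
    exact hjmin i₀ hi₀j
  rw [hSsucc] at hi₀
  obtain ⟨π, hπA, hπB⟩ := exists_proj (S i₀) (Ui i₀) hdisjB
  have hπeq : ∀ n ∈ N, ∀ w ∈ S i₀ ⊔ Ui i₀, π (ρ n w) = ρ n (π w) := by
    intro n hn w hw
    obtain ⟨a, ha, b, hb, rfl⟩ := Submodule.mem_sup.1 hw
    have e1 : ρ n (a + b) = ρ n a + ρ n b := map_add _ _ _
    rw [e1, map_add, hπA _ ((hSinv i₀).mem hn ha), hπB _ ((hUimin i₀).2.1.mem hn hb), map_add,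
      hπA a ha, hπB b hb, zero_add, zero_add]
  have hπmem : ∀ w ∈ S i₀ ⊔ Ui i₀, π w ∈ Ui i₀ := by
    intro w hw
    obtain ⟨a, ha, b, hb, rfl⟩ := Submodule.mem_sup.1 hw
    rw [map_add, hπA a ha, hπB b hb, zero_add]
    exact hb
  have hπker : ∀ w ∈ Ui j, π w = 0 → w = 0 := by
    intro w hw hπw
    obtain ⟨a, ha, b, hb, rfl⟩ := Submodule.mem_sup.1 (hi₀ hw)
    rw [map_add, hπA a ha, hπB b hb, zero_add] at hπw
    rw [hπw, add_zero] at hw ⊢
    have : a ∈ Ui j ⊓ S i₀ := ⟨hw, ha⟩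
    rw [hdisjA, Submodule.mem_bot] at this
    exact this
  obtain ⟨d, hd⟩ : ∃ d, j = i₀ + d := ⟨j - i₀, by omega⟩
  have hd0 : 0 < d := by omega
  refine ⟨d, hd0, by omega, ?_⟩
  have hxj : x ^ j = x ^ i₀ * x ^ d := by rw [hd, pow_add]
  have hmemUj : ∀ u ∈ U, ρ (x ^ j) u ∈ Ui j := by
    intro u hu
    rw [hUi]; exact Submodule.mem_map_of_mem hu
  refine ⟨ρ (x ^ i₀)⁻¹ ∘ₗ π ∘ₗ ρ (x ^ j), ?_, ?_, ?_⟩
  · intro u hu
    change ρ (x ^ i₀)⁻¹ (π (ρ (x ^ j) u)) ∈ U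
    have h1 := hπmem _ (hi₀ (hmemUj u hu))
    rw [hUi] at h1
    obtain ⟨u', hu', hu'e⟩ := h1
    rw [← hu'e, rho_inv_mul]
    exact hu'
  · intro u hu h0
    change ρ (x ^ i₀)⁻¹ (π (ρ (x ^ j) u)) = 0 at h0
    have h1 : π (ρ (x ^ j) u) = 0 := by
      apply rho_injective ρ (x ^ i₀)⁻¹
      rw [h0, map_zero]
    have h2 := hπker _ (hmemUj u hu) h1
    apply rho_injective ρ (x ^ j)
    rw [h2, map_zero]
  · intro n hn u hu
    change ρ (x ^ i₀)⁻¹ (π (ρ (x ^ j) (ρ n u))) =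
      ρ (x ^ d * n * (x ^ d)⁻¹) (ρ (x ^ i₀)⁻¹ (π (ρ (x ^ j) u)))
    have h1 : ρ (x ^ j) (ρ n u) = ρ (x ^ j * n * (x ^ j)⁻¹) (ρ (x ^ j) u) := by
      rw [← Module.End.mul_apply, ← Module.End.mul_apply, ← map_mul, ← map_mul]
      congr 2
      group
    rw [h1, hπeq _ (hpow j n hn) _ (hi₀ (hmemUj u hu))]
    generalize π (ρ (x ^ j) u) = z
    rw [← Module.End.mul_apply, ← Module.End.mul_apply, ← map_mul, ← map_mul]
    congr 2
    rw [hxj]
    group

end Cfsg.Agent.Helper3.Shult
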