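import Mathlib
import Cfsg.Agent.Helper3.ShCliffordB
import Cfsg.Agent.Helper3.ShAbsA

set_option autoImplicit false

namespace Cfsg.Agent.Helper3.Shult

open Module Cfsg.Agent.Helper3.FrobActC

variable {K : Type*} [Field K] {V : Type*} [AddCommGroup V] [Module K V]
  {Γ : Type*} [Group Γ]

theorem conj_pow_mem (N : Subgroup Γ) (x : Γ) (hxN : ∀ g ∈ N, x * g * x⁻¹ ∈ N) (k : ℕ) :
    ∀ g ∈ N, x ^ k * g * (x ^ k)⁻¹ ∈ N := by
  induction k with
  | zero => intro g hg; simpa using hg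
  | succ k ih =>
    intro g hg
    have e : x ^ (k + 1) * g * (x ^ (k + 1))⁻¹ = x * (x ^ k * g * (x ^ k)⁻¹) * x⁻¹ := by
      rw [pow_succ']; group
    rw [e]
    exact hxN _ (ih g hg)

theorem conj_pow_inv_mem (N : Subgroup Γ) (x : Γ) (M : ℕ) (hM : 0 < M) (hx : x ^ M = 1)
    (hxN : ∀ g ∈ N, x * g * x⁻¹ ∈ N) (k : ℕ) :
    ∀ g ∈ N, (x ^ k)⁻¹ * g * x ^ k ∈ N := by
  intro g hg
  have hinv : (x ^ k)⁻¹ = x ^ (k * (M - 1)) := by
    apply inv_eq_of_mul_eq_one_right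
    rw [← pow_add]
    have : k + k * (M - 1) = M * k := by
      obtain ⟨M', rfl⟩ : ∃ M', M = M' + 1 := ⟨M - 1, by omega⟩
      rw [Nat.add_sub_cancel]; ring
    rw [this, pow_mul, hx, one_pow]
  have := conj_pow_mem N x hxN (k * (M - 1)) g hg
  rw [← hinv, inv_inv] at this
  exact this

theorem map_pow_le (ρ : Representation K Γ V) (x : Γ) (W : Submodule K V)
    (h : W.map (ρ x) ≤ W) (k : ℕ) : W.map (ρ (x ^ k)) ≤ W := by
  induction k with
  | zero => rw [pow_zero, map_one, Module.End.one_eq_id, Submodule.map_id]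
  | succ k ih =>
    rw [pow_succ', map_mul, Module.End.mul_eq_comp, Submodule.map_comp]
    exact (Submodule.map_mono ih).trans h

theorem exists_isMinInv_le [FiniteDimensional K V] (ρ : Representation K Γ V) (N : Subgroup Γ)
    (W₂ : Submodule K V) (hW₂0 : W₂ ≠ ⊥) (hW₂N : FInv ρ N W₂) :
    ∃ U : Submodule K V, U ≤ W₂ ∧ IsMinInv ρ N U := by
  classical
  let P : ℕ → Prop := fun n => ∃ U : Submodule K V, U ≤ W₂ ∧ U ≠ ⊥ ∧ FInv ρ N U ∧ finrank K U = n
  have hP : ∃ n, P n := ⟨_, W₂, le_rfl, hW₂0, hW₂N, rfl⟩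
  obtain ⟨U, hUle, hU0, hUN, hUn⟩ := Nat.find_spec hP
  refine ⟨U, hUle, hU0, hUN, ?_⟩
  intro W' hW' hW'le
  by_cases h0 : W' = ⊥
  · exact Or.inl h0
  · right
    have h1 : Nat.find hP ≤ finrank K W' :=
      Nat.find_min' hP ⟨W', hW'le.trans hUle, h0, hW', rfl⟩
    rw [← hUn] at h1
    exact Submodule.eq_of_le_of_finrank_le hW'le h1

set_option maxHeartbeats 1000000 in
/-- Clifford theory for a cyclic `p`-group normalizing `N`: a minimal `N`-invariant subspace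
stabilized by `x ^ (p ^ k)` whose first `p ^ k` translates are independent. -/
theorem clifford_pgroup [IsAlgClosed K] [FiniteDimensional K V] (ρ : Representation K Γ V)
    (N : Subgroup Γ) (x : Γ) (p : ℕ) (hp : p.Prime) (n : ℕ) (hx : x ^ (p ^ n) = 1)
    (hxN : ∀ g ∈ N, x * g * x⁻¹ ∈ N) (W₂ : Submodule K V) (hW₂0 : W₂ ≠ ⊥)
    (hW₂N : FInv ρ N W₂) (hW₂x : W₂.map (ρ x) ≤ W₂) :
    ∃ k ≤ n, ∃ U : Submodule K V, U ≤ W₂ ∧ IsMinInv ρ N U ∧ U.map (ρ (x ^ (p ^ k))) ≤ U ∧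
      ∀ c : ℕ → V, (∀ i, c i ∈ U.map (ρ (x ^ i))) → ∑ i ∈ Finset.range (p ^ k), c i = 0 →
        ∀ i < p ^ k, c i = 0 := by
  classical
  have hM : 0 < p ^ n := pow_pos hp.pos n
  have hpow := conj_pow_mem N x hxN
  have hpow' := conj_pow_inv_mem N x (p ^ n) hM hx hxN
  have hWpow : ∀ k, W₂.map (ρ (x ^ k)) ≤ W₂ := map_pow_le ρ x W₂ hW₂x
  let P : ℕ → Prop := fun k => ∃ U : Submodule K V, U ≤ W₂ ∧ IsMinInv ρ N U ∧
    U.map (ρ (x ^ (p ^ k))) ≤ U
  have hPn : P n := by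
    obtain ⟨U, hUle, hU⟩ := exists_isMinInv_le ρ N W₂ hW₂0 hW₂N
    refine ⟨U, hUle, hU, ?_⟩
    rw [hx, map_one, Module.End.one_eq_id, Submodule.map_id]
  have hex : ∃ k, P k := ⟨n, hPn⟩
  obtain ⟨U, hUle, hU, hUx⟩ := Nat.find_spec hex
  have hkn : Nat.find hex ≤ n := Nat.find_min' hex hPn
  refine ⟨Nat.find hex, hkn, U, hUle, hU, hUx, ?_⟩
  -- trivial intersections
  have hint : ∀ m < p ^ (Nat.find hex), U.map (ρ (x ^ m)) ⊓
      (Finset.range m).sup (fun i => U.map (ρ (x ^ i))) = ⊥ := by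
    intro m hm
    by_contra hne
    obtain ⟨d, hd0, hdm, htw⟩ := tw_of_inf_ne_bot ρ N x hpow hpow' U hU m hne
    obtain ⟨j, d', hd', hdeq⟩ := Nat.exists_eq_pow_mul_and_not_dvd (n := d) (by omega) p hp.ne_one
    have hd'0 : 0 < d' := by
      rcases Nat.eq_zero_or_pos d' with h | h
      · exfalso; apply hd'; rw [h]; exact dvd_zero p
      · exact h
    have hjk : j < Nat.find hex := by
      have h1 : p ^ j ≤ d := by rw [hdeq]; exact Nat.le_mul_of_pos_right _ hd'0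
      have h2 : p ^ j < p ^ (Nat.find hex) := by omega
      exact (Nat.pow_lt_pow_iff_right hp.one_lt).1 h2
    have hn1 : 1 < p ^ n := by
      have : 1 ≤ n := by omega
      calc 1 < p := hp.one_lt
        _ = p ^ 1 := (pow_one p).symm
        _ ≤ p ^ n := Nat.pow_le_pow_right hp.pos this
    have hcop : Nat.Coprime d' (p ^ n) := by
      apply Nat.Coprime.pow_right
      exact ((Nat.Prime.coprime_iff_not_dvd hp).2 hd').symm
    obtain ⟨m', -, hm'⟩ := Nat.exists_mul_mod_eq_one_of_coprime hcop hn1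
    have hxpow : (x ^ d) ^ m' = x ^ (p ^ j) := by
      rw [← pow_mul, hdeq, mul_assoc]
      have h3 := Nat.div_add_mod (d' * m') (p ^ n)
      rw [hm'] at h3
      rw [← h3, mul_add, mul_one, pow_add, ← mul_assoc, mul_comm (p ^ j) (p ^ n), mul_assoc,
        pow_mul, hx, one_pow, one_mul]
    have htw' : Tw ρ N U (x ^ (p ^ j)) := by
      rw [← hxpow]
      exact tw_pow (hpow d) htw m'
    have hzW : W₂.map (ρ (x ^ (p ^ j))⁻¹) ≤ W₂ :=
      map_inv_le_of_pow ρ (x ^ p ^ j) (p ^ n) hM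
        (by rw [← pow_mul, mul_comm, pow_mul, hx, one_pow]) W₂ (hWpow _)
    obtain ⟨U', hU'le, hU'min, hU'x⟩ :=
      exists_inv_of_tw ρ N W₂ U hU hUle (x ^ (p ^ j)) (hpow _) hzW htw'
    exact Nat.find_min hex hjk ⟨U', hU'le, hU'min, hU'x⟩
  -- independence
  have hind : ∀ M, M ≤ p ^ (Nat.find hex) → ∀ c : ℕ → V, (∀ i, c i ∈ U.map (ρ (x ^ i))) →
      ∑ i ∈ Finset.range M, c i = 0 → ∀ i < M, c i = 0 := by
    intro M
    induction M with
    | zero => intro _ c _ _ i hi; omega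
    | succ M ih =>
      intro hMle c hc hsum i hi
      rw [Finset.sum_range_succ] at hsum
      have h1 : c M ∈ (Finset.range M).sup (fun i => U.map (ρ (x ^ i))) := by
        have : c M = - ∑ i ∈ Finset.range M, c i := eq_neg_of_add_eq_zero_right hsum
        rw [this]
        apply Submodule.neg_mem
        apply Submodule.sum_mem
        intro i hi
        exact (Finset.le_sup (f := fun i => U.map (ρ (x ^ i))) hi) (hc i)
      have h2 : c M ∈ U.map (ρ (x ^ M)) ⊓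
          (Finset.range M).sup (fun i => U.map (ρ (x ^ i))) := ⟨hc M, h1⟩
      rw [hint M (by omega), Submodule.mem_bot] at h2
      rw [h2, add_zero] at hsum
      rcases Nat.lt_succ_iff_lt_or_eq.1 hi with h | h
      · exact ih (by omega) c hc hsum i h
      · rw [h]; exact h2
  exact hind _ le_rfl

end Cfsg.Agent.Helper3.Shult
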