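import Mathlib
import Cfsg.Agent.Helper3.ShCliffordC

set_option autoImplicit false

namespace Cfsg.Agent.Helper3.Shult

open Module Cfsg.Agent.Helper3.FrobActC
open scoped commutatorElement

set_option maxHeartbeats 1000000 in
/-- a minimal `x`-invariant subgroup of `Q` not centralized by the power `y` of `x`. -/
theorem exists_min_noncentral₂ {G : Type*} [Group G] {q r : ℕ} (hq : q.Prime) (hr : r.Prime)
    (hqr : q ≠ r) (Q : Subgroup G) [Finite Q] (hQ : IsPGroup q Q) (x y : G) (k : ℕ)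
    (hyk : y = x ^ k) (hy : y ^ r = 1)
    (hxQ : ∀ g ∈ Q, x * g * x⁻¹ ∈ Q) (hnc : ∃ g ∈ Q, y * g * y⁻¹ ≠ g) :
    ∃ Q₁ : Subgroup G, Q₁ ≤ Q ∧ (∀ g ∈ Q₁, x * g * x⁻¹ ∈ Q₁) ∧ (∃ g ∈ Q₁, y * g * y⁻¹ ≠ g) ∧
      (∀ H : Subgroup G, H ≤ Q₁ → (∀ g ∈ H, x * g * x⁻¹ ∈ H) → H ≠ Q₁ →
        ∀ g ∈ H, y * g * y⁻¹ = g) ∧
      Q₁ = Subgroup.closure {u | ∃ h ∈ Q₁, u = y * h * y⁻¹ * h⁻¹} ∧
      (∀ g ∈ Q₁, ∀ h ∈ Q₁, y * (g * h * g⁻¹ * h⁻¹) * y⁻¹ = g * h * g⁻¹ * h⁻¹) ∧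
      (∀ c ∈ Q₁, y * c * y⁻¹ = c → ∀ g ∈ Q₁, c * g = g * c) := by
  classical
  haveI : Fact q.Prime := ⟨hq⟩
  have hxy : x * y = y * x := by
    rw [hyk, ← pow_succ', ← pow_succ]
  let P : Subgroup G → Prop := fun H => H ≤ Q ∧ (∀ g ∈ H, x * g * x⁻¹ ∈ H) ∧
    ∃ g ∈ H, y * g * y⁻¹ ≠ g
  have hex : ∃ n, ∃ H, P H ∧ Nat.card H = n := ⟨_, Q, ⟨le_rfl, hxQ, hnc⟩, rfl⟩
  obtain ⟨Q₁, hPQ₁, hcardQ₁⟩ := Nat.find_spec hex
  obtain ⟨hQ₁Q, hxQ₁, g₀, hg₀, hg₀x⟩ := hPQ₁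
  haveI : Finite ↥Q₁ := Finite.of_injective (Subgroup.inclusion hQ₁Q)
    (Subgroup.inclusion_injective hQ₁Q)
  have hQ₁p : IsPGroup q Q₁ := hQ.to_le hQ₁Q
  have hyQ₁ : ∀ g ∈ Q₁, y * g * y⁻¹ ∈ Q₁ := by
    rw [hyk]
    exact conj_pow_mem Q₁ x hxQ₁ k
  have hP : ∀ H : Subgroup G, H ≤ Q₁ → (∀ g ∈ H, x * g * x⁻¹ ∈ H) → H ≠ Q₁ →
      ∀ g ∈ H, y * g * y⁻¹ = g := by
    intro H hHQ₁ hxH hne g hg
    by_contra hgx
    apply hne
    have hPH : P H := ⟨hHQ₁.trans hQ₁Q, hxH, g, hg, hgx⟩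
    have h1 : Nat.find hex ≤ Nat.card H := Nat.find_min' hex ⟨H, hPH, rfl⟩
    rw [← hcardQ₁] at h1
    exact Subgroup.eq_of_le_of_card_ge hHQ₁ h1
  -- generation by commutators with y
  obtain ⟨Q₂, hQ₂⟩ : ∃ Q₂, Q₂ = Subgroup.closure {u | ∃ h ∈ Q₁, u = y * h * y⁻¹ * h⁻¹} :=
    ⟨_, rfl⟩
  have hQ₂le : Q₂ ≤ Q₁ := by
    rw [hQ₂, Subgroup.closure_le]
    rintro _ ⟨h, hh, rfl⟩
    exact Q₁.mul_mem (hyQ₁ h hh) (Q₁.inv_mem hh)
  have hxQ₂ : ∀ g ∈ Q₂, x * g * x⁻¹ ∈ Q₂ := by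
    have : Q₂ ≤ Q₂.comap (MulAut.conj x).toMonoidHom := by
      conv_lhs => rw [hQ₂]
      rw [Subgroup.closure_le]
      rintro _ ⟨h, hh, rfl⟩
      rw [SetLike.mem_coe, Subgroup.mem_comap]
      change x * (y * h * y⁻¹ * h⁻¹) * x⁻¹ ∈ Q₂
      rw [hQ₂]
      apply Subgroup.subset_closure
      refine ⟨x * h * x⁻¹, hxQ₁ h hh, ?_⟩
      have e1 : x * (y * h * y⁻¹ * h⁻¹) * x⁻¹ = (x * y) * h * (x * y)⁻¹ * (x * h⁻¹ * x⁻¹) := by
        group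
      rw [e1, hxy]
      group
    intro g hg
    exact this hg
  have hQ₂eq : Q₂ = Q₁ := by
    by_contra hne
    apply hg₀x
    apply fixed_of_comm_fixed hq hr hqr Q₁ hQ₁p y hy hyQ₁ g₀ hg₀
    apply hP Q₂ hQ₂le hxQ₂ hne
    rw [hQ₂]
    apply Subgroup.subset_closure
    exact ⟨g₀, hg₀, rfl⟩
  -- the derived subgroup is fixed
  have hg₀1 : g₀ ≠ 1 := by
    intro h
    apply hg₀x
    rw [h]; group
  have hder_ne : ⁅Q₁, Q₁⁆ ≠ Q₁ := by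
    intro h
    haveI : Nontrivial ↥Q₁ := ⟨⟨⟨g₀, hg₀⟩, 1, fun h => hg₀1 (congrArg Subtype.val h)⟩⟩
    haveI : Group.IsNilpotent ↥Q₁ := hQ₁p.isNilpotent
    have h1 := Group.IsSolvable.commutator_lt_top_of_nontrivial ↥Q₁
    apply h1.ne
    apply Subgroup.map_injective Q₁.subtype_injective
    rw [Subgroup.map_subtype_commutator, h, ← MonoidHom.range_eq_map, Q₁.range_subtype]
  have hder_x : ∀ g ∈ ⁅Q₁, Q₁⁆, x * g * x⁻¹ ∈ ⁅Q₁, Q₁⁆ := by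
    have : ⁅Q₁, Q₁⁆ ≤ (⁅Q₁, Q₁⁆).comap (MulAut.conj x).toMonoidHom := by
      rw [Subgroup.commutator_le]
      intro a ha b hb
      rw [Subgroup.mem_comap]
      change x * ⁅a, b⁆ * x⁻¹ ∈ ⁅Q₁, Q₁⁆
      have : x * ⁅a, b⁆ * x⁻¹ = ⁅x * a * x⁻¹, x * b * x⁻¹⁆ := by
        rw [commutatorElement_def, commutatorElement_def]; group
      rw [this]
      exact Subgroup.commutator_mem_commutator (hxQ₁ a ha) (hxQ₁ b hb)
    intro g hg
    exact this hg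
  have hc1 : ∀ g ∈ Q₁, ∀ h ∈ Q₁, y * (g * h * g⁻¹ * h⁻¹) * y⁻¹ = g * h * g⁻¹ * h⁻¹ := by
    intro g hg h hh
    apply hP _ (Subgroup.commutator_le_self Q₁) hder_x hder_ne
    rw [← commutatorElement_def]
    exact Subgroup.commutator_mem_commutator hg hh
  have hc2 : ∀ c ∈ Q₁, y * c * y⁻¹ = c → ∀ g ∈ Q₁, c * g = g * c := by
    intro c hc hcx
    have hle : Q₁ ≤ Subgroup.centralizer {c} := by
      conv_lhs => rw [← hQ₂eq, hQ₂]
      rw [Subgroup.closure_le]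
      rintro _ ⟨h, hh, rfl⟩
      rw [SetLike.mem_coe, Subgroup.mem_centralizer_singleton_iff]
      have h1 := hc1 h⁻¹ (Q₁.inv_mem hh) c hc
      rw [inv_inv] at h1
      have h2 : y * (h⁻¹ * c * h * c⁻¹) * y⁻¹ =
          (y * h * y⁻¹)⁻¹ * (y * c * y⁻¹) * (y * h * y⁻¹) * (y * c * y⁻¹)⁻¹ := by group
      rw [h2, hcx] at h1
      have h3 : (y * h * y⁻¹)⁻¹ * c * (y * h * y⁻¹) = h⁻¹ * c * h := by
        have := congrArg (· * c) h1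
        simpa [mul_assoc] using this
      have h4 : y * h * y⁻¹ * h⁻¹ * c = (y * h * y⁻¹) * (h⁻¹ * c * h) * h⁻¹ := by group
      rw [h4, ← h3]
      group
    intro g hg
    have := hle hg
    rw [Subgroup.mem_centralizer_singleton_iff] at this
    exact this.symm
  refine ⟨Q₁, hQ₁Q, hxQ₁, ⟨g₀, hg₀, hg₀x⟩, hP, ?_, hc1, hc2⟩
  rw [← hQ₂, hQ₂eq]

/-- a `p`-element fixing a coset of a `p'`-subgroup it normalizes fixes an element of it. -/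
theorem exists_fixed_in_coset {Γ : Type*} [Group Γ] {p : ℕ} [hp : Fact p.Prime] (y : Γ)
    (hy : y ^ p = 1) (Z : Subgroup Γ) [Finite Z] (hZy : ∀ z ∈ Z, y * z * y⁻¹ ∈ Z)
    (hcop : ¬ p ∣ Nat.card Z) (g : Γ) (hg : y * g * y⁻¹ * g⁻¹ ∈ Z) :
    ∃ z ∈ Z, y * (z * g) * y⁻¹ = z * g := by
  classical
  let α : Type _ := {h : Γ // h * g⁻¹ ∈ Z}
  let e : α ≃ ↥Z :=
    { toFun := fun h => ⟨h.1 * g⁻¹, h.2⟩
      invFun := fun z => ⟨z.1 * g, by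
        have : z.1 * g * g⁻¹ = z.1 := by group
        rw [this]; exact z.2⟩
      left_inv := by
        intro h
        apply Subtype.ext
        change h.1 * g⁻¹ * g = h.1
        group
      right_inv := by
        intro z
        apply Subtype.ext
        change z.1 * g * g⁻¹ = z.1
        group }
  haveI : Finite α := Finite.of_equiv _ e.symm
  haveI : Fintype α := Fintype.ofFinite α
  have hcard : Fintype.card α = Nat.card Z := by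
    rw [← Nat.card_eq_fintype_card]
    exact Nat.card_congr e
  let f : Function.End α := fun h => ⟨y * h.1 * y⁻¹, by
    have e1 : y * h.1 * y⁻¹ * g⁻¹ = (y * (h.1 * g⁻¹) * y⁻¹) * (y * g * y⁻¹ * g⁻¹) := by group
    rw [e1]
    exact Z.mul_mem (hZy _ h.2) hg⟩
  have hfpow : ∀ k : ℕ, ∀ h : α, ((f ^ k) h).1 = y ^ k * h.1 * (y ^ k)⁻¹ := by
    intro k
    induction k with
    | zero =>
      intro h
      rw [pow_zero, pow_zero, inv_one, mul_one, one_mul]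
      rfl
    | succ k ih =>
      intro h
      rw [pow_succ']
      change y * ((f ^ k) h).1 * y⁻¹ = _
      rw [ih, pow_succ']
      group
  have hf : f ^ p ^ 1 = 1 := by
    rw [pow_one]
    have h1 : ∀ h : α, (f ^ p) h = (1 : Function.End α) h := by
      intro h
      apply Subtype.ext
      rw [hfpow, hy, inv_one, mul_one, one_mul]
      rfl
    exact funext h1
  have hmod := Equiv.Perm.card_fixedPoints_modEq (f := f) (p := p) (n := 1) hf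
  have hne : Fintype.card (Function.fixedPoints f) ≠ 0 := by
    intro h0
    rw [h0, hcard] at hmod
    exact hcop ((Nat.modEq_zero_iff_dvd).1 hmod)
  obtain ⟨⟨h, hh⟩⟩ := Fintype.card_pos_iff.1 (Nat.pos_of_ne_zero hne)
  refine ⟨h.1 * g⁻¹, h.2, ?_⟩
  have h1 : f h = h := hh
  have h2 := congrArg Subtype.val h1
  change y * h.1 * y⁻¹ = h.1 at h2
  have e2 : h.1 * g⁻¹ * g = h.1 := by group
  rw [e2, h2]

end Cfsg.Agent.Helper3.Shult
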