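import Mathlib
import Cfsg.Agent.Helper3.ShHHmin
import Cfsg.Agent.Helper3.ShCriticalC
import Cfsg.Agent.Helper3.HHLinA

set_option autoImplicit false

namespace Cfsg.Agent.Helper3.Shult

open Module Cfsg.Agent.Helper3.FrobActC Cfsg.Agent.Helper3.HH

set_option maxHeartbeats 2000000 in
/-- Hall–Higman, the irreducible case: `x` of order dividing `p ^ (a + 1)` normalizes the
`q`-group `Q₁`, `y = x ^ (p ^ a)` acting nontrivially, `Q₁` acting irreducibly. -/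
theorem hh_abs {K : Type*} [Field K] [IsAlgClosed K] (p : ℕ) [hp : Fact p.Prime] [CharP K p]
    {W : Type*} [AddCommGroup W] [Module K W] [FiniteDimensional K W] [Nontrivial W]
    {Γ : Type*} [Group Γ] (ρ : Representation K Γ W) (Q₁ : Subgroup Γ) [Finite Q₁]
    (q : ℕ) (hq : q.Prime) (hqp : q ≠ p) (hQ₁ : IsPGroup q Q₁)
    (x y : Γ) (a : ℕ) (hx : x ^ (p ^ (a + 1)) = 1) (hy : y = x ^ (p ^ a))
    (hxQ : ∀ g ∈ Q₁, x * g * x⁻¹ ∈ Q₁)
    (hirr : ∀ U : Submodule K W, FInv ρ Q₁ U → U = ⊥ ∨ U = ⊤)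
    (c1 : ∀ g ∈ Q₁, ∀ h ∈ Q₁, y * (g * h * g⁻¹ * h⁻¹) * y⁻¹ = g * h * g⁻¹ * h⁻¹)
    (c2 : ∀ c ∈ Q₁, y * c * y⁻¹ = c → ∀ g ∈ Q₁, c * g = g * c)
    (hynt : ρ y ≠ 1)
    (s : ℕ) (hs : (ρ x - 1) ^ s = 0) (hsmin : ∀ t < s, (ρ x - 1) ^ t ≠ 0) :
    p ^ (a + 1) ≤ s ∨ (s + 1 = p ^ (a + 1) ∧ finrank K W = s ∧ ∃ m, 1 ≤ m ∧ s = q ^ m ∧
      ∃ g ∈ Q₁, ∃ h ∈ Q₁, g * h ≠ h * g) := by
  classical
  haveI : Fact q.Prime := ⟨hq⟩
  obtain ⟨N, hN⟩ : ∃ N, N = p ^ (a + 1) := ⟨_, rfl⟩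
  have hN0 : 0 < N := by rw [hN]; exact pow_pos hp.out.pos _
  have hyp : y ^ p = 1 := by rw [hy, ← pow_mul, ← pow_succ, hx]
  have hyQ : ∀ g ∈ Q₁, y * g * y⁻¹ ∈ Q₁ := by rw [hy]; exact conj_pow_mem Q₁ x hxQ _
  -- restricted rep
  obtain ⟨ρ', hρ'⟩ : ∃ ρ' : Representation K ↥Q₁ W, ∀ g : ↥Q₁, ρ' g = ρ (g : Γ) :=
    ⟨ρ.comp Q₁.subtype, fun g => rfl⟩
  have hirr' : ∀ U : Submodule K W, (∀ g : ↥Q₁, Submodule.map (ρ' g) U ≤ U) → U = ⊥ ∨ U = ⊤ := by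
    intro U hU
    apply hirr U
    intro g hg
    have := hU ⟨g, hg⟩
    rw [hρ'] at this
    exact this
  have hirr'' : ∀ U : Submodule K W, (∀ g ∈ (⊤ : Subgroup ↥Q₁), Submodule.map (ρ' g) U ≤ U) →
      U = ⊥ ∨ U = ⊤ := fun U hU => hirr' U (fun g => hU g (Subgroup.mem_top g))
  have hschur : ∀ c ∈ Q₁, (∀ g ∈ Q₁, c * g = g * c) →
      ∃ l : K, ρ c = l • (1 : Module.End K W) := by
    intro c hc hcc
    apply schur ρ' ⊤ hirr''
    intro g _
    rw [hρ', ← map_mul, ← map_mul]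
    congr 1
    exact (hcc g g.2).symm
  have hcentral : ∀ c ∈ Q₁, y * c * y⁻¹ = c → ∃ l : K, ρ c = l • (1 : Module.End K W) :=
    fun c hc hyc => hschur c hc (c2 c hc hyc)
  -- scalar subgroup
  obtain ⟨Z₁, hZ₁⟩ := exists_scalar_subgroup ρ Q₁ ⊤ top_ne_bot (by intro g _; exact le_top)
  have hZ₁' : ∀ g, g ∈ Z₁ ↔ g ∈ Q₁ ∧ ∃ l : K, ρ g = l • (1 : Module.End K W) := by
    intro g
    rw [hZ₁]
    constructor
    · rintro ⟨hg, l, hl⟩
      refine ⟨hg, l, ?_⟩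
      ext w
      rw [hl w Submodule.mem_top, LinearMap.smul_apply, Module.End.one_apply]
    · rintro ⟨hg, l, hl⟩
      refine ⟨hg, l, ?_⟩
      intro w _
      rw [hl, LinearMap.smul_apply, Module.End.one_apply]
  have hZ₁Q : Z₁ ≤ Q₁ := fun g hg => ((hZ₁' g).1 hg).1
  haveI : Finite ↥Z₁ := Finite.of_injective (Subgroup.inclusion hZ₁Q)
    (Subgroup.inclusion_injective hZ₁Q)
  have hZ₁conj : ∀ t : Γ, (∀ g ∈ Q₁, t * g * t⁻¹ ∈ Q₁) → ∀ g ∈ Z₁, t * g * t⁻¹ ∈ Z₁ := by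
    intro t ht g hg
    rw [hZ₁'] at hg ⊢
    obtain ⟨hgQ, l, hl⟩ := hg
    refine ⟨ht g hgQ, l, ?_⟩
    rw [map_mul, map_mul, hl, mul_smul_comm, mul_one, smul_mul_assoc, rep_mul_inv]
  have hZ₁x : ∀ k : ℕ, ∀ g ∈ Z₁, x ^ k * g * (x ^ k)⁻¹ ∈ Z₁ :=
    fun k => hZ₁conj _ (conj_pow_mem Q₁ x hxQ k)
  have hZ₁y : ∀ g ∈ Z₁, y * g * y⁻¹ ∈ Z₁ := by rw [hy]; exact hZ₁x _
  have hZ₁cop : ¬ p ∣ Nat.card Z₁ := by
    intro hdvd
    obtain ⟨j, hj⟩ := (hQ₁.to_le hZ₁Q).exists_card_eq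
    rw [hj] at hdvd
    have := (Nat.prime_dvd_prime_iff_eq hp.out hq).1 (hp.out.dvd_of_dvd_pow hdvd)
    exact hqp this.symm
  -- key freeness
  have hfree0 : ∀ k : ℕ, 0 < k → k < N → ∀ g ∈ Q₁,
      x ^ k * g * (x ^ k)⁻¹ * g⁻¹ ∈ Z₁ → g ∈ Z₁ := by
    intro k hk0 hkN g hg hcomm
    obtain ⟨z, hz⟩ : ∃ z, z = x ^ k := ⟨_, rfl⟩
    rw [← hz] at hcomm
    have hzZ : ∀ h ∈ Z₁, z * h * z⁻¹ ∈ Z₁ := by rw [hz]; exact hZ₁x k
    have hzpow : ∀ e : ℕ, z ^ e * g * (z ^ e)⁻¹ * g⁻¹ ∈ Z₁ := by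
      intro e
      induction e with
      | zero =>
        have : z ^ 0 * g * (z ^ 0)⁻¹ * g⁻¹ = 1 := by group
        rw [this]; exact Z₁.one_mem
      | succ e ih =>
        have e1 : z ^ (e + 1) * g * (z ^ (e + 1))⁻¹ * g⁻¹ =
            (z * (z ^ e * g * (z ^ e)⁻¹ * g⁻¹) * z⁻¹) * (z * g * z⁻¹ * g⁻¹) := by
          rw [pow_succ']; group
        rw [e1]
        exact Z₁.mul_mem (hzZ _ ih) hcomm
    obtain ⟨e, he⟩ : ∃ e : ℕ, z ^ e = y := by
      obtain ⟨j, d, hd, hkeq⟩ :=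
        Nat.exists_eq_pow_mul_and_not_dvd (n := k) (by omega) p hp.out.ne_one
      have hd0 : 0 < d := by
        rcases Nat.eq_zero_or_pos d with h | h
        · exfalso; apply hd; rw [h]; exact dvd_zero p
        · exact h
      have hja : j ≤ a := by
        have h1 : p ^ j ≤ k := by rw [hkeq]; exact Nat.le_mul_of_pos_right _ hd0
        have h2 : p ^ j < p ^ (a + 1) := by rw [← hN]; omega
        have := (Nat.pow_lt_pow_iff_right hp.out.one_lt).1 h2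
        omega
      have hcop : Nat.Coprime d p := ((Nat.Prime.coprime_iff_not_dvd hp.out).2 hd).symm
      obtain ⟨d', -, hd'⟩ := Nat.exists_mul_mod_eq_one_of_coprime hcop hp.out.one_lt
      refine ⟨p ^ (a - j) * d', ?_⟩
      rw [hz, ← pow_mul, hkeq]
      have e2 : p ^ j * d * (p ^ (a - j) * d') = p ^ a * (d * d') := by
        have : p ^ a = p ^ j * p ^ (a - j) := by
          rw [← pow_add]; congr 1; omega
        rw [this]; ring
      rw [e2, pow_mul, ← hy]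
      have h3 := Nat.div_add_mod (d * d') p
      rw [hd'] at h3
      rw [← h3, pow_add, pow_mul, hyp, one_pow, one_mul, pow_one]
    have hyg : y * g * y⁻¹ * g⁻¹ ∈ Z₁ := by rw [← he]; exact hzpow e
    obtain ⟨z₁, hz₁, hfix⟩ := exists_fixed_in_coset y hyp Z₁ hZ₁y hZ₁cop g hyg
    have hz₁g : z₁ * g ∈ Q₁ := Q₁.mul_mem (hZ₁Q hz₁) hg
    have hsc : z₁ * g ∈ Z₁ := (hZ₁' _).2 ⟨hz₁g, hcentral _ hz₁g hfix⟩
    have : g = z₁⁻¹ * (z₁ * g) := by group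
    rw [this]
    exact Z₁.mul_mem (Z₁.inv_mem hz₁) hsc
  -- the critical lemma
  have hxQ' : ∀ g : ↥Q₁, x * (g : Γ) * x⁻¹ ∈ Q₁ := fun g => hxQ g g.2
  obtain ⟨φ, hφ⟩ : ∃ φ : ↥Q₁ → ↥Q₁, ∀ g : ↥Q₁, ((φ g : ↥Q₁) : Γ) = x * (g : Γ) * x⁻¹ :=
    ⟨fun g => ⟨x * (g : Γ) * x⁻¹, hxQ' g⟩, fun g => rfl⟩
  have hφiter : ∀ k : ℕ, ∀ g : ↥Q₁, ((φ^[k] g : ↥Q₁) : Γ) = x ^ k * (g : Γ) * (x ^ k)⁻¹ := by
    intro k
    induction k with
    | zero => intro g; simp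
    | succ k ih =>
      intro g
      rw [Function.iterate_succ_apply', hφ, ih, pow_succ']
      group
  obtain ⟨Z₀, hZ₀def⟩ : ∃ Z₀ : Subgroup ↥Q₁, Z₀ = Z₁.subgroupOf Q₁ := ⟨_, rfl⟩
  have hZ₀ : ∀ g : ↥Q₁, g ∈ Z₀ ↔ ∃ l : K, ρ' g = l • (1 : Module.End K W) := by
    intro g
    rw [hZ₀def, Subgroup.mem_subgroupOf, hZ₁', hρ']
    exact ⟨fun h => h.2, fun h => ⟨g.2, h⟩⟩
  have hQK : ((Nat.card Q₁ : ℕ) : K) ≠ 0 := by
    obtain ⟨j, hj⟩ := hQ₁.exists_card_eq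
    rw [hj, Nat.cast_pow]
    apply pow_ne_zero
    intro h0
    have := (CharP.cast_eq_zero_iff K p q).1 h0
    exact hqp ((Nat.prime_dvd_prime_iff_eq hp.out hq).1 this).symm
  have hsc := shult_critical_free ρ' hirr' hQK (ρ x) (ρ x⁻¹) (rep_mul_inv ρ x) (rep_inv_mul ρ x)
    N hN0 (by rw [← map_pow, hN, hx, map_one]) φ
    (by intro g; rw [hρ', hρ', hφ, map_mul, map_mul])
    (by
      intro g h
      rw [hρ']
      have e : (((g * h * g⁻¹ * h⁻¹ : ↥Q₁)) : Γ) = (g : Γ) * h * (g : Γ)⁻¹ * (h : Γ)⁻¹ := by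
        simp
      rw [e]
      apply hcentral
      · exact Q₁.mul_mem (Q₁.mul_mem (Q₁.mul_mem g.2 h.2) (Q₁.inv_mem g.2)) (Q₁.inv_mem h.2)
      · exact c1 g g.2 h h.2)
    (by
      intro k hk0 hkN g hg
      rw [← hZ₀] at hg ⊢
      rw [hZ₀def, Subgroup.mem_subgroupOf] at hg ⊢
      apply hfree0 k hk0 hkN _ g.2
      have e : ((φ^[k] g * g⁻¹ : ↥Q₁) : Γ) = x ^ k * (g : Γ) * (x ^ k)⁻¹ * (g : Γ)⁻¹ := by
        rw [Subgroup.coe_mul, hφiter, Subgroup.coe_inv]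
      rw [← e]; exact hg)
    Z₀ hZ₀
  obtain ⟨hB1, hDD⟩ := hsc
  have hB2 := commutant_bound (ρ x - 1) s hs
  have hle : finrank K (homT (ρ x - 1) (ρ x - 1)) ≤ finrank K (cent (ρ x)) := by
    apply Submodule.finrank_mono
    intro B hB
    rw [mem_homT] at hB
    rw [mem_cent]
    ext w
    have := hB w
    rw [LinearMap.sub_apply, LinearMap.sub_apply, Module.End.one_apply, Module.End.one_apply,
      map_sub] at this
    rw [Module.End.mul_apply, Module.End.mul_apply]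
    exact (sub_left_inj.1 this).symm
  have hsD : s ≤ finrank K W := by
    by_contra hlt
    push Not at hlt
    apply hsmin _ hlt
    have h1 := Module.End.ker_pow_le_ker_pow_finrank (ρ x - 1) s
    rw [hs, LinearMap.ker_zero, top_le_iff] at h1
    exact LinearMap.ker_eq_top.1 h1
  have hs1 : 1 ≤ s := by
    rcases Nat.eq_zero_or_pos s with h0 | h
    · exfalso
      rw [h0, pow_zero] at hs
      exact one_ne_zero hs
    · exact h
  have hs_ne_one : s ≠ 1 := by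
    intro h
    rw [h, pow_one, sub_eq_zero] at hs
    have hy1 : ρ y = 1 := by rw [hy, map_pow, hs, one_pow]
    exact hynt hy1
  -- arithmetic
  obtain ⟨D, hD⟩ : ∃ D, D = finrank K W := ⟨_, rfl⟩
  obtain ⟨f, hf⟩ : ∃ f, f = finrank K ↥(homT (ρ x - 1) (ρ x - 1)) := ⟨_, rfl⟩
  rw [← hD] at hB1 hDD hsD hB2
  rw [← hf] at hB2 hle
  have hB1' : N * f + 1 ≤ N + D * D := by
    have := Nat.mul_le_mul_left N hle
    omega
  have key : s + 1 ≤ N → s + 1 = N ∧ D = s := by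
    intro hlt
    obtain ⟨t, ht⟩ := Nat.exists_eq_add_of_le hlt
    have h1 : N * (D * D) ≤ s * (N * f) := by
      calc N * (D * D) ≤ N * (s * f) := Nat.mul_le_mul_left _ hB2
        _ = s * (N * f) := by ring
    have h2 : s * (N * f) + s ≤ s * N + s * (D * D) := by
      have := Nat.mul_le_mul_left s hB1'
      calc s * (N * f) + s = s * (N * f + 1) := by ring
        _ ≤ s * (N + D * D) := this
        _ = s * N + s * (D * D) := by ring
    have h3 : N * (D * D) + s ≤ s * N + s * (D * D) := by omega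
    rw [ht] at h3
    have h4 : (1 + t) * (D * D) ≤ s * (s + t) := by nlinarith
    have h5 : s * s ≤ D * D := Nat.mul_le_mul hsD hsD
    have h6 : t * (s * s) ≤ s * t := by nlinarith
    rcases Nat.eq_zero_or_pos t with ht0 | htpos
    · rw [ht0] at h4 ht
      refine ⟨by omega, ?_⟩
      have h7 : D * D ≤ s * s := by nlinarith
      have h8 : D ≤ s := by
        by_contra hc
        push Not at hc
        have := Nat.mul_lt_mul_of_lt_of_le hc hc.le (by omega)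
        omega
      omega
    · exfalso
      have h7 : s * s ≤ s := by
        have : t * (s * s) ≤ t * s := by rw [mul_comm t s]; exact h6
        exact Nat.le_of_mul_le_mul_left this htpos
      have h8 : s ≤ 1 := by
        by_contra hc
        push Not at hc
        have : s * 2 ≤ s * s := Nat.mul_le_mul_left s hc
        omega
      exact hs_ne_one (by omega)
  by_cases hNs : N ≤ s
  · left; rw [← hN]; exact hNs
  · right
    push Not at hNs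
    obtain ⟨h1, h2⟩ := key (by omega)
    rw [← hN]
    refine ⟨h1, by rw [← hD]; exact h2, ?_⟩
    have hidx : Z₀.index ∣ Nat.card ↥Q₁ := Subgroup.index_dvd_card Z₀
    obtain ⟨j, hj⟩ := hQ₁.exists_card_eq
    have hDdvd : D ∣ q ^ j := by
      rw [← hj]
      refine Dvd.dvd.trans (Dvd.intro D rfl) ?_
      rw [hDD]
      exact hidx
    obtain ⟨m, -, hm⟩ := (Nat.dvd_prime_pow hq).1 hDdvd
    have hm1 : 1 ≤ m := by
      rcases Nat.eq_zero_or_pos m with h0 | h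
      · exfalso
        rw [h0, pow_zero] at hm
        apply hs_ne_one
        omega
      · exact h
    refine ⟨m, hm1, by rw [← h2]; exact hm, ?_⟩
    by_contra hab
    push Not at hab
    have hZ₀top : Z₀ = ⊤ := by
      rw [eq_top_iff]
      intro g _
      rw [hZ₀, hρ']
      exact hschur g g.2 (fun h hh => hab g g.2 h hh)
    rw [hZ₀top, Subgroup.index_top] at hDD
    have hD1 : D = 1 := Nat.eq_one_of_mul_eq_one_left hDD
    apply hs_ne_one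
    omega

end Cfsg.Agent.Helper3.Shult
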