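import Mathlib
import Cfsg.Agent.Helper3.ShHHabs

set_option autoImplicit false

namespace Cfsg.Agent.Helper3.Shult

open Module Cfsg.Agent.Helper3.FrobActC Cfsg.Agent.Helper3.HH

set_option maxHeartbeats 2000000 in
/-- Hall–Higman, the irreducible case, relative to a minimal invariant subspace. -/
theorem hh_rel {K : Type*} [Field K] [IsAlgClosed K] (p : ℕ) [hp : Fact p.Prime] [CharP K p]
    {V : Type*} [AddCommGroup V] [Module K V] [FiniteDimensional K V]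
    {Γ : Type*} [Group Γ] (ρ : Representation K Γ V) (Q₁ : Subgroup Γ) [Finite Q₁]
    (q : ℕ) (hq : q.Prime) (hqp : q ≠ p) (hQ₁ : IsPGroup q Q₁)
    (x y : Γ) (a : ℕ) (hx : x ^ (p ^ (a + 1)) = 1) (hy : y = x ^ (p ^ a))
    (hxQ : ∀ g ∈ Q₁, x * g * x⁻¹ ∈ Q₁)
    (U : Submodule K V) (hU : IsMinInv ρ Q₁ U) (hUx : U.map (ρ x) ≤ U)
    (c1 : ∀ g ∈ Q₁, ∀ h ∈ Q₁, y * (g * h * g⁻¹ * h⁻¹) * y⁻¹ = g * h * g⁻¹ * h⁻¹)
    (c2 : ∀ c ∈ Q₁, y * c * y⁻¹ = c → ∀ g ∈ Q₁, c * g = g * c)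
    (hynt : ∃ u ∈ U, ρ y u ≠ u)
    (s : ℕ) (hs : ∀ u ∈ U, ((ρ x - 1) ^ s) u = 0)
    (hsmin : ∀ t < s, ∃ u ∈ U, ((ρ x - 1) ^ t) u ≠ 0) :
    p ^ (a + 1) ≤ s ∨ (s + 1 = p ^ (a + 1) ∧ ∃ m, 1 ≤ m ∧ s = q ^ m ∧
      ∃ g ∈ Q₁, ∃ h ∈ Q₁, g * h ≠ h * g) := by
  classical
  haveI : Nontrivial ↥U := Submodule.nontrivial_iff_ne_bot.2 hU.1
  have hN0 : 0 < p ^ (a + 1) := pow_pos hp.out.pos _
  obtain ⟨Γ₁, hΓ₁⟩ : ∃ Γ₁ : Subgroup Γ, Γ₁ = stab ρ U := ⟨_, rfl⟩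
  have hΓ₁mem : ∀ g : Γ, g ∈ Γ₁ ↔ U.map (ρ g) ≤ U ∧ U.map (ρ g⁻¹) ≤ U := by
    intro g
    rw [hΓ₁]
    exact mem_stab ρ U g
  have hQΓ : Q₁ ≤ Γ₁ := by
    intro g hg
    rw [hΓ₁mem]
    exact ⟨hU.2.1 g hg, hU.2.1 g⁻¹ (Q₁.inv_mem hg)⟩
  have hxΓ : x ∈ Γ₁ := by
    rw [hΓ₁mem]
    exact ⟨hUx, map_inv_le_of_pow ρ x _ hN0 hx U hUx⟩
  have hΓinv : ∀ g : ↥Γ₁, ∀ w ∈ U, (ρ.comp Γ₁.subtype) g w ∈ U := by
    intro g w hw
    have := (hΓ₁mem (g : Γ)).1 g.2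
    exact this.1 (Submodule.mem_map_of_mem hw)
  obtain ⟨ρ₁, hρ₁⟩ : ∃ ρ₁ : Representation K ↥Γ₁ ↥U,
      ∀ (g : ↥Γ₁) (w : ↥U), ((ρ₁ g w : ↥U) : V) = ρ (g : Γ) (w : V) :=
    ⟨subRep (ρ.comp Γ₁.subtype) U hΓinv, fun g w => rfl⟩
  obtain ⟨x₁, hx₁⟩ : ∃ x₁ : ↥Γ₁, (x₁ : Γ) = x := ⟨⟨x, hxΓ⟩, rfl⟩
  obtain ⟨y₁, hy₁⟩ : ∃ y₁ : ↥Γ₁, y₁ = x₁ ^ (p ^ a) := ⟨_, rfl⟩
  have hy₁coe : (y₁ : Γ) = y := by
    rw [hy₁, Subgroup.coe_pow, hx₁, hy]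
  obtain ⟨N₁, hN₁⟩ : ∃ N₁ : Subgroup ↥Γ₁, N₁ = Q₁.subgroupOf Γ₁ := ⟨_, rfl⟩
  have hN₁mem : ∀ g : ↥Γ₁, g ∈ N₁ ↔ (g : Γ) ∈ Q₁ := by
    intro g
    rw [hN₁, Subgroup.mem_subgroupOf]
  have hN₁equiv : N₁ ≃* Q₁ := by
    rw [hN₁]
    exact Subgroup.subgroupOfEquivOfLe hQΓ
  haveI : Finite ↥N₁ := Finite.of_equiv _ hN₁equiv.symm.toEquiv
  have hN₁p : IsPGroup q N₁ := hQ₁.of_equiv hN₁equiv.symm
  have hcoe_conjx : ∀ g : ↥Γ₁, ((x₁ * g * x₁⁻¹ : ↥Γ₁) : Γ) = x * (g : Γ) * x⁻¹ := by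
    intro g
    rw [Subgroup.coe_mul, Subgroup.coe_mul, Subgroup.coe_inv, hx₁]
  have hcoe_conjy : ∀ g : ↥Γ₁, ((y₁ * g * y₁⁻¹ : ↥Γ₁) : Γ) = y * (g : Γ) * y⁻¹ := by
    intro g
    rw [Subgroup.coe_mul, Subgroup.coe_mul, Subgroup.coe_inv, hy₁coe]
  have hTpow : ∀ t : ℕ, ∀ u : ↥U, ((((ρ₁ x₁ - 1) ^ t) u : ↥U) : V) = ((ρ x - 1) ^ t) (u : V) := by
    intro t
    induction t with
    | zero => intro u; simp
    | succ t ih =>
      intro u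
      rw [pow_succ, pow_succ, Module.End.mul_apply, Module.End.mul_apply, ih]
      congr 1
      rw [LinearMap.sub_apply, LinearMap.sub_apply, Module.End.one_apply, Module.End.one_apply,
        Submodule.coe_sub, hρ₁, hx₁]
  have habs := hh_abs p ρ₁ N₁ q hq hqp hN₁p x₁ y₁ a
    (by
      apply Subtype.ext
      rw [Subgroup.coe_pow, hx₁, hx, Subgroup.coe_one])
    hy₁
    (by
      intro n hn
      rw [hN₁mem] at hn ⊢
      rw [hcoe_conjx]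
      exact hxQ _ hn)
    (by
      intro U' hU'
      have hU'Q : FInv ρ Q₁ (U'.map U.subtype) := by
        apply finv_of_mem
        rintro g hg _ ⟨u, hu, rfl⟩
        have hgΓ : g ∈ Γ₁ := hQΓ hg
        have h1 := hU'.mem (f := ⟨g, hgΓ⟩) ((hN₁mem _).2 hg) hu
        refine ⟨_, h1, ?_⟩
        rw [Submodule.subtype_apply, hρ₁]
        rfl
      have hle : U'.map U.subtype ≤ U := by
        rintro _ ⟨u, _, rfl⟩
        exact u.2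
      rcases hU.2.2 _ hU'Q hle with h | h
      · left
        rw [eq_bot_iff]
        intro u hu
        have h1 : (u : V) ∈ U'.map U.subtype := ⟨u, hu, rfl⟩
        rw [h, Submodule.mem_bot] at h1
        rw [Submodule.mem_bot]
        exact Subtype.ext h1
      · right
        rw [eq_top_iff]
        intro w _
        have h1 : (w : V) ∈ U'.map U.subtype := by rw [h]; exact w.2
        obtain ⟨u, hu, hue⟩ := h1
        have : u = w := Subtype.ext hue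
        rw [← this]; exact hu)
    (by
      intro g hg h hh
      rw [hN₁mem] at hg hh
      apply Subtype.ext
      rw [hcoe_conjy]
      simp only [Subgroup.coe_mul, Subgroup.coe_inv]
      exact c1 _ hg _ hh)
    (by
      intro c hc hcy g hg
      rw [hN₁mem] at hc hg
      apply Subtype.ext
      rw [Subgroup.coe_mul, Subgroup.coe_mul]
      apply c2 _ hc _ _ hg
      rw [← hcoe_conjy, hcy])
    (by
      intro h1
      obtain ⟨u, hu, hune⟩ := hynt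
      apply hune
      have h2 := LinearMap.congr_fun h1 ⟨u, hu⟩
      have h3 := congrArg Subtype.val h2
      rw [hρ₁, hy₁coe] at h3
      exact h3)
    s
    (by
      ext u
      rw [hTpow]
      exact hs u u.2)
    (by
      intro t ht h0
      obtain ⟨u, hu, hune⟩ := hsmin t ht
      apply hune
      have h2 := LinearMap.congr_fun h0 ⟨u, hu⟩
      have h3 := congrArg Subtype.val h2
      rw [hTpow] at h3
      exact h3)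
  rcases habs with h | ⟨h1, -, m, hm1, hm, g, hg, h, hh, hgh⟩
  · exact Or.inl h
  · right
    refine ⟨h1, m, hm1, hm, (g : Γ), (hN₁mem g).1 hg, (h : Γ), (hN₁mem h).1 hh, ?_⟩
    intro hc
    apply hgh
    apply Subtype.ext
    rw [Subgroup.coe_mul, Subgroup.coe_mul]
    exact hc

end Cfsg.Agent.Helper3.Shult
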