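import Mathlib
import Cfsg.Agent.Helper3.ShHHrel

set_option autoImplicit false

namespace Cfsg.Agent.Helper3.Shult

open Module Cfsg.Agent.Helper3.FrobActC Cfsg.Agent.Helper3.HH

set_option maxHeartbeats 2000000 in
/-- Hall–Higman Theorem B, the core: a `p`-element `x` with `x ^ (p ^ n) = 1` normalizing a
`q`-group `Q` acting faithfully, with `x ^ (p ^ (n - 1))` not centralizing `Q`. -/
theorem hh_core {K : Type*} [Field K] [IsAlgClosed K] (p : ℕ) [hp : Fact p.Prime] [CharP K p]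
    {V : Type*} [AddCommGroup V] [Module K V] [FiniteDimensional K V]
    {Γ : Type*} [Group Γ] (ρ : Representation K Γ V) (Q : Subgroup Γ) [Finite Q]
    (q : ℕ) (hq : q.Prime) (hqp : q ≠ p) (hQ : IsPGroup q Q)
    (x : Γ) (n : ℕ) (hn : 1 ≤ n) (hx : x ^ (p ^ n) = 1)
    (hxQ : ∀ g ∈ Q, x * g * x⁻¹ ∈ Q)
    (hfaith : ∀ g ∈ Q, ρ g = 1 → g = 1)
    (hnc : ∃ g ∈ Q, x ^ (p ^ (n - 1)) * g * (x ^ (p ^ (n - 1)))⁻¹ ≠ g)
    (s : ℕ) (hs : (ρ x - 1) ^ s = 0) :
    p ^ n ≤ s ∨ ∃ n₀ m : ℕ, 1 ≤ n₀ ∧ n₀ ≤ n ∧ 1 ≤ m ∧ p ^ n₀ - 1 = q ^ m ∧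
      (∃ g ∈ Q, ∃ h ∈ Q, g * h ≠ h * g) ∧ p ^ (n - n₀) * (p ^ n₀ - 1) ≤ s := by
  classical
  haveI : Fact q.Prime := ⟨hq⟩
  obtain ⟨y, hy⟩ : ∃ y, y = x ^ (p ^ (n - 1)) := ⟨_, rfl⟩
  rw [← hy] at hnc
  have hyp : y ^ p = 1 := by rw [hy, ← pow_mul, ← pow_succ, Nat.sub_add_cancel hn, hx]
  obtain ⟨Q₁, hQ₁Q, hxQ₁, hncQ₁, -, hgen, c1, c2⟩ :=
    exists_min_noncentral₂ hq hp.out hqp Q hQ x y (p ^ (n - 1)) hy hyp hxQ hnc
  haveI : Finite ↥Q₁ := Finite.of_injective (Subgroup.inclusion hQ₁Q)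
    (Subgroup.inclusion_injective hQ₁Q)
  have hQ₁p : IsPGroup q Q₁ := hQ.to_le hQ₁Q
  have hQK : ((Nat.card Q₁ : ℕ) : K) ≠ 0 := by
    obtain ⟨j, hj⟩ := hQ₁p.exists_card_eq
    rw [hj, Nat.cast_pow]
    apply pow_ne_zero
    intro h0
    have := (CharP.cast_eq_zero_iff K p q).1 h0
    exact hqp ((Nat.prime_dvd_prime_iff_eq hp.out hq).1 this).symm
  obtain ⟨g₀, hg₀, hg₀y⟩ := hncQ₁
  have hg₀1 : g₀ ≠ 1 := by
    intro h
    apply hg₀y
    rw [h]; group
  obtain ⟨W₂, hW₂0, hW₂Q, hW₂x, -, hfixW⟩ := exists_min_sub ρ Q₁ Q₁ x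
    (fun g hg z hz => Q₁.mul_mem (Q₁.mul_mem hg hz) (Q₁.inv_mem hg)) hxQ₁ hQK
    ⟨g₀, hg₀, fun h => hg₀1 (hfaith g₀ (hQ₁Q hg₀) h)⟩
  obtain ⟨k, hkn, U, hUle, hU, hUx, hind⟩ :=
    clifford_pgroup ρ Q₁ x p hp.out n hx hxQ₁ W₂ hW₂0 hW₂Q hW₂x
  obtain ⟨u₀, hu₀U, hu₀0⟩ := Submodule.exists_mem_ne_zero_of_ne_bot hU.1
  haveI : Nontrivial V := ⟨⟨u₀, 0, hu₀0⟩⟩
  haveI : CharP (Module.End K V) p :=
    charP_of_injective_algebraMap (algebraMap K (Module.End K V)).injective p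
  have hpk0 : 0 < p ^ k := pow_pos hp.out.pos k
  have hTpk : (ρ x - 1) ^ (p ^ k) = ρ (x ^ (p ^ k)) - 1 := by
    rw [sub_pow_char_pow_of_commute p k (Commute.one_right _), one_pow, ← map_pow]
  have hsumU : ∀ v ∈ U, ((ρ x - 1) ^ (p ^ k - 1)) v = 0 → v = 0 := by
    intro v hv h0
    rw [← geom_sum_eq_pow K p k (ρ x), LinearMap.sum_apply] at h0
    have := hind (fun i => (ρ x ^ i) v)
      (fun i => by rw [← map_pow]; exact Submodule.mem_map_of_mem hv) h0 0 hpk0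
    simpa using this
  by_cases hk : k = n
  · left
    by_contra hlt
    push Not at hlt
    apply hu₀0
    apply hsumU u₀ hu₀U
    rw [hk, pow_eq_zero_of_le (by omega) hs, LinearMap.zero_apply]
  · have hkn' : k < n := lt_of_le_of_ne hkn hk
    obtain ⟨a, ha⟩ : ∃ a, n = k + a + 1 := ⟨n - k - 1, by omega⟩
    obtain ⟨x', hx'⟩ : ∃ x', x' = x ^ (p ^ k) := ⟨_, rfl⟩
    rw [← hx'] at hUx hTpk
    have hx'pow : x' ^ (p ^ (a + 1)) = 1 := by
      rw [hx', ← pow_mul, ← pow_add, ← add_assoc, ← ha, hx]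
    have hy' : y = x' ^ (p ^ a) := by
      rw [hy, hx', ← pow_mul, ← pow_add]
      congr 2
      omega
    have hx'Q : ∀ g ∈ Q₁, x' * g * x'⁻¹ ∈ Q₁ := by
      rw [hx']
      exact conj_pow_mem Q₁ x hxQ₁ _
    have hT'inv : ∀ t : ℕ, ∀ u ∈ U, ((ρ x' - 1) ^ t) u ∈ U := by
      intro t
      induction t with
      | zero => intro u hu; simpa using hu
      | succ t ih =>
        intro u hu
        rw [pow_succ, Module.End.mul_apply]
        apply ih
        rw [LinearMap.sub_apply, Module.End.one_apply]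
        exact U.sub_mem (hUx (Submodule.mem_map_of_mem hu)) hu
    have hex : ∃ t : ℕ, ∀ u ∈ U, ((ρ x' - 1) ^ t) u = 0 := by
      refine ⟨p ^ (a + 1), ?_⟩
      intro u _
      rw [sub_pow_char_pow_of_commute p (a + 1) (Commute.one_right _), one_pow, ← map_pow,
        hx'pow, map_one, sub_self, LinearMap.zero_apply]
    obtain ⟨s₀, hs₀def⟩ : ∃ s₀, s₀ = Nat.find hex := ⟨_, rfl⟩
    have hs₀ : ∀ u ∈ U, ((ρ x' - 1) ^ s₀) u = 0 := by
      rw [hs₀def]; exact Nat.find_spec hex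
    have hs₀min : ∀ t < s₀, ∃ u ∈ U, ((ρ x' - 1) ^ t) u ≠ 0 := by
      intro t ht
      rw [hs₀def] at ht
      have := Nat.find_min hex ht
      push Not at this
      exact this
    have hynt : ∃ u ∈ U, ρ y u ≠ u := by
      by_contra hcon
      push Not at hcon
      have hcon' : ∀ u ∈ U, ρ y⁻¹ u = u := by
        intro u hu
        conv_lhs => rw [← hcon u hu]
        exact rho_inv_mul ρ y u
      let Fx : Subgroup Γ :=
        { carrier := {g | ∀ w ∈ U, ρ g w = w}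
          mul_mem' := by
            intro a b ha hb w hw
            rw [map_mul, Module.End.mul_apply, hb w hw, ha w hw]
          one_mem' := by
            intro w _
            rw [map_one, Module.End.one_apply]
          inv_mem' := by
            intro a ha w hw
            have := ha w hw
            conv_lhs => rw [← this]
            exact rho_inv_mul ρ a w }
      have hle : Q₁ ≤ Fx := by
        conv_lhs => rw [hgen]
        rw [Subgroup.closure_le]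
        rintro _ ⟨h, hh, rfl⟩ w hw
        have h1 : ρ h⁻¹ w ∈ U := hU.2.1.mem (Q₁.inv_mem hh) hw
        rw [map_mul, map_mul, map_mul, Module.End.mul_apply, Module.End.mul_apply,
          Module.End.mul_apply, hcon' _ h1, rho_mul_inv, hcon w hw]
      apply hu₀0
      apply hfixW u₀ (hUle hu₀U)
      intro g hg
      exact hle hg u₀ hu₀U
    have hrel := hh_rel p ρ Q₁ q hq hqp hQ₁p x' y a hx'pow hy' hx'Q U hU hUx c1 c2 hynt s₀
      hs₀ hs₀min
    have hs₀1 : 1 ≤ s₀ := by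
      rcases Nat.eq_zero_or_pos s₀ with h0 | h
      · exfalso
        apply hu₀0
        have := hs₀ u₀ hu₀U
        rw [h0, pow_zero, Module.End.one_apply] at this
        exact this
      · exact h
    have hclaim : p ^ k * s₀ ≤ s := by
      by_contra hlt
      push Not at hlt
      obtain ⟨s₁, hs₁⟩ : ∃ s₁, s₀ = s₁ + 1 := ⟨s₀ - 1, by omega⟩
      obtain ⟨u', hu', hne⟩ := hs₀min s₁ (by omega)
      apply hne
      apply hsumU _ (hT'inv s₁ u' hu')
      rw [← hTpk, ← pow_mul, ← Module.End.mul_apply, ← pow_add,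
        pow_eq_zero_of_le _ hs, LinearMap.zero_apply]
      rw [hs₁, mul_add, mul_one] at hlt
      omega
    have hpn : p ^ n = p ^ k * p ^ (a + 1) := by
      rw [← pow_add]; congr 1
    rcases hrel with h | ⟨h1, m, hm1, hm, g, hg, h, hh, hgh⟩
    · left
      rw [hpn]
      exact (Nat.mul_le_mul_left _ h).trans hclaim
    · right
      refine ⟨a + 1, m, by omega, by omega, hm1, ?_, ⟨g, hQ₁Q hg, h, hQ₁Q hh, hgh⟩, ?_⟩
      · rw [← h1, ← hm]; omega
      · have e1 : n - (a + 1) = k := by omega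
        rw [e1, ← h1]
        have : s₀ + 1 - 1 = s₀ := by omega
        rw [this]
        exact hclaim

end Cfsg.Agent.Helper3.Shult
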