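import Mathlib
import Cfsg.Agent.Helper3.ShHHcore

set_option autoImplicit false

namespace Cfsg.Agent.Helper3.Shult

open Module TensorProduct

set_option maxHeartbeats 1000000 in
/-- Hall–Higman Theorem B, the core, over an arbitrary field of characteristic `p`. -/
theorem hh_linear {F : Type*} [Field F] (p : ℕ) [hp : Fact p.Prime] [CharP F p]
    {V : Type*} [AddCommGroup V] [Module F V] [FiniteDimensional F V]
    {Γ : Type*} [Group Γ] (ρ₀ : Γ →* Module.End F V) (Q : Subgroup Γ) [Finite Q]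
    (q : ℕ) (hq : q.Prime) (hqp : q ≠ p) (hQ : IsPGroup q Q)
    (x : Γ) (n : ℕ) (hn : 1 ≤ n) (hx : x ^ (p ^ n) = 1)
    (hxQ : ∀ g ∈ Q, x * g * x⁻¹ ∈ Q)
    (hfaith : ∀ g ∈ Q, ρ₀ g = 1 → g = 1)
    (hnc : ∃ g ∈ Q, x ^ (p ^ (n - 1)) * g * (x ^ (p ^ (n - 1)))⁻¹ ≠ g)
    (s : ℕ) (hs : (ρ₀ x - 1) ^ s = 0) :
    p ^ n ≤ s ∨ ∃ n₀ m : ℕ, 1 ≤ n₀ ∧ n₀ ≤ n ∧ 1 ≤ m ∧ p ^ n₀ - 1 = q ^ m ∧
      (∃ g ∈ Q, ∃ h ∈ Q, g * h ≠ h * g) ∧ p ^ (n - n₀) * (p ^ n₀ - 1) ≤ s := by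
  classical
  obtain ⟨bc, hbc⟩ : ∃ bc : Module.End F V →ₐ[F]
      Module.End (AlgebraicClosure F) (AlgebraicClosure F ⊗[F] V),
      bc = Module.End.baseChangeHom F (AlgebraicClosure F) V := ⟨_, rfl⟩
  have hbcinj : Function.Injective bc := by
    rw [hbc]
    intro a b hab
    exact LinearMap.baseChangeHom_injective (R := F) (S := AlgebraicClosure F) (M := V)
      (N := V) hab
  obtain ⟨ρ, hρ⟩ : ∃ ρ : Representation (AlgebraicClosure F) Γ (AlgebraicClosure F ⊗[F] V),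
      ∀ g, ρ g = bc (ρ₀ g) := ⟨(bc : Module.End F V →* _).comp ρ₀, fun g => rfl⟩
  exact hh_core p ρ Q q hq hqp hQ x n hn hx hxQ
    (by
      intro g hg h1
      apply hfaith g hg
      apply hbcinj
      rw [← hρ, h1, map_one])
    hnc s
    (by
      have h := congrArg bc hs
      rw [map_pow, map_sub, map_one, map_zero] at h
      rw [hρ]
      exact h)

end Cfsg.Agent.Helper3.Shult
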