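import Mathlib
import Cfsg.Agent.Helper3.HHAbA

set_option autoImplicit false

namespace Cfsg.Agent.Helper3.HHAb

universe u v

open Cfsg.Agent.Helper3.PLen
open scoped commutatorElement

variable {G : Type u} [Group G]

/-- Sylow `q`-subgroups are abelian for all primes `q ≠ p` -/
def AbOther (p : ℕ) (G : Type u) [Group G] : Prop :=
  ∀ (q : ℕ) [Fact q.Prime], q ≠ p → ∀ Q : Sylow q G, IsMulCommutative (Q : Subgroup G)

/-- Sylow `p`-subgroups have exponent dividing `p ^ n` -/
def ExpLE (p n : ℕ) (G : Type u) [Group G] : Prop :=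
  ∀ P : Sylow p G, ∀ x ∈ (P : Subgroup G), x ^ p ^ n = 1

theorem abOther_of_surjective [Finite G] {H : Type u} [Group H] {p : ℕ}
    (f : G →* H) (hf : Function.Surjective f) (h : AbOther p G) : AbOther p H := by
  intro q _ hq Q'
  obtain ⟨Q, rfl⟩ := Sylow.mapSurjective_surjective hf q Q'
  have hQ := h q hq Q
  refine ⟨⟨?_⟩⟩
  rintro ⟨a, ha⟩ ⟨b, hb⟩
  apply Subtype.ext
  rw [Sylow.coe_mapSurjective] at ha hb
  obtain ⟨a', ha', rfl⟩ := ha
  obtain ⟨b', hb', rfl⟩ := hb
  have := mul_comm' (⟨a', ha'⟩ : (Q : Subgroup G)) ⟨b', hb'⟩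
  have h2 : a' * b' = b' * a' := congrArg Subtype.val this
  show f a' * f b' = f b' * f a'
  rw [← map_mul, ← map_mul, h2]

theorem expLE_of_surjective [Finite G] {H : Type u} [Group H] {p : ℕ} [Fact p.Prime] {n : ℕ}
    (f : G →* H) (hf : Function.Surjective f) (h : ExpLE p n G) : ExpLE p n H := by
  intro P' x hx
  obtain ⟨P, rfl⟩ := Sylow.mapSurjective_surjective hf p P'
  rw [Sylow.coe_mapSurjective] at hx
  obtain ⟨a, ha, rfl⟩ := hx
  rw [← map_pow, h P a ha, map_one]

/-- some power of `x ^ i` is `x ^ p ^ (n - 1)` when `0 < i < p ^ n` and `x ^ p ^ n = 1` -/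
theorem exists_pow_pow_eq {H : Type u} [Group H] {p : ℕ} (hp : p.Prime) (n : ℕ) (hn : 1 ≤ n) (x : H)
    (hx : x ^ p ^ n = 1) (i : ℕ) (hi0 : 0 < i) (hi : i < p ^ n) :
    ∃ j : ℕ, (x ^ i) ^ j = x ^ p ^ (n - 1) := by
  obtain ⟨a, u, hu, rfl⟩ := Nat.exists_eq_pow_mul_and_not_dvd hi0.ne' p hp.ne_one
  have ha : a < n := by
    by_contra hcon
    push Not at hcon
    have h1 : p ^ n ≤ p ^ a := Nat.pow_le_pow_right hp.pos hcon
    have h2 : p ^ a ≤ p ^ a * u := Nat.le_mul_of_pos_right _ (Nat.pos_of_ne_zero (by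
      rintro rfl; simp at hu))
    omega
  have hcop : Nat.Coprime u p := (Nat.Prime.coprime_iff_not_dvd hp).2 hu |>.symm
  obtain ⟨w, hw⟩ := Nat.exists_mul_mod_eq_one_of_coprime hcop hp.one_lt
  refine ⟨p ^ (n - 1 - a) * w, ?_⟩
  have h3 : u * w = 1 + p * (u * w / p) := by
    have := Nat.div_add_mod (u * w) p
    omega
  rw [← pow_mul]
  have h4 : p ^ a * u * (p ^ (n - 1 - a) * w) = p ^ (n - 1) + p ^ n * (u * w / p) := by
    have e1 : p ^ a * p ^ (n - 1 - a) = p ^ (n - 1) := by
      rw [← pow_add]; congr 1; omega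
    have e2 : p ^ (n - 1) * p = p ^ n := by
      rw [← pow_succ]; congr 1; omega
    calc p ^ a * u * (p ^ (n - 1 - a) * w) = (p ^ a * p ^ (n - 1 - a)) * (u * w) := by ring
      _ = p ^ (n - 1) * (1 + p * (u * w / p)) := by rw [e1, ← h3]
      _ = p ^ (n - 1) + (p ^ (n - 1) * p) * (u * w / p) := by ring
      _ = p ^ (n - 1) + p ^ n * (u * w / p) := by rw [e2]
  rw [h4, pow_add, pow_mul, hx, one_pow, mul_one]

/-- a normal `p'`-subgroup all of whose invariant Sylow subgroups are centralized by `y` is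
centralized by `y` -/
theorem le_centralizer_of_invariant_sylow {H : Type u} [Group H] [Finite H] (W : Subgroup H)
    (A : Subgroup H) (hAW : A ≤ Subgroup.normalizer (W : Set H))
    (hcop : (Nat.card A).Coprime (Nat.card W)) (hsolv : Group.IsSolvable A) (y : H)
    (h : ∀ (q : ℕ) [Fact q.Prime], ∀ Q : Sylow q W,
      A ≤ Subgroup.normalizer ((Q : Subgroup W).map W.subtype : Set H) →
      (Q : Subgroup W).map W.subtype ≤ Subgroup.centralizer {y}) :
    W ≤ Subgroup.centralizer {y} := by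
  set D := (Subgroup.centralizer ({y} : Set H)).subgroupOf W with hD
  have hidx : D.index = 1 := by
    by_contra hne
    obtain ⟨q, hq, hqd⟩ := Nat.exists_prime_and_dvd hne
    haveI : Fact q.Prime := ⟨hq⟩
    obtain ⟨Q, hQ⟩ := Cfsg.Agent.Helper1.exists_invariant_sylow (p := q) A W hAW hcop (Or.inl hsolv)
    have h1 := h q Q hQ
    have h2 : (Q : Subgroup W) ≤ D := by
      intro w hw
      rw [hD, Subgroup.mem_subgroupOf]
      exact h1 (Subgroup.mem_map_of_mem W.subtype hw)
    have h3 : D.index ∣ (Q : Subgroup W).index := Subgroup.index_dvd_of_le h2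
    exact Q.not_dvd_index (hqd.trans h3)
  rw [Subgroup.index_eq_one] at hidx
  intro w hw
  have : (⟨w, hw⟩ : W) ∈ D := by rw [hidx]; exact Subgroup.mem_top _
  rw [hD, Subgroup.mem_subgroupOf] at this
  exact this

/-- trivial action of `g` on the abelianization of `O_p(G)` forces `g ∈ O_p(G)` -/
theorem mem_pCore_of_rho_eq_one [Finite G] {p : ℕ} [hp : Fact p.Prime]
    (hG : Cfsg.IsPSolvable p G) (hO : Cfsg.pPrimeCore p G = ⊥) (g : G)
    (hg : rho (Cfsg.pCore p G) g = 1) : g ∈ Cfsg.pCore p G := by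
  apply Cfsg.Agent.Helper4.mem_pCore_of_commutator_mem_frattini hG hO g
  intro k hk
  have h1 := comm_mem_of_rho_eq_one (Cfsg.pCore p G) g hg k hk
  have hPp : IsPGroup p (Cfsg.pCore p G) := Cfsg.Agent.Helper4.pCore_isPGroup
  exact Subgroup.map_mono (Cfsg.Agent.Helper1.IsPGroup.commutator_le_frattini hPp) h1

/-- in a finite `p`-group written additively, multiplication by a number prime to `p` is injective -/
theorem eq_zero_of_nsmul_eq_zero {V : Type v} [AddCommGroup V] [Finite V] {p : ℕ} {c : ℕ}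
    (hV : Nat.card V = p ^ c) {m : ℕ} (hm : m.Coprime p) (w : V) (h : m • w = 0) : w = 0 := by
  have h1 : addOrderOf w ∣ m := addOrderOf_dvd_of_nsmul_eq_zero h
  have h2 : addOrderOf w ∣ p ^ c := hV ▸ addOrderOf_dvd_natCard w
  have h3 : addOrderOf w ∣ Nat.gcd m (p ^ c) := Nat.dvd_gcd h1 h2
  rw [Nat.Coprime.pow_right c hm] at h3
  exact AddMonoid.addOrderOf_eq_one_iff.1 (Nat.dvd_one.1 h3)

/-- the key step: `x ^ p ^ (n - 1)` lies in `O_{p,p'}(G)` -/
theorem key [Finite G] {p : ℕ} [hp : Fact p.Prime] (hG : Cfsg.IsPSolvable p G)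
    (hO : Cfsg.pPrimeCore p G = ⊥) (hab : AbOther p G) (n : ℕ) (hn : 1 ≤ n) (hexp : ExpLE p n G)
    (S : Sylow p G) (x : G) (hxS : x ∈ (S : Subgroup G)) :
    QuotientGroup.mk' (Cfsg.pCore p G) (x ^ p ^ (n - 1)) ∈
      Cfsg.pPrimeCore p (G ⧸ Cfsg.pCore p G) := by
  classical
  by_contra hy
  set P := Cfsg.pCore p G with hP
  set π := QuotientGroup.mk' P with hπ
  set W := Cfsg.pPrimeCore p (G ⧸ P) with hW
  set xb := π x with hxb
  set yb := π (x ^ p ^ (n - 1)) with hyb
  have hyb' : yb = xb ^ p ^ (n - 1) := by rw [hyb, hxb, map_pow]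
  have hxpow : x ^ p ^ n = 1 := hexp S x hxS
  have hxbpow : xb ^ p ^ n = 1 := by rw [hxb, ← map_pow, hxpow, map_one]
  have hybpow : yb ^ p = 1 := by
    rw [hyb', ← pow_mul, ← pow_succ, show n - 1 + 1 = n by omega, hxbpow]
  have hHsol : Cfsg.IsPSolvable p (G ⧸ P) := Cfsg.Agent.Helper4.isPSolvable_quotient hG P
  have hHO : Cfsg.pCore p (G ⧸ P) = ⊥ := pCore_quotient_pCore p
  have hcen := centralizer_pPrimeCore_le hHsol hHO
  have hWc : (Nat.card W).Coprime p := Cfsg.Agent.Helper1.card_pPrimeCore_coprime p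
  -- the cyclic group generated by `xb`
  set A := Subgroup.zpowers xb with hA
  have hAcard : Nat.card A ∣ p ^ n := by
    rw [hA, Nat.card_zpowers]; exact orderOf_dvd_of_pow_eq_one hxbpow
  have hAW : A ≤ Subgroup.normalizer (W : Set (G ⧸ P)) := by
    rw [Subgroup.normalizer_eq_top_iff.2 inferInstance]; exact le_top
  have hcopAW : (Nat.card A).Coprime (Nat.card W) :=
    Nat.Coprime.coprime_dvd_left hAcard (Nat.Coprime.pow_left n hWc.symm)
  have hAsolv : Group.IsSolvable A := by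
    rw [hA]; infer_instance
  have hybA : yb ∈ A := by rw [hyb']; exact Subgroup.pow_mem _ (Subgroup.mem_zpowers xb) _
  -- an invariant Sylow subgroup not centralized by `yb`
  have hex : ∃ (q : ℕ) (_ : Fact q.Prime) (Q : Sylow q W),
      A ≤ Subgroup.normalizer ((Q : Subgroup W).map W.subtype : Set (G ⧸ P)) ∧
      ¬ (Q : Subgroup W).map W.subtype ≤ Subgroup.centralizer {yb} := by
    by_contra hcon
    push Not at hcon
    have h1 := le_centralizer_of_invariant_sylow W A hAW hcopAW hAsolv yb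
      (fun q _ Q hQ => hcon q inferInstance Q hQ)
    apply hy
    apply hcen
    rw [Subgroup.mem_centralizer_iff]
    intro w hw
    have := h1 hw
    rw [Subgroup.mem_centralizer_iff] at this
    exact (this yb (Set.mem_singleton yb)).symm
  obtain ⟨q, hqF, Q, hQA, hQy⟩ := hex
  set Q' := (Q : Subgroup W).map W.subtype with hQ'
  have hQ'W : Q' ≤ W := Subgroup.map_subtype_le _
  have hQ'q : IsPGroup q Q' := Q.isPGroup'.map _
  have hQ'cop : (Nat.card Q').Coprime p :=
    Nat.Coprime.coprime_dvd_left (Subgroup.card_dvd_of_le hQ'W) hWc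
  have hqp : q ≠ p := by
    rintro rfl
    apply hQy
    have : Q' = ⊥ := by
      obtain ⟨k, hk⟩ := IsPGroup.iff_card.1 hQ'q
      have hk0 : k = 0 := by
        by_contra hk0
        rw [hk] at hQ'cop
        have := Nat.Coprime.coprime_dvd_left (dvd_pow_self q hk0) hQ'cop
        rw [Nat.coprime_self] at this
        exact hqF.out.one_lt.ne' this
      rw [hk0, pow_zero] at hk
      exact Subgroup.card_eq_one.1 hk
    rw [this]; exact bot_le
  -- `Q'` is abelian
  have habH : AbOther p (G ⧸ P) := abOther_of_surjective π (QuotientGroup.mk'_surjective P) hab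
  obtain ⟨Q₁, hQ₁⟩ := hQ'q.exists_le_sylow
  haveI hQ'comm : IsMulCommutative Q' := by
    have hc := habH q hqp Q₁
    refine ⟨⟨?_⟩⟩
    rintro ⟨a, ha⟩ ⟨b, hb⟩
    apply Subtype.ext
    have := mul_comm' (⟨a, hQ₁ ha⟩ : (Q₁ : Subgroup (G ⧸ P))) ⟨b, hQ₁ hb⟩
    have h2 : a * b = b * a := congrArg Subtype.val this
    exact h2
  -- the group generated by `yb`
  set A' := Subgroup.zpowers yb with hA'
  have hA'A : A' ≤ A := by rw [hA', Subgroup.zpowers_le]; exact hybA
  have hA'Q : A' ≤ Subgroup.normalizer (Q' : Set (G ⧸ P)) := hA'A.trans hQA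
  have hcop' : (Nat.card A').Coprime (Nat.card Q') := by
    have h1 : Nat.card A' ∣ p := by
      rw [hA', Nat.card_zpowers]; exact orderOf_dvd_of_pow_eq_one hybpow
    exact Nat.Coprime.coprime_dvd_left h1 hQ'cop.symm
  have hinf := Cfsg.Agent.Helper1.centralizer_inf_commutator_eq_bot A' Q' hA'Q hcop'
  set Q₀ := ⁅Q', A'⁆ with hQ₀
  have hQ₀Q' : Q₀ ≤ Q' := by
    rw [hQ₀, Subgroup.commutator_le]
    intro g₁ hg₁ g₂ hg₂
    have h1 : g₂ * g₁⁻¹ * g₂⁻¹ ∈ Q' :=
      (Subgroup.mem_normalizer_iff.1 (hA'Q hg₂) g₁⁻¹).1 (Q'.inv_mem hg₁)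
    have h2 : ⁅g₁, g₂⁆ = g₁ * (g₂ * g₁⁻¹ * g₂⁻¹) := by
      rw [commutatorElement_def]; group
    rw [h2]; exact Q'.mul_mem hg₁ h1
  -- `xb` normalizes `Q₀`
  have hxQ' : ∀ g ∈ Q', xb * g * xb⁻¹ ∈ Q' := fun g hg =>
    (Subgroup.mem_normalizer_iff.1 (hQA (Subgroup.mem_zpowers xb)) g).1 hg
  have hxA' : ∀ g ∈ A', xb * g * xb⁻¹ = g := by
    intro g hg
    have hgA : g ∈ A := hA'A hg
    obtain ⟨j, rfl⟩ := Subgroup.mem_zpowers_iff.1 hgA
    rw [mul_inv_eq_iff_eq_mul]
    exact ((Commute.refl xb).zpow_right j).eq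
  have hxQ₀ : ∀ g ∈ Q₀, xb * g * xb⁻¹ ∈ Q₀ := by
    have hle : Q₀ ≤ Q₀.comap (MulAut.conj xb).toMonoidHom := by
      rw [hQ₀, Subgroup.commutator_le]
      intro g₁ hg₁ g₂ hg₂
      rw [Subgroup.mem_comap]
      have h1 : (MulAut.conj xb).toMonoidHom ⁅g₁, g₂⁆ = ⁅xb * g₁ * xb⁻¹, xb * g₂ * xb⁻¹⁆ := by
        simp only [MulEquiv.coe_toMonoidHom, MulAut.conj_apply, commutatorElement_def]
        group
      rw [h1, hxA' g₂ hg₂]
      exact Subgroup.commutator_mem_commutator (hxQ' g₁ hg₁) hg₂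
    intro g hg
    have := hle hg
    rw [Subgroup.mem_comap] at this
    simpa using this
  -- fixed points
  have hfix : ∀ i, 0 < i → i < p ^ n → ∀ g ∈ Q₀, xb ^ i * g = g * xb ^ i → g = 1 := by
    intro i hi0 hi g hg hcomm
    obtain ⟨j, hj⟩ := exists_pow_pow_eq hp.out n hn xb hxbpow i hi0 hi
    have hc1 : Commute yb g := by
      rw [hyb', ← hj]
      exact (Commute.pow_left (show Commute (xb ^ i) g from hcomm) j)
    have hgc : g ∈ Subgroup.centralizer (A' : Set (G ⧸ P)) := by
      rw [Subgroup.mem_centralizer_iff]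
      intro a ha
      obtain ⟨k, rfl⟩ := Subgroup.mem_zpowers_iff.1 ha
      exact (hc1.zpow_left k).eq
    have : g ∈ (Q' ⊓ Subgroup.centralizer (A' : Set (G ⧸ P))) ⊓ ⁅Q', A'⁆ :=
      ⟨⟨hQ₀Q' hg, hgc⟩, hg⟩
    rw [hinf] at this
    exact Subgroup.mem_bot.1 this
  -- the norm vanishes
  have hPS : P ≤ (S : Subgroup G) := Cfsg.Agent.Helper4.pCore_le_sylow S
  have hN : ∑ i ∈ Finset.range (p ^ n), rho P x ^ i = 0 := by
    apply rho_norm_eq_zero P x (p ^ n) hxpow
    intro u hu
    exact hexp S (u * x) ((S : Subgroup G).mul_mem (hPS hu) hxS)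
  set ρb : (G ⧸ P) →* AddMonoid.End (Additive (Abelianization P)) :=
    QuotientGroup.lift P (rho P) (fun u hu => rho_eq_one_of_mem P u hu) with hρb
  have hρb_mk : ∀ g : G, ρb (π g) = rho P g := fun g => QuotientGroup.lift_mk P _ g
  have hNb : ∑ i ∈ Finset.range (p ^ n), ρb xb ^ i = 0 := by
    rw [hxb, hρb_mk]; exact hN
  have hkey := ring_key ρb Q₀ xb hxQ₀ (p ^ n) hfix (pow_pos hp.out.pos n) hNb
  -- so `Q₀` is trivial
  have hPp : IsPGroup p P := Cfsg.Agent.Helper4.pCore_isPGroup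
  obtain ⟨c, hc⟩ : ∃ c, Nat.card (Additive (Abelianization P)) = p ^ c := by
    have h1 : Nat.card (Additive (Abelianization P)) ∣ Nat.card P := by
      show Nat.card (P ⧸ commutator P) ∣ Nat.card P
      exact Subgroup.card_quotient_dvd_card _
    obtain ⟨b, hb⟩ := IsPGroup.iff_card.1 hPp
    rw [hb] at h1
    obtain ⟨c, -, hc⟩ := (Nat.dvd_prime_pow hp.out).1 h1
    exact ⟨c, hc⟩
  have hQ₀cop : (Nat.card Q₀).Coprime p :=
    Nat.Coprime.coprime_dvd_left (Subgroup.card_dvd_of_le hQ₀Q') hQ'cop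
  have hQ₀bot : Q₀ = ⊥ := by
    rw [eq_bot_iff]
    intro g hg
    obtain ⟨g₀, rfl⟩ := QuotientGroup.mk'_surjective P g
    have h1 := hkey _ hg
    rw [hρb_mk] at h1
    have h2 : rho P g₀ = 1 := by
      apply AddMonoid.End.ext
      intro v
      have h3 : ((Nat.card Q₀ : AddMonoid.End (Additive (Abelianization P))) *
          (rho P g₀ - 1)) v = 0 := by rw [h1]; rfl
      have h4 : Nat.card Q₀ • ((rho P g₀) v - v) = 0 := h3
      have h5 := eq_zero_of_nsmul_eq_zero hc hQ₀cop _ h4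
      exact sub_eq_zero.1 h5
    have h6 := mem_pCore_of_rho_eq_one hG hO g₀ h2
    rw [Subgroup.mem_bot]
    exact (QuotientGroup.eq_one_iff g₀).2 h6
  apply hQy
  have h7 : Q' ≤ Subgroup.centralizer (A' : Set (G ⧸ P)) :=
    Subgroup.commutator_eq_bot_iff_le_centralizer.1 hQ₀bot
  intro g hg
  have := h7 hg
  rw [Subgroup.mem_centralizer_iff] at this ⊢
  intro z hz
  rw [Set.mem_singleton_iff] at hz
  subst hz
  exact this _ (Subgroup.mem_zpowers _)

/-- with `O_{p'}(G) = 1` the second term of the upper `p`-series is `O_p(G)` -/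
theorem U_two_eq_pCore [Finite G] {p : ℕ} [hp : Fact p.Prime] (hO : Cfsg.pPrimeCore p G = ⊥) :
    U p G 2 = Cfsg.pCore p G := by
  have hU1 : U p G 1 = ⊥ := by
    have h1 : U p G 1 ≤ Cfsg.pPrimeCore p G := by
      apply Cfsg.Agent.Helper1.le_pPrimeCore inferInstance
      have := factor (G := G) p 0
      unfold Good at this
      rw [if_pos (by decide), U_zero, Subgroup.relIndex_bot_left] at this
      exact this
    rw [hO] at h1
    exact le_bot_iff.1 h1
  apply le_antisymm
  · apply Cfsg.Agent.Helper4.le_pCore _ inferInstance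
    have := factor (G := G) p 1
    unfold Good at this
    rw [if_neg (by decide), hU1, Subgroup.relIndex_bot_left] at this
    obtain ⟨m, hm⟩ := this
    exact IsPGroup.of_card hm
  · apply ascent p 1
    unfold Good
    rw [if_neg (by decide), hU1, Subgroup.relIndex_bot_left]
    exact IsPGroup.iff_card.1 Cfsg.Agent.Helper4.pCore_isPGroup

/-- Hall–Higman: `l_p ≤ e_p` when the Sylow `q`-subgroups (`q ≠ p`) are abelian -/
theorem main {p : ℕ} [hp : Fact p.Prime] : ∀ N : ℕ, ∀ (G : Type u) [Group G] [Finite G],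
    Nat.card G = N → Cfsg.IsPSolvable p G → AbOther p G → ∀ n : ℕ, ExpLE p n G →
    Cfsg.PLengthLE p n G := by
  intro N
  induction N using Nat.strong_induction_on with
  | _ N IH =>
  intro G _ _ hN hG hab n hexp
  by_cases hO : Cfsg.pPrimeCore p G = ⊥
  · rcases Nat.eq_zero_or_pos n with rfl | hn
    · -- no `p`-elements
      apply pLengthLE_zero_of_coprime
      obtain ⟨S⟩ : Nonempty (Sylow p G) := inferInstance
      have hS : (S : Subgroup G) = ⊥ := by
        rw [eq_bot_iff]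
        intro x hx
        have := hexp S x hx
        rw [pow_zero, pow_one] at this
        rw [Subgroup.mem_bot]; exact this
      have hcard : Nat.card (S : Subgroup G) = 1 := by rw [hS]; exact Subgroup.card_bot
      have hnd : ¬ p ∣ Nat.card G := by
        intro hd
        have hpos : 0 < (Nat.card G).factorization p :=
          hp.out.factorization_pos_of_dvd Nat.card_pos.ne' hd
        rw [S.card_eq_multiplicity] at hcard
        have : 1 < p ^ (Nat.card G).factorization p := Nat.one_lt_pow hpos.ne' hp.out.one_lt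
        omega
      exact ((Nat.Prime.coprime_iff_not_dvd hp.out).2 hnd).symm
    · by_cases hsub : Subsingleton G
      · rw [pLengthLE_iff]; exact Subsingleton.elim _ _
      have hnt : Nontrivial G := not_subsingleton_iff_nontrivial.1 hsub
      set P := Cfsg.pCore p G with hP
      have hPne : P ≠ ⊥ := by
        intro hbot
        have h1 := Cfsg.Agent.Helper4.centralizer_pCore_le_of_isPSolvable hG hO
        rw [← hP, hbot] at h1
        have h2 : (⊤ : Subgroup G) ≤ ⊥ := by
          refine le_trans ?_ h1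
          intro g _
          rw [Subgroup.mem_centralizer_iff]
          intro h hh
          rw [Subgroup.coe_bot, Set.mem_singleton_iff] at hh
          subst hh; simp
        exact bot_ne_top (le_bot_iff.1 h2).symm
      set W := Cfsg.pPrimeCore p (G ⧸ P) with hW
      -- the double quotient
      have hcardlt : Nat.card ((G ⧸ P) ⧸ W) < N := by
        have h1 : Nat.card ((G ⧸ P) ⧸ W) ≤ Nat.card (G ⧸ P) :=
          Nat.le_of_dvd Nat.card_pos (Subgroup.card_quotient_dvd_card _)
        have h2 : Nat.card (G ⧸ P) < Nat.card G := by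
          rw [← Subgroup.index_eq_card, ← Subgroup.card_mul_index P]
          have h3 : 1 < Nat.card P := (Subgroup.one_lt_card_iff_ne_bot _).2 hPne
          have h4 : 0 < P.index := Nat.pos_of_ne_zero Subgroup.index_ne_zero_of_finite
          nlinarith
        omega
      have hsurj : Function.Surjective ((QuotientGroup.mk' W).comp (QuotientGroup.mk' P)) :=
        (QuotientGroup.mk'_surjective W).comp (QuotientGroup.mk'_surjective P)
      have hexp' : ExpLE p (n - 1) ((G ⧸ P) ⧸ W) := by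
        intro S' z hz
        obtain ⟨S, rfl⟩ := Sylow.mapSurjective_surjective hsurj p S'
        rw [Sylow.coe_mapSurjective] at hz
        obtain ⟨x, hx, rfl⟩ := hz
        have hk := key hG hO hab n hn hexp S x hx
        rw [← map_pow, MonoidHom.comp_apply]
        exact (QuotientGroup.eq_one_iff _).2 hk
      have h1 : Cfsg.PLengthLE p (n - 1) ((G ⧸ P) ⧸ W) :=
        IH _ hcardlt ((G ⧸ P) ⧸ W) rfl
          (Cfsg.Agent.Helper4.isPSolvable_quotient
            (Cfsg.Agent.Helper4.isPSolvable_quotient hG P) W)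
          (abOther_of_surjective _ hsurj hab) (n - 1) hexp'
      have h2 : Cfsg.PLengthLE p (n - 1) (G ⧸ P) :=
        pLengthLE_of_quotient_coprime p W (Cfsg.Agent.Helper1.card_pPrimeCore_coprime p) h1
      have hU2 : U p G 2 = P := U_two_eq_pCore hO
      have h3 : Cfsg.PLengthLE p (n - 1) (G ⧸ U p G 2) :=
        pLengthLE_of_mulEquiv p (QuotientGroup.quotientMulEquivOfEq hU2.symm) h2
      rw [pLengthLE_iff] at h3 ⊢
      have h4 := U_add_even (G := G) p (show Even 2 by decide) (2 * (n - 1) + 1)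
      rw [show 2 * (n - 1) + 1 + 2 = 2 * n + 1 by omega, h3, Subgroup.comap_top] at h4
      exact h4
  · -- remove `O_{p'}(G)`
    have hlt : Nat.card (G ⧸ Cfsg.pPrimeCore p G) < N := by
      rw [← hN, ← Subgroup.index_eq_card, ← Subgroup.card_mul_index (Cfsg.pPrimeCore p G)]
      have h3 : 1 < Nat.card (Cfsg.pPrimeCore p G) := (Subgroup.one_lt_card_iff_ne_bot _).2 hO
      have h4 : 0 < (Cfsg.pPrimeCore p G).index :=
        Nat.pos_of_ne_zero Subgroup.index_ne_zero_of_finite
      nlinarith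
    have h1 : Cfsg.PLengthLE p n (G ⧸ Cfsg.pPrimeCore p G) :=
      IH _ hlt (G ⧸ Cfsg.pPrimeCore p G) rfl
        (Cfsg.Agent.Helper4.isPSolvable_quotient hG _)
        (abOther_of_surjective _ (QuotientGroup.mk'_surjective _) hab) n
        (expLE_of_surjective _ (QuotientGroup.mk'_surjective _) hexp)
    exact pLengthLE_of_quotient_coprime p _ (Cfsg.Agent.Helper1.card_pPrimeCore_coprime p) h1

end Cfsg.Agent.Helper3.HHAb
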