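import Mathlib

set_option autoImplicit false

namespace Cfsg.Agent.Helper3.Shult

open scoped Pointwise

/-- A `p`-group normalizing a `p'`-subgroup `N` normalizes some Sylow `q`-subgroup of `N`. -/
theorem exists_invariant_sylow_of_pgroup {H : Type*} [Group H] [Finite H] {p : ℕ}
    [hp : Fact p.Prime] (N P : Subgroup H) (hPN : P ≤ Subgroup.normalizer (N : Set H))
    (hP : IsPGroup p P) (hN : ¬ p ∣ Nat.card N) (q : ℕ) [hq : Fact q.Prime] :
    ∃ S : Subgroup H, S ≤ N ∧ Nat.card S = q ^ (Nat.card N).factorization q ∧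
      P ≤ Subgroup.normalizer (S : Set H) := by
  classical
  have hconj : ∀ g : ↥P, ∀ n : ↥N, (g : H) * (n : H) * (g : H)⁻¹ ∈ N := by
    intro g n
    exact (Subgroup.mem_normalizer_iff.1 (hPN g.2) _).1 n.2
  letI : MulDistribMulAction ↥P ↥N :=
    { smul := fun g n => ⟨(g : H) * (n : H) * (g : H)⁻¹, hconj g n⟩
      one_smul := by
        intro n
        apply Subtype.ext
        change ((1 : ↥P) : H) * (n : H) * ((1 : ↥P) : H)⁻¹ = n
        simp
      mul_smul := by
        intro g h n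
        apply Subtype.ext
        change ((g * h : ↥P) : H) * (n : H) * ((g * h : ↥P) : H)⁻¹ =
          (g : H) * ((h : H) * (n : H) * (h : H)⁻¹) * (g : H)⁻¹
        rw [Subgroup.coe_mul]
        group
      smul_mul := by
        intro g a b
        apply Subtype.ext
        change (g : H) * ((a * b : ↥N) : H) * (g : H)⁻¹ =
          ((g : H) * (a : H) * (g : H)⁻¹) * ((g : H) * (b : H) * (g : H)⁻¹)
        rw [Subgroup.coe_mul]
        group
      smul_one := by
        intro g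
        apply Subtype.ext
        change (g : H) * ((1 : ↥N) : H) * (g : H)⁻¹ = ((1 : ↥N) : H)
        simp }
  have hsmul : ∀ (g : ↥P) (n : ↥N), ((g • n : ↥N) : H) = (g : H) * (n : H) * (g : H)⁻¹ :=
    fun g n => rfl
  obtain ⟨S₀⟩ : Nonempty (Sylow q ↥N) := inferInstance
  have hcard : ¬ p ∣ Nat.card (Sylow q ↥N) := by
    intro h
    apply hN
    exact h.trans ((Sylow.card_dvd_index S₀).trans (Subgroup.index_dvd_card _))
  obtain ⟨S₁, hS₁⟩ := hP.nonempty_fixed_point_of_prime_not_dvd_card (Sylow q ↥N) hcard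
  rw [MulAction.mem_fixedPoints] at hS₁
  have hfix : ∀ g : ↥P, ∀ n : ↥N, n ∈ (S₁ : Subgroup ↥N) → g • n ∈ (S₁ : Subgroup ↥N) := by
    intro g n hn
    have h1 : g • n ∈ g • (S₁ : Subgroup ↥N) := Subgroup.smul_mem_pointwise_smul n g _ hn
    rw [← Sylow.pointwise_smul_def, hS₁ g] at h1
    exact h1
  refine ⟨(S₁ : Subgroup ↥N).map N.subtype, Subgroup.map_subtype_le _, ?_, ?_⟩
  · rw [← Sylow.card_eq_multiplicity S₁]
    exact Nat.card_congr ((S₁ : Subgroup ↥N).equivMapOfInjective N.subtype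
      N.subtype_injective).toEquiv.symm
  · intro g hg
    rw [Subgroup.mem_normalizer_iff]
    intro h
    constructor
    · rintro ⟨n, hn, rfl⟩
      refine ⟨(⟨g, hg⟩ : ↥P) • n, hfix ⟨g, hg⟩ n hn, rfl⟩
    · rintro ⟨n, hn, hne⟩
      have h1 := hfix (⟨g, hg⟩⁻¹ : ↥P) n hn
      refine ⟨(⟨g, hg⟩⁻¹ : ↥P) • n, h1, ?_⟩
      rw [Subgroup.subtype_apply, hsmul, Subgroup.coe_inv]
      rw [Subgroup.subtype_apply] at hne
      rw [hne]
      change g⁻¹ * (g * h * g⁻¹) * g⁻¹⁻¹ = h
      group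

end Cfsg.Agent.Helper3.Shult
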