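import Mathlib
import Cfsg.Agent.Helper3.ShInvSyl

set_option autoImplicit false

namespace Cfsg.Agent.Helper3.Shult

/-- a cyclic `p`-group `⟨x⟩` acting on a `p'`-group `N` on which `y` acts nontrivially
normalizes a Sylow subgroup of `N` on which `y` acts nontrivially. -/
theorem exists_invariant_sylow_not_centralized {G : Type*} [Group G] [Finite G] {p : ℕ}
    [hp : Fact p.Prime] (N : Subgroup G) (x y : G)
    (hxp : IsPGroup p (Subgroup.zpowers x)) (hxN : x ∈ Subgroup.normalizer (N : Set G))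
    (hN : ¬ p ∣ Nat.card N) (hnc : ∃ g ∈ N, y * g * y⁻¹ ≠ g) :
    ∃ q : ℕ, q.Prime ∧ q ≠ p ∧ ∃ S : Subgroup G, S ≤ N ∧ IsPGroup q S ∧
      (∀ g ∈ S, x * g * x⁻¹ ∈ S) ∧ ∃ g ∈ S, y * g * y⁻¹ ≠ g := by
  classical
  by_contra hcon
  push Not at hcon
  obtain ⟨L, hL⟩ : ∃ L : Subgroup G, L = N ⊓ Subgroup.centralizer {y} := ⟨_, rfl⟩
  have hLmem : ∀ g, g ∈ L ↔ g ∈ N ∧ y * g * y⁻¹ = g := by
    intro g
    rw [hL, Subgroup.mem_inf, Subgroup.mem_centralizer_singleton_iff, mul_inv_eq_iff_eq_mul]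
    constructor
    · rintro ⟨h1, h2⟩
      exact ⟨h1, h2.symm⟩
    · rintro ⟨h1, h2⟩
      exact ⟨h1, h2.symm⟩
  have hLN : L = N := by
    have hLle : L ≤ N := by rw [hL]; exact inf_le_left
    apply Subgroup.eq_of_le_of_card_ge hLle
    apply Nat.le_of_dvd Nat.card_pos
    rw [← Nat.factorization_le_iff_dvd Nat.card_pos.ne' Nat.card_pos.ne']
    intro q
    by_cases hq : q.Prime
    · haveI : Fact q.Prime := ⟨hq⟩
      obtain ⟨S, hSN, hScard, hSx⟩ := exists_invariant_sylow_of_pgroup N (Subgroup.zpowers x)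
        ((Subgroup.zpowers_le).2 hxN) hxp hN q
      rw [← hq.pow_dvd_iff_le_factorization Nat.card_pos.ne', ← hScard]
      apply Subgroup.card_dvd_of_le
      by_cases hqp : q = p
      · have h0 : (Nat.card N).factorization q = 0 := by
          rw [hqp]; exact Nat.factorization_eq_zero_of_not_dvd hN
        rw [h0, pow_zero] at hScard
        rw [Subgroup.card_eq_one.1 hScard]; exact bot_le
      · intro g hg
        rw [hLmem]
        refine ⟨hSN hg, ?_⟩
        have hSp : IsPGroup q S := IsPGroup.of_card hScard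
        have hxS : ∀ g ∈ S, x * g * x⁻¹ ∈ S := by
          intro g hg
          exact (Subgroup.mem_normalizer_iff.1 (hSx (Subgroup.mem_zpowers x)) g).1 hg
        exact hcon q hq hqp S hSN hSp hxS g hg
    · rw [Nat.factorization_eq_zero_of_not_prime _ hq]; exact Nat.zero_le _
  obtain ⟨g, hg, hgy⟩ := hnc
  apply hgy
  have : g ∈ L := by rw [hLN]; exact hg
  exact ((hLmem g).1 this).2

end Cfsg.Agent.Helper3.Shult
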