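import Mathlib
import Cfsg.Agent.Helper3.ShHHbc
import Cfsg.Agent.Helper3.ShHHgrp
import Cfsg.Agent.Helper1.HallHigmanDual

set_option autoImplicit false

namespace Cfsg.Agent.Helper3.Shult

open Module

set_option maxHeartbeats 1000000 in
/-- Hall–Higman Theorem B for an abstract `p`-solvable group `H` with `O_p(H) = 1` acting on a
vector space in characteristic `p`, faithfully on `O_{p'}(H)`. -/
theorem hh_B_abs {F : Type*} [Field F] (p : ℕ) [hp : Fact p.Prime] [CharP F p]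
    {V : Type*} [AddCommGroup V] [Module F V] [FiniteDimensional F V]
    {H : Type*} [Group H] [Finite H] (hsol : Cfsg.IsPSolvable p H) (hOp : Cfsg.pCore p H = ⊥)
    (ρ : H →* Module.End F V) (hfaith : ∀ g ∈ Cfsg.pPrimeCore p H, ρ g = 1 → g = 1)
    (x : H) (n : ℕ) (hn : 1 ≤ n) (hx : x ^ (p ^ n) = 1) (hy1 : x ^ (p ^ (n - 1)) ≠ 1)
    (s : ℕ) (hs : (ρ x - 1) ^ s = 0) :
    p ^ n ≤ s ∨ ∃ n₀ q m : ℕ, 1 ≤ n₀ ∧ n₀ ≤ n ∧ q.Prime ∧ q ≠ p ∧ 1 ≤ m ∧ p ^ n₀ - 1 = q ^ m ∧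
      (∃ S : Subgroup H, IsPGroup q S ∧ ∃ g ∈ S, ∃ h ∈ S, g * h ≠ h * g) ∧
      p ^ (n - n₀) * (p ^ n₀ - 1) ≤ s := by
  classical
  obtain ⟨y, hy⟩ : ∃ y : H, y = x ^ (p ^ (n - 1)) := ⟨_, rfl⟩
  rw [← hy] at hy1
  have hyp : y ^ p = 1 := by
    rw [hy, ← pow_mul, ← pow_succ, Nat.sub_add_cancel hn, hx]
  have hyord : orderOf y = p := orderOf_eq_prime hyp hy1
  obtain ⟨N, hNdef⟩ : ∃ N : Subgroup H, N = Cfsg.pPrimeCore p H := ⟨_, rfl⟩
  haveI hNn : N.Normal := by rw [hNdef]; exact Cfsg.Agent.Helper1.pPrimeCore_normal p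
  have hNcop : (Nat.card N).Coprime p := by
    rw [hNdef]; exact Cfsg.Agent.Helper1.card_pPrimeCore_coprime p
  have hNp : ¬ p ∣ Nat.card N := by
    intro h
    have := Nat.Coprime.eq_one_of_dvd hNcop.symm h
    exact hp.out.one_lt.ne' this
  have hCN : Subgroup.centralizer (N : Set H) ≤ N := by
    rw [hNdef]
    exact Cfsg.Agent.Helper1.centralizer_pPrimeCore_le_of_isPSolvable hsol hOp
  have hnc : ∃ g ∈ N, y * g * y⁻¹ ≠ g := by
    by_contra hcon
    push Not at hcon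
    have hyC : y ∈ Subgroup.centralizer (N : Set H) := by
      rw [Subgroup.mem_centralizer_iff]
      intro g hg
      have := hcon g hg
      rw [mul_inv_eq_iff_eq_mul] at this
      exact this.symm
    have hyN : y ∈ N := hCN hyC
    apply hNp
    rw [← hyord]
    have := orderOf_dvd_natCard (⟨y, hyN⟩ : ↥N)
    rwa [Subgroup.orderOf_mk] at this
  have hxp : IsPGroup p (Subgroup.zpowers x) := by
    obtain ⟨k, -, hk⟩ := (Nat.dvd_prime_pow hp.out).1 (orderOf_dvd_of_pow_eq_one hx)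
    apply IsPGroup.of_card (n := k)
    rw [Nat.card_zpowers, hk]
  have hxN : x ∈ Subgroup.normalizer (N : Set H) := by
    rw [Subgroup.normalizer_eq_top]; exact Subgroup.mem_top _
  obtain ⟨q, hq, hqp, S, hSN, hSq, hSx, hSnc⟩ :=
    exists_invariant_sylow_not_centralized N x y hxp hxN hNp hnc
  rw [hy] at hSnc
  have hmain := hh_linear p ρ S q hq hqp hSq x n hn hx hSx
    (by
      intro g hg hg1
      apply hfaith g _ hg1
      rw [← hNdef]
      exact hSN hg)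
    hSnc s hs
  rcases hmain with h | ⟨n₀, m, h1, h2, h3, h4, hnab, h6⟩
  · exact Or.inl h
  · right
    exact ⟨n₀, q, m, h1, h2, hq, hqp, h3, h4, ⟨S, hSq, hnab⟩, h6⟩

end Cfsg.Agent.Helper3.Shult
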