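import Mathlib
import Cfsg.Agent.Helper3.FrobActA
import Cfsg.Agent.Helper3.FrobActB
import Cfsg.Agent.Helper1.PGroup

set_option autoImplicit false

namespace Cfsg.Agent.Helper3.Wr

open Cfsg.Agent.Helper3.FrobActA Cfsg.Agent.Helper3.FrobActB
open scoped commutatorElement

universe u

set_option maxHeartbeats 1000000 in
/-- the Frattini quotient of a normal `p`-subgroup as a module over the prime field, with the
conjugation action of the whole group. -/
theorem exists_frattini_module {G : Type u} [Group G] (p : ℕ) [hp : Fact p.Prime]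
    (A : Subgroup G) [hAn : A.Normal] [Finite A] (hA : IsPGroup p A) :
    ∃ (V : Type u) (_ : AddCommGroup V) (_ : Module (ZMod p) V) (_ : Finite V)
      (θ₀ : ↥A →* Multiplicative V) (ρ₀ : G →* Module.End (ZMod p) V),
      Function.Surjective θ₀ ∧ (∀ u : ↥A, θ₀ u = 1 ↔ u ∈ frattini ↥A) ∧
      ∀ (g : G) (u : ↥A), ρ₀ g (Multiplicative.toAdd (θ₀ u)) =
        Multiplicative.toAdd (θ₀ ⟨g * u * g⁻¹, hAn.conj_mem u u.2 g⟩) := by
  classical
  have hcomm : ∀ a b : ↥A ⧸ frattini ↥A, a * b = b * a := by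
    intro a b
    induction a using QuotientGroup.induction_on with
    | H a =>
    induction b using QuotientGroup.induction_on with
    | H b =>
    rw [← QuotientGroup.mk_mul, ← QuotientGroup.mk_mul, QuotientGroup.eq]
    apply Cfsg.Agent.Helper1.IsPGroup.commutator_le_frattini hA
    have : (a * b)⁻¹ * (b * a) = ⁅b⁻¹, a⁻¹⁆ := by rw [commutatorElement_def]; group
    rw [this, commutator_def]
    exact Subgroup.commutator_mem_commutator (Subgroup.mem_top _) (Subgroup.mem_top _)
  have hexp : ∀ a : ↥A ⧸ frattini ↥A, a ^ p = 1 := by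
    intro a
    induction a using QuotientGroup.induction_on with
    | H a =>
    rw [← QuotientGroup.mk_pow, QuotientGroup.eq_one_iff]
    exact Cfsg.Agent.Helper1.IsPGroup.pow_mem_frattini hA a
  letI instC : CommGroup (↥A ⧸ frattini ↥A) :=
    { (inferInstance : Group (↥A ⧸ frattini ↥A)) with mul_comm := hcomm }
  letI instM : Module (ZMod p) (Additive (↥A ⧸ frattini ↥A)) := AddCommGroup.zmodModule (by
    intro a
    exact congrArg Additive.ofMul (hexp (Additive.toMul a)))
  have hInv : Inv (MulAut.conjNormal (H := A)) (frattini ↥A) := by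
    intro g n hn
    have h1 := (Subgroup.characteristic_iff_map_eq.1 (frattini_characteristic (G := ↥A)))
      (MulAut.conjNormal (H := A) g)
    rw [← h1]
    exact Subgroup.mem_map_of_mem _ hn
  obtain ⟨ψ, hψ⟩ : ∃ ψ : G →* MulAut (↥A ⧸ frattini ↥A), ∀ (g : G) (u : ↥A),
      ψ g (u : ↥A ⧸ frattini ↥A) = ((MulAut.conjNormal (H := A) g u : ↥A) : ↥A ⧸ frattini ↥A) :=
    ⟨quotAct (MulAut.conjNormal (H := A)) (frattini ↥A) hInv, fun g u => rfl⟩
  obtain ⟨θ₀, hθ₀⟩ : ∃ θ₀ : ↥A →* Multiplicative (Additive (↥A ⧸ frattini ↥A)),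
      ∀ u, θ₀ u = Multiplicative.ofAdd (Additive.ofMul (u : ↥A ⧸ frattini ↥A)) :=
    ⟨(MulEquiv.multiplicativeAdditive (↥A ⧸ frattini ↥A)).symm.toMonoidHom.comp
      (QuotientGroup.mk' (frattini ↥A)), fun u => rfl⟩
  refine ⟨Additive (↥A ⧸ frattini ↥A), inferInstance, instM, inferInstance, θ₀, rep p ψ, ?_, ?_, ?_⟩
  · intro v
    obtain ⟨u, hu⟩ := QuotientGroup.mk'_surjective (frattini ↥A)
      (Additive.toMul (Multiplicative.toAdd v))
    refine ⟨u, ?_⟩
    rw [hθ₀]
    change Multiplicative.ofAdd (Additive.ofMul (QuotientGroup.mk' (frattini ↥A) u)) = v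
    rw [hu]
    rfl
  · intro u
    rw [hθ₀, ← QuotientGroup.eq_one_iff]
    constructor
    · intro h
      have := congrArg (fun z => Additive.toMul (Multiplicative.toAdd z)) h
      exact this
    · intro h
      rw [h]
      rfl
  · intro g u
    rw [hθ₀, hθ₀, toAdd_ofAdd, toAdd_ofAdd, rep_apply, toMul_ofMul, hψ]
    congr 2

end Cfsg.Agent.Helper3.Wr
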