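import Mathlib
import Cfsg.Agent.Helper1.M11g

set_option autoImplicit false

/-!
M11 cluster, piece L1 (helper3; architect helper2): in a simple group of order 7920 there are
exactly 144 Sylow 11-subgroups, their normalizers have order 55, and they are self-centralizing.
-/

namespace Cfsg.Agent.Helper2.M11

open Cfsg.Agent.Helper1.M7920

/-- A permutation of 12 points does not have order 33. -/
theorem orderOf_perm_ne_33 {α : Type*} [Fintype α] [DecidableEq α]
    (hα : Fintype.card α = 12) (σ : Equiv.Perm α) : orderOf σ ≠ 33 := by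
  intro h33
  have hsum : σ.cycleType.sum ≤ 12 := hα ▸ σ.sum_cycleType_le
  have hmem : ∀ n ∈ σ.cycleType, n = 3 ∨ n = 11 := by
    intro n hn
    have h2 := Equiv.Perm.two_le_of_mem_cycleType hn
    have hd : n ∣ 33 := h33 ▸ Equiv.Perm.dvd_of_mem_cycleType hn
    have hle : n ≤ 12 := (Multiset.le_sum_of_mem hn).trans hsum
    interval_cases n <;> first | (left; rfl) | (right; rfl) | (exfalso; revert hd; decide)
  have hlcm : σ.cycleType.lcm = 33 := by rw [Equiv.Perm.lcm_cycleType, h33]
  have h3 : 3 ∈ σ.cycleType := by
    by_contra h3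
    have : σ.cycleType.lcm ∣ 11 := by
      apply Multiset.lcm_dvd.2
      intro n hn
      rcases hmem n hn with rfl | rfl
      · exact absurd hn h3
      · exact dvd_rfl
    rw [hlcm] at this
    revert this; decide
  have h11 : 11 ∈ σ.cycleType := by
    by_contra h11
    have : σ.cycleType.lcm ∣ 3 := by
      apply Multiset.lcm_dvd.2
      intro n hn
      rcases hmem n hn with rfl | rfl
      · exact dvd_rfl
      · exact absurd hn h11
    rw [hlcm] at this
    revert this; decide
  obtain ⟨t, ht⟩ := Multiset.exists_cons_of_mem h3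
  have h11t : 11 ∈ t := by
    rw [ht, Multiset.mem_cons] at h11
    rcases h11 with h | h
    · exact absurd h (by decide)
    · exact h
  obtain ⟨u, hu⟩ := Multiset.exists_cons_of_mem h11t
  rw [ht, hu, Multiset.sum_cons, Multiset.sum_cons] at hsum
  omega

/-- A Sylow 11-subgroup of a group of order 7920 has order 11. -/
theorem card_sylow11_subgroup {G : Type*} [Group G] [Finite G] (hc : Nat.card G = 7920)
    (P : Sylow 11 G) : Nat.card (P : Subgroup G) = 11 := by
  haveI : Fact (Nat.Prime 11) := ⟨by norm_num⟩
  apply Cfsg.Agent.Helper4.SylFew.sylow_card_eq_prime_of_sq_not_dvd P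
  · rw [hc]; norm_num
  · rw [hc]; norm_num

/-- In a simple group with more than one Sylow `p`-subgroup the conjugation action on the Sylow
`p`-subgroups is faithful. -/
theorem eq_one_of_smul_sylow {G : Type*} [Group G] [Finite G] (hs : IsSimpleGroup G) (p : ℕ)
    [Fact p.Prime] (hn : Nat.card (Sylow p G) ≠ 1) (g : G)
    (hg : ∀ Q : Sylow p G, g • Q = Q) : g = 1 := by
  obtain ⟨K, hK⟩ : ∃ K : Subgroup G, K = (MulAction.toPermHom G (Sylow p G)).ker := ⟨_, rfl⟩
  haveI : K.Normal := by rw [hK]; infer_instance
  have hmemK : ∀ x : G, x ∈ K ↔ ∀ Q : Sylow p G, x • Q = Q := by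
    intro x
    rw [hK, MonoidHom.mem_ker]
    constructor
    · intro h Q
      have := congrArg (fun f : Equiv.Perm (Sylow p G) => f Q) h
      exact this
    · intro h
      apply Equiv.ext
      intro Q
      exact h Q
  rcases hs.eq_bot_or_eq_top_of_normal K inferInstance with hb | ht
  · have : g ∈ K := (hmemK g).2 hg
    rw [hb, Subgroup.mem_bot] at this
    exact this
  · exfalso
    apply hn
    obtain ⟨P⟩ : Nonempty (Sylow p G) := inferInstance
    rw [Nat.card_eq_one_iff_unique]
    refine ⟨⟨fun Q Q' => ?_⟩, ⟨P⟩⟩
    obtain ⟨x, hx⟩ := MulAction.exists_smul_eq G Q Q'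
    have hxK : x ∈ K := by rw [ht]; exact Subgroup.mem_top x
    rw [← hx, (hmemK x).1 hxK Q]

/-- A simple group of order 7920 has exactly 144 Sylow 11-subgroups. -/
theorem card_sylow11 {G : Type*} [Group G] [Finite G] (hs : IsSimpleGroup G)
    (hc : Nat.card G = 7920) : Nat.card (Sylow 11 G) = 144 := by
  classical
  haveI : Fact (Nat.Prime 11) := ⟨by norm_num⟩
  rcases card_sylow_eleven_cases hc with h | h | h | h
  · exfalso
    obtain ⟨P⟩ : Nonempty (Sylow 11 G) := inferInstance
    haveI : Subsingleton (Sylow 11 G) := (Nat.card_eq_one_iff_unique.1 h).1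
    have hn : (P : Subgroup G).Normal := Sylow.normal_of_subsingleton P
    have hP11 := card_sylow11_subgroup hc P
    rcases hs.eq_bot_or_eq_top_of_normal (P : Subgroup G) hn with hb | ht
    · rw [hb, Subgroup.card_bot] at hP11
      omega
    · rw [ht, Subgroup.card_top, hc] at hP11
      omega
  · exfalso
    obtain ⟨_, ⟨x, hx⟩, _⟩ := edges_of_small hc (Or.inr h)
    haveI : Fintype (Sylow 11 G) := Fintype.ofFinite _
    have hinj : Function.Injective (MulAction.toPermHom G (Sylow 11 G)) := by
      rw [injective_iff_map_eq_one]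
      intro g hg
      apply eq_one_of_smul_sylow hs 11 (by rw [h]; norm_num) g
      intro Q
      have := congrArg (fun f : Equiv.Perm (Sylow 11 G) => f Q) hg
      exact this
    have ho : orderOf (MulAction.toPermHom G (Sylow 11 G) x) = 33 := by
      rw [orderOf_injective _ hinj, hx]
    have hcard : Fintype.card (Sylow 11 G) = 12 := by
      rw [← Nat.card_eq_fintype_card, h]
    exact orderOf_perm_ne_33 hcard _ ho
  · exfalso
    apply false_of_faithful 4 (by rw [hc]; norm_num) h
    · exact fun g hg => eq_one_of_smul_sylow hs 11 (by rw [h]; norm_num) g hg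
    · intro H hH
      haveI : H.Normal := Subgroup.normal_of_index_eq_two hH
      rcases hs.eq_bot_or_eq_top_of_normal H inferInstance with hb | ht
      · rw [hb, Subgroup.index_bot, hc] at hH
        omega
      · rw [ht, Subgroup.index_top] at hH
        omega
  · exact h

/-- In a simple group of order 7920 the normalizer of a Sylow 11-subgroup has order 55. -/
theorem card_normalizer_sylow11 {G : Type*} [Group G] [Finite G] (hs : IsSimpleGroup G)
    (hc : Nat.card G = 7920) (P : Sylow 11 G) :
    Nat.card ↥(Subgroup.normalizer ((P : Subgroup G) : Set G)) = 55 := by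
  haveI : Fact (Nat.Prime 11) := ⟨by norm_num⟩
  have h1 := (Subgroup.normalizer ((P : Subgroup G) : Set G)).card_mul_index
  have h0 : Nat.card (Sylow 11 G) =
      (Subgroup.normalizer ((P : Subgroup G) : Set G)).index := P.card_eq_index_normalizer
  rw [← h0, card_sylow11 hs hc, hc] at h1
  omega

/-- In a simple group of order 7920 a Sylow 11-subgroup is self-centralizing. -/
theorem centralizer_sylow11 {G : Type*} [Group G] [Finite G] (hs : IsSimpleGroup G)
    (hc : Nat.card G = 7920) (P : Sylow 11 G) :
    Subgroup.centralizer ((P : Subgroup G) : Set G) = (P : Subgroup G) := by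
  haveI : Fact (Nat.Prime 11) := ⟨by norm_num⟩
  have hP11 := card_sylow11_subgroup hc P
  have hN := card_normalizer_sylow11 hs hc P
  have hrel := relIndex_centralizer_dvd (P : Subgroup G) hP11
  have hmul := card_centralizer_mul_relIndex (P : Subgroup G)
  rw [hN] at hmul
  have hPC := le_centralizer_of_card_eleven (P : Subgroup G) hP11
  have h11C : 11 ∣ Nat.card (Subgroup.centralizer ((P : Subgroup G) : Set G)) := by
    have := Subgroup.card_dvd_of_le hPC
    rwa [hP11] at this
  set r := (Subgroup.centralizer ((P : Subgroup G) : Set G)).relIndex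
    (Subgroup.normalizer ((P : Subgroup G) : Set G)) with hr
  set c := Nat.card (Subgroup.centralizer ((P : Subgroup G) : Set G)) with hcdef
  clear_value r c
  have hr10 : r ≤ 10 := Nat.le_of_dvd (by norm_num) hrel
  have hcases : c = 11 ∨ c = 55 := by
    obtain ⟨k, rfl⟩ := h11C
    interval_cases r <;> first | omega | (exfalso; revert hrel; decide)
  rcases hcases with h | h
  · symm
    apply Subgroup.eq_of_le_of_card_ge hPC
    rw [← hcdef, h, hP11]
  · exfalso
    have hCN : Subgroup.centralizer ((P : Subgroup G) : Set G) =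
        Subgroup.normalizer ((P : Subgroup G) : Set G) := by
      apply Subgroup.eq_of_le_of_card_ge (Subgroup.centralizer_le_normalizer _)
      rw [hN, ← hcdef, h]
    have hNC : Subgroup.normalizer ((P : Subgroup G) : Set G) ≤
        Subgroup.centralizer ((P : Subgroup G) : Set G) := hCN.ge
    obtain ⟨K, hK⟩ : ∃ K : Subgroup G, K = (MonoidHom.transferSylow P hNC).ker := ⟨_, rfl⟩
    haveI : K.Normal := by rw [hK]; infer_instance
    have hKidx : K.index = 11 := by
      rw [hK, (MonoidHom.ker_transferSylow_isComplement' P hNC).symm.index_eq_card, hP11]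
    rcases hs.eq_bot_or_eq_top_of_normal K inferInstance with hb | ht
    · rw [hb, Subgroup.index_bot, hc] at hKidx
      omega
    · rw [ht, Subgroup.index_top] at hKidx
      omega

end Cfsg.Agent.Helper2.M11
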