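import Cfsg.Agent.Helper4.MCDefs
import Cfsg.Agent.Helper8.RegularPA

/-!
# Blackburn project, piece C1: `℧₁(γ_i) ≤ γ_{i+p-1}` in a `p`-group of maximal class with a
uniform element

`agemo_gam_le_of` is the statement with the two facts it needs from other pieces as hypotheses
(`γ_i = ⊥` for `i ≥ n`, and `(s x)^p = s^p` for `x ∈ γ_2`); `gam_eq_bot_of_isMC` proves the first one
directly, so the exact stub `agemo_gam_le` only needs `IsUniform.mul_pow` (piece B2).
-/

set_option autoImplicit false

namespace Cfsg.Agent.Helper3.MC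

open scoped commutatorElement
open Cfsg.Agent.Helper8.HP (agemo hpMod)
open Cfsg.Agent.Helper4.MC

variable {G : Type*} [Group G]

theorem gam_antitone : Antitone (gam G) := fun i j h =>
  Subgroup.lowerCentralSeries_antitone _ (by omega)

theorem gam_normal (i : ℕ) : (gam G i).Normal := by
  unfold gam
  infer_instance

theorem gam_succ {i : ℕ} (hi : 1 ≤ i) : gam G (i + 1) = ⁅gam G i, (⊤ : Subgroup G)⁆ := by
  unfold gam
  obtain ⟨k, rfl⟩ : ∃ k, i = k + 1 := ⟨i - 1, by omega⟩
  simp [Subgroup.lowerCentralSeries_succ]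

theorem comm_mem_gam_succ_left {i : ℕ} (hi : 1 ≤ i) (g : G) {x : G} (hx : x ∈ gam G i) :
    ⁅x, g⁆ ∈ gam G (i + 1) := by
  rw [gam_succ hi]
  exact Subgroup.commutator_mem_commutator hx (Subgroup.mem_top g)

theorem comm_mem_gam_succ_right {i : ℕ} (hi : 1 ≤ i) (g : G) {x : G} (hx : x ∈ gam G i) :
    ⁅g, x⁆ ∈ gam G (i + 1) := by
  rw [← commutatorElement_inv]
  exact inv_mem (comm_mem_gam_succ_left hi g hx)

/-- `γ_k(⟨s,x⟩) ≤ γ_{i+k}(G)` for `x ∈ γ_i(G)`, `k ≥ 1`. -/
theorem lcs_closure_pair_le {i : ℕ} (hi : 1 ≤ i) (s : G) {x : G} (hx : x ∈ gam G i) :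
    ∀ k, 1 ≤ k → (Subgroup.closure ({s, x} : Set G)).lowerCentralSeries k ≤ gam G (i + k) := by
  intro k hk
  induction k, hk using Nat.le_induction with
  | base =>
    rw [Subgroup.lowerCentralSeries_succ, Subgroup.lowerCentralSeries_zero]
    refine Cfsg.Agent.Helper8.HP.commutator_closure_pair_le (fun k _ n hn => ?_)
      (comm_mem_gam_succ_right hi s hx)
    exact (gam_normal (G := G) (i + 1)).conj_mem n hn k
  | succ k hk ih =>
    rw [Subgroup.lowerCentralSeries_succ, show i + (k + 1) = (i + k) + 1 by omega,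
      gam_succ (by omega : 1 ≤ i + k)]
    exact Subgroup.commutator_mono ih le_top

/-- Piece C1 with its inputs as hypotheses. -/
theorem agemo_gam_le_of {p n : ℕ} (hp : p.Prime) (hbot : ∀ i, n ≤ i → gam G i = ⊥) {s : G}
    (hmul : ∀ x ∈ gam G 2, (s * x) ^ p = s ^ p) :
    ∀ i, 2 ≤ i → agemo p (gam G i) ≤ gam G (i + p - 1) := by
  have key : ∀ k i, 2 ≤ i → n ≤ i + k → agemo p (gam G i) ≤ gam G (i + p - 1) := by
    intro k
    induction k with
    | zero =>
      intro i _ hin
      have h : agemo p (gam G i) ≤ gam G i := Cfsg.Agent.Helper8.HP.agemo_le p (gam G i)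
      refine h.trans ?_
      rw [hbot i (by omega)]
      exact bot_le
    | succ k ih =>
      intro i hi hin
      have ih1 : agemo p (gam G (i + 1)) ≤ gam G (i + 1 + p - 1) :=
        ih (i + 1) (by omega) (by omega)
      have hp2 := hp.two_le
      unfold agemo
      rw [Subgroup.closure_le]
      rintro y ⟨x, hx, rfl⟩
      set L := Subgroup.closure ({s, x} : Set G) with hL
      have h := Cfsg.Agent.Helper8.HP.mul_pow_mod hp (L := L)
        (Cfsg.Agent.Helper8.HP.left_mem_closure_pair s x)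
        (Cfsg.Agent.Helper8.HP.right_mem_closure_pair s x)
      rw [hmul x (gam_antitone hi hx)] at h
      have e : (s ^ p * x ^ p)⁻¹ * s ^ p = (x ^ p)⁻¹ := by group
      rw [e] at h
      have hlcs := lcs_closure_pair_le (by omega : 1 ≤ i) s hx
      have hle : hpMod p L ≤ gam G (i + p - 1) := by
        unfold hpMod
        refine sup_le ?_ ?_
        · refine (Cfsg.Agent.Helper8.HP.agemo_mono p (hlcs 1 le_rfl)).trans (ih1.trans ?_)
          exact gam_antitone (by omega)
        · refine (hlcs (p - 1) (by omega)).trans ?_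
          exact gam_antitone (by omega)
      have := hle h
      simpa using inv_mem this
  intro i hi
  exact key n i hi (by omega)

/-- `γ_i = ⊥` for `i ≥ n` in a group of maximal class of order `p ^ n`. -/
theorem gam_eq_bot_of_isMC [Finite G] {p n : ℕ} [Fact p.Prime] (hG : IsMC p n G) {i : ℕ}
    (hi : n ≤ i) : gam G i = ⊥ := by
  have hnil : Group.IsNilpotent G := (IsPGroup.of_card hG.card).isNilpotent
  have h3 := hG.three_le
  unfold gam
  rw [Subgroup.lowerCentralSeries_eq_bot_iff_nilpotencyClass_le, hG.cls]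
  omega

/-- Piece C1 from `(s x)^p = s^p`. -/
theorem agemo_gam_le_of_mul_pow [Finite G] {p n : ℕ} [Fact p.Prime] (hG : IsMC p n G) {s : G}
    (hmul : ∀ x ∈ gam G 2, (s * x) ^ p = s ^ p) :
    ∀ i, 2 ≤ i → agemo p (gam G i) ≤ gam G (i + p - 1) :=
  agemo_gam_le_of (Fact.out : p.Prime) (fun _ hi => gam_eq_bot_of_isMC hG hi) hmul

end Cfsg.Agent.Helper3.MC
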