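import Mathlib
set_option autoImplicit false
namespace Cfsg.Agent.Helper3.PGroupLin

open Module

variable {K : Type*} [Field K] {G : Type*} [Group G] {V : Type*} [AddCommGroup V] [Module K V]

/-- A finite `p`-group acting linearly on a nontrivial vector space in characteristic `p`
fixes a nonzero vector. -/
theorem exists_fixed_ne_zero (p : ℕ) [Fact p.Prime] (hpK : (p : K) = 0) [Finite G]
    (hG : IsPGroup p G) (ρ : Representation K G V) [Nontrivial V] :
    ∃ v : V, v ≠ 0 ∧ ∀ g, ρ g v = v := by
  classical
  obtain ⟨u, hu⟩ := exists_ne (0 : V)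
  have hpV : ∀ x : V, p • x = 0 := fun x => by
    rw [← Nat.cast_smul_eq_nsmul K, hpK, zero_smul]
  haveI instZ : Module (ZMod p) V := AddCommGroup.zmodModule hpV
  let S : Submodule (ZMod p) V := Submodule.span (ZMod p) (Set.range fun g : G => ρ g u)
  have huS : u ∈ S := by
    apply Submodule.subset_span
    refine ⟨1, ?_⟩
    change ρ 1 u = u
    rw [map_one]; rfl
  have hfin : Finite S := by
    haveI : Module.Finite (ZMod p) S := Module.Finite.span_of_finite _ (Set.finite_range _)
    exact Module.finite_of_finite (ZMod p)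
  have hinv : ∀ g : G, ∀ x ∈ S, ρ g x ∈ S := by
    intro g x hx
    have : S.map (AddMonoidHom.toZModLinearMap p (ρ g : V →ₗ[K] V).toAddMonoidHom) ≤ S := by
      rw [Submodule.map_span]
      apply Submodule.span_le.2
      rintro _ ⟨_, ⟨h, rfl⟩, rfl⟩
      apply Submodule.subset_span
      refine ⟨g * h, ?_⟩
      simp [map_mul]
    exact this ⟨x, hx, rfl⟩
  letI : MulAction G S :=
    { smul := fun g x => ⟨ρ g x, hinv g x x.2⟩
      one_smul := fun x => by
        apply Subtype.ext
        change ρ 1 (x : V) = x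
        simp
      mul_smul := fun g h x => by
        apply Subtype.ext
        change ρ (g * h) (x : V) = ρ g (ρ h x)
        simp [map_mul] }
  have hsm : ∀ (g : G) (x : S), ((g • x : S) : V) = ρ g x := fun _ _ => rfl
  have hmod := hG.card_modEq_card_fixedPoints S
  have hdvd : p ∣ Nat.card S := by
    have h1 : addOrderOf (⟨u, huS⟩ : S) = p := by
      apply addOrderOf_eq_prime
      · apply Subtype.ext
        simpa using hpV u
      · intro h
        exact hu (congrArg Subtype.val h)
    have h2 := addOrderOf_dvd_natCard (⟨u, huS⟩ : S)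
    rwa [h1] at h2
  have hdvd2 : p ∣ Nat.card (MulAction.fixedPoints G S) := by
    have := hmod.symm
    exact (Nat.modEq_zero_iff_dvd.1 (this.trans (Nat.modEq_zero_iff_dvd.2 hdvd)))
  have h0 : (0 : S) ∈ MulAction.fixedPoints G S := by
    intro g
    apply Subtype.ext
    rw [hsm]
    simp
  haveI : Finite (MulAction.fixedPoints G S) := Subtype.finite
  have hcard : 1 < Nat.card (MulAction.fixedPoints G S) := by
    have hpos : 0 < Nat.card (MulAction.fixedPoints G S) := Nat.card_pos_iff.2 ⟨⟨⟨0, h0⟩⟩, inferInstance⟩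
    have := Nat.le_of_dvd hpos hdvd2
    exact lt_of_lt_of_le (Fact.out : p.Prime).one_lt this
  haveI := Finite.one_lt_card_iff_nontrivial.1 hcard
  obtain ⟨⟨x, hx⟩, hne⟩ := exists_ne (⟨0, h0⟩ : MulAction.fixedPoints G S)
  refine ⟨(x : V), ?_, ?_⟩
  · intro h
    apply hne
    apply Subtype.ext
    apply Subtype.ext
    simpa using h
  · intro g
    have := hx g
    rw [← hsm, this]


/-- The upper fixed-point series of a representation: `W 0 = ⊥`, and `W (i+1)` is the set of
vectors moved by every group element only within `W i`. -/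
def upperFix (ρ : Representation K G V) : ℕ → Submodule K V
  | 0 => ⊥
  | (i + 1) => ⨅ g : G, (upperFix ρ i).comap (ρ g - 1)

theorem mem_upperFix_succ (ρ : Representation K G V) (i : ℕ) (v : V) :
    v ∈ upperFix ρ (i + 1) ↔ ∀ g, ρ g v - v ∈ upperFix ρ i := by
  simp [upperFix, Submodule.mem_iInf]

theorem upperFix_zero (ρ : Representation K G V) : upperFix ρ 0 = ⊥ := rfl

theorem upperFix_inv (ρ : Representation K G V) (i : ℕ) (g : G) :
    upperFix ρ i ≤ (upperFix ρ i).comap (ρ g) := by
  induction i with
  | zero => simp [upperFix_zero]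
  | succ i ih =>
    intro v hv
    rw [Submodule.mem_comap, mem_upperFix_succ]
    rw [mem_upperFix_succ] at hv
    intro h
    have h1 := ih (hv (g⁻¹ * h * g))
    rw [Submodule.mem_comap] at h1
    have : ρ g (ρ (g⁻¹ * h * g) v - v) = ρ h (ρ g v) - ρ g v := by
      rw [map_sub]
      congr 1
      rw [← Module.End.mul_apply, ← map_mul]
      rw [← Module.End.mul_apply, ← map_mul]
      congr 2
      group
    rwa [this] at h1

theorem upperFix_le_succ (ρ : Representation K G V) (i : ℕ) :
    upperFix ρ i ≤ upperFix ρ (i + 1) := by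
  induction i with
  | zero => simp [upperFix_zero]
  | succ i ih =>
    intro v hv
    rw [mem_upperFix_succ] at hv ⊢
    exact fun g => ih (hv g)

theorem upperFix_mono (ρ : Representation K G V) : Monotone (upperFix ρ) :=
  monotone_nat_of_le_succ (upperFix_le_succ ρ)

theorem upperFix_lt (p : ℕ) [Fact p.Prime] (hpK : (p : K) = 0) [Finite G]
    (hG : IsPGroup p G) (ρ : Representation K G V) (i : ℕ) (hi : upperFix ρ i ≠ ⊤) :
    upperFix ρ i < upperFix ρ (i + 1) := by
  refine lt_of_le_of_ne (upperFix_le_succ ρ i) ?_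
  intro heq
  haveI : Nontrivial (V ⧸ upperFix ρ i) := Submodule.Quotient.nontrivial_iff.2 hi
  obtain ⟨vbar, hv0, hvfix⟩ := exists_fixed_ne_zero p hpK hG
    (ρ.quotient (upperFix ρ i) (upperFix_inv ρ i))
  obtain ⟨v, rfl⟩ := Submodule.Quotient.mk_surjective _ vbar
  apply hv0
  rw [Submodule.Quotient.mk_eq_zero, heq, mem_upperFix_succ]
  intro g
  have := hvfix g
  rw [Representation.quotient_apply, Submodule.mapQ_apply, ← sub_eq_zero, ← Submodule.Quotient.mk_sub,
    Submodule.Quotient.mk_eq_zero] at this
  exact this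

theorem upperFix_finrank (p : ℕ) [Fact p.Prime] (hpK : (p : K) = 0) [Finite G]
    (hG : IsPGroup p G) [FiniteDimensional K V] (ρ : Representation K G V) (i : ℕ) :
    upperFix ρ i = ⊤ ∨ i ≤ finrank K (upperFix ρ i) := by
  induction i with
  | zero => right; exact Nat.zero_le _
  | succ i ih =>
    rcases ih with h | h
    · left
      exact top_le_iff.1 (h ▸ upperFix_le_succ ρ i)
    · by_cases hi : upperFix ρ i = ⊤
      · left
        exact top_le_iff.1 (hi ▸ upperFix_le_succ ρ i)
      · right
        have := Submodule.finrank_lt_finrank_of_lt (upperFix_lt p hpK hG ρ i hi)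
        omega

theorem upperFix_eq_top (p : ℕ) [Fact p.Prime] (hpK : (p : K) = 0) [Finite G]
    (hG : IsPGroup p G) [FiniteDimensional K V] (ρ : Representation K G V) :
    upperFix ρ (finrank K V) = ⊤ := by
  rcases upperFix_finrank p hpK hG ρ (finrank K V) with h | h
  · exact h
  · exact Submodule.eq_top_of_finrank_eq (le_antisymm (Submodule.finrank_le _) h)


/-- Elements lowering the upper fixed-point series by `m` steps. -/
def lowerSub (ρ : Representation K G V) (m : ℕ) : Subgroup G where
  carrier := {g | ∀ i, ∀ v ∈ upperFix ρ i, ρ g v - v ∈ upperFix ρ (i - m)}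
  one_mem' := by
    intro i v _
    simp
  mul_mem' := by
    intro a b ha hb i v hv
    have h1 : ρ (a * b) v - v = ρ a (ρ b v - v) + (ρ a v - v) := by
      rw [map_mul, Module.End.mul_apply, map_sub]
      abel
    rw [h1]
    exact Submodule.add_mem _ (upperFix_inv ρ _ a (hb i v hv)) (ha i v hv)
  inv_mem' := by
    intro a ha i v hv
    have h1 : ρ a⁻¹ v - v = - ρ a⁻¹ (ρ a v - v) := by
      rw [map_sub, ← Module.End.mul_apply, ← map_mul]
      simp
    rw [h1]
    exact Submodule.neg_mem _ (upperFix_inv ρ _ a⁻¹ (ha i v hv))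

theorem mem_lowerSub (ρ : Representation K G V) (m : ℕ) (g : G) :
    g ∈ lowerSub ρ m ↔ ∀ i, ∀ v ∈ upperFix ρ i, ρ g v - v ∈ upperFix ρ (i - m) := Iff.rfl

theorem lowerSub_one (ρ : Representation K G V) : lowerSub ρ 1 = ⊤ := by
  rw [eq_top_iff]
  intro g _ i v hv
  rcases i with _ | i
  · rw [upperFix_zero, Submodule.mem_bot] at hv
    subst hv
    simp
  · rw [mem_upperFix_succ] at hv
    simpa using hv g

open scoped commutatorElement in
theorem commutator_lowerSub_le (ρ : Representation K G V) (m m' : ℕ) :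
    ⁅lowerSub ρ m, lowerSub ρ m'⁆ ≤ lowerSub ρ (m + m') := by
  rw [Subgroup.commutator_le]
  intro a ha b hb i v hv
  obtain ⟨v', hv'mem, hv2⟩ : ∃ v', v' ∈ upperFix ρ i ∧ v = ρ (b * a) v' := by
    refine ⟨ρ (b * a)⁻¹ v, upperFix_inv ρ i _ hv, ?_⟩
    rw [← Module.End.mul_apply, ← map_mul]
    simp
  have h1 : ρ ⁅a, b⁆ v - v = ρ a (ρ b v') - ρ b (ρ a v') := by
    have e : ⁅a, b⁆ * (b * a) = a * b := by
      rw [commutatorElement_def]
      group
    rw [hv2, ← Module.End.mul_apply, ← map_mul, e, map_mul, map_mul]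
    rfl
  have h2 : ρ a (ρ b v') - ρ b (ρ a v') =
      (ρ a (ρ b v' - v') - (ρ b v' - v')) - (ρ b (ρ a v' - v') - (ρ a v' - v')) := by
    rw [map_sub, map_sub]
    abel
  rw [h1, h2]
  apply Submodule.sub_mem
  · have := ha _ _ (hb i v' hv'mem)
    have e : i - m' - m = i - (m + m') := by omega
    rwa [e] at this
  · have := hb _ _ (ha i v' hv'mem)
    have e : i - m - m' = i - (m + m') := by omega
    rwa [e] at this

theorem derivedSeries_le_lowerSub (ρ : Representation K G V) (k : ℕ) :
    derivedSeries G k ≤ lowerSub ρ (2 ^ k) := by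
  induction k with
  | zero => simp [lowerSub_one]
  | succ k ih =>
    rw [derivedSeries_succ]
    refine (Subgroup.commutator_mono ih ih).trans ?_
    have : 2 ^ (k + 1) = 2 ^ k + 2 ^ k := by ring
    rw [this]
    exact commutator_lowerSub_le ρ _ _

/-- **Unitriangular bound**: a finite `p`-group acting on an `n`-dimensional space in
characteristic `p` has `k`-th derived subgroup acting trivially once `n ≤ 2 ^ k`. -/
theorem derivedSeries_le_ker_of_char (p : ℕ) [Fact p.Prime] (hpK : (p : K) = 0) [Finite G]
    (hG : IsPGroup p G) [FiniteDimensional K V] (ρ : Representation K G V) (k : ℕ)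
    (hk : finrank K V ≤ 2 ^ k) (g : G) (hg : g ∈ derivedSeries G k) : ρ g = 1 := by
  have h1 := derivedSeries_le_lowerSub ρ k hg
  refine LinearMap.ext fun v => ?_
  have hv : v ∈ upperFix ρ (finrank K V) := by
    rw [upperFix_eq_top p hpK hG ρ]; trivial
  have := h1 _ v hv
  rw [Nat.sub_eq_zero_of_le hk, upperFix_zero, Submodule.mem_bot, sub_eq_zero] at this
  simpa using this

end Cfsg.Agent.Helper3.PGroupLin
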