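import Mathlib
import Cfsg.Agent.Helper3.PGroupLinA
set_option autoImplicit false
namespace Cfsg.Agent.Helper3.PGroupLin

open Module

section
variable {K : Type*} [Field K] {G : Type*} [Group G] {V : Type*} [AddCommGroup V] [Module K V]

/-- A `p`-element acting trivially on `W` and on `V ⧸ W` acts trivially when `p ≠ 0` in `K`. -/
theorem eq_one_of_unipotent (p : ℕ) (hpK : (p : K) ≠ 0) (hG : IsPGroup p G)
    (ρ : Representation K G V) (g : G) (W : Submodule K V) (h1 : ∀ w ∈ W, ρ g w = w)
    (h2 : ∀ v, ρ g v - v ∈ W) : ρ g = 1 := by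
  set N : Module.End K V := ρ g - 1 with hN
  have hNN : N * N = 0 := by
    refine LinearMap.ext fun v => ?_
    have hv : N v ∈ W := by
      simpa [hN] using h2 v
    have : ρ g (N v) = N v := h1 _ hv
    simp only [Module.End.mul_apply, LinearMap.zero_apply]
    rw [hN, LinearMap.sub_apply, Module.End.one_apply, ← hN, this, sub_self]
  have hg : ρ g = 1 + N := by rw [hN]; abel
  have hpow : ∀ m : ℕ, (ρ g) ^ m = 1 + (m : K) • N := by
    intro m
    induction m with
    | zero => simp
    | succ m ih =>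
      rw [pow_succ, ih, hg, mul_add, mul_one, add_mul, one_mul, smul_mul_assoc, hNN, smul_zero,
        add_zero, Nat.cast_succ, add_smul, one_smul]
      abel
  obtain ⟨j, hj⟩ := hG g
  have h3 : (ρ g) ^ (p ^ j) = 1 := by rw [← map_pow, hj, map_one]
  rw [hpow] at h3
  have h4 : ((p ^ j : ℕ) : K) • N = 0 := by
    simpa using h3
  have h5 : ((p ^ j : ℕ) : K) ≠ 0 := by
    rw [Nat.cast_pow]
    exact pow_ne_zero _ hpK
  have h6 : N = 0 := (smul_eq_zero.1 h4).resolve_left h5
  rw [hg, h6, add_zero]

/-- Elements of `G` that are central modulo the kernel of `ρ`. -/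
def centralSub (ρ : Representation K G V) : Subgroup G where
  carrier := {x | ∀ h, ρ (x * h) = ρ (h * x)}
  one_mem' := by intro h; simp
  mul_mem' := by
    intro x y hx hy h
    calc ρ (x * y * h) = ρ x * ρ (y * h) := by rw [mul_assoc, map_mul]
      _ = ρ x * ρ (h * y) := by rw [hy h]
      _ = ρ (x * h) * ρ y := by rw [map_mul, map_mul, mul_assoc]
      _ = ρ (h * x) * ρ y := by rw [hx h]
      _ = ρ (h * (x * y)) := by rw [← map_mul, mul_assoc]
  inv_mem' := by
    intro x hx h
    calc ρ (x⁻¹ * h) = ρ (x⁻¹ * (h * x) * x⁻¹) := by congr 1; group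
      _ = ρ x⁻¹ * ρ (h * x) * ρ x⁻¹ := by rw [map_mul, map_mul]
      _ = ρ x⁻¹ * ρ (x * h) * ρ x⁻¹ := by rw [hx h]
      _ = ρ (x⁻¹ * (x * h) * x⁻¹) := by rw [map_mul (f := ρ) (x⁻¹ * (x * h)), map_mul (f := ρ) x⁻¹]
      _ = ρ (h * x⁻¹) := by congr 1; group

theorem mem_centralSub (ρ : Representation K G V) (x : G) :
    x ∈ centralSub ρ ↔ ∀ h, ρ (x * h) = ρ (h * x) := Iff.rfl

instance centralSub_normal (ρ : Representation K G V) : (centralSub ρ).Normal := by
  constructor
  intro x hx g h
  calc ρ (g * x * g⁻¹ * h) = ρ g * ρ (x * (g⁻¹ * h)) := by rw [← map_mul]; congr 1; group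
    _ = ρ g * ρ (g⁻¹ * h * x) := by rw [hx]
    _ = ρ (h * g) * ρ (g⁻¹ * x) := by rw [← map_mul, ← map_mul]; congr 1; group
    _ = ρ (h * g) * ρ (x * g⁻¹) := by rw [hx]
    _ = ρ (h * (g * x * g⁻¹)) := by rw [← map_mul]; congr 1; group

/-- The relation defining irreducibility that we use. -/
def Irred (ρ : Representation K G V) : Prop :=
  ∀ W : Submodule K V, (∀ g, W ≤ W.comap (ρ g)) → W = ⊥ ∨ W = ⊤

/-- Schur: over an algebraically closed field, elements central modulo the kernel act as scalars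
on an irreducible representation. -/
theorem exists_scalar [IsAlgClosed K] [FiniteDimensional K V] [Nontrivial V]
    (ρ : Representation K G V) (hirr : Irred ρ) (c : G) (hc : c ∈ centralSub ρ) :
    ∃ z : K, ρ c = z • (1 : Module.End K V) := by
  obtain ⟨z, hz⟩ := Module.End.exists_eigenvalue (ρ c)
  refine ⟨z, ?_⟩
  have hinv : ∀ g, Module.End.eigenspace (ρ c) z ≤ (Module.End.eigenspace (ρ c) z).comap (ρ g) := by
    intro g v hv
    rw [Submodule.mem_comap, Module.End.mem_eigenspace_iff]
    rw [Module.End.mem_eigenspace_iff] at hv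
    rw [← Module.End.mul_apply, ← map_mul, hc g, map_mul, Module.End.mul_apply, hv, map_smul]
  rcases hirr _ hinv with h | h
  · exact absurd h hz
  · refine LinearMap.ext fun v => ?_
    have : v ∈ Module.End.eigenspace (ρ c) z := by rw [h]; trivial
    rw [Module.End.mem_eigenspace_iff] at this
    simpa using this

end

/-- If `G' ≤ H` then the derived series of `G` is, after one step, inside that of `H`. -/
theorem derivedSeries_succ_le_map {G : Type*} [Group G] (H : Subgroup G)
    (hH : commutator G ≤ H) (j : ℕ) :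
    derivedSeries G (j + 1) ≤ (derivedSeries H j).map H.subtype := by
  induction j with
  | zero =>
    rw [derivedSeries_one, derivedSeries_zero, ← MonoidHom.range_eq_map, Subgroup.range_subtype]
    exact hH
  | succ j ih =>
    rw [derivedSeries_succ, derivedSeries_succ (G := H) j, Subgroup.map_commutator]
    exact Subgroup.commutator_mono ih ih


section
variable {K : Type*} [Field K] {G : Type*} [Group G] {V : Type*} [AddCommGroup V] [Module K V]

open scoped commutatorElement in
/-- Structure of a nonabelian irreducible action of a `p`-group over an algebraically closed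
field: there is a subgroup `M ≥ G'` and a family of `M`-invariant subspaces of common dimension
`d ≤ n / 2` spanning `V`. -/
theorem irreducible_step [IsAlgClosed K] [FiniteDimensional K V] [Nontrivial V]
    (p : ℕ) [Fact p.Prime] [Finite G] (hG : IsPGroup p G)
    (ρ : Representation K G V) (hirr : Irred ρ)
    (hnab : ¬ ∀ x y : G, ρ (x * y) = ρ (y * x)) :
    ∃ (M : Subgroup G) (d : ℕ), commutator G ≤ M ∧ 1 ≤ d ∧ 2 * d ≤ finrank K V ∧
      ∃ (E : G → Submodule K V), (⨆ i, E i = ⊤) ∧ (∀ i, finrank K (E i) = d) ∧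
        ∀ i, ∀ h ∈ M, E i ≤ (E i).comap (ρ h) := by
  classical
  have hC : centralSub ρ ≠ ⊤ := by
    intro h
    apply hnab
    intro x y
    have : x ∈ centralSub ρ := by rw [h]; trivial
    exact this y
  haveI : Nontrivial (G ⧸ centralSub ρ) := by
    rw [← not_subsingleton_iff_nontrivial]
    intro hss
    apply hC
    rw [eq_top_iff]
    intro x _
    rw [← QuotientGroup.eq_one_iff]
    exact Subsingleton.elim _ _
  have hq : IsPGroup p (G ⧸ centralSub ρ) := hG.to_quotient _
  haveI := hq.center_nontrivial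
  obtain ⟨⟨xbar, hx⟩, hne⟩ := exists_ne (1 : Subgroup.center (G ⧸ centralSub ρ))
  obtain ⟨a, rfl⟩ := QuotientGroup.mk_surjective xbar
  have ha : a ∉ centralSub ρ := by
    intro h
    apply hne
    apply Subtype.ext
    exact (QuotientGroup.eq_one_iff a).2 h
  have hF1 : ∀ g, ⁅a, g⁆ ∈ centralSub ρ := by
    intro g
    rw [← QuotientGroup.eq_one_iff, commutatorElement_def]
    have := Subgroup.mem_center_iff.1 hx (g : G ⧸ centralSub ρ)
    simp only [QuotientGroup.mk_mul, QuotientGroup.mk_inv]
    rw [← this]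
    group
  choose ζ hζ using fun g => exists_scalar ρ hirr ⁅a, g⁆ (hF1 g)
  have hstar : ∀ g, ρ a * ρ g = ζ g • (ρ g * ρ a) := by
    intro g
    have e : ⁅a, g⁆ * (g * a) = a * g := by rw [commutatorElement_def]; group
    rw [← map_mul, ← e, map_mul, hζ, smul_mul_assoc, one_mul, map_mul]
  have hcancel : ∀ (c c' : K) (x : G), c • ρ x = c' • ρ x → c = c' := by
    intro c c' x h
    obtain ⟨v, hv⟩ := exists_ne (0 : V)
    have h1 : (c • ρ x) (ρ x⁻¹ v) = (c' • ρ x) (ρ x⁻¹ v) := by rw [h]
    simp only [LinearMap.smul_apply] at h1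
    rw [← Module.End.mul_apply, ← map_mul, mul_inv_cancel, map_one, Module.End.one_apply] at h1
    by_contra hcc
    have : (c - c') • v = 0 := by rw [sub_smul, h1, sub_self]
    rcases smul_eq_zero.1 this with h2 | h2
    · exact hcc (sub_eq_zero.1 h2)
    · exact hv h2
  have hζ1 : ζ 1 = 1 := by
    have := hstar 1
    rw [map_one, mul_one, one_mul] at this
    exact (hcancel 1 (ζ 1) a (by rw [one_smul]; exact this)).symm
  have hζmul : ∀ g h, ζ (g * h) = ζ g * ζ h := by
    intro g h
    apply hcancel _ _ (g * h * a)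
    have h1 := hstar (g * h)
    have h2 := hstar g
    have h3 := hstar h
    calc ζ (g * h) • ρ (g * h * a) = ρ a * ρ (g * h) := by
          rw [h1, map_mul (f := ρ) (g * h) a]
      _ = (ρ a * ρ g) * ρ h := by rw [map_mul, mul_assoc]
      _ = ζ g • (ρ g * (ρ a * ρ h)) := by rw [h2, smul_mul_assoc, mul_assoc]
      _ = (ζ g * ζ h) • ρ (g * h * a) := by
          rw [h3, mul_smul_comm, smul_smul, map_mul, map_mul, mul_assoc]
  have hζinv : ∀ g, ζ g * ζ g⁻¹ = 1 := by
    intro g
    rw [← hζmul, mul_inv_cancel, hζ1]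
  let ζhom : G →* K := { toFun := ζ, map_one' := hζ1, map_mul' := hζmul }
  have hζhom : ∀ g, ζhom g = ζ g := fun _ => rfl
  have hMcomm : ∀ m, ζ m = 1 → ρ a * ρ m = ρ m * ρ a := by
    intro m hm
    rw [hstar m, hm, one_smul]
  obtain ⟨μ, hμ⟩ := Module.End.exists_eigenvalue (ρ a)
  have hμ0 : μ ≠ 0 := by
    intro h0
    obtain ⟨v, hv, hv0⟩ := hμ.exists_hasEigenvector
    rw [Module.End.mem_eigenspace_iff, h0, zero_smul] at hv
    apply hv0
    have : ρ a⁻¹ (ρ a v) = v := by
      rw [← Module.End.mul_apply, ← map_mul, inv_mul_cancel, map_one, Module.End.one_apply]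
    rw [← this, hv, map_zero]
  set E : Submodule K V := Module.End.eigenspace (ρ a) μ with hE
  have hEne : E ≠ ⊥ := hμ
  have hinj : ∀ g, Function.Injective (ρ g) := fun g => (ρ.apply_bijective g).1
  have hE'le : ∀ g, E.map (ρ g) ≤ Module.End.eigenspace (ρ a) (ζ g * μ) := by
    rintro g _ ⟨v, hv, rfl⟩
    rw [Module.End.mem_eigenspace_iff]
    have hv' : ρ a v = μ • v := Module.End.mem_eigenspace_iff.1 hv
    rw [← Module.End.mul_apply, hstar g, LinearMap.smul_apply, Module.End.mul_apply, hv', map_smul,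
      smul_smul]
  have hEinv : ∀ m, ζ m = 1 → ∀ v ∈ E, ρ m v ∈ E := by
    intro m hm v hv
    rw [hE, Module.End.mem_eigenspace_iff] at hv ⊢
    rw [← Module.End.mul_apply, hMcomm m hm, Module.End.mul_apply, hv, map_smul]
  refine ⟨ζhom.ker, finrank K E, ?_, ?_, ?_, fun g => E.map (ρ g), ?_, ?_, ?_⟩
  · rw [commutator_def, Subgroup.commutator_le]
    intro x _ y _
    rw [MonoidHom.mem_ker, hζhom, commutatorElement_def, hζmul, hζmul, hζmul]
    calc ζ x * ζ y * ζ x⁻¹ * ζ y⁻¹ = (ζ x * ζ x⁻¹) * (ζ y * ζ y⁻¹) := by ring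
      _ = 1 := by rw [hζinv, hζinv, one_mul]
  · rw [Nat.one_le_iff_ne_zero]
    intro h
    exact hEne (Submodule.finrank_eq_zero.1 h)
  · -- two disjoint copies
    obtain ⟨g₀, hg₀⟩ : ∃ g₀, ζ g₀ ≠ 1 := by
      by_contra hall
      push Not at hall
      apply ha
      intro h
      rw [map_mul, map_mul, hMcomm h (hall h)]
    have hne2 : μ ≠ ζ g₀ * μ := by
      intro h
      apply hg₀
      have : (1 - ζ g₀) * μ = 0 := by rw [sub_mul, one_mul, ← h, sub_self]
      rcases mul_eq_zero.1 this with h1 | h1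
      · exact (sub_eq_zero.1 h1).symm
      · exact absurd h1 hμ0
    have hdis : Disjoint E (E.map (ρ g₀)) :=
      ((Module.End.eigenspaces_iSupIndep (ρ a)).pairwiseDisjoint hne2).mono_right (hE'le g₀)
    have h1 := Submodule.finrank_add_finrank_le_of_disjoint hdis
    have h2 : finrank K (E.map (ρ g₀)) = finrank K E :=
      (Submodule.equivMapOfInjective (ρ g₀) (hinj g₀) E).finrank_eq.symm
    omega
  · -- sum is everything
    have hinvW : ∀ h, (⨆ g, E.map (ρ g)) ≤ (⨆ g, E.map (ρ g)).comap (ρ h) := by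
      intro h
      rw [← Submodule.map_le_iff_le_comap, Submodule.map_iSup]
      apply iSup_le
      intro g
      rw [← Submodule.map_comp]
      have : (ρ h) ∘ₗ (ρ g) = ρ (h * g) := by rw [map_mul]; rfl
      rw [this]
      exact le_iSup (fun g => E.map (ρ g)) (h * g)
    rcases hirr _ hinvW with h | h
    · exfalso
      apply hEne
      rw [eq_bot_iff, ← h]
      refine le_trans ?_ (le_iSup (fun g => E.map (ρ g)) 1)
      rw [map_one]
      intro v hv
      exact ⟨v, hv, rfl⟩
    · exact h
  · intro g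
    exact (Submodule.equivMapOfInjective (ρ g) (hinj g) E).finrank_eq.symm
  · rintro g h hh _ ⟨w, hw, rfl⟩
    rw [Submodule.mem_comap]
    rw [MonoidHom.mem_ker, hζhom] at hh
    have hm : ζ (g⁻¹ * h * g) = 1 := by
      rw [hζmul, hζmul, hh, mul_one, mul_comm, hζinv]
    refine ⟨ρ (g⁻¹ * h * g) w, hEinv _ hm w hw, ?_⟩
    rw [← Module.End.mul_apply, ← map_mul, ← Module.End.mul_apply, ← map_mul]
    congr 2
    group

end

end Cfsg.Agent.Helper3.PGroupLin
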