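import Mathlib
import Cfsg.Agent.Helper3.PGroupLinB
set_option autoImplicit false
namespace Cfsg.Agent.Helper3.PGroupLin

open Module

universe u v w

/-- **Derived length of linear `p`-groups**: a finite `p`-group acting on an `n`-dimensional
space over an algebraically closed field has `(log₂ n + 1)`-st derived subgroup in the kernel. -/
theorem derivedSeries_le_ker (K : Type u) [Field K] [IsAlgClosed K] (p : ℕ) [Fact p.Prime] :
    ∀ (n : ℕ) (V : Type v) [AddCommGroup V] [Module K V] [FiniteDimensional K V]
      (G : Type w) [Group G] [Finite G] (_ : IsPGroup p G) (ρ : Representation K G V),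
      finrank K V = n → ∀ g ∈ derivedSeries G (Nat.log 2 n + 1), ρ g = 1 := by
  intro n
  induction n using Nat.strong_induction_on with
  | _ n ih =>
  intro V _ _ _ G _ _ hG ρ hn g hg
  by_cases hpK : (p : K) = 0
  · exact derivedSeries_le_ker_of_char p hpK hG ρ _
      (by rw [hn]; exact (Nat.lt_pow_succ_log_self (by norm_num) n).le) g hg
  by_cases hred : ∃ W : Submodule K V, (∀ g, W ≤ W.comap (ρ g)) ∧ W ≠ ⊥ ∧ W ≠ ⊤
  · obtain ⟨W, hW, hWb, hWt⟩ := hred
    have hsum := Submodule.finrank_quotient_add_finrank W
    have ha : 1 ≤ finrank K W := by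
      rw [Nat.one_le_iff_ne_zero]
      intro h
      exact hWb (Submodule.finrank_eq_zero.1 h)
    have hb : 1 ≤ finrank K (V ⧸ W) := by
      rw [Nat.one_le_iff_ne_zero]
      intro h
      apply hWt
      apply Submodule.eq_top_of_finrank_eq
      omega
    have hmono : ∀ m, m ≤ n → g ∈ derivedSeries G (Nat.log 2 m + 1) := fun m hm =>
      derivedSeries_antitone G (Nat.succ_le_succ (Nat.log_mono_right hm)) hg
    have h1 := ih (finrank K W) (by omega) W G hG (ρ.subrepresentation W hW) rfl g
      (hmono _ (by omega))
    have h2 := ih (finrank K (V ⧸ W)) (by omega) (V ⧸ W) G hG (ρ.quotient W hW) rfl g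
      (hmono _ (by omega))
    apply eq_one_of_unipotent p hpK hG ρ g W
    · intro w hw
      have := congrArg (fun f => ((f ⟨w, hw⟩ : W) : V)) h1
      simpa using this
    · intro v
      have := LinearMap.congr_fun h2 (Submodule.Quotient.mk v)
      rw [Representation.quotient_apply, Submodule.mapQ_apply, Module.End.one_apply, ← sub_eq_zero,
        ← Submodule.Quotient.mk_sub, Submodule.Quotient.mk_eq_zero] at this
      exact this
  · have hirr : Irred ρ := by
      intro W hW
      by_contra h
      push Not at h
      exact hred ⟨W, hW, h.1, h.2⟩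
    rcases Nat.eq_zero_or_pos n with h0 | hpos
    · haveI : Subsingleton V := by
        rw [← hn] at h0
        exact Module.finrank_zero_iff.1 h0
      exact LinearMap.ext fun v => Subsingleton.elim _ _
    haveI : Nontrivial V := Module.nontrivial_of_finrank_pos (R := K) (by omega)
    by_cases hab : ∀ x y : G, ρ (x * y) = ρ (y * x)
    · have hker : commutator G ≤ ρ.ker := by
        rw [commutator_def, Subgroup.commutator_le]
        intro x _ y _
        rw [MonoidHom.mem_ker, commutatorElement_def]
        calc ρ (x * y * x⁻¹ * y⁻¹) = ρ (x * y) * ρ (x⁻¹ * y⁻¹) := by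
              rw [← map_mul]; congr 1; group
          _ = ρ (y * x) * ρ (x⁻¹ * y⁻¹) := by rw [hab]
          _ = 1 := by
              rw [← map_mul]
              have : y * x * (x⁻¹ * y⁻¹) = 1 := by group
              rw [this, map_one]
      have h1 : derivedSeries G (Nat.log 2 n + 1) ≤ derivedSeries G 1 :=
        derivedSeries_antitone G (by omega)
      have h2 := h1 hg
      rw [derivedSeries_one] at h2
      exact MonoidHom.mem_ker.1 (hker h2)
    · obtain ⟨M, d, hM, hd1, hd2, E, hEtop, hEd, hEinv⟩ := irreducible_step p hG ρ hirr hab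
      have hdn : d < n := by omega
      have key : ∀ y ∈ derivedSeries M (Nat.log 2 d + 1), ρ (y : G) = 1 := by
        intro y hy
        have hfix : ∀ i, E i ≤ LinearMap.ker (ρ (y : G) - 1) := by
          intro i v hv
          have h3 := ih d hdn (E i) M (hG.to_subgroup M)
            (Representation.subrepresentation (G := M) (ρ.comp M.subtype) (E i)
              (fun h => hEinv i h h.2)) (hEd i) y hy
          have h4 : ρ (y : G) v = v := congrArg (fun f => ((f ⟨v, hv⟩ : E i) : V)) h3
          rw [LinearMap.mem_ker, LinearMap.sub_apply, Module.End.one_apply, sub_eq_zero]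
          exact h4
        have htop : (⊤ : Submodule K V) ≤ LinearMap.ker (ρ (y : G) - 1) := by
          rw [← hEtop]; exact iSup_le hfix
        refine LinearMap.ext fun v => ?_
        have h5 := htop (Submodule.mem_top : v ∈ ⊤)
        rw [LinearMap.mem_ker, LinearMap.sub_apply, sub_eq_zero] at h5
        exact h5
      have hlog : Nat.log 2 d + 1 ≤ Nat.log 2 n := by
        have h6 : Nat.log 2 (d * 2) = Nat.log 2 d + 1 := Nat.log_mul_base (by norm_num) (by omega)
        rw [← h6]
        exact Nat.log_mono_right (by omega)
      have h1 : g ∈ derivedSeries G (Nat.log 2 d + 1 + 1) :=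
        derivedSeries_antitone G (by omega) hg
      obtain ⟨y, hy, rfl⟩ := derivedSeries_succ_le_map M hM _ h1
      exact key y hy

end Cfsg.Agent.Helper3.PGroupLin
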