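import Mathlib
import Cfsg.Agent.Lead.FusionStrongInvD
import Cfsg.Agent.Lead.FusionKNorm6
import Cfsg.Agent.Lead.FusionHypAct
import Cfsg.Agent.Lead.FusionInvariant
import Cfsg.Agent.Lead.FusionWeak

set_option autoImplicit false
open Cfsg

namespace Cfsg.Agent.Helper3.DirFac

open Cfsg.Agent.Lead Cfsg.FusionSystem

variable {Ω : Type*} [Group Ω] {S : Subgroup Ω}

/-- Elements of a join of two elementwise commuting subgroups are products. -/
theorem exists_mul_of_mem_sup {A B : Subgroup Ω} (hc : ∀ a ∈ A, ∀ b ∈ B, a * b = b * a)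
    {g : Ω} (hg : g ∈ A ⊔ B) : ∃ a ∈ A, ∃ b ∈ B, g = a * b := by
  rw [Subgroup.sup_eq_closure] at hg
  induction hg using Subgroup.closure_induction with
  | mem x hx =>
    rcases hx with hx | hx
    · exact ⟨x, hx, 1, B.one_mem, by rw [mul_one]⟩
    · exact ⟨1, A.one_mem, x, hx, by rw [one_mul]⟩
  | one => exact ⟨1, A.one_mem, 1, B.one_mem, by rw [mul_one]⟩
  | mul x y _ _ ihx ihy =>
    obtain ⟨a, ha, b, hb, rfl⟩ := ihx
    obtain ⟨a', ha', b', hb', rfl⟩ := ihy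
    refine ⟨a * a', A.mul_mem ha ha', b * b', B.mul_mem hb hb', ?_⟩
    have := hc a' ha' b hb
    calc a * b * (a' * b') = a * (b * a') * b' := by group
      _ = a * (a' * b) * b' := by rw [this]
      _ = a * a' * (b * b') := by group
  | inv x _ ih =>
    obtain ⟨a, ha, b, hb, rfl⟩ := ih
    refine ⟨a⁻¹, A.inv_mem ha, b⁻¹, B.inv_mem hb, ?_⟩
    have := hc a ha b hb
    rw [mul_inv_rev]
    have h2 : b⁻¹ * a⁻¹ = (a * b)⁻¹ := by group
    have h3 : a⁻¹ * b⁻¹ = (b * a)⁻¹ := by group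
    rw [h2, h3, this]

/-- The full subsystem of a saturated system on a strongly closed subgroup `T` with
`S = T C_S(T)` is saturated. -/
theorem full_isSaturated (p : ℕ) (F : FusionSystem S) (hF : F.IsSaturated p) (T : Subgroup Ω)
    (hT : F.StronglyClosed T)
    (hdec : ∀ g ∈ S, ∃ t ∈ T, ∃ c : Ω, (∀ x ∈ T, c * x = x * c) ∧ g = t * c)
    (R : FusionSystem T) (hR : ∀ P : Subgroup Ω, P ≤ T → R.Hom P = F.Hom P) :
    R.IsSaturated p := by
  intro P hPT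
  obtain ⟨Q, ⟨φ, hφ, hrange⟩, hfa, hrec⟩ := hF P (hPT.trans hT.1)
  have hQT : Q ≤ T := by
    rw [← hrange]
    rintro _ ⟨x, rfl⟩
    exact hT.2 P hPT φ hφ x
  refine ⟨Q, ⟨φ, by rw [hR P hPT]; exact hφ, hrange⟩, ⟨hQT, ?_⟩, ⟨hQT, ?_⟩⟩
  · have hA : R.autGroup Q = F.autGroup Q := by
      unfold FusionSystem.autGroup
      rw [hR Q hQT]
    have hB : autInducedBy T Q = autInducedBy S Q := by
      unfold autInducedBy
      congr 1
      ext α
      constructor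
      · rintro ⟨g, hg, h⟩
        exact ⟨g, hT.1 hg, h⟩
      · rintro ⟨g, hg, h⟩
        obtain ⟨t, ht, c, hc, rfl⟩ := hdec g hg
        refine ⟨t, ht, fun x => ?_⟩
        rw [h x]
        have h1 := hc (x : Ω) (hQT x.2)
        calc t * c * (x : Ω) * (t * c)⁻¹ = t * (c * (x : Ω)) * c⁻¹ * t⁻¹ := by group
          _ = t * ((x : Ω) * c) * c⁻¹ * t⁻¹ := by rw [h1]
          _ = t * (x : Ω) * t⁻¹ := by group
    rw [hA, hB]
    exact hfa.2
  · intro P' φ' hφ' hr'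
    have hP'T : P' ≤ T := (R.le_of_mem hφ').1
    have hφ'F : φ' ∈ F.Hom P' := by rw [← hR P' hP'T]; exact hφ'
    obtain ⟨ψ₀, hψ₀, hψ₀v⟩ := hrec.2 P' φ' hφ'F hr'
    have hle : extender T P' φ' ≤ extender S P' φ' := by
      unfold extender
      apply Subgroup.closure_mono
      rintro g ⟨hg, hgN, h, hh, hv⟩
      exact ⟨hT.1 hg, hgN, h, hT.1 hh, hv⟩
    have hleT : extender T P' φ' ≤ T := by
      unfold extender
      rw [Subgroup.closure_le]
      rintro g ⟨hg, -⟩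
      exact hg
    refine ⟨ψ₀.comp (Subgroup.inclusion hle), ?_, ?_⟩
    · rw [hR _ hleT]
      exact Fusion.restrict_mem F hψ₀ hle
    · intro x hP hN
      exact hψ₀v x hP (hle hN)

theorem app_congr' {H : Subgroup Ω} {M : Type*} (f : H → M) {x y : Ω} (hx : x ∈ H) (hy : y ∈ H)
    (h : x = y) : f ⟨x, hx⟩ = f ⟨y, hy⟩ := by
  subst h; rfl

/-- Transport of a map `φ : P → Q` along a map `ψ` defined on `Q`. -/
theorem transport (F : FusionSystem S) {P Q : Subgroup Ω} (hPQ : P ≤ Q) {φ : P →* Ω}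
    (hφ : φ ∈ F.Hom P) (hφQ : ∀ x : P, φ x ∈ Q) {ψ : Q →* Ω} (hψ : ψ ∈ F.Hom Q) :
    ∃ χ ∈ F.Hom ((P.subgroupOf Q).map ψ),
      ∀ (x : P) (hx : ψ (Subgroup.inclusion hPQ x) ∈ (P.subgroupOf Q).map ψ),
        χ ⟨ψ (Subgroup.inclusion hPQ x), hx⟩ = ψ ⟨φ x, hφQ x⟩ := by
  have hψP : ψ.comp (Subgroup.inclusion hPQ) ∈ F.Hom P := Fusion.restrict_mem F hψ hPQ
  obtain ⟨ι, hι, hιinv⟩ := F.inv_mem hψP
  have hrange : (ψ.comp (Subgroup.inclusion hPQ)).range = (P.subgroupOf Q).map ψ := by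
    ext y
    constructor
    · rintro ⟨x, rfl⟩
      exact ⟨Subgroup.inclusion hPQ x, by rw [SetLike.mem_coe, Subgroup.mem_subgroupOf]; exact x.2, rfl⟩
    · rintro ⟨q, hq, rfl⟩
      rw [SetLike.mem_coe, Subgroup.mem_subgroupOf] at hq
      exact ⟨⟨(q : Ω), hq⟩, rfl⟩
  have hιP : ∀ y : (ψ.comp (Subgroup.inclusion hPQ)).range, ι y ∈ P := by
    rintro ⟨_, x, rfl⟩
    rw [hιinv x]
    exact x.2
  have h1 := F.comp_mem hι hφ hιP
  have h2 := F.comp_mem h1 hψ (fun y => hφQ _)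
  obtain ⟨χ, hχ, hχv⟩ := Fusion.exists_hom_of_eq F hrange h2
  refine ⟨χ, hχ, fun x hx => ?_⟩
  have h3 := hχv (ψ (Subgroup.inclusion hPQ x)) ⟨x, rfl⟩ hx
  rw [h3]
  show ψ ⟨φ ⟨ι ⟨_, _⟩, _⟩, _⟩ = ψ ⟨φ x, hφQ x⟩
  congr 2
  apply congrArg
  apply Subtype.ext
  exact hιinv x

/-- For two strongly closed subgroups meeting trivially, a map defined inside the first extends
exactly to the join with the second. -/
theorem exists_exact_ext [Finite S] (p : ℕ) [Fact p.Prime] (hS : IsPGroup p S)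
    (F : FusionSystem S) (hF : F.IsSaturated p) {T₁ T₂ : Subgroup Ω} (h₁ : F.StronglyClosed T₁)
    (h₂ : F.StronglyClosed T₂) (hint : T₁ ⊓ T₂ = ⊥) {P : Subgroup Ω} (hP : P ≤ T₁) {φ : P →* Ω}
    (hφ : φ ∈ F.Hom P) :
    ∃ φh ∈ F.Hom (P ⊔ T₂), ∀ x : P, φh (Subgroup.inclusion le_sup_left x) = φ x := by
  obtain ⟨φh, hφh, hv⟩ := Fusion.extT_all p hS F hF h₂ hφ
  refine ⟨φh, hφh, fun x => ?_⟩
  have h3 : φ x ∈ T₁ := h₁.2 P hP φ hφ x
  have h4 : φh (Subgroup.inclusion le_sup_left x) ∈ T₁ :=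
    Fusion.map_mem_of_stronglyClosed F h₁ hφh _ (hP x.2)
  have h5 : (φ x)⁻¹ * φh (Subgroup.inclusion le_sup_left x) ∈ T₁ ⊓ T₂ :=
    ⟨T₁.mul_mem (T₁.inv_mem h3) h4, hv x⟩
  rw [hint, Subgroup.mem_bot] at h5
  exact (inv_mul_eq_one.mp h5).symm

end Cfsg.Agent.Helper3.DirFac
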