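import Mathlib

/-!
# Zassenhaus project, PIECE R, part A: generic lemmas

* an endomorphism `f` of a vector space over a finite field `E` with `f ^ (|E| - 1) = 1` has an
  eigenvector in every nonzero invariant subspace;
* a free action of `G` on a finite set `X` gives `|G| ∣ |X|`;
* a fixed-point-free automorphism of order two of a finite group inverts it.
-/

set_option autoImplicit false

namespace Cfsg.Agent.Helper3.ZasRep

open Finset

theorem exists_eigenvector_of_pow_eq_one {E : Type*} [Field E] [Fintype E] {V : Type*}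
    [AddCommGroup V] [Module E V] (f : V →ₗ[E] V) (hf : f ^ (Fintype.card E - 1) = 1)
    (U : Submodule E V) (hU : U ≠ ⊥) (hinv : ∀ u ∈ U, f u ∈ U) :
    ∃ v ∈ U, v ≠ 0 ∧ ∃ μ : E, f v = μ • v := by
  classical
  obtain ⟨u, huU, hu0⟩ := Submodule.exists_mem_ne_zero_of_ne_bot hU
  obtain ⟨n, hn⟩ : ∃ n, n = Fintype.card E - 1 := ⟨_, rfl⟩
  have hn1 : 1 ≤ n := by
    have := Fintype.one_lt_card (α := E)
    omega
  rw [← hn] at hf
  have hpowU : ∀ i : ℕ, (f ^ i) u ∈ U := by
    intro i
    induction i with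
    | zero => simpa using huU
    | succ i ih =>
      rw [pow_succ', Module.End.mul_apply]
      exact hinv _ ih
  let v : Eˣ → V := fun μ => ∑ i ∈ range n, ((μ : E) ^ i) • (f ^ i) u
  have hvU : ∀ μ, v μ ∈ U := fun μ =>
    Submodule.sum_mem _ (fun i _ => Submodule.smul_mem _ _ (hpowU i))
  have hsum : ∑ μ : Eˣ, v μ = -u := by
    show ∑ μ : Eˣ, ∑ i ∈ range n, ((μ : E) ^ i) • (f ^ i) u = -u
    rw [Finset.sum_comm]
    have h1 : ∀ i ∈ range n, ∑ μ : Eˣ, ((μ : E) ^ i) • (f ^ i) u =
        (if i = 0 then (-1 : E) else 0) • (f ^ i) u := by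
      intro i hi
      rw [← Finset.sum_smul]
      congr 1
      have h2 := FiniteField.sum_pow_units E i
      rw [h2]
      have hi' : i < n := Finset.mem_range.1 hi
      by_cases h0 : i = 0
      · subst h0; simp
      · rw [if_neg h0, if_neg]
        intro hdvd
        rw [← hn] at hdvd
        have := Nat.le_of_dvd (Nat.pos_of_ne_zero h0) hdvd
        omega
    rw [Finset.sum_congr rfl h1, Finset.sum_eq_single 0]
    · simp
    · intro i _ hi0
      rw [if_neg hi0, zero_smul]
    · intro h
      exact absurd (Finset.mem_range.2 hn1) h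
  have hex : ∃ μ, v μ ≠ 0 := by
    by_contra h
    push Not at h
    rw [Finset.sum_congr rfl (fun μ _ => h μ), Finset.sum_const_zero] at hsum
    exact hu0 (neg_eq_zero.1 hsum.symm)
  obtain ⟨μ, hμ⟩ := hex
  refine ⟨v μ, hvU μ, hμ, ((μ⁻¹ : Eˣ) : E), ?_⟩
  have hμn : (μ : E) ^ n = 1 := by
    rw [hn]; exact FiniteField.pow_card_sub_one_eq_one _ μ.ne_zero
  have hfn : (f ^ n) u = u := by rw [hf]; rfl
  have key : (μ : E) • f (v μ) = v μ := by
    show (μ : E) • f (∑ i ∈ range n, ((μ : E) ^ i) • (f ^ i) u) =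
      ∑ i ∈ range n, ((μ : E) ^ i) • (f ^ i) u
    rw [map_sum, Finset.smul_sum]
    have h1 : ∀ i ∈ range n, (μ : E) • f (((μ : E) ^ i) • (f ^ i) u) =
        ((μ : E) ^ (i + 1)) • (f ^ (i + 1)) u := by
      intro i _
      rw [map_smul, smul_smul, pow_succ' f, Module.End.mul_apply, pow_succ']
    rw [Finset.sum_congr rfl h1]
    have h2 := Finset.sum_range_succ (fun i => ((μ : E) ^ i) • (f ^ i) u) n
    have h3 := Finset.sum_range_succ' (fun i => ((μ : E) ^ i) • (f ^ i) u) n
    rw [h2] at h3
    simp only [pow_zero, one_smul, Module.End.one_apply] at h3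
    rw [hμn, hfn, one_smul] at h3
    exact (add_right_cancel h3).symm
  calc f (v μ) = ((μ⁻¹ : Eˣ) : E) • ((μ : E) • f (v μ)) := by
        rw [smul_smul, ← Units.val_mul, inv_mul_cancel, Units.val_one, one_smul]
    _ = ((μ⁻¹ : Eˣ) : E) • v μ := by rw [key]

/-- a free action of `G` on a finite set `X` gives `|G| ∣ |X|` -/
theorem card_dvd_of_free {G : Type*} [Group G] {X : Type*} [MulAction G X]
    (h : ∀ b : X, MulAction.stabilizer G b = ⊥) : Nat.card G ∣ Nat.card X := by
  have e := MulAction.selfEquivOrbitsQuotientProd h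
  rw [Nat.card_congr e, Nat.card_prod]
  exact Dvd.intro_left _ rfl

/-- a fixed-point-free automorphism of order two of a finite group inverts every element -/
theorem inverts_of_fpf_involution {K : Type*} [Group K] [Finite K] (τ : MulAut K)
    (hτ2 : τ * τ = 1) (hfpf : ∀ k, τ k = k → k = 1) : ∀ k, τ k = k⁻¹ := by
  have hinj : Function.Injective (fun x : K => x⁻¹ * τ x) := by
    intro x y hxy
    simp only at hxy
    have h1 : τ (y * x⁻¹) = y * x⁻¹ := by
      rw [map_mul, map_inv]
      -- x⁻¹ τ x = y⁻¹ τ y  ⇒  τ y (τ x)⁻¹ = y x⁻¹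
      have : τ y = y * (x⁻¹ * τ x) := by rw [hxy]; group
      rw [this]; group
    have h2 := hfpf _ h1
    have : y = x := by
      have := mul_inv_eq_one.1 h2
      exact this
    exact this.symm
  have hsurj : Function.Surjective (fun x : K => x⁻¹ * τ x) := Finite.surjective_of_injective hinj
  intro k
  obtain ⟨x, rfl⟩ := hsurj k
  simp only
  have h2 : τ (τ x) = x := by
    have := congrArg (fun σ : MulAut K => σ x) hτ2
    simpa using this
  rw [map_mul, map_inv, h2]
  group

theorem comm_of_inverting {K : Type*} [Group K] (τ : MulAut K) (h : ∀ k, τ k = k⁻¹) :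
    ∀ a b : K, a * b = b * a := by
  intro a b
  have h1 := map_mul τ a⁻¹ b⁻¹
  rw [h, h, h, mul_inv_rev, inv_inv, inv_inv] at h1
  exact h1.symm

end Cfsg.Agent.Helper3.ZasRep
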