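import Mathlib
import Cfsg.Agent.Helper3.ZasRepA

/-!
# Zassenhaus project, PIECE R, part B: base change of a matrix representation
-/

set_option autoImplicit false

namespace Cfsg.Agent.Helper3.ZasRep

open Matrix

section baseChange

variable {F E : Type*} [Field F] [Field E] [Algebra F E]

theorem exists_fixed_of_map_fixed {n : Type*} [Fintype n] [DecidableEq n] (M : Matrix n n F)
    (v : n → E) (hv : v ≠ 0) (h : (M.map (algebraMap F E)) *ᵥ v = v) :
    ∃ w : n → F, w ≠ 0 ∧ M *ᵥ w = w := by
  have h1 : ((M - 1).map (algebraMap F E)) *ᵥ v = 0 := by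
    have e : (M - 1).map (algebraMap F E) = M.map (algebraMap F E) - 1 := by
      ext i j
      by_cases hij : i = j
      · subst hij; simp
      · simp [hij]
    rw [e, Matrix.sub_mulVec, Matrix.one_mulVec, h, sub_self]
  have h2 : ((M - 1).map (algebraMap F E)).det = 0 :=
    Matrix.exists_mulVec_eq_zero_iff.1 ⟨v, hv, h1⟩
  have h3 : (M - 1).det = 0 := by
    have h4 := RingHom.map_det (algebraMap F E) (M - 1)
    rw [RingHom.mapMatrix_apply, h2] at h4
    exact (map_eq_zero_iff _ (algebraMap F E).injective).1 h4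
  obtain ⟨w, hw, hw0⟩ := Matrix.exists_mulVec_eq_zero_iff.2 h3
  refine ⟨w, hw, ?_⟩
  rw [Matrix.sub_mulVec, Matrix.one_mulVec, sub_eq_zero] at hw0
  exact hw0

variable {W : Type*} [AddCommGroup W] [Module F W] [Module.Finite F W] {G : Type*} [Group G]

/-- the matrix representation over `E` obtained from a representation over `F` by base change -/
noncomputable def matRep (E : Type*) [Field E] [Algebra F E] (ℓ : G →* Module.End F W) :
    G →* Module.End E (Fin (Module.finrank F W) → E) :=
  (MonoidHomClass.toMonoidHom (Matrix.toLinAlgEquiv' :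
      Matrix (Fin (Module.finrank F W)) (Fin (Module.finrank F W)) E ≃ₐ[E] _)).comp
    ((MonoidHomClass.toMonoidHom (algebraMap F E).mapMatrix).comp
      ((MonoidHomClass.toMonoidHom (LinearMap.toMatrixAlgEquiv (Module.finBasis F W))).comp ℓ))

theorem matRep_apply (ℓ : G →* Module.End F W) (g : G) (v : Fin (Module.finrank F W) → E) :
    matRep E ℓ g v =
      ((LinearMap.toMatrix (Module.finBasis F W) (Module.finBasis F W) (ℓ g)).map
        (algebraMap F E)) *ᵥ v := by
  show Matrix.toLinAlgEquiv' (((algebraMap F E).mapMatrix)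
    (LinearMap.toMatrixAlgEquiv (Module.finBasis F W) (ℓ g))) v = _
  rw [Matrix.toLinAlgEquiv'_apply]
  rfl

theorem matRep_fixed (ℓ : G →* Module.End F W) (g : G) (v : Fin (Module.finrank F W) → E)
    (hv : v ≠ 0) (h : matRep E ℓ g v = v) : ∃ x : W, x ≠ 0 ∧ ℓ g x = x := by
  rw [matRep_apply] at h
  obtain ⟨w, hw, hMw⟩ := exists_fixed_of_map_fixed _ v hv h
  obtain ⟨b, hb⟩ : ∃ b, b = Module.finBasis F W := ⟨_, rfl⟩
  rw [← hb] at hMw
  refine ⟨b.equivFun.symm w, ?_, ?_⟩
  · intro h0
    apply hw
    have := congrArg b.equivFun h0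
    rwa [LinearEquiv.apply_symm_apply, map_zero] at this
  · have hrepr : ⇑(b.repr (b.equivFun.symm w)) = w := by
      rw [← Module.Basis.equivFun_apply, LinearEquiv.apply_symm_apply]
    have h1 := LinearMap.toMatrix_mulVec_repr b b (ℓ g) (b.equivFun.symm w)
    rw [hrepr, hMw] at h1
    apply b.repr.injective
    apply DFunLike.coe_injective
    rw [← h1, hrepr]

end baseChange

end Cfsg.Agent.Helper3.ZasRep
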