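import Mathlib
import Cfsg.Agent.Helper6.ZasDefs
import Cfsg.Agent.Helper3.ZasRepB

/-!
# Zassenhaus project, PIECE R, part C: from a fixed-point-free group of automorphisms of even order
to a fixed-point-free linear representation over a finite field with enough eigenvectors
-/

set_option autoImplicit false

namespace Cfsg.Agent.Helper3.ZasRep

open Cfsg.Agent.Helper6.Zas

section comm

variable {A : Type*} [CommGroup A]

/-- the `r`-torsion subgroup -/
def tors (A : Type*) [CommGroup A] (r : ℕ) : Subgroup A := (powMonoidHom r : A →* A).ker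

theorem mem_tors {r : ℕ} {a : A} : a ∈ tors A r ↔ a ^ r = 1 := by
  unfold tors
  rw [MonoidHom.mem_ker, powMonoidHom_apply]

theorem nsmul_tors (r : ℕ) (x : Additive ↥(tors A r)) : r • x = 0 := by
  obtain ⟨y, rfl⟩ := Additive.ofMul.surjective x
  rw [← ofMul_pow, ofMul_eq_zero]
  apply Subtype.ext
  rw [Subgroup.coe_pow, Subgroup.coe_one]
  exact mem_tors.1 y.2

/-- the endomorphism of the `r`-torsion induced by an automorphism -/
def resTorsMul (r : ℕ) (φ : MulAut A) : ↥(tors A r) →* ↥(tors A r) where
  toFun x := ⟨φ (x : A), by rw [mem_tors, ← map_pow, mem_tors.1 x.2, map_one]⟩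
  map_one' := Subtype.ext (map_one φ)
  map_mul' x y := Subtype.ext (map_mul φ (x : A) (y : A))

/-- the additive endomorphism of the `r`-torsion induced by an automorphism -/
def resTors (r : ℕ) (φ : MulAut A) : Additive ↥(tors A r) →+ Additive ↥(tors A r) :=
  MonoidHom.toAdditive (resTorsMul r φ)

theorem resTors_apply (r : ℕ) (φ : MulAut A) (x : Additive ↥(tors A r)) :
    ((Additive.toMul (resTors r φ x) : ↥(tors A r)) : A) = φ ((Additive.toMul x : ↥(tors A r)) : A) :=
  rfl

/-- the module structure on the `r`-torsion -/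
noncomputable def torsModule (r : ℕ) : Module (ZMod r) (Additive ↥(tors A r)) :=
  AddCommGroup.zmodModule (nsmul_tors r)

attribute [local instance] torsModule

/-- the linear representation on the `r`-torsion -/
noncomputable def linRep (r : ℕ) (G : Subgroup (MulAut A)) :
    ↥G →* Module.End (ZMod r) (Additive ↥(tors A r)) where
  toFun g := (resTors r (g : MulAut A)).toZModLinearMap r
  map_one' := by
    apply LinearMap.ext
    intro x
    rfl
  map_mul' g h := by
    apply LinearMap.ext
    intro x
    rfl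

theorem linRep_apply (r : ℕ) (G : Subgroup (MulAut A)) (g : ↥G) (x : Additive ↥(tors A r)) :
    ((Additive.toMul (linRep r G g x) : ↥(tors A r)) : A) =
      (g : MulAut A) ((Additive.toMul x : ↥(tors A r)) : A) :=
  rfl

theorem exists_fpf_rep_comm [Finite A] (G : Subgroup (MulAut A)) (hnt : Nontrivial A)
    (hfpf : ∀ φ ∈ G, φ ≠ 1 → ∀ k : A, φ k = k → k = 1) :
    ∃ (E : Type) (_ : Field E) (_ : Finite E) (V : Type) (_ : AddCommGroup V) (_ : Module E V)
      (_ : FiniteDimensional E V) (_ : Nontrivial V) (ρ : G →* (V →ₗ[E] V)), Fpf ρ ∧ HasEig ρ := by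
  classical
  -- the prime `r`
  have hcard1 : Nat.card A ≠ 1 := by
    have := Finite.one_lt_card_iff_nontrivial.2 hnt
    omega
  obtain ⟨r, hr, hrdvd⟩ : ∃ r, r.Prime ∧ r ∣ Nat.card A :=
    ⟨_, Nat.minFac_prime hcard1, Nat.minFac_dvd _⟩
  haveI : Fact r.Prime := ⟨hr⟩
  obtain ⟨a₀, ha₀⟩ := exists_prime_orderOf_dvd_card' r hrdvd
  have ha₀r : a₀ ^ r = 1 := by rw [← ha₀]; exact pow_orderOf_eq_one a₀
  have ha₀1 : a₀ ≠ 1 := by
    intro h
    rw [h, orderOf_one] at ha₀
    exact hr.one_lt.ne ha₀
  -- the module `W`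
  have hWfin : Finite (Additive ↥(tors A r)) := inferInstanceAs (Finite ↥(tors A r))
  have hMfin : Module.Finite (ZMod r) (Additive ↥(tors A r)) := Module.Finite.of_finite
  have hWnt : Nontrivial (Additive ↥(tors A r)) := by
    refine ⟨⟨Additive.ofMul ⟨a₀, mem_tors.2 ha₀r⟩, 0, ?_⟩⟩
    intro h
    rw [ofMul_eq_zero] at h
    exact ha₀1 (congrArg Subtype.val h)
  have hd0 : Module.finrank (ZMod r) (Additive ↥(tors A r)) ≠ 0 := Module.finrank_pos.ne'
  -- fixed points of the linear representation
  have hfix : ∀ g : ↥G, g ≠ 1 → ∀ x : Additive ↥(tors A r), linRep r G g x = x → x = 0 := by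
    intro g hg x hx
    have h1 := linRep_apply r G g x
    rw [hx] at h1
    have hg1 : (g : MulAut A) ≠ 1 := fun h => hg (Subtype.ext h)
    have h2 := hfpf g g.2 hg1 _ h1.symm
    rw [← ofMul_toMul x, ofMul_eq_zero]
    exact Subtype.ext h2
  -- the field
  have hEcard : Nat.card (GaloisField r (Module.finrank (ZMod r) (Additive ↥(tors A r)))) =
      r ^ Module.finrank (ZMod r) (Additive ↥(tors A r)) := GaloisField.card r _ hd0
  have hWcard : Nat.card (Additive ↥(tors A r)) =
      r ^ Module.finrank (ZMod r) (Additive ↥(tors A r)) := by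
    rw [Module.natCard_eq_pow_finrank (K := ZMod r), Nat.card_zmod]
  -- `|G|` divides `|W| - 1`
  have hGdvd : Nat.card ↥G ∣ r ^ Module.finrank (ZMod r) (Additive ↥(tors A r)) - 1 := by
    have hne : ∀ (g : ↥G) (x : Additive ↥(tors A r)), x ≠ 0 → linRep r G g x ≠ 0 := by
      intro g x hx h0
      apply hx
      have h1 : linRep r G (g⁻¹ * g) x = x := by rw [inv_mul_cancel, map_one]; rfl
      rw [map_mul, Module.End.mul_apply, h0, map_zero] at h1
      exact h1.symm
    letI : MulAction ↥G {x : Additive ↥(tors A r) // x ≠ 0} :=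
      { smul := fun g x => ⟨linRep r G g x.1, hne g x.1 x.2⟩
        one_smul := fun x => Subtype.ext (by show linRep r G 1 x.1 = x.1; rw [map_one]; rfl)
        mul_smul := fun g h x => Subtype.ext (by
          show linRep r G (g * h) x.1 = linRep r G g (linRep r G h x.1)
          rw [map_mul]; rfl) }
    have hfree : ∀ x : {x : Additive ↥(tors A r) // x ≠ 0}, MulAction.stabilizer ↥G x = ⊥ := by
      intro x
      rw [eq_bot_iff]
      intro g hg
      rw [MulAction.mem_stabilizer_iff] at hg
      rw [Subgroup.mem_bot]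
      by_contra hg1
      have h1 : linRep r G g x.1 = x.1 := congrArg Subtype.val hg
      exact x.2 (hfix g hg1 x.1 h1)
    have h1 := card_dvd_of_free hfree
    have h2 : Nat.card {x : Additive ↥(tors A r) // x ≠ 0} =
        Nat.card (Additive ↥(tors A r)) - 1 := by
      have : Fintype (Additive ↥(tors A r)) := Fintype.ofFinite _
      rw [Nat.card_eq_fintype_card, Nat.card_eq_fintype_card,
        Fintype.card_subtype_compl (fun x : Additive ↥(tors A r) => x = 0),
        Fintype.card_subtype_eq]
    rwa [h2, hWcard] at h1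
  -- the representation
  refine ⟨GaloisField r (Module.finrank (ZMod r) (Additive ↥(tors A r))), inferInstance,
    inferInstance,
    Fin (Module.finrank (ZMod r) (Additive ↥(tors A r))) →
      GaloisField r (Module.finrank (ZMod r) (Additive ↥(tors A r))),
    inferInstance, inferInstance, inferInstance, ?_,
    matRep (GaloisField r (Module.finrank (ZMod r) (Additive ↥(tors A r)))) (linRep r G), ?_, ?_⟩
  · haveI : NeZero (Module.finrank (ZMod r) (Additive ↥(tors A r))) := ⟨hd0⟩
    infer_instance
  · intro g hg v hv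
    by_contra hv0
    obtain ⟨x, hx0, hx⟩ := matRep_fixed (linRep r G) g v hv0 hv
    exact hx0 (hfix g hg x hx)
  · intro g U hU hinv
    letI : Fintype (GaloisField r (Module.finrank (ZMod r) (Additive ↥(tors A r)))) :=
      Fintype.ofFinite _
    apply exists_eigenvector_of_pow_eq_one _ _ U hU hinv
    rw [← map_pow]
    have h1 : Fintype.card (GaloisField r (Module.finrank (ZMod r) (Additive ↥(tors A r)))) =
        r ^ Module.finrank (ZMod r) (Additive ↥(tors A r)) := by
      rw [← Nat.card_eq_fintype_card]; exact hEcard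
    rw [h1]
    have h2 : g ^ (r ^ Module.finrank (ZMod r) (Additive ↥(tors A r)) - 1) = 1 := by
      rw [← orderOf_dvd_iff_pow_eq_one]
      exact (orderOf_dvd_natCard g).trans hGdvd
    rw [h2, map_one]

end comm

/-- PIECE R (from the hypotheses of S0690 to a linear action; blueprint §0). -/
theorem exists_fpf_rep {K : Type*} [Group K] [Finite K] (G : Subgroup (MulAut K))
    (hfpf : ∀ φ ∈ G, φ ≠ 1 → ∀ k : K, φ k = k → k = 1) (h2 : 2 ∣ Nat.card G) :
    ∃ (E : Type) (_ : Field E) (_ : Finite E) (V : Type) (_ : AddCommGroup V) (_ : Module E V)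
      (_ : FiniteDimensional E V) (_ : Nontrivial V) (ρ : G →* (V →ₗ[E] V)), Fpf ρ ∧ HasEig ρ := by
  haveI : Fact (Nat.Prime 2) := ⟨Nat.prime_two⟩
  obtain ⟨t, ht⟩ := exists_prime_orderOf_dvd_card' 2 h2
  have ht1 : (t : MulAut K) ≠ 1 := by
    intro h
    have : t = 1 := Subtype.ext h
    rw [this, orderOf_one] at ht
    omega
  have htt : (t : MulAut K) * t = 1 := by
    have h1 : t ^ 2 = 1 := by rw [← ht]; exact pow_orderOf_eq_one t
    have h3 := congrArg Subtype.val h1
    rwa [pow_two] at h3
  have hinv := inverts_of_fpf_involution (t : MulAut K) htt (hfpf t t.2 ht1)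
  have hcomm := comm_of_inverting _ hinv
  have hnt : Nontrivial K := by
    by_contra hnn
    rw [not_nontrivial_iff_subsingleton] at hnn
    apply ht1
    ext k
    exact Subsingleton.elim _ _
  letI : CommGroup K := { ‹Group K› with mul_comm := hcomm }
  exact exists_fpf_rep_comm G hnt hfpf

end Cfsg.Agent.Helper3.ZasRep
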