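import Mathlib
import Cfsg.Agent.S0040

/-!
# Zassenhaus project, G-side, PIECE G8a: a non-trivial perfect group of fixed-point-free automorphisms
of a finite group has even order
-/

set_option autoImplicit false
set_option linter.style.haveILetI false

namespace Cfsg.Agent.Helper3.ZasG

open SemidirectProduct

/-- PIECE G8a: a non-trivial perfect group of fixed-point-free automorphisms has even order
(S0040 on `K ⋊ G`: Sylow subgroups cyclic or quaternion; odd order ⇒ Z-group ⇒ solvable). -/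
theorem even_card_of_perfect_fpf {K : Type*} [Group K] [Finite K] (G : Subgroup (MulAut K))
    (hfpf : ∀ φ ∈ G, φ ≠ 1 → ∀ k : K, φ k = k → k = 1) (hperf : commutator G = ⊤) (hne : G ≠ ⊥) :
    2 ∣ Nat.card G := by
  by_contra hodd
  haveI hntG : Nontrivial ↥G := (Subgroup.nontrivial_iff_ne_bot G).2 hne
  have hKnt : Nontrivial K := by
    by_contra h
    rw [not_nontrivial_iff_subsingleton] at h
    apply hne
    rw [eq_bot_iff]
    intro φ _
    rw [Subgroup.mem_bot]
    ext k
    exact Subsingleton.elim _ _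
  suffices h : IsZGroup ↥G by
    have := IsZGroup.commutator_lt (G := ↥G)
    rw [hperf] at this
    exact lt_irrefl _ this
  refine ⟨fun p hp P => ?_⟩
  haveI : Fact p.Prime := ⟨hp⟩
  -- the semidirect product
  obtain ⟨φ, hφ⟩ : ∃ φ : ↥G →* MulAut K, φ = G.subtype := ⟨_, rfl⟩
  have hφa : ∀ (g : ↥G) (k : K), φ g k = (g : MulAut K) k := by
    intro g k; rw [hφ]; rfl
  haveI : Finite (K ⋊[φ] ↥G) := Finite.of_equiv _ (equivProd (φ := φ)).symm
  obtain ⟨N, hN⟩ : ∃ N : Subgroup (K ⋊[φ] ↥G), N = (inl : K →* K ⋊[φ] ↥G).range := ⟨_, rfl⟩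
  obtain ⟨H, hH⟩ : ∃ H : Subgroup (K ⋊[φ] ↥G), H = (inr : ↥G →* K ⋊[φ] ↥G).range := ⟨_, rfl⟩
  haveI hNn : N.Normal := by
    rw [hN, range_inl_eq_ker_rightHom]
    infer_instance
  have hdisj : Disjoint N H := by
    rw [Subgroup.disjoint_def]
    intro x hxN hxH
    rw [hN] at hxN
    rw [hH] at hxH
    obtain ⟨k, rfl⟩ := hxN
    obtain ⟨g, hg⟩ := hxH
    have h1 : g = 1 := by
      have := congrArg SemidirectProduct.right hg
      simpa using this
    rw [← hg, h1, map_one]
  have hcardN : Nat.card ↥N = Nat.card K := by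
    rw [hN]
    exact Nat.card_congr (MonoidHom.ofInjective inl_injective).toEquiv.symm
  have hcardH : Nat.card ↥H = Nat.card ↥G := by
    rw [hH]
    exact Nat.card_congr (MonoidHom.ofInjective inr_injective).toEquiv.symm
  have hc : Subgroup.IsComplement' N H := by
    apply Subgroup.isComplement'_of_card_mul_and_disjoint _ hdisj
    rw [hcardN, hcardH, SemidirectProduct.card]
  have hNne : N ≠ ⊥ := by
    intro h
    have h1 : Nat.card ↥N = 1 := by rw [h]; exact Subgroup.card_bot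
    rw [hcardN] at h1
    have := Finite.one_lt_card_iff_nontrivial.2 hKnt
    omega
  have hfpf' : ∀ h ∈ H, h ≠ 1 → N ⊓ Subgroup.centralizer {h} = ⊥ := by
    intro h hhH hh1
    rw [hH] at hhH
    obtain ⟨g, rfl⟩ := hhH
    have hg1 : (g : MulAut K) ≠ 1 := by
      intro h1
      apply hh1
      have : g = 1 := Subtype.ext h1
      rw [this, map_one]
    rw [eq_bot_iff]
    intro x hx
    obtain ⟨hxN, hxC⟩ := Subgroup.mem_inf.mp hx
    rw [hN] at hxN
    obtain ⟨k, rfl⟩ := hxN
    rw [Subgroup.mem_centralizer_iff] at hxC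
    have h2 := hxC (inr g) (Set.mem_singleton _)
    have h3 : (inl (φ g k) : K ⋊[φ] ↥G) = inl k := by
      rw [inl_aut, h2, mul_assoc, ← map_mul, mul_inv_cancel, map_one, mul_one]
    have h4 : φ g k = k := inl_injective h3
    rw [hφa] at h4
    have h5 := hfpf g g.2 hg1 k h4
    rw [Subgroup.mem_bot, h5, map_one]
  -- transport the Sylow subgroup
  obtain ⟨e, he⟩ : ∃ e : ↥G ≃* ↥H, ∀ g, ((e g : ↥H) : K ⋊[φ] ↥G) = inr g := by
    subst hH
    exact ⟨MonoidHom.ofInjective inr_injective, fun g => rfl⟩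
  obtain ⟨P', hP'⟩ : ∃ P' : Sylow p ↥H, (P' : Subgroup ↥H) = (P : Subgroup ↥G).map e.toMonoidHom :=
    ⟨P.mapSurjective (f := e.toMonoidHom) e.surjective, Sylow.coe_mapSurjective _ P⟩
  have eP : ↥(P : Subgroup ↥G) ≃* ↥(P' : Subgroup ↥H) :=
    (e.subgroupMap (P : Subgroup ↥G)).trans (MulEquiv.subgroupCongr hP'.symm)
  rcases Cfsg.Agent.S0040.result N H hc hNne hfpf' p P' with hcyc | ⟨n, ⟨f⟩⟩
  · haveI := hcyc
    exact isCyclic_of_surjective eP.symm eP.symm.surjective
  · exfalso
    apply hodd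
    have h1 : Nat.card ↥(P : Subgroup ↥G) = 4 * 2 ^ n := by
      rw [Nat.card_congr (eP.trans f).toEquiv, Nat.card_eq_fintype_card, QuaternionGroup.card]
    have h2 : Nat.card ↥(P : Subgroup ↥G) ∣ Nat.card ↥G := Subgroup.card_subgroup_dvd_card _
    rw [h1] at h2
    exact Dvd.dvd.trans ⟨2 * 2 ^ n, by ring⟩ h2

end Cfsg.Agent.Helper3.ZasG
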