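import Mathlib
import Cfsg.Agent.Helper6.ZasDefs

/-!
# Zassenhaus project, G-side: lifting along the quotient `π : Γ → S` by the central involution `z`

`Γ` has a unique involution `z`, `π` is surjective with kernel `⟨z⟩`.
* elements of order 3 of `S` lift to elements of order 3;
* every lift of an involution has order 4 and square `z`; every lift of an element of order 4 has
  order 8 and fourth power `z`;
* `π (closure {x, y}) = closure {π x, π y}`, a subgroup containing `z` is the full preimage of its image;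
* descent: a double cover `H → X` (`Cover H X`) has kernel `{1, z}`, so `H.map π ≃* X`.
-/

set_option autoImplicit false
set_option linter.style.haveILetI false

namespace Cfsg.Agent.Helper3.ZasLift

open Cfsg.Agent.Helper6.Zas

variable {Γ : Type*} [Group Γ] {S : Type*} [Group S]

/-- the standing hypotheses on the quotient map -/
structure QHyp (π : Γ →* S) (z : Γ) : Prop where
  hinv : ∀ s t : Γ, orderOf s = 2 → orderOf t = 2 → s = t
  hz2 : orderOf z = 2
  hzc : ∀ g : Γ, g * z = z * g
  hπ : Function.Surjective π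
  hker : π.ker = Subgroup.zpowers z

theorem QHyp.of_zdata {π : Γ →* S} {z : Γ} (hZ : ZData Γ) (hz2 : orderOf z = 2)
    (hzc : ∀ g : Γ, g * z = z * g) (hπ : Function.Surjective π)
    (hker : π.ker = Subgroup.zpowers z) : QHyp π z :=
  ⟨hZ.invol, hz2, hzc, hπ, hker⟩

namespace QHyp

variable {π : Γ →* S} {z : Γ}

theorem z_sq (h : QHyp π z) : z * z = 1 := by
  have := pow_orderOf_eq_one z
  rwa [h.hz2, pow_two] at this

theorem z_ne_one (h : QHyp π z) : z ≠ 1 := by
  intro h1
  have := h.hz2
  rw [h1, orderOf_one] at this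
  omega

theorem map_z (h : QHyp π z) : π z = 1 := by
  rw [← MonoidHom.mem_ker, h.hker]
  exact Subgroup.mem_zpowers z

theorem mem_zpowers_iff (h : QHyp π z) {g : Γ} : g ∈ Subgroup.zpowers z ↔ g = 1 ∨ g = z := by
  constructor
  · intro hg
    obtain ⟨k, hk⟩ := Subgroup.mem_zpowers_iff.1 hg
    have h1 : z ^ k = z ^ (k % ((orderOf z : ℕ) : ℤ)) := (zpow_mod_orderOf z k).symm
    rw [h.hz2] at h1
    rw [← hk, h1]
    have e2 : ((2 : ℕ) : ℤ) = 2 := by norm_num
    rw [e2]
    rcases Int.emod_two_eq_zero_or_one k with h2 | h2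
    · left; rw [h2, zpow_zero]
    · right; rw [h2, zpow_one]
  · rintro (rfl | rfl)
    · exact Subgroup.one_mem _
    · exact Subgroup.mem_zpowers _

theorem map_eq_one_iff (h : QHyp π z) {g : Γ} : π g = 1 ↔ g = 1 ∨ g = z := by
  rw [← MonoidHom.mem_ker, h.hker, h.mem_zpowers_iff]

/-- two elements with the same image differ by `1` or `z` -/
theorem eq_or_eq_mul_of_map_eq (h : QHyp π z) {g g' : Γ} (hg : π g = π g') : g' = g ∨ g' = g * z := by
  have h1 : π (g⁻¹ * g') = 1 := by rw [map_mul, map_inv, hg, inv_mul_cancel]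
  rcases h.map_eq_one_iff.1 h1 with h2 | h2
  · left
    rw [inv_mul_eq_one] at h2
    exact h2.symm
  · right
    rw [← h2]; group

/-- an involution of `Γ` is `z` -/
theorem eq_z_of_sq (h : QHyp π z) {g : Γ} (hg : g * g = 1) (hg1 : g ≠ 1) : g = z :=
  h.hinv g z (orderOf_eq_prime (by rw [pow_two]; exact hg) hg1) h.hz2

theorem commute_z (h : QHyp π z) (g : Γ) : Commute g z := h.hzc g

/-- elements of order 3 lift to elements of order 3 -/
theorem lift_three (h : QHyp π z) {s : S} (hs : orderOf s = 3) :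
    ∃ g : Γ, π g = s ∧ orderOf g = 3 := by
  obtain ⟨g₀, hg₀⟩ := h.hπ s
  have hs3 : s ^ 3 = 1 := by rw [← hs]; exact pow_orderOf_eq_one s
  have hs1 : s ≠ 1 := by
    intro h1
    rw [h1, orderOf_one] at hs
    omega
  have h1 : π (g₀ ^ 3) = 1 := by rw [map_pow, hg₀, hs3]
  have key : ∀ g : Γ, π g = s → g ^ 3 = 1 → orderOf g = 3 := by
    intro g hg hg3
    refine orderOf_eq_prime hg3 ?_
    intro hg1
    rw [hg1, map_one] at hg
    exact hs1 hg.symm
  rcases h.map_eq_one_iff.1 h1 with h2 | h2
  · exact ⟨g₀, hg₀, key g₀ hg₀ h2⟩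
  · refine ⟨g₀ * z, by rw [map_mul, hg₀, h.map_z, mul_one], ?_⟩
    apply key
    · rw [map_mul, hg₀, h.map_z, mul_one]
    · rw [(h.commute_z g₀).mul_pow, h2]
      have hz3 : z ^ 3 = z := by
        rw [pow_succ, pow_two, h.z_sq, one_mul]
      rw [hz3, h.z_sq]

/-- every lift of an involution has square `z` -/
theorem sq_of_map_order_two (h : QHyp π z) {t : S} (ht : orderOf t = 2) {g : Γ} (hg : π g = t) :
    g * g = z := by
  have ht2 : t * t = 1 := by
    have := pow_orderOf_eq_one t
    rwa [ht, pow_two] at this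
  have ht1 : t ≠ 1 := by
    intro h1
    rw [h1, orderOf_one] at ht
    omega
  have h1 : π (g * g) = 1 := by rw [map_mul, hg, ht2]
  rcases h.map_eq_one_iff.1 h1 with h2 | h2
  · exfalso
    have hg1 : g ≠ 1 := by
      intro hg1
      rw [hg1, map_one] at hg
      exact ht1 hg.symm
    have := h.eq_z_of_sq h2 hg1
    rw [this, h.map_z] at hg
    exact ht1 hg.symm
  · exact h2

/-- every lift of an involution has order 4 -/
theorem orderOf_of_map_order_two (h : QHyp π z) {t : S} (ht : orderOf t = 2) {g : Γ} (hg : π g = t) :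
    orderOf g = 4 := by
  have hsq := h.sq_of_map_order_two ht hg
  have h4 : g ^ 4 = 1 := by
    have : g ^ 4 = (g * g) * (g * g) := by rw [← pow_two, ← pow_two, ← pow_mul]
    rw [this, hsq, h.z_sq]
  have h2 : g ^ 2 ≠ 1 := by
    rw [pow_two, hsq]
    exact h.z_ne_one
  have := orderOf_eq_prime_pow (x := g) (p := 2) (n := 1) (by rw [pow_one]; exact h2)
    (by norm_num; exact h4)
  rw [this]; norm_num

/-- involutions lift to elements of order 4 with square `z` -/
theorem lift_two (h : QHyp π z) {t : S} (ht : orderOf t = 2) :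
    ∃ g : Γ, π g = t ∧ orderOf g = 4 ∧ g * g = z := by
  obtain ⟨g, hg⟩ := h.hπ t
  exact ⟨g, hg, h.orderOf_of_map_order_two ht hg, h.sq_of_map_order_two ht hg⟩

/-- every lift of an element of order 4 has fourth power `z` -/
theorem pow_four_of_map_order_four (h : QHyp π z) {y : S} (hy : orderOf y = 4) {r : Γ}
    (hr : π r = y) : r ^ 4 = z := by
  have hy2 : orderOf (y * y) = 2 := by
    have h4 : y ^ 4 = 1 := by rw [← hy]; exact pow_orderOf_eq_one y
    refine orderOf_eq_prime ?_ ?_
    · rw [← pow_two, ← pow_mul]; exact h4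
    · intro h2
      have : orderOf y ∣ 2 := orderOf_dvd_of_pow_eq_one (by rw [pow_two]; exact h2)
      rw [hy] at this
      omega
  have h1 : π (r * r) = y * y := by rw [map_mul, hr]
  have := h.sq_of_map_order_two hy2 h1
  rw [← this]
  rw [← pow_two, ← pow_two, ← pow_mul]

/-- every lift of an element of order 4 has order 8 -/
theorem orderOf_of_map_order_four (h : QHyp π z) {y : S} (hy : orderOf y = 4) {r : Γ}
    (hr : π r = y) : orderOf r = 8 := by
  have h4 := h.pow_four_of_map_order_four hy hr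
  have h8 : r ^ 8 = 1 := by
    have : r ^ 8 = r ^ 4 * r ^ 4 := by rw [← pow_add]
    rw [this, h4, h.z_sq]
  have := orderOf_eq_prime_pow (x := r) (p := 2) (n := 2)
    (by norm_num; rw [h4]; exact h.z_ne_one) (by norm_num; exact h8)
  rw [this]; norm_num

theorem lift_four (h : QHyp π z) {y : S} (hy : orderOf y = 4) :
    ∃ r : Γ, π r = y ∧ orderOf r = 8 ∧ r ^ 4 = z := by
  obtain ⟨r, hr⟩ := h.hπ y
  exact ⟨r, hr, h.orderOf_of_map_order_four hy hr, h.pow_four_of_map_order_four hy hr⟩

/-- the image of the subgroup generated by two elements -/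
theorem map_closure_pair (π : Γ →* S) (x y : Γ) :
    (Subgroup.closure {x, y}).map π = Subgroup.closure {π x, π y} := by
  rw [MonoidHom.map_closure, Set.image_pair]

/-- a subgroup containing an element of order 4 contains `z` -/
theorem z_mem_of_orderOf_four (h : QHyp π z) {H : Subgroup Γ} {x : Γ} (hx : x ∈ H)
    (hx4 : orderOf x = 4) : z ∈ H := by
  have h4 : x ^ 4 = 1 := by rw [← hx4]; exact pow_orderOf_eq_one x
  have h2 : (x * x) * (x * x) = 1 := by
    rw [← pow_two, ← pow_two, ← pow_mul]; exact h4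
  have h1 : x * x ≠ 1 := by
    intro h1
    have : orderOf x ∣ 2 := orderOf_dvd_of_pow_eq_one (by rw [pow_two]; exact h1)
    rw [hx4] at this
    omega
  rw [← h.eq_z_of_sq h2 h1]
  exact H.mul_mem hx hx

/-- a subgroup of even order contains `z` -/
theorem z_mem_of_even (h : QHyp π z) (H : Subgroup Γ) [Finite H] (h2 : 2 ∣ Nat.card H) : z ∈ H := by
  haveI : Fact (Nat.Prime 2) := ⟨Nat.prime_two⟩
  obtain ⟨t, ht⟩ := exists_prime_orderOf_dvd_card' 2 h2
  have ht' : orderOf (t : Γ) = 2 := by rw [Subgroup.orderOf_coe]; exact ht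
  rw [← h.hinv (t : Γ) z ht' h.hz2]
  exact t.2

/-- a subgroup containing `z` is the full preimage of its image -/
theorem comap_map_eq (h : QHyp π z) {H : Subgroup Γ} (hz : z ∈ H) : (H.map π).comap π = H := by
  rw [Subgroup.comap_map_eq, sup_eq_left, h.hker, Subgroup.zpowers_le]
  exact hz

/-- a subgroup containing `z` whose image is everything is everything -/
theorem eq_top_of_map_eq_top (h : QHyp π z) {H : Subgroup Γ} (hz : z ∈ H) (htop : H.map π = ⊤) :
    H = ⊤ := by
  rw [← h.comap_map_eq hz, htop, Subgroup.comap_top]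

/-- if `x` lies in the image of a subgroup `H` containing `z`, every lift of `x` lies in `H` -/
theorem mem_of_map_mem (h : QHyp π z) {H : Subgroup Γ} (hz : z ∈ H) {g : Γ} (hg : π g ∈ H.map π) :
    g ∈ H := by
  rw [← h.comap_map_eq hz]
  exact hg

/-- descent: a double cover `H → X` induces an isomorphism `π(H) ≃* X` -/
theorem descent (h : QHyp π z) {H : Subgroup Γ} [Finite H] {X : Type*} [Group X] (hc : Cover H X) :
    Nonempty (↥(H.map π) ≃* X) := by
  obtain ⟨f, hf, hcard⟩ := hc
  -- `z ∈ H` and `ker f = {1, z}`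
  haveI : Fact (Nat.Prime 2) := ⟨Nat.prime_two⟩
  obtain ⟨t, ht⟩ := exists_prime_orderOf_dvd_card' (G := f.ker) 2 (by rw [hcard])
  have ht' : orderOf ((t : ↥H) : Γ) = 2 := by
    rw [Subgroup.orderOf_coe, Subgroup.orderOf_coe]; exact ht
  have htz : ((t : ↥H) : Γ) = z := h.hinv _ z ht' h.hz2
  have hzH : z ∈ H := by rw [← htz]; exact (t : ↥H).2
  have hzker : (⟨z, hzH⟩ : ↥H) ∈ f.ker := by
    have : (⟨z, hzH⟩ : ↥H) = (t : ↥H) := Subtype.ext htz.symm
    rw [this]; exact t.2
  have hker_f : ∀ x : ↥H, x ∈ f.ker ↔ (x : Γ) = 1 ∨ (x : Γ) = z := by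
    intro x
    constructor
    · intro hx
      -- a group of order 2 containing `t ≠ 1`
      have hcard2 : Nat.card ↥f.ker = 2 := hcard
      have ht1 : t ≠ 1 := by
        intro h1
        rw [h1, orderOf_one] at ht
        omega
      by_cases hx1 : (⟨x, hx⟩ : ↥f.ker) = 1
      · left
        have := congrArg (fun y : ↥f.ker => ((y : ↥H) : Γ)) hx1
        simpa using this
      · right
        have h3 : (⟨x, hx⟩ : ↥f.ker) = t := by
          have hfin : Finite ↥f.ker := Nat.finite_of_card_ne_zero (by rw [hcard2]; norm_num)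
          have := (Nat.card_eq_two_iff' (1 : ↥f.ker)).1 hcard2
          exact this.unique hx1 ht1
        have := congrArg (fun y : ↥f.ker => ((y : ↥H) : Γ)) h3
        simp only at this
        rw [this, htz]
    · rintro (h1 | h1)
      · have : x = 1 := Subtype.ext h1
        rw [this]; exact Subgroup.one_mem _
      · have : x = ⟨z, hzH⟩ := Subtype.ext h1
        rw [this]; exact hzker
  -- the restriction of `π`
  have hker_eq : (π.subgroupMap H).ker = f.ker := by
    ext x
    rw [MonoidHom.mem_ker, hker_f x, ← h.map_eq_one_iff]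
    constructor
    · intro h1
      have := congrArg Subtype.val h1
      simpa using this
    · intro h1
      apply Subtype.ext
      simpa using h1
  have e1 : ↥H ⧸ (π.subgroupMap H).ker ≃* ↥(H.map π) :=
    QuotientGroup.quotientKerEquivOfSurjective _ (π.subgroupMap_surjective H)
  have e2 : ↥H ⧸ f.ker ≃* X := QuotientGroup.quotientKerEquivOfSurjective f hf
  exact ⟨(e1.symm.trans (QuotientGroup.quotientMulEquivOfEq hker_eq)).trans e2⟩

end QHyp

end Cfsg.Agent.Helper3.ZasLift
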