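import Mathlib
import Cfsg.Agent.Helper6.ZasDefs
import Cfsg.Agent.Helper3.ZasLift

/-!
# Zassenhaus project, G-side, PIECE G3b: propagation of quadraticity, seen in the quotient `S = Γ/⟨z⟩`
-/

set_option autoImplicit false
set_option linter.style.haveILetI false

namespace Cfsg.Agent.Helper3.ZasG

open Cfsg.Agent.Helper6.Zas Cfsg.Agent.Helper3.ZasLift

/-- PIECE G3b. -/
theorem sdk_of_quotient {Γ : Type*} [Group Γ] [Finite Γ] (hZ : ZData Γ) (z : Γ)
    (hz2 : orderOf z = 2) (hzc : ∀ g : Γ, g * z = z * g) {S : Type*} [Group S] (π : Γ →* S)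
    (hπ : Function.Surjective π) (hker : π.ker = Subgroup.zpowers z) : SDk S := by
  have h : QHyp π z := QHyp.of_zdata hZ hz2 hzc hπ hker
  intro t₁ a₁ t₂ a₂ y a ht₁ ha₁ ht₂ ha₂ hy hy₁ hy₂ htop ha
  obtain ⟨x₁, hx₁, hx₁o, -⟩ := h.lift_two ht₁
  obtain ⟨b₁, hb₁, hb₁o⟩ := h.lift_three ha₁
  obtain ⟨x₂, hx₂, hx₂o, -⟩ := h.lift_two ht₂
  obtain ⟨b₂, hb₂, hb₂o⟩ := h.lift_three ha₂
  obtain ⟨r, hr, hro, -⟩ := h.lift_four hy
  obtain ⟨b, hb, hbo⟩ := h.lift_three ha
  have hz₁ : z ∈ Subgroup.closure {x₁, b₁} :=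
    h.z_mem_of_orderOf_four (Subgroup.subset_closure (Set.mem_insert _ _)) hx₁o
  have hz₂ : z ∈ Subgroup.closure {x₂, b₂} :=
    h.z_mem_of_orderOf_four (Subgroup.subset_closure (Set.mem_insert _ _)) hx₂o
  have hr₁ : r ∈ Subgroup.closure {x₁, b₁} := by
    apply h.mem_of_map_mem hz₁
    rw [QHyp.map_closure_pair, hx₁, hb₁, hr]
    exact hy₁
  have hr₂ : r ∈ Subgroup.closure {x₂, b₂} := by
    apply h.mem_of_map_mem hz₂
    rw [QHyp.map_closure_pair, hx₂, hb₂, hr]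
    exact hy₂
  have htop' : Subgroup.closure {x₁, b₁, x₂, b₂} = ⊤ := by
    apply h.eq_top_of_map_eq_top
    · refine Subgroup.closure_mono ?_ hz₁
      intro u hu
      rcases hu with rfl | hu
      · exact Set.mem_insert _ _
      · rw [Set.mem_singleton_iff] at hu
        subst hu
        exact Set.mem_insert_of_mem _ (Set.mem_insert _ _)
    · rw [MonoidHom.map_closure, Set.image_insert_eq, Set.image_insert_eq, Set.image_insert_eq,
        Set.image_singleton, hx₁, hb₁, hx₂, hb₂]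
      exact htop
  have hbmem : b ∈ Subgroup.closure {x₁, b₁, x₂, b₂} := by
    rw [htop']; exact Subgroup.mem_top b
  rcases hZ.dk x₁ b₁ x₂ b₂ r b hx₁o hb₁o hx₂o hb₂o hro hr₁ hr₂ hbmem hbo with hc | hcov
  · left
    have := hc.map π
    rwa [hr, hb] at this
  · right
    obtain ⟨e⟩ := h.descent hcov
    have heq : (Subgroup.closure {r, b}).map π = Subgroup.closure {y, a} := by
      rw [QHyp.map_closure_pair, hr, hb]
    exact ⟨(MulEquiv.subgroupCongr heq).symm.trans e⟩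

end Cfsg.Agent.Helper3.ZasG
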