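import Mathlib
import Cfsg.Agent.Helper6.ZasDefs
import Cfsg.Agent.Helper3.ZasLift
import Cfsg.Agent.S0016
import Cfsg.Agent.Helper2.CyclicSylow2

/-!
# Zassenhaus project, G-side, PIECE G3c: the Sylow 2-subgroups of the quotient `S = Γ/⟨z⟩`
-/

set_option autoImplicit false
set_option linter.style.haveILetI false

namespace Cfsg.Agent.Helper3.ZasG

open Cfsg.Agent.Helper6.Zas Cfsg.Agent.Helper3.ZasLift

/-- the quotient map from the generalized quaternion group of order `4m` onto the dihedral group of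
order `2m` -/
def quatToDihedral (m : ℕ) : QuaternionGroup m →* DihedralGroup m where
  toFun x := match x with
    | .a i => .r (ZMod.castHom (Dvd.intro_left 2 rfl : m ∣ 2 * m) (ZMod m) i)
    | .xa i => .sr (ZMod.castHom (Dvd.intro_left 2 rfl : m ∣ 2 * m) (ZMod m) i)
  map_one' := by
    rw [QuaternionGroup.one_def, DihedralGroup.one_def]
    simp
  map_mul' x y := by
    rcases x with i | i <;> rcases y with j | j
    · simp [map_add]
    · simp [map_sub]
    · simp [map_add]
    · simp [map_add, map_sub]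

theorem quatToDihedral_surjective (m : ℕ) : Function.Surjective (quatToDihedral m) := by
  intro y
  rcases y with i | i
  · obtain ⟨j, hj⟩ := ZMod.ringHom_surjective
      (ZMod.castHom (Dvd.intro_left 2 rfl : m ∣ 2 * m) (ZMod m)) i
    exact ⟨.a j, by show DihedralGroup.r _ = _; rw [hj]⟩
  · obtain ⟨j, hj⟩ := ZMod.ringHom_surjective
      (ZMod.castHom (Dvd.intro_left 2 rfl : m ∣ 2 * m) (ZMod m)) i
    exact ⟨.xa j, by show DihedralGroup.sr _ = _; rw [hj]⟩

/-- the order of the kernel of a surjective homomorphism of finite groups -/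
theorem card_ker_mul_card {A B : Type*} [Group A] [Group B] (g : A →* B)
    (hg : Function.Surjective g) : Nat.card g.ker * Nat.card B = Nat.card A := by
  have h1 := Subgroup.card_mul_index g.ker
  rwa [Subgroup.index_ker, MonoidHom.range_eq_top.2 hg, Subgroup.card_top] at h1

/-- a subgroup of order 2 of a group with a unique involution `z` is `{1, z}` -/
theorem mem_iff_of_card_two {Γ : Type*} [Group Γ] {z : Γ}
    (hinv : ∀ s t : Γ, orderOf s = 2 → orderOf t = 2 → s = t) (hz2 : orderOf z = 2)
    (H : Subgroup Γ) (hH : Nat.card H = 2) (x : Γ) : x ∈ H ↔ x = 1 ∨ x = z := by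
  haveI : Fact (Nat.Prime 2) := ⟨Nat.prime_two⟩
  haveI : Finite H := Nat.finite_of_card_ne_zero (by rw [hH]; norm_num)
  obtain ⟨t, ht⟩ := exists_prime_orderOf_dvd_card' (G := H) 2 (by rw [hH])
  have ht' : orderOf (t : Γ) = 2 := by rw [Subgroup.orderOf_coe]; exact ht
  have htz : (t : Γ) = z := hinv _ z ht' hz2
  have ht1 : t ≠ 1 := by
    intro h1
    rw [h1, orderOf_one] at ht
    omega
  constructor
  · intro hx
    by_cases hx1 : (⟨x, hx⟩ : ↥H) = 1
    · left
      exact congrArg Subtype.val hx1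
    · right
      have h3 : (⟨x, hx⟩ : ↥H) = t := ((Nat.card_eq_two_iff' (1 : ↥H)).1 hH).unique hx1 ht1
      rw [← htz, ← h3]
  · rintro (rfl | rfl)
    · exact H.one_mem
    · rw [← htz]; exact t.2

/-- PIECE G3c. -/
theorem sylow_of_quotient {Γ : Type*} [Group Γ] [Finite Γ] (hZ : ZData Γ) (z : Γ)
    (hz2 : orderOf z = 2) (hzc : ∀ g : Γ, g * z = z * g) {S : Type*} [Group S] (π : Γ →* S)
    (hπ : Function.Surjective π) (hker : π.ker = Subgroup.zpowers z)
    (hperf : commutator Γ = ⊤) :
    (¬ 8 ∣ Nat.card S) ∨ ∃ (D : Sylow 2 S) (m : ℕ), 4 ≤ m ∧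
      Nonempty ((D : Subgroup S) ≃* DihedralGroup m) := by
  have h : QHyp π z := QHyp.of_zdata hZ hz2 hzc hπ hker
  haveI : Fact (Nat.Prime 2) := ⟨Nat.prime_two⟩
  obtain ⟨Q⟩ : Nonempty (Sylow 2 Γ) := inferInstance
  have heven : 2 ∣ Nat.card Γ := by rw [← hz2]; exact orderOf_dvd_natCard z
  have hcardΓ : Nat.card Γ = 2 * Nat.card S := by
    have h1 := card_ker_mul_card π hπ
    rw [hker, Nat.card_zpowers, hz2] at h1
    exact h1.symm
  -- unique subgroup of order 2 in `Q`
  have huniq : ∀ H K : Subgroup ↥(Q : Subgroup Γ), Nat.card H = 2 → Nat.card K = 2 → H = K := by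
    have key : ∀ H : Subgroup ↥(Q : Subgroup Γ), Nat.card H = 2 →
        ∀ x : ↥(Q : Subgroup Γ), x ∈ H ↔ (x : Γ) = 1 ∨ (x : Γ) = z := by
      intro H hH x
      have h1 : Nat.card (H.map (Q : Subgroup Γ).subtype) = 2 := by
        rw [Subgroup.card_map_of_injective (Subgroup.subtype_injective _)]; exact hH
      rw [← mem_iff_of_card_two hZ.invol hz2 _ h1 (x : Γ)]
      constructor
      · intro hx
        exact ⟨x, hx, rfl⟩
      · rintro ⟨y, hy, hyx⟩
        have : y = x := Subtype.ext hyx
        rwa [← this]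
    intro H K hH hK
    ext x
    rw [key H hH, key K hK]
  rcases Cfsg.Agent.S0016.result (G := ↥(Q : Subgroup Γ)) 2 Q.isPGroup' huniq with hcyc | ⟨-, n, ⟨f⟩⟩
  · -- cyclic Sylow 2-subgroup: a subgroup of index 2, impossible in a perfect group
    exfalso
    obtain ⟨H, hH⟩ := Cfsg.Agent.Helper2.exists_index_two_of_cyclic_sylow_two
      (even_iff_two_dvd.2 heven) Q hcyc
    haveI hHn : H.Normal := Subgroup.normal_of_index_eq_two hH
    have hc : Nat.card (Γ ⧸ H) = 2 := hH
    haveI : IsCyclic (Γ ⧸ H) := isCyclic_of_prime_card hc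
    have hcomm : IsMulCommutative (Γ ⧸ H) := IsCyclic.isMulCommutative
    have hle := Subgroup.Normal.quotient_commutative_iff_commutator_le.1 hcomm
    rw [hperf, top_le_iff] at hle
    rw [hle, Subgroup.index_top] at hH
    omega
  · -- generalized quaternion
    have hcardQ : Nat.card ↥(Q : Subgroup Γ) = 4 * 2 ^ n := by
      rw [Nat.card_congr f.toEquiv, Nat.card_eq_fintype_card, QuaternionGroup.card]
    by_cases hn : 2 ≤ n
    · right
      refine ⟨Q.mapSurjective hπ, 2 ^ n, ?_, ?_⟩
      · calc 4 = 2 ^ 2 := by norm_num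
          _ ≤ 2 ^ n := Nat.pow_le_pow_right (by norm_num) hn
      · have hcov : Cover (Q : Subgroup Γ) (DihedralGroup (2 ^ n)) := by
          refine ⟨(quatToDihedral (2 ^ n)).comp f.toMonoidHom,
            (quatToDihedral_surjective _).comp f.surjective, ?_⟩
          have h1 := card_ker_mul_card ((quatToDihedral (2 ^ n)).comp f.toMonoidHom)
            ((quatToDihedral_surjective _).comp f.surjective)
          rw [hcardQ, DihedralGroup.nat_card] at h1
          have h2 : Nat.card ((quatToDihedral (2 ^ n)).comp f.toMonoidHom).ker * (2 * 2 ^ n) =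
              2 * (2 * 2 ^ n) := by rw [h1]; ring
          exact Nat.eq_of_mul_eq_mul_right (by positivity) h2
        exact h.descent hcov
    · left
      intro h8
      have h16 : 2 ^ 4 ∣ Nat.card Γ := by
        rw [hcardΓ]
        obtain ⟨k, hk⟩ := h8
        exact ⟨k, by rw [hk]; ring⟩
      have h1 := Q.pow_dvd_card_of_pow_dvd_card h16
      rw [hcardQ] at h1
      have hn1 : n ≤ 1 := by omega
      have h2 : 4 * 2 ^ n ≤ 8 := by
        calc 4 * 2 ^ n ≤ 4 * 2 ^ 1 := Nat.mul_le_mul_left 4 (Nat.pow_le_pow_right (by norm_num) hn1)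
          _ = 8 := by norm_num
      have h3 := Nat.le_of_dvd (by positivity) h1
      omega

end Cfsg.Agent.Helper3.ZasG
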