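import Mathlib
import Cfsg.Agent.Helper3.CosetCert

/-!
# The presentation `⟨x, y, z | x³ = y⁵ = z² = 1, z⁻¹xz = x, z⁻¹yz = y, (xy)² = z⟩` of `SL₂(5)`
-/

set_option autoImplicit false

namespace Cfsg.Agent.Helper3.SL25Pres

open Cfsg.Agent.Helper3.CosetCert

/-! ### The certificate data -/

def actTab : List (List ℕ) :=
  [[1, 2, 3],
   [4, 5, 6],
   [7, 8, 9],
   [6, 9, 0],
   [0, 10, 11],
   [12, 13, 14],
   [11, 14, 1],
   [15, 11, 16],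
   [17, 18, 19],
   [16, 19, 2],
   [20, 21, 22],
   [3, 22, 4],
   [23, 3, 24],
   [25, 26, 27],
   [24, 27, 5],
   [2, 28, 29],
   [29, 4, 7],
   [30, 29, 31],
   [32, 24, 33],
   [31, 33, 8],
   [34, 6, 35],
   [36, 37, 38],
   [35, 38, 10],
   [5, 39, 40],
   [40, 0, 12],
   [41, 40, 42],
   [43, 35, 44],
   [42, 44, 13],
   [37, 45, 46],
   [9, 46, 15],
   [8, 47, 48],
   [48, 15, 17],
   [39, 48, 49],
   [49, 12, 18],
   [10, 50, 51],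
   [51, 1, 20],
   [52, 51, 53],
   [54, 16, 55],
   [53, 55, 21],
   [18, 56, 57],
   [14, 57, 23],
   [13, 58, 59],
   [59, 23, 25],
   [50, 59, 60],
   [60, 20, 26],
   [61, 62, 63],
   [55, 63, 28],
   [62, 64, 65],
   [19, 65, 30],
   [57, 30, 32],
   [26, 66, 67],
   [22, 67, 34],
   [21, 68, 69],
   [69, 34, 36],
   [28, 69, 70],
   [70, 7, 37],
   [71, 72, 73],
   [33, 73, 39],
   [72, 74, 75],
   [27, 75, 41],
   [67, 41, 43],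
   [76, 70, 77],
   [78, 31, 79],
   [77, 79, 45],
   [80, 71, 81],
   [79, 81, 47],
   [82, 83, 84],
   [44, 84, 50],
   [83, 85, 86],
   [38, 86, 52],
   [46, 52, 54],
   [87, 49, 88],
   [89, 42, 90],
   [88, 90, 56],
   [91, 82, 92],
   [90, 92, 58],
   [45, 93, 94],
   [94, 54, 61],
   [47, 94, 95],
   [95, 17, 62],
   [96, 95, 97],
   [97, 88, 64],
   [98, 60, 99],
   [100, 53, 101],
   [99, 101, 66],
   [102, 61, 103],
   [101, 103, 68],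
   [56, 104, 105],
   [105, 32, 71],
   [58, 105, 106],
   [106, 25, 72],
   [107, 106, 108],
   [108, 99, 74],
   [103, 109, 110],
   [63, 110, 76],
   [65, 76, 78],
   [64, 111, 104],
   [104, 78, 80],
   [66, 112, 113],
   [113, 43, 82],
   [68, 113, 114],
   [114, 36, 83],
   [110, 114, 115],
   [115, 77, 85],
   [81, 116, 96],
   [73, 96, 87],
   [75, 87, 89],
   [74, 117, 112],
   [112, 89, 91],
   [118, 80, 119],
   [85, 119, 93],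
   [119, 108, 116],
   [92, 118, 107],
   [84, 107, 98],
   [86, 98, 100],
   [93, 100, 102],
   [109, 91, 111],
   [111, 115, 118],
   [116, 102, 117],
   [117, 97, 109]]

def wordTab : List (List (Fin 3)) :=
  [[],
   [0],
   [1],
   [2],
   [0, 0],
   [0, 1],
   [0, 2],
   [1, 0],
   [1, 1],
   [1, 2],
   [0, 0, 1],
   [0, 0, 2],
   [0, 1, 0],
   [0, 1, 1],
   [0, 1, 2],
   [1, 0, 0],
   [1, 0, 2],
   [1, 1, 0],
   [1, 1, 1],
   [1, 1, 2],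
   [0, 0, 1, 0],
   [0, 0, 1, 1],
   [0, 0, 1, 2],
   [0, 1, 0, 0],
   [0, 1, 0, 2],
   [0, 1, 1, 0],
   [0, 1, 1, 1],
   [0, 1, 1, 2],
   [1, 0, 0, 1],
   [1, 0, 0, 2],
   [1, 1, 0, 0],
   [1, 1, 0, 2],
   [1, 1, 1, 0],
   [1, 1, 1, 2],
   [0, 0, 1, 0, 0],
   [0, 0, 1, 0, 2],
   [0, 0, 1, 1, 0],
   [0, 0, 1, 1, 1],
   [0, 0, 1, 1, 2],
   [0, 1, 0, 0, 1],
   [0, 1, 0, 0, 2],
   [0, 1, 1, 0, 0],
   [0, 1, 1, 0, 2],
   [0, 1, 1, 1, 0],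
   [0, 1, 1, 1, 2],
   [1, 0, 0, 1, 1],
   [1, 0, 0, 1, 2],
   [1, 1, 0, 0, 1],
   [1, 1, 0, 0, 2],
   [1, 1, 1, 0, 2],
   [0, 0, 1, 0, 0, 1],
   [0, 0, 1, 0, 0, 2],
   [0, 0, 1, 1, 0, 0],
   [0, 0, 1, 1, 0, 2],
   [0, 0, 1, 1, 1, 0],
   [0, 0, 1, 1, 1, 2],
   [0, 1, 0, 0, 1, 1],
   [0, 1, 0, 0, 1, 2],
   [0, 1, 1, 0, 0, 1],
   [0, 1, 1, 0, 0, 2],
   [0, 1, 1, 1, 0, 2],
   [1, 0, 0, 1, 1, 0],
   [1, 0, 0, 1, 1, 1],
   [1, 0, 0, 1, 1, 2],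
   [1, 1, 0, 0, 1, 1],
   [1, 1, 0, 0, 1, 2],
   [0, 0, 1, 0, 0, 1, 1],
   [0, 0, 1, 0, 0, 1, 2],
   [0, 0, 1, 1, 0, 0, 1],
   [0, 0, 1, 1, 0, 0, 2],
   [0, 0, 1, 1, 1, 0, 2],
   [0, 1, 0, 0, 1, 1, 0],
   [0, 1, 0, 0, 1, 1, 1],
   [0, 1, 0, 0, 1, 1, 2],
   [0, 1, 1, 0, 0, 1, 1],
   [0, 1, 1, 0, 0, 1, 2],
   [1, 0, 0, 1, 1, 0, 0],
   [1, 0, 0, 1, 1, 0, 2],
   [1, 0, 0, 1, 1, 1, 0],
   [1, 0, 0, 1, 1, 1, 2],
   [1, 1, 0, 0, 1, 1, 0],
   [1, 1, 0, 0, 1, 1, 2],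
   [0, 0, 1, 0, 0, 1, 1, 0],
   [0, 0, 1, 0, 0, 1, 1, 1],
   [0, 0, 1, 0, 0, 1, 1, 2],
   [0, 0, 1, 1, 0, 0, 1, 1],
   [0, 0, 1, 1, 0, 0, 1, 2],
   [0, 1, 0, 0, 1, 1, 0, 0],
   [0, 1, 0, 0, 1, 1, 0, 2],
   [0, 1, 0, 0, 1, 1, 1, 0],
   [0, 1, 0, 0, 1, 1, 1, 2],
   [0, 1, 1, 0, 0, 1, 1, 0],
   [0, 1, 1, 0, 0, 1, 1, 2],
   [1, 0, 0, 1, 1, 0, 0, 1],
   [1, 0, 0, 1, 1, 0, 0, 2],
   [1, 0, 0, 1, 1, 1, 0, 2],
   [1, 1, 0, 0, 1, 1, 0, 0],
   [1, 1, 0, 0, 1, 1, 0, 2],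
   [0, 0, 1, 0, 0, 1, 1, 0, 0],
   [0, 0, 1, 0, 0, 1, 1, 0, 2],
   [0, 0, 1, 0, 0, 1, 1, 1, 0],
   [0, 0, 1, 0, 0, 1, 1, 1, 2],
   [0, 0, 1, 1, 0, 0, 1, 1, 0],
   [0, 0, 1, 1, 0, 0, 1, 1, 2],
   [0, 1, 0, 0, 1, 1, 0, 0, 1],
   [0, 1, 0, 0, 1, 1, 0, 0, 2],
   [0, 1, 0, 0, 1, 1, 1, 0, 2],
   [0, 1, 1, 0, 0, 1, 1, 0, 0],
   [0, 1, 1, 0, 0, 1, 1, 0, 2],
   [1, 0, 0, 1, 1, 0, 0, 1, 1],
   [1, 0, 0, 1, 1, 0, 0, 1, 2],
   [1, 1, 0, 0, 1, 1, 0, 0, 1],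
   [0, 0, 1, 0, 0, 1, 1, 0, 0, 1],
   [0, 0, 1, 0, 0, 1, 1, 0, 0, 2],
   [0, 0, 1, 0, 0, 1, 1, 1, 0, 2],
   [0, 0, 1, 1, 0, 0, 1, 1, 0, 2],
   [0, 1, 0, 0, 1, 1, 0, 0, 1, 1],
   [0, 1, 1, 0, 0, 1, 1, 0, 0, 1],
   [1, 0, 0, 1, 1, 0, 0, 1, 1, 0],
   [1, 0, 0, 1, 1, 0, 0, 1, 1, 2]]

def cert : List (Fin 120 × List (Fin 3) × Fin 3 × List (Fin 3)) :=
  [(0, [0, 0], 0, []),
   (0, [2], 2, []),
   (0, [0, 1, 0], 1, [2]),
   (1, [2], 2, []),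
   (1, [0, 1, 0], 1, [2]),
   (2, [0, 0], 0, []),
   (2, [2], 2, []),
   (4, [2], 2, []),
   (4, [2], 0, [2, 0, 0]),
   (4, [0, 1, 0], 1, [2]),
   (5, [0, 0], 0, []),
   (5, [2], 2, []),
   (6, [2, 0, 2, 0], 0, []),
   (7, [2], 2, []),
   (8, [0, 0], 0, []),
   (8, [2], 2, []),
   (10, [0, 0], 0, []),
   (10, [2], 2, []),
   (11, [0, 0], 0, []),
   (12, [2], 2, []),
   (13, [0, 0], 0, []),
   (13, [2], 2, []),
   (15, [2], 2, []),
   (15, [2], 0, [2, 0, 0]),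
   (15, [0, 1, 0], 1, [2]),
   (16, [2, 0, 2, 0], 0, []),
   (16, [2, 1, 2, 1, 1, 1], 1, []),
   (17, [2], 2, []),
   (18, [2], 2, []),
   (20, [2], 2, []),
   (21, [0, 0], 0, []),
   (21, [1, 1], 1, [1, 1]),
   (21, [2], 2, []),
   (23, [2], 2, []),
   (23, [2], 0, [2, 0, 0]),
   (23, [0, 1, 0], 1, [2]),
   (24, [2, 0, 2, 0], 0, []),
   (24, [2, 1, 2, 1, 1, 1], 1, []),
   (25, [2], 2, []),
   (26, [2], 2, []),
   (28, [2], 2, []),
   (29, [0, 0], 0, []),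
   (30, [2], 2, []),
   (30, [2], 0, [2, 0, 0]),
   (30, [0, 1, 0], 1, [2]),
   (31, [2, 0, 2, 0], 0, []),
   (31, [2, 1, 2, 1, 1, 1], 1, []),
   (32, [2], 2, []),
   (34, [2], 2, []),
   (34, [2], 0, [2, 0, 0]),
   (34, [0, 1, 0], 1, [2]),
   (35, [2, 0, 2, 0], 0, []),
   (35, [2, 1, 2, 1, 1, 1], 1, []),
   (36, [2], 2, []),
   (37, [2], 2, []),
   (37, [2], 1, [2, 1, 1, 1, 1]),
   (39, [2], 2, []),
   (40, [0, 0], 0, []),
   (41, [2], 2, []),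
   (41, [2], 0, [2, 0, 0]),
   (41, [0, 1, 0], 1, [2]),
   (42, [2, 0, 2, 0], 0, []),
   (42, [2, 1, 2, 1, 1, 1], 1, []),
   (43, [2], 2, []),
   (45, [0, 0], 0, []),
   (45, [1, 1], 1, [1, 1]),
   (45, [2], 2, []),
   (46, [], 0, [1, 0, 1, 2]),
   (47, [2], 2, []),
   (48, [0, 0], 0, []),
   (50, [2], 2, []),
   (51, [0, 0], 0, []),
   (52, [2], 2, []),
   (52, [2], 0, [2, 0, 0]),
   (52, [0, 1, 0], 1, [2]),
   (53, [2, 0, 2, 0], 0, []),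
   (53, [2, 1, 2, 1, 1, 1], 1, []),
   (54, [2], 2, []),
   (55, [2, 0, 2], 0, [0]),
   (56, [0, 0], 0, []),
   (56, [1, 1], 1, [1, 1]),
   (56, [2], 2, []),
   (58, [2], 2, []),
   (59, [0, 0], 0, []),
   (61, [2], 2, []),
   (62, [2], 2, []),
   (62, [2], 1, [2, 1, 1, 1, 1]),
   (64, [0, 0], 0, []),
   (64, [2], 2, []),
   (65, [], 0, [1, 0, 1, 2]),
   (66, [0, 0], 0, []),
   (66, [1, 1], 1, [1, 1]),
   (66, [2], 2, []),
   (68, [2], 2, []),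
   (69, [0, 0], 0, []),
   (70, [0, 0], 0, []),
   (70, [2], 0, [2, 0, 0]),
   (71, [2], 2, []),
   (72, [2], 2, []),
   (72, [2], 1, [2, 1, 1, 1, 1]),
   (74, [0, 0], 0, []),
   (74, [2], 2, []),
   (75, [], 0, [1, 0, 1, 2]),
   (76, [2], 2, []),
   (76, [2], 0, [2, 0, 0]),
   (76, [0, 1, 0], 1, [2]),
   (77, [2, 0, 2, 0], 0, []),
   (78, [2], 2, []),
   (79, [2, 0, 2], 0, [0]),
   (80, [2], 2, []),
   (82, [2], 2, []),
   (83, [2], 2, []),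
   (83, [2], 1, [2, 1, 1, 1, 1]),
   (85, [2], 2, []),
   (86, [], 0, [1, 0, 1, 2]),
   (87, [2], 2, []),
   (87, [2], 0, [2, 0, 0]),
   (87, [0, 1, 0], 1, [2]),
   (88, [2, 0, 2, 0], 0, []),
   (89, [2], 2, []),
   (90, [2, 0, 2], 0, [0]),
   (91, [2], 2, []),
   (93, [2], 2, []),
   (94, [0, 0], 0, []),
   (95, [0, 0], 0, []),
   (95, [2], 0, [2, 0, 0]),
   (98, [2], 2, []),
   (98, [2], 0, [2, 0, 0]),
   (98, [0, 1, 0], 1, [2]),
   (99, [2, 0, 2, 0], 0, []),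
   (100, [2], 2, []),
   (101, [2, 0, 2], 0, [0]),
   (102, [2], 2, []),
   (105, [0, 0], 0, []),
   (106, [0, 0], 0, []),
   (106, [2], 0, [2, 0, 0]),
   (109, [2], 2, []),
   (113, [0, 0], 0, []),
   (114, [0, 0], 0, []),
   (114, [2], 0, [2, 0, 0]),
   (0, [1, 1, 1, 1], 1, []),
   (0, [2], 1, [2, 1, 1, 1, 1]),
   (1, [1, 1, 1, 1], 1, []),
   (1, [2], 1, [2, 1, 1, 1, 1]),
   (2, [2], 1, [2, 1, 1, 1, 1]),
   (4, [2], 1, [2, 1, 1, 1, 1]),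
   (5, [2], 1, [2, 1, 1, 1, 1]),
   (7, [0, 1], 0, [1, 2]),
   (8, [2], 1, [2, 1, 1, 1, 1]),
   (9, [1, 1], 1, [1, 1]),
   (10, [2], 1, [2, 1, 1, 1, 1]),
   (11, [1, 1], 1, [1, 1]),
   (12, [0, 1], 0, [1, 2]),
   (13, [2], 1, [2, 1, 1, 1, 1]),
   (14, [1, 1], 1, [1, 1]),
   (15, [2], 1, [2, 1, 1, 1, 1]),
   (17, [0, 1], 0, [1, 2]),
   (18, [0], 0, [0]),
   (18, [2], 0, [2, 0, 0]),
   (20, [0, 1], 0, [1, 2]),
   (23, [2], 1, [2, 1, 1, 1, 1]),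
   (24, [0, 1], 0, [1, 2]),
   (25, [0, 1], 0, [1, 2]),
   (26, [0], 0, [0]),
   (26, [2], 0, [2, 0, 0]),
   (28, [2], 1, [2, 1, 1, 1, 1]),
   (29, [1, 1], 1, [1, 1]),
   (31, [0], 1, [0, 1, 2]),
   (32, [2], 0, [2, 0, 0]),
   (32, [0, 1, 0], 1, [2]),
   (33, [0], 1, [0, 1, 2]),
   (34, [2], 1, [2, 1, 1, 1, 1]),
   (35, [0, 1], 0, [1, 2]),
   (36, [0, 1], 0, [1, 2]),
   (39, [2], 1, [2, 1, 1, 1, 1]),
   (40, [1, 1], 1, [1, 1]),
   (42, [0], 1, [0, 1, 2]),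
   (43, [2], 0, [2, 0, 0]),
   (43, [0, 1, 0], 1, [2]),
   (44, [0], 1, [0, 1, 2]),
   (45, [0], 1, [0, 1, 2]),
   (47, [1], 1, [1, 1, 1]),
   (47, [2], 1, [2, 1, 1, 1, 1]),
   (49, [0, 1, 0], 1, [2]),
   (50, [2], 1, [2, 1, 1, 1, 1]),
   (51, [1, 1], 1, [1, 1]),
   (53, [0], 1, [0, 1, 2]),
   (55, [0], 1, [0, 1, 2]),
   (58, [1], 1, [1, 1, 1]),
   (58, [2], 1, [2, 1, 1, 1, 1]),
   (60, [0, 1, 0], 1, [2]),
   (61, [1, 1, 1, 1], 1, []),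
   (61, [2], 1, [2, 1, 1, 1, 1]),
   (64, [2], 0, [2, 0, 0]),
   (64, [2], 1, [2, 1, 1, 1, 1]),
   (64, [0], 1, [0, 1, 2]),
   (68, [2], 1, [2, 1, 1, 1, 1]),
   (69, [1, 1], 1, [1, 1]),
   (71, [0, 1], 0, [1, 2]),
   (74, [2], 0, [2, 0, 0]),
   (74, [2], 1, [2, 1, 1, 1, 1]),
   (74, [0], 1, [0, 1, 2]),
   (79, [0], 1, [0, 1, 2]),
   (80, [1, 1, 1, 1], 1, []),
   (80, [2], 1, [2, 1, 1, 1, 1]),
   (81, [0], 0, [0]),
   (82, [0, 1], 0, [1, 2]),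
   (85, [0], 1, [0, 1, 2]),
   (88, [0], 1, [0, 1, 2]),
   (90, [0], 1, [0, 1, 2]),
   (91, [1, 1, 1, 1], 1, []),
   (91, [2], 1, [2, 1, 1, 1, 1]),
   (92, [0], 0, [0]),
   (93, [2], 1, [2, 1, 1, 1, 1]),
   (94, [2, 1, 2, 1], 1, [1, 1]),
   (96, [1], 1, [1, 1, 1]),
   (96, [], 2, [0, 2, 0, 0]),
   (96, [2, 1], 2, [1, 1, 1, 1]),
   (96, [0, 1, 0, 1], 2, []),
   (97, [1, 1], 1, [1, 1]),
   (97, [0, 1], 0, [1, 2]),
   (99, [0], 1, [0, 1, 2]),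
   (101, [0], 1, [0, 1, 2]),
   (104, [2, 1], 2, [1, 1, 1, 1]),
   (107, [], 2, [0, 2, 0, 0]),
   (107, [0, 1, 0, 1], 2, []),
   (109, [0], 0, [0]),
   (110, [], 0, [1, 0, 1, 2]),
   (111, [], 0, [1, 0, 1, 2]),
   (115, [2, 1, 2, 1, 1, 1], 1, []),
   (117, [1], 1, [1, 1, 1]),
   (118, [0, 1, 0, 1], 2, []),
   (61, [0, 1], 0, [1, 2]),
   (85, [0], 0, [0]),
   (85, [2], 0, [2, 0, 0]),
   (91, [0, 1], 0, [1, 2]),
   (93, [0, 0], 0, []),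
   (102, [0, 1], 0, [1, 2]),
   (108, [0], 1, [0, 1, 2]),
   (109, [0], 1, [0, 1, 2]),
   (117, [2], 2, [])]

/-- The table as a function. -/
def act : Fin 120 → Fin 3 → Fin 120 := fun ω s =>
  ⟨((actTab.getD ω.val []).getD s.val 0) % 120, Nat.mod_lt _ (by norm_num)⟩

/-- The spanning tree words. -/
def word : Fin 120 → List (Fin 3) := fun ω => wordTab.getD ω.val []

/-- The relators as positive words. -/
def R : List (List (Fin 3)) :=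
  [[0, 0, 0], [1, 1, 1, 1, 1], [2, 2], [2, 0, 2, 0, 0], [2, 1, 2, 1, 1, 1, 1], [0, 1, 0, 1, 2]]

set_option maxRecDepth 100000 in
theorem cert_ok : ∀ e : Fin 120 × Fin 3, e ∈ run act R (treeEdges act word) cert := by
  decide +kernel

/-- The relators of the presentation. -/
abbrev rels : Set (FreeGroup (Fin 3)) :=
  {FreeGroup.of (0 : Fin 3) ^ 3, FreeGroup.of (1 : Fin 3) ^ 5, FreeGroup.of (2 : Fin 3) ^ 2,
    (FreeGroup.of (2 : Fin 3))⁻¹ * FreeGroup.of 0 * FreeGroup.of 2 * (FreeGroup.of (0 : Fin 3))⁻¹,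
    (FreeGroup.of (2 : Fin 3))⁻¹ * FreeGroup.of 1 * FreeGroup.of 2 * (FreeGroup.of (1 : Fin 3))⁻¹,
    (FreeGroup.of (0 : Fin 3) * FreeGroup.of 1) ^ 2 * (FreeGroup.of (2 : Fin 3))⁻¹}

/-- The presented group. -/
abbrev P := PresentedGroup rels

/-- The generators of the presented group. -/
def gens : Fin 3 → P := fun i => PresentedGroup.of i

theorem rel_x : gens 0 ^ 3 = 1 := by
  have : PresentedGroup.mk rels (FreeGroup.of (0 : Fin 3) ^ 3) = 1 :=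
    PresentedGroup.one_of_mem (by simp [rels])
  rwa [map_pow] at this

theorem rel_y : gens 1 ^ 5 = 1 := by
  have : PresentedGroup.mk rels (FreeGroup.of (1 : Fin 3) ^ 5) = 1 :=
    PresentedGroup.one_of_mem (by simp [rels])
  rwa [map_pow] at this

theorem rel_z : gens 2 ^ 2 = 1 := by
  have : PresentedGroup.mk rels (FreeGroup.of (2 : Fin 3) ^ 2) = 1 :=
    PresentedGroup.one_of_mem (by simp [rels])
  rwa [map_pow] at this

theorem rel_zx : gens 0 * gens 2 = gens 2 * gens 0 := by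
  have : PresentedGroup.mk rels ((FreeGroup.of (2 : Fin 3))⁻¹ * FreeGroup.of 0 * FreeGroup.of 2 *
      (FreeGroup.of (0 : Fin 3))⁻¹) = 1 := PresentedGroup.one_of_mem (by simp [rels])
  rw [map_mul, map_mul, map_mul, map_inv, map_inv] at this
  change (gens 2)⁻¹ * gens 0 * gens 2 * (gens 0)⁻¹ = 1 at this
  have h2 : (gens 2)⁻¹ * gens 0 * gens 2 = gens 0 := by
    rw [mul_inv_eq_one] at this; exact this
  calc gens 0 * gens 2 = gens 2 * ((gens 2)⁻¹ * gens 0 * gens 2) := by group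
    _ = gens 2 * gens 0 := by rw [h2]

theorem rel_zy : gens 1 * gens 2 = gens 2 * gens 1 := by
  have : PresentedGroup.mk rels ((FreeGroup.of (2 : Fin 3))⁻¹ * FreeGroup.of 1 * FreeGroup.of 2 *
      (FreeGroup.of (1 : Fin 3))⁻¹) = 1 := PresentedGroup.one_of_mem (by simp [rels])
  rw [map_mul, map_mul, map_mul, map_inv, map_inv] at this
  change (gens 2)⁻¹ * gens 1 * gens 2 * (gens 1)⁻¹ = 1 at this
  have h2 : (gens 2)⁻¹ * gens 1 * gens 2 = gens 1 := by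
    rw [mul_inv_eq_one] at this; exact this
  calc gens 1 * gens 2 = gens 2 * ((gens 2)⁻¹ * gens 1 * gens 2) := by group
    _ = gens 2 * gens 1 := by rw [h2]

theorem rel_xy : (gens 0 * gens 1) ^ 2 = gens 2 := by
  have : PresentedGroup.mk rels ((FreeGroup.of (0 : Fin 3) * FreeGroup.of 1) ^ 2 *
      (FreeGroup.of (2 : Fin 3))⁻¹) = 1 := PresentedGroup.one_of_mem (by simp [rels])
  rw [map_mul, map_pow, map_mul, map_inv] at this
  change (gens 0 * gens 1) ^ 2 * (gens 2)⁻¹ = 1 at this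
  rwa [mul_inv_eq_one] at this

theorem hR : ∀ r ∈ R, prodL gens r = 1 := by
  intro r hr
  simp only [R, List.mem_cons, List.not_mem_nil, or_false] at hr
  have hz2 : gens 2 * gens 2 = 1 := by rw [← pow_two]; exact rel_z
  rcases hr with rfl | rfl | rfl | rfl | rfl | rfl
  · simpa [prodL, pow_succ, mul_assoc] using rel_x
  · simpa [prodL, pow_succ, mul_assoc] using rel_y
  · simpa [prodL, pow_succ, mul_assoc] using rel_z
  · have : gens 2 * gens 0 * gens 2 * gens 0 * gens 0 = 1 := by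
      calc gens 2 * gens 0 * gens 2 * gens 0 * gens 0
          = gens 2 * (gens 0 * gens 2) * gens 0 * gens 0 := by simp only [mul_assoc]
        _ = gens 2 * (gens 2 * gens 0) * gens 0 * gens 0 := by rw [rel_zx]
        _ = (gens 2 * gens 2) * gens 0 ^ 3 := by simp only [mul_assoc, pow_succ, pow_zero, one_mul]
        _ = 1 := by rw [hz2, rel_x, one_mul]
    simpa [prodL, mul_assoc] using this
  · have : gens 2 * gens 1 * gens 2 * gens 1 * gens 1 * gens 1 * gens 1 = 1 := by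
      calc gens 2 * gens 1 * gens 2 * gens 1 * gens 1 * gens 1 * gens 1
          = gens 2 * (gens 1 * gens 2) * gens 1 * gens 1 * gens 1 * gens 1 := by
            simp only [mul_assoc]
        _ = gens 2 * (gens 2 * gens 1) * gens 1 * gens 1 * gens 1 * gens 1 := by rw [rel_zy]
        _ = (gens 2 * gens 2) * gens 1 ^ 5 := by
            simp only [mul_assoc, pow_succ, pow_zero, one_mul]
        _ = 1 := by rw [hz2, rel_y, one_mul]
    simpa [prodL, mul_assoc] using this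
  · have : gens 0 * gens 1 * gens 0 * gens 1 * gens 2 = 1 := by
      calc gens 0 * gens 1 * gens 0 * gens 1 * gens 2
          = (gens 0 * gens 1) ^ 2 * gens 2 := by simp only [pow_two, mul_assoc]
        _ = 1 := by rw [rel_xy, hz2]
    simpa [prodL, mul_assoc] using this

theorem hgen : Subgroup.closure (Set.range gens) = ⊤ := PresentedGroup.closure_range_of rels

theorem surj : Function.Surjective (fun ω : Fin 120 => prodL gens (word ω)) :=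
  surjective_of_cert gens hgen act word 0 (by decide) R hR cert cert_ok

/-! ### The homomorphism onto `SL₂(5)` -/

/-- images of the generators -/
def gS : Fin 3 → Matrix.SpecialLinearGroup (Fin 2) (ZMod 5) := fun i =>
  if i = 0 then ⟨!![0, 4; 1, 4], by decide⟩
  else if i = 1 then ⟨!![1, 1; 0, 1], by decide⟩
  else ⟨!![4, 0; 0, 4], by decide⟩

theorem gS_rels : ∀ r ∈ rels, FreeGroup.lift gS r = 1 := by
  intro r hr
  simp only [rels, Set.mem_insert_iff, Set.mem_singleton_iff] at hr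
  rcases hr with rfl | rfl | rfl | rfl | rfl | rfl
  · rw [map_pow, FreeGroup.lift_apply_of]; decide
  · rw [map_pow, FreeGroup.lift_apply_of]; decide
  · rw [map_pow, FreeGroup.lift_apply_of]; decide
  · simp only [map_mul, map_inv, FreeGroup.lift_apply_of]; decide
  · simp only [map_mul, map_inv, FreeGroup.lift_apply_of]; decide
  · simp only [map_mul, map_pow, map_inv, FreeGroup.lift_apply_of]; decide

/-- the homomorphism -/
def phi : P →* Matrix.SpecialLinearGroup (Fin 2) (ZMod 5) := PresentedGroup.toGroup gS_rels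

theorem phi_prodL (l : List (Fin 3)) : phi (prodL gens l) = prodL gS l := by
  induction l with
  | nil => simp [prodL]
  | cons s l ih =>
    rw [prodL_cons, prodL_cons, map_mul, ih]
    congr 1
    exact PresentedGroup.toGroup.of gS_rels

set_option maxRecDepth 100000 in
theorem gS_surj : ∀ g : Matrix.SpecialLinearGroup (Fin 2) (ZMod 5),
    ∃ ω : Fin 120, prodL gS (word ω) = g := by
  decide +kernel

set_option maxRecDepth 100000 in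
theorem gS_inj : ∀ ω : Fin 120, prodL gS (word ω) = 1 → ω = 0 := by
  decide +kernel

theorem phi_bijective : Function.Bijective phi := by
  constructor
  · rw [injective_iff_map_eq_one]
    intro g hg
    obtain ⟨ω, rfl⟩ := surj g
    simp only at hg
    rw [phi_prodL] at hg
    have := gS_inj ω hg
    subst this
    rfl
  · intro g
    obtain ⟨ω, hω⟩ := gS_surj g
    exact ⟨prodL gens (word ω), by rw [phi_prodL, hω]⟩

/-- The presented group is `SL₂(5)`. -/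
noncomputable def equiv : P ≃* Matrix.SpecialLinearGroup (Fin 2) (ZMod 5) :=
  MulEquiv.ofBijective phi phi_bijective

end Cfsg.Agent.Helper3.SL25Pres
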