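import Mathlib
import Cfsg.Agent.S3378

/-!
# Zassenhaus project, PIECE Out

A normal perfect subgroup `L` of order 120 with quaternion Sylow 2-subgroups has index at most 2 in
`L · C_G(L)` (action on the five Sylow 2-subgroups of `L`).
-/

set_option autoImplicit false

namespace Cfsg.Agent.Helper3.ZasOut

open Cfsg.Agent.S3378

universe u

section abstract

variable {Λ : Type u} [Group Λ] [Finite Λ]

theorem not_solvable_quotient (hperf : commutator Λ = ⊤) (N : Subgroup Λ) [N.Normal]
    (hN : N ≠ ⊤) : ¬ Group.IsSolvable (Λ ⧸ N) := by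
  intro hs
  have hnt : Nontrivial (Λ ⧸ N) := by
    rw [← Finite.one_lt_card_iff_nontrivial]
    have h1 : N.index ≠ 1 := fun h => hN (Subgroup.index_eq_one.1 h)
    have h0 : N.index ≠ 0 := Subgroup.index_ne_zero_of_finite
    have : Nat.card (Λ ⧸ N) = N.index := rfl
    omega
  have hlt := Group.IsSolvable.commutator_lt_top_of_nontrivial (Λ ⧸ N)
  apply hlt.ne
  rw [commutator_def, eq_top_iff]
  rintro x -
  obtain ⟨y, rfl⟩ := QuotientGroup.mk'_surjective N x
  have hy : y ∈ commutator Λ := by rw [hperf]; trivial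
  rw [commutator_def] at hy
  have h := Subgroup.mem_map_of_mem (QuotientGroup.mk' N) hy
  rw [Subgroup.map_commutator] at h
  have htop : (⊤ : Subgroup Λ).map (QuotientGroup.mk' N) = ⊤ := by
    rw [← MonoidHom.range_eq_map]
    exact MonoidHom.range_eq_top.2 (QuotientGroup.mk'_surjective N)
  rwa [htop] at h

/-- a proper nontrivial normal subgroup of a perfect group of order 120 has order 2 -/
theorem card_normal_eq_two (h120 : Nat.card Λ = 120) (hperf : commutator Λ = ⊤) (N : Subgroup Λ)
    [N.Normal] (h0 : N ≠ ⊥) (h1 : N ≠ ⊤) : Nat.card N = 2 := by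
  have hns := not_solvable_quotient hperf N h1
  have hmul := N.card_mul_index
  rw [h120] at hmul
  have h60 : 60 ≤ N.index := by
    by_contra hlt
    exact hns (solvable_of_card_lt N.index (by omega) (Λ ⧸ N) rfl)
  have hN1 : 1 < Nat.card N := by rw [Subgroup.one_lt_card_iff_ne_bot]; exact h0
  have : Nat.card N * 60 ≤ 120 := by
    calc Nat.card N * 60 ≤ Nat.card N * N.index := Nat.mul_le_mul_left _ h60
      _ = 120 := hmul
  omega

omit [Finite Λ] in
/-- a normal subgroup of order 2 is central -/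
theorem le_center_of_card_two (N : Subgroup Λ) [hN : N.Normal] (h2 : Nat.card N = 2) :
    N ≤ Subgroup.center Λ := by
  intro z hz
  rw [Subgroup.mem_center_iff]
  intro g
  by_cases hz1 : z = 1
  · subst hz1; simp
  · have hc : g * z * g⁻¹ ∈ N := hN.conj_mem z hz g
    obtain ⟨y, hy, huniq⟩ := (Nat.card_eq_two_iff' (1 : N)).1 h2
    have e1 : (⟨z, hz⟩ : N) = y := huniq _ (fun h => hz1 (congrArg Subtype.val h))
    have e2 : (⟨g * z * g⁻¹, hc⟩ : N) = y := huniq _ (fun h => hz1 (by
      have h' := congrArg Subtype.val h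
      simpa using h'))
    have h3 : g * z * g⁻¹ = z := congrArg Subtype.val (e2.trans e1.symm)
    calc g * z = (g * z * g⁻¹) * g := by group
      _ = z * g := by rw [h3]

/-- the kernel of the action on the Sylow 2-subgroups is proper when there are at least two -/
theorem ker_toPermHom_ne_top (h2 : 1 < Nat.card (Sylow 2 Λ)) :
    (MulAction.toPermHom Λ (Sylow 2 Λ)).ker ≠ ⊤ := by
  have : Fact (Nat.Prime 2) := ⟨Nat.prime_two⟩
  intro h0
  have hnt : Nontrivial (Sylow 2 Λ) := by
    rw [← Finite.one_lt_card_iff_nontrivial]; exact h2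
  obtain ⟨P, Q, hPQ⟩ := exists_pair_ne (Sylow 2 Λ)
  obtain ⟨g, hg⟩ := MulAction.exists_smul_eq Λ P Q
  have hgk : g ∈ (MulAction.toPermHom Λ (Sylow 2 Λ)).ker := by rw [h0]; trivial
  rw [MonoidHom.mem_ker] at hgk
  have h1 : MulAction.toPermHom Λ (Sylow 2 Λ) g P = P := by rw [hgk]; rfl
  exact hPQ (h1.symm.trans hg)

theorem normalizer_ne_self (h120 : Nat.card Λ = 120) (hperf : commutator Λ = ⊤) (P : Sylow 2 Λ)
    (hPcard : Nat.card P = 8) : Subgroup.normalizer ((P : Subgroup Λ) : Set Λ) ≠ P := by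
  classical
  have : Fact (Nat.Prime 2) := ⟨Nat.prime_two⟩
  intro hNP
  have hnt : Nontrivial Λ := by
    rw [← Finite.one_lt_card_iff_nontrivial, h120]; norm_num
  obtain ⟨N, hNn, hN0, hN1⟩ := exists_normal_of_not_simple Λ (not_simple_120 Λ h120)
  have hN2 : Nat.card N = 2 := card_normal_eq_two h120 hperf N hN0 hN1
  have hNp : IsPGroup 2 N := IsPGroup.of_card (n := 1) (by rw [hN2]; norm_num)
  have hNP' : N ≤ (P : Subgroup Λ) := by
    have hsup : IsPGroup 2 ((P : Subgroup Λ) ⊔ N : Subgroup Λ) := P.2.to_sup_of_normal_right hNp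
    have := P.is_maximal' hsup le_sup_left
    rw [← this]; exact le_sup_right
  -- the quotient
  have h60 : Nat.card (Λ ⧸ N) = 60 := by
    have := Subgroup.card_eq_card_quotient_mul_card_subgroup N
    rw [h120, hN2] at this; omega
  have hsimple : IsSimpleGroup (Λ ⧸ N) :=
    simple_of_card_60 (Λ ⧸ N) h60 (not_solvable_quotient hperf N hN1)
  have hsurj := QuotientGroup.mk'_surjective N
  have hcomap : ((P : Subgroup Λ).map (QuotientGroup.mk' N)).comap (QuotientGroup.mk' N) = P := by
    rw [Subgroup.comap_map_eq, QuotientGroup.ker_mk']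
    exact sup_eq_left.2 hNP'
  have hidxP : (P : Subgroup Λ).index = 15 := by
    have := (P : Subgroup Λ).card_mul_index
    rw [hPcard, h120] at this; omega
  have hidx : ((P : Subgroup Λ).map (QuotientGroup.mk' N)).index = 15 := by
    rw [← Subgroup.index_comap_of_surjective _ hsurj, hcomap]; exact hidxP
  have hcard4 : Nat.card ((P : Subgroup Λ).map (QuotientGroup.mk' N)) = 4 := by
    have := ((P : Subgroup Λ).map (QuotientGroup.mk' N)).card_mul_index
    rw [hidx, h60] at this; omega
  obtain ⟨Q, hQ⟩ := (IsPGroup.of_card (p := 2) (n := 2) (by rw [hcard4]; norm_num)).exists_le_sylow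
  have hQcard : Nat.card Q = 2 ^ 2 :=
    Cfsg.Agent.Helper2.SylowExact.card_sylow_of_exact_pow (s := 2) (k := 2) (m := 15)
      (by rw [h60]; norm_num) (by norm_num) Q
  have hPQ : (P : Subgroup Λ).map (QuotientGroup.mk' N) = (Q : Subgroup (Λ ⧸ N)) :=
    Subgroup.eq_of_le_of_card_ge hQ (by rw [hQcard, hcard4]; norm_num)
  have hNC : Subgroup.normalizer ((Q : Subgroup (Λ ⧸ N)) : Set (Λ ⧸ N)) ≤
      Subgroup.centralizer (Q : Set (Λ ⧸ N)) := by
    intro x hx
    obtain ⟨g, rfl⟩ := hsurj x
    have h1 : g ∈ (Subgroup.normalizer ((Q : Subgroup (Λ ⧸ N)) : Set (Λ ⧸ N))).comap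
        (QuotientGroup.mk' N) := hx
    rw [Subgroup.comap_normalizer_eq_of_surjective _ hsurj, ← hPQ, hcomap, hNP] at h1
    have h2 : QuotientGroup.mk' N g ∈ (Q : Subgroup (Λ ⧸ N)) := by
      rw [← hPQ]; exact Subgroup.mem_map_of_mem _ h1
    rw [Subgroup.mem_centralizer_iff]
    intro y hy
    have hcomm := (IsPGroup.isMulCommutative_of_card_eq_prime_sq (p := 2) hQcard).is_comm.comm
      (⟨y, hy⟩ : (Q : Subgroup (Λ ⧸ N))) ⟨_, h2⟩
    exact congrArg Subtype.val hcomm
  have hcomp := MonoidHom.ker_transferSylow_isComplement' Q hNC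
  have hmul := hcomp.card_mul_card
  rw [h60, hQcard] at hmul
  rcases (MonoidHom.normal_ker (MonoidHom.transferSylow Q hNC)).eq_bot_or_eq_top with hk | hk
  · rw [hk, Subgroup.card_bot] at hmul; omega
  · rw [hk, Subgroup.card_top, h60] at hmul; omega

/-- a perfect group of order 120 with quaternion Sylow 2-subgroups has exactly five of them -/
theorem card_sylow_two (h120 : Nat.card Λ = 120) (hperf : commutator Λ = ⊤) :
    Nat.card (Sylow 2 Λ) = 5 := by
  classical
  have : Fact (Nat.Prime 2) := ⟨Nat.prime_two⟩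
  let P : Sylow 2 Λ := default
  have hPcard : Nat.card P = 8 := by
    have := Cfsg.Agent.Helper2.SylowExact.card_sylow_of_exact_pow (s := 2) (k := 3) (m := 15)
      (by rw [h120]; norm_num) (by norm_num) P
    rw [this]; norm_num
  have hidxP : (P : Subgroup Λ).index = 15 := by
    have := (P : Subgroup Λ).card_mul_index
    rw [hPcard, h120] at this; omega
  have hdvd : Nat.card (Sylow 2 Λ) ∣ 15 := hidxP ▸ Sylow.card_dvd_index P
  have hmod : Nat.card (Sylow 2 Λ) % 2 = 1 := by
    have := card_sylow_modEq_one 2 Λ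
    rw [Nat.ModEq] at this
    simpa using this
  have hnorm : Nat.card (Sylow 2 Λ) = (Subgroup.normalizer ((P : Subgroup Λ) : Set Λ)).index :=
    Sylow.card_eq_index_normalizer P
  have hP0 : (P : Subgroup Λ) ≠ ⊥ := by
    intro h
    rw [h, Subgroup.card_bot] at hPcard; omega
  have hP1 : (P : Subgroup Λ) ≠ ⊤ := by
    intro h
    rw [h, Subgroup.card_top, h120] at hPcard; omega
  -- `n₂ ≠ 1`
  have hne1 : Nat.card (Sylow 2 Λ) ≠ 1 := by
    intro h1
    have hsub : Subsingleton (Sylow 2 Λ) :=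
      Finite.card_le_one_iff_subsingleton.1 (by rw [h1])
    have hPn : (P : Subgroup Λ).Normal := Sylow.normal_of_subsingleton P
    have := card_normal_eq_two h120 hperf (P : Subgroup Λ) hP0 hP1
    omega
  -- `n₂ ≠ 3`
  have hne3 : Nat.card (Sylow 2 Λ) ≠ 3 := by
    intro h3
    have hk1 := ker_toPermHom_ne_top (Λ := Λ) (by rw [h3]; norm_num)
    have hidx := Subgroup.index_ker (MulAction.toPermHom Λ (Sylow 2 Λ))
    have hle : Nat.card (MulAction.toPermHom Λ (Sylow 2 Λ)).range ≤ 6 := by
      have h1 := Subgroup.card_le_card_group (MulAction.toPermHom Λ (Sylow 2 Λ)).range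
      rw [Nat.card_perm, h3] at h1
      exact h1
    have hmul := (MulAction.toPermHom Λ (Sylow 2 Λ)).ker.card_mul_index
    rw [hidx, h120] at hmul
    have hk0 : (MulAction.toPermHom Λ (Sylow 2 Λ)).ker ≠ ⊥ := by
      intro h
      rw [h, Subgroup.card_bot] at hmul
      omega
    have := card_normal_eq_two h120 hperf _ hk0 hk1
    rw [this] at hmul
    omega
  -- `n₂ ≠ 15`
  have hne15 : Nat.card (Sylow 2 Λ) ≠ 15 := by
    intro h15
    apply normalizer_ne_self h120 hperf P hPcard
    have hmul := (Subgroup.normalizer ((P : Subgroup Λ) : Set Λ)).card_mul_index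
    rw [← hnorm, h15, h120] at hmul
    exact (Subgroup.eq_of_le_of_card_ge Subgroup.le_normalizer (by rw [hPcard]; omega)).symm
  have hmem : Nat.card (Sylow 2 Λ) ∈ Nat.divisors 15 := Nat.mem_divisors.2 ⟨hdvd, by norm_num⟩
  have hdiv : Nat.divisors 15 = {1, 3, 5, 15} := by decide
  rw [hdiv] at hmem
  simp only [Finset.mem_insert, Finset.mem_singleton] at hmem
  rcases hmem with h | h | h | h
  · exact absurd h hne1
  · exact absurd h hne3
  · exact h
  · exact absurd h hne15

end abstract

section main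

variable {G : Type*} [Group G] [Finite G]

/-- PIECE Out (a normal perfect subgroup of order 120 with quaternion Sylow 2-subgroups has index ≤ 2 in
`L·C_G(L)`; via the action on the 5 Sylow 2-subgroups). -/
theorem index_le_two_of_normal_120 (L : Subgroup G) [L.Normal]
    (hL : Nat.card L = 120) (hLperf : ⁅L, L⁆ = L)
    (hQ : ∀ P : Sylow 2 L, Nonempty ((P : Subgroup L) ≃* QuaternionGroup 2)) :
    (L ⊔ Subgroup.centralizer (L : Set G)).index ≤ 2 ∧
      (L ⊔ Subgroup.centralizer (L : Set G)).index ≠ 0 := by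
  classical
  have : Fact (Nat.Prime 2) := ⟨Nat.prime_two⟩
  refine ⟨?_, Subgroup.index_ne_zero_of_finite⟩
  -- `L` is perfect as a group
  have hperf : commutator ↥L = ⊤ := by
    apply Subgroup.map_injective L.subtype_injective
    rw [Subgroup.map_subtype_commutator, hLperf, ← MonoidHom.range_eq_map, Subgroup.range_subtype]
  have h5 : Nat.card (Sylow 2 ↥L) = 5 := card_sylow_two hL hperf
  -- the actions
  let ψ : ↥L →* Equiv.Perm (Sylow 2 ↥L) := MulAction.toPermHom ↥L (Sylow 2 ↥L)
  let φ : G →* Equiv.Perm (Sylow 2 ↥L) :=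
    (MulAction.toPermHom (MulAut ↥L) (Sylow 2 ↥L)).comp MulAut.conjNormal
  have hφψ : ∀ x : ↥L, φ (x : G) = ψ x := by
    intro x
    ext P : 1
    show (MulAut.conjNormal (x : G) : MulAut ↥L) • P = x • P
    rw [MulAut.conjNormal_val, Sylow.smul_def]
  have hk1 : ψ.ker ≠ ⊤ := ker_toPermHom_ne_top (by rw [h5]; norm_num)
  -- the central subgroup of order 2
  have hnt : Nontrivial ↥L := by
    rw [← Finite.one_lt_card_iff_nontrivial, hL]; norm_num
  obtain ⟨N, hNn, hN0, hN1⟩ := exists_normal_of_not_simple ↥L (not_simple_120 ↥L hL)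
  have hN2 : Nat.card N = 2 := card_normal_eq_two hL hperf N hN0 hN1
  have hNc : N ≤ Subgroup.center ↥L := le_center_of_card_two N hN2
  have hNk : N ≤ ψ.ker := by
    intro z hz
    rw [MonoidHom.mem_ker]
    ext P : 1
    show z • P = P
    exact Sylow.smul_eq_iff_mem_normalizer.2 (Subgroup.center_le_normalizer _ (hNc hz))
  have hk0 : ψ.ker ≠ ⊥ := by
    intro h
    rw [h] at hNk
    exact hN0 (le_bot_iff.1 hNk)
  have hk2 : Nat.card ψ.ker = 2 := card_normal_eq_two hL hperf ψ.ker hk0 hk1
  have hkc : ψ.ker ≤ Subgroup.center ↥L := le_center_of_card_two ψ.ker hk2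
  have hrange : Nat.card ψ.range = 60 := by
    have h1 := Subgroup.index_ker ψ
    have h2 := ψ.ker.card_mul_index
    rw [h1, hk2, hL] at h2; omega
  -- `φ.ker ⊓ L` is central in `L`
  have hcent : φ.ker ⊓ L ≤ Subgroup.centralizer (L : Set G) := by
    rintro x ⟨hxk, hxL⟩
    have hx : (⟨x, hxL⟩ : ↥L) ∈ ψ.ker := by
      rw [MonoidHom.mem_ker, ← hφψ]; exact hxk
    have hxc := hkc hx
    rw [Subgroup.mem_centralizer_iff]
    intro y hy
    have := (Subgroup.mem_center_iff.1 hxc) ⟨y, hy⟩
    exact congrArg Subtype.val this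
  -- three subgroups lemma
  have hker_le : φ.ker ≤ Subgroup.centralizer (L : Set G) := by
    have h1 : ⁅⁅φ.ker, L⁆, L⁆ = ⊥ := by
      rw [Subgroup.commutator_eq_bot_iff_le_centralizer]
      exact (Subgroup.commutator_le_inf φ.ker L).trans hcent
    have h2 : ⁅⁅L, φ.ker⁆, L⁆ = ⊥ := by rw [Subgroup.commutator_comm L φ.ker]; exact h1
    have h3 : ⁅⁅L, L⁆, φ.ker⁆ = ⊥ := Subgroup.commutator_commutator_eq_bot_of_rotate h2 h1
    rw [hLperf, Subgroup.commutator_comm, Subgroup.commutator_eq_bot_iff_le_centralizer] at h3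
    exact h3
  -- the index
  have hle : L ⊔ φ.ker ≤ L ⊔ Subgroup.centralizer (L : Set G) := sup_le_sup_left hker_le L
  have hidx1 : (L ⊔ Subgroup.centralizer (L : Set G)).index ≤ (L ⊔ φ.ker).index :=
    Nat.le_of_dvd (Nat.pos_of_ne_zero Subgroup.index_ne_zero_of_finite)
      (Subgroup.index_dvd_of_le hle)
  have hcm : (L.map φ).comap φ = L ⊔ φ.ker := Subgroup.comap_map_eq φ L
  have hidx2 : (L ⊔ φ.ker).index = (L.map φ).relIndex φ.range := by
    rw [← hcm, Subgroup.index_comap]
  have hmap : L.map φ = ψ.range := by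
    ext σ
    constructor
    · rintro ⟨x, hx, rfl⟩
      exact ⟨⟨x, hx⟩, (hφψ ⟨x, hx⟩).symm⟩
    · rintro ⟨x, rfl⟩
      exact ⟨x, x.2, hφψ x⟩
  have h60 : Nat.card (L.map φ) = 60 := by rw [hmap]; exact hrange
  have hrel : Nat.card (L.map φ) * (L.map φ).relIndex φ.range = Nat.card φ.range := by
    have := Subgroup.relIndex_mul_relIndex (⊥ : Subgroup (Equiv.Perm (Sylow 2 ↥L))) (L.map φ) φ.range
      bot_le (Subgroup.map_le_range φ L)
    rwa [Subgroup.relIndex_bot_left, Subgroup.relIndex_bot_left] at this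
  have hφr : Nat.card φ.range ≤ 120 := by
    have h1 := Subgroup.card_le_card_group φ.range
    rw [Nat.card_perm, h5] at h1
    exact h1
  rw [h60] at hrel
  rw [hidx2] at hidx1
  omega

end main

end Cfsg.Agent.Helper3.ZasOut
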