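import Mathlib
import Cfsg.Agent.Helper8.ExtOA

/-!
# S5704 piece (B), part A: alternating forms, transvections, equivariance of `AS`

Generic lemmas for a non-degenerate alternating bilinear form `f` on a vector space `X`
(no finiteness), the transvections `TA f v c : x ↦ x + c f(x,v) v`, the transitivity of
any composition-closed family containing them on non-zero vectors, and the equivariance
`x ∈ AS Q M z → g ∈ M → g x ∈ AS Q M (g z)`.
-/

set_option autoImplicit false

namespace Cfsg.Agent.Helper3.TensOm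

open Module Cfsg.Agent.Helper8.QuadForm Cfsg.Agent.Helper8.WittQuad Cfsg.Agent.Helper8.OrthOrder
  Cfsg.Agent.Helper8.Siegel Cfsg.Agent.Helper8.SiegelGroup Cfsg.Agent.Helper8.ExtO

variable {F : Type*} [Field F]

section alt

variable {X : Type*} [AddCommGroup X] [Module F X] (f : LinearMap.BilinForm F X)

theorem alt_skew (halt : ∀ x, f x x = 0) (x y : X) : f x y = - f y x := by
  have h := halt (x + y)
  simp only [map_add, LinearMap.add_apply, halt, zero_add, add_zero] at h
  linear_combination h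

theorem alt_perp_symm (halt : ∀ x, f x x = 0) {x y : X} (h : f x y = 0) : f y x = 0 := by
  rw [alt_skew f halt, h, neg_zero]

theorem exists_pair (hnd : ∀ x, (∀ y, f x y = 0) → x = 0) {x : X} (hx : x ≠ 0) :
    ∃ y, f x y = 1 := by
  by_contra hcon
  push Not at hcon
  apply hx
  apply hnd
  intro y
  by_contra hy
  exact hcon ((f x y)⁻¹ • y) (by rw [map_smul, smul_eq_mul, inv_mul_cancel₀ hy])

/-- if `x' ∉ F x` then some `v ⊥ x` has `f x' v ≠ 0`. -/
theorem exists_perp_not_perp (hnd : ∀ x, (∀ y, f x y = 0) → x = 0) {x x' : X} (hx : x ≠ 0)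
    (hx' : ∀ a : F, x' ≠ a • x) : ∃ v, f x v = 0 ∧ f x' v ≠ 0 := by
  by_contra hcon
  push Not at hcon
  obtain ⟨xs, hxs⟩ := exists_pair f hnd hx
  apply hx' (f x' xs)
  have h0 : x' - f x' xs • x = 0 := by
    apply hnd
    intro y
    have h1 := hcon (y - f x y • xs)
      (by rw [map_sub, map_smul, hxs, smul_eq_mul, mul_one, sub_self])
    rw [map_sub, map_smul, smul_eq_mul] at h1
    rw [map_sub, LinearMap.sub_apply, map_smul, LinearMap.smul_apply, smul_eq_mul]
    linear_combination h1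
  exact sub_eq_zero.mp h0

/-- a submodule containing the complement of the kernel of a non-zero additive functional
is everything. -/
theorem mem_of_forall_ne {S : Submodule F X} (φ : X → F) (hφ : ∀ x y, φ (x + y) = φ x + φ y)
    {x₀ : X} (h0 : φ x₀ ≠ 0) (h : ∀ x, φ x ≠ 0 → x ∈ S) (x : X) : x ∈ S := by
  by_cases hx : φ x = 0
  · have h1 : x + x₀ ∈ S := h _ (by rw [hφ, hx, zero_add]; exact h0)
    have h2 : x₀ ∈ S := h _ h0
    have e : x = (x + x₀) - x₀ := by abel
    rw [e]
    exact S.sub_mem h1 h2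
  · exact h x hx

/-- the transvection `x ↦ x + c f(x,v) v`. -/
noncomputable def TA (v : X) (c : F) : X →ₗ[F] X :=
  LinearMap.id + (c • f.flip v).smulRight v

theorem TA_apply (v : X) (c : F) (x : X) : TA f v c x = x + (c * f x v) • v := by
  simp [TA]

theorem TA_isom (halt : ∀ x, f x x = 0) (v : X) (c : F) (x y : X) :
    f (TA f v c x) (TA f v c y) = f x y := by
  rw [TA_apply, TA_apply]
  simp only [map_add, LinearMap.add_apply, map_smul, LinearMap.smul_apply, smul_eq_mul, halt]
  rw [alt_skew f halt v y]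
  ring

theorem TA_move_of_ne (halt : ∀ x, f x x = 0) {x y : X} (hxy : f x y ≠ 0) :
    TA f (y - x) (f x y)⁻¹ x = y := by
  rw [TA_apply, map_sub, halt, sub_zero, inv_mul_cancel₀ hxy, one_smul]
  abel

/-- a composition-closed family of linear maps containing all transvections is transitive on
the non-zero vectors. -/
theorem exists_move (halt : ∀ x, f x x = 0) (hnd : ∀ x, (∀ y, f x y = 0) → x = 0)
    (P : (X →ₗ[F] X) → Prop) (hP : ∀ v c, P (TA f v c))
    (hmul : ∀ τ τ', P τ → P τ' → P (τ' ∘ₗ τ)) {x y : X} (hx : x ≠ 0) (hy : y ≠ 0) :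
    ∃ τ, P τ ∧ τ x = y := by
  by_cases hxy : f x y = 0
  · -- find `z` with `f x z ≠ 0` and `f y z ≠ 0`
    obtain ⟨z, hz1, hz2⟩ : ∃ z, f x z ≠ 0 ∧ f z y ≠ 0 := by
      obtain ⟨a₁, ha₁⟩ := exists_pair f hnd hx
      obtain ⟨a₂, ha₂⟩ := exists_pair f hnd hy
      have hsk : ∀ z, f y z ≠ 0 → f z y ≠ 0 := fun z hz h' =>
        hz (alt_perp_symm f halt h')
      by_cases h1 : f y a₁ = 0
      · by_cases h2 : f x a₂ = 0
        · refine ⟨a₁ + a₂, ?_, hsk _ ?_⟩
          · rw [map_add, ha₁, h2, add_zero]; exact one_ne_zero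
          · rw [map_add, ha₂, h1, zero_add]; exact one_ne_zero
        · exact ⟨a₂, h2, hsk _ (by rw [ha₂]; exact one_ne_zero)⟩
      · exact ⟨a₁, by rw [ha₁]; exact one_ne_zero, hsk _ h1⟩
    refine ⟨TA f (y - z) (f z y)⁻¹ ∘ₗ TA f (z - x) (f x z)⁻¹, hmul _ _ (hP _ _) (hP _ _), ?_⟩
    rw [LinearMap.comp_apply, TA_move_of_ne f halt hz1, TA_move_of_ne f halt hz2]
  · exact ⟨_, hP _ _, TA_move_of_ne f halt hxy⟩

/-- an isometry of a non-degenerate form is injective. -/
theorem isom_injective (hnd : ∀ x, (∀ y, f x y = 0) → x = 0) (σ : X →ₗ[F] X)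
    (hσ : ∀ x y, f (σ x) (σ y) = f x y) {x : X} (hx : σ x = 0) : x = 0 := by
  apply hnd
  intro y
  rw [← hσ, hx, map_zero, LinearMap.zero_apply]

end alt

section equivariance

variable {V : Type*} [AddCommGroup V] [Module F V]

/-- `AS` is equivariant under `M`. -/
theorem AS_map (Q : QuadraticForm F V) {M : Subgroup ↥(Isom Q)} {g : ↥(Isom Q)} (hg : g ∈ M)
    {z x : V} (hx : x ∈ AS Q M z) :
    (g : V ≃ₗ[F] V) x ∈ AS Q M ((g : V ≃ₗ[F] V) z) := by
  refine ⟨?_, fun c => ?_⟩
  · rw [polar_isometry Q _ g.2]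
    exact hx.1
  · rw [← map_smul, ← siegG_conj]
    exact M.mul_mem (M.mul_mem hg (hx.2 c)) (M.inv_mem hg)

end equivariance

end Cfsg.Agent.Helper3.TensOm
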