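import Mathlib
import Cfsg.Agent.Helper3.TensOmBA

/-!
# S5704 piece (B), part B: the hypotheses `Hyp`, spreading and transfer

`Hyp t Q f₁ f₂ M`: `t : U →ₗ W →ₗ V` is a "tensor map" whose values are singular, span `V`,
with `polar Q (t u w) (t u' w') = f₁ u u' * f₂ w w'`; `M ≤ Isom Q` contains elements inducing
all transvections of `U` and of `W`.
-/

set_option autoImplicit false

namespace Cfsg.Agent.Helper3.TensOm

open Module Cfsg.Agent.Helper8.QuadForm Cfsg.Agent.Helper8.WittQuad Cfsg.Agent.Helper8.OrthOrder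
  Cfsg.Agent.Helper8.Siegel Cfsg.Agent.Helper8.SiegelGroup Cfsg.Agent.Helper8.ExtO

variable {F : Type*} [Field F] {U W V : Type*} [AddCommGroup U] [Module F U]
  [AddCommGroup W] [Module F W] [AddCommGroup V] [Module F V]

/-- the hypotheses of piece (B). -/
structure Hyp (t : U →ₗ[F] W →ₗ[F] V) (Q : QuadraticForm F V) (f₁ : LinearMap.BilinForm F U)
    (f₂ : LinearMap.BilinForm F W) (M : Subgroup ↥(Isom Q)) : Prop where
  alt₁ : ∀ u, f₁ u u = 0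
  alt₂ : ∀ w, f₂ w w = 0
  nd₁ : ∀ u, (∀ v, f₁ u v = 0) → u = 0
  nd₂ : ∀ w, (∀ y, f₂ w y = 0) → w = 0
  pure : ∀ u w, Q (t u w) = 0
  pol : ∀ u w u' w', QuadraticMap.polar Q (t u w) (t u' w') = f₁ u u' * f₂ w w'
  span : Submodule.span F {v | ∃ u w, v = t u w} = ⊤
  nd : ∀ y : V, (∀ u w, QuadraticMap.polar Q y (t u w) = 0) → y = 0
  movA : ∀ (v : U) (c : F), ∃ g ∈ M, ∀ u w,
    ((g : ↥(Isom Q)) : V ≃ₗ[F] V) (t u w) = t (u + (c * f₁ u v) • v) w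
  movB : ∀ (y : W) (c : F), ∃ g ∈ M, ∀ u w,
    ((g : ↥(Isom Q)) : V ≃ₗ[F] V) (t u w) = t u (w + (c * f₂ w y) • y)
  six : ∀ w w₂ : W, ∃ p q, f₂ w p = 0 ∧ f₂ w₂ p = 0 ∧ f₂ w q = 0 ∧ f₂ w₂ q = 0 ∧ f₂ p q ≠ 0

/-- `M` contains an element inducing `τ ⊗ σ`, and `τ`, `σ` are isometries. -/
def Mov (t : U →ₗ[F] W →ₗ[F] V) (Q : QuadraticForm F V) (f₁ : LinearMap.BilinForm F U)
    (f₂ : LinearMap.BilinForm F W) (M : Subgroup ↥(Isom Q)) (τ : U →ₗ[F] U) (σ : W →ₗ[F] W) :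
    Prop :=
  (∀ x y, f₁ (τ x) (τ y) = f₁ x y) ∧ (∀ x y, f₂ (σ x) (σ y) = f₂ x y) ∧
    ∃ g ∈ M, ∀ u w, ((g : ↥(Isom Q)) : V ≃ₗ[F] V) (t u w) = t (τ u) (σ w)

variable {t : U →ₗ[F] W →ₗ[F] V} {Q : QuadraticForm F V} {f₁ : LinearMap.BilinForm F U}
  {f₂ : LinearMap.BilinForm F W} {M : Subgroup ↥(Isom Q)}

theorem Mov.comp {τ τ' : U →ₗ[F] U} {σ σ' : W →ₗ[F] W} (h1 : Mov t Q f₁ f₂ M τ σ)
    (h2 : Mov t Q f₁ f₂ M τ' σ') : Mov t Q f₁ f₂ M (τ' ∘ₗ τ) (σ' ∘ₗ σ) := by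
  obtain ⟨a1, b1, g1, hg1, e1⟩ := h1
  obtain ⟨a2, b2, g2, hg2, e2⟩ := h2
  refine ⟨fun x y => ?_, fun x y => ?_, g2 * g1, M.mul_mem hg2 hg1, fun u w => ?_⟩
  · rw [LinearMap.comp_apply, LinearMap.comp_apply, a2, a1]
  · rw [LinearMap.comp_apply, LinearMap.comp_apply, b2, b1]
  · rw [Subgroup.coe_mul, LinearEquiv.mul_apply, e1, e2]
    rfl

theorem Hyp.movA' (h : Hyp t Q f₁ f₂ M) (v : U) (c : F) :
    Mov t Q f₁ f₂ M (TA f₁ v c) (LinearMap.id : W →ₗ[F] W) := by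
  obtain ⟨g, hg, e⟩ := h.movA v c
  refine ⟨TA_isom f₁ h.alt₁ v c, fun x y => rfl, g, hg, fun u w => ?_⟩
  rw [e, TA_apply]
  rfl

theorem Hyp.movB' (h : Hyp t Q f₁ f₂ M) (y : W) (c : F) :
    Mov t Q f₁ f₂ M (LinearMap.id : U →ₗ[F] U) (TA f₂ y c) := by
  obtain ⟨g, hg, e⟩ := h.movB y c
  refine ⟨fun x y => rfl, TA_isom f₂ h.alt₂ y c, g, hg, fun u w => ?_⟩
  rw [e, TA_apply]
  rfl

/-- transitivity on pairs of non-zero vectors. -/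
theorem Hyp.exists_mov (h : Hyp t Q f₁ f₂ M) {u u₀ : U} {w w₀ : W} (hu : u ≠ 0) (hu₀ : u₀ ≠ 0)
    (hw : w ≠ 0) (hw₀ : w₀ ≠ 0) : ∃ τ σ, Mov t Q f₁ f₂ M τ σ ∧ τ u = u₀ ∧ σ w = w₀ := by
  obtain ⟨τ, hτ, e1⟩ := exists_move f₁ h.alt₁ h.nd₁ (fun τ => Mov t Q f₁ f₂ M τ (LinearMap.id : W →ₗ[F] W))
    (fun v c => h.movA' v c) (fun τ τ' a b => a.comp b) hu hu₀
  obtain ⟨σ, hσ, e2⟩ := exists_move f₂ h.alt₂ h.nd₂ (fun σ => Mov t Q f₁ f₂ M (LinearMap.id : U →ₗ[F] U) σ)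
    (fun v c => h.movB' v c) (fun τ τ' a b => a.comp b) hw hw₀
  exact ⟨_, _, hτ.comp hσ, by simpa using e1, by simpa using e2⟩

/-- transport of a pure member of `AS` at a pure point. -/
theorem Mov.map {τ : U →ₗ[F] U} {σ : W →ₗ[F] W} (hm : Mov t Q f₁ f₂ M τ σ) {u u' : U}
    {w w' : W} (hs : t u' w' ∈ AS Q M (t u w)) :
    t (τ u') (σ w') ∈ AS Q M (t (τ u) (σ w)) := by
  obtain ⟨-, -, g, hg, e⟩ := hm
  have := AS_map Q hg hs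
  rwa [e, e] at this

/-! ### spreading -/

theorem Hyp.spreadA (h : Hyp t Q f₁ f₂ M) {u u' : U} {w w' : W}
    (hs : t u' w' ∈ AS Q M (t u w)) {v : U} (hv : f₁ u v = 0) (hv' : f₁ u' v ≠ 0) :
    t v w' ∈ AS Q M (t u w) := by
  have h1 := (h.movA' v 1).map hs
  simp only [LinearMap.id_coe, id_eq] at h1
  rw [TA_apply, TA_apply, hv, mul_zero, zero_smul, add_zero, one_mul] at h1
  have h2 : t (f₁ u' v • v) w' ∈ AS Q M (t u w) := by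
    have e : t (f₁ u' v • v) w' = t (u' + f₁ u' v • v) w' - t u' w' := by
      rw [map_add, LinearMap.add_apply, add_sub_cancel_left]
    rw [e]
    exact (AS Q M (t u w)).sub_mem h1 hs
  rw [map_smul, LinearMap.smul_apply] at h2
  have h3 := (AS Q M (t u w)).smul_mem (f₁ u' v)⁻¹ h2
  rwa [smul_smul, inv_mul_cancel₀ hv', one_smul] at h3

theorem Hyp.spreadB (h : Hyp t Q f₁ f₂ M) {u u' : U} {w w' : W}
    (hs : t u' w' ∈ AS Q M (t u w)) {y : W} (hy : f₂ w y = 0) (hy' : f₂ w' y ≠ 0) :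
    t u' y ∈ AS Q M (t u w) := by
  have h1 := (h.movB' y 1).map hs
  simp only [LinearMap.id_coe, id_eq] at h1
  rw [TA_apply, TA_apply, hy, mul_zero, zero_smul, add_zero, one_mul] at h1
  have h2 : t u' (f₂ w' y • y) ∈ AS Q M (t u w) := by
    have e : t u' (f₂ w' y • y) = t u' (w' + f₂ w' y • y) - t u' w' := by
      rw [map_add, add_sub_cancel_left]
    rw [e]
    exact (AS Q M (t u w)).sub_mem h1 hs
  rw [map_smul] at h2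
  have h3 := (AS Q M (t u w)).smul_mem (f₂ w' y)⁻¹ h2
  rwa [smul_smul, inv_mul_cancel₀ hy', one_smul] at h3

/-- (1a): a seed `u' ⊗ w'` with `u' ∉ F u` gives `u^⊥ ⊗ w'`. -/
theorem Hyp.oneA (h : Hyp t Q f₁ f₂ M) {u u' : U} {w w' : W} (hu : u ≠ 0)
    (hu' : ∀ a : F, u' ≠ a • u) (hs : t u' w' ∈ AS Q M (t u w)) (v : U) (hv : f₁ u v = 0) :
    t v w' ∈ AS Q M (t u w) := by
  obtain ⟨v₀, hv₀, hv₀'⟩ := exists_perp_not_perp f₁ h.nd₁ hu hu'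
  by_cases hv' : f₁ u' v = 0
  · have h1 : t (v + v₀) w' ∈ AS Q M (t u w) :=
      h.spreadA hs (by rw [map_add, hv, hv₀, add_zero])
        (by rw [map_add, hv', zero_add]; exact hv₀')
    have h2 : t v₀ w' ∈ AS Q M (t u w) := h.spreadA hs hv₀ hv₀'
    have e : t v w' = t (v + v₀) w' - t v₀ w' := by
      rw [map_add, LinearMap.add_apply, add_sub_cancel_right]
    rw [e]
    exact (AS Q M (t u w)).sub_mem h1 h2
  · exact h.spreadA hs hv hv'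

/-- (1b): a seed `u' ⊗ w'` with `w' ∉ F w` gives `u' ⊗ w^⊥`. -/
theorem Hyp.oneB (h : Hyp t Q f₁ f₂ M) {u u' : U} {w w' : W} (hw : w ≠ 0)
    (hw' : ∀ a : F, w' ≠ a • w) (hs : t u' w' ∈ AS Q M (t u w)) (y : W) (hy : f₂ w y = 0) :
    t u' y ∈ AS Q M (t u w) := by
  obtain ⟨y₀, hy₀, hy₀'⟩ := exists_perp_not_perp f₂ h.nd₂ hw hw'
  by_cases hy' : f₂ w' y = 0
  · have h1 : t u' (y + y₀) ∈ AS Q M (t u w) :=
      h.spreadB hs (by rw [map_add, hy, hy₀, add_zero])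
        (by rw [map_add, hy', zero_add]; exact hy₀')
    have h2 : t u' y₀ ∈ AS Q M (t u w) := h.spreadB hs hy₀ hy₀'
    have e : t u' y = t u' (y + y₀) - t u' y₀ := by
      rw [map_add, add_sub_cancel_right]
    rw [e]
    exact (AS Q M (t u w)).sub_mem h1 h2
  · exact h.spreadB hs hy hy'

/-- a type (II) seed gives `u₀ ⊗ w₀^⊥ ⊆ AS (u₀ ⊗ w₀)` at every pure point. -/
theorem Hyp.PII_all (h : Hyp t Q f₁ f₂ M) {u : U} {w w' : W} (hu : u ≠ 0) (hw : w ≠ 0)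
    (hw' : ∀ a : F, w' ≠ a • w) (hs : t u w' ∈ AS Q M (t u w))
    {u₀ : U} {w₀ : W} (hu₀ : u₀ ≠ 0) (hw₀ : w₀ ≠ 0) (y : W) (hy : f₂ w₀ y = 0) :
    t u₀ y ∈ AS Q M (t u₀ w₀) := by
  obtain ⟨τ, σ, hm, e1, e2⟩ := h.exists_mov hu hu₀ hw hw₀
  have h1 := hm.map hs
  rw [e1, e2] at h1
  refine h.oneB hw₀ (fun a ha => ?_) h1 y hy
  apply hw' a
  have h2 : σ (w' - a • w) = 0 := by rw [map_sub, map_smul, ha, e2, sub_self]
  exact sub_eq_zero.mp (isom_injective f₂ h.nd₂ σ hm.2.1 h2)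

end Cfsg.Agent.Helper3.TensOm
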