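import Mathlib
import Cfsg.Agent.Helper3.TensOmBB

/-!
# S5704 piece (B), part C: every pure point is full, every singular point is full, `SG Q ≤ M`
-/

set_option autoImplicit false

namespace Cfsg.Agent.Helper3.TensOm

open Module Cfsg.Agent.Helper8.QuadForm Cfsg.Agent.Helper8.WittQuad Cfsg.Agent.Helper8.OrthOrder
  Cfsg.Agent.Helper8.Siegel Cfsg.Agent.Helper8.SiegelGroup Cfsg.Agent.Helper8.ExtO

variable {F : Type*} [Field F] {U W V : Type*} [AddCommGroup U] [Module F U]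
  [AddCommGroup W] [Module F W] [AddCommGroup V] [Module F V]
  {t : U →ₗ[F] W →ₗ[F] V} {Q : QuadraticForm F V} {f₁ : LinearMap.BilinForm F U}
  {f₂ : LinearMap.BilinForm F W} {M : Subgroup ↥(Isom Q)}

/-- `PII`: `u ⊗ w^⊥ ⊆ AS (u ⊗ w)` at every pure point. -/
def PII (t : U →ₗ[F] W →ₗ[F] V) (Q : QuadraticForm F V) (f₂ : LinearMap.BilinForm F W)
    (M : Subgroup ↥(Isom Q)) : Prop :=
  ∀ (u : U) (w : W), u ≠ 0 → w ≠ 0 → ∀ y, f₂ w y = 0 → t u y ∈ AS Q M (t u w)

/-- step (α): `U ⊗ w^⊥ ⊆ AS (u ⊗ w)`. -/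
theorem Hyp.stepB (h : Hyp t Q f₁ f₂ M) (hP : PII t Q f₂ M) {u : U} {w : W} (hu : u ≠ 0)
    (hw : w ≠ 0) (u₂ : U) (w₂ : W) (hw₂ : f₂ w w₂ = 0) : t u₂ w₂ ∈ AS Q M (t u w) := by
  by_cases hw20 : w₂ = 0
  · rw [hw20, map_zero]
    exact (AS Q M (t u w)).zero_mem
  obtain ⟨us, hus⟩ := exists_pair f₁ h.nd₁ hu
  -- the submodule of the `u₂` that work
  have key : ∀ x : U, f₁ u x ≠ 0 → x ∈ (AS Q M (t u w)).comap (t.flip w₂) := by
    intro x hx
    have hx0 : x ≠ 0 := by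
      rintro rfl
      exact hx (map_zero _)
    obtain ⟨p, q, hp1, hp2, hq1, hq2, hpq⟩ := h.six w w₂
    have hw1 : t u p ∈ AS Q M (t u w) := hP u w hu hw p hp1
    have hy : t x q ∈ AS Q M (t x w₂) := hP x w₂ hx0 hw20 q hq2
    show t x w₂ ∈ AS Q M (t u w)
    refine CR Q (h.pure x w₂) hw1 hy ?_ ?_ ?_ ?_
    · rw [h.pol, hw₂, mul_zero]
    · rw [h.pol, hq1, mul_zero]
    · rw [h.pol, alt_perp_symm f₂ h.alt₂ hp2, mul_zero]
    · rw [h.pol]
      exact mul_ne_zero hx hpq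
  exact mem_of_forall_ne (S := (AS Q M (t u w)).comap (t.flip w₂)) (fun x => f₁ u x)
    (fun x y => map_add _ x y) (x₀ := us) (by rw [hus]; exact one_ne_zero) key u₂

/-- step (β): `u^⊥ ⊗ W ⊆ AS (u ⊗ w)`. -/
theorem Hyp.stepC (h : Hyp t Q f₁ f₂ M) (hP : PII t Q f₂ M) {u : U} {w : W} (hu : u ≠ 0)
    (hw : w ≠ 0) (u₂ : U) (w₂ : W) (hu₂ : f₁ u u₂ = 0) : t u₂ w₂ ∈ AS Q M (t u w) := by
  by_cases hu20 : u₂ = 0
  · rw [hu20, map_zero, LinearMap.zero_apply]
    exact (AS Q M (t u w)).zero_mem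
  obtain ⟨us, hus⟩ := exists_pair f₁ h.nd₁ hu
  obtain ⟨ws, hws⟩ := exists_pair f₂ h.nd₂ hw
  have key : ∀ x : W, f₂ w x ≠ 0 → x ∈ (AS Q M (t u w)).comap (t u₂) := by
    intro x hx
    have hx0 : x ≠ 0 := by
      rintro rfl
      exact hx (map_zero _)
    obtain ⟨p, q, hp1, hp2, hq1, hq2, hpq⟩ := h.six w x
    have hw1 : t u p ∈ AS Q M (t u w) := hP u w hu hw p hp1
    have hy : t us q ∈ AS Q M (t u₂ x) := h.stepB hP hu20 hx0 us q hq2
    show t u₂ x ∈ AS Q M (t u w)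
    refine CR Q (h.pure u₂ x) hw1 hy ?_ ?_ ?_ ?_
    · rw [h.pol, hu₂, zero_mul]
    · rw [h.pol, hq1, mul_zero]
    · rw [h.pol, hu₂, zero_mul]
    · rw [h.pol, hus, one_mul]
      exact hpq
  exact mem_of_forall_ne (S := (AS Q M (t u w)).comap (t u₂)) (fun x => f₂ w x)
    (fun x y => map_add _ x y) (x₀ := ws) (by rw [hws]; exact one_ne_zero) key w₂

/-- every pure point is full. -/
theorem Hyp.full_pure (h : Hyp t Q f₁ f₂ M) (hP : PII t Q f₂ M) {u : U} {w : W} (hu : u ≠ 0)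
    (hw : w ≠ 0) (x : V) (hx : QuadraticMap.polar Q (t u w) x = 0) : x ∈ AS Q M (t u w) := by
  obtain ⟨us, hus⟩ := exists_pair f₁ h.nd₁ hu
  obtain ⟨ws, hws⟩ := exists_pair f₂ h.nd₂ hw
  have key : ∀ x : V, x - QuadraticMap.polar Q (t u w) x • t us ws ∈ AS Q M (t u w) := by
    intro x
    have hx : x ∈ Submodule.span F {v | ∃ u w, v = t u w} := by
      rw [h.span]; trivial
    induction hx using Submodule.span_induction with
    | mem x hx =>
      obtain ⟨u₁, w₁, rfl⟩ := hx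
      rw [h.pol]
      have e : t u₁ w₁ - (f₁ u u₁ * f₂ w w₁) • t us ws
          = t (u₁ - f₁ u u₁ • us) w₁ + f₁ u u₁ • t us (w₁ - f₂ w w₁ • ws) := by
        simp only [map_sub, map_smul, LinearMap.sub_apply, LinearMap.smul_apply, smul_sub,
          smul_smul]
        abel
      rw [e]
      refine (AS Q M (t u w)).add_mem (h.stepC hP hu hw _ _ ?_)
        ((AS Q M (t u w)).smul_mem _ (h.stepB hP hu hw _ _ ?_))
      · rw [map_sub, map_smul, hus, smul_eq_mul, mul_one, sub_self]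
      · rw [map_sub, map_smul, hws, smul_eq_mul, mul_one, sub_self]
    | zero =>
      rw [QuadraticMap.polar_zero_right, zero_smul, sub_zero]
      exact (AS Q M (t u w)).zero_mem
    | add x y _ _ ihx ihy =>
      have e : x + y - QuadraticMap.polar Q (t u w) (x + y) • t us ws
          = (x - QuadraticMap.polar Q (t u w) x • t us ws)
            + (y - QuadraticMap.polar Q (t u w) y • t us ws) := by
        rw [QuadraticMap.polar_add_right, add_smul]
        abel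
      rw [e]
      exact (AS Q M (t u w)).add_mem ihx ihy
    | smul a x _ ihx =>
      have e : a • x - QuadraticMap.polar Q (t u w) (a • x) • t us ws
          = a • (x - QuadraticMap.polar Q (t u w) x • t us ws) := by
        rw [QuadraticMap.polar_smul_right, smul_sub, smul_smul, smul_eq_mul]
      rw [e]
      exact (AS Q M (t u w)).smul_mem a ihx
  have := key x
  rwa [hx, zero_smul, sub_zero] at this

/-- every singular point is full. -/
theorem Hyp.full (h : Hyp t Q f₁ f₂ M) (hP : PII t Q f₂ M) {y : V} (hy : Q y = 0) (x : V)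
    (hx : QuadraticMap.polar Q y x = 0) : x ∈ AS Q M y := by
  by_cases hy0 : y = 0
  · subst hy0
    refine ⟨hx, fun c => ?_⟩
    rw [siegG_zero_left]
    exact M.one_mem
  -- a pure point `z` with `polar z y = 1`
  obtain ⟨u, w, huw⟩ : ∃ u w, QuadraticMap.polar Q y (t u w) ≠ 0 := by
    by_contra hcon
    push Not at hcon
    exact hy0 (h.nd y hcon)
  set c := QuadraticMap.polar Q y (t u w) with hc
  have hu : u ≠ 0 := by
    rintro rfl
    apply huw
    rw [hc, map_zero, LinearMap.zero_apply, QuadraticMap.polar_zero_right]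
  have hw : w ≠ 0 := by
    rintro rfl
    apply huw
    rw [hc, map_zero, QuadraticMap.polar_zero_right]
  have hcu : c⁻¹ • u ≠ 0 := smul_ne_zero (inv_ne_zero huw) hu
  obtain ⟨us, hus⟩ := exists_pair f₁ h.nd₁ hcu
  obtain ⟨ws, hws⟩ := exists_pair f₂ h.nd₂ hw
  set z := t (c⁻¹ • u) w with hz
  set z' := t us ws with hz'
  have hzy : QuadraticMap.polar Q z y = 1 := by
    rw [QuadraticMap.polar_comm, hz, map_smul, LinearMap.smul_apply,
      QuadraticMap.polar_smul_right, ← hc, smul_eq_mul, inv_mul_cancel₀ huw]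
  have hzz' : QuadraticMap.polar Q z z' = 1 := by
    rw [hz, hz', h.pol, hus, hws, mul_one]
  have hQz : Q z = 0 := h.pure _ _
  have hQz' : Q z' = 0 := h.pure _ _
  obtain ⟨h0, hmove⟩ := sieg_move Q hQz (hy.trans hQz'.symm) hzy hzz'
  have hgM : siegG Q z (y - z') ∈ M :=
    siegG_mem_of_mem_AS Q (h.full_pure hP hcu hw _ h0)
  set g := siegG Q z (y - z') with hg
  have hgy : (g : V ≃ₗ[F] V) y = z' := by
    rw [hg, siegG_val]
    exact hmove
  -- transport back
  have hgx : (g : V ≃ₗ[F] V) x ∈ AS Q M z' := by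
    have hus0 : us ≠ 0 := by
      rintro rfl
      rw [map_zero] at hus
      exact zero_ne_one hus
    have hws0 : ws ≠ 0 := by
      rintro rfl
      rw [map_zero] at hws
      exact zero_ne_one hws
    apply h.full_pure hP hus0 hws0
    rw [← hz', ← hgy, polar_isometry Q _ g.2]
    exact hx
  have h1 := AS_map Q (M.inv_mem hgM) hgx
  have e1 : ((g⁻¹ : ↥(Isom Q)) : V ≃ₗ[F] V) ((g : V ≃ₗ[F] V) x) = x := by
    rw [← LinearEquiv.mul_apply, ← Subgroup.coe_mul, inv_mul_cancel]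
    rfl
  have e2 : ((g⁻¹ : ↥(Isom Q)) : V ≃ₗ[F] V) z' = y := by
    rw [← hgy, ← LinearEquiv.mul_apply, ← Subgroup.coe_mul, inv_mul_cancel]
    rfl
  rwa [e1, e2] at h1

/-- `PII` everywhere gives all Siegel transformations. -/
theorem Hyp.SG_le_of_PII (h : Hyp t Q f₁ f₂ M) (hP : PII t Q f₂ M) : SG Q ≤ M := by
  unfold SG SGW
  rw [Subgroup.closure_le]
  rintro g ⟨c, -, w, -, hc, hcw, rfl⟩
  exact siegG_mem_of_mem_AS Q (h.full hP hc w hcw)

end Cfsg.Agent.Helper3.TensOm
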