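import Mathlib
import Cfsg.Agent.Helper3.TensOmBC

/-!
# S5704 piece (B), part D: from one Siegel element outside `H` to all Siegel elements

Main result: `Hyp.SG_le_of_seed`.  Under `Hyp t Q f₁ f₂ M`, if for some pure point
`z = t u w` (`u, w ≠ 0`) a pure `t u' w'` (`u', w' ≠ 0`) lies in `AS Q M z` (i.e. `t u' w' ⊥ z`
and all `siegG Q z (c • t u' w') ∈ M`) and either `w' ∉ F w`, or (`f₁ u u' = 0` and `u' ∉ F u`),
then `SG Q ≤ M`.  Also `six_of_finrank`: the hypothesis `Hyp.six` holds as soon as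
`5 ≤ finrank F W`.
-/

set_option autoImplicit false

namespace Cfsg.Agent.Helper3.TensOm

open Module Cfsg.Agent.Helper8.QuadForm Cfsg.Agent.Helper8.WittQuad Cfsg.Agent.Helper8.OrthOrder
  Cfsg.Agent.Helper8.Siegel Cfsg.Agent.Helper8.SiegelGroup Cfsg.Agent.Helper8.ExtO

variable {F : Type*} [Field F] {U W V : Type*} [AddCommGroup U] [Module F U]
  [AddCommGroup W] [Module F W] [AddCommGroup V] [Module F V]
  {t : U →ₗ[F] W →ₗ[F] V} {Q : QuadraticForm F V} {f₁ : LinearMap.BilinForm F U}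
  {f₂ : LinearMap.BilinForm F W} {M : Subgroup ↥(Isom Q)}

/-- type (II) seed. -/
theorem Hyp.SG_le_of_seedII (h : Hyp t Q f₁ f₂ M) {u : U} {w w' : W} (hu : u ≠ 0) (hw : w ≠ 0)
    (hw' : ∀ a : F, w' ≠ a • w) (hs : t u w' ∈ AS Q M (t u w)) : SG Q ≤ M :=
  h.SG_le_of_PII (fun _ _ hu₀ hw₀ y hy => h.PII_all hu hw hw' hs hu₀ hw₀ y hy)

theorem Hyp.exists_perp_indep (h : Hyp t Q f₁ f₂ M) (w : W) :
    ∃ y, f₂ w y = 0 ∧ ∀ a : F, y ≠ a • w := by
  obtain ⟨p, q, hp1, -, hq1, -, hpq⟩ := h.six w w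
  refine ⟨p, hp1, fun a ha => hpq ?_⟩
  rw [ha, map_smul, LinearMap.smul_apply, hq1, smul_zero]

/-- type (I) seed: `u' ⊗ w ∈ AS (u ⊗ w)` with `u' ∈ u^⊥ ∖ F u` gives `u ⊗ W ⊆ AS (u ⊗ w)`. -/
theorem Hyp.seedI (h : Hyp t Q f₁ f₂ M) {u u' : U} {w : W} (hu : u ≠ 0)
    (h1 : f₁ u u' = 0) (hu' : ∀ a : F, u' ≠ a • u) (hs : t u' w ∈ AS Q M (t u w)) (w₂ : W) :
    t u w₂ ∈ AS Q M (t u w) := by
  have hPI : ∀ v, f₁ u v = 0 → t v w ∈ AS Q M (t u w) := h.oneA hu hu' hs
  obtain ⟨v₀, hv₀, hv₀'⟩ := exists_perp_not_perp f₁ h.nd₁ hu hu'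
  by_cases hw : w = 0
  · subst hw
    refine ⟨by rw [map_zero, QuadraticMap.polar_zero_left], fun c => ?_⟩
    rw [map_zero, siegG_zero_left]
    exact M.one_mem
  obtain ⟨ws, hws⟩ := exists_pair f₂ h.nd₂ hw
  have key : ∀ x : W, f₂ w x ≠ 0 → x ∈ (AS Q M (t u w)).comap (t u) := by
    intro x hx
    have hm := h.movB' (x - w) (f₂ w x)⁻¹
    have hy : t v₀ x ∈ AS Q M (t u x) := by
      have := hm.map (hPI v₀ hv₀)
      simpa only [LinearMap.id_coe, id_eq, TA_move_of_ne f₂ h.alt₂ hx] using this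
    show t u x ∈ AS Q M (t u w)
    refine CR Q (h.pure u x) hs hy ?_ ?_ ?_ ?_
    · rw [h.pol, h.alt₁, zero_mul]
    · rw [h.pol, hv₀, zero_mul]
    · rw [h.pol, alt_perp_symm f₁ h.alt₁ h1, zero_mul]
    · rw [h.pol]
      exact mul_ne_zero hv₀' hx
  exact mem_of_forall_ne (S := (AS Q M (t u w)).comap (t u)) (fun x => f₂ w x)
    (fun x y => map_add _ x y) (x₀ := ws) (by rw [hws]; exact one_ne_zero) key w₂

theorem Hyp.SG_le_of_seedI (h : Hyp t Q f₁ f₂ M) {u u' : U} {w : W} (hu : u ≠ 0) (hw : w ≠ 0)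
    (h1 : f₁ u u' = 0) (hu' : ∀ a : F, u' ≠ a • u) (hs : t u' w ∈ AS Q M (t u w)) :
    SG Q ≤ M := by
  obtain ⟨y, -, hy⟩ := h.exists_perp_indep w
  exact h.SG_le_of_seedII hu hw hy (h.seedI hu h1 hu' hs y)

/-- **piece (B) of S5704**: one Siegel element at a pure point, with a pure second parameter,
which is not in the tensor-product group, together with (the images of) all symplectic
transvections of both factors, generates all Siegel transformations. -/
theorem Hyp.SG_le_of_seed (h : Hyp t Q f₁ f₂ M) {u u' : U} {w w' : W} (hu : u ≠ 0) (hw : w ≠ 0)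
    (hu'0 : u' ≠ 0) (hw'0 : w' ≠ 0) (hs : t u' w' ∈ AS Q M (t u w))
    (hcase : (∀ a : F, w' ≠ a • w) ∨ (f₁ u u' = 0 ∧ ∀ a : F, u' ≠ a • u)) : SG Q ≤ M := by
  -- case A : `w' ∉ F w`
  have caseA : (∀ a : F, w' ≠ a • w) → SG Q ≤ M := by
    intro hA
    by_cases h2 : f₂ w w' = 0
    · by_cases hdep : ∃ a : F, u' = a • u
      · obtain ⟨a, ha⟩ := hdep
        have ha0 : a ≠ 0 := by
          rintro rfl
          exact hu'0 (by rw [ha, zero_smul])
        refine h.SG_le_of_seedII hu hw hA ?_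
        have := (AS Q M (t u w)).smul_mem a⁻¹ hs
        rwa [ha, map_smul, LinearMap.smul_apply, smul_smul, inv_mul_cancel₀ ha0, one_smul] at this
      · push Not at hdep
        exact h.SG_le_of_seedII hu hw hA (h.oneA hu hdep hs u (h.alt₁ u))
    · have h1 : f₁ u u' = 0 := by
        have := hs.1
        rw [h.pol] at this
        rcases mul_eq_zero.mp this with h' | h'
        · exact h'
        · exact absurd h' h2
      have hB : ∀ y, f₂ w y = 0 → t u' y ∈ AS Q M (t u w) := h.oneB hw hA hs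
      by_cases hdep : ∃ a : F, u' = a • u
      · obtain ⟨a, ha⟩ := hdep
        have ha0 : a ≠ 0 := by
          rintro rfl
          exact hu'0 (by rw [ha, zero_smul])
        obtain ⟨y, hy1, hy2⟩ := h.exists_perp_indep w
        refine h.SG_le_of_seedII hu hw hy2 ?_
        have := (AS Q M (t u w)).smul_mem a⁻¹ (hB y hy1)
        rwa [ha, map_smul, LinearMap.smul_apply, smul_smul, inv_mul_cancel₀ ha0, one_smul] at this
      · push Not at hdep
        exact h.SG_le_of_seedI hu hw h1 hdep (hB w (h.alt₂ w))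
  rcases hcase with hA | ⟨h1, hB⟩
  · exact caseA hA
  · by_cases hA : ∀ a : F, w' ≠ a • w
    · exact caseA hA
    · push Not at hA
      obtain ⟨a, ha⟩ := hA
      have ha0 : a ≠ 0 := by
        rintro rfl
        exact hw'0 (by rw [ha, zero_smul])
      refine h.SG_le_of_seedI hu hw h1 hB ?_
      have := (AS Q M (t u w)).smul_mem a⁻¹ hs
      rwa [ha, map_smul, smul_smul, inv_mul_cancel₀ ha0, one_smul] at this

/-- the hypothesis `Hyp.six` from the dimension. -/
theorem six_of_finrank {X : Type*} [AddCommGroup X] [Module F X] [FiniteDimensional F X]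
    (f : LinearMap.BilinForm F X) (halt : ∀ x, f x x = 0)
    (hnd : ∀ x, (∀ y, f x y = 0) → x = 0) (h5 : 5 ≤ finrank F X) (w w₂ : X) :
    ∃ p q, f w p = 0 ∧ f w₂ p = 0 ∧ f w q = 0 ∧ f w₂ q = 0 ∧ f p q ≠ 0 := by
  by_contra hcon
  push Not at hcon
  set φ : X →ₗ[F] F × F := (f w).prod (f w₂) with hφ
  have hK : ∀ x, x ∈ LinearMap.ker φ ↔ f w x = 0 ∧ f w₂ x = 0 := by
    intro x
    rw [LinearMap.mem_ker, hφ, LinearMap.prod_apply]
    exact Prod.mk_eq_zero
  have hnd' : f.Nondegenerate :=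
    ⟨hnd, fun y hy => hnd y (fun x => alt_perp_symm f halt (hy x))⟩
  have hle : LinearMap.ker φ ≤ f.orthogonal (LinearMap.ker φ) := by
    intro q hq
    rw [LinearMap.BilinForm.mem_orthogonal_iff]
    intro p hp
    exact hcon p q ((hK p).1 hp).1 ((hK p).1 hp).2 ((hK q).1 hq).1 ((hK q).1 hq).2
  have h1 := Submodule.finrank_mono hle
  rw [LinearMap.BilinForm.finrank_orthogonal hnd'] at h1
  have h2 := LinearMap.finrank_range_add_finrank_ker φ
  have h3 : finrank F (LinearMap.range φ) ≤ 2 := by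
    have := Submodule.finrank_le (LinearMap.range φ)
    rwa [Module.finrank_prod, Module.finrank_self] at this
  omega

end Cfsg.Agent.Helper3.TensOm
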