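import Mathlib
import Cfsg.Agent.Helper3.TensOmBD

/-!
# S5704 piece (A1), abstract form: a non-scalar element of the centre of the radical of a fibre

An element `g ∈ M` of the shape `t u' w' ↦ t u' w' + f₂ w' w • t (N u') w` (an element of
`Z(R_S)`, `S = U ⊗ w`, with parameter `N : U → U`) with `N` non-scalar gives `SG Q ≤ M`.
-/

set_option autoImplicit false

namespace Cfsg.Agent.Helper3.TensOm

open Module Cfsg.Agent.Helper8.QuadForm Cfsg.Agent.Helper8.WittQuad Cfsg.Agent.Helper8.OrthOrder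
  Cfsg.Agent.Helper8.Siegel Cfsg.Agent.Helper8.SiegelGroup Cfsg.Agent.Helper8.ExtO

variable {F : Type*} [Field F] {U W V : Type*} [AddCommGroup U] [Module F U]
  [AddCommGroup W] [Module F W] [AddCommGroup V] [Module F V]
  {t : U →ₗ[F] W →ₗ[F] V} {Q : QuadraticForm F V} {f₁ : LinearMap.BilinForm F U}
  {f₂ : LinearMap.BilinForm F W} {M : Subgroup ↥(Isom Q)}

/-- the parameter `N` of a central element is alternating-adjoint. -/
theorem Hyp.centre_alt (h : Hyp t Q f₁ f₂ M) {w : W} (hw : w ≠ 0) (N : U →ₗ[F] U)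
    {g : ↥(Isom Q)}
    (hgN : ∀ u' w', (g : V ≃ₗ[F] V) (t u' w') = t u' w' + f₂ w' w • t (N u') w) (u₁ : U) :
    f₁ u₁ (N u₁) = 0 := by
  obtain ⟨ws, hws⟩ := exists_pair f₂ h.nd₂ hw
  have hsw : f₂ ws w = -1 := by rw [alt_skew f₂ h.alt₂, hws]
  have h1 := g.2 (t u₁ ws)
  rw [hgN, hsw, QuadraticMap.map_add Q, h.pure, QuadraticMap.map_smul, h.pure,
    QuadraticMap.polar_smul_right, h.pol, hsw] at h1
  simp only [smul_eq_mul, mul_zero, zero_add, mul_neg, mul_one, neg_neg] at h1
  linear_combination h1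

theorem Hyp.centre_adj (h : Hyp t Q f₁ f₂ M) {w : W} (hw : w ≠ 0) (N : U →ₗ[F] U)
    {g : ↥(Isom Q)}
    (hgN : ∀ u' w', (g : V ≃ₗ[F] V) (t u' w') = t u' w' + f₂ w' w • t (N u') w) (x y : U) :
    f₁ (N x) y = f₁ x (N y) := by
  have h1 := h.centre_alt hw N hgN (x + y)
  have h2 := h.centre_alt hw N hgN x
  have h3 := h.centre_alt hw N hgN y
  simp only [map_add, LinearMap.add_apply, h2, h3, zero_add, add_zero] at h1
  rw [alt_skew f₁ h.alt₁ (N x) y]
  linear_combination -h1

/-- **(A1), abstract**: a central element of the radical of the fibre `U ⊗ w` with non-scalar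
parameter gives all Siegel transformations. -/
theorem Hyp.SG_le_of_centre (h : Hyp t Q f₁ f₂ M) {w : W} (hw : w ≠ 0) (N : U →ₗ[F] U)
    {g : ↥(Isom Q)} (hg : g ∈ M)
    (hgN : ∀ u' w', (g : V ≃ₗ[F] V) (t u' w') = t u' w' + f₂ w' w • t (N u') w)
    {u : U} (hNu : ∀ a : F, N u ≠ a • u) : SG Q ≤ M := by
  have hu : u ≠ 0 := by
    rintro rfl
    exact hNu 0 (by rw [map_zero, smul_zero])
  have halt := h.centre_alt hw N hgN
  have hadj := h.centre_adj hw N hgN
  have hz : Q (t u w) = 0 := h.pure _ _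
  have hzs : ∀ c : F, QuadraticMap.polar Q (t u w) (c • t (N u) w) = 0 := by
    intro c
    rw [QuadraticMap.polar_smul_right, h.pol, h.alt₂, mul_zero, smul_zero]
  have hseed : t (N u) w ∈ AS Q M (t u w) := by
    refine ⟨by rw [h.pol, h.alt₂, mul_zero], fun c => ?_⟩
    obtain ⟨hh, hhM, hhe⟩ := h.movA u c
    -- `hh * g = ρ * g * hh`
    have key : ∀ x : V, (hh : V ≃ₗ[F] V) ((g : V ≃ₗ[F] V) x)
        = siegE Q (t u w) (c • t (N u) w) ((g : V ≃ₗ[F] V) ((hh : V ≃ₗ[F] V) x)) := by
      intro x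
      have hx : x ∈ Submodule.span F {v | ∃ u w, v = t u w} := by
        rw [h.span]; trivial
      induction hx using Submodule.span_induction with
      | mem x hx =>
        obtain ⟨u', w', rfl⟩ := hx
        rw [hgN, map_add, map_smul, hhe, hhe, hgN, siegE_apply Q hz (hzs c), sieg_apply]
        simp only [QuadraticMap.polar_smul_right, QuadraticMap.polar_add_left,
          QuadraticMap.polar_smul_left, h.pol, QuadraticMap.map_smul, h.pure,
          h.alt₂, h.alt₁, halt, hadj u' u, map_add, map_smul,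
          LinearMap.add_apply, LinearMap.smul_apply, smul_eq_mul, mul_zero, zero_mul, zero_smul,
          add_zero, sub_zero, smul_add, smul_smul]
        module
      | zero => simp only [map_zero]
      | add x y _ _ ihx ihy => simp only [map_add, ihx, ihy]
      | smul a x _ ihx => simp only [map_smul, ihx]
    have e : siegG Q (t u w) (c • t (N u) w) = hh * g * hh⁻¹ * g⁻¹ := by
      rw [eq_mul_inv_iff_mul_eq, eq_mul_inv_iff_mul_eq]
      apply Subtype.ext
      apply LinearEquiv.ext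
      intro x
      rw [Subgroup.coe_mul, Subgroup.coe_mul, Subgroup.coe_mul, siegG_val,
        LinearEquiv.mul_apply, LinearEquiv.mul_apply, LinearEquiv.mul_apply]
      exact (key x).symm
    rw [e]
    exact M.mul_mem (M.mul_mem (M.mul_mem hhM hg) (M.inv_mem hhM)) (M.inv_mem hg)
  exact h.SG_le_of_seedI hu hw (halt u) hNu hseed

end Cfsg.Agent.Helper3.TensOm
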