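import Mathlib

set_option autoImplicit false

namespace Cfsg.Agent.Helper3.AbIrr

universe u v w

theorem end_mul_apply {M : Type v} [AddCommGroup M] (x y : AddMonoid.End M) (m : M) :
    (x * y) m = x (y m) := rfl

theorem end_one_apply {M : Type v} [AddCommGroup M] (m : M) :
    (1 : AddMonoid.End M) m = m := rfl

theorem end_zero_apply {M : Type v} [AddCommGroup M] (m : M) :
    (0 : AddMonoid.End M) m = 0 := rfl

/-- A finite group mapping into a finite commutative ring without zero divisors has cyclic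
image. -/
theorem exists_generator_of_hom {R : Type w} [hR : Ring R] [Nontrivial R]
    (hc : ∀ x y : R, x * y = y * x) (hnzd : ∀ x y : R, x * y = 0 → x = 0 ∨ y = 0)
    {G : Type u} [Group G] [Finite G] (f : G →* R) :
    ∃ a : G, ∀ x : G, ∃ k : ℤ, f x = f (a ^ k) := by
  have h0 : NoZeroDivisors R := ⟨fun {x y} h => hnzd x y h⟩
  have hdom : IsDomain R := NoZeroDivisors.to_isDomain R
  let g : G →* Rˣ := f.toHomUnits
  have hg : ∀ x, ((g x : Rˣ) : R) = f x := fun x => rfl
  let ψ : (G ⧸ g.ker) →* R := (Units.coeHom R).comp (QuotientGroup.kerLift g)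
  have hψ : Function.Injective ψ := by
    intro x y hxy
    apply QuotientGroup.kerLift_injective g
    exact Units.ext hxy
  have hcyc : IsCyclic (G ⧸ g.ker) :=
    @isCyclic_of_injective_ringHom R (G ⧸ g.ker) (@CommRing.mk R hR hc) hdom inferInstance inferInstance
      ψ hψ
  obtain ⟨z, hz⟩ := hcyc.exists_generator
  obtain ⟨a, rfl⟩ := QuotientGroup.mk_surjective z
  refine ⟨a, fun x => ?_⟩
  obtain ⟨k, hk⟩ := hz (QuotientGroup.mk x)
  refine ⟨k, ?_⟩
  have hk' : ((a ^ k : G) : G ⧸ g.ker) = (x : G ⧸ g.ker) := by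
    rw [← hk]; rfl
  have h2 := congrArg (QuotientGroup.kerLift g) hk'
  rw [QuotientGroup.kerLift_mk, QuotientGroup.kerLift_mk] at h2
  rw [← hg, ← hg, h2]

variable {A : Type u} {V : Type v} [Group A] [Finite A] [CommGroup V] [Finite V]

/-- Schur's lemma for an abelian group acting irreducibly on a finite abelian group: the image
of the action is cyclic. -/
theorem exists_generator_of_irreducible
    (act : A → (V →* V)) (h1 : act 1 = MonoidHom.id V)
    (hmul : ∀ a b, act (a * b) = (act a).comp (act b))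
    (hcomm : ∀ a b : A, a * b = b * a) (hV : ∃ v : V, v ≠ 1)
    (hirr : ∀ W : Subgroup V, (∀ a, ∀ w ∈ W, act a w ∈ W) → W = ⊥ ∨ W = ⊤) :
    ∃ a : A, ∀ x : A, ∃ k : ℤ, act x = act (a ^ k) := by
  classical
  let f : A →* AddMonoid.End (Additive V) :=
    { toFun := fun a => MonoidHom.toAdditive (act a)
      map_one' := by rw [h1]; rfl
      map_mul' := by intro a b; rw [hmul]; rfl }
  have hfapp : ∀ (a : A) (v : V), f a (Additive.ofMul v) = Additive.ofMul (act a v) := fun a v => rfl
  have hfcomm : ∀ x ∈ Set.range f, ∀ y ∈ Set.range f, x * y = y * x := by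
    rintro _ ⟨a, rfl⟩ _ ⟨b, rfl⟩
    rw [← map_mul, ← map_mul, hcomm]
  let S : Subring (AddMonoid.End (Additive V)) := Subring.closure (Set.range f)
  have hSc : ∀ s t : S, s * t = t * s := by
    have := Subring.isMulCommutative_closure hfcomm
    intro s t
    exact this.is_comm.comm s t
  have hfS : ∀ a, f a ∈ S := fun a => Subring.subset_closure ⟨a, rfl⟩
  let f' : A →* S := f.codRestrict S.toSubmonoid hfS
  have hf'coe : ∀ a, ((f' a : S) : AddMonoid.End (Additive V)) = f a := fun a => rfl
  -- S is a domain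
  have hnt : Nontrivial S := by
    obtain ⟨v, hv⟩ := hV
    refine ⟨⟨0, 1, ?_⟩⟩
    intro h
    have h2 : ((0 : S) : AddMonoid.End (Additive V)) (Additive.ofMul v) =
        ((1 : S) : AddMonoid.End (Additive V)) (Additive.ofMul v) := by rw [h]
    rw [Subring.coe_zero, Subring.coe_one, end_zero_apply, end_one_apply] at h2
    exact hv (Additive.ofMul.injective h2.symm)
  have hnzd : ∀ s t : S, s * t = 0 → s = 0 ∨ t = 0 := by
    intro s t hst
    by_cases ht : t = 0
    · exact Or.inr ht
    left
    -- the range of t is invariant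
    let τ : V →* V := MonoidHom.toAdditive.symm (t : AddMonoid.End (Additive V))
    have hτ : ∀ v : V, (t : AddMonoid.End (Additive V)) (Additive.ofMul v) = Additive.ofMul (τ v) :=
      fun v => rfl
    have hinv : ∀ a, ∀ w ∈ τ.range, act a w ∈ τ.range := by
      rintro a _ ⟨u, rfl⟩
      refine ⟨act a u, ?_⟩
      have h3 : f' a * t = t * f' a := hSc _ _
      have h4 : ((f' a * t : S) : AddMonoid.End (Additive V)) (Additive.ofMul u) =
          ((t * f' a : S) : AddMonoid.End (Additive V)) (Additive.ofMul u) := by rw [h3]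
      rw [Subring.coe_mul, Subring.coe_mul, hf'coe, end_mul_apply, end_mul_apply, hτ, hfapp, hfapp,
        hτ] at h4
      exact (Additive.ofMul.injective h4).symm
    rcases hirr τ.range hinv with h | h
    · exfalso
      apply ht
      apply Subtype.ext
      apply AddMonoidHom.ext
      intro v
      have : τ (Additive.toMul v) ∈ τ.range := ⟨_, rfl⟩
      rw [h, Subgroup.mem_bot] at this
      have h5 := hτ (Additive.toMul v)
      rw [this] at h5
      exact h5
    · apply Subtype.ext
      apply AddMonoidHom.ext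
      intro v
      have : Additive.toMul v ∈ τ.range := by rw [h]; trivial
      obtain ⟨u, hu⟩ := this
      have h5 : ((s * t : S) : AddMonoid.End (Additive V)) (Additive.ofMul u) =
          ((0 : S) : AddMonoid.End (Additive V)) (Additive.ofMul u) := by rw [hst]
      rw [Subring.coe_mul, end_mul_apply, hτ, hu, Subring.coe_zero, end_zero_apply] at h5
      exact h5
  obtain ⟨a, ha⟩ := exists_generator_of_hom hSc hnzd f'
  refine ⟨a, fun x => ?_⟩
  obtain ⟨k, hk⟩ := ha x
  refine ⟨k, ?_⟩
  have h6 : f x = f (a ^ k) := by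
    rw [← hf'coe, ← hf'coe, hk]
  apply MonoidHom.ext
  intro v
  have h7 : f x (Additive.ofMul v) = f (a ^ k) (Additive.ofMul v) := by rw [h6]
  rw [hfapp, hfapp] at h7
  exact Additive.ofMul.injective h7


/-- An abelian group acting on a nontrivial finite abelian group `V`: some subgroup `B` with
cyclic quotient fixes a nontrivial element of `V`. -/
theorem exists_cyclic_quotient_fixing
    (act : A → (V →* V)) (h1 : act 1 = MonoidHom.id V)
    (hmul : ∀ a b, act (a * b) = (act a).comp (act b))
    (hcomm : ∀ a b : A, a * b = b * a) (hV : ∃ v : V, v ≠ 1) :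
    ∃ (B : Subgroup A) (a : A), B ⊔ Subgroup.zpowers a = ⊤ ∧
      ∃ v : V, v ≠ 1 ∧ ∀ b ∈ B, act b v = v := by
  classical
  let 𝒮 : Set (Subgroup V) := {W | W ≠ ⊥ ∧ ∀ a, ∀ w ∈ W, act a w ∈ W}
  have hfin : 𝒮.Finite := Set.toFinite _
  have hne : 𝒮.Nonempty := by
    refine ⟨⊤, ?_, fun a w _ => Subgroup.mem_top _⟩
    obtain ⟨v, hv⟩ := hV
    intro h
    have : v ∈ (⊤ : Subgroup V) := Subgroup.mem_top v
    rw [h, Subgroup.mem_bot] at this
    exact hv this
  obtain ⟨W, hWmin⟩ := hfin.exists_minimal hne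
  obtain ⟨⟨hWne, hWinv⟩, hWle⟩ := hWmin
  let act' : A → (↥W →* ↥W) := fun a =>
    ((act a).comp W.subtype).codRestrict W (fun w => hWinv a w w.2)
  have hact' : ∀ (a : A) (w : ↥W), ((act' a w : ↥W) : V) = act a (w : V) := fun a w => rfl
  have hW1 : ∃ w : ↥W, w ≠ 1 := by
    by_contra hcon
    push Not at hcon
    apply hWne
    rw [eq_bot_iff]
    intro w hw
    have := hcon ⟨w, hw⟩
    rw [Subgroup.mem_bot]
    exact congrArg Subtype.val this
  obtain ⟨a₀, ha₀⟩ := exists_generator_of_irreducible act'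
    (by
      apply MonoidHom.ext; intro w; apply Subtype.ext
      rw [hact', h1]; rfl)
    (by
      intro a b
      apply MonoidHom.ext; intro w; apply Subtype.ext
      rw [hact', hmul]; rfl)
    hcomm hW1
    (by
      intro W' hW'
      by_cases hb : W' = ⊥
      · exact Or.inl hb
      right
      have hmem : W'.map W.subtype ∈ 𝒮 := by
        refine ⟨?_, ?_⟩
        · intro h
          apply hb
          rw [eq_bot_iff]
          intro w hw
          have : (w : V) ∈ W'.map W.subtype := ⟨w, hw, rfl⟩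
          rw [h, Subgroup.mem_bot] at this
          rw [Subgroup.mem_bot]
          exact Subtype.ext this
        · rintro a _ ⟨w, hw, rfl⟩
          exact ⟨act' a w, hW' a w hw, rfl⟩
      have hle : W'.map W.subtype ≤ W := Subgroup.map_subtype_le _
      have hge := hWle hmem hle
      rw [eq_top_iff]
      intro w _
      obtain ⟨w', hw', hww⟩ := hge w.2
      have : w' = w := Subtype.ext hww
      rwa [this] at hw')
  -- the kernel on W
  let B : Subgroup A :=
    { carrier := {x | ∀ w ∈ W, act x w = w}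
      one_mem' := by intro w _; rw [h1]; rfl
      mul_mem' := by
        intro x y hx hy w hw
        rw [hmul]
        show act x (act y w) = w
        rw [hy w hw, hx w hw]
      inv_mem' := by
        intro x hx w hw
        have h2 : act (x⁻¹ * x) w = w := by rw [inv_mul_cancel, h1]; rfl
        rw [hmul] at h2
        have h3 : act x⁻¹ (act x w) = w := h2
        rwa [hx w hw] at h3 }
  have hBmem : ∀ x, x ∈ B ↔ ∀ w ∈ W, act x w = w := fun x => Iff.rfl
  refine ⟨B, a₀, ?_, ?_⟩
  · rw [eq_top_iff]
    intro x _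
    obtain ⟨k, hk⟩ := ha₀ x
    have hx : x = (x * (a₀ ^ k)⁻¹) * a₀ ^ k := by group
    rw [hx]
    refine Subgroup.mul_mem _ (Subgroup.mem_sup_left ?_)
      (Subgroup.mem_sup_right (Subgroup.zpow_mem_zpowers a₀ k))
    rw [hBmem]
    intro w hw
    rw [hmul]
    show act x (act (a₀ ^ k)⁻¹ w) = w
    have hw' : act (a₀ ^ k)⁻¹ w ∈ W := hWinv _ w hw
    have h4 : act x (act (a₀ ^ k)⁻¹ w) = act (a₀ ^ k) (act (a₀ ^ k)⁻¹ w) := by
      have := congrArg (fun φ : ↥W →* ↥W => ((φ ⟨act (a₀ ^ k)⁻¹ w, hw'⟩ : ↥W) : V)) hk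
      simpa only [hact'] using this
    rw [h4]
    have h5 : act (a₀ ^ k * (a₀ ^ k)⁻¹) w = w := by rw [mul_inv_cancel, h1]; rfl
    rw [hmul] at h5
    exact h5
  · obtain ⟨w, hw⟩ := hW1
    refine ⟨(w : V), ?_, fun b hb => hb _ w.2⟩
    intro h
    exact hw (Subtype.ext h)

end Cfsg.Agent.Helper3.AbIrr
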