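import Mathlib
import Cfsg.Agent.Lead.BswDefs
import Cfsg.Agent.Lead.Bsw_A1_12
import Cfsg.Agent.Helper5.Bsw_A13_20
import Cfsg.Agent.Helper5.Bsw_A21_27
import Cfsg.Agent.Helper7.Bsw_A31_35
import Cfsg.Agent.Helper7.Bsw_B1_9

/-!
# S3282 swarm, pieces C7 (trichotomy) and C8 (not conjugate into K).  Architect: lead.
-/

set_option autoImplicit false
namespace Cfsg.Agent.Lead.Bsw
variable {G : Type*} [Group G] [Finite G] {t s : G} {K : Subgroup G}

theorem h3_ne_one_of_sq {y : G} (hy : y * y ≠ 1) : y ≠ 1 := by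
  rintro rfl; simp at hy

theorem h3_orderOf_ne_two_of_sq {y : G} (hy : y * y ≠ 1) : orderOf y ≠ 2 := by
  intro h2
  apply hy
  have := pow_orderOf_eq_one y
  rw [h2, pow_two] at this
  exact this

theorem h3_not_torus_of_mem_Kz (h : Hyp t K s) {x w : G} (hw : orderOf w = 2) (hx : x ∈ Kz w) :
    ¬ IsTorusElt x := by
  intro hT
  have he := even_card_cent_of_mem_Kz h hw hx
  exact (Nat.not_even_iff_odd.mpr hT.2.2) he

-- C7 : trichotomy used in the census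
theorem trichotomy (h : Hyp t K s) (y : G) (hy : y * y ≠ 1) :
    ((∃ w : G, orderOf w = 2 ∧ y ∈ Kz w) ∧ ¬ IsTorusElt y ∧ ¬ IsNR y) ∨
    (¬ (∃ w : G, orderOf w = 2 ∧ y ∈ Kz w) ∧ IsTorusElt y ∧ ¬ IsNR y) ∨
    (¬ (∃ w : G, orderOf w = 2 ∧ y ∈ Kz w) ∧ ¬ IsTorusElt y ∧ IsNR y) := by
  have hy1 := h3_ne_one_of_sq hy
  have hy2 := h3_orderOf_ne_two_of_sq hy
  by_cases hr : IsReal y
  · rcases real_dichotomy h hy1 hy2 hr with hK | hT
    · left
      obtain ⟨w, hw, hyw⟩ := hK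
      exact ⟨⟨w, hw, hyw⟩, h3_not_torus_of_mem_Kz h hw hyw, fun hN => hN.2.2 hr⟩
    · right; left
      refine ⟨?_, hT, fun hN => hN.2.2 hr⟩
      rintro ⟨w, hw, hyw⟩
      exact h3_not_torus_of_mem_Kz h hw hyw hT
  · right; right
    refine ⟨?_, fun hT => hr hT.2.1, hy1, hy2, hr⟩
    rintro ⟨w, hw, hyw⟩
    exact hr (isReal_of_mem_Kz h hw hyw)

-- C8 : an element conjugate into K is of K-type; a torus / NR element is not conjugate into K
theorem not_conj_into_K (h : Hyp t K s) {y : G} (hy : IsTorusElt y ∨ IsNR y) (g : G) :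
    g * y * g⁻¹ ∉ K := by
  intro hK
  have hK' : g * y * g⁻¹ ∈ Kz t := by rw [Kz_t h]; exact hK
  rcases hy with hT | hN
  · exact h3_not_torus_of_mem_Kz h h.ht hK' ((isTorusElt_conj g y).mpr hT)
  · exact ((isNR_conj g y).mpr hN).2.2 (isReal_of_mem_Kz h h.ht hK')

end Cfsg.Agent.Lead.Bsw
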