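import Mathlib

/-!
# S3282 swarm: generic counting helpers (helper3).
-/

set_option autoImplicit false
namespace Cfsg.Agent.Helper3.BswAux

/-- split a subtype count along a predicate. -/
theorem h3_card_split {α : Type*} [Finite α] (p q : α → Prop) :
    Nat.card {x : α // p x} = Nat.card {x : α // p x ∧ q x} + Nat.card {x : α // p x ∧ ¬ q x} := by
  classical
  haveI := Fintype.ofFinite α
  rw [Nat.card_eq_fintype_card, Nat.card_eq_fintype_card, Nat.card_eq_fintype_card,
    Fintype.card_subtype, Fintype.card_subtype, Fintype.card_subtype]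
  rw [← Finset.card_filter_add_card_filter_not (s := Finset.univ.filter p) q,
    Finset.filter_filter, Finset.filter_filter]

/-- removing one element from a subtype. -/
theorem h3_card_erase {α : Type*} [Finite α] (p : α → Prop) (a : α) (ha : p a) :
    Nat.card {x : α // p x ∧ x ≠ a} + 1 = Nat.card {x : α // p x} := by
  classical
  haveI := Fintype.ofFinite α
  rw [Nat.card_eq_fintype_card, Nat.card_eq_fintype_card]
  have e1 : Fintype.card {x : α // p x ∧ x ≠ a} =
      (Finset.univ.filter (fun x : α => p x ∧ x ≠ a)).card := Fintype.card_subtype _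
  have e2 : Fintype.card {x : α // p x} = (Finset.univ.filter p).card := Fintype.card_subtype _
  have h1 : Finset.univ.filter (fun x : α => p x ∧ x ≠ a) = (Finset.univ.filter p).erase a := by
    ext x
    simp only [Finset.mem_filter, Finset.mem_univ, true_and, Finset.mem_erase]
    tauto
  have h2 : a ∈ Finset.univ.filter p := by simp [ha]
  have h3 : 0 < (Finset.univ.filter p).card := Finset.card_pos.mpr ⟨a, h2⟩
  rw [e1, e2, h1, Finset.card_erase_of_mem h2]
  exact Nat.sub_add_cancel h3

/-- a subtype with exactly one element. -/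
theorem h3_card_eq_one {α : Type*} (p : α → Prop) (a : α) (h : ∀ x, p x ↔ x = a) :
    Nat.card {x : α // p x} = 1 := by
  have : Unique {x : α // p x} :=
    { default := ⟨a, (h a).mpr rfl⟩
      uniq := fun x => Subtype.ext ((h x.1).mp x.2) }
  exact Nat.card_unique

/-- counting a disjoint union of fibres of constant size. -/
theorem h3_card_fibres {α ι : Type*} [Finite α] [Finite ι] (R : ι → α → Prop) (m : ℕ)
    (hm : ∀ i, Nat.card {x : α // R i x} = m)
    (hdisj : ∀ i j x, R i x → R j x → i = j) :
    Nat.card {x : α // ∃ i, R i x} = Nat.card ι * m := by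
  classical
  haveI := Fintype.ofFinite ι
  let f : (Σ i : ι, {x : α // R i x}) → {x : α // ∃ i, R i x} := fun p => ⟨p.2.1, p.1, p.2.2⟩
  have hf : Function.Bijective f := by
    constructor
    · rintro ⟨i, x, hx⟩ ⟨j, y, hy⟩ hxy
      simp only [f, Subtype.mk.injEq] at hxy
      subst hxy
      have := hdisj i j x hx hy
      subst this
      rfl
    · rintro ⟨x, i, hx⟩
      exact ⟨⟨i, x, hx⟩, rfl⟩
  rw [← Nat.card_congr (Equiv.ofBijective f hf), Nat.card_sigma]
  simp only [hm, Finset.sum_const, Finset.card_univ, smul_eq_mul, Nat.card_eq_fintype_card]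

end Cfsg.Agent.Helper3.BswAux
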