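import Mathlib
import Cfsg.Agent.Lead.BswDefs
import Cfsg.Agent.Lead.Bsw_A1_12
import Cfsg.Agent.Helper5.Bsw_A13_20
import Cfsg.Agent.Helper5.Bsw_A21_27
import Cfsg.Agent.Helper7.Bsw_A31_35
import Cfsg.Agent.Helper7.Bsw_B1_9
import Cfsg.Agent.Helper3.Bsw_CountAux
import Cfsg.Agent.Helper3.Bsw_C7_C8

/-!
# S3282 swarm, pieces C1 (K-type elements inverted by t) and C5 (all K-type non-involutions).
Architect: lead.
-/

set_option autoImplicit false
namespace Cfsg.Agent.Lead.Bsw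
variable {G : Type*} [Group G] [Finite G] {t s : G} {K : Subgroup G}

open Cfsg.Agent.Helper3.BswAux

theorem h3_mul_self_of_orderOf {w : G} (hw : orderOf w = 2) : w * w = 1 := by
  have := pow_orderOf_eq_one w
  rwa [hw, pow_two] at this

theorem h3_orderOf_two_of_sq {y : G} (hy : y * y = 1) (hy1 : y ≠ 1) : orderOf y = 2 := by
  haveI : Fact (Nat.Prime 2) := ⟨Nat.prime_two⟩
  exact orderOf_eq_prime (by rw [pow_two]; exact hy) hy1

theorem h3_ne_one_of_orderOf {w : G} (hw : orderOf w = 2) : w ≠ 1 := by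
  rintro rfl; simp at hw

/-- the non-involutions of `K_w` : there are `k - 2` of them. -/
theorem h3_card_Kz_nonsq (h : Hyp t K s) {w : G} (hw : orderOf w = 2) :
    Nat.card {y : G // y ∈ Kz w ∧ y * y ≠ 1} = Nat.card K - 2 := by
  classical
  haveI := Fintype.ofFinite G
  have e1 : Nat.card {y : G // y ∈ Kz w ∧ y * y ≠ 1} =
      (Finset.univ.filter (fun y : G => y ∈ Kz w ∧ y * y ≠ 1)).card := by
    rw [Nat.card_eq_fintype_card]; exact Fintype.card_subtype _
  have e2 : Nat.card (Kz w) = (Finset.univ.filter (fun y : G => y ∈ Kz w)).card := by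
    rw [Nat.card_eq_fintype_card]; exact Fintype.card_subtype _
  have hw1 : (1 : G) ≠ w := fun h1 => h3_ne_one_of_orderOf hw h1.symm
  have h3 : Finset.univ.filter (fun y : G => y ∈ Kz w ∧ y * y ≠ 1) =
      (Finset.univ.filter (fun y : G => y ∈ Kz w)) \ {1, w} := by
    ext y
    simp only [Finset.mem_filter, Finset.mem_univ, true_and, Finset.mem_sdiff, Finset.mem_insert,
      Finset.mem_singleton, not_or]
    constructor
    · rintro ⟨hy, hy2⟩
      refine ⟨hy, ?_, ?_⟩
      · rintro rfl; simp at hy2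
      · rintro rfl; exact hy2 (h3_mul_self_of_orderOf hw)
    · rintro ⟨hy, hy1, hyw⟩
      refine ⟨hy, fun hsq => hyw ?_⟩
      exact inv_of_mem_Kz h hw hy (h3_orderOf_two_of_sq hsq hy1)
  have hsub : ({1, w} : Finset G) ⊆ Finset.univ.filter (fun y : G => y ∈ Kz w) := by
    intro y hy
    simp only [Finset.mem_insert, Finset.mem_singleton] at hy
    simp only [Finset.mem_filter, Finset.mem_univ, true_and]
    rcases hy with rfl | rfl
    · exact one_mem _
    · exact mem_Kz_self h hw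
  rw [e1, h3, Finset.card_sdiff_of_subset hsub, ← e2, card_Kz h hw, Finset.card_pair hw1]

/-- general form: K-type non-involutions whose involution `w` satisfies `Q`. -/
theorem h3_count_Ktype_gen (h : Hyp t K s) (Q : G → Prop) :
    Nat.card {y : G // (∃ w : G, orderOf w = 2 ∧ Q w ∧ y ∈ Kz w) ∧ y * y ≠ 1} =
      Nat.card {w : G // orderOf w = 2 ∧ Q w} * (Nat.card K - 2) := by
  have key := h3_card_fibres (α := G) (ι := {w : G // orderOf w = 2 ∧ Q w})
    (fun w y => y ∈ Kz w.1 ∧ y * y ≠ 1) (Nat.card K - 2)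
    (fun w => h3_card_Kz_nonsq h w.2.1)
    (by
      rintro ⟨w, hw, hQ⟩ ⟨w', hw', hQ'⟩ y ⟨hy, hy2⟩ ⟨hy', _⟩
      apply Subtype.ext
      by_contra hne
      have hbot := Kz_inf_Kz h hw hw' hne
      have : y ∈ Kz w ⊓ Kz w' := ⟨hy, hy'⟩
      rw [hbot, Subgroup.mem_bot] at this
      exact h3_ne_one_of_sq hy2 this)
  rw [← key]
  apply Nat.card_congr
  apply Equiv.subtypeEquivRight
  intro y
  constructor
  · rintro ⟨⟨w, hw, hQ, hy⟩, hy2⟩
    exact ⟨⟨w, hw, hQ⟩, hy, hy2⟩
  · rintro ⟨⟨w, hw, hQ⟩, hy, hy2⟩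
    exact ⟨⟨w, hw, hQ, hy⟩, hy2⟩

-- C5 : number of K-type non-involutions
theorem count_Ktype_all (h : Hyp t K s) :
    Nat.card {y : G // (∃ w : G, orderOf w = 2 ∧ y ∈ Kz w) ∧ y * y ≠ 1} =
      nInv G * (Nat.card K - 2) := by
  have key := h3_count_Ktype_gen h (fun _ => True)
  have e1 : Nat.card {w : G // orderOf w = 2 ∧ True} = nInv G := by
    rw [nInv_def]
    exact Nat.card_congr (Equiv.subtypeEquivRight (fun w => by simp))
  rw [e1] at key
  rw [← key]
  apply Nat.card_congr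
  apply Equiv.subtypeEquivRight
  intro y
  simp only [true_and]

theorem h3_mem_cent_symm {a b : G} (hab : a ∈ Subgroup.centralizer ({b} : Set G)) :
    b ∈ Subgroup.centralizer ({a} : Set G) := by
  rw [Subgroup.mem_centralizer_singleton_iff] at hab ⊢
  exact hab.symm

/-- the involutions of `C(t)` other than `t` : there are `k` of them. -/
theorem h3_card_inv_cent_ne (h : Hyp t K s) :
    Nat.card {w : G // orderOf w = 2 ∧ (w ∈ Subgroup.centralizer ({t} : Set G) ∧ w ≠ t)} =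
      Nat.card K := by
  have h1 := card_inv_in_cent h h.ht
  have h2 := h3_card_erase (fun u : G => orderOf u = 2 ∧ u ∈ Subgroup.centralizer ({t} : Set G)) t
    ⟨h.ht, Subgroup.mem_centralizer_singleton_iff.mpr rfl⟩
  rw [h1] at h2
  have h3 : Nat.card {w : G // orderOf w = 2 ∧ (w ∈ Subgroup.centralizer ({t} : Set G) ∧ w ≠ t)} =
      Nat.card {x : G // (orderOf x = 2 ∧ x ∈ Subgroup.centralizer ({t} : Set G)) ∧ x ≠ t} :=
    Nat.card_congr (Equiv.subtypeEquivRight (fun w => by tauto))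
  omega

-- C1 : the K-type elements inverted by t
theorem count_Ktype (h : Hyp t K s) :
    Nat.card {y : G // (∃ w : G, orderOf w = 2 ∧ y ∈ Kz w) ∧ y * y ≠ 1 ∧ t * y * t⁻¹ = y⁻¹} =
      Nat.card K * (Nat.card K - 2) := by
  have key := h3_count_Ktype_gen h (fun w => w ∈ Subgroup.centralizer ({t} : Set G) ∧ w ≠ t)
  rw [h3_card_inv_cent_ne h] at key
  rw [← key]
  apply Nat.card_congr
  apply Equiv.subtypeEquivRight
  intro y
  constructor
  · rintro ⟨⟨w, hw, hy⟩, hy2, hty⟩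
    have h23 := inverter_mem_cent h hw hy hy2 h.ht hty
    refine ⟨⟨w, hw, ⟨h3_mem_cent_symm h23.1, ?_⟩, hy⟩, hy2⟩
    rintro rfl
    exact h23.2 (mem_Kz_self h hw)
  · rintro ⟨⟨w, hw, ⟨hwt, hne⟩, hy⟩, hy2⟩
    refine ⟨⟨w, hw, hy⟩, hy2, ?_⟩
    have htw : t ∈ Subgroup.centralizer ({w} : Set G) := h3_mem_cent_symm hwt
    have htK : t ∉ Kz w := fun hc => hne (inv_of_mem_Kz h hw hc h.ht).symm
    exact (cent_diff_Kz h hw htw htK).2 y hy

end Cfsg.Agent.Lead.Bsw
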