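import Mathlib
import Cfsg.Agent.Lead.BswDefs
import Cfsg.Agent.Lead.Bsw_A1_12
import Cfsg.Agent.Helper5.Bsw_A13_20
import Cfsg.Agent.Helper5.Bsw_A21_27
import Cfsg.Agent.Helper7.Bsw_A31_35
import Cfsg.Agent.Helper7.Bsw_B1_9
import Cfsg.Agent.Helper3.Bsw_CountAux
import Cfsg.Agent.Helper3.Bsw_C7_C8
import Cfsg.Agent.Helper3.Bsw_C1_C5

/-!
# S3282 swarm, pieces C2 (count of involutions seen from t) and C6 (census of G).
Architect: lead.
-/

set_option autoImplicit false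
namespace Cfsg.Agent.Lead.Bsw
variable {G : Type*} [Group G] [Finite G] {t s : G} {K : Subgroup G}

open Cfsg.Agent.Helper3.BswAux

theorem h3_inv_eq_self {w : G} (hw : orderOf w = 2) : w⁻¹ = w :=
  inv_eq_of_mul_eq_one_left (h3_mul_self_of_orderOf hw)

/-- `z' ↦ t z'` : involutions other than `t` correspond to the elements `y ≠ 1, t` inverted by `t`. -/
theorem h3_card_inverted (ht : orderOf t = 2) :
    Nat.card {y : G // y ≠ 1 ∧ y ≠ t ∧ t * y * t⁻¹ = y⁻¹} =
      Nat.card {z : G // orderOf z = 2 ∧ z ≠ t} := by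
  have htt : t * t = 1 := h3_mul_self_of_orderOf ht
  have hti : t⁻¹ = t := h3_inv_eq_self ht
  symm
  refine Nat.card_congr (Equiv.ofBijective
    (fun z : {z : G // orderOf z = 2 ∧ z ≠ t} => (⟨t * z.1, ?_, ?_, ?_⟩ :
      {y : G // y ≠ 1 ∧ y ≠ t ∧ t * y * t⁻¹ = y⁻¹})) ⟨?_, ?_⟩)
  · -- t * z ≠ 1
    intro h1
    apply z.2.2
    have : z.1 = t⁻¹ := (eq_inv_of_mul_eq_one_right h1)
    rw [this, hti]
  · -- t * z ≠ t
    intro h1
    have : z.1 = 1 := by simpa using h1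
    exact h3_ne_one_of_orderOf z.2.1 this
  · -- t inverts t z
    have hzz : z.1 * z.1 = 1 := h3_mul_self_of_orderOf z.2.1
    have hzi : z.1⁻¹ = z.1 := h3_inv_eq_self z.2.1
    rw [mul_inv_rev, hzi, hti, ← mul_assoc, htt, one_mul]
  · rintro ⟨z, hz⟩ ⟨z', hz'⟩ hzz'
    simp only [Subtype.mk.injEq, mul_right_inj] at hzz'
    exact Subtype.ext hzz'
  · rintro ⟨y, hy1, hyt, hty⟩
    refine ⟨⟨t * y, ?_, ?_⟩, ?_⟩
    · apply h3_orderOf_two_of_sq
      · -- (t y)(t y) = (t y t⁻¹) y = 1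
        have : t * y * (t * y) = (t * y * t⁻¹) * y := by rw [hti]; group
        rw [this, hty, inv_mul_cancel]
      · intro h1
        apply hyt
        have : y = t⁻¹ := (eq_inv_of_mul_eq_one_right h1)
        rw [this, hti]
    · intro h1
      apply hy1
      simpa using h1
    · apply Subtype.ext
      show t * (t * y) = y
      rw [← mul_assoc, htt, one_mul]

-- C2 : count of involutions seen from t
theorem count_per_inv (h : Hyp t K s) :
    nInv G = 1 + Nat.card K * (Nat.card K - 1) +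
      Nat.card {y : G // IsTorusElt y ∧ t * y * t⁻¹ = y⁻¹} := by
  have htt : t * t = 1 := h3_mul_self_of_orderOf h.ht
  have hti : t⁻¹ = t := h3_inv_eq_self h.ht
  -- n = #(involutions ≠ t) + 1
  have e0 : Nat.card {z : G // orderOf z = 2 ∧ z ≠ t} + 1 = nInv G := by
    rw [nInv_def]; exact h3_card_erase (fun z : G => orderOf z = 2) t h.ht
  have e1 := h3_card_inverted (G := G) h.ht
  -- split Y along y*y = 1
  have e2 := h3_card_split (fun y : G => y ≠ 1 ∧ y ≠ t ∧ t * y * t⁻¹ = y⁻¹) (fun y => y * y = 1)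
  -- first part : involutions of C(t) other than t
  have e3 : Nat.card {y : G // (y ≠ 1 ∧ y ≠ t ∧ t * y * t⁻¹ = y⁻¹) ∧ y * y = 1} = Nat.card K := by
    rw [← h3_card_inv_cent_ne h]
    apply Nat.card_congr
    apply Equiv.subtypeEquivRight
    intro y
    constructor
    · rintro ⟨⟨hy1, hyt, hty⟩, hyy⟩
      have hy2 := h3_orderOf_two_of_sq hyy hy1
      refine ⟨hy2, ?_, hyt⟩
      rw [Subgroup.mem_centralizer_singleton_iff]
      -- t y t⁻¹ = y⁻¹ = y  ⇒  t y = y t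
      rw [h3_inv_eq_self hy2] at hty
      symm
      calc t * y = t * y * t⁻¹ * t := by group
        _ = y * t := by rw [hty]
    · rintro ⟨hy2, hyc, hyt⟩
      refine ⟨⟨h3_ne_one_of_orderOf hy2, hyt, ?_⟩, h3_mul_self_of_orderOf hy2⟩
      rw [Subgroup.mem_centralizer_singleton_iff] at hyc
      rw [h3_inv_eq_self hy2, ← hyc, mul_assoc, mul_inv_cancel, mul_one]
  -- second part : split along K-type
  have e4 := h3_card_split (fun y : G => (y ≠ 1 ∧ y ≠ t ∧ t * y * t⁻¹ = y⁻¹) ∧ ¬ y * y = 1)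
    (fun y => ∃ w : G, orderOf w = 2 ∧ y ∈ Kz w)
  have e5 : Nat.card {y : G // ((y ≠ 1 ∧ y ≠ t ∧ t * y * t⁻¹ = y⁻¹) ∧ ¬ y * y = 1) ∧
      ∃ w : G, orderOf w = 2 ∧ y ∈ Kz w} = Nat.card K * (Nat.card K - 2) := by
    rw [← count_Ktype h]
    apply Nat.card_congr
    apply Equiv.subtypeEquivRight
    intro y
    constructor
    · rintro ⟨⟨⟨_, _, hty⟩, hyy⟩, hK⟩
      exact ⟨hK, hyy, hty⟩
    · rintro ⟨hK, hyy, hty⟩
      refine ⟨⟨⟨h3_ne_one_of_sq hyy, ?_, hty⟩, hyy⟩, hK⟩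
      rintro rfl
      exact hyy htt
  have e6 : Nat.card {y : G // ((y ≠ 1 ∧ y ≠ t ∧ t * y * t⁻¹ = y⁻¹) ∧ ¬ y * y = 1) ∧
      ¬ ∃ w : G, orderOf w = 2 ∧ y ∈ Kz w} =
      Nat.card {y : G // IsTorusElt y ∧ t * y * t⁻¹ = y⁻¹} := by
    apply Nat.card_congr
    apply Equiv.subtypeEquivRight
    intro y
    constructor
    · rintro ⟨⟨⟨_, _, hty⟩, hyy⟩, hK⟩
      refine ⟨?_, hty⟩
      rcases trichotomy h y hyy with h1 | h1 | h1
      · exact absurd h1.1 hK
      · exact h1.2.1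
      · exact absurd ⟨t, h.ht, hty⟩ h1.2.2.2.2
    · rintro ⟨hT, hty⟩
      have hyy := (torusElt_sq_ne h hT).1
      refine ⟨⟨⟨h3_ne_one_of_sq hyy, ?_, hty⟩, hyy⟩, ?_⟩
      · rintro rfl
        exact hyy htt
      · rintro ⟨w, hw, hyw⟩
        exact h3_not_torus_of_mem_Kz h hw hyw hT
  have hk2 : 2 ≤ Nat.card K := by
    obtain ⟨m, hm⟩ := even_card_K h
    have : 0 < Nat.card K := Nat.card_pos
    omega
  have hk : Nat.card K + Nat.card K * (Nat.card K - 2) = Nat.card K * (Nat.card K - 1) := by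
    obtain ⟨m, hm⟩ : ∃ m, Nat.card K = m + 2 := ⟨Nat.card K - 2, by omega⟩
    rw [hm]
    simp only [Nat.add_sub_cancel]
    have : m + 2 - 1 = m + 1 := by omega
    rw [this]
    ring
  rw [e3, e4, e5, e6] at e2
  omega

theorem h3_sq_ne_of_NR {y : G} (hy : IsNR y) : y * y ≠ 1 := by
  intro hyy
  exact hy.2.1 (h3_orderOf_two_of_sq hyy hy.1)

-- C6 : census of G
theorem census (h : Hyp t K s) :
    Nat.card G = 1 + nInv G + nInv G * (Nat.card K - 2) +
      Nat.card {y : G // IsTorusElt y} + Nat.card {y : G // IsNR y} := by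
  have e0 : Nat.card G = Nat.card {y : G // True} :=
    Nat.card_congr (Equiv.subtypeUnivEquiv (fun _ => trivial)).symm
  have e1 := h3_card_split (fun _ : G => True) (fun y => y * y = 1)
  -- elements with y*y = 1
  have e2 := h3_card_split (fun y : G => True ∧ y * y = 1) (fun y => y = 1)
  have e3 : Nat.card {y : G // (True ∧ y * y = 1) ∧ y = 1} = 1 := by
    apply h3_card_eq_one _ (1 : G)
    intro y
    constructor
    · exact fun hy => hy.2
    · rintro rfl; simp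
  have e4 : Nat.card {y : G // (True ∧ y * y = 1) ∧ ¬ y = 1} = nInv G := by
    rw [nInv_def]
    apply Nat.card_congr
    apply Equiv.subtypeEquivRight
    intro y
    constructor
    · rintro ⟨⟨_, hyy⟩, hy1⟩
      exact h3_orderOf_two_of_sq hyy hy1
    · intro hy2
      exact ⟨⟨trivial, h3_mul_self_of_orderOf hy2⟩, h3_ne_one_of_orderOf hy2⟩
  -- elements with y*y ≠ 1
  have e5 := h3_card_split (fun y : G => True ∧ ¬ y * y = 1)
    (fun y => ∃ w : G, orderOf w = 2 ∧ y ∈ Kz w)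
  have e6 : Nat.card {y : G // (True ∧ ¬ y * y = 1) ∧ ∃ w : G, orderOf w = 2 ∧ y ∈ Kz w} =
      nInv G * (Nat.card K - 2) := by
    rw [← count_Ktype_all h]
    apply Nat.card_congr
    apply Equiv.subtypeEquivRight
    intro y
    tauto
  have e7 := h3_card_split
    (fun y : G => (True ∧ ¬ y * y = 1) ∧ ¬ ∃ w : G, orderOf w = 2 ∧ y ∈ Kz w)
    (fun y => IsTorusElt y)
  have e8 : Nat.card {y : G // ((True ∧ ¬ y * y = 1) ∧ ¬ ∃ w : G, orderOf w = 2 ∧ y ∈ Kz w) ∧
      IsTorusElt y} = Nat.card {y : G // IsTorusElt y} := by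
    apply Nat.card_congr
    apply Equiv.subtypeEquivRight
    intro y
    constructor
    · exact fun hy => hy.2
    · intro hT
      refine ⟨⟨⟨trivial, (torusElt_sq_ne h hT).1⟩, ?_⟩, hT⟩
      rintro ⟨w, hw, hyw⟩
      exact h3_not_torus_of_mem_Kz h hw hyw hT
  have e9 : Nat.card {y : G // ((True ∧ ¬ y * y = 1) ∧ ¬ ∃ w : G, orderOf w = 2 ∧ y ∈ Kz w) ∧
      ¬ IsTorusElt y} = Nat.card {y : G // IsNR y} := by
    apply Nat.card_congr
    apply Equiv.subtypeEquivRight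
    intro y
    constructor
    · rintro ⟨⟨⟨_, hyy⟩, hK⟩, hT⟩
      rcases trichotomy h y hyy with h1 | h1 | h1
      · exact absurd h1.1 hK
      · exact absurd h1.2.1 hT
      · exact h1.2.2
    · intro hN
      have hyy := h3_sq_ne_of_NR hN
      rcases trichotomy h y hyy with h1 | h1 | h1
      · exact absurd hN h1.2.2
      · exact absurd hN h1.2.2
      · exact ⟨⟨⟨trivial, hyy⟩, h1.1⟩, h1.2.1⟩
  rw [e0, e1, e2, e3, e4, e5, e6, e7, e8, e9]
  ring

end Cfsg.Agent.Lead.Bsw
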