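import Mathlib

/-!
Helper library (helper3): gluing isomorphisms along a central-product frame `E = ⟨x, y⟩ ∘ C`.
-/

set_option autoImplicit false

namespace Cfsg.Agent.Helper3.Extra

open scoped commutatorElement

universe u v

section comm
variable {E : Type u} [Group E]

theorem conj_zpow_of_comm (x y : E) (hx : Commute ⁅y, x⁆ x) (k : ℤ) :
    y * x ^ k = ⁅y, x⁆ ^ k * x ^ k * y := by
  have h1 : y * x * y⁻¹ = ⁅y, x⁆ * x := by rw [commutatorElement_def]; group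
  have h2 : y * x ^ k * y⁻¹ = (y * x * y⁻¹) ^ k := (conj_zpow).symm
  rw [h1, hx.mul_zpow] at h2
  rw [← h2]; group

/-- `y ^ j * x ^ k = w ^ (j * k) * x ^ k * y ^ j` when `w = ⁅y, x⁆` commutes with `x` and `y`. -/
theorem zpow_mul_zpow_comm (x y : E) (hx : Commute ⁅y, x⁆ x) (hy : Commute ⁅y, x⁆ y) (j k : ℤ) :
    y ^ j * x ^ k = ⁅y, x⁆ ^ (j * k) * x ^ k * y ^ j := by
  set w := ⁅y, x⁆ with hw
  have h1 : y * x ^ k = w ^ k * x ^ k * y := conj_zpow_of_comm x y hx k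
  have hWX : Commute (w ^ k) (x ^ k) := (hx.zpow_left k).zpow_right k
  have hWy : Commute (w ^ k) y := hy.zpow_left k
  -- conjugating `y` by `(x^k)⁻¹`
  have h2 : (x ^ k)⁻¹ * y * x ^ k = w ^ k * y := by
    calc (x ^ k)⁻¹ * y * x ^ k = (x ^ k)⁻¹ * (y * x ^ k) := by group
      _ = (x ^ k)⁻¹ * (x ^ k * w ^ k * y) := by rw [h1, hWX.eq]
      _ = w ^ k * y := by group
  have h3 : (x ^ k)⁻¹ * y ^ j * x ^ k = ((x ^ k)⁻¹ * y * x ^ k) ^ j := by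
    have := @conj_zpow E _ j (x ^ k)⁻¹ y
    rw [inv_inv] at this
    exact this.symm
  rw [h2, hWy.mul_zpow, ← zpow_mul, mul_comm k j] at h3
  have hWX' : Commute (w ^ (j * k)) (x ^ k) := (hx.zpow_left _).zpow_right k
  calc y ^ j * x ^ k = x ^ k * ((x ^ k)⁻¹ * y ^ j * x ^ k) := by group
    _ = x ^ k * (w ^ (j * k) * y ^ j) := by rw [h3]
    _ = (x ^ k * w ^ (j * k)) * y ^ j := by group
    _ = w ^ (j * k) * x ^ k * y ^ j := by rw [hWX'.eq]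

end comm

/-- A central-product frame of exponent `p` in `E`. -/
structure Frame (E : Type u) [Group E] (p : ℕ) where
  x : E
  y : E
  C : Subgroup E
  hxC : ∀ c ∈ C, Commute x c
  hyC : ∀ c ∈ C, Commute y c
  hw : ⁅y, x⁆ ∈ C
  hwx : Commute ⁅y, x⁆ x
  hwy : Commute ⁅y, x⁆ y
  hxp : x ^ p ∈ C
  hyp : y ^ p ∈ C
  span : ∀ e : E, ∃ i j : ℤ, ∃ c ∈ C, e = x ^ i * y ^ j * c
  ind : ∀ i j : ℤ, x ^ i * y ^ j ∈ C → (p : ℤ) ∣ i ∧ (p : ℤ) ∣ j

namespace Frame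

variable {E : Type u} [Group E] {p : ℕ} (S : Frame E p)

/-- the commutator as an element of `C` -/
def w : S.C := ⟨⁅S.y, S.x⁆, S.hw⟩
def xp : S.C := ⟨S.x ^ p, S.hxp⟩
def yp : S.C := ⟨S.y ^ p, S.hyp⟩

theorem mul_formula (i j k l : ℤ) (c d : S.C) :
    (S.x ^ i * S.y ^ j * c) * (S.x ^ k * S.y ^ l * d) =
      S.x ^ (i + k) * S.y ^ (j + l) * ((S.w ^ (j * k) * c * d : S.C) : E) := by
  have hc1 : Commute (c : E) (S.x ^ k) := ((S.hxC c c.2).zpow_left k).symm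
  have hc2 : Commute (c : E) (S.y ^ l) := ((S.hyC c c.2).zpow_left l).symm
  have hW1 : Commute (⁅S.y, S.x⁆ ^ (j * k)) (S.x ^ i) := (S.hwx.zpow_left _).zpow_right _
  have hW2 : Commute (⁅S.y, S.x⁆ ^ (j * k)) (S.x ^ (i + k)) := (S.hwx.zpow_left _).zpow_right _
  have hW3 : Commute (⁅S.y, S.x⁆ ^ (j * k)) (S.y ^ (j + l)) := (S.hwy.zpow_left _).zpow_right _
  have hcoe : ((S.w ^ (j * k) * c * d : S.C) : E) = ⁅S.y, S.x⁆ ^ (j * k) * c * d := by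
    simp [w]
  rw [hcoe]
  calc (S.x ^ i * S.y ^ j * c) * (S.x ^ k * S.y ^ l * d)
      = S.x ^ i * S.y ^ j * (c * S.x ^ k) * S.y ^ l * d := by group
    _ = S.x ^ i * S.y ^ j * (S.x ^ k * c) * S.y ^ l * d := by rw [hc1.eq]
    _ = S.x ^ i * (S.y ^ j * S.x ^ k) * (c * S.y ^ l) * d := by group
    _ = S.x ^ i * (⁅S.y, S.x⁆ ^ (j * k) * S.x ^ k * S.y ^ j) * (S.y ^ l * c) * d := by
        rw [zpow_mul_zpow_comm S.x S.y S.hwx S.hwy, hc2.eq]
    _ = (S.x ^ i * ⁅S.y, S.x⁆ ^ (j * k)) * S.x ^ k * S.y ^ j * S.y ^ l * c * d := by group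
    _ = (⁅S.y, S.x⁆ ^ (j * k) * S.x ^ i) * S.x ^ k * S.y ^ j * S.y ^ l * c * d := by rw [hW1.eq]
    _ = ⁅S.y, S.x⁆ ^ (j * k) * S.x ^ (i + k) * S.y ^ (j + l) * c * d := by
        rw [zpow_add, zpow_add]; group
    _ = S.x ^ (i + k) * (⁅S.y, S.x⁆ ^ (j * k) * S.y ^ (j + l)) * c * d := by rw [hW2.eq]; group
    _ = S.x ^ (i + k) * (S.y ^ (j + l) * ⁅S.y, S.x⁆ ^ (j * k)) * c * d := by rw [hW3.eq]
    _ = S.x ^ (i + k) * S.y ^ (j + l) * (⁅S.y, S.x⁆ ^ (j * k) * c * d) := by group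

theorem w_comm (c : S.C) : Commute (⁅S.y, S.x⁆) (c : E) := by
  have hx := S.hxC c c.2
  have hy := S.hyC c c.2
  rw [commutatorElement_def]
  exact ((hy.mul_left hx).mul_left hy.inv_left).mul_left hx.inv_left

theorem inv_formula (i j : ℤ) (c : S.C) :
    (S.x ^ i * S.y ^ j * c)⁻¹ =
      S.x ^ (-i) * S.y ^ (-j) * ((S.w ^ (j * i) * c⁻¹ : S.C) : E) := by
  rw [inv_eq_iff_mul_eq_one, mul_formula]
  have hW : Commute (⁅S.y, S.x⁆ ^ (j * i)) (c : E) := (S.w_comm c).zpow_left _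
  have hcoe : ((S.w ^ (j * -i) * c * (S.w ^ (j * i) * c⁻¹) : S.C) : E) =
      (⁅S.y, S.x⁆ ^ (j * i))⁻¹ * (c * ⁅S.y, S.x⁆ ^ (j * i)) * (c : E)⁻¹ := by
    simp [w, mul_assoc]
  rw [hcoe, ← hW.eq]
  simp

end Frame


section glue
variable {E : Type u} {F : Type v} [Group E] [Group F] {p : ℕ}

theorem ker_lemma (S : Frame E p) (T : Frame F p) (φ : S.C ≃* T.C)
    (hφx : φ S.xp = T.xp) (hφy : φ S.yp = T.yp) (i j : ℤ) (c : S.C)
    (h : S.x ^ i * S.y ^ j * c = 1) : T.x ^ i * T.y ^ j * (φ c : F) = 1 := by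
  have h1 : S.x ^ i * S.y ^ j = ((c⁻¹ : S.C) : E) := by
    rw [Subgroup.coe_inv]; exact eq_inv_of_mul_eq_one_left h
  have hmem : S.x ^ i * S.y ^ j ∈ S.C := h1 ▸ (c⁻¹).2
  obtain ⟨⟨s, hs⟩, ⟨t, ht⟩⟩ := S.ind i j hmem
  have h2 : (c⁻¹ : S.C) = S.xp ^ s * S.yp ^ t := by
    apply Subtype.ext
    rw [← h1, hs, ht]
    simp [Frame.xp, Frame.yp, zpow_mul, zpow_natCast]
  have h3 := congrArg φ h2
  rw [map_inv, map_mul, map_zpow, map_zpow, hφx, hφy] at h3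
  have h4 : ((φ c : T.C) : F)⁻¹ = T.x ^ i * T.y ^ j := by
    have := congrArg (Subtype.val) h3
    rw [hs, ht]
    simpa [Frame.xp, Frame.yp, zpow_mul, zpow_natCast] using this
  rw [← h4]; simp

/-- The graph subgroup used for gluing. -/
def glueGraph (S : Frame E p) (T : Frame F p) (φ : S.C ≃* T.C) (hφw : φ S.w = T.w) :
    Subgroup (E × F) where
  carrier := {q | ∃ i j : ℤ, ∃ c : S.C, q = (S.x ^ i * S.y ^ j * c, T.x ^ i * T.y ^ j * (φ c : F))}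
  one_mem' := ⟨0, 0, 1, by simp [Prod.ext_iff]⟩
  mul_mem' := by
    rintro _ _ ⟨i, j, c, rfl⟩ ⟨k, l, d, rfl⟩
    refine ⟨i + k, j + l, S.w ^ (j * k) * c * d, ?_⟩
    rw [Prod.mk_mul_mk, S.mul_formula, T.mul_formula]
    simp [hφw]
  inv_mem' := by
    rintro _ ⟨i, j, c, rfl⟩
    refine ⟨-i, -j, S.w ^ (j * i) * c⁻¹, ?_⟩
    rw [Prod.inv_mk, S.inv_formula, T.inv_formula]
    simp [hφw]

theorem mem_glueGraph (S : Frame E p) (T : Frame F p) (φ : S.C ≃* T.C) (hφw : φ S.w = T.w)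
    (q : E × F) : q ∈ glueGraph S T φ hφw ↔
      ∃ i j : ℤ, ∃ c : S.C, q = (S.x ^ i * S.y ^ j * c, T.x ^ i * T.y ^ j * (φ c : F)) := Iff.rfl

/-- **Glue lemma**: an isomorphism of the `C`-parts of two frames, compatible with the commutator
and the `p`-th powers, extends to an isomorphism of the groups. -/
theorem glue (S : Frame E p) (T : Frame F p) (φ : S.C ≃* T.C) (hφw : φ S.w = T.w)
    (hφx : φ S.xp = T.xp) (hφy : φ S.yp = T.yp) :
    ∃ e : E ≃* F, ∀ c : S.C, e (c : E) = (φ c : F) := by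
  set H := glueGraph S T φ hφw with hH
  have hφw' : φ.symm T.w = S.w := by rw [← hφw]; simp
  have hφx' : φ.symm T.xp = S.xp := by rw [← hφx]; simp
  have hφy' : φ.symm T.yp = S.yp := by rw [← hφy]; simp
  -- kernel conditions
  have hk1 : ∀ f : F, ((1 : E), f) ∈ H → f = 1 := by
    intro f hf
    obtain ⟨i, j, c, hq⟩ := hf
    have h1 : S.x ^ i * S.y ^ j * c = 1 := (congrArg Prod.fst hq).symm
    have h2 : f = T.x ^ i * T.y ^ j * (φ c : F) := congrArg Prod.snd hq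
    rw [h2]
    exact ker_lemma S T φ hφx hφy i j c h1
  have hk2 : ∀ e : E, (e, (1 : F)) ∈ H → e = 1 := by
    intro e he
    obtain ⟨i, j, c, hq⟩ := he
    have h1 : T.x ^ i * T.y ^ j * (φ c : F) = 1 := (congrArg Prod.snd hq).symm
    have h2 : e = S.x ^ i * S.y ^ j * c := congrArg Prod.fst hq
    rw [h2]
    have := ker_lemma T S φ.symm hφx' hφy' i j (φ c) h1
    simpa using this
  have hG₁ : Function.Bijective (Prod.fst ∘ H.subtype) := by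
    constructor
    · rintro ⟨⟨e1, f1⟩, h1⟩ ⟨⟨e2, f2⟩, h2⟩ he
      have he' : e1 = e2 := he
      subst he'
      have h3 := H.mul_mem (H.inv_mem h1) h2
      rw [Prod.inv_mk, Prod.mk_mul_mk, inv_mul_cancel] at h3
      have h4 := hk1 _ h3
      have : f1 = f2 := by rw [inv_mul_eq_one] at h4; exact h4
      subst this; rfl
    · intro e
      obtain ⟨i, j, c, hc, he⟩ := S.span e
      exact ⟨⟨(e, T.x ^ i * T.y ^ j * (φ ⟨c, hc⟩ : F)), ⟨i, j, ⟨c, hc⟩, by rw [he]⟩⟩, rfl⟩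
  have hG₂ : Function.Bijective (Prod.snd ∘ H.subtype) := by
    constructor
    · rintro ⟨⟨e1, f1⟩, h1⟩ ⟨⟨e2, f2⟩, h2⟩ hf
      have hf' : f1 = f2 := hf
      subst hf'
      have h3 := H.mul_mem (H.inv_mem h1) h2
      rw [Prod.inv_mk, Prod.mk_mul_mk, inv_mul_cancel] at h3
      have h4 := hk2 _ h3
      have : e1 = e2 := by rw [inv_mul_eq_one] at h4; exact h4
      subst this; rfl
    · intro f
      obtain ⟨i, j, c, hc, hf⟩ := T.span f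
      refine ⟨⟨(S.x ^ i * S.y ^ j * (φ.symm ⟨c, hc⟩ : E), f), ⟨i, j, φ.symm ⟨c, hc⟩, ?_⟩⟩, rfl⟩
      rw [hf]; simp
  obtain ⟨e, he⟩ := Subgroup.exists_mulEquiv_eq_graph hG₁ hG₂
  refine ⟨e, fun c => ?_⟩
  have hmem : ((c : E), (φ c : F)) ∈ H := ⟨0, 0, c, by simp⟩
  rw [he] at hmem
  exact hmem

end glue

end Cfsg.Agent.Helper3.Extra
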