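import Mathlib
import Cfsg.Prelude.Def_Transfer
import Cfsg.Agent.Helper1.PGroup
import Cfsg.Agent.Helper5.FrattiniLe
import Cfsg.Agent.Helper3.ExtraGlue

/-!
Helper library (helper3): the class of groups with centre of prime order `p`, central commutators and
central `p`-th powers; decomposition `E = ⟨x, y⟩ ∘ C_E(x, y)` along a non-commuting pair.
-/

set_option autoImplicit false

namespace Cfsg.Agent.Helper3.Extra

open scoped commutatorElement

universe u v

/-- The class of groups with centre of order `p`, central commutators and central `p`-th powers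
(extraspecial `p`-groups together with the group of order `p`). -/
structure InClass (p : ℕ) (E : Type u) [Group E] : Prop where
  card_center : Nat.card (Subgroup.center E) = p
  comm_mem : ∀ x y : E, ⁅x, y⁆ ∈ Subgroup.center E
  pow_mem : ∀ x : E, x ^ p ∈ Subgroup.center E

theorem inClass_of_isExtraspecial {p : ℕ} [Fact p.Prime] {E : Type u} [Group E] [Finite E]
    (hE : Cfsg.IsExtraspecial p E) : InClass p E := by
  obtain ⟨⟨hP, hfr, hcomm⟩, hcard⟩ := hE
  refine ⟨hcard, fun x y => ?_, fun x => ?_⟩
  · rw [← hcomm, commutator_def]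
    exact Subgroup.commutator_mem_commutator (Subgroup.mem_top _) (Subgroup.mem_top _)
  · rw [← hfr]
    exact Cfsg.Agent.Helper1.IsPGroup.pow_mem_frattini hP x

namespace InClass

variable {p : ℕ} {E : Type u} [Group E] (hE : InClass p E)

/-- `e ↦ ⁅u, e⁆` as a homomorphism to the centre. -/
def cm (u : E) : E →* Subgroup.center E where
  toFun e := ⟨⁅u, e⁆, hE.comm_mem u e⟩
  map_one' := by apply Subtype.ext; simp
  map_mul' a b := by
    apply Subtype.ext
    have h1 := Subgroup.mem_center_iff.mp (hE.comm_mem u b) a⁻¹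
    show ⁅u, a * b⁆ = ⁅u, a⁆ * ⁅u, b⁆
    have h2 : ⁅u, a * b⁆ = u * a * u⁻¹ * ⁅u, b⁆ * a⁻¹ := by
      rw [commutatorElement_def, commutatorElement_def]; group
    rw [h2, mul_assoc (u * a * u⁻¹), ← h1, commutatorElement_def u a]
    group

theorem cm_apply (u e : E) : ((hE.cm u e : Subgroup.center E) : E) = ⁅u, e⁆ := rfl

theorem cm_eq_one_iff (u e : E) : hE.cm u e = 1 ↔ Commute u e := by
  rw [← Subtype.coe_inj, cm_apply, Subgroup.coe_one, commutatorElement_eq_one_iff_commute]

theorem cm_self (u : E) : hE.cm u u = 1 := (hE.cm_eq_one_iff u u).2 (Commute.refl u)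

theorem cm_swap (u e : E) : hE.cm u e = (hE.cm e u)⁻¹ := by
  apply Subtype.ext
  rw [Subgroup.coe_inv, cm_apply, cm_apply, commutatorElement_inv]

theorem mem_centralizer_pair_iff (x y e : E) :
    e ∈ Subgroup.centralizer ({x, y} : Set E) ↔ hE.cm x e = 1 ∧ hE.cm y e = 1 := by
  rw [Subgroup.mem_centralizer_iff, cm_eq_one_iff, cm_eq_one_iff]
  constructor
  · intro h
    exact ⟨h x (by simp), h y (by simp)⟩
  · rintro ⟨h1, h2⟩ g hg
    rcases hg with rfl | rfl
    · exact h1
    · exact h2

section pair
variable [hp : Fact p.Prime] (x y : E) (hxy : ⁅y, x⁆ ≠ 1)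
include hxy

omit hp in
theorem cm_ne_one : hE.cm y x ≠ 1 := by
  intro h
  apply hxy
  have := congrArg Subtype.val h
  simpa [cm_apply] using this

theorem orderOf_cm : orderOf (hE.cm y x) = p := by
  have h1 : orderOf (hE.cm y x) ∣ p := by
    have := orderOf_dvd_natCard (hE.cm y x)
    rwa [hE.card_center] at this
  rcases (Nat.dvd_prime hp.out).1 h1 with h | h
  · exact absurd (orderOf_eq_one_iff.1 h) (hE.cm_ne_one x y hxy)
  · exact h

theorem exists_zpow_eq (z : Subgroup.center E) : ∃ a : ℤ, hE.cm y x ^ a = z := by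
  have h := zpowers_eq_top_of_prime_card (G := Subgroup.center E) hE.card_center
    (hE.cm_ne_one x y hxy)
  have : z ∈ Subgroup.zpowers (hE.cm y x) := by rw [h]; exact Subgroup.mem_top _
  exact Subgroup.mem_zpowers_iff.1 this

/-- the frame attached to a non-commuting pair -/
abbrev frame : Frame E p where
  x := x
  y := y
  C := Subgroup.centralizer {x, y}
  hxC := fun c hc => Subgroup.mem_centralizer_iff.mp hc x (by simp)
  hyC := fun c hc => Subgroup.mem_centralizer_iff.mp hc y (by simp)
  hw := Subgroup.center_le_centralizer _ (hE.comm_mem y x)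
  hwx := (Subgroup.mem_center_iff.mp (hE.comm_mem y x) x).symm
  hwy := (Subgroup.mem_center_iff.mp (hE.comm_mem y x) y).symm
  hxp := Subgroup.center_le_centralizer _ (hE.pow_mem x)
  hyp := Subgroup.center_le_centralizer _ (hE.pow_mem y)
  span := by
    intro e
    obtain ⟨a, ha⟩ := hE.exists_zpow_eq x y hxy (hE.cm x e)
    obtain ⟨b, hb⟩ := hE.exists_zpow_eq x y hxy (hE.cm y e)
    refine ⟨b, -a, (x ^ b * y ^ (-a))⁻¹ * e, ?_, by group⟩
    rw [hE.mem_centralizer_pair_iff x y]
    constructor
    · rw [map_mul, map_inv, map_mul, map_zpow, map_zpow, cm_self, hE.cm_swap x y, ← ha]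
      simp
    · rw [map_mul, map_inv, map_mul, map_zpow, map_zpow, cm_self, ← hb]
      simp
  ind := by
    intro i j h
    rw [hE.mem_centralizer_pair_iff x y] at h
    obtain ⟨h1, h2⟩ := h
    rw [map_mul, map_zpow, map_zpow, cm_self, hE.cm_swap x y] at h1
    rw [map_mul, map_zpow, map_zpow, cm_self] at h2
    have h1' : hE.cm y x ^ j = 1 := by simpa using h1
    have h2' : hE.cm y x ^ i = 1 := by simpa using h2
    rw [← orderOf_dvd_iff_zpow_eq_one, hE.orderOf_cm x y hxy] at h1' h2'
    exact ⟨h2', h1'⟩

include hE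

theorem mem_center_centralizer_iff (c : Subgroup.centralizer ({x, y} : Set E)) :
    c ∈ Subgroup.center (Subgroup.centralizer ({x, y} : Set E)) ↔ (c : E) ∈ Subgroup.center E := by
  constructor
  · intro hc
    rw [Subgroup.mem_center_iff]
    intro e
    obtain ⟨i, j, d, hd, rfl⟩ := (hE.frame x y hxy).span e
    have hcx : Commute x (c : E) := Subgroup.mem_centralizer_iff.mp c.2 x (by simp)
    have hcy : Commute y (c : E) := Subgroup.mem_centralizer_iff.mp c.2 y (by simp)
    have hcd : Commute d (c : E) := by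
      have := Subgroup.mem_center_iff.mp hc ⟨d, hd⟩
      exact congrArg Subtype.val this
    exact ((hcx.zpow_left i).mul_left (hcy.zpow_left j)).mul_left hcd
  · intro hc
    rw [Subgroup.mem_center_iff]
    intro d
    apply Subtype.ext
    exact Subgroup.mem_center_iff.mp hc d

theorem card_center_centralizer :
    Nat.card (Subgroup.center (Subgroup.centralizer ({x, y} : Set E))) = p := by
  rw [← hE.card_center]
  have hmap : (Subgroup.center (Subgroup.centralizer ({x, y} : Set E))).map
      (Subgroup.centralizer ({x, y} : Set E)).subtype = Subgroup.center E := by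
    ext e
    rw [Subgroup.mem_map]
    constructor
    · rintro ⟨c, hc, rfl⟩
      exact (hE.mem_center_centralizer_iff x y hxy c).1 hc
    · intro he
      exact ⟨⟨e, Subgroup.center_le_centralizer _ he⟩,
        (hE.mem_center_centralizer_iff x y hxy _).2 he, rfl⟩
  rw [← hmap, Subgroup.card_map_of_injective (Subgroup.subtype_injective _)]

/-- the centraliser of a non-commuting pair is again in the class -/
theorem inClass_centralizer : InClass p (Subgroup.centralizer ({x, y} : Set E)) where
  card_center := hE.card_center_centralizer x y hxy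
  comm_mem := fun c d => (hE.mem_center_centralizer_iff x y hxy _).2 (by
    have : ((⁅c, d⁆ : Subgroup.centralizer ({x, y} : Set E)) : E) = ⁅(c : E), (d : E)⁆ := by
      simp [commutatorElement_def]
    rw [this]; exact hE.comm_mem _ _)
  pow_mem := fun c => (hE.mem_center_centralizer_iff x y hxy _).2 (by
    rw [Subgroup.coe_pow]; exact hE.pow_mem _)

/-- the coordinate map `(i, j, c) ↦ x ^ i * y ^ j * c` -/
def param (q : (Fin p × Fin p) × Subgroup.centralizer ({x, y} : Set E)) : E :=
  x ^ (q.1.1 : ℕ) * y ^ (q.1.2 : ℕ) * (q.2 : E)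

omit hxy hp in
theorem cm_param_x (q : (Fin p × Fin p) × Subgroup.centralizer ({x, y} : Set E)) :
    hE.cm x (param x y q) = ((hE.cm y x) ^ (q.1.2 : ℕ))⁻¹ := by
  have hc := ((hE.mem_centralizer_pair_iff x y _).1 q.2.2).1
  rw [param, map_mul, map_mul, map_pow, map_pow, cm_self, hc, hE.cm_swap x y]
  simp

omit hxy hp in
theorem cm_param_y (q : (Fin p × Fin p) × Subgroup.centralizer ({x, y} : Set E)) :
    hE.cm y (param x y q) = (hE.cm y x) ^ (q.1.1 : ℕ) := by
  have hc := ((hE.mem_centralizer_pair_iff x y _).1 q.2.2).2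
  rw [param, map_mul, map_mul, map_pow, map_pow, cm_self, hc]
  simp

theorem param_bijective : Function.Bijective (param (p := p) x y) := by
  have hord := hE.orderOf_cm x y hxy
  constructor
  · rintro ⟨⟨i, j⟩, c⟩ ⟨⟨k, l⟩, d⟩ h
    have h1 := congrArg (hE.cm x) h
    have h2 := congrArg (hE.cm y) h
    rw [cm_param_x, cm_param_x, inv_inj] at h1
    rw [cm_param_y, cm_param_y] at h2
    simp only at h1 h2
    have hj : (j : ℕ) = l := by
      apply pow_injOn_Iio_orderOf (x := hE.cm y x)
      · rw [hord]; exact j.2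
      · rw [hord]; exact l.2
      · exact h1
    have hi : (i : ℕ) = k := by
      apply pow_injOn_Iio_orderOf (x := hE.cm y x)
      · rw [hord]; exact i.2
      · rw [hord]; exact k.2
      · exact h2
    have hi' : i = k := Fin.ext hi
    have hj' : j = l := Fin.ext hj
    subst hi' hj'
    simp only [param] at h
    have hcd : (c : E) = d := mul_left_cancel h
    have : c = d := Subtype.ext hcd
    subst this; rfl
  · intro e
    obtain ⟨i, j, c, hc, rfl⟩ := (hE.frame x y hxy).span e
    have hp0 : (0 : ℤ) < p := by exact_mod_cast hp.out.pos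
    have hi0 : ((i % p).toNat : ℤ) = i % p := Int.toNat_of_nonneg (Int.emod_nonneg i hp0.ne')
    have hj0 : ((j % p).toNat : ℤ) = j % p := Int.toNat_of_nonneg (Int.emod_nonneg j hp0.ne')
    have hi1 : (i % p).toNat < p := by
      have := Int.emod_lt_of_pos i hp0
      omega
    have hj1 : (j % p).toNat < p := by
      have := Int.emod_lt_of_pos j hp0
      omega
    have hxi : x ^ i = x ^ (i % p).toNat * (x ^ p) ^ (i / p) := by
      rw [← zpow_natCast x (i % p).toNat, hi0, ← zpow_natCast x p, ← zpow_mul, ← zpow_add,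
        Int.emod_add_mul_ediv]
    have hyj : y ^ j = y ^ (j % p).toNat * (y ^ p) ^ (j / p) := by
      rw [← zpow_natCast y (j % p).toNat, hj0, ← zpow_natCast y p, ← zpow_mul, ← zpow_add,
        Int.emod_add_mul_ediv]
    have hxpc : (x ^ p) ^ (i / p) ∈ Subgroup.center E := Subgroup.zpow_mem _ (hE.pow_mem x) _
    have hypc : (y ^ p) ^ (j / p) ∈ Subgroup.center E := Subgroup.zpow_mem _ (hE.pow_mem y) _
    have hmem : (x ^ p) ^ (i / p) * (y ^ p) ^ (j / p) * c ∈
        Subgroup.centralizer ({x, y} : Set E) :=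
      Subgroup.mul_mem _ (Subgroup.mul_mem _ (Subgroup.center_le_centralizer _ hxpc)
        (Subgroup.center_le_centralizer _ hypc)) hc
    refine ⟨((⟨(i % p).toNat, hi1⟩, ⟨(j % p).toNat, hj1⟩), ⟨_, hmem⟩), ?_⟩
    simp only [param]
    show _ = x ^ i * y ^ j * c
    rw [hxi, hyj]
    have h1 := Subgroup.mem_center_iff.mp hxpc (y ^ (j % p).toNat)
    calc x ^ (i % ↑p).toNat * y ^ (j % ↑p).toNat * ((x ^ p) ^ (i / ↑p) * (y ^ p) ^ (j / ↑p) * c)
        = x ^ (i % ↑p).toNat * (y ^ (j % ↑p).toNat * (x ^ p) ^ (i / ↑p)) * (y ^ p) ^ (j / ↑p) * c := by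
          group
      _ = x ^ (i % ↑p).toNat * ((x ^ p) ^ (i / ↑p) * y ^ (j % ↑p).toNat) * (y ^ p) ^ (j / ↑p) * c := by
          rw [h1]
      _ = _ := by group

theorem card_eq [Finite E] :
    Nat.card E = p ^ 2 * Nat.card (Subgroup.centralizer ({x, y} : Set E)) := by
  rw [← Nat.card_congr (Equiv.ofBijective _ (hE.param_bijective x y hxy)), Nat.card_prod,
    Nat.card_prod, Nat.card_fin]
  ring

end pair

section converse
variable [hp : Fact p.Prime] [Finite E]
include hE

omit hp [Finite E] in
theorem isPGroup : IsPGroup p E := by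
  intro g
  refine ⟨2, ?_⟩
  have h1 : (⟨g ^ p, hE.pow_mem g⟩ : Subgroup.center E) ^ p = 1 := by
    have h0 : (⟨g ^ p, hE.pow_mem g⟩ : Subgroup.center E) ^ Nat.card (Subgroup.center E) = 1 :=
      pow_card_eq_one'
    rwa [hE.card_center] at h0
  have h2 := congrArg Subtype.val h1
  rw [pow_two, pow_mul]
  simpa using h2

omit hp [Finite E] in
theorem exists_pair_of_card_lt (h : p < Nat.card E) : ∃ x y : E, ⁅y, x⁆ ≠ 1 := by
  by_contra hcon
  push Not at hcon
  have htop : Subgroup.center E = ⊤ := by
    rw [eq_top_iff]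
    intro x _
    rw [Subgroup.mem_center_iff]
    intro y
    exact (commutatorElement_eq_one_iff_mul_comm.1 (hcon x y))
  have := hE.card_center
  rw [htop, Subgroup.card_top] at this
  omega

theorem isExtraspecial (h : p < Nat.card E) : Cfsg.IsExtraspecial p E := by
  obtain ⟨x, y, hxy⟩ := hE.exists_pair_of_card_lt h
  have hcomm : commutator E = Subgroup.center E := by
    apply le_antisymm
    · rw [commutator_def, Subgroup.commutator_le]
      intro a _ b _
      exact hE.comm_mem a b
    · intro z hz
      obtain ⟨a, ha⟩ := hE.exists_zpow_eq x y hxy ⟨z, hz⟩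
      have h1 : z = ⁅y, x⁆ ^ a := by
        have := congrArg Subtype.val ha
        simpa [cm_apply] using this.symm
      rw [h1]
      apply Subgroup.zpow_mem
      rw [commutator_def]
      exact Subgroup.commutator_mem_commutator (Subgroup.mem_top _) (Subgroup.mem_top _)
  refine ⟨⟨hE.isPGroup, ?_, hcomm⟩, hE.card_center⟩
  apply le_antisymm
  · apply Cfsg.Agent.Helper5.frattini_le_of_forall (p := p) _ hE.pow_mem
    intro a b
    have := hE.comm_mem a b
    rwa [commutatorElement_def] at this
  · rw [← hcomm]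
    exact Cfsg.Agent.Helper1.IsPGroup.commutator_le_frattini hE.isPGroup

end converse

end InClass

end Cfsg.Agent.Helper3.Extra
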