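import Mathlib
import Cfsg.Prelude.Def_Transfer
import Cfsg.Agent.Helper3.ExtraCore

/-!
Helper library (helper3): the class `InClass 2` (extraspecial 2-groups and the group of order 2):
counting the solutions of `e ^ 2 = 1`, classification by order and that count.
-/

set_option autoImplicit false

namespace Cfsg.Agent.Helper3.Extra

open scoped commutatorElement

universe u v

/-- the number of solutions of `e ^ 2 = 1` -/
noncomputable def inv2 (E : Type u) [Group E] : ℕ := Nat.card {e : E // e ^ 2 = 1}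

theorem inv2_congr {E : Type u} {F : Type v} [Group E] [Group F] (e : E ≃* F) : inv2 E = inv2 F := by
  unfold inv2
  apply Nat.card_congr
  refine Equiv.subtypeEquiv e.toEquiv ?_
  intro a
  constructor
  · intro h
    show e a ^ 2 = 1
    rw [← map_pow, h, map_one]
  · intro h
    have h' : e a ^ 2 = 1 := h
    rw [← map_pow] at h'
    exact e.injective (by rw [h', map_one])

theorem inv2_le_card (G : Type u) [Group G] [Finite G] : inv2 G ≤ Nat.card G :=
  Finite.card_subtype_le _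

namespace InClass

variable {E : Type u} [Group E] (hE : InClass 2 E)

section pair
variable (x y : E) (hxy : ⁅y, x⁆ ≠ 1)
include hE hxy

theorem z_sq : ⁅y, x⁆ ^ 2 = 1 := by
  have : Fact (Nat.Prime 2) := ⟨Nat.prime_two⟩
  have h := hE.orderOf_cm x y hxy
  have h1 : hE.cm y x ^ 2 = 1 := by
    have h0 := pow_orderOf_eq_one (hE.cm y x)
    rwa [h] at h0
  have := congrArg Subtype.val h1
  simpa [cm_apply] using this

theorem mem_center_iff_two (e : E) : e ∈ Subgroup.center E ↔ e = 1 ∨ e = ⁅y, x⁆ := by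
  have : Fact (Nat.Prime 2) := ⟨Nat.prime_two⟩
  constructor
  · intro he
    obtain ⟨w, hw1, hw2⟩ := (Nat.card_eq_two_iff' (1 : Subgroup.center E)).1 hE.card_center
    by_cases h1 : e = 1
    · exact Or.inl h1
    · right
      have h2 : (⟨e, he⟩ : Subgroup.center E) = w := hw2 _ (by
        intro h; apply h1; exact congrArg Subtype.val h)
      have h3 : hE.cm y x = w := hw2 _ (hE.cm_ne_one x y hxy)
      have := congrArg Subtype.val (h2.trans h3.symm)
      simpa [cm_apply] using this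
  · rintro (rfl | rfl)
    · exact Subgroup.one_mem _
    · exact hE.comm_mem y x

theorem sq_eq (e : E) : e ^ 2 = 1 ∨ e ^ 2 = ⁅y, x⁆ :=
  (hE.mem_center_iff_two x y hxy _).1 (hE.pow_mem e)

omit hxy in
theorem mul_sq : (x * y) ^ 2 = ⁅y, x⁆ * x ^ 2 * y ^ 2 := by
  have hz : y * x = ⁅y, x⁆ * x * y := by rw [commutatorElement_def]; group
  have hc := Subgroup.mem_center_iff.mp (hE.comm_mem y x) x
  calc (x * y) ^ 2 = x * (y * x) * y := by rw [pow_two]; group
    _ = (x * ⁅y, x⁆) * x * y * y := by rw [hz]; group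
    _ = (⁅y, x⁆ * x) * x * y * y := by rw [hc]
    _ = ⁅y, x⁆ * x ^ 2 * y ^ 2 := by rw [pow_two, pow_two]; group

theorem count_coset [Finite E] (u : E)
    (hu : ∀ c ∈ Subgroup.centralizer ({x, y} : Set E), Commute u c) :
    (u ^ 2 = 1 → Nat.card {c : Subgroup.centralizer ({x, y} : Set E) // (u * c) ^ 2 = 1} =
      inv2 (Subgroup.centralizer ({x, y} : Set E))) ∧
    (u ^ 2 ≠ 1 → Nat.card {c : Subgroup.centralizer ({x, y} : Set E) // (u * c) ^ 2 = 1} =
        Nat.card (Subgroup.centralizer ({x, y} : Set E)) -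
          inv2 (Subgroup.centralizer ({x, y} : Set E))) := by
  have hmul : ∀ c : Subgroup.centralizer ({x, y} : Set E), (u * c) ^ 2 = u ^ 2 * (c : E) ^ 2 :=
    fun c => (hu c c.2).mul_pow 2
  refine ⟨fun h1 => ?_, fun h1 => ?_⟩
  · unfold inv2
    apply Nat.card_congr
    refine Equiv.subtypeEquiv (Equiv.refl _) ?_
    intro c
    rw [Equiv.refl_apply, hmul, h1, one_mul, ← Subgroup.coe_pow]
    constructor
    · intro h; exact Subtype.ext h
    · intro h; rw [h]; rfl
  · have h2 : u ^ 2 = ⁅y, x⁆ := (hE.sq_eq x y hxy u).resolve_left h1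
    have h3 : Nat.card {c : Subgroup.centralizer ({x, y} : Set E) // (u * c) ^ 2 = 1} =
        Nat.card {c : Subgroup.centralizer ({x, y} : Set E) // ¬ (c ^ 2 = 1)} := by
      apply Nat.card_congr
      refine Equiv.subtypeEquiv (Equiv.refl _) ?_
      intro c
      rw [Equiv.refl_apply, hmul, h2]
      have hc : (c : E) ^ 2 = 1 ↔ c ^ 2 = 1 := by
        rw [← Subgroup.coe_pow]
        constructor
        · intro h; exact Subtype.ext h
        · intro h; rw [h]; rfl
      rw [← hc]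
      rcases hE.sq_eq x y hxy (c : E) with h | h
      · rw [h, mul_one]
        constructor
        · intro h'; exact absurd h' hxy
        · intro h'; exact absurd rfl h'
      · rw [h, ← pow_two, hE.z_sq x y hxy]
        constructor
        · intro _ h'; exact hxy h'
        · intro _; trivial
    rw [h3]
    unfold inv2
    classical
    have h4 := Nat.card_congr (Equiv.sumCompl
      (fun c : Subgroup.centralizer ({x, y} : Set E) => c ^ 2 = 1))
    rw [Nat.card_sum] at h4
    omega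

theorem inv2_eq_sum [Finite E] : inv2 E = ∑ a : Fin 2 × Fin 2,
    Nat.card {c : Subgroup.centralizer ({x, y} : Set E) //
      (x ^ (a.1 : ℕ) * y ^ (a.2 : ℕ) * c) ^ 2 = 1} := by
  have : Fact (Nat.Prime 2) := ⟨Nat.prime_two⟩
  unfold inv2
  have e1 : {e : E // e ^ 2 = 1} ≃
      {q : (Fin 2 × Fin 2) × Subgroup.centralizer ({x, y} : Set E) // (param x y q) ^ 2 = 1} :=
    (Equiv.subtypeEquiv (Equiv.ofBijective _ (hE.param_bijective x y hxy)) (fun q => by
      simp)).symm
  have e2 := Equiv.subtypeProdEquivSigmaSubtype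
    (fun (a : Fin 2 × Fin 2) (c : Subgroup.centralizer ({x, y} : Set E)) =>
      (param x y (a, c)) ^ 2 = 1)
  rw [Nat.card_congr e1, Nat.card_congr e2, Nat.card_sigma]
  rfl

theorem inv2_formula [Finite E] :
    (¬ (x ^ 2 = ⁅y, x⁆ ∧ y ^ 2 = ⁅y, x⁆) →
      inv2 E = 2 * inv2 (Subgroup.centralizer ({x, y} : Set E)) +
        Nat.card (Subgroup.centralizer ({x, y} : Set E))) ∧
    ((x ^ 2 = ⁅y, x⁆ ∧ y ^ 2 = ⁅y, x⁆) →
      inv2 E + 2 * inv2 (Subgroup.centralizer ({x, y} : Set E)) =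
        3 * Nat.card (Subgroup.centralizer ({x, y} : Set E))) := by
  have hle := inv2_le_card (Subgroup.centralizer ({x, y} : Set E))
  have hxC : ∀ c ∈ Subgroup.centralizer ({x, y} : Set E), Commute x c :=
    fun c hc => Subgroup.mem_centralizer_iff.mp hc x (by simp)
  have hyC : ∀ c ∈ Subgroup.centralizer ({x, y} : Set E), Commute y c :=
    fun c hc => Subgroup.mem_centralizer_iff.mp hc y (by simp)
  have hu : ∀ i j : ℕ, ∀ c ∈ Subgroup.centralizer ({x, y} : Set E), Commute (x ^ i * y ^ j) c :=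
    fun i j c hc => ((hxC c hc).pow_left i).mul_left ((hyC c hc).pow_left j)
  have h00 := hE.count_coset x y hxy (x ^ ((0 : Fin 2) : ℕ) * y ^ ((0 : Fin 2) : ℕ)) (hu _ _)
  have h10 := hE.count_coset x y hxy (x ^ ((1 : Fin 2) : ℕ) * y ^ ((0 : Fin 2) : ℕ)) (hu _ _)
  have h01 := hE.count_coset x y hxy (x ^ ((0 : Fin 2) : ℕ) * y ^ ((1 : Fin 2) : ℕ)) (hu _ _)
  have h11 := hE.count_coset x y hxy (x ^ ((1 : Fin 2) : ℕ) * y ^ ((1 : Fin 2) : ℕ)) (hu _ _)
  have hsum := hE.inv2_eq_sum x y hxy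
  rw [Fintype.sum_prod_type, Fin.sum_univ_two, Fin.sum_univ_two, Fin.sum_univ_two] at hsum
  have e00 : (x ^ ((0 : Fin 2) : ℕ) * y ^ ((0 : Fin 2) : ℕ)) ^ 2 = 1 := by simp
  have e10 : (x ^ ((1 : Fin 2) : ℕ) * y ^ ((0 : Fin 2) : ℕ)) ^ 2 = x ^ 2 := by simp
  have e01 : (x ^ ((0 : Fin 2) : ℕ) * y ^ ((1 : Fin 2) : ℕ)) ^ 2 = y ^ 2 := by simp
  have e11 : (x ^ ((1 : Fin 2) : ℕ) * y ^ ((1 : Fin 2) : ℕ)) ^ 2 = ⁅y, x⁆ * x ^ 2 * y ^ 2 := by
    simp only [Fin.val_one, pow_one]; exact hE.mul_sq x y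
  rw [e00] at h00; rw [e10] at h10; rw [e01] at h01; rw [e11] at h11
  have hz2 : ⁅y, x⁆ * ⁅y, x⁆ = 1 := by rw [← pow_two]; exact hE.z_sq x y hxy
  rw [h00.1 rfl] at hsum
  rcases hE.sq_eq x y hxy x with hx | hx <;> rcases hE.sq_eq x y hxy y with hy | hy
  · have t11 : ⁅y, x⁆ * x ^ 2 * y ^ 2 ≠ 1 := by rw [hx, hy]; simpa using hxy
    rw [h10.1 hx, h01.1 hy, h11.2 t11] at hsum
    refine ⟨fun _ => by omega, fun h => ?_⟩
    exact absurd (hx.symm.trans h.1) (Ne.symm hxy)
  · have t11 : ⁅y, x⁆ * x ^ 2 * y ^ 2 = 1 := by rw [hx, hy, mul_one, hz2]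
    have t01 : y ^ 2 ≠ 1 := by rw [hy]; exact hxy
    rw [h10.1 hx, h01.2 t01, h11.1 t11] at hsum
    refine ⟨fun _ => by omega, fun h => ?_⟩
    exact absurd (hx.symm.trans h.1) (Ne.symm hxy)
  · have t11 : ⁅y, x⁆ * x ^ 2 * y ^ 2 = 1 := by rw [hx, hy, mul_one, hz2]
    have t10 : x ^ 2 ≠ 1 := by rw [hx]; exact hxy
    rw [h10.2 t10, h01.1 hy, h11.1 t11] at hsum
    refine ⟨fun _ => by omega, fun h => ?_⟩
    exact absurd (hy.symm.trans h.2) (Ne.symm hxy)
  · have t11 : ⁅y, x⁆ * x ^ 2 * y ^ 2 ≠ 1 := by rw [hx, hy, hz2, one_mul]; exact hxy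
    have t10 : x ^ 2 ≠ 1 := by rw [hx]; exact hxy
    have t01 : y ^ 2 ≠ 1 := by rw [hy]; exact hxy
    rw [h10.2 t10, h01.2 t01, h11.2 t11] at hsum
    refine ⟨fun h => absurd ⟨hx, hy⟩ h, fun _ => by omega⟩

end pair

end InClass

/-- plus type: `2^(2m) + 2^m` solutions of `e ^ 2 = 1` -/
def IsPlus (E : Type u) [Group E] : Prop :=
  ∃ m : ℕ, Nat.card E = 2 ^ (2 * m + 1) ∧ inv2 E = 2 ^ (2 * m) + 2 ^ m

/-- minus type: `2^(2m) - 2^m` solutions of `e ^ 2 = 1` -/
def IsMinus (E : Type u) [Group E] : Prop :=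
  ∃ m : ℕ, 1 ≤ m ∧ Nat.card E = 2 ^ (2 * m + 1) ∧ inv2 E + 2 ^ m = 2 ^ (2 * m)

theorem not_plus_and_minus (E : Type u) [Group E] : ¬ (IsPlus E ∧ IsMinus E) := by
  rintro ⟨⟨m, h1, h2⟩, ⟨m', _, h3, h4⟩⟩
  have hm : m = m' := by
    have := h1.symm.trans h3
    have := Nat.pow_right_injective (le_refl 2) this
    omega
  subst hm
  have : 0 < 2 ^ m := by positivity
  omega

theorem InClass.two_le_card {E : Type u} [Group E] [Finite E] (hE : InClass 2 E) :
    2 ≤ Nat.card E := by
  rw [← hE.card_center]; exact Subgroup.card_le_card_group _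

theorem InClass.inv2_of_card_two {E : Type u} [Group E] [Finite E] (h : Nat.card E = 2) :
    inv2 E = 2 := by
  unfold inv2
  have h1 : ∀ e : E, e ^ 2 = 1 := fun e => by rw [← h]; exact pow_card_eq_one'
  rw [Nat.card_congr (Equiv.subtypeUnivEquiv h1), h]

theorem plus_or_minus : ∀ n : ℕ, ∀ (E : Type u) [Group E] [Finite E], InClass 2 E →
    Nat.card E = n → IsPlus E ∨ IsMinus E := by
  intro n
  induction n using Nat.strong_induction_on with
  | _ n ih =>
  intro E _ _ hE hn
  have : Fact (Nat.Prime 2) := ⟨Nat.prime_two⟩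
  rcases (hE.two_le_card).eq_or_lt with h2 | h2
  · left
    exact ⟨0, by simpa using h2.symm, by rw [InClass.inv2_of_card_two h2.symm]; norm_num⟩
  · obtain ⟨x, y, hxy⟩ := hE.exists_pair_of_card_lt h2
    have hC := hE.inClass_centralizer x y hxy
    have hcard := hE.card_eq x y hxy
    have hform := hE.inv2_formula x y hxy
    have hCpos : 0 < Nat.card (Subgroup.centralizer ({x, y} : Set E)) := Nat.card_pos
    have hlt : Nat.card (Subgroup.centralizer ({x, y} : Set E)) < n := by omega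
    by_cases hQ : x ^ 2 = ⁅y, x⁆ ∧ y ^ 2 = ⁅y, x⁆
    · have hf := hform.2 hQ
      rcases ih _ hlt _ hC rfl with ⟨m, hm1, hm2⟩ | ⟨m, hm0, hm1, hm2⟩
      · right
        refine ⟨m + 1, by omega, ?_, ?_⟩
        · rw [hcard, hm1]; ring
        · rw [hm1, hm2] at hf
          have e1 : 2 ^ (2 * (m + 1)) = 4 * 2 ^ (2 * m) := by ring
          have e2 : 2 ^ (m + 1) = 2 * 2 ^ m := by ring
          have e3 : 2 ^ (2 * m + 1) = 2 * 2 ^ (2 * m) := by ring
          rw [e1, e2]; rw [e3] at hf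
          generalize 2 ^ (2 * m) = A at *
          generalize 2 ^ m = a at *
          omega
      · left
        refine ⟨m + 1, ?_, ?_⟩
        · rw [hcard, hm1]; ring
        · rw [hm1] at hf
          have e1 : 2 ^ (2 * (m + 1)) = 4 * 2 ^ (2 * m) := by ring
          have e2 : 2 ^ (m + 1) = 2 * 2 ^ m := by ring
          have e3 : 2 ^ (2 * m + 1) = 2 * 2 ^ (2 * m) := by ring
          rw [e1, e2]; rw [e3] at hf
          generalize 2 ^ (2 * m) = A at *
          generalize 2 ^ m = a at *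
          omega
    · have hf := hform.1 hQ
      rcases ih _ hlt _ hC rfl with ⟨m, hm1, hm2⟩ | ⟨m, hm0, hm1, hm2⟩
      · left
        refine ⟨m + 1, ?_, ?_⟩
        · rw [hcard, hm1]; ring
        · rw [hm1, hm2] at hf
          rw [hf]; ring
      · right
        refine ⟨m + 1, by omega, ?_, ?_⟩
        · rw [hcard, hm1]; ring
        · rw [hm1] at hf
          have e1 : 2 ^ (2 * (m + 1)) = 4 * 2 ^ (2 * m) := by ring
          have e2 : 2 ^ (m + 1) = 2 * 2 ^ m := by ring
          have e3 : 2 ^ (2 * m + 1) = 2 * 2 ^ (2 * m) := by ring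
          rw [e1, e2]; rw [e3] at hf
          generalize 2 ^ (2 * m) = A at *
          generalize 2 ^ m = a at *
          omega


section uniq

theorem eq_of_mem_center_of_card_two {G : Type u} [Group G]
    (h : Nat.card (Subgroup.center G) = 2) {a b : G} (ha : a ∈ Subgroup.center G)
    (hb : b ∈ Subgroup.center G) (ha1 : a ≠ 1) (hb1 : b ≠ 1) : a = b := by
  obtain ⟨w, _, hw2⟩ := (Nat.card_eq_two_iff' (1 : Subgroup.center G)).1 h
  have h1 : (⟨a, ha⟩ : Subgroup.center G) = w := hw2 _ (by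
    intro h; apply ha1; exact congrArg Subtype.val h)
  have h2 : (⟨b, hb⟩ : Subgroup.center G) = w := hw2 _ (by
    intro h; apply hb1; exact congrArg Subtype.val h)
  exact congrArg Subtype.val (h1.trans h2.symm)

theorem map_mem_center {G : Type u} {H : Type v} [Group G] [Group H] (φ : G ≃* H) {a : G}
    (ha : a ∈ Subgroup.center G) : φ a ∈ Subgroup.center H := by
  rw [Subgroup.mem_center_iff] at ha ⊢
  intro h
  have := congrArg φ (ha (φ.symm h))
  simpa using this

variable {E : Type u} [Group E]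

theorem InClass.inv2_eq_two_of_forall (hE : InClass 2 E)
    (h : ∀ e : E, e ^ 2 = 1 → e ∈ Subgroup.center E) : inv2 E = 2 := by
  rw [← hE.card_center]
  unfold inv2
  apply Nat.card_congr
  refine ⟨fun e => ⟨e.1, h e.1 e.2⟩, fun z => ⟨z.1, ?_⟩, fun e => rfl, fun z => rfl⟩
  have h0 : z ^ Nat.card (Subgroup.center E) = 1 := pow_card_eq_one'
  rw [hE.card_center] at h0
  have := congrArg Subtype.val h0
  simpa using this

theorem InClass.inv2_ne_two (hE : InClass 2 E) (e : E) (he : e ^ 2 = 1)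
    (hne : e ∉ Subgroup.center E) : inv2 E ≠ 2 := by
  intro h
  obtain ⟨z, hz1, -⟩ := (Nat.card_eq_two_iff' (1 : Subgroup.center E)).1 hE.card_center
  have hz2 : (z : E) ^ 2 = 1 := by
    have h0 : z ^ Nat.card (Subgroup.center E) = 1 := pow_card_eq_one'
    rw [hE.card_center] at h0
    have := congrArg Subtype.val h0
    simpa using this
  obtain ⟨w, _, hw2⟩ := (Nat.card_eq_two_iff' (⟨1, one_pow 2⟩ : {e : E // e ^ 2 = 1})).1 h
  have h1 : (⟨e, he⟩ : {e : E // e ^ 2 = 1}) = w := hw2 _ (by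
    intro h'
    apply hne
    have : e = 1 := congrArg Subtype.val h'
    rw [this]; exact Subgroup.one_mem _)
  have h2 : (⟨z, hz2⟩ : {e : E // e ^ 2 = 1}) = w := hw2 _ (by
    intro h'
    apply hz1
    apply Subtype.ext
    have h'' : (z : E) = 1 := congrArg (fun t : {e : E // e ^ 2 = 1} => (t : E)) h'
    rw [h'']; rfl)
  have : e = z := congrArg Subtype.val (h1.trans h2.symm)
  apply hne
  rw [this]; exact z.2

theorem InClass.exists_DD (hE : InClass 2 E) (e : E) (he : e ^ 2 = 1)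
    (hne : e ∉ Subgroup.center E) : ∃ x y : E, ⁅y, x⁆ ≠ 1 ∧ x ^ 2 = 1 ∧ y ^ 2 = 1 := by
  rw [Subgroup.mem_center_iff] at hne
  push Not at hne
  obtain ⟨g, hg⟩ := hne
  have hge : ⁅g, e⁆ ≠ 1 := by
    rw [Ne, commutatorElement_eq_one_iff_mul_comm]; exact hg
  rcases hE.sq_eq e g hge g with h | h
  · exact ⟨e, g, hge, he, h⟩
  · refine ⟨e, e * g, ?_, he, ?_⟩
    · rw [Ne, commutatorElement_eq_one_iff_mul_comm]
      intro h'
      apply hg
      have : e * (g * e) = e * (e * g) := by rw [← mul_assoc, h']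
      exact mul_left_cancel this
    · rw [hE.mul_sq e g, he, h, mul_one, ← pow_two, hE.z_sq e g hge]

theorem InClass.QQ_of_forall (hE : InClass 2 E)
    (h : ∀ e : E, e ^ 2 = 1 → e ∈ Subgroup.center E) (x y : E) (hxy : ⁅y, x⁆ ≠ 1) :
    x ^ 2 = ⁅y, x⁆ ∧ y ^ 2 = ⁅y, x⁆ := by
  constructor
  · refine (hE.sq_eq x y hxy x).resolve_left (fun h1 => hxy ?_)
    rw [commutatorElement_eq_one_iff_mul_comm]
    exact (Subgroup.mem_center_iff.mp (h x h1) y)
  · refine (hE.sq_eq x y hxy y).resolve_left (fun h1 => hxy ?_)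
    rw [commutatorElement_eq_one_iff_mul_comm]
    exact (Subgroup.mem_center_iff.mp (h y h1) x).symm

theorem InClass.glue_step {F : Type v} [Group F]
    (hE : InClass 2 E) (hF : InClass 2 F)
    (x y : E) (hxy : ⁅y, x⁆ ≠ 1) (x' y' : F) (hxy' : ⁅y', x'⁆ ≠ 1)
    (hx : x ^ 2 = 1 ↔ x' ^ 2 = 1) (hy : y ^ 2 = 1 ↔ y' ^ 2 = 1)
    (φ : Subgroup.centralizer ({x, y} : Set E) ≃* Subgroup.centralizer ({x', y'} : Set F)) :
    Nonempty (E ≃* F) := by
  have : Fact (Nat.Prime 2) := ⟨Nat.prime_two⟩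
  set S := hE.frame x y hxy with hS
  set T := hF.frame x' y' hxy' with hT
  have hSw1 : S.w ≠ 1 := by
    intro h; apply hxy; exact congrArg Subtype.val h
  have hTw1 : T.w ≠ 1 := by
    intro h; apply hxy'; exact congrArg Subtype.val h
  have hSwc : S.w ∈ Subgroup.center (Subgroup.centralizer ({x, y} : Set E)) :=
    (hE.mem_center_centralizer_iff x y hxy _).2 (hE.comm_mem y x)
  have hTwc : T.w ∈ Subgroup.center (Subgroup.centralizer ({x', y'} : Set F)) :=
    (hF.mem_center_centralizer_iff x' y' hxy' _).2 (hF.comm_mem y' x')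
  have hφw : φ S.w = T.w := by
    apply eq_of_mem_center_of_card_two (hF.card_center_centralizer x' y' hxy')
      (map_mem_center φ hSwc) hTwc _ hTw1
    intro h
    apply hSw1
    exact φ.injective (by rw [h, map_one])
  have hφx : φ S.xp = T.xp := by
    rcases hE.sq_eq x y hxy x with h | h
    · have h1 : S.xp = 1 := Subtype.ext h
      have h2 : T.xp = 1 := Subtype.ext (hx.1 h)
      rw [h1, h2, map_one]
    · have h1 : S.xp = S.w := Subtype.ext h
      have h2 : T.xp = T.w := by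
        apply Subtype.ext
        refine (hF.sq_eq x' y' hxy' x').resolve_left (fun h3 => ?_)
        exact hxy (h.symm.trans (hx.2 h3))
      rw [h1, h2, hφw]
  have hφy : φ S.yp = T.yp := by
    rcases hE.sq_eq x y hxy y with h | h
    · have h1 : S.yp = 1 := Subtype.ext h
      have h2 : T.yp = 1 := Subtype.ext (hy.1 h)
      rw [h1, h2, map_one]
    · have h1 : S.yp = S.w := Subtype.ext h
      have h2 : T.yp = T.w := by
        apply Subtype.ext
        refine (hF.sq_eq x' y' hxy' y').resolve_left (fun h3 => ?_)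
        exact hxy (h.symm.trans (hy.2 h3))
      rw [h1, h2, hφw]
  obtain ⟨e, -⟩ := glue S T φ hφw hφx hφy
  exact ⟨e⟩

theorem unique_of_card_inv2 : ∀ n : ℕ, ∀ (E : Type u) (F : Type v) [Group E] [Group F]
    [Finite E] [Finite F], InClass 2 E → InClass 2 F → Nat.card E = n → Nat.card F = n →
    inv2 E = inv2 F → Nonempty (E ≃* F) := by
  intro n
  induction n using Nat.strong_induction_on with
  | _ n ih =>
  intro E F _ _ _ _ hE hF hnE hnF hinv
  have : Fact (Nat.Prime 2) := ⟨Nat.prime_two⟩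
  rcases (hE.two_le_card).eq_or_lt with h2 | h2
  · exact ⟨mulEquivOfPrimeCardEq (p := 2) h2.symm (by rw [hnF, ← hnE, ← h2])⟩
  · have h2F : 2 < Nat.card F := by rw [hnF, ← hnE]; exact h2
    -- the common step once matched pairs are found
    have step : ∀ (x y : E) (hxy : ⁅y, x⁆ ≠ 1) (x' y' : F) (hxy' : ⁅y', x'⁆ ≠ 1),
        (x ^ 2 = 1 ↔ x' ^ 2 = 1) → (y ^ 2 = 1 ↔ y' ^ 2 = 1) →
        ((x ^ 2 = ⁅y, x⁆ ∧ y ^ 2 = ⁅y, x⁆) ↔ (x' ^ 2 = ⁅y', x'⁆ ∧ y' ^ 2 = ⁅y', x'⁆)) →
        Nonempty (E ≃* F) := by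
      intro x y hxy x' y' hxy' hx hy hQ
      have hC := hE.inClass_centralizer x y hxy
      have hC' := hF.inClass_centralizer x' y' hxy'
      have hcard := hE.card_eq x y hxy
      have hcard' := hF.card_eq x' y' hxy'
      have hform := hE.inv2_formula x y hxy
      have hform' := hF.inv2_formula x' y' hxy'
      have hCpos : 0 < Nat.card (Subgroup.centralizer ({x, y} : Set E)) := Nat.card_pos
      have hlt : Nat.card (Subgroup.centralizer ({x, y} : Set E)) < n := by omega
      have hcc : Nat.card (Subgroup.centralizer ({x', y'} : Set F)) =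
          Nat.card (Subgroup.centralizer ({x, y} : Set E)) := by omega
      have hii : inv2 (Subgroup.centralizer ({x, y} : Set E)) =
          inv2 (Subgroup.centralizer ({x', y'} : Set F)) := by
        by_cases hq : x ^ 2 = ⁅y, x⁆ ∧ y ^ 2 = ⁅y, x⁆
        · have h1 := hform.2 hq
          have h2 := hform'.2 (hQ.1 hq)
          omega
        · have h1 := hform.1 hq
          have h2 := hform'.1 (fun h => hq (hQ.2 h))
          omega
      obtain ⟨φ⟩ := ih _ hlt _ _ hC hC' rfl hcc hii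
      exact hE.glue_step hF x y hxy x' y' hxy' hx hy φ
    by_cases hex : ∃ e : E, e ^ 2 = 1 ∧ e ∉ Subgroup.center E
    · obtain ⟨e, he, hne⟩ := hex
      have h1 := hE.inv2_ne_two e he hne
      have hexF : ∃ f : F, f ^ 2 = 1 ∧ f ∉ Subgroup.center F := by
        by_contra hcon
        push Not at hcon
        exact h1 (hinv.trans (hF.inv2_eq_two_of_forall hcon))
      obtain ⟨f, hf, hnf⟩ := hexF
      obtain ⟨x, y, hxy, hx, hy⟩ := hE.exists_DD e he hne
      obtain ⟨x', y', hxy', hx', hy'⟩ := hF.exists_DD f hf hnf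
      refine step x y hxy x' y' hxy' ⟨fun _ => hx', fun _ => hx⟩ ⟨fun _ => hy', fun _ => hy⟩ ?_
      constructor
      · intro h; exact absurd (hx.symm.trans h.1) (Ne.symm hxy)
      · intro h; exact absurd (hx'.symm.trans h.1) (Ne.symm hxy')
    · push Not at hex
      have h1 := hE.inv2_eq_two_of_forall hex
      have hexF : ∀ f : F, f ^ 2 = 1 → f ∈ Subgroup.center F := by
        intro f hf
        by_contra hnf
        exact hF.inv2_ne_two f hf hnf (hinv.symm.trans h1)
      obtain ⟨x, y, hxy⟩ := hE.exists_pair_of_card_lt h2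
      obtain ⟨x', y', hxy'⟩ := hF.exists_pair_of_card_lt h2F
      have hq := hE.QQ_of_forall hex x y hxy
      have hq' := hF.QQ_of_forall hexF x' y' hxy'
      refine step x y hxy x' y' hxy' ?_ ?_ ⟨fun _ => hq', fun _ => hq⟩
      · constructor
        · intro h; exact absurd (h.symm.trans hq.1) (Ne.symm hxy)
        · intro h; exact absurd (h.symm.trans hq'.1) (Ne.symm hxy')
      · constructor
        · intro h; exact absurd (h.symm.trans hq.2) (Ne.symm hxy)
        · intro h; exact absurd (h.symm.trans hq'.2) (Ne.symm hxy')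

end uniq

end Cfsg.Agent.Helper3.Extra
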