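import Mathlib
import Cfsg.Prelude.Def_Transfer
import Cfsg.Prelude.Def_CaseTheorems
import Cfsg.Agent.Helper3.ExtraTwo
import Cfsg.Agent.Helper5.ExtraCount

/-!
Helper library (helper3): elementary abelian subgroups of the groups in `InClass 2`
(extraspecial 2-groups): their maximal order in the plus and minus cases.
-/

set_option autoImplicit false

namespace Cfsg.Agent.Helper3.Extra

open scoped commutatorElement

universe u v

theorem exists_extend_elemAb {E : Type u} [Group E] [Finite E] (C : Subgroup E) (x : E)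
    (hx2 : x ^ 2 = 1) (hxC : x ∉ C) (hcomm : ∀ c ∈ C, Commute x c) (A' : Subgroup C)
    (hA' : Cfsg.IsElementaryAbelian 2 A') :
    ∃ A : Subgroup E, Cfsg.IsElementaryAbelian 2 A ∧ Nat.card A = 2 * Nat.card A' := by
  have hx1 : x ≠ 1 := fun h => hxC (h ▸ C.one_mem)
  let f : A' →* E := C.subtype.comp A'.subtype
  let g : Subgroup.zpowers x →* E := (Subgroup.zpowers x).subtype
  have hfg : ∀ (a : A') (t : Subgroup.zpowers x), Commute (f a) (g t) := by
    intro a t
    obtain ⟨k, hk⟩ := Subgroup.mem_zpowers_iff.1 t.2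
    show Commute ((a : C) : E) (t : E)
    rw [← hk]
    exact ((hcomm _ (a : C).2).zpow_left k).symm
  let ψ := MonoidHom.noncommCoprod f g hfg
  have hψ : ∀ q : A' × Subgroup.zpowers x, ψ q = ((q.1 : C) : E) * (q.2 : E) := fun q => rfl
  have ht : ∀ t : Subgroup.zpowers x, (t : E) = 1 ∨ (t : E) = x := by
    intro t
    obtain ⟨k, hk⟩ := Subgroup.mem_zpowers_iff.1 t.2
    rw [← hk]
    rcases Int.emod_two_eq_zero_or_one k with h | h
    · left
      rw [← Int.emod_add_mul_ediv k 2, h, zero_add, zpow_mul, zpow_ofNat, hx2, one_zpow]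
    · right
      rw [← Int.emod_add_mul_ediv k 2, h, zpow_add, zpow_one, zpow_mul, zpow_ofNat, hx2, one_zpow,
        mul_one]
  have hinj : Function.Injective ψ := by
    rw [injective_iff_map_eq_one]
    rintro ⟨a, t⟩ h
    rw [hψ] at h
    simp only at h
    rcases ht t with h1 | h1
    · rw [h1, mul_one] at h
      have ha : a = 1 := Subtype.ext (Subtype.ext h)
      have ht1 : t = 1 := Subtype.ext h1
      rw [ha, ht1]; rfl
    · exfalso
      apply hxC
      rw [h1] at h
      have : x = ((a : C) : E)⁻¹ := eq_inv_of_mul_eq_one_right h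
      rw [this]
      exact C.inv_mem (a : C).2
  refine ⟨ψ.range, ⟨⟨⟨?_⟩⟩, ?_⟩, ?_⟩
  · rintro ⟨_, ⟨a, t⟩, rfl⟩ ⟨_, ⟨a', t'⟩, rfl⟩
    apply Subtype.ext
    show ψ (a, t) * ψ (a', t') = ψ (a', t') * ψ (a, t)
    rw [← map_mul, ← map_mul]
    congr 1
    have h1 : a * a' = a' * a := hA'.1.is_comm.comm a a'
    have h2 : t * t' = t' * t :=
      (inferInstance : IsMulCommutative (Subgroup.zpowers x)).is_comm.comm t t'
    rw [Prod.mk_mul_mk, Prod.mk_mul_mk, h1, h2]
  · rintro _ ⟨⟨a, t⟩, rfl⟩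
    rw [← map_pow]
    have h1 : a ^ 2 = 1 := by
      have := hA'.2 (a : C) a.2
      exact Subtype.ext this
    have h2 : t ^ 2 = 1 := by
      apply Subtype.ext
      rw [Subgroup.coe_pow, Subgroup.coe_one]
      rcases ht t with h | h
      · rw [h, one_pow]
      · rw [h, hx2]
    rw [Prod.pow_mk, h1, h2]
    exact map_one ψ
  · rw [Nat.card_congr (MonoidHom.ofInjective hinj).toEquiv.symm, Nat.card_prod, Nat.card_zpowers,
      orderOf_eq_prime hx2 hx1, mul_comm]

theorem type_step_D {E : Type u} {C : Type v} [Group E] [Group C]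
    (hcard : Nat.card E = 4 * Nat.card C) (hf : inv2 E = 2 * inv2 C + Nat.card C) :
    (IsPlus C → IsPlus E) ∧ (IsMinus C → IsMinus E) := by
  constructor
  · rintro ⟨m, hm1, hm2⟩
    refine ⟨m + 1, ?_, ?_⟩
    · rw [hcard, hm1]; ring
    · rw [hm1, hm2] at hf
      rw [hf]; ring
  · rintro ⟨m, hm0, hm1, hm2⟩
    refine ⟨m + 1, by omega, ?_, ?_⟩
    · rw [hcard, hm1]; ring
    · rw [hm1] at hf
      have e1 : 2 ^ (2 * (m + 1)) = 4 * 2 ^ (2 * m) := by ring
      have e2 : 2 ^ (m + 1) = 2 * 2 ^ m := by ring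
      have e3 : 2 ^ (2 * m + 1) = 2 * 2 ^ (2 * m) := by ring
      rw [e1, e2]; rw [e3] at hf
      generalize 2 ^ (2 * m) = A at *
      generalize 2 ^ m = a at *
      omega

theorem type_step_Q {E : Type u} {C : Type v} [Group E] [Group C]
    (hcard : Nat.card E = 4 * Nat.card C) (hf : inv2 E + 2 * inv2 C = 3 * Nat.card C) :
    (IsPlus C → IsMinus E) ∧ (IsMinus C → IsPlus E) := by
  constructor
  · rintro ⟨m, hm1, hm2⟩
    refine ⟨m + 1, by omega, ?_, ?_⟩
    · rw [hcard, hm1]; ring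
    · rw [hm1, hm2] at hf
      have e1 : 2 ^ (2 * (m + 1)) = 4 * 2 ^ (2 * m) := by ring
      have e2 : 2 ^ (m + 1) = 2 * 2 ^ m := by ring
      have e3 : 2 ^ (2 * m + 1) = 2 * 2 ^ (2 * m) := by ring
      rw [e1, e2]; rw [e3] at hf
      generalize 2 ^ (2 * m) = A at *
      generalize 2 ^ m = a at *
      omega
  · rintro ⟨m, hm0, hm1, hm2⟩
    refine ⟨m + 1, ?_, ?_⟩
    · rw [hcard, hm1]; ring
    · rw [hm1] at hf
      have e1 : 2 ^ (2 * (m + 1)) = 4 * 2 ^ (2 * m) := by ring
      have e2 : 2 ^ (m + 1) = 2 * 2 ^ m := by ring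
      have e3 : 2 ^ (2 * m + 1) = 2 * 2 ^ (2 * m) := by ring
      rw [e1, e2]; rw [e3] at hf
      generalize 2 ^ (2 * m) = A at *
      generalize 2 ^ m = a at *
      omega

theorem sq_eq_one_of_mem_center {E : Type u} [Group E] (hE : InClass 2 E) {z : E}
    (hz : z ∈ Subgroup.center E) : z ^ 2 = 1 := by
  have h0 : (⟨z, hz⟩ : Subgroup.center E) ^ Nat.card (Subgroup.center E) = 1 := pow_card_eq_one'
  rw [hE.card_center] at h0
  have := congrArg Subtype.val h0
  simpa using this

/-- existence of large elementary abelian subgroups -/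
theorem exists_elemAb : ∀ n : ℕ, ∀ (E : Type u) [Group E] [Finite E], InClass 2 E →
    Nat.card E = n →
    (IsPlus E → ∃ A : Subgroup E, Cfsg.IsElementaryAbelian 2 A ∧
      Nat.card A ^ 2 = 2 * Nat.card E) ∧
    (IsMinus E → ∃ A : Subgroup E, Cfsg.IsElementaryAbelian 2 A ∧
      2 * Nat.card A ^ 2 = Nat.card E) := by
  intro n
  induction n using Nat.strong_induction_on with
  | _ n ih =>
  intro E _ _ hE hn
  have : Fact (Nat.Prime 2) := ⟨Nat.prime_two⟩
  by_cases hex : ∃ e : E, e ^ 2 = 1 ∧ e ∉ Subgroup.center E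
  · obtain ⟨e, he, hne⟩ := hex
    obtain ⟨x, y, hxy, hx, hy⟩ := hE.exists_DD e he hne
    have hC := hE.inClass_centralizer x y hxy
    have hcard := hE.card_eq x y hxy
    have hform := (hE.inv2_formula x y hxy).1 (fun h => hxy (h.1.symm.trans hx))
    have hCpos : 0 < Nat.card (Subgroup.centralizer ({x, y} : Set E)) := Nat.card_pos
    have hlt : Nat.card (Subgroup.centralizer ({x, y} : Set E)) < n := by omega
    have hcard4 : Nat.card E = 4 * Nat.card (Subgroup.centralizer ({x, y} : Set E)) := by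
      rw [hcard]; norm_num
    have hstep := type_step_D hcard4 hform
    have hIH := ih _ hlt _ hC rfl
    have hxC : x ∉ Subgroup.centralizer ({x, y} : Set E) := by
      intro h
      apply hxy
      rw [commutatorElement_eq_one_iff_mul_comm]
      exact Subgroup.mem_centralizer_iff.mp h y (by simp)
    have hxcomm : ∀ c ∈ Subgroup.centralizer ({x, y} : Set E), Commute x c :=
      fun c hc => Subgroup.mem_centralizer_iff.mp hc x (by simp)
    constructor
    · intro hP
      have hCP : IsPlus (Subgroup.centralizer ({x, y} : Set E)) := by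
        rcases plus_or_minus _ _ hC rfl with h | h
        · exact h
        · exact absurd ⟨hP, hstep.2 h⟩ (not_plus_and_minus E)
      obtain ⟨A', hA', hA'c⟩ := hIH.1 hCP
      obtain ⟨A, hA, hAc⟩ := exists_extend_elemAb _ x hx hxC hxcomm A' hA'
      refine ⟨A, hA, ?_⟩
      rw [hAc, hcard4, mul_pow, hA'c]; ring
    · intro hM
      have hCM : IsMinus (Subgroup.centralizer ({x, y} : Set E)) := by
        rcases plus_or_minus _ _ hC rfl with h | h
        · exact absurd ⟨hstep.1 h, hM⟩ (not_plus_and_minus E)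
        · exact h
      obtain ⟨A', hA', hA'c⟩ := hIH.2 hCM
      obtain ⟨A, hA, hAc⟩ := exists_extend_elemAb _ x hx hxC hxcomm A' hA'
      refine ⟨A, hA, ?_⟩
      rw [hAc, hcard4, mul_pow, ← hA'c]; ring
  · push Not at hex
    have h2 := hE.inv2_eq_two_of_forall hex
    constructor
    · rintro ⟨m, hm1, hm2⟩
      have hm : m = 0 := by
        by_contra h
        have h3 : 2 ^ 1 ≤ 2 ^ m := Nat.pow_le_pow_right (by norm_num) (by omega)
        have h4 : 2 ^ 1 ≤ 2 ^ (2 * m) := Nat.pow_le_pow_right (by norm_num) (by omega)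
        omega
      subst hm
      have hE2 : Nat.card E = 2 := by simpa using hm1
      have htop : Subgroup.center E = ⊤ :=
        Subgroup.eq_top_of_card_eq _ (by rw [hE.card_center, hE2])
      refine ⟨⊤, ⟨⟨⟨?_⟩⟩, ?_⟩, ?_⟩
      · intro a b
        apply Subtype.ext
        have : (a : E) ∈ Subgroup.center E := by rw [htop]; exact Subgroup.mem_top _
        exact (Subgroup.mem_center_iff.mp this b).symm
      · intro a _
        rw [← hE2]; exact pow_card_eq_one'
      · rw [Subgroup.card_top, hE2]; norm_num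
    · rintro ⟨m, hm0, hm1, hm2⟩
      have hm : 2 ^ m = 2 := by
        rw [h2] at hm2
        have e1 : 2 ^ (2 * m) = 2 ^ m * 2 ^ m := by rw [two_mul, pow_add]
        rw [e1] at hm2
        have h3 : 2 ^ 1 ≤ 2 ^ m := Nat.pow_le_pow_right (by norm_num) hm0
        generalize 2 ^ m = a at *
        by_contra h
        have h4 : 3 ≤ a := by omega
        nlinarith
      refine ⟨Subgroup.center E, ⟨inferInstance, ?_⟩, ?_⟩
      · intro a ha
        exact sq_eq_one_of_mem_center hE ha
      · rw [hE.card_center, hm1]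
        have e1 : 2 ^ (2 * m + 1) = 2 * (2 ^ m * 2 ^ m) := by rw [pow_succ, two_mul, pow_add]; ring
        rw [e1, hm]; norm_num

section rank
variable {E : Type u} [Group E] [Finite E] (hE : InClass 2 E)
include hE

theorem InClass.card_le_of_commutative (m : ℕ) (hcard : Nat.card E = 2 ^ (2 * m + 1)) (A : Subgroup E)
    (hA : IsMulCommutative A) : Nat.card A ≤ 2 ^ (m + 1) := by
  have hcen : ∀ x a : E, x⁻¹ * a * x * a⁻¹ ∈ Subgroup.center E := by
    intro x a
    have := hE.comm_mem x⁻¹ a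
    rwa [commutatorElement_def, inv_inv] at this
  have h1 := Cfsg.Agent.Helper5.card_centralizer_mul_card hcen hE.card_center A
  have hn : Nat.card {a : A // (a : E) ∈ Subgroup.center E} ≤ 2 := by
    rw [← hE.card_center]
    apply Nat.card_le_card_of_injective
      (fun a : {a : A // (a : E) ∈ Subgroup.center E} => (⟨(a.1 : E), a.2⟩ : Subgroup.center E))
    intro a b hab
    apply Subtype.ext
    apply Subtype.ext
    simpa using congrArg Subtype.val hab
  have hle : A ≤ Subgroup.centralizer (A : Set E) := by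
    intro a ha
    rw [Subgroup.mem_centralizer_iff]
    intro b hb
    have := hA.is_comm.comm ⟨b, hb⟩ ⟨a, ha⟩
    exact congrArg Subtype.val this
  have h2 : Nat.card A ≤ Nat.card (Subgroup.centralizer (A : Set E)) := Subgroup.card_le_of_le hle
  have h3 : Nat.card A * Nat.card A ≤ 2 * 2 ^ (2 * m + 1) := by
    calc Nat.card A * Nat.card A ≤ Nat.card (Subgroup.centralizer (A : Set E)) * Nat.card A :=
          Nat.mul_le_mul_right _ h2
      _ = Nat.card {a : A // (a : E) ∈ Subgroup.center E} * Nat.card E := h1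
      _ ≤ 2 * 2 ^ (2 * m + 1) := by rw [hcard]; exact Nat.mul_le_mul_right _ hn
  by_contra hlt
  push Not at hlt
  have h4 : 2 ^ (m + 1) * 2 ^ (m + 1) < Nat.card A * Nat.card A := Nat.mul_lt_mul'' hlt hlt
  have e1 : 2 * 2 ^ (2 * m + 1) = 2 ^ (m + 1) * 2 ^ (m + 1) := by ring
  omega

theorem InClass.plus_of_elemAb (m : ℕ) (hcard : Nat.card E = 2 ^ (2 * m + 1)) (A : Subgroup E)
    (hA : Cfsg.IsElementaryAbelian 2 A) (hAc : Nat.card A = 2 ^ (m + 1)) : IsPlus E := by
  have : Fact (Nat.Prime 2) := ⟨Nat.prime_two⟩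
  refine ⟨m, hcard, ?_⟩
  rcases (hE.two_le_card).eq_or_lt with h2 | h2
  · have hm : m = 0 := by
      rw [hcard] at h2
      have : 2 ^ 1 = 2 ^ (2 * m + 1) := by simpa using h2
      have := Nat.pow_right_injective (le_refl 2) this
      omega
    subst hm
    rw [InClass.inv2_of_card_two h2.symm]; norm_num
  · exact Cfsg.Agent.Helper5.card_sq_eq_one m (hE.isExtraspecial h2) hcard A hA hAc

theorem InClass.rank_plus (hP : IsPlus E) : ∃ m : ℕ, Nat.card E = 2 ^ (2 * m + 1) ∧
    Cfsg.PRankLE 2 (m + 1) E ∧ ∃ A : Subgroup E, Cfsg.IsElementaryAbelian 2 A ∧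
      Nat.card A = 2 ^ (m + 1) := by
  obtain ⟨A, hA, hAc⟩ := (exists_elemAb _ E hE rfl).1 hP
  obtain ⟨m, hm1, hm2⟩ := hP
  refine ⟨m, hm1, fun B hB _ => hE.card_le_of_commutative m hm1 B hB, A, hA, ?_⟩
  rw [hm1] at hAc
  have e1 : 2 * 2 ^ (2 * m + 1) = (2 ^ (m + 1)) ^ 2 := by ring
  rw [e1] at hAc
  exact Nat.pow_left_injective (by norm_num : (2:ℕ) ≠ 0) hAc

theorem InClass.rank_minus (hM : IsMinus E) : ∃ m : ℕ, 1 ≤ m ∧ Nat.card E = 2 ^ (2 * m + 1) ∧
    Cfsg.PRankLE 2 m E ∧ ∃ A : Subgroup E, Cfsg.IsElementaryAbelian 2 A ∧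
      Nat.card A = 2 ^ m := by
  obtain ⟨A, hA, hAc⟩ := (exists_elemAb _ E hE rfl).2 hM
  have hM' := hM
  obtain ⟨m, hm0, hm1, hm2⟩ := hM
  refine ⟨m, hm0, hm1, ?_, A, hA, ?_⟩
  · intro B hB hB2
    by_contra hlt
    push Not at hlt
    have hle := hE.card_le_of_commutative m hm1 B hB
    have hdvd : Nat.card B ∣ 2 ^ (2 * m + 1) := by rw [← hm1]; exact Subgroup.card_subgroup_dvd_card B
    obtain ⟨j, _, hj⟩ := (Nat.dvd_prime_pow Nat.prime_two).1 hdvd
    rw [hj] at hlt hle
    have h1 : m < j := (Nat.pow_lt_pow_iff_right (by norm_num)).1 hlt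
    have h2 : j ≤ m + 1 := (Nat.pow_le_pow_iff_right (by norm_num)).1 hle
    have hj' : j = m + 1 := by omega
    rw [hj'] at hj
    exact not_plus_and_minus E ⟨hE.plus_of_elemAb m hm1 B ⟨hB, hB2⟩ hj, hM'⟩
  · rw [hm1] at hAc
    have e1 : 2 ^ (2 * m + 1) = 2 * (2 ^ m) ^ 2 := by ring
    rw [e1] at hAc
    have := Nat.eq_of_mul_eq_mul_left (by norm_num : 0 < 2) hAc
    exact Nat.pow_left_injective (by norm_num : (2:ℕ) ≠ 0) this

end rank

end Cfsg.Agent.Helper3.Extra
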