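import Mathlib
import Cfsg.Prelude.Def_ClassificationK
import Cfsg.Agent.Helper5.PGroupCenter

set_option autoImplicit false

namespace Cfsg.Agent.Helper3.SympT

variable {Q : Type*} [Group Q]

/-- Data: `z` a central involution, `D` an abelian subgroup whose only involution is `z`, in a group
of exponent dividing `4`. -/
structure SD (D : Subgroup Q) (z : Q) : Prop where
  z_ne : z ≠ 1
  z_sq : z * z = 1
  z_mem : z ∈ D
  z_comm : ∀ q : Q, q * z = z * q
  exp4 : ∀ q : Q, (q * q) * (q * q) = 1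
  dcomm : ∀ a ∈ D, ∀ b ∈ D, a * b = b * a
  dinv : ∀ e ∈ D, e * e = 1 → e = 1 ∨ e = z

/-- The subgroup of `C_Q(D)` of elements which are central of order at most two modulo `D`. -/
def MM (D : Subgroup Q) : Subgroup Q where
  carrier := {m | m ∈ Subgroup.centralizer (D : Set Q) ∧ (∀ q : Q, m * q * m⁻¹ * q⁻¹ ∈ D) ∧
    m * m ∈ D}
  mul_mem' := by
    intro a b ha hb
    obtain ⟨ha1, ha2, ha3⟩ := ha
    obtain ⟨hb1, hb2, hb3⟩ := hb
    refine ⟨mul_mem ha1 hb1, ?_, ?_⟩
    · intro q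
      have e : a * b * q * (a * b)⁻¹ * q⁻¹ =
          a * (b * q * b⁻¹ * q⁻¹) * a⁻¹ * (a * q * a⁻¹ * q⁻¹) := by group
      have hw := hb2 q
      have hc : (b * q * b⁻¹ * q⁻¹) * a = a * (b * q * b⁻¹ * q⁻¹) :=
        Subgroup.mem_centralizer_iff.mp ha1 _ hw
      have e2 : a * (b * q * b⁻¹ * q⁻¹) * a⁻¹ = b * q * b⁻¹ * q⁻¹ := by rw [← hc]; group
      rw [e, e2]
      exact D.mul_mem hw (ha2 q)
    · have hw := hb2 a
      have hc : (b * a * b⁻¹ * a⁻¹) * a = a * (b * a * b⁻¹ * a⁻¹) :=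
        Subgroup.mem_centralizer_iff.mp ha1 _ hw
      have e : a * b * (a * b) = a * ((b * a * b⁻¹ * a⁻¹) * a) * b * b := by group
      rw [e, hc]
      have e2 : a * (a * (b * a * b⁻¹ * a⁻¹)) * b * b =
          (a * a) * (b * a * b⁻¹ * a⁻¹) * (b * b) := by group
      rw [e2]
      exact D.mul_mem (D.mul_mem ha3 hw) hb3
  one_mem' := by
    refine ⟨one_mem _, ?_, ?_⟩
    · intro q
      have : (1 : Q) * q * 1⁻¹ * q⁻¹ = 1 := by group
      rw [this]; exact D.one_mem
    · rw [one_mul]; exact D.one_mem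
  inv_mem' := by
    intro a ha
    obtain ⟨ha1, ha2, ha3⟩ := ha
    refine ⟨inv_mem ha1, ?_, ?_⟩
    · intro q
      have hw := D.inv_mem (ha2 q)
      have hc : (a * q * a⁻¹ * q⁻¹)⁻¹ * a = a * (a * q * a⁻¹ * q⁻¹)⁻¹ :=
        Subgroup.mem_centralizer_iff.mp ha1 _ hw
      have e : a⁻¹ * q * a⁻¹⁻¹ * q⁻¹ = a⁻¹ * ((a * q * a⁻¹ * q⁻¹)⁻¹ * a) := by group
      rw [e, hc]
      have e2 : a⁻¹ * (a * (a * q * a⁻¹ * q⁻¹)⁻¹) = (a * q * a⁻¹ * q⁻¹)⁻¹ := by group
      rw [e2]; exact hw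
    · have : a⁻¹ * a⁻¹ = (a * a)⁻¹ := by group
      rw [this]; exact D.inv_mem ha3

theorem mem_MM {D : Subgroup Q} {m : Q} : m ∈ MM D ↔
    m ∈ Subgroup.centralizer (D : Set Q) ∧ (∀ q : Q, m * q * m⁻¹ * q⁻¹ ∈ D) ∧ m * m ∈ D :=
  Iff.rfl

theorem MM_le_centralizer (D : Subgroup Q) : MM D ≤ Subgroup.centralizer (D : Set Q) :=
  fun _ hm => hm.1

theorem le_MM {D : Subgroup Q} (hD : ∀ a ∈ D, ∀ b ∈ D, a * b = b * a)
    (hn : ∀ e ∈ D, ∀ q : Q, q * e * q⁻¹ ∈ D) : D ≤ MM D := by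
  intro e he
  refine ⟨?_, ?_, D.mul_mem he he⟩
  · rw [Subgroup.mem_centralizer_iff]
    intro d hd
    exact hD d hd e he
  · intro q
    have h1 := hn e⁻¹ (D.inv_mem he) q
    have e1 : e * q * e⁻¹ * q⁻¹ = e * (q * e⁻¹ * q⁻¹) := by group
    rw [e1]; exact D.mul_mem he h1

instance MM_char (D : Subgroup Q) [hD : D.Characteristic] : (MM D).Characteristic := by
  rw [Subgroup.characteristic_iff_le_comap]
  intro φ m hm
  obtain ⟨h1, h2, h3⟩ := hm
  have hDφ : ∀ e ∈ D, φ e ∈ D := fun e he => Subgroup.characteristic_iff_le_comap.mp hD φ he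
  rw [Subgroup.mem_comap]
  show φ m ∈ MM D
  refine ⟨?_, ?_, ?_⟩
  · exact Subgroup.characteristic_iff_le_comap.mp
      (inferInstance : (Subgroup.centralizer (D : Set Q)).Characteristic) φ h1
  · intro q
    have := hDφ _ (h2 (φ.symm q))
    simpa using this
  · have := hDφ _ h3
    simpa using this

/-- The commutator. -/
def kap (x a : Q) : Q := x * a * x⁻¹ * a⁻¹

theorem kap_eq_one_iff {x a : Q} : kap x a = 1 ↔ x * a = a * x := by
  unfold kap
  constructor
  · intro h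
    have : x * a = (x * a * x⁻¹ * a⁻¹) * a * x := by group
    rw [this, h]; group
  · intro h
    have : x * a * x⁻¹ * a⁻¹ = (x * a) * x⁻¹ * a⁻¹ := by group
    rw [this, h]; group

theorem kap_self (x : Q) : kap x x = 1 := kap_eq_one_iff.mpr rfl

theorem kap_one_left (a : Q) : kap 1 a = 1 := by unfold kap; group

theorem kap_one_right (x : Q) : kap x 1 = 1 := by unfold kap; group

theorem kap_inv_swap (x a : Q) : kap a x = (kap x a)⁻¹ := by unfold kap; group

namespace SD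

variable {D : Subgroup Q} {z : Q}

theorem z_inv (h : SD D z) : z⁻¹ = z := inv_eq_of_mul_eq_one_left h.z_sq

theorem central_of_sq (h : SD D z) {e : Q} (he : e ∈ D) (h2 : e * e = 1) (q : Q) :
    q * e = e * q := by
  rcases h.dinv e he h2 with h1 | h1
  · rw [h1]; simp
  · rw [h1]; exact h.z_comm q

theorem kap_or (h : SD D z) {a : Q} (ha : a ∈ MM D) (b : Q) : kap b a = 1 ∨ kap b a = z := by
  obtain ⟨ha1, ha2, ha3⟩ := ha
  have hwD : kap b a ∈ D := by
    have := D.inv_mem (ha2 b)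
    have e : (a * b * a⁻¹ * b⁻¹)⁻¹ = kap b a := by unfold kap; group
    rwa [e] at this
  have hwa : kap b a * a = a * kap b a := Subgroup.mem_centralizer_iff.mp ha1 _ hwD
  have haa : b * (a * a) = (a * a) * b := h.central_of_sq ha3 (h.exp4 a) b
  have e1 : b * (a * a) * b⁻¹ = kap b a * a * (kap b a * a) := by unfold kap; group
  have e2 : kap b a * a * (kap b a * a) = (kap b a * kap b a) * (a * a) := by
    calc kap b a * a * (kap b a * a) = kap b a * (a * kap b a) * a := by group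
      _ = kap b a * (kap b a * a) * a := by rw [hwa]
      _ = (kap b a * kap b a) * (a * a) := by group
  have e3 : b * (a * a) * b⁻¹ = a * a := by rw [haa]; group
  have h5 : kap b a * kap b a = 1 := by
    have : (kap b a * kap b a) * (a * a) = 1 * (a * a) := by rw [← e2, ← e1, e3, one_mul]
    exact mul_right_cancel this
  exact h.dinv _ hwD h5

theorem kap_central (h : SD D z) {a : Q} (ha : a ∈ MM D) (b q : Q) :
    q * kap b a = kap b a * q := by
  rcases h.kap_or ha b with h1 | h1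
  · rw [h1]; simp
  · rw [h1]; exact h.z_comm q

theorem kap_inv (h : SD D z) {a : Q} (ha : a ∈ MM D) (b : Q) : (kap b a)⁻¹ = kap b a := by
  rcases h.kap_or ha b with h1 | h1
  · rw [h1]; simp
  · rw [h1]; exact h.z_inv

theorem kap_sq (h : SD D z) {a : Q} (ha : a ∈ MM D) (b : Q) : kap b a * kap b a = 1 := by
  rcases h.kap_or ha b with h1 | h1
  · rw [h1]; simp
  · rw [h1]; exact h.z_sq

theorem kap_symm (h : SD D z) {a : Q} (ha : a ∈ MM D) (x : Q) : kap a x = kap x a := by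
  rw [kap_inv_swap, h.kap_inv ha]

theorem kap_mul_right (h : SD D z) {a a' : Q} (ha : a ∈ MM D) (ha' : a' ∈ MM D) (x : Q) :
    kap x (a * a') = kap x a * kap x a' := by
  have e : kap x (a * a') = (x * a * x⁻¹) * kap x a' * a⁻¹ := by unfold kap; group
  rw [e, h.kap_central ha' x (x * a * x⁻¹)]
  have e2 : kap x a' * (x * a * x⁻¹) * a⁻¹ = kap x a' * kap x a := by unfold kap; group
  rw [e2, h.kap_central ha x (kap x a')]

theorem kap_mul_left (h : SD D z) {a : Q} (ha : a ∈ MM D) (x x' : Q) :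
    kap (x * x') a = kap x a * kap x' a := by
  have e : kap (x * x') a = x * kap x' a * x⁻¹ * kap x a := by unfold kap; group
  rw [e, h.kap_central ha x' x]
  have e2 : kap x' a * x * x⁻¹ * kap x a = kap x' a * kap x a := by group
  rw [e2, h.kap_central ha x (kap x' a)]

end SD

end Cfsg.Agent.Helper3.SympT
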