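import Mathlib
import Cfsg.Agent.Helper3.SympTA

set_option autoImplicit false

namespace Cfsg.Agent.Helper3.SympT

variable {Q : Type*} [Group Q]

namespace SD

variable {D : Subgroup Q} {z : Q}

theorem exists_pair (h : SD D z) {m₁ m₂ : Q} (hm₁ : m₁ ∈ MM D) (hm₂ : m₂ ∈ MM D)
    (hk : kap m₂ m₁ = z) (t₁ t₂ : Q) (ht₁ : t₁ = 1 ∨ t₁ = z) (ht₂ : t₂ = 1 ∨ t₂ = z) :
    ∃ u ∈ Submonoid.closure ({m₁, m₂} : Set Q), kap u m₁ = t₁ ∧ kap u m₂ = t₂ := by
  have hk' : kap m₁ m₂ = z := by rw [h.kap_symm hm₁]; exact hk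
  have h1 : m₁ ∈ Submonoid.closure ({m₁, m₂} : Set Q) := Submonoid.subset_closure (by simp)
  have h2 : m₂ ∈ Submonoid.closure ({m₁, m₂} : Set Q) := Submonoid.subset_closure (by simp)
  rcases ht₁ with ht₁ | ht₁ <;> rcases ht₂ with ht₂ | ht₂
  · refine ⟨1, Submonoid.one_mem _, ?_, ?_⟩
    · rw [kap_one_left, ht₁]
    · rw [kap_one_left, ht₂]
  · refine ⟨m₁, h1, ?_, ?_⟩
    · rw [kap_self, ht₁]
    · rw [hk', ht₂]
  · refine ⟨m₂, h2, ?_, ?_⟩
    · rw [hk, ht₁]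
    · rw [kap_self, ht₂]
  · refine ⟨m₁ * m₂, Submonoid.mul_mem _ h1 h2, ?_, ?_⟩
    · rw [h.kap_mul_left hm₁, kap_self, hk, one_mul, ht₁]
    · rw [h.kap_mul_left hm₂, kap_self, hk', mul_one, ht₂]

theorem repr_aux [Finite Q] (h : SD D z) : ∀ n : ℕ, ∀ N : Subgroup Q, Nat.card N = n → D ≤ N →
    N ≤ MM D → (∀ x ∈ N, (∀ y ∈ N, x * y = y * x) → x ∈ D) →
    ∀ θ : Q → Q, (∀ a ∈ N, θ a = 1 ∨ θ a = z) → (∀ a ∈ N, ∀ b ∈ N, θ (a * b) = θ a * θ b) →
      (∀ e ∈ D, θ e = 1) → ∃ n₀ ∈ N, ∀ a ∈ N, kap n₀ a = θ a := by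
  intro n
  induction n using Nat.strong_induction_on with
  | _ n ih =>
  intro N hcard hDN hNM hcen θ hθ1 hθ2 hθ3
  by_cases hND : N ≤ D
  · refine ⟨1, N.one_mem, ?_⟩
    intro a ha
    rw [hθ3 a (hND ha), kap_one_left]
  obtain ⟨m₁, hm₁N, hm₁D⟩ := SetLike.not_le_iff_exists.mp hND
  have hex : ∃ m₂ ∈ N, m₁ * m₂ ≠ m₂ * m₁ := by
    by_contra hcon
    push Not at hcon
    exact hm₁D (hcen m₁ hm₁N hcon)
  obtain ⟨m₂, hm₂N, hm₁₂⟩ := hex
  have hm₁M := hNM hm₁N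
  have hm₂M := hNM hm₂N
  have hk21 : kap m₂ m₁ = z := by
    rcases h.kap_or hm₁M m₂ with h1 | h1
    · exfalso
      exact hm₁₂ (kap_eq_one_iff.mp h1).symm
    · exact h1
  -- the orthogonal complement
  set N' := N ⊓ Subgroup.centralizer ({m₁} : Set Q) ⊓ Subgroup.centralizer ({m₂} : Set Q) with hN'
  have memN' : ∀ y : Q, y ∈ N' ↔ y ∈ N ∧ y * m₁ = m₁ * y ∧ y * m₂ = m₂ * y := by
    intro y
    rw [hN', Subgroup.mem_inf, Subgroup.mem_inf, Subgroup.mem_centralizer_singleton_iff,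
      Subgroup.mem_centralizer_singleton_iff, and_assoc]
  have hN'N : N' ≤ N := fun y hy => ((memN' y).mp hy).1
  have hclN : ∀ u ∈ Submonoid.closure ({m₁, m₂} : Set Q), u ∈ N := by
    intro u hu
    induction hu using Submonoid.closure_induction with
    | mem x hx =>
      rcases hx with hx | hx
      · rw [hx]; exact hm₁N
      · rw [Set.mem_singleton_iff] at hx; rw [hx]; exact hm₂N
    | one => exact N.one_mem
    | mul x y _ _ hx hy => exact N.mul_mem hx hy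
  have hclcomm : ∀ x : Q, x * m₁ = m₁ * x → x * m₂ = m₂ * x →
      ∀ u ∈ Submonoid.closure ({m₁, m₂} : Set Q), x * u = u * x := by
    intro x hx1 hx2 u hu
    induction hu using Submonoid.closure_induction with
    | mem y hy =>
      rcases hy with hy | hy
      · rw [hy]; exact hx1
      · rw [Set.mem_singleton_iff] at hy; rw [hy]; exact hx2
    | one => simp
    | mul a b _ _ ha hb =>
      calc x * (a * b) = (x * a) * b := by group
        _ = (a * x) * b := by rw [ha]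
        _ = a * (x * b) := by group
        _ = a * (b * x) := by rw [hb]
        _ = a * b * x := by group
  have hdec : ∀ y ∈ N, ∃ u ∈ Submonoid.closure ({m₁, m₂} : Set Q), u * y ∈ N' := by
    intro y hy
    have hyM := hNM hy
    obtain ⟨u, hu, hu1, hu2⟩ := h.exists_pair hm₁M hm₂M hk21 (kap y m₁) (kap y m₂)
      (h.kap_or hm₁M y) (h.kap_or hm₂M y)
    refine ⟨u, hu, ?_⟩
    rw [memN']
    refine ⟨N.mul_mem (hclN u hu) hy, ?_, ?_⟩
    · apply kap_eq_one_iff.mp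
      rw [h.kap_mul_left hm₁M, hu1, h.kap_sq hm₁M]
    · apply kap_eq_one_iff.mp
      rw [h.kap_mul_left hm₂M, hu2, h.kap_sq hm₂M]
  -- the complement has smaller order
  have hlt : Nat.card N' < n := by
    rw [← hcard]
    by_contra hge
    push Not at hge
    have := Subgroup.eq_of_le_of_card_ge hN'N hge
    have hm : m₁ ∈ N' := by rw [this]; exact hm₁N
    exact hm₁₂ ((memN' m₁).mp hm).2.2
  have hDN' : D ≤ N' := by
    intro e he
    rw [memN']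
    refine ⟨hDN he, ?_, ?_⟩
    · exact Subgroup.mem_centralizer_iff.mp hm₁M.1 e he
    · exact Subgroup.mem_centralizer_iff.mp hm₂M.1 e he
  have hcen' : ∀ x ∈ N', (∀ y ∈ N', x * y = y * x) → x ∈ D := by
    intro x hx hxc
    obtain ⟨hxN, hx1, hx2⟩ := (memN' x).mp hx
    apply hcen x hxN
    intro y hy
    obtain ⟨u, hu, huy⟩ := hdec y hy
    have h1 := hxc _ huy
    have h2 := hclcomm x hx1 hx2 u hu
    have h3 : u * (x * y) = u * (y * x) := by
      calc u * (x * y) = (u * x) * y := by group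
        _ = (x * u) * y := by rw [h2]
        _ = x * (u * y) := by group
        _ = (u * y) * x := h1
        _ = u * (y * x) := by group
    exact mul_left_cancel h3
  obtain ⟨n₀', hn₀'N', hn₀'⟩ := ih (Nat.card N') hlt N' rfl hDN' (hN'N.trans hNM) hcen' θ
    (fun a ha => hθ1 a (hN'N ha)) (fun a ha b hb => hθ2 a (hN'N ha) b (hN'N hb)) hθ3
  obtain ⟨hn₀'N, hn₀'1, hn₀'2⟩ := (memN' n₀').mp hn₀'N'
  obtain ⟨u₀, hu₀, hu₀1, hu₀2⟩ := h.exists_pair hm₁M hm₂M hk21 (θ m₁) (θ m₂)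
    (hθ1 m₁ hm₁N) (hθ1 m₂ hm₂N)
  have hn₀N : n₀' * u₀ ∈ N := N.mul_mem hn₀'N (hclN u₀ hu₀)
  have hP1 : kap (n₀' * u₀) m₁ = θ m₁ := by
    rw [h.kap_mul_left hm₁M, hu₀1, kap_eq_one_iff.mpr hn₀'1, one_mul]
  have hP2 : kap (n₀' * u₀) m₂ = θ m₂ := by
    rw [h.kap_mul_left hm₂M, hu₀2, kap_eq_one_iff.mpr hn₀'2, one_mul]
  have hPN' : ∀ a ∈ N', kap (n₀' * u₀) a = θ a := by
    intro a ha
    obtain ⟨haN, ha1, ha2⟩ := (memN' a).mp ha
    have h1 : kap u₀ a = 1 := by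
      apply kap_eq_one_iff.mpr
      exact (hclcomm a ha1 ha2 u₀ hu₀).symm
    rw [h.kap_mul_left (hNM haN), h1, hn₀' a ha, mul_one]
  have hPcl : ∀ u ∈ Submonoid.closure ({m₁, m₂} : Set Q), u ∈ N ∧ kap (n₀' * u₀) u = θ u := by
    intro u hu
    induction hu using Submonoid.closure_induction with
    | mem x hx =>
      rcases hx with hx | hx
      · rw [hx]; exact ⟨hm₁N, hP1⟩
      · rw [Set.mem_singleton_iff] at hx; rw [hx]; exact ⟨hm₂N, hP2⟩
    | one => exact ⟨N.one_mem, by rw [kap_one_right, hθ3 1 D.one_mem]⟩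
    | mul a b _ _ ha hb =>
      refine ⟨N.mul_mem ha.1 hb.1, ?_⟩
      rw [h.kap_mul_right (hNM ha.1) (hNM hb.1), ha.2, hb.2, hθ2 a ha.1 b hb.1]
  refine ⟨n₀' * u₀, hn₀N, ?_⟩
  intro y hy
  obtain ⟨u, hu, huy⟩ := hdec y hy
  have h1 := hPN' _ huy
  obtain ⟨huN, h2⟩ := hPcl u hu
  rw [h.kap_mul_right (hNM huN) (hNM hy), h2, hθ2 u huN y hy] at h1
  exact mul_left_cancel h1

end SD

end Cfsg.Agent.Helper3.SympT
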