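import Mathlib
import Cfsg.Agent.Helper3.SympTB
import Cfsg.Agent.Lead.SymplecticTI

set_option autoImplicit false

namespace Cfsg.Agent.Helper3.SympT

variable {Q : Type*} [Group Q]

theorem exists_central_mod [Finite Q] (hp : IsPGroup 2 Q) (D K : Subgroup Q) [D.Normal] [K.Normal]
    (hK : ¬ K ≤ D) :
    ∃ k ∈ K, k ∉ D ∧ (∀ q : Q, k * q * k⁻¹ * q⁻¹ ∈ D) ∧ k * k ∈ D := by
  have : Fact (Nat.Prime 2) := ⟨Nat.prime_two⟩
  obtain ⟨k₀, hk₀K, hk₀D⟩ := SetLike.not_le_iff_exists.mp hK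
  set π := QuotientGroup.mk' D with hπ
  have hK'n : (K.map π).Normal :=
    Subgroup.Normal.map inferInstance π (QuotientGroup.mk'_surjective D)
  have hK'1 : K.map π ≠ ⊥ := by
    intro hbot
    have h1 : π k₀ ∈ K.map π := Subgroup.mem_map_of_mem π hk₀K
    rw [hbot, Subgroup.mem_bot] at h1
    exact hk₀D ((QuotientGroup.eq_one_iff k₀).mp h1)
  have hpq : IsPGroup 2 (Q ⧸ D) := hp.to_quotient D
  obtain ⟨x, hxK', hx2, hxc⟩ := Cfsg.Agent.Helper5.exists_orderOf_eq_prime_central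
    (⊤ : Subgroup (Q ⧸ D)) (K.map π) (hpq.to_subgroup ⊤) le_top hK'1
    (by rw [Subgroup.normalizer_eq_top])
  obtain ⟨k, hkK, hkx⟩ := hxK'
  refine ⟨k, hkK, ?_, ?_, ?_⟩
  · intro hkD
    have h1 : π k = 1 := (QuotientGroup.eq_one_iff k).mpr hkD
    rw [hkx] at h1
    rw [h1, orderOf_one] at hx2
    omega
  · intro q
    rw [← QuotientGroup.eq_one_iff]
    have h1 := hxc (π q) (Subgroup.mem_top _)
    show π (k * q * k⁻¹ * q⁻¹) = 1
    rw [map_mul, map_mul, map_mul, map_inv, map_inv, hkx, ← h1]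
    group
  · rw [← QuotientGroup.eq_one_iff]
    show π (k * k) = 1
    rw [map_mul, hkx, ← pow_two, ← hx2]
    exact pow_orderOf_eq_one x

namespace SD

variable {D : Subgroup Q} {z : Q}

theorem kap_inv_left (h : SD D z) {a : Q} (ha : a ∈ MM D) (x : Q) : kap x⁻¹ a = kap x a := by
  have h1 := h.kap_mul_left ha x⁻¹ x
  rw [inv_mul_cancel, kap_one_left] at h1
  have h2 : kap x⁻¹ a = (kap x a)⁻¹ := eq_inv_of_mul_eq_one_left h1.symm
  rw [h2, h.kap_inv ha]

theorem sq_mem (h : SD D z) {e : Q} (he : e ∈ D) : e * e = 1 ∨ e * e = z :=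
  h.dinv (e * e) (D.mul_mem he he) (h.exp4 e)

theorem two_sq (h : SD D z) {e e' : Q} (he : e ∈ D) (he' : e' ∈ D) (h1 : e * e = z)
    (h2 : e' * e' = z) : e' = e ∨ e' = z * e := by
  have hf : e' * e⁻¹ ∈ D := D.mul_mem he' (D.inv_mem he)
  have hc : e⁻¹ * e' = e' * e⁻¹ := h.dcomm _ (D.inv_mem he) _ he'
  have hff : (e' * e⁻¹) * (e' * e⁻¹) = 1 := by
    calc (e' * e⁻¹) * (e' * e⁻¹) = e' * (e⁻¹ * e') * e⁻¹ := by group
      _ = e' * (e' * e⁻¹) * e⁻¹ := by rw [hc]
      _ = (e' * e') * (e * e)⁻¹ := by group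
      _ = 1 := by rw [h1, h2]; group
  rcases h.dinv _ hf hff with h3 | h3
  · left
    have : e' = (e' * e⁻¹) * e := by group
    rw [this, h3, one_mul]
  · right
    have : e' = (e' * e⁻¹) * e := by group
    rw [this, h3]

theorem conj_D (h : SD D z) [hn : D.Normal] {e : Q} (he : e ∈ D) (q : Q) :
    q * e * q⁻¹ = e ∨ q * e * q⁻¹ = z * e := by
  rcases h.sq_mem he with h1 | h1
  · left
    rw [h.central_of_sq he h1 q]; group
  · have h2 : (q * e * q⁻¹) * (q * e * q⁻¹) = z := by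
      calc (q * e * q⁻¹) * (q * e * q⁻¹) = q * (e * e) * q⁻¹ := by group
        _ = z := by rw [h1, h.z_comm q]; group
    exact h.two_sq he (hn.conj_mem e he q) h1 h2

theorem inv_mul_mem_centralizer (h : SD D z) [hn : D.Normal] {a b : Q}
    (ha : a ∉ Subgroup.centralizer (D : Set Q)) (hb : b ∉ Subgroup.centralizer (D : Set Q)) :
    a⁻¹ * b ∈ Subgroup.centralizer (D : Set Q) := by
  rw [Subgroup.mem_centralizer_iff] at ha hb
  push Not at ha hb
  obtain ⟨e₀, he₀, hae₀⟩ := ha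
  obtain ⟨e₁, he₁, hbe₁⟩ := hb
  have hzz : ∀ x : Q, z * (z * x) = x := by
    intro x
    rw [← mul_assoc, h.z_sq, one_mul]
  have ha0 : a * e₀ * a⁻¹ = z * e₀ := by
    rcases h.conj_D he₀ a with h1 | h1
    · exfalso
      apply hae₀
      have : a * e₀ = (a * e₀ * a⁻¹) * a := by group
      rw [this, h1]
    · exact h1
  have hb1 : b * e₁ * b⁻¹ = z * e₁ := by
    rcases h.conj_D he₁ b with h1 | h1
    · exfalso
      apply hbe₁
      have : b * e₁ = (b * e₁ * b⁻¹) * b := by group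
      rw [this, h1]
    · exact h1
  have hsq0 : e₀ * e₀ = z := by
    rcases h.sq_mem he₀ with h1 | h1
    · exfalso
      exact hae₀ (h.central_of_sq he₀ h1 a).symm
    · exact h1
  have hsq1 : e₁ * e₁ = z := by
    rcases h.sq_mem he₁ with h1 | h1
    · exfalso
      exact hbe₁ (h.central_of_sq he₁ h1 b).symm
    · exact h1
  have hb0 : b * e₀ * b⁻¹ = z * e₀ := by
    rcases h.two_sq he₀ he₁ hsq0 hsq1 with h1 | h1
    · rw [← h1]; exact hb1
    · have e0 : e₀ = z * e₁ := by rw [h1, hzz]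
      have : b * (z * e₁) * b⁻¹ = (b * z * b⁻¹) * (b * e₁ * b⁻¹) := by group
      rw [e0, this, hb1, h.z_comm b]
      have : z * b * b⁻¹ = z := by group
      rw [this]
  have ha0' : a⁻¹ * e₀ * a = z * e₀ := by
    have e1 : a⁻¹ * (a * e₀ * a⁻¹) * a = e₀ := by group
    rw [ha0] at e1
    have e2 : a⁻¹ * (z * e₀) * a = (a⁻¹ * z * a) * (a⁻¹ * e₀ * a) := by group
    rw [e2, h.z_comm a⁻¹] at e1
    have e3 : z * a⁻¹ * a = z := by group
    rw [e3] at e1
    calc a⁻¹ * e₀ * a = z * (z * (a⁻¹ * e₀ * a)) := (hzz _).symm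
      _ = z * e₀ := by rw [e1]
  have hm0 : (a⁻¹ * b) * e₀ = e₀ * (a⁻¹ * b) := by
    have e1 : (a⁻¹ * b) * e₀ = a⁻¹ * (b * e₀ * b⁻¹) * b := by group
    rw [e1, hb0]
    have e2 : a⁻¹ * (z * e₀) * b = (a⁻¹ * z * a) * (a⁻¹ * e₀ * a) * (a⁻¹ * b) := by group
    rw [e2, ha0', h.z_comm a⁻¹]
    have e3 : z * a⁻¹ * a = z := by group
    rw [e3, hzz]
  rw [Subgroup.mem_centralizer_iff]
  intro e he
  rcases h.sq_mem he with h1 | h1
  · exact (h.central_of_sq he h1 _).symm
  · rcases h.two_sq he₀ he hsq0 h1 with h2 | h2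
    · rw [h2]; exact hm0.symm
    · rw [h2]
      calc z * e₀ * (a⁻¹ * b) = z * (e₀ * (a⁻¹ * b)) := by group
        _ = z * ((a⁻¹ * b) * e₀) := by rw [hm0]
        _ = (z * (a⁻¹ * b)) * e₀ := by group
        _ = ((a⁻¹ * b) * z) * e₀ := by rw [h.z_comm (a⁻¹ * b)]
        _ = a⁻¹ * b * (z * e₀) := by group

end SD

/-- P. Hall's theorem for exponent `4`: in a `2`-group of symplectic type and exponent dividing
`4`, all commutators lie in `{1, z}` for the central involution `z`. -/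
theorem comm_or_of_symplectic [Finite Q] (hQ : Cfsg.IsOfSymplecticType Q)
    (h4 : ∀ q : Q, q ^ 4 = 1) (z : Q) (hz : orderOf z = 2) (hzc : z ∈ Subgroup.center Q) :
    ∀ a b : Q, a * b * a⁻¹ * b⁻¹ = 1 ∨ a * b * a⁻¹ * b⁻¹ = z := by
  obtain ⟨D, hcD, hmax⟩ := Finite.exists_le_maximal
    (p := fun D : Subgroup Q => D.Characteristic ∧ IsMulCommutative D) (a := Subgroup.center Q)
    ⟨inferInstance, inferInstance⟩
  obtain ⟨hDchar, hDab⟩ := hmax.prop
  have := hDchar
  have hDn : D.Normal := inferInstance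
  have hz1 : z ≠ 1 := by
    intro h1
    rw [h1, orderOf_one] at hz
    omega
  have hzsq : z * z = 1 := by
    have := pow_orderOf_eq_one z
    rw [hz, pow_two] at this
    exact this
  have hzD : z ∈ D := hcD hzc
  have hDne : D ≠ ⊥ := by
    intro hbot
    rw [hbot, Subgroup.mem_bot] at hzD
    exact hz1 hzD
  have hinv := (Cfsg.Agent.Lead.symplectic_char_abelian_involution hQ D hDab z hz hzc hDne).2
  have hSD : SD D z := by
    refine ⟨hz1, hzsq, hzD, fun q => Subgroup.mem_center_iff.mp hzc q, ?_, ?_, ?_⟩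
    · intro q
      have := h4 q
      rw [show (4 : ℕ) = 2 + 2 from rfl, pow_add, pow_two] at this
      exact this
    · intro a ha b hb
      exact congrArg Subtype.val (mul_comm' (⟨a, ha⟩ : D) ⟨b, hb⟩)
    · intro e he h2
      exact hinv e he (by rw [pow_two]; exact h2)
  have hDM : D ≤ MM D := le_MM hSD.dcomm (fun e he q => hDn.conj_mem e he q)
  -- the centre of `M` is `D`
  have hZM : MM D ⊓ Subgroup.centralizer (MM D : Set Q) ≤ D := by
    apply hmax.le_of_ge
    · refine ⟨inferInstance, ?_⟩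
      rw [isMulCommutative_iff]
      intro a b
      apply Subtype.ext
      have h1 := (Subgroup.mem_inf.mp a.2).2
      have h2 := (Subgroup.mem_inf.mp b.2).1
      exact (Subgroup.mem_centralizer_iff.mp h1 _ h2).symm
    · intro e he
      refine Subgroup.mem_inf.mpr ⟨hDM he, ?_⟩
      rw [Subgroup.mem_centralizer_iff]
      intro m hm
      exact (Subgroup.mem_centralizer_iff.mp hm.1 e he).symm
  -- the centralizer of `M` is `D`
  have hCM : Subgroup.centralizer (MM D : Set Q) ≤ D := by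
    by_contra hK
    have hKn : (Subgroup.centralizer (MM D : Set Q)).Normal := inferInstance
    obtain ⟨k, hkK, hkD, hk1, hk2⟩ := exists_central_mod hQ.1 D _ hK
    apply hkD
    apply hZM
    refine Subgroup.mem_inf.mpr ⟨⟨?_, hk1, hk2⟩, hkK⟩
    exact Subgroup.centralizer_le hDM hkK
  -- `C ≤ M`
  have hCle : Subgroup.centralizer (D : Set Q) ≤ MM D := by
    intro c hc
    obtain ⟨n₀, hn₀, hrep⟩ := hSD.repr_aux (Nat.card (MM D)) (MM D) rfl hDM le_rfl
      (fun x hx hxc => hZM (Subgroup.mem_inf.mpr ⟨hx, by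
        rw [Subgroup.mem_centralizer_iff]
        intro y hy
        exact (hxc y hy).symm⟩))
      (fun a => kap c a) (fun a ha => hSD.kap_or ha c)
      (fun a ha b hb => hSD.kap_mul_right ha hb c)
      (fun e he => kap_eq_one_iff.mpr (Subgroup.mem_centralizer_iff.mp hc e he).symm)
    have h1 : n₀⁻¹ * c ∈ Subgroup.centralizer (MM D : Set Q) := by
      rw [Subgroup.mem_centralizer_iff]
      intro a ha
      apply Eq.symm
      apply kap_eq_one_iff.mp
      rw [hSD.kap_mul_left ha, hSD.kap_inv_left ha, hrep a ha]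
      exact hSD.kap_sq ha c
    have h2 : n₀⁻¹ * c ∈ MM D := hDM (hCM h1)
    have : c = n₀ * (n₀⁻¹ * c) := by group
    rw [this]
    exact (MM D).mul_mem hn₀ h2
  intro a b
  show kap a b = 1 ∨ kap a b = z
  by_cases ha : a ∈ Subgroup.centralizer (D : Set Q)
  · rw [hSD.kap_symm (hCle ha)]
    exact hSD.kap_or (hCle ha) b
  by_cases hb : b ∈ Subgroup.centralizer (D : Set Q)
  · exact hSD.kap_or (hCle hb) a
  have hm := hCle (hSD.inv_mul_mem_centralizer ha hb)
  have h1 := hSD.kap_or hm a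
  have e : kap a b = a * kap a (a⁻¹ * b) * a⁻¹ := by unfold kap; group
  rw [e, hSD.kap_central hm a a]
  have e2 : kap a (a⁻¹ * b) * a * a⁻¹ = kap a (a⁻¹ * b) := by group
  rw [e2]
  exact h1

end Cfsg.Agent.Helper3.SympT
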