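import Mathlib
import Cfsg.Agent.Helper3.SympTC
import Cfsg.Agent.Helper3.ExtraRank

set_option autoImplicit false

namespace Cfsg.Agent.Helper3.AutEx

open Cfsg.Agent.Helper3.SympT
open scoped commutatorElement

variable {P : Type*} [Group P]

/-- Element-level data of an extraspecial `2`-group with central involution `z`. -/
structure E2 (P : Type*) [Group P] (z : P) : Prop where
  z_ne : z ≠ 1
  z_sq : z * z = 1
  cen : ∀ x : P, x ∈ Subgroup.center P ↔ x = 1 ∨ x = z
  comm : ∀ a b : P, kap a b = 1 ∨ kap a b = z
  sq : ∀ a : P, a * a = 1 ∨ a * a = z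

theorem exists_e2 [Finite P] (h : Cfsg.Agent.Helper3.Extra.InClass 2 P) : ∃ z : P, E2 P z := by
  obtain ⟨y, hy1, hy2⟩ := (Nat.card_eq_two_iff' (1 : Subgroup.center P)).mp h.card_center
  have hz1 : (y : P) ≠ 1 := by
    intro h1
    apply hy1
    exact Subtype.ext h1
  have hcen : ∀ x : P, x ∈ Subgroup.center P ↔ x = 1 ∨ x = (y : P) := by
    intro x
    constructor
    · intro hx
      by_cases hx1 : x = 1
      · left; exact hx1
      · right
        have : (⟨x, hx⟩ : Subgroup.center P) = y := by
          apply hy2
          intro h1
          apply hx1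
          exact congrArg Subtype.val h1
        exact congrArg Subtype.val this
    · rintro (rfl | rfl)
      · exact Subgroup.one_mem _
      · exact y.2
  have hzsq : (y : P) * (y : P) = 1 := by
    have h1 : (y : P) * (y : P) ∈ Subgroup.center P := Subgroup.mul_mem _ y.2 y.2
    rcases (hcen _).mp h1 with h2 | h2
    · exact h2
    · exfalso
      apply hz1
      have : (y : P) * (y : P) = (y : P) * 1 := by rw [h2, mul_one]
      exact mul_left_cancel this
  refine ⟨(y : P), hz1, hzsq, hcen, ?_, ?_⟩
  · intro a b
    have h1 := h.comm_mem a b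
    rw [commutatorElement_def] at h1
    exact (hcen _).mp h1
  · intro a
    have h1 := h.pow_mem a
    rw [pow_two] at h1
    exact (hcen _).mp h1

namespace E2

variable {z : P}

theorem z_comm (h : E2 P z) (q : P) : q * z = z * q := by
  have : z ∈ Subgroup.center P := (h.cen z).mpr (Or.inr rfl)
  exact Subgroup.mem_center_iff.mp this q

theorem sd (h : E2 P z) : SD (Subgroup.center P) z := by
  refine ⟨h.z_ne, h.z_sq, (h.cen z).mpr (Or.inr rfl), h.z_comm, ?_, ?_, ?_⟩
  · intro q
    rcases h.sq q with h1 | h1
    · rw [h1, one_mul]
    · rw [h1, h.z_sq]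
  · intro a ha b _
    exact (Subgroup.mem_center_iff.mp ha b).symm
  · intro e he _
    exact (h.cen e).mp he

theorem mem_MM (h : E2 P z) (m : P) : m ∈ MM (Subgroup.center P) := by
  refine ⟨?_, ?_, ?_⟩
  · rw [Subgroup.mem_centralizer_iff]
    intro c hc
    exact (Subgroup.mem_center_iff.mp hc m).symm
  · intro q
    exact (h.cen _).mpr (h.comm m q)
  · exact (h.cen _).mpr (h.sq m)

theorem kap_or (h : E2 P z) (a b : P) : kap a b = 1 ∨ kap a b = z := h.comm a b

theorem kap_mul_right (h : E2 P z) (x a a' : P) : kap x (a * a') = kap x a * kap x a' :=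
  h.sd.kap_mul_right (h.mem_MM a) (h.mem_MM a') x

theorem kap_mul_left (h : E2 P z) (x x' a : P) : kap (x * x') a = kap x a * kap x' a :=
  h.sd.kap_mul_left (h.mem_MM a) x x'

theorem kap_symm (h : E2 P z) (a x : P) : kap a x = kap x a := h.sd.kap_symm (h.mem_MM a) x

theorem kap_central (h : E2 P z) (a b q : P) : q * kap b a = kap b a * q :=
  h.sd.kap_central (h.mem_MM a) b q

/-- Non-commuting elements: `a x a⁻¹ = z x`. -/
theorem conj_of_not_comm (h : E2 P z) {a x : P} (hax : a * x ≠ x * a) : a * x * a⁻¹ = z * x := by
  rcases h.comm a x with h1 | h1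
  · exact absurd (kap_eq_one_iff.mp h1) hax
  · have : a * x * a⁻¹ = kap a x * x := by unfold kap; group
    rw [this, h1]

theorem mul_of_not_comm (h : E2 P z) {a x : P} (hax : a * x ≠ x * a) : a * x = z * x * a := by
  have := h.conj_of_not_comm hax
  have e : a * x = (a * x * a⁻¹) * a := by group
  rw [e, this]

/-- An automorphism inducing the identity modulo the centre is inner. -/
theorem inner_of_central [Finite P] (h : E2 P z) (φ : MulAut P)
    (hφ : ∀ x : P, φ x * x⁻¹ = 1 ∨ φ x * x⁻¹ = z) : ∃ n : P, φ = MulAut.conj n := by
  have hSD := h.sd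
  have hθc : ∀ x q : P, q * (φ x * x⁻¹) = (φ x * x⁻¹) * q := by
    intro x q
    rcases hφ x with h1 | h1
    · rw [h1]; simp
    · rw [h1]; exact h.z_comm q
  have hφz : φ z = z := by
    have h1 : φ z ∈ Subgroup.center P := by
      rw [Subgroup.mem_center_iff]
      intro g
      have h2 := h.z_comm (φ.symm g)
      have h3 := congrArg φ h2
      simpa using h3
    rcases (h.cen _).mp h1 with h2 | h2
    · exfalso
      apply h.z_ne
      have : φ z = φ 1 := by rw [h2, map_one]
      exact φ.injective this
    · exact h2
  obtain ⟨n₀, _, hrep⟩ := hSD.repr_aux (Nat.card (MM (Subgroup.center P)))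
    (MM (Subgroup.center P)) rfl (fun e _ => h.mem_MM e) le_rfl
    (fun x _ hxc => by
      rw [Subgroup.mem_center_iff]
      intro g
      exact (hxc g (h.mem_MM g)).symm)
    (fun x => φ x * x⁻¹) (fun a _ => hφ a)
    (fun a _ b _ => by
      show φ (a * b) * (a * b)⁻¹ = (φ a * a⁻¹) * (φ b * b⁻¹)
      have e : φ (a * b) * (a * b)⁻¹ = φ a * (φ b * b⁻¹) * a⁻¹ := by rw [map_mul]; group
      rw [e, hθc b (φ a)]
      have e2 : φ b * b⁻¹ * φ a * a⁻¹ = (φ b * b⁻¹) * (φ a * a⁻¹) := by group
      rw [e2, hθc b (φ a * a⁻¹)])
    (fun e he => by
      show φ e * e⁻¹ = 1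
      rcases (h.cen e).mp he with h1 | h1
      · rw [h1]; simp
      · rw [h1, hφz]; group)
  refine ⟨n₀, ?_⟩
  ext a
  have h1 := hrep a (h.mem_MM a)
  rw [MulAut.conj_apply]
  have h2 : φ a = (φ a * a⁻¹) * a := by group
  rw [h2, ← h1]
  unfold kap; group

end E2


section transv

variable {z : P}

open Classical in
/-- The lift to `P` of the orthogonal transvection at `a`, where `a * a = z`. -/
noncomputable def transvHom (h : E2 P z) (a : P) (ha : a * a = z) : P →* P where
  toFun x := if x * a = a * x then x else x * a
  map_one' := by simp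
  map_mul' x y := by
    have hzc := h.z_comm
    by_cases cx : x * a = a * x <;> by_cases cy : y * a = a * y
    · have hxy : x * y * a = a * (x * y) := by
        calc x * y * a = x * (y * a) := by group
          _ = x * (a * y) := by rw [cy]
          _ = (x * a) * y := by group
          _ = (a * x) * y := by rw [cx]
          _ = a * (x * y) := by group
      simp only [cx, cy, hxy, if_true]
    · have hxy : ¬ x * y * a = a * (x * y) := by
        intro h1
        apply cy
        have : x * (y * a) = x * (a * y) := by
          calc x * (y * a) = x * y * a := by group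
            _ = a * (x * y) := h1
            _ = (a * x) * y := by group
            _ = (x * a) * y := by rw [cx]
            _ = x * (a * y) := by group
        exact mul_left_cancel this
      simp only [cx, cy, hxy, if_true, if_false]
      group
    · have hxy : ¬ x * y * a = a * (x * y) := by
        intro h1
        apply cx
        have : (x * a) * y = (a * x) * y := by
          calc (x * a) * y = x * (a * y) := by group
            _ = x * (y * a) := by rw [cy]
            _ = x * y * a := by group
            _ = a * (x * y) := h1
            _ = (a * x) * y := by group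
        exact mul_right_cancel this
      simp only [cx, cy, hxy, if_true, if_false]
      calc x * y * a = x * (y * a) := by group
        _ = x * (a * y) := by rw [cy]
        _ = x * a * y := by group
    · have hax : a * x = z * x * a := h.mul_of_not_comm (fun e => cx e.symm)
      have hay : a * y = z * y * a := h.mul_of_not_comm (fun e => cy e.symm)
      have hxy : x * y * a = a * (x * y) := by
        calc x * y * a = (z * z) * (x * y * a) := by rw [h.z_sq, one_mul]
          _ = z * (z * x) * y * a := by group
          _ = z * (x * z) * y * a := by rw [hzc x]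
          _ = (z * x) * (z * y * a) := by group
          _ = (z * x) * (a * y) := by rw [hay]
          _ = (z * x * a) * y := by group
          _ = (a * x) * y := by rw [hax]
          _ = a * (x * y) := by group
      simp only [cx, cy, hxy, if_true, if_false]
      calc x * y = x * y * (z * z) := by rw [h.z_sq, mul_one]
        _ = x * (y * z) * z := by group
        _ = x * (z * y) * z := by rw [hzc y]
        _ = x * (z * y * (a * a)) := by rw [ha]; group
        _ = x * ((z * y * a) * a) := by group
        _ = x * ((a * y) * a) := by rw [hay]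
        _ = x * a * (y * a) := by group

theorem transvHom_of_comm (h : E2 P z) (a : P) (ha : a * a = z) {x : P} (hx : x * a = a * x) :
    transvHom h a ha x = x := by
  simp [transvHom, hx]

theorem transvHom_of_not_comm (h : E2 P z) (a : P) (ha : a * a = z) {x : P}
    (hx : x * a ≠ a * x) : transvHom h a ha x = x * a := by
  simp [transvHom, hx]

theorem transvHom_injective (h : E2 P z) (a : P) (ha : a * a = z) :
    Function.Injective (transvHom h a ha) := by
  rw [injective_iff_map_eq_one]
  intro x hx
  by_cases cx : x * a = a * x
  · rwa [transvHom_of_comm h a ha cx] at hx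
  · exfalso
    rw [transvHom_of_not_comm h a ha cx] at hx
    apply cx
    have : x = a⁻¹ := eq_inv_of_mul_eq_one_left hx
    rw [this]; group

/-- The transvection as an automorphism. -/
noncomputable def transv [Finite P] (h : E2 P z) (a : P) (ha : a * a = z) : MulAut P :=
  MulEquiv.ofBijective (transvHom h a ha)
    (Finite.injective_iff_bijective.mp (transvHom_injective h a ha))

theorem transv_of_comm [Finite P] (h : E2 P z) (a : P) (ha : a * a = z) {x : P}
    (hx : x * a = a * x) : transv h a ha x = x :=
  transvHom_of_comm h a ha hx

theorem transv_of_not_comm [Finite P] (h : E2 P z) (a : P) (ha : a * a = z) {x : P}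
    (hx : x * a ≠ a * x) : transv h a ha x = x * a :=
  transvHom_of_not_comm h a ha hx

end transv

theorem conj_ker_eq_center : (MulAut.conj : P →* MulAut P).ker = Subgroup.center P := by
  ext x
  rw [MonoidHom.mem_ker, Subgroup.mem_center_iff]
  constructor
  · intro h g
    have := congrArg (fun f : MulAut P => f g) h
    simp only [MulAut.conj_apply, MulAut.one_apply] at this
    calc g * x = (x * g * x⁻¹) * x := by rw [this]
      _ = x * g := by group
  · intro h
    ext g
    simp only [MulAut.conj_apply, MulAut.one_apply]
    rw [← h g]; group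

theorem card_inn [Finite P] (hc : Nat.card (Subgroup.center P) = 2) :
    Nat.card (MulAut.conj : P →* MulAut P).range * 2 = Nat.card P := by
  have e1 : Nat.card (MulAut.conj : P →* MulAut P).range =
      Nat.card (P ⧸ (MulAut.conj : P →* MulAut P).ker) :=
    (Nat.card_congr (QuotientGroup.quotientKerEquivRange (MulAut.conj : P →* MulAut P)).toEquiv).symm
  rw [e1, Subgroup.card_eq_card_quotient_mul_card_subgroup (MulAut.conj : P →* MulAut P).ker,
    conj_ker_eq_center, hc]

end Cfsg.Agent.Helper3.AutEx
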