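import Mathlib
import Cfsg.Prelude.Def_GeometricClasses
import Cfsg.Agent.Helper7.TnSpB

/-!
# ASCH-OM piece M3b, part A (helper3): Lagrangians of symplectic forms; additive square-semilinear functionals
-/

set_option autoImplicit false
set_option linter.unusedSectionVars false

namespace Cfsg.Agent.Helper3.AschOm

open Matrix Cfsg Cfsg.Geo Cfsg.Agent.Helper7.TnSp

variable {F : Type*} [Field F]

/-- a non-degenerate alternating form on `F^k` has a totally isotropic subspace of dimension `k / 2` -/
theorem exists_lagrangian_symp {k : ℕ} {f : (Fin k → F) → (Fin k → F) → F} (hf : IsSymplecticForm f) :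
    ∃ L : Submodule F (Fin k → F), (∀ u ∈ L, ∀ v ∈ L, f u v = 0) ∧ 2 * Module.finrank F L = k := by
  classical
  obtain ⟨B, hB⟩ : ∃ B : LinearMap.BilinForm F (Fin k → F), ∀ u v, B u v = f u v :=
    ⟨toBF f hf.bilinear, fun u v => rfl⟩
  have hBnd : B.Nondegenerate := by
    constructor
    · intro x hx
      by_contra hne
      obtain ⟨y, hy⟩ := (hf.nondegenerate x hne).2
      exact hy (by rw [← hB]; exact hx y)
    · intro y hy
      by_contra hne
      obtain ⟨x, hx⟩ := (hf.nondegenerate y hne).1
      exact hx (by rw [← hB]; exact hy x)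
  obtain ⟨Pr, hPr⟩ : ∃ Pr : ℕ → Prop, ∀ m, Pr m ↔ ∃ L : Submodule F (Fin k → F),
      (∀ u ∈ L, ∀ v ∈ L, f u v = 0) ∧ Module.finrank F L = m := ⟨_, fun m => Iff.rfl⟩
  have hP0 : Pr 0 := by
    rw [hPr]
    refine ⟨⊥, ?_, finrank_bot F _⟩
    intro u hu v _
    rw [(Submodule.mem_bot F).mp hu]
    have := hf.bilinear.smul_left 0 0 v
    rw [zero_smul, zero_mul] at this
    exact this
  have hm : Pr (Nat.findGreatest Pr k) := Nat.findGreatest_spec (Nat.zero_le k) hP0
  rw [hPr] at hm
  obtain ⟨L, hL, hLm⟩ := hm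
  have hmax : ∀ L' : Submodule F (Fin k → F), (∀ u ∈ L', ∀ v ∈ L', f u v = 0) →
      Module.finrank F L' ≤ Module.finrank F L := by
    intro L' hL'
    rw [hLm]
    apply Nat.le_findGreatest
    · have := Submodule.finrank_le L'
      rwa [Module.finrank_fin_fun] at this
    · rw [hPr]
      exact ⟨L', hL', rfl⟩
  have horth : B.orthogonal L = L := by
    apply le_antisymm
    · intro v hv
      have hv' : ∀ u ∈ L, f u v = 0 := fun u hu => by
        rw [← hB]
        exact LinearMap.BilinForm.mem_orthogonal_iff.mp hv u hu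
      have hti : ∀ u ∈ L ⊔ Submodule.span F {v}, ∀ w ∈ L ⊔ Submodule.span F {v}, f u w = 0 := by
        intro u hu w hw
        obtain ⟨l, hl, s, hs, rfl⟩ := Submodule.mem_sup.mp hu
        obtain ⟨l', hl', s', hs', rfl⟩ := Submodule.mem_sup.mp hw
        obtain ⟨a, rfl⟩ := Submodule.mem_span_singleton.mp hs
        obtain ⟨a', rfl⟩ := Submodule.mem_span_singleton.mp hs'
        rw [hf.bilinear.add_left, hf.bilinear.add_right, hf.bilinear.add_right, hf.bilinear.smul_left,
          hf.bilinear.smul_left, hf.bilinear.smul_right, hf.bilinear.smul_right, hL l hl l' hl', hv' l hl,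
          hf.alternating v, hf.skew v l', hv' l' hl']
        ring
      have hle : L ≤ L ⊔ Submodule.span F {v} := le_sup_left
      have heq := Submodule.eq_of_le_of_finrank_le hle (hmax _ hti)
      rw [heq]
      exact Submodule.mem_sup_right (Submodule.mem_span_singleton_self v)
    · intro v hv
      rw [LinearMap.BilinForm.mem_orthogonal_iff]
      intro u hu
      show B u v = 0
      rw [hB]
      exact hL u hu v hv
  refine ⟨L, hL, ?_⟩
  have h1 := LinearMap.BilinForm.finrank_orthogonal hBnd L
  rw [horth, Module.finrank_fin_fun] at h1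
  have h2 := Submodule.finrank_le L
  rw [Module.finrank_fin_fun] at h2
  omega

/-- additive and square-semilinear functionals -/
structure SemiAdd {κ : Type} (φ : (κ → F) → F) : Prop where
  add : ∀ u v, φ (u + v) = φ u + φ v
  smul : ∀ (c : F) (u : κ → F), φ (c • u) = c ^ 2 * φ u

namespace SemiAdd

variable {κ : Type} {φ : (κ → F) → F}

theorem zero (h : SemiAdd φ) : φ 0 = 0 := by
  have := h.smul 0 0
  rw [zero_smul] at this
  rw [this]
  ring

theorem sum (h : SemiAdd φ) {ι : Type*} (s : Finset ι) (g : ι → κ → F) :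
    φ (∑ i ∈ s, g i) = ∑ i ∈ s, φ (g i) := by
  classical
  induction s using Finset.induction_on with
  | empty => rw [Finset.sum_empty, Finset.sum_empty, h.zero]
  | insert a s ha ih => rw [Finset.sum_insert ha, Finset.sum_insert ha, h.add, ih]

/-- expansion in the basis given by the columns of an invertible matrix -/
theorem expand [Fintype κ] [DecidableEq κ] (h : SemiAdd φ) {κ' : Type} [Fintype κ'] [DecidableEq κ']
    (R : Matrix κ κ' F) (R' : Matrix κ' κ F) (hRR' : R * R' = 1) (v : κ → F) :
    φ v = ∑ α, (R' *ᵥ v) α ^ 2 * φ (R *ᵥ Pi.single α 1) := by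
  have hv : v = ∑ α, (R' *ᵥ v) α • (R *ᵥ Pi.single α 1) := by
    have h1 : v = R *ᵥ (R' *ᵥ v) := by rw [Matrix.mulVec_mulVec, hRR', Matrix.one_mulVec]
    conv_lhs => rw [h1]
    ext i
    rw [Finset.sum_apply]
    simp only [Matrix.mulVec_single_one, Pi.smul_apply, Matrix.col_apply, smul_eq_mul]
    rw [Matrix.mulVec, dotProduct]
    exact Finset.sum_congr rfl fun α _ => mul_comm _ _
  conv_lhs => rw [hv]
  rw [h.sum]
  exact Finset.sum_congr rfl fun α _ => h.smul _ _

end SemiAdd

end Cfsg.Agent.Helper3.AschOm
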