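import Mathlib
import Cfsg.Prelude.Def_GeometricClasses
import Cfsg.Agent.Helper7.AschPPT5
import Cfsg.Agent.Helper3.AschOmM3bA

/-!
# ASCH-OM round 2, piece E1, part A (helper3): tools

* `SemiAdd.eq_zero_of_invariant`: characteristic two, an additive square-semilinear functional invariant under an
  irreducible set of matrices in dimension at least two vanishes;
* coordinates `Rg e P` for a general index bijection, members of the tensor-wreath subgroup in coordinates;
* the tensor power Gram form on decomposable tensors;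
* `MultiSemiAdd.ext`: functionals on tuples that are additive and square-homogeneous in each variable are determined
  by their values on tuples of basis vectors.
-/

set_option autoImplicit false
set_option linter.unusedSectionVars false

namespace Cfsg.Agent.Helper3.AschOm

open Matrix Cfsg Cfsg.Geo Cfsg.Agent.Helper7.AschPP

variable {F : Type*} [Field F]

/-- characteristic two: an invariant additive square-semilinear functional of an irreducible set of matrices in
dimension at least two vanishes -/
theorem SemiAdd.eq_zero_of_invariant [Fintype F] {κ : Type} [Fintype κ] [DecidableEq κ] {φ : (κ → F) → F}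
    (hφ : SemiAdd φ) (h2 : (2 : F) = 0) {S : Set (Matrix κ κ F)} (hirr : ActsIrreducibly S)
    (hinv : ∀ s ∈ S, ∀ v, φ (s *ᵥ v) = φ v) (hcard : 2 ≤ Fintype.card κ) (v : κ → F) : φ v = 0 := by
  classical
  obtain ⟨W₀, hW₀⟩ : ∃ W₀ : Submodule F (κ → F), ∀ v, v ∈ W₀ ↔ φ v = 0 :=
    ⟨{ carrier := {v | φ v = 0}
       add_mem' := fun {u v} hu hv => by
         show φ (u + v) = 0
         rw [hφ.add, hu, hv, add_zero]
       zero_mem' := hφ.zero
       smul_mem' := fun a {u} hu => by
         show φ (a • u) = 0
         rw [hφ.smul, hu, mul_zero] }, fun v => Iff.rfl⟩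
  have hW₀inv : ∀ s ∈ S, W₀.map (Matrix.toLin' s) ≤ W₀ := by
    rintro s hs _ ⟨v, hv, rfl⟩
    rw [hW₀, Matrix.toLin'_apply, hinv s hs]
    exact (hW₀ v).mp hv
  rcases hirr W₀ hW₀inv with hbot | htop
  · exfalso
    have hinj : Function.Injective φ := by
      intro u v huv
      have h1 : φ (u + v) = 0 := by
        rw [hφ.add, huv]
        linear_combination (φ v) * h2
      have h3 : u + v = 0 := by
        have hmem : u + v ∈ W₀ := (hW₀ _).mpr h1
        rw [hbot] at hmem
        exact (Submodule.mem_bot F).mp hmem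
      have h4 : v + v = 0 := by
        ext i
        simp only [Pi.add_apply, Pi.zero_apply]
        linear_combination (v i) * h2
      calc u = u + (v + v) := by rw [h4, add_zero]
        _ = (u + v) + v := by rw [add_assoc]
        _ = v := by rw [h3, zero_add]
    have hc := Fintype.card_le_of_injective φ hinj
    rw [Fintype.card_fun] at hc
    have hq : 2 ≤ Fintype.card F := Fintype.one_lt_card
    have h5 : Fintype.card F ^ 2 ≤ Fintype.card F ^ Fintype.card κ := Nat.pow_le_pow_right (by omega) hcard
    nlinarith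
  · have hmem : v ∈ W₀ := by
      rw [htop]
      trivial
    exact (hW₀ v).mp hmem

section coords

variable {ι κ : Type} [Fintype ι] [DecidableEq ι] [Fintype κ] [DecidableEq κ]

/-- the coordinate matrix `x ↦ P (x ∘ e)` -/
def Rg (e : ι ≃ κ) (P : GL ι F) : Matrix ι κ F := (P : Matrix ι ι F).submatrix id e.symm

/-- its inverse -/
def Rg' (e : ι ≃ κ) (P : GL ι F) : Matrix κ ι F := ((P⁻¹ : GL ι F) : Matrix ι ι F).submatrix e.symm id

theorem Rg_mul_Rg' (e : ι ≃ κ) (P : GL ι F) : Rg e P * Rg' e P = 1 := by
  unfold Rg Rg'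
  rw [Matrix.submatrix_mul_equiv, ← Units.val_mul, mul_inv_cancel, Units.val_one, Matrix.submatrix_id_id]

theorem Rg'_mul_Rg (e : ι ≃ κ) (P : GL ι F) : Rg' e P * Rg e P = 1 := by
  unfold Rg Rg'
  have h := Matrix.submatrix_mul_equiv ((P⁻¹ : GL ι F) : Matrix ι ι F) (P : Matrix ι ι F) e.symm (Equiv.refl ι)
    e.symm
  rw [Equiv.coe_refl] at h
  rw [h, ← Units.val_mul, inv_mul_cancel, Units.val_one, Matrix.submatrix_one_equiv]

theorem mulVec_comp_g (e : ι ≃ κ) (P : GL ι F) (x : κ → F) :
    (P : Matrix ι ι F) *ᵥ (x ∘ e) = Rg e P *ᵥ x := by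
  unfold Rg
  ext i
  simp only [Matrix.mulVec, dotProduct, Matrix.submatrix_apply, id_eq, Function.comp_apply]
  rw [← Equiv.sum_comp e]
  simp

end coords

section wreath

variable {ι : Type} [Fintype ι] [DecidableEq ι] {m t : ℕ}

/-- members of the tensor-wreath subgroup in coordinates -/
theorem mem_tensorWreath {e : ι ≃ (Fin t → Fin m)} {P : GL ι F} {g : GL ι F}
    (hg : g ∈ tensorWreathSubgroup m t e P) :
    ∃ k ∈ tensorWreathStandard m t F,
      (g : Matrix ι ι F) = Rg e P * (k : Matrix (Fin t → Fin m) (Fin t → Fin m) F) * Rg' e P := by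
  unfold tensorWreathSubgroup at hg
  rw [Subgroup.mem_map] at hg
  obtain ⟨k', hk', rfl⟩ := hg
  rw [Subgroup.mem_map] at hk'
  obtain ⟨k, hk, rfl⟩ := hk'
  refine ⟨k, hk, ?_⟩
  have h1 : ((glReindex (F := F) e.symm k : GL ι F) : Matrix ι ι F) = (k : Matrix _ _ F).submatrix e e := by
    rfl
  have h2 : (k : Matrix (Fin t → Fin m) (Fin t → Fin m) F) =
      ((k : Matrix _ _ F).submatrix e e).submatrix e.symm e.symm := by
    ext a b
    simp
  change ((P * glReindex (F := F) e.symm k * P⁻¹ : GL ι F) : Matrix ι ι F) = _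
  rw [Units.val_mul, Units.val_mul, h1]
  unfold Rg Rg'
  conv_rhs => rw [h2]
  rw [Matrix.submatrix_mul_equiv, Matrix.submatrix_mul_equiv, Matrix.submatrix_id_id]

/-- the tensor power Gram form on decomposable tensors -/
theorem gram_dec (G : Matrix (Fin m) (Fin m) F) (v w : Fin t → Fin m → F) :
    ∑ a, ∑ b, dec v a * (∏ i, G (a i) (b i)) * dec w b = ∏ i, (v i ⬝ᵥ (G *ᵥ w i)) := by
  have h1 : ∀ a : Fin t → Fin m, ∑ b, (∏ i, G (a i) (b i)) * dec w b = ∏ i, (G *ᵥ w i) (a i) := by
    intro a
    simp only [Matrix.mulVec, dotProduct]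
    rw [Finset.prod_univ_sum, Fintype.piFinset_univ]
    refine Finset.sum_congr rfl fun b _ => ?_
    rw [dec_apply, ← Finset.prod_mul_distrib]
  simp only [dotProduct]
  rw [Finset.prod_univ_sum, Fintype.piFinset_univ]
  refine Finset.sum_congr rfl fun a _ => ?_
  rw [Finset.prod_mul_distrib, ← h1 a, ← dec_apply v a, Finset.mul_sum]
  exact Finset.sum_congr rfl fun b _ => by ring

theorem dec_update (v : Fin t → Fin m → F) (i : Fin t) (u : Fin m → F) (x : Fin t → Fin m) :
    dec (Function.update v i u) x = u (x i) * ∏ j ∈ Finset.univ \ {i}, v j (x j) := by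
  rw [dec_apply]
  have h : (fun j => Function.update v i u j (x j)) = Function.update (fun j => v j (x j)) i (u (x i)) := by
    funext j
    by_cases hj : j = i
    · subst hj
      simp
    · simp [Function.update_of_ne hj]
  rw [h, Finset.prod_update_of_mem (Finset.mem_univ i)]

theorem dec_update_add (v : Fin t → Fin m → F) (i : Fin t) (u u' : Fin m → F) :
    dec (Function.update v i (u + u')) = dec (Function.update v i u) + dec (Function.update v i u') := by
  funext x
  rw [Pi.add_apply, dec_update, dec_update, dec_update, Pi.add_apply]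
  ring

theorem dec_update_smul (v : Fin t → Fin m → F) (i : Fin t) (c : F) (u : Fin m → F) :
    dec (Function.update v i (c • u)) = c • dec (Function.update v i u) := by
  funext x
  rw [Pi.smul_apply, dec_update, dec_update, Pi.smul_apply, smul_eq_mul, smul_eq_mul]
  ring

/-- additive and square-homogeneous in each variable -/
def MultiSemiAdd (ψ : (Fin t → Fin m → F) → F) : Prop :=
  ∀ (v : Fin t → Fin m → F) (i : Fin t), SemiAdd (fun u : Fin m → F => ψ (Function.update v i u))

theorem MultiSemiAdd.ext {ψ₁ ψ₂ : (Fin t → Fin m → F) → F} (h₁ : MultiSemiAdd ψ₁) (h₂ : MultiSemiAdd ψ₂)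
    (hb : ∀ α : Fin t → Fin m, ψ₁ (fun i => Pi.single (α i) 1) = ψ₂ (fun i => Pi.single (α i) 1))
    (v : Fin t → Fin m → F) : ψ₁ v = ψ₂ v := by
  classical
  have key : ∀ (S : Finset (Fin t)) (v : Fin t → Fin m → F),
      (∀ i, i ∉ S → ∃ a : Fin m, v i = Pi.single a 1) → ψ₁ v = ψ₂ v := by
    intro S
    induction S using Finset.induction_on with
    | empty =>
      intro v hv
      choose α hα using fun i => hv i (Finset.notMem_empty i)
      have : v = fun i => Pi.single (α i) 1 := funext hα
      rw [this]
      exact hb α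
    | insert i S hi ih =>
      intro v hv
      have e1 := (h₁ v i).expand (1 : Matrix (Fin m) (Fin m) F) 1 (one_mul 1) (v i)
      have e2 := (h₂ v i).expand (1 : Matrix (Fin m) (Fin m) F) 1 (one_mul 1) (v i)
      simp only [Matrix.one_mulVec, Function.update_eq_self] at e1 e2
      rw [e1, e2]
      refine Finset.sum_congr rfl fun a _ => ?_
      congr 1
      apply ih
      intro j hj
      by_cases hji : j = i
      · subst hji
        exact ⟨a, by simp⟩
      · have hj' : j ∉ insert i S := by
          rw [Finset.mem_insert]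
          push Not
          exact ⟨hji, hj⟩
        obtain ⟨b, hb'⟩ := hv j hj'
        exact ⟨b, by rw [Function.update_of_ne hji, hb']⟩
  exact key Finset.univ v (fun i hi => absurd (Finset.mem_univ i) hi)

end wreath

end Cfsg.Agent.Helper3.AschOm
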