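import Mathlib
import Cfsg.Agent.Helper5.StemPI
import Cfsg.Agent.Helper5.LTCF

/-!
# The covering group of a smaller exponent is a quotient

For `e' ∣ e` the covering presentation with exponent `e'` is a quotient of the one with exponent `e`:
the natural surjection, and its compatibility with the covering homomorphisms.
-/

set_option autoImplicit false

namespace Cfsg.Agent.Helper3.CovQ

open Cfsg.Agent.Helper5 Cfsg.Agent.Helper5.StemP Cfsg.Agent.Helper5.LP Cfsg.Agent.Helper5.LTC

section
variable (d : ℕ) (m : ℕ → ℕ) (C T : List (List ℕ)) (e e' : ℕ)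

theorem rels_hold_quot (hlt : ∀ r ∈ C ++ T, ∀ c ∈ r, c < 2 * d) (h : e' ∣ e) :
    ∀ l ∈ coverRels d m C T e, (l.map (lval (cgen d m C T e'))).prod = 1 := by
  apply coverRels_hold
  · intro i hi
    exact cgen_pow d m C T e' hi
  · intro r hr
    have hr' := hlt r (List.mem_append_left _ hr)
    rw [← ev_eq_prod d m C T e' r hr']
    exact cover_center d m C T e' hr hr'
  · intro r hr
    have hr' := hlt r (List.mem_append_right _ hr)
    rw [← ev_eq_prod d m C T e' r hr']
    obtain ⟨k, rfl⟩ := h
    rw [pow_mul, ev_pow, ev_rel (mem_coverRels_T d m C T e' hr), one_pow]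

/-- the natural map onto the covering group of the smaller exponent. -/
noncomputable def quot (hlt : ∀ r ∈ C ++ T, ∀ c ∈ r, c < 2 * d) (h : e' ∣ e) :
    CovG d m C T e →* CovG d m C T e' :=
  lift (lval (cgen d m C T e')) (coverRels_lt d m C T e hlt) (rels_hold_quot d m C T e e' hlt h)

theorem quot_ev (hlt : ∀ r ∈ C ++ T, ∀ c ∈ r, c < 2 * d) (h : e' ∣ e) (l : List ℕ)
    (hl : ∀ c ∈ l, c < 2 * d) :
    quot d m C T e e' hlt h (ev (2 * d) (coverRels d m C T e) l) =
      ev (2 * d) (coverRels d m C T e') l := by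
  unfold quot
  rw [lift_ev _ _ _ l hl, ← ev_eq_prod d m C T e' l hl]

theorem quot_surjective (hlt : ∀ r ∈ C ++ T, ∀ c ∈ r, c < 2 * d) (h : e' ∣ e) :
    Function.Surjective (quot d m C T e e' hlt h) := by
  rw [← MonoidHom.range_eq_top, eq_top_iff, ← closure_cgen d m C T e', Subgroup.closure_le]
  rintro y ⟨i, hi, rfl⟩
  refine ⟨cgen d m C T e i, ?_⟩
  unfold cgen
  exact quot_ev d m C T e e' hlt h [2 * i] (by
    intro c hc
    rw [List.mem_singleton] at hc
    omega)

/-- the covering homomorphisms are compatible with the natural map. -/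
theorem coverHomU_comp_quot {G : Type*} [Group G] (hlt : ∀ r ∈ C ++ T, ∀ c ∈ r, c < 2 * d)
    (h : e' ∣ e) (g : ℕ → G) (hm : ∀ i, i < d → g i ^ m i = 1)
    (hC : ∀ r ∈ C ++ T, (r.map (lval g)).prod = 1) :
    (coverHomU d m C T e' hlt g hm hC).comp (quot d m C T e e' hlt h) =
      coverHomU d m C T e hlt g hm hC := by
  apply covG_hom_ext
  intro c hc
  have hl : ∀ c' ∈ [c], c' < 2 * d := by
    intro c' hc'
    rw [List.mem_singleton] at hc'
    omega
  rw [MonoidHom.comp_apply, quot_ev d m C T e e' hlt h [c] hl,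
    coverHomU_ev d m C T e' hlt g hm hC [c] hl, coverHomU_ev d m C T e hlt g hm hC [c] hl]

/-- **If the kernel of the covering homomorphism of exponent `e` is generated by an element that
dies in the covering group of exponent `e'`, the covering homomorphism of exponent `e'` is
injective.** -/
theorem coverHomU_injective_of_quot {G : Type*} [Group G]
    (hlt : ∀ r ∈ C ++ T, ∀ c ∈ r, c < 2 * d)
    (h : e' ∣ e) (g : ℕ → G) (hm : ∀ i, i < d → g i ^ m i = 1)
    (hC : ∀ r ∈ C ++ T, (r.map (lval g)).prod = 1)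
    (z : CovG d m C T e) (hz : (coverHomU d m C T e hlt g hm hC).ker ≤ Subgroup.zpowers z)
    (hq : quot d m C T e e' hlt h z = 1) :
    Function.Injective (coverHomU d m C T e' hlt g hm hC) := by
  rw [injective_iff_map_eq_one]
  intro x hx
  obtain ⟨y, rfl⟩ := quot_surjective d m C T e e' hlt h x
  have hy : y ∈ (coverHomU d m C T e hlt g hm hC).ker := by
    rw [MonoidHom.mem_ker, ← coverHomU_comp_quot d m C T e e' hlt h g hm hC, MonoidHom.comp_apply]
    exact hx
  obtain ⟨k, rfl⟩ := Subgroup.mem_zpowers_iff.mp (hz hy)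
  rw [map_zpow, hq, one_zpow]

end

end Cfsg.Agent.Helper3.CovQ
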