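import Mathlib
import Cfsg.Agent.Helper1.PGroup

set_option autoImplicit false

/-!
Groups with an abelian subgroup `A` of prime index: `Z(S) ≤ A`, the commutator homomorphism
`a ↦ [a, x]`, and `|S : Z(S)| = p |S'|`.
-/

namespace Cfsg.Agent.Helper3.AbIndexP

universe u

variable {S : Type u} [Group S]

theorem sup_zpowers_eq_top {A : Subgroup S} (hA : A.index.Prime) {x : S} (hx : x ∉ A) :
    A ⊔ Subgroup.zpowers x = ⊤ := by
  have hco := Cfsg.Agent.Helper1.isCoatom_of_index_prime hA
  by_contra h
  have hnlt : ¬ A < A ⊔ Subgroup.zpowers x := fun hlt => h (hco.2 _ hlt)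
  rcases (le_sup_left : A ≤ A ⊔ Subgroup.zpowers x).lt_or_eq with h1 | h1
  · exact hnlt h1
  · apply hx
    have : x ∈ A ⊔ Subgroup.zpowers x :=
      (le_sup_right : Subgroup.zpowers x ≤ _) (Subgroup.mem_zpowers x)
    rw [← h1] at this
    exact this

theorem isMulCommutative_sup_zpowers {A : Subgroup S} (hA : IsMulCommutative A) {z : S}
    (hz : ∀ a ∈ A, a * z = z * a) : IsMulCommutative ↥(A ⊔ Subgroup.zpowers z) := by
  have h1 : A ⊔ Subgroup.zpowers z = Subgroup.closure ((A : Set S) ∪ {z}) := by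
    rw [Subgroup.closure_union, Subgroup.closure_eq, Subgroup.zpowers_eq_closure]
  have h2 : IsMulCommutative (Subgroup.closure ((A : Set S) ∪ {z})) := by
    apply Subgroup.isMulCommutative_closure
    intro a ha b hb
    rcases ha with ha | ha <;> rcases hb with hb | hb
    · exact setLike_mul_comm ha hb
    · rw [Set.mem_singleton_iff.1 hb]; exact hz a ha
    · rw [Set.mem_singleton_iff.1 ha]; exact (hz b hb).symm
    · rw [Set.mem_singleton_iff.1 ha, Set.mem_singleton_iff.1 hb]
  rw [← h1] at h2
  exact h2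

theorem comm_of_sup_zpowers {A : Subgroup S} (hA : IsMulCommutative A) {z : S}
    (hz : ∀ a ∈ A, a * z = z * a) (htop : A ⊔ Subgroup.zpowers z = ⊤) : IsMulCommutative S := by
  have h2 := isMulCommutative_sup_zpowers hA hz
  rw [htop] at h2
  exact ⟨⟨fun a b => setLike_mul_comm (s := (⊤ : Subgroup S)) (Subgroup.mem_top a)
    (Subgroup.mem_top b)⟩⟩

theorem center_le (hna : ¬ IsMulCommutative S) {A : Subgroup S} (hA : IsMulCommutative A)
    (hAi : A.index.Prime) : Subgroup.center S ≤ A := by
  intro z hz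
  by_contra hzA
  apply hna
  apply comm_of_sup_zpowers hA (z := z)
  · intro a _; exact (Subgroup.mem_center_iff.1 hz a)
  · exact sup_zpowers_eq_top hAi hzA

theorem mem_center_of_comm {A : Subgroup S} (hA : IsMulCommutative A) (hAi : A.index.Prime)
    {x : S} (hx : x ∉ A) {a : S} (ha : a ∈ A) (hax : a * x = x * a) :
    a ∈ Subgroup.center S := by
  rw [Subgroup.mem_center_iff]
  intro g
  have hg : g ∈ A ⊔ Subgroup.zpowers x := by
    rw [sup_zpowers_eq_top hAi hx]; exact Subgroup.mem_top g
  have hle : A ⊔ Subgroup.zpowers x ≤ Subgroup.centralizer {a} := by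
    apply sup_le
    · intro b hb
      rw [Subgroup.mem_centralizer_iff]
      intro h hh; rw [Set.mem_singleton_iff.1 hh]; exact setLike_mul_comm ha hb
    · rw [Subgroup.zpowers_le, Subgroup.mem_centralizer_iff]
      intro h hh; rw [Set.mem_singleton_iff.1 hh]; exact hax
  have := hle hg
  rw [Subgroup.mem_centralizer_iff] at this
  exact (this a rfl).symm

/-- The commutator map `a ↦ a x a⁻¹ x⁻¹` on an abelian normal subgroup. -/
noncomputable def commHom (A : Subgroup S) (hA : IsMulCommutative A) (hAn : A.Normal) (x : S) :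
    A →* S :=
  MonoidHom.mk' (fun a => (a : S) * x * (a : S)⁻¹ * x⁻¹) (by
    intro a b
    have h1 : x * (b : S)⁻¹ * x⁻¹ ∈ A := hAn.conj_mem _ (A.inv_mem b.2) x
    have h2 : x * (a : S)⁻¹ * x⁻¹ ∈ A := hAn.conj_mem _ (A.inv_mem a.2) x
    have h3 : ((b : S) * (x * (b : S)⁻¹ * x⁻¹)) * (x * (a : S)⁻¹ * x⁻¹)
        = (x * (a : S)⁻¹ * x⁻¹) * ((b : S) * (x * (b : S)⁻¹ * x⁻¹)) :=
      setLike_mul_comm (A.mul_mem b.2 h1) h2
    simp only [Subgroup.coe_mul]
    calc (a : S) * (b : S) * x * ((a : S) * (b : S))⁻¹ * x⁻¹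
        = (a : S) * (((b : S) * (x * (b : S)⁻¹ * x⁻¹)) * (x * (a : S)⁻¹ * x⁻¹)) := by group
      _ = (a : S) * ((x * (a : S)⁻¹ * x⁻¹) * ((b : S) * (x * (b : S)⁻¹ * x⁻¹))) := by rw [h3]
      _ = _ := by group)

theorem commHom_apply (A : Subgroup S) (hA : IsMulCommutative A) (hAn : A.Normal) (x : S) (a : A) :
    commHom A hA hAn x a = (a : S) * x * (a : S)⁻¹ * x⁻¹ := rfl

theorem commHom_ker (A : Subgroup S) (hA : IsMulCommutative A) (hAn : A.Normal) {x : S}
    (hAi : A.index.Prime) (hx : x ∉ A) :
    (commHom A hA hAn x).ker = (Subgroup.center S).subgroupOf A := by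
  ext a
  rw [MonoidHom.mem_ker, Subgroup.mem_subgroupOf, commHom_apply]
  constructor
  · intro h
    apply mem_center_of_comm hA hAi hx a.2
    have : (a : S) * x = ((a : S) * x * (a : S)⁻¹ * x⁻¹) * (x * a) := by group
    rw [this, h, one_mul]
  · intro h
    have := Subgroup.mem_center_iff.1 h x
    rw [← this]; group

theorem commHom_range_le (A : Subgroup S) (hA : IsMulCommutative A) (hAn : A.Normal) (x : S) :
    (commHom A hA hAn x).range ≤ A := by
  rintro _ ⟨a, rfl⟩
  rw [commHom_apply]
  have : (a : S) * x * (a : S)⁻¹ * x⁻¹ = a * (x * (a : S)⁻¹ * x⁻¹) := by group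
  rw [this]; exact A.mul_mem a.2 (hAn.conj_mem _ (A.inv_mem a.2) x)

theorem commHom_range_normal (A : Subgroup S) (hA : IsMulCommutative A) (hAn : A.Normal) {x : S}
    (hAi : A.index.Prime) (hx : x ∉ A) : (commHom A hA hAn x).range.Normal := by
  have hKA := commHom_range_le A hA hAn x
  rw [← Subgroup.normalizer_eq_top_iff, eq_top_iff, ← sup_zpowers_eq_top hAi hx]
  apply sup_le
  · intro a ha
    rw [Subgroup.mem_normalizer_iff]
    intro h
    constructor
    · intro hh
      have : a * h * a⁻¹ = h := by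
        rw [setLike_mul_comm ha (hKA hh)]; group
      rwa [this]
    · intro hh
      have h1 : a * h * a⁻¹ ∈ A := hKA hh
      have h2 : h ∈ A := by
        have : h = a⁻¹ * (a * h * a⁻¹) * a := by group
        rw [this]; exact A.mul_mem (A.mul_mem (A.inv_mem ha) h1) ha
      have : a * h * a⁻¹ = h := by
        rw [setLike_mul_comm ha h2]; group
      rwa [this] at hh
  · rw [Subgroup.zpowers_le, Subgroup.mem_normalizer_iff]
    intro h
    constructor
    · rintro ⟨a, rfl⟩
      refine ⟨⟨x * a * x⁻¹, hAn.conj_mem a a.2 x⟩, ?_⟩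
      rw [commHom_apply, commHom_apply]
      simp only []
      group
    · rintro ⟨a, ha⟩
      refine ⟨⟨x⁻¹ * a * x, by simpa using hAn.conj_mem a a.2 x⁻¹⟩, ?_⟩
      rw [commHom_apply] at ha ⊢
      simp only []
      have : h = x⁻¹ * (x * h * x⁻¹) * x := by group
      rw [this, ← ha]; group

theorem commHom_range_eq (A : Subgroup S) (hA : IsMulCommutative A) (hAn : A.Normal) {x : S}
    (hAi : A.index.Prime) (hx : x ∉ A) : (commHom A hA hAn x).range = commutator S := by
  apply le_antisymm
  · rintro _ ⟨a, rfl⟩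
    rw [commHom_apply, commutator_def]
    exact Subgroup.commutator_mem_commutator (Subgroup.mem_top (a : S)) (Subgroup.mem_top x)
  · have hKn := commHom_range_normal A hA hAn hAi hx
    rw [← Subgroup.Normal.quotient_commutative_iff_commutator_le]
    set K := (commHom A hA hAn x).range with hK
    have hmap : IsMulCommutative (A.map (QuotientGroup.mk' K)) := inferInstance
    apply comm_of_sup_zpowers hmap (z := QuotientGroup.mk' K x)
    · rintro _ ⟨a, ha, rfl⟩
      rw [← map_mul, ← map_mul, QuotientGroup.mk'_apply, QuotientGroup.mk'_apply,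
        QuotientGroup.eq]
      have h1 : commHom A hA hAn x ⟨a⁻¹, A.inv_mem ha⟩ ∈ K := ⟨_, rfl⟩
      have h2 := hKn.conj_mem _ h1 x⁻¹
      rw [commHom_apply] at h2
      convert h2 using 1
      simp only []
      group
    · rw [← MonoidHom.map_zpowers, ← Subgroup.map_sup, sup_zpowers_eq_top hAi hx,
        Subgroup.map_top_of_surjective _ (QuotientGroup.mk'_surjective K)]

theorem exists_not_mem {A : Subgroup S} (hAi : A.index.Prime) : ∃ x, x ∉ A := by
  by_contra! h
  have : A = ⊤ := eq_top_iff.2 fun x _ => h x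
  rw [this, Subgroup.index_top] at hAi
  exact Nat.not_prime_one hAi

section fin

variable [Finite S] {p : ℕ} [hp : Fact p.Prime]

/-- `|S : Z(S)| = p |S'|` for a non-abelian `p`-group with an abelian subgroup of index `p`. -/
theorem index_center (hS : IsPGroup p S) (hna : ¬ IsMulCommutative S) {A : Subgroup S}
    (hA : IsMulCommutative A) (hAi : A.index = p) :
    (Subgroup.center S).index = p * Nat.card (commutator S) := by
  have hAp : A.index.Prime := hAi ▸ hp.out
  have hAn : A.Normal :=
    Cfsg.Agent.Helper1.IsPGroup.coatom_normal hS (Cfsg.Agent.Helper1.isCoatom_of_index_prime hAp)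
  obtain ⟨x, hx⟩ := exists_not_mem hAp
  have hcen := center_le hna hA hAp
  have h1 := Subgroup.index_ker (commHom A hA hAn x)
  rw [commHom_ker A hA hAn hAp hx, commHom_range_eq A hA hAn hAp hx] at h1
  have h2 : (Subgroup.center S).relIndex A * A.index = (Subgroup.center S).index :=
    Subgroup.relIndex_mul_index hcen
  rw [← h2, hAi, mul_comm]
  congr 1

/-- Two distinct abelian subgroups of index `p` force `|S : Z(S)| ≤ p²`. -/
theorem index_center_le {A B : Subgroup S}
    (hA : IsMulCommutative A) (hAi : A.index = p) (hB : IsMulCommutative B) (hBi : B.index = p)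
    (hne : B ≠ A) : (Subgroup.center S).index ≤ p ^ 2 := by
  have hAp : A.index.Prime := hAi ▸ hp.out
  have hBA : ¬ B ≤ A := by
    intro hle
    apply hne
    have h1 : B.relIndex A * A.index = B.index := Subgroup.relIndex_mul_index hle
    rw [hAi, hBi] at h1
    have h2 : B.relIndex A = 1 := by
      have : B.relIndex A * p = 1 * p := by rw [h1, one_mul]
      exact Nat.eq_of_mul_eq_mul_right hp.out.pos this
    exact le_antisymm hle (Subgroup.relIndex_eq_one.1 h2)
  obtain ⟨x, hxB, hxA⟩ := SetLike.not_le_iff_exists.1 hBA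
  have hle : A ⊓ B ≤ Subgroup.center S := by
    intro g hg
    exact mem_center_of_comm hA hAp hxA hg.1 (setLike_mul_comm hg.2 hxB)
  have h1 : (Subgroup.center S).index ∣ (A ⊓ B).index := Subgroup.index_dvd_of_le hle
  have h2 : (A ⊓ B).index ≤ A.index * B.index := Subgroup.index_inf_le
  have h3 : (A ⊓ B).index ≠ 0 := Subgroup.index_ne_zero_of_finite
  calc (Subgroup.center S).index ≤ (A ⊓ B).index := Nat.le_of_dvd (Nat.pos_of_ne_zero h3) h1
    _ ≤ A.index * B.index := h2
    _ = p ^ 2 := by rw [hAi, hBi, sq]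

end fin

end Cfsg.Agent.Helper3.AbIndexP
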