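import Mathlib

set_option autoImplicit false

/-!
# Coprime decomposition `S = C_S(N(S)) · (S ∩ H')` for an abelian Sylow `2`-subgroup
-/

namespace Cfsg.Agent.Helper3.AbSylAut

open scoped BigOperators commutatorElement

variable {H : Type*} [Group H]

/-- conjugation by an element of the normalizer, as an endomorphism of `↥S`. -/
def cjHom (S : Subgroup H) (t : Subgroup.normalizer (S : Set H)) : ↥S →* ↥S where
  toFun s := ⟨(t : H) * s * (t : H)⁻¹, (Subgroup.mem_normalizer_iff.mp t.2 s).mp s.2⟩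
  map_one' := by ext; simp
  map_mul' x y := by ext; simp

@[simp] theorem cjHom_coe (S : Subgroup H) (t : Subgroup.normalizer (S : Set H)) (s : S) :
    ((cjHom S t s : S) : H) = (t : H) * s * (t : H)⁻¹ := rfl

theorem cjHom_mul (S : Subgroup H) (t u : Subgroup.normalizer (S : Set H)) (s : S) :
    cjHom S (t * u) s = cjHom S t (cjHom S u s) := by
  ext; simp [mul_assoc]

theorem cjHom_of_mem (S : Subgroup H) (hab : ∀ x ∈ S, ∀ y ∈ S, x * y = y * x)
    (t : Subgroup.normalizer (S : Set H)) (ht : (t : H) ∈ S) (s : S) : cjHom S t s = s := by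
  ext
  simp only [cjHom_coe]
  rw [hab _ ht _ s.2, mul_inv_cancel_right]

/-- **Coprime decomposition** for an abelian Sylow `2`-subgroup `S` of `H`: every element of `S`
is the product of an element centralised by `N_H(S)` and an element of `S ∩ H'`. -/
theorem decomp [Finite H] (S : Sylow 2 H)
    (hab : ∀ x ∈ (S : Subgroup H), ∀ y ∈ (S : Subgroup H), x * y = y * x)
    (s : H) (hs : s ∈ (S : Subgroup H)) :
    ∃ b ∈ (S : Subgroup H), ∃ v ∈ (S : Subgroup H), v ∈ commutator H ∧ s = b * v ∧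
      ∀ t ∈ Subgroup.normalizer ((S : Subgroup H) : Set H), t * b * t⁻¹ = b := by
  classical
  set S₀ : Subgroup H := (S : Subgroup H) with hS₀
  set T : Subgroup H := Subgroup.normalizer (S₀ : Set H) with hT
  set K : Subgroup T := S₀.subgroupOf T with hK
  let _ : CommGroup ↥S₀ :=
    { (inferInstance : Group ↥S₀) with
      mul_comm := fun x y => Subtype.ext (hab x x.2 y y.2) }
  have _ : Fintype (↥T ⧸ K) := Fintype.ofFinite _
  let rep : (↥T ⧸ K) → ↥T := fun q => Quotient.out q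
  have hrep : ∀ q : ↥T ⧸ K, (QuotientGroup.mk (rep q) : ↥T ⧸ K) = q := fun q =>
    QuotientGroup.out_eq' q
  let s0 : ↥S₀ := ⟨s, hs⟩
  let w : ↥S₀ := ∏ q : ↥T ⧸ K, cjHom S₀ (rep q) s0
  -- invariance
  have hinv : ∀ m : ↥T, cjHom S₀ m w = w := by
    intro m
    show cjHom S₀ m (∏ q : ↥T ⧸ K, cjHom S₀ (rep q) s0) = ∏ q : ↥T ⧸ K, cjHom S₀ (rep q) s0
    rw [map_prod]
    refine Fintype.prod_equiv (MulAction.toPerm m) _ _ ?_
    intro q
    have h1 : (QuotientGroup.mk (rep (m • q)) : ↥T ⧸ K) = QuotientGroup.mk (m * rep q) := by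
      rw [hrep]
      conv_lhs => rw [← hrep q]
      rfl
    have h2 : (rep (m • q))⁻¹ * (m * rep q) ∈ K := QuotientGroup.eq.mp h1
    have h3 : m * rep q = rep (m • q) * ((rep (m • q))⁻¹ * (m * rep q)) := by group
    show cjHom S₀ m (cjHom S₀ (rep q) s0) = cjHom S₀ (rep (m • q)) s0
    rw [← cjHom_mul, h3, cjHom_mul, cjHom_of_mem S₀ hab _ (Subgroup.mem_subgroupOf.mp h2)]
  -- decomposition of `w`
  let c : ↥S₀ := ∏ q : ↥T ⧸ K, (s0⁻¹ * cjHom S₀ (rep q) s0)
  have hw : w = s0 ^ Fintype.card (↥T ⧸ K) * c := by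
    show (∏ q : ↥T ⧸ K, cjHom S₀ (rep q) s0) = _
    have : ∀ q : ↥T ⧸ K, cjHom S₀ (rep q) s0 = s0 * (s0⁻¹ * cjHom S₀ (rep q) s0) := by
      intro q; rw [mul_inv_cancel_left]
    rw [Finset.prod_congr rfl (fun q _ => this q), Finset.prod_mul_distrib, Finset.prod_const,
      Finset.card_univ]
  have hc : c ∈ (commutator H).subgroupOf S₀ := by
    refine Subgroup.prod_mem _ (fun q _ => ?_)
    rw [Subgroup.mem_subgroupOf]
    have : ((s0⁻¹ * cjHom S₀ (rep q) s0 : ↥S₀) : H) = ⁅s⁻¹, ((rep q : ↥T) : H)⁆ := by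
      rw [commutatorElement_def]
      simp [s0, mul_assoc]
    rw [this, commutator_def]
    exact Subgroup.commutator_mem_commutator (Subgroup.mem_top _) (Subgroup.mem_top _)
  -- oddness of the index
  have hodd : Odd (Fintype.card (↥T ⧸ K)) := by
    have h1 : Fintype.card (↥T ⧸ K) = S₀.relIndex T := by
      rw [← Nat.card_eq_fintype_card]; rfl
    have h2 : S₀.relIndex T ∣ S₀.index := Subgroup.relIndex_dvd_index_of_le Subgroup.le_normalizer
    have h3 : ¬ 2 ∣ S₀.index := S.not_dvd_index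
    rw [h1, ← Nat.not_even_iff_odd, even_iff_two_dvd]
    exact fun h => h3 (h.trans h2)
  -- invert the exponent
  obtain ⟨k, hk⟩ := S.2 s0
  have hord : orderOf s0 ∣ 2 ^ k := orderOf_dvd_of_pow_eq_one hk
  obtain ⟨j, -, hj⟩ := (Nat.dvd_prime_pow Nat.prime_two).mp hord
  have hcop : (Fintype.card (↥T ⧸ K)).Coprime (orderOf s0) := by
    rw [hj]
    exact (Nat.coprime_two_right.mpr hodd).pow_right j
  obtain ⟨e, he⟩ := exists_pow_eq_self_of_coprime hcop
  have hs0 : s0 = w ^ e * (c⁻¹) ^ e := by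
    rw [← mul_pow, hw, mul_inv_cancel_right, he]
  refine ⟨((w ^ e : ↥S₀) : H), (w ^ e).2, (((c⁻¹) ^ e : ↥S₀) : H), ((c⁻¹) ^ e).2, ?_, ?_, ?_⟩
  · have : (c⁻¹) ^ e ∈ (commutator H).subgroupOf S₀ := Subgroup.pow_mem _ (Subgroup.inv_mem _ hc) e
    exact Subgroup.mem_subgroupOf.mp this
  · have := congrArg (fun x : ↥S₀ => (x : H)) hs0
    simpa [s0] using this
  · intro t ht
    have := hinv ⟨t, ht⟩
    have h2 : cjHom S₀ ⟨t, ht⟩ (w ^ e) = w ^ e := by rw [map_pow, this]
    have := congrArg (fun x : ↥S₀ => (x : H)) h2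
    simpa using this

end Cfsg.Agent.Helper3.AbSylAut
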