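import Mathlib
import Cfsg.Agent.Helper2.ZStarH
import Cfsg.Agent.Helper3.AbSylAutA

set_option autoImplicit false

/-!
# A `2`-element centralising an abelian Sylow `2`-subgroup of a normal subgroup `N` with `O(N)=1`
acts on `N` as an element of that Sylow subgroup (via Glauberman's Z*-theorem).
-/

namespace Cfsg.Agent.Helper3.AbSylAut

open scoped commutatorElement

universe u

variable {H : Type u} [Group H] [Finite H]

theorem lemmaB (N : Subgroup H) [N.Normal] (a : H)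
    (hgen : ∀ h : H, ∃ n ∈ N, ∃ k : ℤ, h = n * a ^ k)
    (ha2 : ∃ j : ℕ, orderOf a = 2 ^ j)
    (P₀ : Subgroup H) (hP₀N : P₀ ≤ N) (hP₀2 : IsPGroup 2 P₀)
    (hP₀max : ∀ Q : Subgroup H, IsPGroup 2 Q → Q ≤ N → P₀ ≤ Q → Q ≤ P₀)
    (hab : ∀ x ∈ P₀, ∀ y ∈ P₀, x * y = y * x)
    (hcent : ∀ x ∈ P₀, a * x = x * a)
    (hodd : ∀ M : Subgroup H, M.Normal → M ≤ N → Odd (Nat.card M) → M = ⊥) :
    ∃ v ∈ P₀, ∀ n ∈ N, (a * v) * n = n * (a * v) := by
  classical
  have : Fact (Nat.Prime 2) := ⟨Nat.prime_two⟩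
  -- the `2`-group `P₀⟨a⟩`
  have hza : IsPGroup 2 (Subgroup.zpowers a) := by
    obtain ⟨j, hj⟩ := ha2
    refine IsPGroup.of_card (n := j) ?_
    rw [Nat.card_zpowers, hj]
  have hnorm : Subgroup.zpowers a ≤ Subgroup.normalizer (P₀ : Set H) := by
    rw [Subgroup.zpowers_le]
    rw [Subgroup.mem_normalizer_iff]
    intro h
    constructor
    · intro hh
      rw [hcent h hh, mul_inv_cancel_right]; exact hh
    · intro hh
      have h1 : a⁻¹ * (a * h * a⁻¹) * a = h := by group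
      have h2 : a * (a * h * a⁻¹) = (a * h * a⁻¹) * a := hcent _ hh
      have h3 : a * h * a⁻¹ = h := by
        have : a * (a * h * a⁻¹) * a⁻¹ = a * h * a⁻¹ := by rw [h2, mul_inv_cancel_right]
        have h4 : a * (a * h * a⁻¹) * a⁻¹ = a * (a * h * a⁻¹ ) * a⁻¹ := rfl
        have h5 : a * h * a⁻¹ = a⁻¹ * (a * (a * h * a⁻¹) * a⁻¹) * a := by group
        rw [this] at h5
        rw [h5]; exact h1
      rw [← h3]; exact hh
  have hS₀2 : IsPGroup 2 (↥(Subgroup.zpowers a ⊔ P₀)) :=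
    IsPGroup.to_sup_of_normal_right' hza hP₀2 hnorm
  obtain ⟨S, hS⟩ := hS₀2.exists_le_sylow
  have haS : a ∈ (S : Subgroup H) := hS (Subgroup.mem_sup_left (Subgroup.mem_zpowers a))
  have hP₀S : P₀ ≤ (S : Subgroup H) := le_sup_right.trans hS
  -- `S ⊓ N = P₀`
  have hSN : (S : Subgroup H) ⊓ N ≤ P₀ :=
    hP₀max _ (S.2.to_le inf_le_left) inf_le_right (le_inf hP₀S hP₀N)
  -- every element of `S` is `x * a ^ k`
  have hSform : ∀ s ∈ (S : Subgroup H), ∃ x ∈ P₀, ∃ k : ℤ, s = x * a ^ k := by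
    intro s hs
    obtain ⟨n, hn, k, hk⟩ := hgen s
    have hn2 : n = s * (a ^ k)⁻¹ := by rw [hk, mul_inv_cancel_right]
    have hnS : n ∈ (S : Subgroup H) := by
      rw [hn2]
      exact Subgroup.mul_mem _ hs (Subgroup.inv_mem _ (Subgroup.zpow_mem _ haS k))
    exact ⟨n, hSN ⟨hnS, hn⟩, k, hk⟩
  have hcomm_a : ∀ x ∈ P₀, ∀ k : ℤ, Commute (a ^ k) x := fun x hx k =>
    (show Commute a x from hcent x hx).zpow_left k
  have habS : ∀ x ∈ (S : Subgroup H), ∀ y ∈ (S : Subgroup H), x * y = y * x := by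
    intro x hx y hy
    obtain ⟨x', hx', k, rfl⟩ := hSform x hx
    obtain ⟨y', hy', l, rfl⟩ := hSform y hy
    have h1 : Commute x' y' := hab x' hx' y' hy'
    have h2 : Commute (a ^ k) y' := hcomm_a y' hy' k
    have h3 : Commute x' (a ^ l) := (hcomm_a x' hx' l).symm
    have h4 : Commute (a ^ k) (a ^ l) := (Commute.refl a).zpow_zpow k l
    exact ((h1.mul_right h3).mul_left (h2.mul_right h4)).eq
  -- `H' ≤ N`
  have hcommN : commutator H ≤ N := by
    rw [commutator_def, Subgroup.commutator_le]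
    intro g _ h _
    rw [← QuotientGroup.eq_one_iff]
    show (QuotientGroup.mk' N) ⁅g, h⁆ = 1
    rw [map_commutatorElement]
    obtain ⟨n, hn, k, rfl⟩ := hgen g
    obtain ⟨m, hm, l, rfl⟩ := hgen h
    show ⁅((n * a ^ k : H) : H ⧸ N), ((m * a ^ l : H) : H ⧸ N)⁆ = 1
    have e1 : ((n * a ^ k : H) : H ⧸ N) = (a : H ⧸ N) ^ k := by
      rw [QuotientGroup.mk_mul, (QuotientGroup.eq_one_iff n).mpr hn, one_mul, QuotientGroup.mk_zpow]
    have e2 : ((m * a ^ l : H) : H ⧸ N) = (a : H ⧸ N) ^ l := by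
      rw [QuotientGroup.mk_mul, (QuotientGroup.eq_one_iff m).mpr hm, one_mul, QuotientGroup.mk_zpow]
    rw [e1, e2, commutatorElement_eq_one_iff_commute]
    exact (Commute.refl _).zpow_zpow k l
  -- decomposition of `a`
  obtain ⟨b, hbS, v, hvS, hvc, hav, hbT⟩ := decomp S habS a haS
  have hvP : v ∈ P₀ := hSN ⟨hvS, hcommN hvc⟩
  have hb : b = a * v⁻¹ := by rw [hav, mul_inv_cancel_right]
  -- `b` is weakly closed in `S`
  have hiso : ∀ g : H, g * b * g⁻¹ ∈ (S : Subgroup H) → g * b * g⁻¹ = b := by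
    intro g hg
    have : IsMulCommutative (S : Subgroup H) :=
      ⟨⟨fun x y => Subtype.ext (habS x x.2 y y.2)⟩⟩
    have hg' : g⁻¹⁻¹ * b * g⁻¹ ∈ S := by
      have : g⁻¹⁻¹ * b * g⁻¹ ∈ (S : Subgroup H) := by simpa using hg
      exact this
    obtain ⟨n, hn, hn2⟩ := S.conj_eq_normalizer_conj_of_mem b g⁻¹ hbS hg'
    have h1 : g * b * g⁻¹ = n⁻¹ * b * n := by simpa using hn2
    have h2 := hbT n⁻¹ (Subgroup.inv_mem _ hn)
    rw [h1]; simpa using h2
  have hZ := fun g => Cfsg.Agent.Helper2.ZStar.glauberman_zstar_two S b hbS hiso g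
  -- the odd core meets `N` trivially
  have hM : Cfsg.oddCore H ⊓ N = ⊥ := by
    have : (Cfsg.oddCore H).Normal := Cfsg.pPrimeCore_normal 2 H
    refine hodd _ inferInstance inf_le_right ?_
    have h1 : Odd (Nat.card (Cfsg.oddCore H)) := Cfsg.Agent.Helper2.ZStar.oddCore_odd_card
    exact Odd.of_dvd_nat h1 (Subgroup.card_dvd_of_le inf_le_left)
  refine ⟨v⁻¹, Subgroup.inv_mem _ hvP, ?_⟩
  intro n hn
  rw [← hb]
  have h1 : b * n * b⁻¹ * n⁻¹ ∈ Cfsg.oddCore H ⊓ N := by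
    refine ⟨hZ n, ?_⟩
    exact Subgroup.mul_mem _ (Subgroup.Normal.conj_mem inferInstance n hn b) (Subgroup.inv_mem _ hn)
  rw [hM, Subgroup.mem_bot] at h1
  have h2 : b * n * b⁻¹ = n := by
    have := congrArg (· * n) h1
    simpa using this
  calc b * n = b * n * b⁻¹ * b := by group
    _ = n * b := by rw [h2]

end Cfsg.Agent.Helper3.AbSylAut
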