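import Mathlib

set_option autoImplicit false

/-!
A module-theoretic lemma: an automorphism `σ` of an abelian group with `σ^p = 1` and
`(σ - 1)^(n(p-1)+1) = 0` fixes all `p^n`-th powers.
-/

namespace Cfsg.Agent.Helper3.AgemoMod

open Polynomial

/-- the polynomial identity `(X+1)^p = X^p + 1 + p X + p X^2 h`. -/
theorem exists_poly (p : ℕ) (hp : p.Prime) :
    ∃ h : ℤ[X], (X + 1 : ℤ[X]) ^ p = X ^ p + 1 + (p : ℤ[X]) * X + (p : ℤ[X]) * X ^ 2 * h := by
  obtain ⟨r, hr⟩ := exists_add_pow_prime_eq hp (X : ℤ[X]) 1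
  have h2 : 2 ≤ p := hp.two_le
  -- coefficient of `X`
  have hc : r.coeff 0 = 1 := by
    have h1 := congrArg (fun q : ℤ[X] => q.coeff 1) hr
    simp only [coeff_add, coeff_X_add_one_pow, one_pow] at h1
    have e1 : ((X : ℤ[X]) ^ p).coeff 1 = 0 := by
      rw [coeff_X_pow]
      have : (1 : ℕ) ≠ p := by omega
      simp [this]
    have e2 : ((p : ℤ[X]) * X * 1 * r).coeff 1 = (p : ℤ) * r.coeff 0 := by
      have : ((p : ℤ[X]) * X * 1 * r) = C (p : ℤ) * (X * r) := by
        rw [mul_one, mul_assoc]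
        simp
      rw [this, coeff_C_mul, coeff_X_mul]
    rw [e1, e2] at h1
    have e3 : ((1 : ℤ[X])).coeff 1 = 0 := by
      rw [coeff_one]; simp
    rw [e3] at h1
    simp only [Nat.choose_one_right, zero_add] at h1
    have hp0 : (p : ℤ) ≠ 0 := by exact_mod_cast hp.ne_zero
    have : (p : ℤ) * 1 = (p : ℤ) * r.coeff 0 := by rw [mul_one]; exact_mod_cast h1
    exact (mul_left_cancel₀ hp0 this).symm
  obtain ⟨d, hd⟩ : ∃ d : ℤ[X], r = d * X + 1 := by
    refine ⟨r.divX, ?_⟩
    have := divX_mul_X_add r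
    rw [hc, map_one] at this
    exact this.symm
  refine ⟨d, ?_⟩
  rw [hr, hd]
  ring

variable {R : Type*} [Ring R]

/-- the relation in an arbitrary ring -/
theorem exists_rel (p : ℕ) (hp : p.Prime) (N : R) (h1 : (N + 1) ^ p = 1) :
    ∃ h : R, Commute h N ∧ (p : R) * N = - N ^ p - (p : R) * N ^ 2 * h := by
  obtain ⟨h, hh⟩ := exists_poly p hp
  refine ⟨aeval N h, ?_, ?_⟩
  · have e1 : aeval N h * N = aeval N (h * X) := by rw [map_mul, aeval_X]
    have e2 : N * aeval N h = aeval N (X * h) := by rw [map_mul, aeval_X]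
    show aeval N h * N = N * aeval N h
    rw [e1, e2, mul_comm]
  · have h2 := congrArg (aeval N) hh
    simp only [map_pow, map_add, aeval_X, map_one, map_mul, map_natCast] at h2
    rw [h1] at h2
    calc (p : R) * N = (N ^ p + 1 + (p : R) * N + (p : R) * N ^ 2 * aeval N h) -
          (N ^ p + 1 + (p : R) * N ^ 2 * aeval N h) := by abel
      _ = 1 - (N ^ p + 1 + (p : R) * N ^ 2 * aeval N h) := by rw [← h2]
      _ = - N ^ p - (p : R) * N ^ 2 * aeval N h := by abel

theorem pow_mul_eq_zero (p : ℕ) (hp : p.Prime) (N : R) (h1 : (N + 1) ^ p = 1) :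
    ∀ (k j : ℕ), 1 ≤ j → N ^ (j + k * (p - 1)) = 0 → (p : R) ^ k * N ^ j = 0 := by
  obtain ⟨h, hcomm, hrel⟩ := exists_rel p hp N h1
  have h2 : 2 ≤ p := hp.two_le
  intro k
  induction k with
  | zero =>
    intro j _ hj
    simpa using hj
  | succ k ih =>
    intro j hj hN
    -- downward induction
    have key : ∀ t j' : ℕ, j ≤ j' → j + (k + 1) * (p - 1) ≤ j' + t →
        (p : R) ^ (k + 1) * N ^ j' = 0 := by
      intro t
      induction t with
      | zero =>
        intro j' _ hL
        have : N ^ j' = 0 := by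
          have e : j' = (j + (k + 1) * (p - 1)) + (j' - (j + (k + 1) * (p - 1))) := by omega
          rw [e, pow_add, hN, zero_mul]
        rw [this, mul_zero]
      | succ t iht =>
        intro j' hjj' hL
        have hj'1 : 1 ≤ j' := hj.trans hjj'
        have e1 : N ^ j' = N * N ^ (j' - 1) := by
          rw [← pow_succ']; congr 1; omega
        have e2 : (p : R) ^ (k + 1) * N ^ j' = (p : R) ^ k * ((p : R) * N) * N ^ (j' - 1) := by
          rw [e1, pow_succ]; noncomm_ring
        rw [e2, hrel]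
        have hc2 : h * N ^ (j' - 1) = N ^ (j' - 1) * h := (hcomm.pow_right _).eq
        have e3 : (p : R) ^ k * (-N ^ p - (p : R) * N ^ 2 * h) * N ^ (j' - 1) =
            - ((p : R) ^ k * N ^ (j' + (p - 1))) - ((p : R) ^ (k + 1) * N ^ (j' + 1)) * h := by
          have e4 : N ^ (j' + (p - 1)) = N ^ p * N ^ (j' - 1) := by
            rw [← pow_add]; congr 1; omega
          have e5 : N ^ (j' + 1) = N ^ 2 * N ^ (j' - 1) := by
            rw [← pow_add]; congr 1; omega
          have e6 : (p : R) ^ (k + 1) = (p : R) ^ k * (p : R) := pow_succ _ _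
          rw [e4, e5, e6]
          calc (p : R) ^ k * (-N ^ p - (p : R) * N ^ 2 * h) * N ^ (j' - 1)
              = -((p : R) ^ k * (N ^ p * N ^ (j' - 1))) -
                (p : R) ^ k * (p : R) * (N ^ 2 * (h * N ^ (j' - 1))) := by noncomm_ring
            _ = -((p : R) ^ k * (N ^ p * N ^ (j' - 1))) -
                (p : R) ^ k * (p : R) * (N ^ 2 * N ^ (j' - 1)) * h := by
              rw [hc2]; noncomm_ring
        rw [e3]
        have z1 : (p : R) ^ k * N ^ (j' + (p - 1)) = 0 := by
          apply ih (j' + (p - 1)) (by omega)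
          have e : j' + (p - 1) + k * (p - 1) =
              (j + (k + 1) * (p - 1)) + (j' - j) := by
            have : (k + 1) * (p - 1) = k * (p - 1) + (p - 1) := by ring
            omega
          rw [e, pow_add, hN, zero_mul]
        have z2 : (p : R) ^ (k + 1) * N ^ (j' + 1) = 0 := iht (j' + 1) (by omega) (by omega)
        rw [z1, z2]; simp
    exact key (j + (k + 1) * (p - 1)) j le_rfl (by omega)

/-- the group version -/
theorem fixes_pow {M : Type*} [CommGroup M] (p : ℕ) (hp : p.Prime) (n : ℕ) (τ : M →* M)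
    (hτ : ∀ v, τ^[p] v = v)
    (hδ : ∀ v, (fun w => τ w * w⁻¹)^[n * (p - 1) + 1] v = 1) (v : M) :
    τ (v ^ (p ^ n)) = v ^ (p ^ n) := by
  set σ : AddMonoid.End (Additive M) := MonoidHom.toAdditive τ with hσ
  set N : AddMonoid.End (Additive M) := σ - 1 with hN
  have hσp : (N + 1) ^ p = 1 := by
    have : N + 1 = σ := by rw [hN]; abel
    rw [this]
    ext w
    rw [AddMonoid.End.coe_pow]
    show Additive.toMul (σ^[p] w) = Additive.toMul w
    have : ∀ (m : ℕ) (w : Additive M), σ^[m] w = Additive.ofMul (τ^[m] (Additive.toMul w)) := by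
      intro m
      induction m with
      | zero => intro w; rfl
      | succ m ihm =>
        intro w
        rw [Function.iterate_succ_apply', Function.iterate_succ_apply', ihm]
        rfl
    rw [this]
    exact hτ _
  have hNapp : ∀ w : Additive M,
      N w = Additive.ofMul (τ (Additive.toMul w) * (Additive.toMul w)⁻¹) := by
    intro w
    have : N w = σ w - w := by
      rw [hN]
      rfl
    rw [this, sub_eq_add_neg]
    rfl
  have hNpow : ∀ (m : ℕ) (w : Additive M),
      (N ^ m) w = Additive.ofMul ((fun w => τ w * w⁻¹)^[m] (Additive.toMul w)) := by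
    intro m
    induction m with
    | zero => intro w; rfl
    | succ m ihm =>
      intro w
      rw [pow_succ', AddMonoid.End.coe_mul, Function.comp_apply, ihm,
        Function.iterate_succ_apply', hNapp]
      rfl
  have hN0 : N ^ (1 + n * (p - 1)) = 0 := by
    ext w
    rw [hNpow, add_comm, hδ]
    rfl
  have h := pow_mul_eq_zero p hp N hσp n 1 le_rfl hN0
  rw [pow_one] at h
  have h2 := congrArg (fun f : AddMonoid.End (Additive M) => f (Additive.ofMul v)) h
  simp only [AddMonoid.End.zero_apply] at h2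
  have h3 : ((p : AddMonoid.End (Additive M)) ^ n * N) (Additive.ofMul v) =
      Additive.ofMul (τ (v ^ (p ^ n)) * (v ^ (p ^ n))⁻¹) := by
    have e : ((p : AddMonoid.End (Additive M)) ^ n * N) = N * (p : AddMonoid.End (Additive M)) ^ n := by
      rw [← Nat.cast_pow]
      exact (Nat.cast_commute _ _).eq
    rw [e, AddMonoid.End.coe_mul, Function.comp_apply, ← Nat.cast_pow]
    have e2 : ((p ^ n : ℕ) : AddMonoid.End (Additive M)) (Additive.ofMul v) =
        Additive.ofMul (v ^ (p ^ n)) := by
      rw [AddMonoid.End.natCast_apply]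
      rfl
    rw [e2, hNapp]
    rfl
  rw [h3] at h2
  have h4 : τ (v ^ (p ^ n)) * (v ^ (p ^ n))⁻¹ = 1 := h2
  exact mul_inv_eq_one.mp h4

end Cfsg.Agent.Helper3.AgemoMod

namespace Cfsg.Agent.Helper3.AgemoMod

/-- version for a commutative subgroup of an arbitrary group -/
theorem fixes_pow_subgroup {G : Type*} [Group G] (A : Subgroup G)
    (hA : ∀ a ∈ A, ∀ b ∈ A, a * b = b * a) (p : ℕ) (hp : p.Prime) (n : ℕ) (τ : G →* G)
    (hτA : ∀ a ∈ A, τ a ∈ A) (hτ : ∀ a ∈ A, τ^[p] a = a)
    (hδ : ∀ a ∈ A, (fun w => τ w * w⁻¹)^[n * (p - 1) + 1] a = 1) (v : G) (hv : v ∈ A) :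
    τ (v ^ (p ^ n)) = v ^ (p ^ n) := by
  letI : CommGroup A :=
    { (inferInstance : Group A) with
      mul_comm := fun a b => Subtype.ext (hA a.1 a.2 b.1 b.2) }
  let τ' : A →* A :=
    { toFun := fun a => ⟨τ a.1, hτA a.1 a.2⟩
      map_one' := Subtype.ext (map_one τ)
      map_mul' := fun a b => Subtype.ext (map_mul τ a.1 b.1) }
  have hit : ∀ (m : ℕ) (a : A), (((τ')^[m] a : A) : G) = τ^[m] a.1 := by
    intro m
    induction m with
    | zero => intro a; rfl
    | succ m ih =>
      intro a
      rw [Function.iterate_succ_apply', Function.iterate_succ_apply', ← ih]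
      rfl
  have hit2 : ∀ (m : ℕ) (a : A), ((((fun w : A => τ' w * w⁻¹))^[m] a : A) : G) =
      (fun w => τ w * w⁻¹)^[m] a.1 := by
    intro m
    induction m with
    | zero => intro a; rfl
    | succ m ih =>
      intro a
      rw [Function.iterate_succ_apply', Function.iterate_succ_apply', ← ih]
      rfl
  have h := fixes_pow p hp n τ' (fun a => Subtype.ext ((hit p a).trans (hτ a.1 a.2)))
    (fun a => Subtype.ext ((hit2 _ a).trans (hδ a.1 a.2))) ⟨v, hv⟩
  have h2 := congrArg (fun a : A => (a : G)) h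
  exact h2

end Cfsg.Agent.Helper3.AgemoMod
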