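import Mathlib

/-!
# Element orders in symmetric groups and arithmetic of `n!`, towards recognition of `A_n`
by order and spectrum.
-/

namespace Cfsg.Agent.Helper3.AltSpec

/-- If `p ∣ orderOf σ` with `orderOf σ = p * r`, some cycle length of `σ` is divisible by `p`. -/
theorem exists_mem_cycleType_dvd {α : Type*} [Fintype α] [DecidableEq α] (σ : Equiv.Perm α)
    (p r : ℕ) (hp : p.Prime) (hr : 0 < r) (ho : orderOf σ = p * r) :
    ∃ a ∈ σ.cycleType, p ∣ a := by
  by_contra hcon
  push Not at hcon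
  have h1 : ∀ a ∈ σ.cycleType, a ∣ r := by
    intro a ha
    have h2 : a ∣ p * r := ho ▸ Equiv.Perm.dvd_of_mem_cycleType ha
    have h3 : Nat.Coprime a p := ((Nat.Prime.coprime_iff_not_dvd hp).2 (hcon a ha)).symm
    exact h3.dvd_of_dvd_mul_left h2
  have h2 : σ.cycleType.lcm ∣ r := Multiset.lcm_dvd.2 h1
  rw [Equiv.Perm.lcm_cycleType, ho] at h2
  have h3 := Nat.le_of_dvd hr h2
  have h4 : 2 * r ≤ p * r := Nat.mul_le_mul_right r hp.two_le
  omega

theorem add_le_sum_of_mem_of_ne (m : Multiset ℕ) (a b : ℕ) (ha : a ∈ m) (hb : b ∈ m)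
    (hab : a ≠ b) : a + b ≤ m.sum := by
  have hb' : b ∈ m.erase a := (Multiset.mem_erase_of_ne (Ne.symm hab)).2 hb
  rw [← Multiset.cons_erase ha, Multiset.sum_cons, ← Multiset.cons_erase hb', Multiset.sum_cons]
  omega

/-- The symmetric group of degree `n` has no element of order `p * r` if `p ≠ r` are primes with
`n < p + r`. -/
theorem orderOf_ne_mul (n p r : ℕ) (hp : p.Prime) (hr : r.Prime) (hpr : p ≠ r) (hsum : n < p + r)
    (σ : Equiv.Perm (Fin n)) : orderOf σ ≠ p * r := by
  intro ho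
  obtain ⟨a, ha, hpa⟩ := exists_mem_cycleType_dvd σ p r hp hr.pos ho
  obtain ⟨b, hb, hrb⟩ := exists_mem_cycleType_dvd σ r p hr hp.pos (by rw [ho, mul_comm])
  have hsum' : σ.cycleType.sum ≤ n := by
    rw [Equiv.Perm.sum_cycleType]
    exact (Finset.card_le_univ _).trans (by simp)
  have hapos : 0 < a := by
    have := Equiv.Perm.two_le_of_mem_cycleType ha
    omega
  have hbpos : 0 < b := by
    have := Equiv.Perm.two_le_of_mem_cycleType hb
    omega
  by_cases hab : a = b
  · subst hab
    have h1 : p * r ∣ a :=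
      Nat.Coprime.mul_dvd_of_dvd_of_dvd ((Nat.coprime_primes hp hr).2 hpr) hpa hrb
    have h2 := Nat.le_of_dvd hapos h1
    have h3 : a ≤ σ.cycleType.sum := Multiset.le_sum_of_mem ha
    have h4 : p + r ≤ p * r := by
      have := hp.two_le
      have := hr.two_le
      nlinarith
    omega
  · have h1 := add_le_sum_of_mem_of_ne _ a b ha hb hab
    have h2 := Nat.le_of_dvd hapos hpa
    have h3 := Nat.le_of_dvd hbpos hrb
    omega

/-- A prime `p` with `p ≤ n < 2p` divides `n!` exactly once. -/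
theorem not_sq_dvd_factorial (n p : ℕ) (hp : p.Prime) (h1 : p ≤ n) (h2 : n < 2 * p) :
    ¬ p ^ 2 ∣ n.factorial := by
  have hlog : Nat.log p n < 2 := by
    apply Nat.log_lt_of_lt_pow (by omega)
    have := hp.two_le
    nlinarith
  rw [Nat.Prime.pow_dvd_factorial_iff hp hlog]
  have : n / p = 1 := Nat.div_eq_of_lt_le (by omega) (by omega)
  simp [this]

end Cfsg.Agent.Helper3.AltSpec
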