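import Mathlib

/-!
# Elements of order `p * r` from Sylow counting
-/

namespace Cfsg.Agent.Helper3.AltSpec

/-- An element of prime order `r` normalizing a subgroup of prime order `p`, where `r ∤ p - 1`,
centralizes it. -/
theorem mem_centralizer_of_not_dvd {H : Type*} [Group H] (P : Subgroup H) [Finite P] (p r : ℕ)
    (hp : p.Prime) (hr : r.Prime) (hP : Nat.card P = p) (y : H) (hy : y ∈ Subgroup.normalizer (P : Set H))
    (hyo : orderOf y = r) (h2 : ¬ r ∣ p - 1) : y ∈ Subgroup.centralizer (P : Set H) := by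
  have := Fact.mk hp
  have : IsCyclic P := isCyclic_of_prime_card hP
  have hcard : Nat.card (MulAut P) = p - 1 := by
    rw [IsCyclic.card_mulAut P, hP, Nat.totient_prime hp]
  let y' : Subgroup.normalizer (P : Set H) := ⟨y, hy⟩
  have hy'o : orderOf y' = r := by
    rw [← hyo]
    exact Subgroup.orderOf_mk y hy
  have h3 : orderOf (P.normalizerMonoidHom y') ∣ r := hy'o ▸ orderOf_map_dvd _ y'
  have h4 : orderOf (P.normalizerMonoidHom y') ∣ p - 1 := hcard ▸ orderOf_dvd_natCard _
  have h5 : orderOf (P.normalizerMonoidHom y') = 1 := by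
    rcases (Nat.dvd_prime hr).1 h3 with h | h
    · exact h
    · rw [h] at h4
      exact absurd h4 h2
  have h6 : y' ∈ P.normalizerMonoidHom.ker := by
    rw [MonoidHom.mem_ker]
    exact orderOf_eq_one_iff.1 h5
  rw [Subgroup.normalizerMonoidHom_ker, Subgroup.mem_subgroupOf] at h6
  exact h6

/-- A group of order `p * r ^ b` has an element of order `p * r`, under arithmetic conditions
forcing the Sylow `p`-subgroup to be normal and centralized by elements of order `r`. -/
theorem exists_orderOf_mul {H : Type*} [Group H] [Finite H] (p r b : ℕ) (hp : p.Prime)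
    (hr : r.Prime) (hne : p ≠ r) (hb : 1 ≤ b) (hcard : Nat.card H = p * r ^ b)
    (h1 : ∀ c, 1 ≤ c → c ≤ b → ¬ p ∣ r ^ c - 1) (h2 : ¬ r ∣ p - 1) :
    ∃ h : H, orderOf h = p * r := by
  have := Fact.mk hp
  have := Fact.mk hr
  have P : Sylow p H := default
  have hfac : (p * r ^ b).factorization p = 1 := by
    rw [Nat.factorization_mul hp.ne_zero (pow_ne_zero _ hr.ne_zero), Nat.factorization_pow]
    simp [hp.factorization, hr.factorization, hne]
  have hPcard : Nat.card P = p := by
    rw [Sylow.card_eq_multiplicity, hcard, hfac, pow_one]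
  have hPidx : (P : Subgroup H).index = r ^ b := by
    have := (P : Subgroup H).card_mul_index
    rw [hPcard, hcard] at this
    exact Nat.eq_of_mul_eq_mul_left hp.pos this
  -- the number of Sylow `p`-subgroups is one
  have hnp1 : Nat.card (Sylow p H) ≡ 1 [MOD p] := card_sylow_modEq_one p H
  have hnp2 : Nat.card (Sylow p H) ∣ r ^ b := hPidx ▸ Sylow.card_dvd_index P
  obtain ⟨c, hcb, hc⟩ := (Nat.dvd_prime_pow hr).1 hnp2
  have hc0 : c = 0 := by
    by_contra hc0
    refine h1 c (by omega) hcb ?_
    rw [hc] at hnp1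
    exact (Nat.modEq_iff_dvd' (Nat.one_le_pow _ _ hr.pos)).1 hnp1.symm
  rw [hc0, pow_zero] at hc
  have : Subsingleton (Sylow p H) := (Nat.card_eq_one_iff_unique.1 hc).1
  have hPn : (P : Subgroup H).Normal := Sylow.normal_of_subsingleton P
  -- elements of orders `p` and `r`
  obtain ⟨x, hx⟩ := exists_prime_orderOf_dvd_card' (G := (P : Subgroup H)) p (by rw [hPcard])
  obtain ⟨y, hy⟩ := exists_prime_orderOf_dvd_card' (G := H) r
    (by rw [hcard]; exact Dvd.dvd.mul_left (dvd_pow_self r (by omega)) p)
  have hyc : y ∈ Subgroup.centralizer ((P : Subgroup H) : Set H) :=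
    mem_centralizer_of_not_dvd (P : Subgroup H) p r hp hr hPcard y
      (by rw [Subgroup.normalizer_eq_top]; exact Subgroup.mem_top y) hy h2
  have hcomm : Commute (x : H) y := (Subgroup.mem_centralizer_iff.1 hyc (x : H) x.2)
  refine ⟨(x : H) * y, ?_⟩
  have hxo : orderOf (x : H) = p := by rw [Subgroup.orderOf_coe, hx]
  rw [hcomm.orderOf_mul_eq_mul_orderOf_of_coprime, hxo, hy]
  rw [hxo, hy]
  exact (Nat.coprime_primes hp hr).2 hne

end Cfsg.Agent.Helper3.AltSpec
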