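import Mathlib
import Cfsg.Agent.Helper3.AltSpecB

/-!
# Frattini-argument production of elements of order `p * q`, and lifting element orders
-/

namespace Cfsg.Agent.Helper3.AltSpec

/-- Let `K` be a normal subgroup of `X` whose order is divisible by `p` exactly once, and `q` a
prime dividing the index of `K` with `q ∤ p - 1`. Then `X` has an element of order `p * q`. -/
theorem exists_orderOf_mul_of_normal {X : Type*} [Group X] [Finite X] (K : Subgroup X)
    [K.Normal] (p q : ℕ) (hp : p.Prime) (hq : q.Prime) (hne : p ≠ q)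
    (hpK : p ∣ Nat.card K) (hp2 : ¬ p ^ 2 ∣ Nat.card K) (hqK : q ∣ K.index)
    (hqp : ¬ q ∣ p - 1) : ∃ x : X, orderOf x = p * q := by
  have := Fact.mk hp
  have := Fact.mk hq
  have P : Sylow p K := default
  have hfac : (Nat.card K).factorization p = 1 := by
    have h1 : 1 ≤ (Nat.card K).factorization p :=
      (Nat.Prime.pow_dvd_iff_le_factorization hp Nat.card_pos.ne').1 (by rwa [pow_one])
    have h2 : ¬ 2 ≤ (Nat.card K).factorization p := fun h =>
      hp2 ((Nat.Prime.pow_dvd_iff_le_factorization hp Nat.card_pos.ne').2 h)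
    omega
  have hPcard : Nat.card P = p := by
    rw [Sylow.card_eq_multiplicity, hfac, pow_one]
  set P' : Subgroup X := (P : Subgroup K).map K.subtype with hP'
  have hP'card : Nat.card P' = p := by
    rw [hP', Subgroup.card_map_of_injective K.subtype_injective]
    exact hPcard
  have hfr : Subgroup.normalizer (P' : Set X) ⊔ K = ⊤ := Sylow.normalizer_sup_eq_top P
  have hidx : K.index ∣ Nat.card (Subgroup.normalizer (P' : Set X)) := by
    rw [← Subgroup.relIndex_top_right, ← hfr, Subgroup.relIndex_sup_right]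
    exact Subgroup.relIndex_dvd_card _ _
  obtain ⟨y, hy⟩ := exists_prime_orderOf_dvd_card' (G := Subgroup.normalizer (P' : Set X)) q
    (hqK.trans hidx)
  have hyc : (y : X) ∈ Subgroup.centralizer (P' : Set X) :=
    mem_centralizer_of_not_dvd P' p q hp hq hP'card (y : X) y.2
      (by rw [Subgroup.orderOf_coe, hy]) hqp
  obtain ⟨x, hx⟩ := exists_prime_orderOf_dvd_card' (G := P') p (by rw [hP'card])
  have hcomm : Commute (x : X) (y : X) := (Subgroup.mem_centralizer_iff.1 hyc (x : X) x.2)
  refine ⟨(x : X) * (y : X), ?_⟩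
  have hxo : orderOf (x : X) = p := by rw [Subgroup.orderOf_coe, hx]
  have hyo : orderOf (y : X) = q := by rw [Subgroup.orderOf_coe, hy]
  rw [hcomm.orderOf_mul_eq_mul_orderOf_of_coprime, hxo, hyo]
  rw [hxo, hyo]
  exact (Nat.coprime_primes hp hq).2 hne

/-- Element orders of a quotient are element orders of the group. -/
theorem exists_orderOf_eq_of_surjective {G H : Type*} [Group G] [Group H] [Finite G]
    (f : G →* H) (hf : Function.Surjective f) (h : H) : ∃ g : G, orderOf g = orderOf h := by
  obtain ⟨g0, rfl⟩ := hf h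
  have hdvd : orderOf (f g0) ∣ orderOf g0 := orderOf_map_dvd f g0
  have hpos : 0 < orderOf g0 := orderOf_pos g0
  have hpos' : 0 < orderOf (f g0) := Nat.pos_of_dvd_of_pos hdvd hpos
  refine ⟨g0 ^ (orderOf g0 / orderOf (f g0)), ?_⟩
  rw [orderOf_pow_of_dvd (Nat.div_pos (Nat.le_of_dvd hpos hdvd) hpos').ne'
    (Nat.div_dvd_of_dvd hdvd), Nat.div_div_self hdvd hpos.ne']

end Cfsg.Agent.Helper3.AltSpec
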