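import Mathlib
import Cfsg.Agent.Helper1.SZ
import Cfsg.Agent.Helper4.ConjUnion

/-!
Helper library (helper3): finite solvable groups all of whose elements are real and all of whose
involutions are conjugate: commuting involutions coincide.
-/

set_option autoImplicit false

namespace Cfsg.Agent.Helper3.Ambiv

universe u

/-- all elements real, one class of involutions -/
def Hyp (G : Type*) [Group G] : Prop :=
  (∀ x : G, IsConj x x⁻¹) ∧ ∀ s t : G, orderOf s = 2 → orderOf t = 2 → IsConj s t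

section basic

variable {G : Type*} [Group G]

theorem eq_one_of_odd_of_pow_two {x : G} {m k : ℕ} (hm : Odd m) (hx : x ^ m = 1)
    (hx2 : x ^ 2 ^ k = 1) : x = 1 := by
  have h1 : orderOf x ∣ m := orderOf_dvd_of_pow_eq_one hx
  have h2 : orderOf x ∣ 2 ^ k := orderOf_dvd_of_pow_eq_one hx2
  have h3 : Nat.Coprime m (2 ^ k) := by
    apply Nat.Coprime.pow_right
    exact Nat.coprime_two_right.mpr hm
  have h4 : orderOf x ∣ 1 := by
    rw [← h3.gcd_eq_one]
    exact Nat.dvd_gcd h1 h2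
  exact orderOf_eq_one_iff.mp (Nat.dvd_one.mp h4)

theorem orderOf_two_of {t : G} (h2 : t ^ 2 = 1) (h1 : t ≠ 1) : orderOf t = 2 :=
  orderOf_eq_prime h2 h1

/-- if `g` inverts `x` then `g ^ 2` centralizes `x` -/
theorem sq_comm_of_inverts {g x : G} (h : g * x * g⁻¹ = x⁻¹) : Commute (g ^ 2) x := by
  have h' : g * x⁻¹ * g⁻¹ = x := by
    have : g * x⁻¹ * g⁻¹ = (g * x * g⁻¹)⁻¹ := by group
    rw [this, h, inv_inv]
  change g ^ 2 * x = x * g ^ 2
  rw [pow_two]
  calc g * g * x = g * (g * x * g⁻¹) * g⁻¹ * (g * g) := by group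
    _ = g * x⁻¹ * g⁻¹ * (g * g) := by rw [h]
    _ = x * (g * g) := by rw [h']

theorem odd_pow_inverts {g x : G} (h : g * x * g⁻¹ = x⁻¹) {k : ℕ} (hk : Odd k) :
    g ^ k * x * (g ^ k)⁻¹ = x⁻¹ := by
  obtain ⟨j, rfl⟩ := hk
  have hc : Commute ((g ^ 2) ^ j) x := (sq_comm_of_inverts h).pow_left j
  have hc' : Commute ((g ^ 2) ^ j) x⁻¹ := hc.inv_right
  rw [pow_succ, pow_mul]
  calc (g ^ 2) ^ j * g * x * ((g ^ 2) ^ j * g)⁻¹
      = (g ^ 2) ^ j * (g * x * g⁻¹) * ((g ^ 2) ^ j)⁻¹ := by group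
    _ = (g ^ 2) ^ j * x⁻¹ * ((g ^ 2) ^ j)⁻¹ := by rw [h]
    _ = x⁻¹ := by rw [hc'.eq]; group

theorem eq_one_of_inv_eq_of_odd {v : G} {m : ℕ} (hm : Odd m) (hv : v ^ m = 1) (h : v = v⁻¹) :
    v = 1 := by
  apply eq_one_of_odd_of_pow_two (k := 1) hm hv
  rw [pow_one, pow_two]
  nth_rewrite 1 [h]
  exact inv_mul_cancel v

/-- In a group whose elements are real and in which every involution lies in a normal subgroup `M`
of exponent 2, every element of odd order commutes with some involution. -/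
theorem odd_comm_invol [Finite G] (hreal : ∀ x : G, IsConj x x⁻¹) (M : Subgroup G)
    [hMn : M.Normal] (hM2 : ∀ x ∈ M, x ^ 2 = 1) (hinv : ∀ t : G, orderOf t = 2 → t ∈ M)
    (z : G) (hz : orderOf z = 2) (v : G) (m : ℕ) (hm : Odd m) (hv : v ^ m = 1) :
    ∃ t : G, orderOf t = 2 ∧ Commute t v := by
  by_cases hv1 : v = 1
  · exact ⟨z, hz, hv1 ▸ Commute.one_right z⟩
  obtain ⟨g, hg⟩ := isConj_iff.mp (hreal v)
  obtain ⟨a, m', hm', hord⟩ := Nat.exists_eq_two_pow_mul_odd (orderOf_pos g).ne'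
  have hinvh : g ^ m' * v * (g ^ m')⁻¹ = v⁻¹ := odd_pow_inverts hg hm'
  have hh2 : (g ^ m') ^ 2 ^ a = 1 := by
    rw [← pow_mul, mul_comm, ← hord]; exact pow_orderOf_eq_one g
  generalize g ^ m' = h at hinvh hh2
  have hh1 : h ≠ 1 := by
    intro h1
    rw [h1, one_mul, inv_one, mul_one] at hinvh
    exact hv1 (eq_one_of_inv_eq_of_odd hm hv hinvh)
  obtain ⟨b, -, hb⟩ := (Nat.dvd_prime_pow Nat.prime_two).mp (orderOf_dvd_of_pow_eq_one hh2)
  have hb0 : b ≠ 0 := by
    rintro rfl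
    rw [pow_zero, orderOf_eq_one_iff] at hb
    exact hh1 hb
  obtain ⟨c, rfl⟩ := Nat.exists_eq_succ_of_ne_zero hb0
  have ht2 : (h ^ 2 ^ c) ^ 2 = 1 := by
    rw [← pow_mul, ← pow_succ, ← hb]; exact pow_orderOf_eq_one h
  have ht1 : h ^ 2 ^ c ≠ 1 := by
    apply pow_ne_one_of_lt_orderOf (pow_pos two_pos c).ne'
    rw [hb]
    exact Nat.pow_lt_pow_right (by norm_num) (Nat.lt_succ_self c)
  have hto : orderOf (h ^ 2 ^ c) = 2 := orderOf_two_of ht2 ht1
  refine ⟨h ^ 2 ^ c, hto, ?_⟩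
  rcases Nat.eq_zero_or_pos c with rfl | hc
  · exfalso
    rw [pow_zero, pow_one] at hto
    have hhM : h ∈ M := hinv h hto
    have h1 : v * h * v⁻¹ * h⁻¹ ∈ M := M.mul_mem (hMn.conj_mem h hhM v) (M.inv_mem hhM)
    have h2 : v * h * v⁻¹ * h⁻¹ = v ^ 2 := by
      have h3 : h * v⁻¹ * h⁻¹ = v := by
        have : h * v⁻¹ * h⁻¹ = (h * v * h⁻¹)⁻¹ := by group
        rw [this, hinvh, inv_inv]
      calc v * h * v⁻¹ * h⁻¹ = v * (h * v⁻¹ * h⁻¹) := by group
        _ = v ^ 2 := by rw [h3, pow_two]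
    rw [h2] at h1
    have h4 := hM2 _ h1
    apply hv1
    apply eq_one_of_odd_of_pow_two (k := 2) hm hv
    rw [← h4, ← pow_mul]
    norm_num
  · obtain ⟨d, rfl⟩ := Nat.exists_eq_succ_of_ne_zero hc.ne'
    rw [pow_succ', pow_mul]
    exact (sq_comm_of_inverts hinvh).pow_left _

/-- a nontrivial normal subgroup of a finite `p`-group meets the centre nontrivially -/
theorem normal_meets_center {P : Type*} [Group P] [Finite P] {p : ℕ} [hp : Fact p.Prime]
    (hP : IsPGroup p P) (M : Subgroup P) [hM : M.Normal] (hMne : M ≠ ⊥) :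
    ∃ b ∈ M, b ≠ 1 ∧ ∀ g : P, g * b = b * g := by
  have hP' : IsPGroup p (ConjAct P) := hP
  have hcard : p ∣ Nat.card M := by
    obtain ⟨k, hk⟩ := (hP.to_subgroup M).exists_card_eq
    have hk0 : k ≠ 0 := by
      rintro rfl
      rw [pow_zero] at hk
      exact hMne (Subgroup.card_eq_one.1 hk)
    rw [hk]
    exact dvd_pow_self p hk0
  have h1 : (1 : M) ∈ MulAction.fixedPoints (ConjAct P) M := by
    intro g
    exact smul_one g
  obtain ⟨b, hb, hne⟩ := hP'.exists_fixed_point_of_prime_dvd_card_of_fixed_point M hcard h1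
  refine ⟨(b : P), b.2, ?_, ?_⟩
  · intro h
    apply hne
    exact (Subtype.ext h).symm
  · intro g
    have h2 := hb (ConjAct.toConjAct g)
    have h3 := congrArg Subtype.val h2
    rw [ConjAct.Subgroup.val_conj_smul, ConjAct.smul_def, ConjAct.ofConjAct_toConjAct] at h3
    calc g * b = g * b * g⁻¹ * g := by group
      _ = b * g := by rw [h3]

/-- a `2`-element normalizing a nontrivial `2`-subgroup centralizes a nontrivial element of it -/
theorem exists_fixed [Finite G] (D : Subgroup G) (hD : IsPGroup 2 D) (hDne : D ≠ ⊥) (u : G)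
    (hu : IsPGroup 2 (Subgroup.zpowers u)) (hn : u ∈ Subgroup.normalizer (D : Set G)) :
    ∃ b ∈ D, b ≠ 1 ∧ u * b = b * u := by
  haveI : Fact (Nat.Prime 2) := ⟨Nat.prime_two⟩
  have hle : Subgroup.zpowers u ≤ Subgroup.normalizer (D : Set G) := Subgroup.zpowers_le.mpr hn
  have hP : IsPGroup 2 (Subgroup.zpowers u ⊔ D : Subgroup G) :=
    IsPGroup.to_sup_of_normal_right' hu hD hle
  have hPN : Subgroup.zpowers u ⊔ D ≤ Subgroup.normalizer (D : Set G) :=
    sup_le hle Subgroup.le_normalizer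
  haveI : (D.subgroupOf (Subgroup.zpowers u ⊔ D)).Normal :=
    Subgroup.normal_subgroupOf_of_le_normalizer hPN
  have hne : D.subgroupOf (Subgroup.zpowers u ⊔ D) ≠ ⊥ := by
    rw [Ne, Subgroup.subgroupOf_eq_bot, disjoint_iff, inf_eq_left.mpr le_sup_right]
    exact hDne
  obtain ⟨b, hb, hb1, hbc⟩ := normal_meets_center hP (D.subgroupOf (Subgroup.zpowers u ⊔ D)) hne
  refine ⟨(b : G), Subgroup.mem_subgroupOf.mp hb, fun h => hb1 (Subtype.ext h), ?_⟩
  have := hbc ⟨u, le_sup_left (a := Subgroup.zpowers u) (b := D) (Subgroup.mem_zpowers u)⟩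
  exact congrArg Subtype.val this

/-- if `G` has a nontrivial normal subgroup of exponent two, then `G` has only one involution -/
theorem two_case [Finite G] (hG : Hyp G) (M : Subgroup G) [hMn : M.Normal] (hMne : M ≠ ⊥)
    (hM2 : ∀ x ∈ M, x ^ 2 = 1) (s t : G) (hs : orderOf s = 2) (ht : orderOf t = 2) : s = t := by
  by_contra hne
  obtain ⟨hreal, hone⟩ := hG
  obtain ⟨⟨z, hzM⟩, hz1⟩ := (Subgroup.ne_bot_iff_exists_ne_one).mp hMne
  have hz1' : z ≠ 1 := fun h => hz1 (Subtype.ext h)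
  have hz : orderOf z = 2 := orderOf_two_of (hM2 z hzM) hz1'
  have hinv : ∀ r : G, orderOf r = 2 → r ∈ M := by
    intro r hr
    obtain ⟨c, hc⟩ := isConj_iff.mp (hone z r hz hr)
    rw [← hc]; exact hMn.conj_mem z hzM c
  have hH : Subgroup.centralizer ({s} : Set G) ≠ ⊤ := by
    intro htop
    obtain ⟨c, hc⟩ := isConj_iff.mp (hone s t hs ht)
    have hcm : c ∈ Subgroup.centralizer ({s} : Set G) := htop ▸ Subgroup.mem_top c
    rw [Subgroup.mem_centralizer_singleton_iff] at hcm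
    apply hne
    rw [← hc, hcm]; group
  obtain ⟨g, hg⟩ := Cfsg.Agent.Helper4.exists_not_mem_conj _ hH
  have hgno : ∀ r : G, orderOf r = 2 → ¬ Commute g r := by
    intro r hr hc
    obtain ⟨x, hx⟩ := isConj_iff.mp (hone s r hs hr)
    apply hg x
    rw [Subgroup.mem_centralizer_singleton_iff]
    have hc' : g * (x * s * x⁻¹) = (x * s * x⁻¹) * g := by rw [hx]; exact hc.eq
    calc x⁻¹ * g * x * s = x⁻¹ * (g * (x * s * x⁻¹)) * x := by group
      _ = x⁻¹ * ((x * s * x⁻¹) * g) * x := by rw [hc']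
      _ = s * (x⁻¹ * g * x) := by group
  obtain ⟨a, m, hm, hord⟩ := Nat.exists_eq_two_pow_mul_odd (orderOf_pos g).ne'
  have hv : (g ^ 2 ^ a) ^ m = 1 := by
    rw [← pow_mul, ← hord]; exact pow_orderOf_eq_one g
  have hu : (g ^ m) ^ 2 ^ a = 1 := by
    rw [← pow_mul, mul_comm, ← hord]; exact pow_orderOf_eq_one g
  have huv : Commute (g ^ m) (g ^ 2 ^ a) := (Commute.refl g).pow_pow _ _
  obtain ⟨r, hr, hrv⟩ := odd_comm_invol hreal M hM2 hinv z hz (g ^ 2 ^ a) m hm hv
  have hDne : M ⊓ Subgroup.centralizer ({g ^ 2 ^ a} : Set G) ≠ ⊥ := by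
    intro hbot
    have hrD : r ∈ M ⊓ Subgroup.centralizer ({g ^ 2 ^ a} : Set G) :=
      ⟨hinv r hr, Subgroup.mem_centralizer_singleton_iff.mpr hrv.eq⟩
    rw [hbot, Subgroup.mem_bot] at hrD
    rw [hrD, orderOf_one] at hr
    omega
  have hDp : IsPGroup 2 (M ⊓ Subgroup.centralizer ({g ^ 2 ^ a} : Set G) : Subgroup G) := by
    intro d
    refine ⟨1, ?_⟩
    apply Subtype.ext
    rw [pow_one, Subgroup.coe_pow, Subgroup.coe_one]
    exact hM2 _ d.2.1
  have hup : IsPGroup 2 (Subgroup.zpowers (g ^ m)) := by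
    rintro ⟨y, hy⟩
    obtain ⟨i, rfl⟩ := Subgroup.mem_zpowers_iff.mp hy
    refine ⟨a, ?_⟩
    apply Subtype.ext
    rw [Subgroup.coe_pow, Subgroup.coe_one]
    change ((g ^ m) ^ i) ^ 2 ^ a = 1
    rw [← zpow_natCast, ← zpow_mul, mul_comm, zpow_mul, zpow_natCast, hu, one_zpow]
  have hun : g ^ m ∈ Subgroup.normalizer
      ((M ⊓ Subgroup.centralizer ({g ^ 2 ^ a} : Set G) : Subgroup G) : Set G) := by
    apply Subgroup.inf_normalizer_le_normalizer_inf
    refine ⟨?_, ?_⟩
    · rw [Subgroup.normalizer_eq_top]; exact Subgroup.mem_top _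
    · apply Subgroup.le_normalizer
      exact Subgroup.mem_centralizer_singleton_iff.mpr huv.eq
  obtain ⟨b, hbD, hb1, hbu⟩ := exists_fixed _ hDp hDne (g ^ m) hup hun
  apply hgno b (orderOf_two_of (hM2 b hbD.1) hb1)
  have hbv : Commute b (g ^ 2 ^ a) := (Subgroup.mem_centralizer_singleton_iff.mp hbD.2)
  have hbu' : Commute b (g ^ m) := hbu.symm
  have hcop : Nat.Coprime (2 ^ a) m :=
    Nat.Coprime.pow_left _ (Nat.coprime_two_left.mpr hm)
  have hbez := Nat.gcd_eq_gcd_ab (2 ^ a) m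
  rw [hcop.gcd_eq_one] at hbez
  have hgz : g = (g ^ 2 ^ a) ^ (Nat.gcdA (2 ^ a) m) * (g ^ m) ^ (Nat.gcdB (2 ^ a) m) := by
    rw [← zpow_natCast, ← zpow_natCast, ← zpow_mul, ← zpow_mul, ← zpow_add, ← hbez]
    simp
  symm
  rw [hgz]
  exact (hbv.zpow_right _).mul_right (hbu'.zpow_right _)

/-- involutions of a quotient by a normal subgroup of odd order lift to involutions -/
theorem lift_invol [Finite G] (M : Subgroup G) [hMn : M.Normal] (hodd : Odd (Nat.card M))
    (q : G ⧸ M) (hq : orderOf q = 2) : ∃ s : G, orderOf s = 2 ∧ (QuotientGroup.mk s : G ⧸ M) = q := by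
  obtain ⟨g, rfl⟩ := QuotientGroup.mk_surjective q
  have hq2 : (QuotientGroup.mk g : G ⧸ M) ^ 2 = 1 := by rw [← hq]; exact pow_orderOf_eq_one _
  have hq1 : (QuotientGroup.mk g : G ⧸ M) ≠ 1 := by
    intro h; rw [h, orderOf_one] at hq; omega
  have hg2 : g ^ 2 ∈ M := by
    rw [← QuotientGroup.eq_one_iff, QuotientGroup.mk_pow]; exact hq2
  have hpow : (g ^ 2) ^ Nat.card M = 1 := by
    have := pow_card_eq_one' (G := M) (x := ⟨g ^ 2, hg2⟩)
    have h2 := congrArg Subtype.val this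
    rwa [Subgroup.coe_pow, Subgroup.coe_one] at h2
  have hmk : (QuotientGroup.mk (g ^ Nat.card M) : G ⧸ M) = QuotientGroup.mk g := by
    obtain ⟨j, hj⟩ := hodd
    rw [QuotientGroup.mk_pow, hj, pow_succ, pow_mul, hq2, one_pow, one_mul]
  refine ⟨g ^ Nat.card M, ?_, hmk⟩
  apply orderOf_two_of
  · rw [← pow_mul, mul_comm, pow_mul]; exact hpow
  · intro h
    rw [h, QuotientGroup.mk_one] at hmk
    exact hq1 hmk.symm

theorem hyp_quot [Finite G] (M : Subgroup G) [hMn : M.Normal] (hodd : Odd (Nat.card M))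
    (hG : Hyp G) : Hyp (G ⧸ M) := by
  refine ⟨?_, ?_⟩
  · intro q
    obtain ⟨g, rfl⟩ := QuotientGroup.mk_surjective q
    exact (QuotientGroup.mk' M).map_isConj (hG.1 g)
  · intro q₁ q₂ h₁ h₂
    obtain ⟨s, hs, rfl⟩ := lift_invol M hodd q₁ h₁
    obtain ⟨t, ht, rfl⟩ := lift_invol M hodd q₂ h₂
    exact (QuotientGroup.mk' M).map_isConj (hG.2 s t hs ht)

/-- an element of a subgroup of odd order whose square is trivial is trivial -/
theorem eq_one_of_mem_odd [Finite G] (M : Subgroup G) (hodd : Odd (Nat.card M)) {x : G}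
    (hx : x ∈ M) (hx2 : x ^ 2 = 1) : x = 1 := by
  have hpow : x ^ Nat.card M = 1 := by
    have := pow_card_eq_one' (G := M) (x := ⟨x, hx⟩)
    have h2 := congrArg Subtype.val this
    rwa [Subgroup.coe_pow, Subgroup.coe_one] at h2
  exact eq_one_of_odd_of_pow_two (k := 1) hodd hpow (by rwa [pow_one])

end basic

/-- **Main lemma**: in a finite solvable group all of whose elements are real and all of whose
involutions are conjugate, commuting involutions coincide. -/
theorem comm_invol_eq : ∀ (n : ℕ) (G : Type u) [Group G] [Finite G] [Group.IsSolvable G],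
    Nat.card G = n → Hyp G →
    ∀ s t : G, orderOf s = 2 → orderOf t = 2 → Commute s t → s = t := by
  intro n
  induction n using Nat.strong_induction_on with
  | _ n ih =>
    intro G _ _ _ hcard hG s t hs ht hst
    haveI : Nontrivial G := ⟨⟨s, 1, fun h => by rw [h, orderOf_one] at hs; omega⟩⟩
    obtain ⟨p, hp, M, hMn, hMne, hMp, hMc, hMexp⟩ :=
      Cfsg.Agent.Helper1.exists_normal_pgroup_of_solvable G
    by_cases hp2 : p = 2
    · subst hp2
      exact two_case hG M hMne hMexp s t hs ht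
    · have hodd : Odd (Nat.card M) := by
        obtain ⟨k, hk⟩ := hMp.exists_card_eq
        rw [hk]
        exact Odd.pow (hp.out.odd_of_ne_two hp2)
      have hlt : Nat.card (G ⧸ M) < n := by
        rw [← hcard, ← Subgroup.index_eq_card, ← M.card_mul_index]
        have h1 : 1 < Nat.card M := by
          rw [Subgroup.one_lt_card_iff_ne_bot]; exact hMne
        have h2 : 0 < M.index := Nat.pos_of_ne_zero Subgroup.index_ne_zero_of_finite
        nlinarith
      have hq := hyp_quot M hodd hG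
      have hnot : ∀ r : G, orderOf r = 2 → orderOf (QuotientGroup.mk r : G ⧸ M) = 2 := by
        intro r hr
        apply orderOf_two_of
        · rw [← QuotientGroup.mk_pow, ← hr, pow_orderOf_eq_one, QuotientGroup.mk_one]
        · intro h
          rw [QuotientGroup.eq_one_iff] at h
          have hr2 : r ^ 2 = 1 := by rw [← hr]; exact pow_orderOf_eq_one r
          have := eq_one_of_mem_odd M hodd h hr2
          rw [this, orderOf_one] at hr; omega
      have heq := ih _ hlt (G ⧸ M) rfl hq (QuotientGroup.mk s) (QuotientGroup.mk t)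
        (hnot s hs) (hnot t ht) (by
          change (QuotientGroup.mk s : G ⧸ M) * QuotientGroup.mk t = QuotientGroup.mk t * QuotientGroup.mk s
          rw [← QuotientGroup.mk_mul, ← QuotientGroup.mk_mul, hst.eq])
      rw [QuotientGroup.eq] at heq
      have hs2 : s ^ 2 = 1 := by rw [← hs]; exact pow_orderOf_eq_one s
      have ht2 : t ^ 2 = 1 := by rw [← ht]; exact pow_orderOf_eq_one t
      have hsq : (s⁻¹ * t) ^ 2 = 1 := by
        have hc : Commute s⁻¹ t := hst.inv_left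
        rw [hc.mul_pow, inv_pow, hs2, ht2, inv_one, one_mul]
      have := eq_one_of_mem_odd M hodd heq hsq
      exact inv_mul_eq_one.mp this

end Cfsg.Agent.Helper3.Ambiv
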