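import Mathlib
import Cfsg.Prelude.Def_GeometricClasses
import Cfsg.Agent.Lead.AschBase
import Cfsg.Agent.Helper2.AschRefl
import Cfsg.Agent.Helper5.AschForm5

/-!
# ASCH-COMP-U piece V1 `unitary_reducible_gen` (helper3; wrapper over helper2's `refl_reducible_aux`)

A reducible subgroup of `GU_n(q)` stabilizes a totally singular subspace, a non-degenerate subspace of dimension less
than `n / 2`, or a decomposition into two non-degenerate subspaces of dimension `n / 2`.
-/

set_option autoImplicit false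
set_option linter.unusedVariables false
set_option linter.unusedSectionVars false

namespace Cfsg.Agent.Helper3.AschCU

open Cfsg Cfsg.Geo Cfsg.Agent.Lead.Asch Cfsg.Agent.Helper2.AschRefl
open scoped MatrixGroups Matrix

variable {n : ℕ} {F : Type*} [Field F] [Fintype F]

/-- an element stabilizing `W` maps `W` onto `W` -/
theorem map_eq_of_mem_subspaceStabilizer {W : Submodule F (Fin n → F)} {g : GL (Fin n) F}
    (hg : g ∈ subspaceStabilizer W) : W.map (Matrix.toLin' (g : Matrix (Fin n) (Fin n) F)) = W := by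
  rw [mem_subspaceStabilizer_iff] at hg
  apply le_antisymm
  · rintro _ ⟨v, hv, rfl⟩
    rw [Matrix.toLin'_apply]
    exact (hg v).1 hv
  · intro w hw
    refine ⟨((g⁻¹ : GL (Fin n) F) : Matrix (Fin n) (Fin n) F) *ᵥ w, ?_, ?_⟩
    · rw [SetLike.mem_coe, hg, Matrix.mulVec_mulVec, ← Units.val_mul, mul_inv_cancel, Units.val_one,
        Matrix.one_mulVec]
      exact hw
    · rw [Matrix.toLin'_apply, Matrix.mulVec_mulVec, ← Units.val_mul, mul_inv_cancel, Units.val_one,
        Matrix.one_mulVec]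

/-- **V1** -/
theorem unitary_reducible_gen (q : ℕ) (hF : Fintype.card F = q ^ 2)
    {H : Subgroup (GL (Fin n) F)} (hHI : H ≤ GU n F q) (hred : ¬ ActsIrreducibly (matrixSet H)) :
    (∃ W : Submodule F (Fin n → F), W ≠ ⊥ ∧ W ≠ ⊤ ∧ IsTotallySingularFor (hermForm n F q) W ∧
      H ≤ subspaceStabilizer W) ∨
    (∃ W : Submodule F (Fin n → F), W ≠ ⊥ ∧ W ≠ ⊤ ∧ IsNondegenerateOn (hermForm n F q) W ∧
      2 * Module.finrank F W < n ∧ H ≤ subspaceStabilizer W) ∨
    (∃ (m : ℕ) (D : Fin 2 → Submodule F (Fin n → F)), IsNondegenerateMDecomposition (hermForm n F q) m D ∧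
      2 * m = n ∧ H ≤ decompositionStabilizer D) := by
  have hR := Cfsg.Agent.Helper5.AschF.RForm.of_hermForm (n := n) hF
  have hf : Refl (Cfsg.Agent.Helper3.AschU.sigq hF) (hermForm n F q) := ⟨hR.sesq, hR.refl⟩
  have hiso : ∀ g ∈ H, ∀ u v, hermForm n F q ((g : Matrix (Fin n) (Fin n) F) *ᵥ u)
      ((g : Matrix (Fin n) (Fin n) F) *ᵥ v) = hermForm n F q u v := fun g hg => hHI hg
  obtain ⟨W, hW0, hW1, hWle, h | ⟨hP0, hP1, hPle, hinf, hsup, hsum, hndW, hndP⟩⟩ :=
    refl_reducible_aux hf hR.nondeg hiso hred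
  · exact Or.inl ⟨W, hW0, hW1, h, hWle⟩
  rcases lt_trichotomy (2 * Module.finrank F W) n with hlt | heq | hgt
  · exact Or.inr (Or.inl ⟨W, hW0, hW1, hndW, hlt, hWle⟩)
  · have hpos : 0 < Module.finrank F W := by
      rcases Nat.eq_zero_or_pos (Module.finrank F W) with h0 | h0
      · exact absurd (Submodule.finrank_eq_zero.1 h0) hW0
      · exact h0
    refine Or.inr (Or.inr ⟨Module.finrank F W, ![W, perp hf W],
      nondegDecomp_pair hf hpos hinf hsup rfl (by omega) hndW hndP, heq, ?_⟩)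
    intro g hg
    refine ⟨1, fun i => ?_⟩
    fin_cases i
    · exact map_eq_of_mem_subspaceStabilizer (hWle hg)
    · exact map_eq_of_mem_subspaceStabilizer (hPle hg)
  · exact Or.inr (Or.inl ⟨perp hf W, hP0, hP1, hndP, by omega, hPle⟩)

end Cfsg.Agent.Helper3.AschCU
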