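import Mathlib
import Cfsg.Prelude.Def_GeometricClasses
import Cfsg.Agent.Lead.AschBase
import Cfsg.Agent.Helper3.AschForms
import Cfsg.Agent.Helper3.AschUSubA
import Cfsg.Agent.Helper3.AschUSubB
import Cfsg.Agent.Helper3.AschUSub
import Cfsg.Agent.Helper5.AschU2b
import Cfsg.Agent.Helper5.AschU5a

/-!
# ASCH-COMP-U piece V3 `subfield_unitary_gen` (helper3)

The subfield case with the Hermitian form in any dimension `n ≥ 2`: besides the odd-degree exit there are two exits of
degree two: the form restricted to the `F₁`-structure is `ζ⁻¹` times an alternating form (`ζ ^ q = - ζ`), or it is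
`F₁`-valued (symmetric) and `q` is odd.
-/

set_option autoImplicit false
set_option linter.unusedVariables false
set_option linter.unusedSectionVars false
set_option linter.style.haveILetI false

namespace Cfsg.Agent.Helper3.AschU

open Cfsg Cfsg.Geo Cfsg.Agent.Lead.Asch Cfsg.Agent.Helper3.Asch Cfsg.Agent.Helper7.Herm
  Cfsg.Agent.Helper6.Asch
open scoped MatrixGroups Matrix

variable {n : ℕ} {F : Type*} [Field F] [Fintype F] {q : ℕ}

/-- degree two, any `n ≥ 2`: the form is `ζ⁻¹` times an alternating `F₁`-form, or it is `F₁`-valued and `q` is odd -/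
theorem descent_two_gen (hF : Fintype.card F = q ^ 2) (hn2 : 2 ≤ n)
    {φ : (Fin n → F) → (Fin n → F) → F}
    (hφ : IsSesq (sigq hF) φ) (hnd : IsNondegenerateForm φ) (hherm : ∀ u v, φ v u = (φ u v) ^ q)
    {S : Set (Matrix (Fin n) (Fin n) F)} (hS : ActsAbsolutelyIrreducibly S)
    (hSu : ∀ s ∈ S, ∃ t : Matrix (Fin n) (Fin n) F, s * t = 1) (hfix : FixesForm S φ)
    (F₁ : Subfield F) (hF₁ : ∀ x, x ∈ F₁ ↔ x ^ q = x) (hSF : ∀ s ∈ S, ∀ i j, s i j ∈ F₁) :
    (∃ ζ : F, ζ ≠ 0 ∧ ζ + ζ ^ q = 0 ∧
      (∀ u v : Fin n → F, (∀ i, u i ∈ F₁) → (∀ i, v i ∈ F₁) → ζ * φ u v ∈ F₁) ∧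
      (∀ u : Fin n → F, (∀ i, u i ∈ F₁) → φ u u = 0)) ∨
    (Odd q ∧ ∀ u v : Fin n → F, (∀ i, u i ∈ F₁) → (∀ i, v i ∈ F₁) → φ u v ∈ F₁) := by
  classical
  -- the bilinear form g u v = φ u (conj v)
  set g : (Fin n → F) → (Fin n → F) → F := fun u v => φ u (fun i => (v i) ^ q) with hg
  have hgS : IsSesq (RingEquiv.refl F) g := by
    refine ⟨?_, ?_, ?_, ?_⟩
    · intro x y v
      simp only [hg, hφ.add_left]
    · intro c x v
      simp only [hg, hφ.smul_left]
    · intro v x y
      have e : (fun i => ((x + y) i) ^ q) = (fun i => (x i) ^ q) + (fun i => (y i) ^ q) := by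
        funext i
        simp only [Pi.add_apply, add_pow_q hF]
      simp only [hg, e, hφ.add_right]
    · intro c v x
      have e : (fun i => ((c • x) i) ^ q) = (c ^ q) • (fun i => (x i) ^ q) := by
        funext i
        simp only [Pi.smul_apply, smul_eq_mul, mul_pow]
      simp only [hg, e, hφ.smul_right, sigq_apply, pow_q_pow_q hF, RingEquiv.refl_apply]
  have hcc : ∀ v : Fin n → F, (fun i => ((fun i => (v i) ^ q) i) ^ q) = v := by
    intro v
    funext i
    exact pow_q_pow_q hF (v i)
  have hgnd : IsNondegenerateForm g := by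
    intro v hv
    have hv' : (fun i => (v i) ^ q) ≠ (0 : Fin n → F) := by
      intro h
      apply hv
      funext i
      have := congrFun h i
      simp only [Pi.zero_apply] at this
      exact pow_eq_zero_iff (by have := two_le_q hF; omega) |>.1 this
    constructor
    · obtain ⟨x, hx⟩ := (hnd _ hv').1
      exact ⟨x, hx⟩
    · obtain ⟨y, hy⟩ := (hnd _ hv).2
      refine ⟨fun i => (y i) ^ q, ?_⟩
      simp only [hg]
      rw [hcc y]
      exact hy
  have hgfix : FixesForm S g := by
    intro s hs u v
    simp only [hg]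
    have h1 := map_mulVec_of_fixed (sigq hF) s (fun i j => (hF₁ _).1 (hSF s hs i j)) v
    simp only [sigq_apply] at h1
    rw [h1, hfix s hs]
  have hg'S : IsSesq (RingEquiv.refl F) (fun u v => g v u) :=
    ⟨fun x y v => hgS.add_right v x y, fun c x v => by simpa using hgS.smul_right c v x,
      fun v x y => hgS.add_left x y v, fun c v x => by simpa using hgS.smul_left c x v⟩
  have hg'fix : FixesForm S (fun u v => g v u) := fun s hs u v => hgfix s hs v u
  obtain ⟨ε, hε⟩ := sesq_unique hgS hg'S hgnd hS hSu hgfix hg'fix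
  -- ε ^ 2 = 1
  obtain ⟨i, j, hij⟩ := exists_gram_ne_zero (by omega) hgS hgnd
  have hε2 : ε * ε = 1 := by
    have h1 := hε (bv i) (bv j)
    have h2 := hε (bv j) (bv i)
    rw [h1] at h2
    have h3 : (ε * ε) * g (bv i) (bv j) = 1 * g (bv i) (bv j) := by
      rw [one_mul, mul_assoc]; exact h2.symm
    exact mul_right_cancel₀ hij h3
  have hFix : ∀ u : Fin n → F, (∀ i, u i ∈ F₁) → (fun i => (u i) ^ q) = u := by
    intro u hu
    funext i
    exact (hF₁ _).1 (hu i)
  have hgφ : ∀ u v : Fin n → F, (∀ i, v i ∈ F₁) → g u v = φ u v := by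
    intro u v hv
    simp only [hg, hFix v hv]
  have h4 : (ε - 1) * (ε + 1) = 0 := by
    have : (ε - 1) * (ε + 1) = ε * ε - 1 := by ring
    rw [this, hε2, sub_self]
  rcases mul_eq_zero.1 h4 with h5 | h5
  · -- ε = 1: symmetric
    have hε1 : ε = 1 := sub_eq_zero.1 h5
    have hsymm : ∀ u v, g v u = g u v := by
      intro u v
      rw [hε u v, hε1, one_mul]
    have hval : ∀ u v : Fin n → F, (∀ i, u i ∈ F₁) → (∀ i, v i ∈ F₁) → φ u v ∈ F₁ := by
      intro u v hu hv
      rw [hF₁, ← hherm, ← hgφ v u hu, hsymm, hgφ u v hv]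
    by_cases hq : Odd q
    · exact Or.inr ⟨hq, hval⟩
    left
    have hchar : ringChar F = 2 := by
      apply FiniteField.even_card_iff_char_two.mpr
      rw [hF]
      have hqe : Even q := Nat.not_odd_iff_even.1 hq
      exact Nat.even_iff.mp (Nat.even_pow.2 ⟨hqe, by omega⟩)
    have h20 : (2 : F) = 0 := by
      have h3 := ringChar.Nat.cast_ringChar (R := F)
      rw [hchar] at h3
      exact_mod_cast h3
    have hneg : ∀ x : F, -x = x := by
      intro x
      have h4 : x + x = 0 := by rw [← two_mul, h20, zero_mul]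
      exact neg_eq_of_add_eq_zero_left h4
    have hQadd : ∀ u v, g (u + v) (u + v) = g u u + g v v := by
      intro u v
      rw [hgS.add_left, hgS.add_right, hgS.add_right, hsymm u v]
      have : g u v + g u v = 0 := by rw [← two_mul, h20, zero_mul]
      linear_combination this
    let W : Submodule F (Fin n → F) :=
      { carrier := {v | g v v = 0}
        add_mem' := by
          intro a b ha hb
          have ha' : g a a = 0 := ha
          have hb' : g b b = 0 := hb
          show g (a + b) (a + b) = 0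
          rw [hQadd, ha', hb', add_zero]
        zero_mem' := by
          show g 0 0 = 0
          have := hgS.smul_left 0 0 0
          simpa using this
        smul_mem' := by
          intro c v hv
          have hv' : g v v = 0 := hv
          show g (c • v) (c • v) = 0
          rw [hgS.smul_left, hgS.smul_right, hv', mul_zero, mul_zero] }
    have hWinv : ∀ s ∈ S, W.map (Matrix.toLin' s) ≤ W := by
      intro s hs
      rintro _ ⟨v, hv, rfl⟩
      show g _ _ = 0
      rw [Matrix.toLin'_apply, hgfix s hs]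
      exact hv
    have hdiag : ∀ u, g u u = 0 := by
      rcases hS.1 W hWinv with hW | hW
      · exfalso
        have hinj : Function.Injective (fun v : Fin n → F => g v v) := by
          intro u v huv
          simp only at huv
          have h5 : u + v ∈ W := by
            show g (u + v) (u + v) = 0
            rw [hQadd, huv, ← two_mul, h20, zero_mul]
          rw [hW, Submodule.mem_bot] at h5
          have h6 : u = - v := eq_neg_of_add_eq_zero_left h5
          rw [h6]
          funext k
          simp only [Pi.neg_apply, hneg]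
        have hle := Fintype.card_le_of_injective _ hinj
        rw [Fintype.card_fun, Fintype.card_fin] at hle
        have hF2 : 2 ≤ Fintype.card F := Fintype.one_lt_card
        have : Fintype.card F ^ 2 ≤ Fintype.card F ^ n := Nat.pow_le_pow_right (by omega) hn2
        nlinarith
      · intro u
        have : u ∈ W := by rw [hW]; trivial
        exact this
    refine ⟨1, one_ne_zero, ?_, ?_, ?_⟩
    · rw [one_pow, one_add_one_eq_two, h20]
    · intro u v hu hv
      rw [one_mul]
      exact hval u v hu hv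
    · intro u hu
      rw [← hgφ u u hu]
      exact hdiag u
  · -- ε = -1
    have hεm : ε = -1 := eq_neg_of_add_eq_zero_left h5
    by_cases h20 : (2 : F) = 0
    · -- then ε = 1 as well: reduce to the symmetric case by rewriting
      have hε1 : ε - 1 = 0 := by
        rw [hεm]
        have : (1 : F) + 1 = 0 := by rw [one_add_one_eq_two]; exact h20
        linear_combination (-1 : F) * this
      -- repeat the symmetric argument: simplest is to observe g is symmetric
      have hsymm : ∀ u v, g v u = g u v := by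
        intro u v
        rw [hε u v, sub_eq_zero.1 hε1, one_mul]
      have hval : ∀ u v : Fin n → F, (∀ i, u i ∈ F₁) → (∀ i, v i ∈ F₁) → φ u v ∈ F₁ := by
        intro u v hu hv
        rw [hF₁, ← hherm, ← hgφ v u hu, hsymm, hgφ u v hv]
      have hneg : ∀ x : F, -x = x := by
        intro x
        have h4 : x + x = 0 := by rw [← two_mul, h20, zero_mul]
        exact neg_eq_of_add_eq_zero_left h4
      -- in characteristic 2 with ε = -1 we also get g u u = - g u u, useless; use the subspace argument again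
      have hQadd : ∀ u v, g (u + v) (u + v) = g u u + g v v := by
        intro u v
        rw [hgS.add_left, hgS.add_right, hgS.add_right, hsymm u v]
        have : g u v + g u v = 0 := by rw [← two_mul, h20, zero_mul]
        linear_combination this
      let W : Submodule F (Fin n → F) :=
        { carrier := {v | g v v = 0}
          add_mem' := by
            intro a b ha hb
            have ha' : g a a = 0 := ha
            have hb' : g b b = 0 := hb
            show g (a + b) (a + b) = 0
            rw [hQadd, ha', hb', add_zero]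
          zero_mem' := by
            show g 0 0 = 0
            have := hgS.smul_left 0 0 0
            simpa using this
          smul_mem' := by
            intro c v hv
            have hv' : g v v = 0 := hv
            show g (c • v) (c • v) = 0
            rw [hgS.smul_left, hgS.smul_right, hv', mul_zero, mul_zero] }
      have hWinv : ∀ s ∈ S, W.map (Matrix.toLin' s) ≤ W := by
        intro s hs
        rintro _ ⟨v, hv, rfl⟩
        show g _ _ = 0
        rw [Matrix.toLin'_apply, hgfix s hs]
        exact hv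
      have hdiag : ∀ u, g u u = 0 := by
        rcases hS.1 W hWinv with hW | hW
        · exfalso
          have hinj : Function.Injective (fun v : Fin n → F => g v v) := by
            intro u v huv
            simp only at huv
            have h5 : u + v ∈ W := by
              show g (u + v) (u + v) = 0
              rw [hQadd, huv, ← two_mul, h20, zero_mul]
            rw [hW, Submodule.mem_bot] at h5
            have h6 : u = - v := eq_neg_of_add_eq_zero_left h5
            rw [h6]
            funext k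
            simp only [Pi.neg_apply, hneg]
          have hle := Fintype.card_le_of_injective _ hinj
          rw [Fintype.card_fun, Fintype.card_fin] at hle
          have hF2 : 2 ≤ Fintype.card F := Fintype.one_lt_card
          have : Fintype.card F ^ 2 ≤ Fintype.card F ^ n := Nat.pow_le_pow_right (by omega) hn2
          nlinarith
        · intro u
          have : u ∈ W := by rw [hW]; trivial
          exact this
      left
      refine ⟨1, one_ne_zero, ?_, ?_, ?_⟩
      · rw [one_pow, one_add_one_eq_two, h20]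
      · intro u v hu hv
        rw [one_mul]
        exact hval u v hu hv
      · intro u hu
        rw [← hgφ u u hu]
        exact hdiag u
    · -- genuinely skew: alternating
      left
      have hdiag : ∀ u, g u u = 0 := by
        intro u
        have h6 := hε u u
        rw [hεm] at h6
        have h7 : (2 : F) * g u u = 0 := by
          have : g u u + g u u = 0 := by nth_rewrite 1 [h6]; ring
          rw [two_mul]; exact this
        exact (mul_eq_zero.1 h7).resolve_left h20
      obtain ⟨x, hx⟩ := exists_pow_q_ne hF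
      have hζq : (x - x ^ q) ^ q = -(x - x ^ q) := by
        have := map_sub (sigq hF) x (x ^ q)
        simp only [sigq_apply] at this
        rw [this, pow_q_pow_q hF]
        ring
      refine ⟨x - x ^ q, sub_ne_zero.mpr (Ne.symm hx), ?_, ?_, ?_⟩
      · rw [hζq]; ring
      · intro u v hu hv
        rw [hF₁, mul_pow, hζq]
        have h8 : (φ u v) ^ q = - φ u v := by
          rw [← hherm, ← hgφ v u hu, hε u v, hεm, hgφ u v hv]
          ring
        rw [h8]
        ring
      · intro u hu
        rw [← hgφ u u hu]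
        exact hdiag u

/-- **V3** -/
theorem subfield_unitary_gen (hn2 : 2 ≤ n) (q : ℕ) (hF : Fintype.card F = q ^ 2)
    {H P : Subgroup (GL (Fin n) F)} (hPI : P ≤ GU n F q) (hnz : Nzes H P)
    (hP : ActsAbsolutelyIrreducibly (matrixSet P)) (F₀ : Subfield F) (h0 : F₀ ≠ ⊤)
    (hr : RealisableOver F₀ (matrixSet P)) :
    (∃ (F₁ : Subfield F) (r : ℕ) (Pm : GL (Fin n) F), r.Prime ∧ Odd r ∧
      Fintype.card F = Nat.card F₁ ^ r ∧ IsFormRationalStructure (hermForm n F q) F₁ 1 Pm ∧
      H ≤ subfieldSubgroup F₁ Pm) ∨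
    (∃ (F₁ : Subfield F) (Pm : GL (Fin n) F) (ζ : F), Fintype.card F = Nat.card F₁ ^ 2 ∧ ζ ≠ 0 ∧
      ζ + ζ ^ q = 0 ∧ IsFormRationalStructure (hermForm n F q) F₁ ζ Pm ∧
      (∀ u : Fin n → F, (∀ i, u i ∈ F₁) → hermForm n F q ((Pm : Matrix (Fin n) (Fin n) F) *ᵥ u)
        ((Pm : Matrix (Fin n) (Fin n) F) *ᵥ u) = 0) ∧
      H ≤ subfieldSubgroup F₁ Pm) ∨
    (Odd q ∧ ∃ (F₁ : Subfield F) (Pm : GL (Fin n) F), Fintype.card F = Nat.card F₁ ^ 2 ∧
      IsFormRationalStructure (hermForm n F q) F₁ 1 Pm ∧ H ≤ subfieldSubgroup F₁ Pm) := by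
  classical
  obtain ⟨τ, F₁, r, hrp, hcard, hfix0, hmem, hfixF₁⟩ := exists_prime_fixed_subfield' F₀ h0
  obtain ⟨B, hB⟩ := hr
  set Bm : Matrix (Fin n) (Fin n) F := (B : Matrix (Fin n) (Fin n) F) with hBm
  set Bi : Matrix (Fin n) (Fin n) F := ((B⁻¹ : GL (Fin n) F) : Matrix (Fin n) (Fin n) F) with hBi
  have hBiB : Bi * Bm = 1 := by
    rw [hBi, hBm, ← Units.val_mul, inv_mul_cancel, Units.val_one]
  have hBBi : Bm * Bi = 1 := by
    rw [hBi, hBm, ← Units.val_mul, mul_inv_cancel, Units.val_one]
  set S' : Set (Matrix (Fin n) (Fin n) F) := (fun s => Bm * s * Bi) '' matrixSet P with hS'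
  have hS'irr : ActsAbsolutelyIrreducibly S' := absIrr_conj hP B
  have hS'u : ∀ s ∈ S', ∃ t : Matrix (Fin n) (Fin n) F, s * t = 1 := by
    rintro _ ⟨s, hs, rfl⟩
    obtain ⟨x, hx, rfl⟩ := mem_matrixSet_iff.1 hs
    refine ⟨Bm * ((x⁻¹ : GL (Fin n) F) : Matrix (Fin n) (Fin n) F) * Bi, ?_⟩
    have hxx : (x : Matrix (Fin n) (Fin n) F) * ((x⁻¹ : GL (Fin n) F) : Matrix (Fin n) (Fin n) F) = 1 := by
      rw [← Units.val_mul, mul_inv_cancel, Units.val_one]
    calc Bm * (x : Matrix (Fin n) (Fin n) F) * Bi * (Bm * ((x⁻¹ : GL (Fin n) F) : Matrix (Fin n) (Fin n) F) * Bi)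
        = Bm * ((x : Matrix (Fin n) (Fin n) F) * ((Bi * Bm) *
            ((x⁻¹ : GL (Fin n) F) : Matrix (Fin n) (Fin n) F))) * Bi := by
          simp only [Matrix.mul_assoc]
      _ = 1 := by rw [hBiB, Matrix.one_mul, hxx, Matrix.mul_one, hBBi]
  have hτS : ∀ s ∈ S', ∀ i j, τ (s i j) = s i j := by
    rintro _ ⟨s, hs, rfl⟩ i j
    exact hfix0 _ (hB s hs i j)
  set φ : (Fin n → F) → (Fin n → F) → F := fun u v => hermForm n F q (Bi *ᵥ u) (Bi *ᵥ v) with hφdef
  have hφ : IsSesq (sigq hF) φ := by
    refine ⟨?_, ?_, ?_, ?_⟩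
    · intro x y v
      simp only [hφdef, Matrix.mulVec_add, hermForm_add_left]
    · intro c x v
      simp only [hφdef, Matrix.mulVec_smul, hermForm_smul_left]
    · intro v x y
      simp only [hφdef, Matrix.mulVec_add, hermForm_add_right hF]
    · intro c v x
      simp only [hφdef, Matrix.mulVec_smul, hermForm_smul_right, sigq_apply]
  have hBinj : ∀ v : Fin n → F, v ≠ 0 → Bi *ᵥ v ≠ 0 := by
    intro v hv h
    apply hv
    have := congrArg (fun x => Bm *ᵥ x) h
    simpa only [Matrix.mulVec_mulVec, hBBi, Matrix.one_mulVec, Matrix.mulVec_zero] using this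
  have hnd : IsNondegenerateForm φ := by
    intro v hv
    have hnd0 := Cfsg.Agent.Helper5.Asch.hermForm_nondegenerate (n := n) hF _ (hBinj v hv)
    constructor
    · obtain ⟨x, hx⟩ := hnd0.1
      refine ⟨Bm *ᵥ x, ?_⟩
      simp only [hφdef, Matrix.mulVec_mulVec, hBiB, Matrix.one_mulVec]
      exact hx
    · obtain ⟨x, hx⟩ := hnd0.2
      refine ⟨Bm *ᵥ x, ?_⟩
      simp only [hφdef, Matrix.mulVec_mulVec, hBiB, Matrix.one_mulVec]
      exact hx
  have hherm : ∀ u v, φ v u = (φ u v) ^ q := by
    intro u v
    simp only [hφdef]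
    exact hermForm_swap hF _ _
  have hfix : FixesForm S' φ := by
    rintro _ ⟨s, hs, rfl⟩ u v
    obtain ⟨x, hx, rfl⟩ := mem_matrixSet_iff.1 hs
    have hiso : ∀ u v, hermForm n F q ((x : Matrix (Fin n) (Fin n) F) *ᵥ u)
        ((x : Matrix (Fin n) (Fin n) F) *ᵥ v) = hermForm n F q u v := hPI hx
    have e : ∀ w : Fin n → F, Bi *ᵥ ((Bm * (x : Matrix (Fin n) (Fin n) F) * Bi) *ᵥ w) =
        (x : Matrix (Fin n) (Fin n) F) *ᵥ (Bi *ᵥ w) := by
      intro w
      rw [Matrix.mulVec_mulVec, Matrix.mulVec_mulVec, ← Matrix.mul_assoc, ← Matrix.mul_assoc, hBiB,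
        Matrix.one_mul]
    simp only [hφdef]
    rw [e, e, hiso]
  have hcore : ∀ h ∈ H, B * h * B⁻¹ ∈
      (Matrix.GeneralLinearGroup.map (F₁.subtype : F₁ →+* F)).range ⊔ scalars (Fin n) F :=
    fun h hh => subfield_core (by omega) hnz hP τ F₁ hmem B (fun s hs i j => hfix0 _ (hB s hs i j)) h hh
  rcases hrp.eq_two_or_odd' with h2 | hodd
  · -- degree two
    right
    subst h2
    have hF₁ : ∀ x, x ∈ F₁ ↔ x ^ q = x := mem_iff_pow_q_eq hF F₁ hcard
    have hSF : ∀ s ∈ S', ∀ i j, s i j ∈ F₁ := fun s hs i j => hmem _ (hτS s hs i j)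
    have hle : H ≤ subfieldSubgroup F₁ B⁻¹ := by
      apply le_subfieldSubgroup_of_conj F₁ B B⁻¹ hcore
      intro h
      group
    rcases descent_two_gen hF hn2 hφ hnd hherm hS'irr hS'u hfix F₁ hF₁ hSF with
      ⟨ζ, hζ0, hζ, hrat, halt⟩ | ⟨hq, hrat⟩
    · exact Or.inl ⟨F₁, B⁻¹, ζ, hcard, hζ0, hζ, fun u v hu hv => hrat u v hu hv, fun u hu => halt u hu, hle⟩
    · refine Or.inr ⟨hq, F₁, B⁻¹, hcard, ?_, hle⟩
      intro u v hu hv
      rw [one_mul]
      exact hrat u v hu hv
  · -- odd degree
    left
    obtain ⟨a, ha0, haq, hrat⟩ := descent_odd hF (by omega) hφ hnd hherm hS'irr hS'u hfix τ hτS F₁ hfixF₁ hmem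
      r hodd hcard
    obtain ⟨α, hα⟩ := Cfsg.Agent.Helper5.AschU.exists_norm_eq hF a haq ha0
    have hα0 : α ≠ 0 := by
      rintro rfl
      rw [zero_pow (by omega)] at hα
      exact ha0 hα.symm
    let αu : Fˣ := Units.mk0 α hα0
    let z : GL (Fin n) F :=
      Units.map (Matrix.scalar (Fin n) : F →+* Matrix (Fin n) (Fin n) F).toMonoidHom αu
    have hz : (z : Matrix (Fin n) (Fin n) F) = α • (1 : Matrix (Fin n) (Fin n) F) := by
      simp [z, αu, Matrix.smul_one_eq_diagonal]
    have hzc : ∀ g : GL (Fin n) F, z * g = g * z := by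
      intro g
      apply Units.ext
      rw [Units.val_mul, Units.val_mul, hz, Matrix.smul_mul, Matrix.one_mul, Matrix.mul_smul, Matrix.mul_one]
    refine ⟨F₁, r, z * B⁻¹, hrp, hodd, hcard, ?_, ?_⟩
    · intro u v hu hv
      rw [one_mul]
      have e : ∀ w : Fin n → F, ((z * B⁻¹ : GL (Fin n) F) : Matrix (Fin n) (Fin n) F) *ᵥ w =
          α • (Bi *ᵥ w) := by
        intro w
        rw [Units.val_mul, hz, Matrix.smul_mul, Matrix.one_mul, Matrix.smul_mulVec]
      rw [e, e, hermForm_smul_left, hermForm_smul_right, ← mul_assoc, ← pow_succ', hα]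
      exact hrat u v hu hv
    · apply le_subfieldSubgroup_of_conj F₁ B (z * B⁻¹) hcore
      intro h
      have h1 : z * B⁻¹ * (B * h * B⁻¹) * (z * B⁻¹)⁻¹ = z * h * z⁻¹ := by group
      rw [h1, hzc h]
      group

end Cfsg.Agent.Helper3.AschU
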