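import Mathlib
import Cfsg.Prelude.Def_GeometricClasses
import Cfsg.Agent.Lead.AschBase
import Cfsg.Agent.Helper3.AschForms
import Cfsg.Agent.Helper3.AschUSubA
import Cfsg.Agent.Helper3.AschUSubC
import Cfsg.Agent.Helper3.AschCUV1
import Cfsg.Agent.Helper5.AschU2b
import Cfsg.Agent.Helper5.AschU5
import Cfsg.Agent.Helper5.AschForm5
import Cfsg.Agent.Helper5.AschHom4
import Cfsg.Agent.Helper7.AschNotSUA
import Cfsg.Agent.Helper7.AschNotSUF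
import Cfsg.Agent.Helper7.AschCUV7
import Cfsg.Agent.Helper6.AschCompSym
import Cfsg.Agent.Helper6.AschCompCliff
import Cfsg.Agent.Helper9.AschCompK
import Cfsg.Agent.Helper9.AschCompTensor
import Cfsg.Agent.Helper9.AschCompHom
import Cfsg.Agent.Helper4.AschPPC
import Cfsg.Agent.Lead.AschCUV4

/-!
# ASCH-COMP-U assembly (helper3): Aschbacher's theorem for `SU_n(q)`, `n ≥ 4` not a prime power

Targets S5841 (`SU_10`) and S5865 (`SU_12`).  The pieces that were not yet landed when this file was written enter through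
the hypothesis structure `PiecesCU` (V2b `fieldExit`, V2c `tensorForm`, V8a `refineTwo`, V8b `tensorTwo`).
-/

set_option autoImplicit false
set_option linter.unusedSectionVars false
set_option linter.unusedVariables false
set_option linter.unusedTactic false
set_option linter.unreachableTactic false

namespace Cfsg.Agent.Helper3.AschCU

open Cfsg Cfsg.Geo Cfsg.Agent.Lead.Asch
open scoped MatrixGroups Matrix Kronecker

variable {n : ℕ} {F : Type*} [Field F] [Fintype F]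

/-- the pieces V2b, V2c, V8a, V8b of the blueprint as hypotheses -/
structure PiecesCU (n : ℕ) (F : Type*) [Field F] [Fintype F] (q : ℕ) : Prop where
  fieldExit : ∀ {H N : Subgroup (GL (Fin n) F)}, N ≤ GU n F q → Nzes H N →
    (∀ X : Submodule F (Fin n → F), Cfsg.Agent.Helper5.Asch.FullyInv N X → X = ⊥ ∨ X = ⊤) →
    (∃ (r : ℕ) (K : Subalgebra F (Matrix (Fin n) (Fin n) F)), r.Prime ∧ Odd r ∧ r ∣ n ∧ IsFieldSubalgebra r K ∧
      IsAdjointClosedFor (hermForm n F q) K ∧ H ≤ subalgebraNormalizer K) ∨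
    (∀ M : Matrix (Fin n) (Fin n) F, (∀ s ∈ matrixSet N, M * s = s * M) →
      (∀ c : Matrix (Fin n) (Fin n) F, (∀ s ∈ matrixSet N, c * s = s * c) → M * c = c * M) →
      ∃ a : F, M = a • (1 : Matrix (Fin n) (Fin n) F))
  tensorForm : ∀ {d e : ℕ}, 0 < d → 0 < e → ∀ (eqv : Fin n ≃ Fin e × Fin d) (P : GL (Fin n) F)
    {N : Subgroup (GL (Fin n) F)}, N ≤ GU n F q → ∀ (ρ : N →* GL (Fin d) F),
    (∀ x : N, ((x : GL (Fin n) F) : Matrix (Fin n) (Fin n) F) * (P : Matrix (Fin n) (Fin n) F) =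
      (P : Matrix (Fin n) (Fin n) F) * ((1 : Matrix (Fin e) (Fin e) F) ⊗ₖ
        ((ρ x : GL (Fin d) F) : Matrix (Fin d) (Fin d) F)).submatrix eqv eqv) →
    ActsAbsolutelyIrreducibly
      (Set.range fun x : N => ((ρ x : GL (Fin d) F) : Matrix (Fin d) (Fin d) F)) →
    ∃ (f₁ : (Fin e → F) → (Fin e → F) → F) (f₂ : (Fin d → F) → (Fin d → F) → F),
      IsUnitaryFormPow q f₁ ∧ IsUnitaryFormPow q f₂ ∧
      IsTensorFormStructure (fun x : F => x ^ q) (hermForm n F q) f₁ f₂ eqv P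
  refineTwo : q = 2 → ∀ {t : ℕ} (D : Fin t → Submodule F (Fin n → F)),
    IsNondegenerateMDecomposition (hermForm n F q) 2 D →
    ∃ D' : Fin (t * 2) → Submodule F (Fin n → F), IsNondegenerateMDecomposition (hermForm n F q) 1 D' ∧
      decompositionStabilizer D ⊓ GU n F q ≤ decompositionStabilizer D'
  tensorTwo : q = 2 → ∀ (n₂ : ℕ) (e : Fin n ≃ Fin 2 × Fin n₂)
    (P : GL (Fin n) F) (f₁ : (Fin 2 → F) → (Fin 2 → F) → F) (f₂ : (Fin n₂ → F) → (Fin n₂ → F) → F),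
    IsUnitaryFormPow q f₁ → IsUnitaryFormPow q f₂ →
    IsTensorFormStructure (fun x : F => x ^ q) (hermForm n F q) f₁ f₂ e P →
    ∃ D : Fin 2 → Submodule F (Fin n → F), IsNondegenerateMDecomposition (hermForm n F q) n₂ D ∧
      tensorProductSubgroup 2 n₂ e P ⊓ GU n F q ≤ decompositionStabilizer D

/-! ## V2: Clifford theory inside `GU_n(q)` -/

theorem clifford_comp_unitary (hn : 0 < n) (q : ℕ) (hF : Fintype.card F = q ^ 2) (hp : PiecesCU n F q)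
    {H N : Subgroup (GL (Fin n) F)} (hHI : H ≤ GU n F q)
    (hH : ActsIrreducibly (matrixSet H)) (hNH : N ≤ H) (hnz : Nzes H N) :
    (∃ (t m : ℕ) (D : Fin t → Submodule F (Fin n → F)), IsNondegenerateMDecomposition (hermForm n F q) m D ∧
      t * m = n ∧ H ≤ decompositionStabilizer D) ∨
    (∃ (m : ℕ) (D : Fin 2 → Submodule F (Fin n → F)), IsMDecomposition m D ∧ 2 * m = n ∧
      (∀ i, IsTotallySingularFor (hermForm n F q) (D i)) ∧ H ≤ decompositionStabilizer D) ∨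
    (∃ (r : ℕ) (K : Subalgebra F (Matrix (Fin n) (Fin n) F)), r.Prime ∧ Odd r ∧ r ∣ n ∧ IsFieldSubalgebra r K ∧
      IsAdjointClosedFor (hermForm n F q) K ∧ H ≤ subalgebraNormalizer K) ∨
    (∃ (n₁ n₂ : ℕ) (e : Fin n ≃ Fin n₁ × Fin n₂) (P : GL (Fin n) F)
      (f₁ : (Fin n₁ → F) → (Fin n₁ → F) → F) (f₂ : (Fin n₂ → F) → (Fin n₂ → F) → F), 2 ≤ n₁ ∧ 2 ≤ n₂ ∧
      IsUnitaryFormPow q f₁ ∧ IsUnitaryFormPow q f₂ ∧
      IsTensorFormStructure (fun x : F => x ^ q) (hermForm n F q) f₁ f₂ e P ∧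
      H ≤ tensorProductSubgroup n₁ n₂ e P) ∨
    N ≤ scalars (Fin n) F ∨ ActsAbsolutelyIrreducibly (matrixSet N) := by
  rcases Cfsg.Agent.Helper5.AschF.clifford_unitary hn hF hHI hH hNH hnz with
    ⟨t, m, D, hD, hle, -, -⟩ | ⟨m, D, hD, hts, hle, -, -⟩ | hhom
  · exact Or.inl ⟨t, m, D, hD, Cfsg.Agent.Helper6.AschComp.card_mul_of_isMDecomposition D hD.decomp, hle⟩
  · exact Or.inr (Or.inl ⟨m, D, hD, Cfsg.Agent.Helper6.AschComp.card_mul_of_isMDecomposition D hD, hts, hle⟩)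
  have hNI : N ≤ GU n F q := hNH.trans hHI
  rcases hp.fieldExit hNI hnz hhom with hK | hct
  · exact Or.inr (Or.inr (Or.inl hK))
  obtain ⟨d, e, eqv, P, ρ, hd, he, hrel, hirr, hdvd⟩ := Cfsg.Agent.Helper5.Asch.homog_data hn hH hnz hhom
  have habs := Cfsg.Agent.Helper9.AschComp.rho_absIrred_of_centreTrivial he eqv P ρ hrel hirr hct
  have hcard : n = e * d := by
    have := Fintype.card_congr eqv
    simpa using this
  by_cases hd1 : d = 1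
  · subst hd1
    exact Or.inr (Or.inr (Or.inr (Or.inr (Or.inl
      (Cfsg.Agent.Helper9.AschComp.le_scalars_of_dim_one eqv P ρ hrel)))))
  by_cases he1 : e = 1
  · subst he1
    have hdn : d = n := by omega
    refine Or.inr (Or.inr (Or.inr (Or.inr (Or.inr
      (Cfsg.Agent.Helper9.AschComp.absIrred_of_dvd hn (fun X hX => ?_) hct)))))
    have h1 := hdvd X hX
    rw [hdn] at h1
    exact h1
  · obtain ⟨f₁, f₂, h₁, h₂, hT⟩ := hp.tensorForm hd he eqv P hNI ρ hrel habs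
    refine Or.inr (Or.inr (Or.inr (Or.inl ⟨e, d, eqv, P, f₁, f₂, by omega, by omega, h₁, h₂, hT,
      fun g hg => ?_⟩)))
    exact Cfsg.Agent.Helper9.AschComp.tensor_exit hn eqv P
      (fun x => ((ρ x : GL (Fin d) F) : Matrix (Fin d) (Fin d) F)) hrel habs (fun x hx => hnz g hg x hx)

/-! ## swapping the two tensor factors -/

theorem formOfGram_swap {n₁ n₂ : ℕ} (σ : F → F) (G₁ : Matrix (Fin n₁) (Fin n₁) F) (G₂ : Matrix (Fin n₂) (Fin n₂) F)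
    (x y : Fin n₂ × Fin n₁ → F) :
    formOfGram σ (G₁ ⊗ₖ G₂) (x ∘ Prod.swap) (y ∘ Prod.swap) = formOfGram σ (G₂ ⊗ₖ G₁) x y := by
  unfold formOfGram
  rw [← Equiv.sum_comp (Equiv.prodComm (Fin n₂) (Fin n₁))]
  apply Finset.sum_congr rfl
  intro a _
  rw [← Equiv.sum_comp (Equiv.prodComm (Fin n₂) (Fin n₁))]
  apply Finset.sum_congr rfl
  intro b _
  simp only [Equiv.prodComm_apply, Function.comp_apply, Prod.swap_swap, Matrix.kroneckerMap_apply,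
    Prod.fst_swap, Prod.snd_swap]
  ring

theorem tensorForm_swap {n₁ n₂ : ℕ} (σ : F → F) (f : (Fin n → F) → (Fin n → F) → F)
    (f₁ : (Fin n₁ → F) → (Fin n₁ → F) → F) (f₂ : (Fin n₂ → F) → (Fin n₂ → F) → F)
    (e : Fin n ≃ Fin n₁ × Fin n₂) (P : GL (Fin n) F) (h : IsTensorFormStructure σ f f₁ f₂ e P) :
    IsTensorFormStructure σ f f₂ f₁ (e.trans (Equiv.prodComm (Fin n₁) (Fin n₂))) P := by
  obtain ⟨c, hc0, hc⟩ := h
  refine ⟨c, hc0, fun x y => ?_⟩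
  have hx : ∀ z : Fin n₂ × Fin n₁ → F, z ∘ (e.trans (Equiv.prodComm (Fin n₁) (Fin n₂))) = (z ∘ Prod.swap) ∘ e := by
    intro z
    funext i
    rfl
  rw [hx, hx, hc, formOfGram_swap]

/-! ## assembly -/

/-- abbreviation: `SU_n(q)` inside `GL_n` -/
abbrev SUg (n : ℕ) (F : Type*) [Field F] (q : ℕ) : Subgroup (GL (Fin n) F) := GU n F q ⊓ specialLinear (Fin n) F

/-- Aschbacher's theorem for `SU_n(q)`, `n ≥ 4` not a prime power, generic form. -/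
theorem asch_comp_unitary (hn4 : 4 ≤ n) (hnpp : ¬ ∃ r k : ℕ, r.Prime ∧ n = r ^ k)
    (hpp : ¬ ∃ d k : ℕ, 2 ≤ d ∧ 2 ≤ k ∧ n = d ^ k) (q : ℕ) (hF : Fintype.card F = q ^ 2)
    (hp : PiecesCU n F q) (H : Subgroup (GL (Fin n) F)) (hH : IsMaximalIn (SUg n F q) H) :
    (∃ W : Submodule F (Fin n → F), W ≠ ⊥ ∧ IsTotallySingularFor (hermForm n F q) W ∧
      H = subspaceStabilizer W ⊓ SUg n F q) ∨
    (∃ W : Submodule F (Fin n → F), W ≠ ⊥ ∧ IsNondegenerateOn (hermForm n F q) W ∧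
      2 * Module.finrank F W < n ∧ H = subspaceStabilizer W ⊓ SUg n F q) ∨
    (∃ (t m : ℕ) (D : Fin t → Submodule F (Fin n → F)), IsNondegenerateMDecomposition (hermForm n F q) m D ∧
      t * m = n ∧ ¬ (m = 2 ∧ q = 2) ∧ H = decompositionStabilizer D ⊓ SUg n F q) ∨
    (∃ (m : ℕ) (D : Fin 2 → Submodule F (Fin n → F)), IsMDecomposition m D ∧ 2 * m = n ∧
      (∀ i, IsTotallySingularFor (hermForm n F q) (D i)) ∧ H = decompositionStabilizer D ⊓ SUg n F q) ∨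
    (∃ (r : ℕ) (K : Subalgebra F (Matrix (Fin n) (Fin n) F)), r.Prime ∧ Odd r ∧ r ∣ n ∧ IsFieldSubalgebra r K ∧
      IsAdjointClosedFor (hermForm n F q) K ∧ H = subalgebraNormalizer K ⊓ SUg n F q) ∨
    (∃ (n₁ n₂ : ℕ) (e : Fin n ≃ Fin n₁ × Fin n₂) (P : GL (Fin n) F)
      (f₁ : (Fin n₁ → F) → (Fin n₁ → F) → F) (f₂ : (Fin n₂ → F) → (Fin n₂ → F) → F), 2 ≤ n₁ ∧ 2 ≤ n₂ ∧
      ¬ ((n₁ = 2 ∨ n₂ = 2) ∧ q = 2) ∧ IsUnitaryFormPow q f₁ ∧ IsUnitaryFormPow q f₂ ∧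
      IsTensorFormStructure (fun x : F => x ^ q) (hermForm n F q) f₁ f₂ e P ∧
      H = tensorProductSubgroup n₁ n₂ e P ⊓ SUg n F q) ∨
    (∃ (F₀ : Subfield F) (r : ℕ) (P : GL (Fin n) F), r.Prime ∧ Odd r ∧ Fintype.card F = Nat.card F₀ ^ r ∧
      IsFormRationalStructure (hermForm n F q) F₀ 1 P ∧ H = subfieldSubgroup F₀ P ⊓ SUg n F q) ∨
    (∃ (F₀ : Subfield F) (P : GL (Fin n) F) (ζ : F), Fintype.card F = Nat.card F₀ ^ 2 ∧ ζ ≠ 0 ∧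
      ζ + ζ ^ q = 0 ∧ IsFormRationalStructure (hermForm n F q) F₀ ζ P ∧
      (∀ u : Fin n → F, (∀ i, u i ∈ F₀) → hermForm n F q ((P : Matrix (Fin n) (Fin n) F) *ᵥ u)
        ((P : Matrix (Fin n) (Fin n) F) *ᵥ u) = 0) ∧
      H = subfieldSubgroup F₀ P ⊓ SUg n F q) ∨
    (Odd q ∧ ∃ (F₀ : Subfield F) (P : GL (Fin n) F), Fintype.card F = Nat.card F₀ ^ 2 ∧
      IsFormRationalStructure (hermForm n F q) F₀ 1 P ∧ H = subfieldSubgroup F₀ P ⊓ SUg n F q) ∨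
    InUnitaryResidualClass H := by
  have hHG : H ≤ SUg n F q := hH.1.le
  have hHI : H ≤ GU n F q := hHG.trans inf_le_left
  have hnotsub : ∀ (F₁ : Subfield F) (r : ℕ), r.Prime → Fintype.card F = Nat.card F₁ ^ r →
      ∀ Pm : GL (Fin n) F, ¬ SUg n F q ≤ subfieldSubgroup F₁ Pm := fun F₁ r hr hc Pm =>
    Cfsg.Agent.Helper7.AschU.not_le_subfieldSubgroup_SU q hF (by omega) F₁ (subfield_ne_top_of_card F₁ r hr hc) Pm
  -- exits
  have exitD : (∃ (t m : ℕ) (D : Fin t → Submodule F (Fin n → F)),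
      IsNondegenerateMDecomposition (hermForm n F q) m D ∧ t * m = n ∧ H ≤ decompositionStabilizer D) →
      (∃ (t m : ℕ) (D : Fin t → Submodule F (Fin n → F)), IsNondegenerateMDecomposition (hermForm n F q) m D ∧
      t * m = n ∧ ¬ (m = 2 ∧ q = 2) ∧ H = decompositionStabilizer D ⊓ SUg n F q) := by
    rintro ⟨t, m, D, hD, htm, hle⟩
    by_cases h2 : m = 2 ∧ q = 2
    · obtain ⟨rfl, hq2⟩ := h2
      obtain ⟨D', hD', hle'⟩ := hp.refineTwo hq2 D hD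
      refine ⟨t * 2, 1, D', hD', by omega, by omega, eq_inf_of_le hH (fun h hh => hle' ⟨hle hh, hHI hh⟩)
        (Cfsg.Agent.Helper7.AschCU.not_le_decompositionStabilizer_SU_nondeg q hF hn4 1 D' hD')⟩
    · exact ⟨t, m, D, hD, htm, h2, eq_inf_of_le hH hle (Cfsg.Agent.Helper7.AschCU.not_le_decompositionStabilizer_SU_nondeg q hF hn4 m D hD)⟩
  -- Step 1: reducible
  by_cases hirr : ActsIrreducibly (matrixSet H)
  swap
  · rcases unitary_reducible_gen q hF hHI hirr with ⟨W, h0, h1, hts, hle⟩ | ⟨W, h0, h1, hnd, hdim, hle⟩ |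
      ⟨m, D, hD, hm, hle⟩
    · exact Or.inl ⟨W, h0, hts, eq_inf_of_le hH hle
        (Cfsg.Agent.Helper7.AschU.not_le_subspaceStabilizer_SU q hF (by omega) W h0 h1)⟩
    · exact Or.inr (Or.inl ⟨W, h0, hnd, hdim, eq_inf_of_le hH hle
        (Cfsg.Agent.Helper7.AschU.not_le_subspaceStabilizer_SU q hF (by omega) W h0 h1)⟩)
    · exact Or.inr (Or.inr (Or.inl (exitD ⟨2, m, D, hD, hm, hle⟩)))
  -- Step 2: imprimitive
  by_cases hC2 : ∃ (t m : ℕ) (D : Fin t → Submodule F (Fin n → F)),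
      IsNondegenerateMDecomposition (hermForm n F q) m D ∧ t * m = n ∧ H ≤ decompositionStabilizer D
  · exact Or.inr (Or.inr (Or.inl (exitD hC2)))
  by_cases hC2' : ∃ (m : ℕ) (D : Fin 2 → Submodule F (Fin n → F)), IsMDecomposition m D ∧ 2 * m = n ∧
      (∀ i, IsTotallySingularFor (hermForm n F q) (D i)) ∧ H ≤ decompositionStabilizer D
  · obtain ⟨m, D, hD, hm, hts, hle⟩ := hC2'
    exact Or.inr (Or.inr (Or.inr (Or.inl ⟨m, D, hD, hm, hts, eq_inf_of_le hH hle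
      (Cfsg.Agent.Helper7.AschCU.not_le_decompositionStabilizer_SU_sing q hF hn4 m D hD hts)⟩)))
  -- Step 3: extension field
  by_cases hC3 : ∃ (r : ℕ) (K : Subalgebra F (Matrix (Fin n) (Fin n) F)), r.Prime ∧ Odd r ∧ r ∣ n ∧
      IsFieldSubalgebra r K ∧ IsAdjointClosedFor (hermForm n F q) K ∧ H ≤ subalgebraNormalizer K
  · obtain ⟨r, K, hr, hro, hrn, hK, hadj, hle⟩ := hC3
    exact Or.inr (Or.inr (Or.inr (Or.inr (Or.inl ⟨r, K, hr, hro, hrn, hK, hadj, eq_inf_of_le hH hle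
      (Cfsg.Agent.Helper7.AschCU.not_le_subalgebraNormalizer_SU_gen q hF (by omega) r hr.two_le K hK)⟩))))
  -- Step 4: tensor
  by_cases hC4 : ∃ (n₁ n₂ : ℕ) (e : Fin n ≃ Fin n₁ × Fin n₂) (P : GL (Fin n) F)
      (f₁ : (Fin n₁ → F) → (Fin n₁ → F) → F) (f₂ : (Fin n₂ → F) → (Fin n₂ → F) → F), 2 ≤ n₁ ∧ 2 ≤ n₂ ∧
      IsUnitaryFormPow q f₁ ∧ IsUnitaryFormPow q f₂ ∧
      IsTensorFormStructure (fun x : F => x ^ q) (hermForm n F q) f₁ f₂ e P ∧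
      H ≤ tensorProductSubgroup n₁ n₂ e P
  · obtain ⟨n₁, n₂, e, P, f₁, f₂, h1, h2, hf₁, hf₂, hT, hle⟩ := hC4
    have hcard : n = n₁ * n₂ := by
      have := Fintype.card_congr e
      simpa using this
    by_cases hq : (n₁ = 2 ∨ n₂ = 2) ∧ q = 2
    · exfalso
      obtain ⟨h12, hq2⟩ := hq
      rcases h12 with rfl | rfl
      · obtain ⟨D, hD, hDle⟩ := hp.tensorTwo hq2 n₂ e P f₁ f₂ hf₁ hf₂ hT
        exact hC2 ⟨2, n₂, D, hD, hcard.symm, fun h hh => hDle ⟨hle hh, hHI hh⟩⟩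
      · rw [Cfsg.Agent.Helper9.AschCompK.tensorProductSubgroup_swap] at hle
        obtain ⟨D, hD, hDle⟩ := hp.tensorTwo hq2 n₁ _ P f₂ f₁ hf₂ hf₁ (tensorForm_swap _ _ f₁ f₂ e P hT)
        exact hC2 ⟨2, n₁, D, hD, by rw [hcard, mul_comm], fun h hh => hDle ⟨hle hh, hHI hh⟩⟩
    · exact Or.inr (Or.inr (Or.inr (Or.inr (Or.inr (Or.inl ⟨n₁, n₂, e, P, f₁, f₂, h1, h2, hq, hf₁, hf₂, hT,
        eq_inf_of_le hH hle (Cfsg.Agent.Helper7.AschCU.not_le_tensorProductSubgroup_SU q hF n₁ n₂ h1 h2 e P)⟩)))))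
  -- Step 5: all normal subgroups are scalar or absolutely irreducible
  have hall : ∀ M : Subgroup (GL (Fin n) F), M ≤ H → Nzes H M →
      M ≤ scalars (Fin n) F ∨ ActsAbsolutelyIrreducibly (matrixSet M) := by
    intro M hMH hMnz
    rcases clifford_comp_unitary (by omega) q hF hp hHI hirr hMH hMnz with h | h | h | h | h | h
    · exact absurd h hC2
    · exact absurd h hC2'
    · exact absurd h hC3
    · exact absurd h hC4
    · exact Or.inl h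
    · exact Or.inr h
  have hHns : ¬ H ≤ scalars (Fin n) F := not_le_scalars_of_irred (by omega) hirr
  obtain ⟨N, hNH, hNnz, hNns, hmin⟩ := exists_minimal hHns
  have hNabs : ActsAbsolutelyIrreducibly (matrixSet N) := (hall N hNH hNnz).resolve_left hNns
  have hNI : N ≤ GU n F q := hNH.trans hHI
  by_cases hsub : ∃ F₀ : Subfield F, F₀ ≠ ⊤ ∧ RealisableOver F₀ (matrixSet N)
  · obtain ⟨F₀, h0, hr⟩ := hsub
    rcases Cfsg.Agent.Helper3.AschU.subfield_unitary_gen (by omega) q hF hNI hNnz hNabs F₀ h0 hr with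
      ⟨F₁, r, Pm, hr, hro, hc, hfr, hle⟩ | ⟨F₁, Pm, ζ, hc, hζ0, hζ, hfr, halt, hle⟩ | ⟨hq, F₁, Pm, hc, hfr, hle⟩
    · exact Or.inr (Or.inr (Or.inr (Or.inr (Or.inr (Or.inr (Or.inl ⟨F₁, r, Pm, hr, hro, hc, hfr,
        eq_inf_of_le hH hle (hnotsub F₁ r hr hc Pm)⟩))))))
    · exact Or.inr (Or.inr (Or.inr (Or.inr (Or.inr (Or.inr (Or.inr (Or.inl ⟨F₁, Pm, ζ, hc, hζ0, hζ, hfr, halt,
        eq_inf_of_le hH hle (hnotsub F₁ 2 Nat.prime_two hc Pm)⟩)))))))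
    · exact Or.inr (Or.inr (Or.inr (Or.inr (Or.inr (Or.inr (Or.inr (Or.inr (Or.inl ⟨hq, F₁, Pm, hc, hfr,
        eq_inf_of_le hH hle (hnotsub F₁ 2 Nat.prime_two hc Pm)⟩))))))))
  by_cases hperf : ⁅N, N⁆ = N
  · -- perfect case
    obtain ⟨hsimp, hnab, hcent⟩ := Cfsg.Agent.Helper4.AschP.perfect_case_pp (by omega) hpp hNH hNnz hNns hall hmin hperf
    refine Or.inr (Or.inr (Or.inr (Or.inr (Or.inr (Or.inr (Or.inr (Or.inr (Or.inr ⟨N, ?_, ?_, ?_⟩))))))))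
    · exact
        { le := hNH
          normal := hNnz
          perfect := hperf
          simple := hsimp
          nonabelian := hnab
          centralizer_scalar := hcent
          absIrred := hNabs
          no_subfield := fun F₀ h0 hr => hsub ⟨F₀, h0, hr⟩ }
    · rintro ⟨Q, hQ, hfix⟩
      exact hsub (Cfsg.Agent.Helper5.AschU.realisable_of_fixes_quad q hF (by omega) hNI hNabs Q hQ hfix)
    · rintro ⟨f, hf, hfix⟩
      exact hsub (Cfsg.Agent.Lead.AschCU.realisable_of_fixes_symp q hF (by omega) hNI hNabs f hf hfix)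
  · -- symplectic-type case: impossible, `n` is not a prime power
    exfalso
    have hcomm : ⁅N, N⁆ ≤ scalars (Fin n) F := by
      by_contra hc
      exact hperf (hmin _ (Subgroup.commutator_le_self N) (nzes_commutator hNnz) hc)
    exact hnpp (Cfsg.Agent.Helper6.AschComp.symplectic_type_prime_pow (by omega) hNH hNnz hNns hNabs hmin hcomm)


/-! ## arithmetic of the dimensions -/

theorem not_prime_pow_10 (r k : ℕ) (hr : r.Prime) (h : 10 = r ^ k) : False := by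
  have h2 : 2 ∣ r ^ k := ⟨5, by omega⟩
  have h5 : 5 ∣ r ^ k := ⟨2, by omega⟩
  have e2 := (Nat.prime_dvd_prime_iff_eq Nat.prime_two hr).1 (Nat.prime_two.dvd_of_dvd_pow h2)
  have e5 := (Nat.prime_dvd_prime_iff_eq (by norm_num) hr).1 ((by norm_num : Nat.Prime 5).dvd_of_dvd_pow h5)
  omega

theorem not_perfect_pow_10 (d k : ℕ) (hd : 2 ≤ d) (hk : 2 ≤ k) (h : 10 = d ^ k) : False := by
  have h1 : d ^ 2 ∣ d ^ k := pow_dvd_pow d hk
  rw [← h] at h1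
  have h2 : d ^ 2 ≤ 10 := Nat.le_of_dvd (by norm_num) h1
  have h3 : d ≤ 3 := by nlinarith
  interval_cases d <;> omega

theorem not_prime_pow_12 (r k : ℕ) (hr : r.Prime) (h : 12 = r ^ k) : False := by
  have h2 : 2 ∣ r ^ k := ⟨6, by omega⟩
  have h3 : 3 ∣ r ^ k := ⟨4, by omega⟩
  have e2 := (Nat.prime_dvd_prime_iff_eq Nat.prime_two hr).1 (Nat.prime_two.dvd_of_dvd_pow h2)
  have e3 := (Nat.prime_dvd_prime_iff_eq (by norm_num) hr).1 ((by norm_num : Nat.Prime 3).dvd_of_dvd_pow h3)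
  omega

theorem not_perfect_pow_12 (d k : ℕ) (hd : 2 ≤ d) (hk : 2 ≤ k) (h : 12 = d ^ k) : False := by
  have h1 : d ^ 2 ∣ d ^ k := pow_dvd_pow d hk
  rw [← h] at h1
  have h2 : d ^ 2 ≤ 12 := Nat.le_of_dvd (by norm_num) h1
  have h3 : d ≤ 3 := by nlinarith
  interval_cases d
  · -- d = 2: 12 = 2 ^ k
    have : 3 ∣ 2 ^ k := ⟨4, by omega⟩
    have := (Nat.prime_dvd_prime_iff_eq (by norm_num) Nat.prime_two).1 ((by norm_num : Nat.Prime 3).dvd_of_dvd_pow this)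
    omega
  · have : 2 ∣ 3 ^ k := ⟨6, by omega⟩
    have := (Nat.prime_dvd_prime_iff_eq Nat.prime_two (by norm_num)).1 (Nat.prime_two.dvd_of_dvd_pow this)
    omega

theorem final10 {F : Type*} [Field F] [Fintype F] (q : ℕ) (hF : Fintype.card F = q ^ 2) (hp : PiecesCU 10 F q) (H : Subgroup (Matrix.GeneralLinearGroup (Fin 10) F)) (hH : Cfsg.Geo.IsMaximalIn (Cfsg.GU 10 F q ⊓ Cfsg.Geo.specialLinear (Fin 10) F) H) :
    (∃ W : Submodule F (Fin 10 → F), W ≠ ⊥ ∧ Cfsg.Geo.IsTotallySingularFor (Cfsg.hermForm 10 F q) W ∧ H = Cfsg.Geo.subspaceStabilizer W ⊓ (Cfsg.GU 10 F q ⊓ Cfsg.Geo.specialLinear (Fin 10) F)) ∨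
    (∃ W : Submodule F (Fin 10 → F), W ≠ ⊥ ∧ Cfsg.Geo.IsNondegenerateOn (Cfsg.hermForm 10 F q) W ∧ 2 * Module.finrank F W < 10 ∧ H = Cfsg.Geo.subspaceStabilizer W ⊓ (Cfsg.GU 10 F q ⊓ Cfsg.Geo.specialLinear (Fin 10) F)) ∨
    (∃ D : Fin 10 → Submodule F (Fin 10 → F), Cfsg.Geo.IsNondegenerateMDecomposition (Cfsg.hermForm 10 F q) 1 D ∧ H = Cfsg.Geo.decompositionStabilizer D ⊓ (Cfsg.GU 10 F q ⊓ Cfsg.Geo.specialLinear (Fin 10) F)) ∨
    (3 ≤ q ∧ ∃ D : Fin 5 → Submodule F (Fin 10 → F), Cfsg.Geo.IsNondegenerateMDecomposition (Cfsg.hermForm 10 F q) 2 D ∧ H = Cfsg.Geo.decompositionStabilizer D ⊓ (Cfsg.GU 10 F q ⊓ Cfsg.Geo.specialLinear (Fin 10) F)) ∨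
    (∃ D : Fin 2 → Submodule F (Fin 10 → F), Cfsg.Geo.IsNondegenerateMDecomposition (Cfsg.hermForm 10 F q) 5 D ∧ H = Cfsg.Geo.decompositionStabilizer D ⊓ (Cfsg.GU 10 F q ⊓ Cfsg.Geo.specialLinear (Fin 10) F)) ∨
    (∃ D : Fin 2 → Submodule F (Fin 10 → F), Cfsg.Geo.IsMDecomposition 5 D ∧ (∀ i, Cfsg.Geo.IsTotallySingularFor (Cfsg.hermForm 10 F q) (D i)) ∧ H = Cfsg.Geo.decompositionStabilizer D ⊓ (Cfsg.GU 10 F q ⊓ Cfsg.Geo.specialLinear (Fin 10) F)) ∨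
    (∃ K : Subalgebra F (Matrix (Fin 10) (Fin 10) F), Cfsg.Geo.IsFieldSubalgebra 5 K ∧ Cfsg.Geo.IsAdjointClosedFor (Cfsg.hermForm 10 F q) K ∧ H = Cfsg.Geo.subalgebraNormalizer K ⊓ (Cfsg.GU 10 F q ⊓ Cfsg.Geo.specialLinear (Fin 10) F)) ∨
    (3 ≤ q ∧ ∃ (e : Fin 10 ≃ Fin 2 × Fin 5) (P : Matrix.GeneralLinearGroup (Fin 10) F) (f₁ : (Fin 2 → F) → (Fin 2 → F) → F) (f₂ : (Fin 5 → F) → (Fin 5 → F) → F), Cfsg.Geo.IsUnitaryFormPow q f₁ ∧ Cfsg.Geo.IsUnitaryFormPow q f₂ ∧ Cfsg.Geo.IsTensorFormStructure (fun x : F => x ^ q) (Cfsg.hermForm 10 F q) f₁ f₂ e P ∧ H = Cfsg.Geo.tensorProductSubgroup 2 5 e P ⊓ (Cfsg.GU 10 F q ⊓ Cfsg.Geo.specialLinear (Fin 10) F)) ∨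
    (∃ (F₀ : Subfield F) (r : ℕ) (P : Matrix.GeneralLinearGroup (Fin 10) F), r.Prime ∧ Odd r ∧ Fintype.card F = Nat.card F₀ ^ r ∧ Cfsg.Geo.IsFormRationalStructure (Cfsg.hermForm 10 F q) F₀ 1 P ∧ H = Cfsg.Geo.subfieldSubgroup F₀ P ⊓ (Cfsg.GU 10 F q ⊓ Cfsg.Geo.specialLinear (Fin 10) F)) ∨
    (∃ (F₀ : Subfield F) (P : Matrix.GeneralLinearGroup (Fin 10) F) (ζ : F), Fintype.card F = Nat.card F₀ ^ 2 ∧ ζ ≠ 0 ∧ ζ + ζ ^ q = 0 ∧ Cfsg.Geo.IsFormRationalStructure (Cfsg.hermForm 10 F q) F₀ ζ P ∧ (∀ u : Fin 10 → F, (∀ i, u i ∈ F₀) → (Cfsg.hermForm 10 F q) (Matrix.mulVec (P : Matrix (Fin 10) (Fin 10) F) u) (Matrix.mulVec (P : Matrix (Fin 10) (Fin 10) F) u) = 0) ∧ H = Cfsg.Geo.subfieldSubgroup F₀ P ⊓ (Cfsg.GU 10 F q ⊓ Cfsg.Geo.specialLinear (Fin 10) F)) ∨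
    (Odd q ∧ ∃ (F₀ : Subfield F) (P : Matrix.GeneralLinearGroup (Fin 10) F), Fintype.card F = Nat.card F₀ ^ 2 ∧ Cfsg.Geo.IsFormRationalStructure (Cfsg.hermForm 10 F q) F₀ 1 P ∧ H = Cfsg.Geo.subfieldSubgroup F₀ P ⊓ (Cfsg.GU 10 F q ⊓ Cfsg.Geo.specialLinear (Fin 10) F)) ∨
    Cfsg.Geo.InUnitaryResidualClass H := by
  have hq2 : 2 ≤ q := Cfsg.Agent.Helper3.AschU.two_le_q hF
  rcases asch_comp_unitary (n := 10) (by norm_num)
      (by rintro ⟨r, k, hr, hk⟩; exact not_prime_pow_10 r k hr hk)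
      (by rintro ⟨d, k, hd, hk, h⟩; exact not_perfect_pow_10 d k hd hk h) q hF hp H hH with
    h | h | h | h | h | h | h | h | h | h
  · exact Or.inl h
  · exact Or.inr (Or.inl h)
  · obtain ⟨t, m, D, hD, htm, hnot, hHeq⟩ := h
    obtain ⟨rfl, rfl⟩ | ⟨rfl, rfl⟩ | ⟨rfl, rfl⟩ : (t = 10 ∧ m = 1) ∨ (t = 5 ∧ m = 2) ∨ (t = 2 ∧ m = 5) := by
      have h2 := hD.decomp.two_le
      have h3 := hD.decomp.pos
      have ht : t ≤ 10 := by nlinarith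
      interval_cases t <;> omega
    · exact Or.inr (Or.inr (Or.inl ⟨D, hD, hHeq⟩))
    · exact Or.inr (Or.inr (Or.inr (Or.inl ⟨by
        by_contra hc
        exact hnot ⟨rfl, by omega⟩, D, hD, hHeq⟩)))
    · exact Or.inr (Or.inr (Or.inr (Or.inr (Or.inl ⟨D, hD, hHeq⟩))))
  · obtain ⟨m, D, hD, hm, hts, hHeq⟩ := h
    obtain rfl : m = 5 := by omega
    exact Or.inr (Or.inr (Or.inr (Or.inr (Or.inr (Or.inl ⟨D, hD, hts, hHeq⟩)))))
  · obtain ⟨r, K, hr, hro, hrn, hK, hadj, hHeq⟩ := h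
    obtain rfl : r = 5 := by
      have hle := Nat.le_of_dvd (by norm_num) hrn
      have h2 := hr.two_le
      interval_cases r <;>
        first | rfl | (exfalso; revert hro; decide) | (exfalso; revert hrn; decide)
    exact Or.inr (Or.inr (Or.inr (Or.inr (Or.inr (Or.inr (Or.inl ⟨K, hK, hadj, hHeq⟩))))))
  · obtain ⟨n₁, n₂, e, P, f₁, f₂, h1, h2, hq, hf₁, hf₂, hT, hHeq⟩ := h
    have hcard : n₁ * n₂ = 10 := by
      have := Fintype.card_congr e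
      simpa using this.symm
    obtain ⟨rfl, rfl⟩ | ⟨rfl, rfl⟩ : (n₁ = 2 ∧ n₂ = 5) ∨ (n₁ = 5 ∧ n₂ = 2) := by
      have ht : n₁ ≤ 10 := by nlinarith
      interval_cases n₁ <;> omega
    · exact Or.inr (Or.inr (Or.inr (Or.inr (Or.inr (Or.inr (Or.inr (Or.inl ⟨by
        by_contra hc
        exact hq ⟨Or.inl rfl, by omega⟩, e, P, f₁, f₂, hf₁, hf₂, hT, hHeq⟩)))))))
    · rw [Cfsg.Agent.Helper9.AschCompK.tensorProductSubgroup_swap] at hHeq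
      exact Or.inr (Or.inr (Or.inr (Or.inr (Or.inr (Or.inr (Or.inr (Or.inl ⟨by
        by_contra hc
        exact hq ⟨Or.inr rfl, by omega⟩, _, P, f₂, f₁, hf₂, hf₁, tensorForm_swap _ _ f₁ f₂ e P hT, hHeq⟩)))))))
  · exact Or.inr (Or.inr (Or.inr (Or.inr (Or.inr (Or.inr (Or.inr (Or.inr (Or.inl h))))))))
  · exact Or.inr (Or.inr (Or.inr (Or.inr (Or.inr (Or.inr (Or.inr (Or.inr (Or.inr (Or.inl h)))))))))
  · exact Or.inr (Or.inr (Or.inr (Or.inr (Or.inr (Or.inr (Or.inr (Or.inr (Or.inr (Or.inr (Or.inl h))))))))))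
  · exact Or.inr (Or.inr (Or.inr (Or.inr (Or.inr (Or.inr (Or.inr (Or.inr (Or.inr (Or.inr (Or.inr h))))))))))


theorem final12 {F : Type*} [Field F] [Fintype F] (q : ℕ) (hF : Fintype.card F = q ^ 2) (hp : PiecesCU 12 F q) (H : Subgroup (Matrix.GeneralLinearGroup (Fin 12) F)) (hH : Cfsg.Geo.IsMaximalIn (Cfsg.GU 12 F q ⊓ Cfsg.Geo.specialLinear (Fin 12) F) H) :
    (∃ W : Submodule F (Fin 12 → F), W ≠ ⊥ ∧ Cfsg.Geo.IsTotallySingularFor (Cfsg.hermForm 12 F q) W ∧ H = Cfsg.Geo.subspaceStabilizer W ⊓ (Cfsg.GU 12 F q ⊓ Cfsg.Geo.specialLinear (Fin 12) F)) ∨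
    (∃ W : Submodule F (Fin 12 → F), W ≠ ⊥ ∧ Cfsg.Geo.IsNondegenerateOn (Cfsg.hermForm 12 F q) W ∧ 2 * Module.finrank F W < 12 ∧ H = Cfsg.Geo.subspaceStabilizer W ⊓ (Cfsg.GU 12 F q ⊓ Cfsg.Geo.specialLinear (Fin 12) F)) ∨
    (∃ D : Fin 12 → Submodule F (Fin 12 → F), Cfsg.Geo.IsNondegenerateMDecomposition (Cfsg.hermForm 12 F q) 1 D ∧ H = Cfsg.Geo.decompositionStabilizer D ⊓ (Cfsg.GU 12 F q ⊓ Cfsg.Geo.specialLinear (Fin 12) F)) ∨
    (3 ≤ q ∧ ∃ D : Fin 6 → Submodule F (Fin 12 → F), Cfsg.Geo.IsNondegenerateMDecomposition (Cfsg.hermForm 12 F q) 2 D ∧ H = Cfsg.Geo.decompositionStabilizer D ⊓ (Cfsg.GU 12 F q ⊓ Cfsg.Geo.specialLinear (Fin 12) F)) ∨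
    (∃ D : Fin 4 → Submodule F (Fin 12 → F), Cfsg.Geo.IsNondegenerateMDecomposition (Cfsg.hermForm 12 F q) 3 D ∧ H = Cfsg.Geo.decompositionStabilizer D ⊓ (Cfsg.GU 12 F q ⊓ Cfsg.Geo.specialLinear (Fin 12) F)) ∨
    (∃ D : Fin 3 → Submodule F (Fin 12 → F), Cfsg.Geo.IsNondegenerateMDecomposition (Cfsg.hermForm 12 F q) 4 D ∧ H = Cfsg.Geo.decompositionStabilizer D ⊓ (Cfsg.GU 12 F q ⊓ Cfsg.Geo.specialLinear (Fin 12) F)) ∨
    (∃ D : Fin 2 → Submodule F (Fin 12 → F), Cfsg.Geo.IsNondegenerateMDecomposition (Cfsg.hermForm 12 F q) 6 D ∧ H = Cfsg.Geo.decompositionStabilizer D ⊓ (Cfsg.GU 12 F q ⊓ Cfsg.Geo.specialLinear (Fin 12) F)) ∨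
    (∃ D : Fin 2 → Submodule F (Fin 12 → F), Cfsg.Geo.IsMDecomposition 6 D ∧ (∀ i, Cfsg.Geo.IsTotallySingularFor (Cfsg.hermForm 12 F q) (D i)) ∧ H = Cfsg.Geo.decompositionStabilizer D ⊓ (Cfsg.GU 12 F q ⊓ Cfsg.Geo.specialLinear (Fin 12) F)) ∨
    (∃ K : Subalgebra F (Matrix (Fin 12) (Fin 12) F), Cfsg.Geo.IsFieldSubalgebra 3 K ∧ Cfsg.Geo.IsAdjointClosedFor (Cfsg.hermForm 12 F q) K ∧ H = Cfsg.Geo.subalgebraNormalizer K ⊓ (Cfsg.GU 12 F q ⊓ Cfsg.Geo.specialLinear (Fin 12) F)) ∨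
    (3 ≤ q ∧ ∃ (e : Fin 12 ≃ Fin 2 × Fin 6) (P : Matrix.GeneralLinearGroup (Fin 12) F) (f₁ : (Fin 2 → F) → (Fin 2 → F) → F) (f₂ : (Fin 6 → F) → (Fin 6 → F) → F), Cfsg.Geo.IsUnitaryFormPow q f₁ ∧ Cfsg.Geo.IsUnitaryFormPow q f₂ ∧ Cfsg.Geo.IsTensorFormStructure (fun x : F => x ^ q) (Cfsg.hermForm 12 F q) f₁ f₂ e P ∧ H = Cfsg.Geo.tensorProductSubgroup 2 6 e P ⊓ (Cfsg.GU 12 F q ⊓ Cfsg.Geo.specialLinear (Fin 12) F)) ∨
    (∃ (e : Fin 12 ≃ Fin 3 × Fin 4) (P : Matrix.GeneralLinearGroup (Fin 12) F) (f₁ : (Fin 3 → F) → (Fin 3 → F) → F) (f₂ : (Fin 4 → F) → (Fin 4 → F) → F), Cfsg.Geo.IsUnitaryFormPow q f₁ ∧ Cfsg.Geo.IsUnitaryFormPow q f₂ ∧ Cfsg.Geo.IsTensorFormStructure (fun x : F => x ^ q) (Cfsg.hermForm 12 F q) f₁ f₂ e P ∧ H = Cfsg.Geo.tensorProductSubgroup 3 4 e P ⊓ (Cfsg.GU 12 F q ⊓ Cfsg.Geo.specialLinear (Fin 12) F)) ∨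
    (∃ (F₀ : Subfield F) (r : ℕ) (P : Matrix.GeneralLinearGroup (Fin 12) F), r.Prime ∧ Odd r ∧ Fintype.card F = Nat.card F₀ ^ r ∧ Cfsg.Geo.IsFormRationalStructure (Cfsg.hermForm 12 F q) F₀ 1 P ∧ H = Cfsg.Geo.subfieldSubgroup F₀ P ⊓ (Cfsg.GU 12 F q ⊓ Cfsg.Geo.specialLinear (Fin 12) F)) ∨
    (∃ (F₀ : Subfield F) (P : Matrix.GeneralLinearGroup (Fin 12) F) (ζ : F), Fintype.card F = Nat.card F₀ ^ 2 ∧ ζ ≠ 0 ∧ ζ + ζ ^ q = 0 ∧ Cfsg.Geo.IsFormRationalStructure (Cfsg.hermForm 12 F q) F₀ ζ P ∧ (∀ u : Fin 12 → F, (∀ i, u i ∈ F₀) → (Cfsg.hermForm 12 F q) (Matrix.mulVec (P : Matrix (Fin 12) (Fin 12) F) u) (Matrix.mulVec (P : Matrix (Fin 12) (Fin 12) F) u) = 0) ∧ H = Cfsg.Geo.subfieldSubgroup F₀ P ⊓ (Cfsg.GU 12 F q ⊓ Cfsg.Geo.specialLinear (Fin 12) F)) ∨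
    (Odd q ∧ ∃ (F₀ : Subfield F) (P : Matrix.GeneralLinearGroup (Fin 12) F), Fintype.card F = Nat.card F₀ ^ 2 ∧ Cfsg.Geo.IsFormRationalStructure (Cfsg.hermForm 12 F q) F₀ 1 P ∧ H = Cfsg.Geo.subfieldSubgroup F₀ P ⊓ (Cfsg.GU 12 F q ⊓ Cfsg.Geo.specialLinear (Fin 12) F)) ∨
    Cfsg.Geo.InUnitaryResidualClass H := by
  have hq2 : 2 ≤ q := Cfsg.Agent.Helper3.AschU.two_le_q hF
  rcases asch_comp_unitary (n := 12) (by norm_num)
      (by rintro ⟨r, k, hr, hk⟩; exact not_prime_pow_12 r k hr hk)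
      (by rintro ⟨d, k, hd, hk, h⟩; exact not_perfect_pow_12 d k hd hk h) q hF hp H hH with
    h | h | h | h | h | h | h | h | h | h
  · exact Or.inl h
  · exact Or.inr (Or.inl h)
  · obtain ⟨t, m, D, hD, htm, hnot, hHeq⟩ := h
    obtain ⟨rfl, rfl⟩ | ⟨rfl, rfl⟩ | ⟨rfl, rfl⟩ | ⟨rfl, rfl⟩ | ⟨rfl, rfl⟩ :
        (t = 12 ∧ m = 1) ∨ (t = 6 ∧ m = 2) ∨ (t = 4 ∧ m = 3) ∨ (t = 3 ∧ m = 4) ∨ (t = 2 ∧ m = 6) := by
      have h2 := hD.decomp.two_le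
      have h3 := hD.decomp.pos
      have ht : t ≤ 12 := by nlinarith
      interval_cases t <;> omega
    · exact Or.inr (Or.inr (Or.inl ⟨D, hD, hHeq⟩))
    · exact Or.inr (Or.inr (Or.inr (Or.inl ⟨by by_contra hc; exact hnot ⟨rfl, by omega⟩, D, hD, hHeq⟩)))
    · exact Or.inr (Or.inr (Or.inr (Or.inr (Or.inl ⟨D, hD, hHeq⟩))))
    · exact Or.inr (Or.inr (Or.inr (Or.inr (Or.inr (Or.inl ⟨D, hD, hHeq⟩)))))
    · exact Or.inr (Or.inr (Or.inr (Or.inr (Or.inr (Or.inr (Or.inl ⟨D, hD, hHeq⟩))))))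
  · obtain ⟨m, D, hD, hm, hts, hHeq⟩ := h
    obtain rfl : m = 6 := by omega
    exact Or.inr (Or.inr (Or.inr (Or.inr (Or.inr (Or.inr (Or.inr (Or.inl ⟨D, hD, hts, hHeq⟩)))))))
  · obtain ⟨r, K, hr, hro, hrn, hK, hadj, hHeq⟩ := h
    obtain rfl : r = 3 := by
      have hle := Nat.le_of_dvd (by norm_num) hrn
      have h2 := hr.two_le
      interval_cases r <;>
        first | rfl | (exfalso; revert hro; decide) | (exfalso; revert hrn; decide) | (exfalso; revert hr; decide)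
    exact Or.inr (Or.inr (Or.inr (Or.inr (Or.inr (Or.inr (Or.inr (Or.inr (Or.inl ⟨K, hK, hadj, hHeq⟩))))))))
  · obtain ⟨n₁, n₂, e, P, f₁, f₂, h1, h2, hq, hf₁, hf₂, hT, hHeq⟩ := h
    have hcard : n₁ * n₂ = 12 := by
      have := Fintype.card_congr e
      simpa using this.symm
    obtain ⟨rfl, rfl⟩ | ⟨rfl, rfl⟩ | ⟨rfl, rfl⟩ | ⟨rfl, rfl⟩ :
        (n₁ = 2 ∧ n₂ = 6) ∨ (n₁ = 6 ∧ n₂ = 2) ∨ (n₁ = 3 ∧ n₂ = 4) ∨ (n₁ = 4 ∧ n₂ = 3) := by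
      have ht : n₁ ≤ 12 := by nlinarith
      interval_cases n₁ <;> omega
    · exact Or.inr (Or.inr (Or.inr (Or.inr (Or.inr (Or.inr (Or.inr (Or.inr (Or.inr (Or.inl ⟨by by_contra hc; exact hq ⟨Or.inl rfl, by omega⟩, e, P, f₁, f₂, hf₁, hf₂, hT, hHeq⟩)))))))))
    · rw [Cfsg.Agent.Helper9.AschCompK.tensorProductSubgroup_swap] at hHeq
      exact Or.inr (Or.inr (Or.inr (Or.inr (Or.inr (Or.inr (Or.inr (Or.inr (Or.inr (Or.inl ⟨by by_contra hc; exact hq ⟨Or.inr rfl, by omega⟩, _, P, f₂, f₁, hf₂, hf₁, tensorForm_swap _ _ f₁ f₂ e P hT, hHeq⟩)))))))))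
    · exact Or.inr (Or.inr (Or.inr (Or.inr (Or.inr (Or.inr (Or.inr (Or.inr (Or.inr (Or.inr (Or.inl ⟨e, P, f₁, f₂, hf₁, hf₂, hT, hHeq⟩))))))))))
    · rw [Cfsg.Agent.Helper9.AschCompK.tensorProductSubgroup_swap] at hHeq
      exact Or.inr (Or.inr (Or.inr (Or.inr (Or.inr (Or.inr (Or.inr (Or.inr (Or.inr (Or.inr (Or.inl ⟨_, P, f₂, f₁, hf₂, hf₁, tensorForm_swap _ _ f₁ f₂ e P hT, hHeq⟩))))))))))
  · exact Or.inr (Or.inr (Or.inr (Or.inr (Or.inr (Or.inr (Or.inr (Or.inr (Or.inr (Or.inr (Or.inr (Or.inl h)))))))))))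
  · exact Or.inr (Or.inr (Or.inr (Or.inr (Or.inr (Or.inr (Or.inr (Or.inr (Or.inr (Or.inr (Or.inr (Or.inr (Or.inl h))))))))))))
  · exact Or.inr (Or.inr (Or.inr (Or.inr (Or.inr (Or.inr (Or.inr (Or.inr (Or.inr (Or.inr (Or.inr (Or.inr (Or.inr (Or.inl h)))))))))))))
  · exact Or.inr (Or.inr (Or.inr (Or.inr (Or.inr (Or.inr (Or.inr (Or.inr (Or.inr (Or.inr (Or.inr (Or.inr (Or.inr (Or.inr h)))))))))))))

end Cfsg.Agent.Helper3.AschCU
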