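import Mathlib
import Cfsg.Prelude.Def_GeometricClasses
import Cfsg.Agent.Lead.AschBase
import Cfsg.Agent.Helper3.AschUSubA
import Cfsg.Agent.Helper5.AschForm5
import Cfsg.Agent.Helper5.AschForm9

/-!
# ASCH-COMP-U piece V2c `tensor_form_unitary` (helper3; on top of helper5's `tensorFormStructure_of_matrix_form`)

In the basis `P` the Gram matrix of the Hermitian form is `B ⊗ₖ G` (helper5).  Since the form is Hermitian, the two factor
forms `β`, `γ` satisfy `γ(v,u) = κ γ(u,v)^q`, `β(b,a) = κ⁻¹ β(a,b)^q` with `κ^(q+1) = 1`; Hilbert 90 (by hand) gives `μ` with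
`μ^q = κ μ`, and `μ⁻¹ β`, `μ γ` are Hermitian.
-/

set_option autoImplicit false
set_option linter.unusedVariables false
set_option linter.unusedSectionVars false

namespace Cfsg.Agent.Helper3.AschCU

open Cfsg Cfsg.Geo Cfsg.Agent.Lead.Asch Cfsg.Agent.Helper3.AschU Cfsg.Agent.Helper7.Herm
open scoped MatrixGroups Matrix Kronecker

variable {n : ℕ} {F : Type*} [Field F]

/-- `formOfGram` as a dot product -/
theorem formOfGram_eq_dot {k : ℕ} (σ : F → F) (G : Matrix (Fin k) (Fin k) F) (x y : Fin k → F) :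
    formOfGram σ G x y = x ⬝ᵥ (G *ᵥ (fun b => σ (y b))) := by
  unfold formOfGram
  simp only [dotProduct, Matrix.mulVec, Finset.mul_sum, mul_assoc]

theorem formOfGram_add_left {k : ℕ} (σ : F → F) (G : Matrix (Fin k) (Fin k) F) (x x' y : Fin k → F) :
    formOfGram σ G (x + x') y = formOfGram σ G x y + formOfGram σ G x' y := by
  rw [formOfGram_eq_dot, formOfGram_eq_dot, formOfGram_eq_dot, add_dotProduct]

theorem formOfGram_smul_left {k : ℕ} (σ : F → F) (G : Matrix (Fin k) (Fin k) F) (c : F) (x y : Fin k → F) :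
    formOfGram σ G (c • x) y = c * formOfGram σ G x y := by
  rw [formOfGram_eq_dot, formOfGram_eq_dot, smul_dotProduct, smul_eq_mul]

theorem formOfGram_smul_matrix {k : ℕ} (σ : F → F) (c : F) (G : Matrix (Fin k) (Fin k) F) (x y : Fin k → F) :
    formOfGram σ (c • G) x y = c * formOfGram σ G x y := by
  rw [formOfGram_eq_dot, formOfGram_eq_dot, Matrix.smul_mulVec, dotProduct_smul, smul_eq_mul]

/-- the Kronecker form on pure tensors -/
theorem formOfGram_kron_pure {e d : ℕ} (σ : F → F) (hσ : ∀ a b, σ (a * b) = σ a * σ b)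
    (B : Matrix (Fin e) (Fin e) F) (G : Matrix (Fin d) (Fin d) F) (a b : Fin e → F) (u v : Fin d → F) :
    formOfGram σ (B ⊗ₖ G) (fun p => a p.1 * u p.2) (fun p => b p.1 * v p.2) =
      formOfGram σ B a b * formOfGram σ G u v := by
  unfold formOfGram
  rw [Fintype.sum_prod_type]
  simp only [Fintype.sum_prod_type, Matrix.kroneckerMap_apply, hσ]
  rw [Finset.sum_mul]
  apply Finset.sum_congr rfl
  intro i _
  rw [Finset.sum_comm]
  rw [Finset.sum_mul]
  rw [Finset.sum_comm]
  simp only [Finset.mul_sum]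
  rw [Finset.sum_comm]
  apply Finset.sum_congr rfl
  intro j _
  apply Finset.sum_congr rfl
  intro k _
  apply Finset.sum_congr rfl
  intro l _
  ring


variable [Fintype F]

/-- a Hermitian form with invertible Gram matrix is non-degenerate -/
theorem formOfGram_nondeg {k : ℕ} {q : ℕ} (hF : Fintype.card F = q ^ 2) (M : Matrix (Fin k) (Fin k) F)
    (hM : IsUnit M.det)
    (hherm : ∀ v w, formOfGram (fun x : F => x ^ q) M v w = (formOfGram (fun x : F => x ^ q) M w v) ^ q) :
    IsNondegenerateForm (formOfGram (fun x : F => x ^ q) M) := by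
  classical
  have hq2 := two_le_q hF
  intro v hv
  have h1 : ∃ x, formOfGram (fun x : F => x ^ q) M x v ≠ 0 := by
    have hv' : (fun b => (v b) ^ q) ≠ (0 : Fin k → F) := by
      intro h
      apply hv
      funext b
      have := congrFun h b
      simp only [Pi.zero_apply] at this
      exact pow_eq_zero_iff (by omega) |>.1 this
    have hw : M *ᵥ (fun b => (v b) ^ q) ≠ 0 := by
      intro h
      apply hv'
      have h2 := congrArg (fun w => M⁻¹ *ᵥ w) h
      simp only [Matrix.mulVec_mulVec, Matrix.nonsing_inv_mul _ hM, Matrix.one_mulVec, Matrix.mulVec_zero] at h2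
      exact h2
    obtain ⟨i, hi⟩ : ∃ i, (M *ᵥ (fun b => (v b) ^ q)) i ≠ 0 := by
      by_contra hcon
      push Not at hcon
      exact hw (funext hcon)
    refine ⟨Pi.single i 1, ?_⟩
    rw [formOfGram_eq_dot, single_dotProduct, one_mul]
    exact hi
  obtain ⟨x, hx⟩ := h1
  exact ⟨⟨x, hx⟩, ⟨x, by rw [hherm]; exact pow_ne_zero _ hx⟩⟩

/-- an invertible matrix has a non-zero value of its form -/
theorem exists_formOfGram_ne_zero {k : ℕ} (hk : 0 < k) {q : ℕ} (hF : Fintype.card F = q ^ 2)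
    (M : Matrix (Fin k) (Fin k) F) (hM : IsUnit M.det) :
    ∃ a b, formOfGram (fun x : F => x ^ q) M a b ≠ 0 := by
  classical
  by_contra hcon
  push Not at hcon
  have h0 : M = 0 := by
    have h1 : gramMatrix (formOfGram (fun x : F => x ^ q) M) = M :=
      Cfsg.Agent.Helper5.AschF.gramMatrix_formOfGram ((sigq hF : F ≃+* F) : F →+* F) M
    rw [← h1]
    ext i j
    exact hcon _ _
  have : Nonempty (Fin k) := ⟨⟨0, hk⟩⟩
  rw [h0, Matrix.det_zero] at hM
  exact not_isUnit_zero hM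

/-- **V2c** -/
theorem tensor_form_unitary (q : ℕ) (hF : Fintype.card F = q ^ 2) {d e : ℕ} (hd : 0 < d) (he : 0 < e)
    (eqv : Fin n ≃ Fin e × Fin d) (P : GL (Fin n) F) {N : Subgroup (GL (Fin n) F)} (hNI : N ≤ GU n F q)
    (ρ : N →* GL (Fin d) F)
    (hρ : ∀ x : N, ((x : GL (Fin n) F) : Matrix (Fin n) (Fin n) F) * (P : Matrix (Fin n) (Fin n) F) =
      (P : Matrix (Fin n) (Fin n) F) * ((1 : Matrix (Fin e) (Fin e) F) ⊗ₖ
        ((ρ x : GL (Fin d) F) : Matrix (Fin d) (Fin d) F)).submatrix eqv eqv)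
    (habs : ActsAbsolutelyIrreducibly
      (Set.range fun x : N => ((ρ x : GL (Fin d) F) : Matrix (Fin d) (Fin d) F))) :
    ∃ (f₁ : (Fin e → F) → (Fin e → F) → F) (f₂ : (Fin d → F) → (Fin d → F) → F),
      IsUnitaryFormPow q f₁ ∧ IsUnitaryFormPow q f₂ ∧
      IsTensorFormStructure (fun x : F => x ^ q) (hermForm n F q) f₁ f₂ eqv P := by
  classical
  have hq2 := two_le_q hF
  have hn : 0 < n := by
    have h1 := Fintype.card_congr eqv
    rw [Fintype.card_fin, Fintype.card_prod, Fintype.card_fin, Fintype.card_fin] at h1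
    rw [h1]
    exact Nat.mul_pos he hd
  obtain ⟨B, G, hB, hG, -, hform, -⟩ :=
    Cfsg.Agent.Helper5.AschF.tensorFormStructure_of_matrix_form hn
      (Cfsg.Agent.Helper5.AschF.RForm.of_hermForm hF) (Cfsg.Agent.Helper5.AschF.isom_of_le_GU hNI) eqv P
      (fun x => ((ρ x : GL (Fin d) F) : Matrix (Fin d) (Fin d) F)) hρ
      (fun x => (Matrix.isUnit_iff_isUnit_det _).1 (Units.isUnit (ρ x))) habs
  set sq : F → F := fun x => x ^ q with hsq
  have hform' : ∀ x y : Fin e × Fin d → F,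
      hermForm n F q ((P : Matrix (Fin n) (Fin n) F) *ᵥ (x ∘ eqv)) ((P : Matrix (Fin n) (Fin n) F) *ᵥ (y ∘ eqv)) =
        formOfGram sq (B ⊗ₖ G) x y := hform
  set β := formOfGram sq B with hβ
  set γ := formOfGram sq G with hγ
  have hpure : ∀ (a b : Fin e → F) (u v : Fin d → F),
      formOfGram sq (B ⊗ₖ G) (fun p => a p.1 * u p.2) (fun p => b p.1 * v p.2) = β a b * γ u v :=
    fun a b u v => formOfGram_kron_pure sq (fun a b => mul_pow a b q) B G a b u v
  -- Hermitian symmetry on pure tensors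
  have hE : ∀ (a b : Fin e → F) (u v : Fin d → F), β b a * γ v u = (β a b) ^ q * (γ u v) ^ q := by
    intro a b u v
    rw [← mul_pow, ← hpure a b u v, ← hpure b a v u, ← hform', ← hform']
    exact hermForm_swap hF _ _
  obtain ⟨a₀, b₀, hab⟩ := exists_formOfGram_ne_zero he hF B hB
  obtain ⟨u₀, v₀, huv⟩ := exists_formOfGram_ne_zero hd hF G hG
  have hprod : β b₀ a₀ * γ v₀ u₀ ≠ 0 := by
    rw [hE]
    exact mul_ne_zero (pow_ne_zero _ hab) (pow_ne_zero _ huv)
  have hba : β b₀ a₀ ≠ 0 := left_ne_zero_of_mul hprod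
  have hvu : γ v₀ u₀ ≠ 0 := right_ne_zero_of_mul hprod
  set κ : F := (β a₀ b₀) ^ q / β b₀ a₀ with hκ
  set κ' : F := (γ u₀ v₀) ^ q / γ v₀ u₀ with hκ'
  have hγs : ∀ u v, γ v u = κ * (γ u v) ^ q := by
    intro u v
    have := hE a₀ b₀ u v
    rw [hκ]
    field_simp
    linear_combination this
  have hβs : ∀ a b, β b a = κ' * (β a b) ^ q := by
    intro a b
    have := hE a b u₀ v₀
    rw [hκ']
    field_simp
    linear_combination this
  have hκκ' : κ * κ' = 1 := by
    have := hE a₀ b₀ u₀ v₀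
    rw [hκ, hκ']
    field_simp
    linear_combination -this
  have hκ0 : κ ≠ 0 := left_ne_zero_of_mul_eq_one hκκ'
  have hκnorm : κ * κ ^ q = 1 := by
    have h1 := hγs v₀ u₀
    rw [hγs u₀ v₀, mul_pow, pow_q_pow_q hF] at h1
    have h2 : (κ * κ ^ q) * γ u₀ v₀ = 1 * γ u₀ v₀ := by
      rw [one_mul]; nth_rewrite 2 [h1]; ring
    exact mul_right_cancel₀ huv h2
  -- Hilbert 90 by hand
  obtain ⟨μ, hμ0, hμ⟩ : ∃ μ : F, μ ≠ 0 ∧ μ ^ q = κ * μ := by
    by_cases h1 : κ = 1
    · exact ⟨1, one_ne_zero, by rw [h1, one_pow, one_mul]⟩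
    by_cases h2 : κ = -1
    · obtain ⟨x, hx⟩ := exists_pow_q_ne hF
      refine ⟨x - x ^ q, sub_ne_zero.mpr (Ne.symm hx), ?_⟩
      have := map_sub (sigq hF) x (x ^ q)
      simp only [sigq_apply] at this
      rw [this, pow_q_pow_q hF, h2]
      ring
    · refine ⟨1 + κ ^ q, ?_, ?_⟩
      · intro h
        apply h2
        have h3 : κ ^ q = -1 := eq_neg_of_add_eq_zero_right h
        have h4 : (κ ^ q) ^ q = κ := pow_q_pow_q hF κ
        rw [h3] at h4
        have h5 : ((-1 : F)) ^ q = -1 := by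
          have := map_neg (sigq hF) (1 : F)
          simp only [sigq_apply, one_pow] at this
          exact this
        rw [h5] at h4
        exact h4.symm
      · rw [add_pow_q hF, one_pow, pow_q_pow_q hF]
        linear_combination -hκnorm
  have hμq0 : μ ^ q ≠ 0 := pow_ne_zero _ hμ0
  refine ⟨formOfGram sq (μ⁻¹ • B), formOfGram sq (μ • G), ?_, ?_, ?_⟩
  · -- f₁ is Hermitian
    have hval : ∀ a b, formOfGram sq (μ⁻¹ • B) a b = μ⁻¹ * β a b := fun a b => formOfGram_smul_matrix sq _ B a b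
    have hherm : ∀ v w, formOfGram sq (μ⁻¹ • B) v w = (formOfGram sq (μ⁻¹ • B) w v) ^ q := by
      intro v w
      rw [hval, hval, hβs w v, mul_pow, inv_pow, hμ]
      have : κ' = κ⁻¹ := eq_inv_of_mul_eq_one_right hκκ'
      rw [this]
      field_simp
    refine ⟨fun x y v => formOfGram_add_left sq _ x y v, fun c x v => formOfGram_smul_left sq _ c x v,
      hherm, formOfGram_nondeg hF _ ?_ hherm⟩
    rw [Matrix.det_smul]
    exact (IsUnit.pow _ (isUnit_iff_ne_zero.2 (inv_ne_zero hμ0))).mul hB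
  · have hval : ∀ u v, formOfGram sq (μ • G) u v = μ * γ u v := fun u v => formOfGram_smul_matrix sq _ G u v
    have hherm : ∀ v w, formOfGram sq (μ • G) v w = (formOfGram sq (μ • G) w v) ^ q := by
      intro v w
      rw [hval, hval, hγs w v, mul_pow, hμ]
      ring
    refine ⟨fun x y v => formOfGram_add_left sq _ x y v, fun c x v => formOfGram_smul_left sq _ c x v,
      hherm, formOfGram_nondeg hF _ ?_ hherm⟩
    rw [Matrix.det_smul]
    exact (IsUnit.pow _ (isUnit_iff_ne_zero.2 hμ0)).mul hG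
  · refine ⟨1, one_ne_zero, fun x y => ?_⟩
    have h1 : gramMatrix (formOfGram sq (μ⁻¹ • B)) = μ⁻¹ • B :=
      Cfsg.Agent.Helper5.AschF.gramMatrix_formOfGram ((sigq hF : F ≃+* F) : F →+* F) _
    have h2 : gramMatrix (formOfGram sq (μ • G)) = μ • G :=
      Cfsg.Agent.Helper5.AschF.gramMatrix_formOfGram ((sigq hF : F ≃+* F) : F →+* F) _
    rw [hform', one_mul, h1, h2, Matrix.smul_kronecker, Matrix.kronecker_smul, smul_smul,
      inv_mul_cancel₀ hμ0, one_smul]

end Cfsg.Agent.Helper3.AschCU
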