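import Mathlib
import Cfsg.Prelude.Def_GeometricClasses
import Cfsg.Prelude.Def_LieClassical
import Cfsg.Agent.Helper3.AschUSubA
import Cfsg.Agent.Helper5.AschU2b
import Cfsg.Agent.Helper6.AschGenEven

/-!
# ASCH-GEN-U (helper3): a subfield structure of symplectic type exists only in even dimension
-/

set_option autoImplicit false
set_option linter.unusedSectionVars false
set_option linter.unusedVariables false

namespace Cfsg.Agent.Helper3.AschGU

open Matrix Cfsg Cfsg.Geo Cfsg.Agent.Helper7.Herm

variable {n : ℕ} {F : Type*} [Field F] [Fintype F]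

/-- if `ζ` times the unitary form restricts to an alternating `F₀`-valued form on an `F₀`-structure, the dimension
is even -/
theorem even_of_zeta_rational (q : ℕ) (hF : Fintype.card F = q ^ 2) (F₀ : Subfield F) (P : GL (Fin n) F) (ζ : F)
    (hc : Fintype.card F = Nat.card F₀ ^ 2) (hζ0 : ζ ≠ 0)
    (hfr : IsFormRationalStructure (hermForm n F q) F₀ ζ P)
    (halt : ∀ u : Fin n → F, (∀ i, u i ∈ F₀) → hermForm n F q ((P : Matrix (Fin n) (Fin n) F) *ᵥ u)
        ((P : Matrix (Fin n) (Fin n) F) *ᵥ u) = 0) : Even n := by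
  classical
  obtain ⟨ι₀, hι₀def⟩ : ∃ ι₀ : (Fin n → F₀) → (Fin n → F), ∀ u i, ι₀ u i = (u i : F) := ⟨fun u i => (u i : F), fun _ _ => rfl⟩
  have hι₀ : ∀ u i, ι₀ u i ∈ F₀ := fun u i => by rw [hι₀def]; exact (u i).2
  have hι₀add : ∀ u v, ι₀ (u + v) = ι₀ u + ι₀ v := by
    intro u v
    funext i
    rw [Pi.add_apply, hι₀def, hι₀def, hι₀def, Pi.add_apply, Subfield.coe_add]
  have hι₀smul : ∀ (c : F₀) u, ι₀ (c • u) = (c : F) • ι₀ u := by
    intro c u
    funext i
    rw [Pi.smul_apply, hι₀def, hι₀def, Pi.smul_apply, smul_eq_mul, smul_eq_mul, Subfield.coe_mul]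
  have hι₀inj : ∀ u, ι₀ u = 0 → u = 0 := by
    intro u hu
    funext i
    have := congrFun hu i
    rw [hι₀def, Pi.zero_apply] at this
    exact Subtype.ext this
  obtain ⟨B, hB⟩ : ∃ B : (Fin n → F₀) → (Fin n → F₀) → F₀, ∀ u v, ((B u v : F₀) : F) =
      ζ * hermForm n F q ((P : Matrix (Fin n) (Fin n) F) *ᵥ ι₀ u) ((P : Matrix (Fin n) (Fin n) F) *ᵥ ι₀ v) :=
    ⟨fun u v => ⟨_, hfr _ _ (hι₀ u) (hι₀ v)⟩, fun _ _ => rfl⟩
  have hbil : IsBilinearForm B := by
    refine ⟨fun x y v => ?_, fun c x v => ?_, fun v x y => ?_, fun c v x => ?_⟩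
    · apply Subtype.ext
      rw [Subfield.coe_add, hB, hB, hB, hι₀add, Matrix.mulVec_add, hermForm_add_left]
      ring
    · apply Subtype.ext
      rw [Subfield.coe_mul, hB, hB, hι₀smul, Matrix.mulVec_smul, hermForm_smul_left]
      ring
    · apply Subtype.ext
      rw [Subfield.coe_add, hB, hB, hB, hι₀add, Matrix.mulVec_add, hermForm_add_right hF]
      ring
    · apply Subtype.ext
      rw [Subfield.coe_mul, hB, hB, hι₀smul, Matrix.mulVec_smul, hermForm_smul_right,
        (Cfsg.Agent.Helper3.AschU.mem_iff_pow_q_eq hF F₀ hc (c : F)).mp c.2]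
      ring
  have haltB : ∀ v, B v v = 0 := by
    intro v
    apply Subtype.ext
    rw [hB, halt _ (hι₀ v), mul_zero]
    rfl
  have hskew : ∀ v w, B v w = - B w v := by
    intro v w
    have h := haltB (v + w)
    rw [hbil.add_left, hbil.add_right, hbil.add_right, haltB v, haltB w] at h
    linear_combination h
  have hnd : IsNondegenerateForm B := by
    intro v hv
    have hex : ∃ x, B v x ≠ 0 := by
      by_contra hcon
      push Not at hcon
      have hw0 : (P : Matrix (Fin n) (Fin n) F) *ᵥ ι₀ v ≠ 0 := by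
        intro h0
        apply hv
        apply hι₀inj
        have := congrArg (fun z => ((P⁻¹ : GL (Fin n) F) : Matrix (Fin n) (Fin n) F) *ᵥ z) h0
        simpa [Matrix.mulVec_mulVec] using this
      obtain ⟨x, hx⟩ := ((Cfsg.Agent.Helper5.Asch.hermForm_nondegenerate (n := n) hF) _ hw0).2
      -- the right kernel of `h(w, P ·)` contains the standard basis
      obtain ⟨Wz, hWz⟩ : ∃ Wz : Submodule F (Fin n → F), ∀ y, y ∈ Wz ↔
          hermForm n F q ((P : Matrix (Fin n) (Fin n) F) *ᵥ ι₀ v) ((P : Matrix (Fin n) (Fin n) F) *ᵥ y) = 0 :=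
        ⟨{ carrier := {y | hermForm n F q ((P : Matrix (Fin n) (Fin n) F) *ᵥ ι₀ v)
              ((P : Matrix (Fin n) (Fin n) F) *ᵥ y) = 0}
           add_mem' := fun {a b} ha hb => by
             show hermForm n F q _ ((P : Matrix (Fin n) (Fin n) F) *ᵥ (a + b)) = 0
             rw [Matrix.mulVec_add, hermForm_add_right hF, ha, hb, add_zero]
           zero_mem' := by
             show hermForm n F q _ ((P : Matrix (Fin n) (Fin n) F) *ᵥ 0) = 0
             rw [Matrix.mulVec_zero]
             unfold hermForm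
             refine Finset.sum_eq_zero fun i _ => ?_
             rw [Pi.zero_apply, zero_pow (by have := Cfsg.Agent.Helper3.AschU.two_le_q hF; omega), mul_zero]
           smul_mem' := fun a {b} hb => by
             show hermForm n F q _ ((P : Matrix (Fin n) (Fin n) F) *ᵥ (a • b)) = 0
             rw [Matrix.mulVec_smul, hermForm_smul_right, hb, mul_zero] }, fun y => Iff.rfl⟩
      have hbasis : ∀ j : Fin n, (Pi.single j (1 : F) : Fin n → F) ∈ Wz := by
        intro j
        rw [hWz]
        have h1 := hcon (Pi.single j (1 : F₀))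
        have h2 := congrArg Subtype.val h1
        rw [hB] at h2
        have h3 : ι₀ (Pi.single j (1 : F₀)) = Pi.single j (1 : F) := by
          funext i
          rw [hι₀def]
          by_cases hij : i = j
          · subst hij
            simp
          · simp [Pi.single_eq_of_ne hij]
        rw [h3] at h2
        rcases mul_eq_zero.mp h2 with h | h
        · exact absurd h hζ0
        · exact h
      have htop : Wz = ⊤ := by
        rw [Submodule.eq_top_iff']
        intro y
        rw [pi_eq_sum_univ y]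
        refine Submodule.sum_mem _ fun j _ => Submodule.smul_mem _ _ ?_
        have : (fun k : Fin n => if j = k then (1 : F) else 0) = Pi.single j 1 := by
          funext k
          by_cases hjk : k = j
          · subst hjk
            simp
          · rw [Pi.single_eq_of_ne hjk, if_neg (fun h => hjk h.symm)]
        rw [this]
        exact hbasis j
      have hxmem : ((P⁻¹ : GL (Fin n) F) : Matrix (Fin n) (Fin n) F) *ᵥ x ∈ Wz := by
        rw [htop]
        trivial
      rw [hWz, Matrix.mulVec_mulVec, ← Units.val_mul, mul_inv_cancel, Units.val_one, Matrix.one_mulVec] at hxmem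
      exact hx hxmem
    obtain ⟨x, hx⟩ := hex
    refine ⟨⟨x, ?_⟩, ⟨x, hx⟩⟩
    rw [hskew x v]
    exact neg_ne_zero.mpr hx
  exact Cfsg.Agent.Helper6.AschGen.even_of_isSymplecticForm (F := F₀) ⟨hbil, hskew, haltB, hnd⟩

end Cfsg.Agent.Helper3.AschGU
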