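import Mathlib
import Cfsg.Prelude.Def_GeometricClasses
import Cfsg.Agent.Helper3.AschCUMain
import Cfsg.Agent.Helper3.AschGUEven
import Cfsg.Agent.Helper9.AschPPUMain
import Cfsg.Agent.Helper4.AschFC7H
import Cfsg.Agent.Helper1.AschPPUP5
import Cfsg.Agent.Helper5.AschCUT3

/-!
# ASCH-GEN-U assembly (helper3): Aschbacher's theorem for arbitrary subgroups of `GU_n(q)`, `n ≥ 3`

`asch_gen_unitary`: `H` an arbitrary subgroup of `GU_n(q)`; either `H` lies in a member of one of the classes of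
`InUnitaryClass`, or `H` is in the residual class.  The pieces that were not yet landed when this file was written enter
through the hypothesis structure `PiecesGU` (helper9's ASCH-PP-U pieces UD2, U23).
-/

set_option autoImplicit false
set_option linter.unusedSectionVars false
set_option linter.unusedVariables false
set_option linter.unusedTactic false
set_option linter.unreachableTactic false

namespace Cfsg.Agent.Helper3.AschGU

open Cfsg Cfsg.Geo Cfsg.Agent.Lead.Asch Cfsg.Agent.Helper3.AschCU Cfsg.Agent.Helper9.AschC6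
open scoped MatrixGroups Matrix Kronecker

variable {n : ℕ} {F : Type*} [Field F] [Fintype F]

/-- the pieces UD2, U23 of helper9's ASCH-PP-U blueprint as hypotheses -/
structure PiecesGU (n : ℕ) (F : Type*) [Field F] [Fintype F] (q : ℕ) : Prop where
  ud2 : ∀ (k : ℕ), 1 ≤ k → ∀ (e : Fin n ≃ (Fin k → Fin 2)) (Pm : GL (Fin n) F)
    (f₁ : (Fin 2 → F) → (Fin 2 → F) → F), IsUnitaryFormPow q f₁ →
    IsTensorPowerFormStructure (fun x : F => x ^ q) (hermForm n F q) f₁ e Pm →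
    (∃ (F₁ : Subfield F) (P : GL (Fin n) F) (ζ : F), Fintype.card F = Nat.card F₁ ^ 2 ∧ ζ ≠ 0 ∧ ζ + ζ ^ q = 0 ∧
      IsFormRationalStructure (hermForm n F q) F₁ ζ P ∧
      (∀ u : Fin n → F, (∀ i, u i ∈ F₁) → hermForm n F q ((P : Matrix (Fin n) (Fin n) F) *ᵥ u)
        ((P : Matrix (Fin n) (Fin n) F) *ᵥ u) = 0) ∧
      tensorWreathSubgroup 2 k e Pm ⊓ GU n F q ≤ subfieldSubgroup F₁ P) ∨
    (Odd q ∧ Even k ∧ ∃ (F₁ : Subfield F) (P : GL (Fin n) F), Fintype.card F = Nat.card F₁ ^ 2 ∧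
      IsFormRationalStructure (hermForm n F q) F₁ 1 P ∧
      tensorWreathSubgroup 2 k e Pm ⊓ GU n F q ≤ subfieldSubgroup F₁ P)
  u23 : q = 2 → ∀ (e : Fin n ≃ (Fin 2 → Fin 3)) (P : GL (Fin n) F) (f₁ : (Fin 3 → F) → (Fin 3 → F) → F),
    IsUnitaryFormPow q f₁ → IsTensorPowerFormStructure (fun x : F => x ^ q) (hermForm n F q) f₁ e P →
    ∃ R : Subgroup (GL (Fin n) F), IsSymplecticTypeGroup 3 R ∧ ActsAbsolutelyIrreducibly (matrixSet R) ∧
      R ≤ GU n F q ⊓ specialLinear (Fin n) F ∧ Nat.card R = 243 ∧ Nat.card (Subgroup.center R) = 3 ∧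
      tensorWreathSubgroup 3 2 e P ⊓ GU n F q ≤ subgroupNormalizer R

/-- `F_4` is the minimal field for cube roots of unity in characteristic two -/
theorem isMinimalFieldFor_three (hF : Fintype.card F = 2 ^ 2) : IsMinimalFieldFor 3 2 2 F := by
  obtain ⟨p, k, hp, hchar, hqk⟩ := Cfsg.Agent.Helper7.Herm.exists_char_pow hF
  have hp2 : p = 2 := by
    have h1 : p ∣ 2 := by
      rw [hqk]
      exact dvd_pow_self p (by
        rintro rfl
        simp at hqk)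
    exact (Nat.prime_dvd_prime_iff_eq hp Nat.prime_two).mp h1
  subst hp2
  refine ⟨Nat.prime_two, hchar, hF, by norm_num, ?_⟩
  intro d hd0 hd2
  have hd1 : d = 1 := by omega
  subst hd1
  norm_num

/-- Aschbacher's theorem for arbitrary subgroups of `GU_n(q)`, `n ≥ 3`. -/
theorem asch_gen_unitary (hn3 : 3 ≤ n) (q : ℕ) (hF : Fintype.card F = q ^ 2) (hp : PiecesGU n F q)
    (H : Subgroup (GL (Fin n) F)) (hHI : H ≤ GU n F q) :
    (∃ M : Subgroup (GL (Fin n) F), InUnitaryClass n F q M ∧ H ≤ M) ∨ InUnitaryResidualClass H := by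
  classical
  have hpc : PiecesCU n F q := Cfsg.Agent.Helper9.AschPPU.piecesCU (by omega) q hF
  have mk : ∀ X : Subgroup (GL (Fin n) F), InUnitaryClass n F q (X ⊓ GU n F q) → H ≤ X →
      (∃ M : Subgroup (GL (Fin n) F), InUnitaryClass n F q M ∧ H ≤ M) ∨ InUnitaryResidualClass H :=
    fun X hX hle => Or.inl ⟨_, hX, le_inf hle hHI⟩
  -- exits
  have exitSub : ((∃ (F₁ : Subfield F) (r : ℕ) (Pm : GL (Fin n) F), r.Prime ∧ Odd r ∧
      Fintype.card F = Nat.card F₁ ^ r ∧ IsFormRationalStructure (hermForm n F q) F₁ 1 Pm ∧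
      H ≤ subfieldSubgroup F₁ Pm) ∨
    (∃ (F₁ : Subfield F) (Pm : GL (Fin n) F) (ζ : F), Fintype.card F = Nat.card F₁ ^ 2 ∧ ζ ≠ 0 ∧
      ζ + ζ ^ q = 0 ∧ IsFormRationalStructure (hermForm n F q) F₁ ζ Pm ∧
      (∀ u : Fin n → F, (∀ i, u i ∈ F₁) → hermForm n F q ((Pm : Matrix (Fin n) (Fin n) F) *ᵥ u)
        ((Pm : Matrix (Fin n) (Fin n) F) *ᵥ u) = 0) ∧
      H ≤ subfieldSubgroup F₁ Pm) ∨
    (Odd q ∧ ∃ (F₁ : Subfield F) (Pm : GL (Fin n) F), Fintype.card F = Nat.card F₁ ^ 2 ∧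
      IsFormRationalStructure (hermForm n F q) F₁ 1 Pm ∧ H ≤ subfieldSubgroup F₁ Pm)) →
      (∃ M : Subgroup (GL (Fin n) F), InUnitaryClass n F q M ∧ H ≤ M) ∨ InUnitaryResidualClass H := by
    rintro (⟨F₁, r, Pm, hr, hro, hc, hfr, hle⟩ | ⟨F₁, Pm, ζ, hc, hζ0, hζ, hfr, halt, hle⟩ | ⟨hq, F₁, Pm, hc, hfr, hle⟩)
    · exact mk _ (Or.inl (Or.inr (Or.inr (Or.inr (Or.inr (Or.inl ⟨F₁, r, Pm, hr, hro, hc, hfr, rfl⟩)))))) hle
    · exact mk _ (Or.inl (Or.inr (Or.inr (Or.inr (Or.inr (Or.inr (Or.inr (Or.inl ⟨F₁, Pm, ζ,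
        even_of_zeta_rational q hF F₁ Pm ζ hc hζ0 hfr halt, hc, hζ0, hζ, hfr, halt, rfl⟩)))))))) hle
    · exact mk _ (Or.inl (Or.inr (Or.inr (Or.inr (Or.inr (Or.inr (Or.inl ⟨F₁, Pm, hq, hc, hfr, rfl⟩))))))) hle
  have exitTwo : ∀ (k : ℕ), 1 ≤ k → ∀ (e : Fin n ≃ (Fin k → Fin 2)) (Pm : GL (Fin n) F)
      (f₁ : (Fin 2 → F) → (Fin 2 → F) → F), IsUnitaryFormPow q f₁ →
      IsTensorPowerFormStructure (fun x : F => x ^ q) (hermForm n F q) f₁ e Pm →
      H ≤ tensorWreathSubgroup 2 k e Pm →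
      (∃ M : Subgroup (GL (Fin n) F), InUnitaryClass n F q M ∧ H ≤ M) ∨ InUnitaryResidualClass H := by
    intro k hk e Pm f₁ h₁ hT hle
    rcases hp.ud2 k hk e Pm f₁ h₁ hT with ⟨F₁, P, ζ, hc, hζ0, hζ, hfr, halt, hle'⟩ | ⟨hq, -, F₁, P, hc, hfr, hle'⟩
    · exact exitSub (Or.inr (Or.inl ⟨F₁, P, ζ, hc, hζ0, hζ, hfr, halt, fun h hh => hle' ⟨hle hh, hHI hh⟩⟩))
    · exact exitSub (Or.inr (Or.inr ⟨hq, F₁, P, hc, hfr, fun h hh => hle' ⟨hle hh, hHI hh⟩⟩))
  have exitPow : ∀ (d k : ℕ) (e : Fin n ≃ (Fin k → Fin d)) (Pm : GL (Fin n) F)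
      (f₁ : (Fin d → F) → (Fin d → F) → F), 3 ≤ d → 2 ≤ k → ¬ (q = 2 ∧ d = 3) → IsUnitaryFormPow q f₁ →
      IsTensorPowerFormStructure (fun x : F => x ^ q) (hermForm n F q) f₁ e Pm →
      H ≤ tensorWreathSubgroup d k e Pm →
      (∃ M : Subgroup (GL (Fin n) F), InUnitaryClass n F q M ∧ H ≤ M) ∨ InUnitaryResidualClass H := by
    intro d k e Pm f₁ hd hk hnot h₁ hT hle
    exact mk _ (Or.inr (Or.inr (Or.inr ⟨d, k, e, Pm, f₁, hd, hk, hnot, h₁, hT, rfl⟩))) hle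
  -- Step 1: reducible
  by_cases hirr : ActsIrreducibly (matrixSet H)
  swap
  · rcases unitary_reducible_gen q hF hHI hirr with ⟨W, h0, h1, hts, hle⟩ | ⟨W, h0, h1, hnd, hdim, hle⟩ |
      ⟨m, D, hD, hm, hle⟩
    · exact mk _ (Or.inl (Or.inl ⟨W, h0, hts, rfl⟩)) hle
    · exact mk _ (Or.inl (Or.inr (Or.inl ⟨W, h0, hnd, hdim, rfl⟩))) hle
    · exact mk _ (Or.inl (Or.inr (Or.inr (Or.inl ⟨2, m, D, hD, rfl⟩)))) hle
  -- Step 2: imprimitive
  by_cases hC2 : ∃ (t m : ℕ) (D : Fin t → Submodule F (Fin n → F)),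
      IsNondegenerateMDecomposition (hermForm n F q) m D ∧ t * m = n ∧ H ≤ decompositionStabilizer D
  · obtain ⟨t, m, D, hD, -, hle⟩ := hC2
    exact mk _ (Or.inl (Or.inr (Or.inr (Or.inl ⟨t, m, D, hD, rfl⟩)))) hle
  by_cases hC2' : ∃ (m : ℕ) (D : Fin 2 → Submodule F (Fin n → F)), IsMDecomposition m D ∧ 2 * m = n ∧
      (∀ i, IsTotallySingularFor (hermForm n F q) (D i)) ∧ H ≤ decompositionStabilizer D
  · obtain ⟨m, D, hD, hm, hts, hle⟩ := hC2'
    exact mk _ (Or.inl (Or.inr (Or.inr (Or.inr (Or.inl ⟨m, D, hm, hD, hts, rfl⟩))))) hle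
  -- Step 3: extension field
  by_cases hC3 : ∃ (r : ℕ) (K : Subalgebra F (Matrix (Fin n) (Fin n) F)), r.Prime ∧ Odd r ∧ r ∣ n ∧
      IsFieldSubalgebra r K ∧ IsAdjointClosedFor (hermForm n F q) K ∧ H ≤ subalgebraNormalizer K
  · obtain ⟨r, K, hr, hro, -, hK, hadj, hle⟩ := hC3
    exact mk _ (Or.inr (Or.inl ⟨r, K, hr, hro, hK, hadj, rfl⟩)) hle
  -- Step 4: tensor
  by_cases hC4 : ∃ (n₁ n₂ : ℕ) (e : Fin n ≃ Fin n₁ × Fin n₂) (P : GL (Fin n) F)
      (f₁ : (Fin n₁ → F) → (Fin n₁ → F) → F) (f₂ : (Fin n₂ → F) → (Fin n₂ → F) → F), 2 ≤ n₁ ∧ 2 ≤ n₂ ∧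
      IsUnitaryFormPow q f₁ ∧ IsUnitaryFormPow q f₂ ∧
      IsTensorFormStructure (fun x : F => x ^ q) (hermForm n F q) f₁ f₂ e P ∧
      H ≤ tensorProductSubgroup n₁ n₂ e P
  · obtain ⟨n₁, n₂, e, P, f₁, f₂, h1, h2, hf₁, hf₂, hT, hle⟩ := hC4
    rcases lt_trichotomy n₁ n₂ with hlt | heq | hgt
    · exact mk _ (Or.inr (Or.inr (Or.inl ⟨n₁, n₂, e, P, f₁, f₂, h1, hlt, hf₁, hf₂, hT, rfl⟩))) hle
    · subst heq
      obtain ⟨e', P', hT', hle'⟩ := Cfsg.Agent.Helper5.AschPPU.tensor_equal_to_power q hF n₁ (by omega) e P f₁ f₂ hf₁ hf₂ hT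
      have hleW : H ≤ tensorWreathSubgroup n₁ 2 e' P' := hle.trans hle'
      by_cases hk2 : n₁ = 2
      · subst hk2
        exact exitTwo 2 (by norm_num) e' P' f₁ hf₁ hT' hleW
      by_cases hq3 : q = 2 ∧ n₁ = 3
      · obtain ⟨hq2, rfl⟩ := hq3
        obtain ⟨R, hsym, habs, hRle, hcardR, hcardZ, hnorm⟩ := hp.u23 hq2 e' P' f₁ hf₁ hT'
        have hF4 : Fintype.card F = 2 ^ 2 := by rw [hF, hq2]
        refine mk _ (Or.inl (Or.inr (Or.inr (Or.inr (Or.inr (Or.inr (Or.inr (Or.inr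
          ⟨3, R, 2, 2, 2, hsym, habs,
            Cfsg.Agent.Helper5.AschCU.le_similarityGroup_of_le_GU (hRle.trans inf_le_left), by norm_num, ?_,
            Or.inl ⟨by decide, hcardZ, by norm_num, by rw [hcardR]; norm_num⟩, rfl⟩))))))))
          (fun h hh => hnorm ⟨hleW hh, hHI hh⟩)
        rw [hcardZ]
        exact isMinimalFieldFor_three hF4
      · exact exitPow n₁ 2 e' P' f₁ (by omega) (by norm_num) hq3 hf₁ hT' hleW
    · rw [Cfsg.Agent.Helper9.AschCompK.tensorProductSubgroup_swap] at hle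
      exact mk _ (Or.inr (Or.inr (Or.inl ⟨n₂, n₁, _, P, f₂, f₁, h2, hgt, hf₂, hf₁,
        tensorForm_swap _ _ f₁ f₂ e P hT, rfl⟩))) hle
  -- Step 5: all normal subgroups are scalar or absolutely irreducible
  have hall : ∀ M : Subgroup (GL (Fin n) F), M ≤ H → Nzes H M →
      M ≤ scalars (Fin n) F ∨ ActsAbsolutelyIrreducibly (matrixSet M) := by
    intro M hMH hMnz
    rcases clifford_comp_unitary (by omega) q hF hpc hHI hirr hMH hMnz with h | h | h | h | h | h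
    · exact absurd h hC2
    · exact absurd h hC2'
    · exact absurd h hC3
    · exact absurd h hC4
    · exact Or.inl h
    · exact Or.inr h
  have hHns : ¬ H ≤ scalars (Fin n) F := not_le_scalars_of_irred (by omega) hirr
  obtain ⟨N, hNH, hNnz, hNns, hmin⟩ := exists_minimal hHns
  have hNabs : ActsAbsolutelyIrreducibly (matrixSet N) := (hall N hNH hNnz).resolve_left hNns
  have hNI : N ≤ GU n F q := hNH.trans hHI
  by_cases hsub : ∃ F₀ : Subfield F, F₀ ≠ ⊤ ∧ RealisableOver F₀ (matrixSet N)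
  · obtain ⟨F₀, h0, hr⟩ := hsub
    exact exitSub (Cfsg.Agent.Helper3.AschU.subfield_unitary_gen (by omega) q hF hNI hNnz hNabs F₀ h0 hr)
  by_cases hperf : ⁅N, N⁆ = N
  · -- perfect case
    rcases Cfsg.Agent.Helper4.AschTI.perfect_case_unitary (by omega) hF hNH hNnz hNns hall hmin hperf hNI with
      ⟨d, k, e, Pm, f₁, P₁, hd, hk, h₁, hT, hP₁perf, hP₁abs, hP₁fix, hle⟩ | ⟨hsimp, hnab, hcent⟩
    · by_cases hd2 : d = 2
      · subst hd2
        exact exitTwo k (by omega) e Pm f₁ h₁ hT hle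
      by_cases hq3 : q = 2 ∧ d = 3
      · exfalso
        obtain ⟨hq2, rfl⟩ := hq3
        subst hq2
        have hbot := Cfsg.Agent.Helper1.AschPPU.eq_bot_of_perfect_GU3_two hF f₁ h₁ P₁ hP₁perf hP₁fix
        rw [hbot] at hP₁abs
        exact Cfsg.Agent.Helper4.AschTI.not_absIrr_bot (by norm_num) hP₁abs
      · exact exitPow d k e Pm f₁ (by omega) hk hq3 h₁ hT hle
    refine Or.inr ⟨N, ?_, ?_, ?_⟩
    · exact
        { le := hNH
          normal := hNnz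
          perfect := hperf
          simple := hsimp
          nonabelian := hnab
          centralizer_scalar := hcent
          absIrred := hNabs
          no_subfield := fun F₀ h0 hr => hsub ⟨F₀, h0, hr⟩ }
    · rintro ⟨Q, hQ, hfix⟩
      exact hsub (Cfsg.Agent.Helper5.AschU.realisable_of_fixes_quad q hF (by omega) hNI hNabs Q hQ hfix)
    · rintro ⟨f, hf, hfix⟩
      exact hsub (Cfsg.Agent.Lead.AschCU.realisable_of_fixes_symp q hF (by omega) hNI hNabs f hf hfix)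
  · -- symplectic-type case
    have hcomm : ⁅N, N⁆ ≤ scalars (Fin n) F := by
      by_contra hc
      exact hperf (hmin _ (Subgroup.commutator_le_self N) (nzes_commutator hNnz) hc)
    rcases Cfsg.Agent.Helper5.AschCU.symplectic_type_case_unitary (by omega) q hF
        (H := H) (N := N) ⟨hNH, hNnz, hNns, hNabs, hmin, hcomm⟩ hNI with
      ⟨r, p, e, k, hsym, habs, hsim, hrp, hmf, hcards, -, hle⟩ | hsubf
    · exact mk _ (Or.inl (Or.inr (Or.inr (Or.inr (Or.inr (Or.inr (Or.inr (Or.inr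
        ⟨r, N, p, e, k, hsym, habs, hsim, hrp, hmf, hcards, rfl⟩)))))))) hle
    · exact exitSub hsubf

end Cfsg.Agent.Helper3.AschGU
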