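import Mathlib

/-!
# ASCH-OM part 3 (Ω_10^±), piece D5-C1 (helper3): perfect groups of 2 × 2 matrices preserving a binary quadratic form

A perfect group of 2 × 2 matrices over a field preserving a non-zero quadratic form `v ↦ vᵀ A v` is trivial: the
determinants are one; `gᵀ A g - A` is alternating, `= λ_g J`, with `λ` additive, so zero; then `gᵀ` commutes with the
non-scalar matrix `A J`, whose centraliser is commutative.
-/

set_option autoImplicit false

namespace Cfsg.Agent.Helper3.AschOm10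

open Matrix

variable {K : Type*} [Field K]

/-- the standard alternating matrix -/
def J2 (K : Type*) [Field K] : Matrix (Fin 2) (Fin 2) K := !![0, 1; -1, 0]

theorem transpose_mul_J2_mul (g : Matrix (Fin 2) (Fin 2) K) : gᵀ * J2 K * g = g.det • J2 K := by
  ext i j
  fin_cases i <;> fin_cases j <;>
    simp [J2, Matrix.mul_apply, Fin.sum_univ_two, Matrix.det_fin_two] <;> ring

theorem J2_mul_J2 : J2 K * J2 K = -1 := by
  ext i j
  fin_cases i <;> fin_cases j <;> simp [J2, Matrix.mul_apply, Fin.sum_univ_two]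

theorem dot_J2 (v : Fin 2 → K) : v ⬝ᵥ (J2 K *ᵥ v) = 0 := by
  simp [J2, dotProduct, Matrix.mulVec, Fin.sum_univ_two]
  ring

theorem eq_smul_J2_of_alternating (X : Matrix (Fin 2) (Fin 2) K) (h : ∀ v : Fin 2 → K, v ⬝ᵥ (X *ᵥ v) = 0) :
    X = X 0 1 • J2 K := by
  have h0 := h ![1, 0]
  have h1 := h ![0, 1]
  have h2 := h ![1, 1]
  simp [dotProduct, Matrix.mulVec, Fin.sum_univ_two] at h0 h1 h2
  ext i j
  fin_cases i <;> fin_cases j <;> simp [J2]
  · exact h0
  · linear_combination h2 - h0 - h1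
  · exact h1

theorem dot_transpose_mul_mul' (P A : Matrix (Fin 2) (Fin 2) K) (v : Fin 2 → K) :
    v ⬝ᵥ ((Pᵀ * A * P) *ᵥ v) = (P *ᵥ v) ⬝ᵥ (A *ᵥ (P *ᵥ v)) := by
  rw [← Matrix.mulVec_mulVec, ← Matrix.mulVec_mulVec, Matrix.dotProduct_mulVec, Matrix.vecMul_transpose]

/-- a homomorphism from a perfect group to a commutative group is trivial -/
theorem hom_eq_one_of_perfect {N C : Type*} [Group N] [CommGroup C] (hperf : commutator N = ⊤) (ψ : N →* C)
    (g : N) : ψ g = 1 := by
  have h := Abelianization.commutator_subset_ker ψ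
  rw [hperf] at h
  exact MonoidHom.mem_ker.mp (h (Subgroup.mem_top g))

omit [Field K] in
theorem ext_fin_two {X Y : Matrix (Fin 2) (Fin 2) K} (h00 : X 0 0 = Y 0 0) (h01 : X 0 1 = Y 0 1)
    (h10 : X 1 0 = Y 1 0) (h11 : X 1 1 = Y 1 1) : X = Y := by
  ext i j
  fin_cases i <;> fin_cases j <;> assumption

/-- a matrix commuting with a non-scalar 2 × 2 matrix is a polynomial in it, up to a non-zero factor -/
theorem exists_smul_eq_of_comm_nonscalar {M X : Matrix (Fin 2) (Fin 2) K} (hM : ∀ μ : K, M ≠ μ • 1)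
    (hX : X * M = M * X) : ∃ t : K, t ≠ 0 ∧ ∃ α β : K, t • X = α • (1 : Matrix (Fin 2) (Fin 2) K) + β • M := by
  have e00 := congrFun (congrFun hX 0) 0
  have e01 := congrFun (congrFun hX 0) 1
  have e10 := congrFun (congrFun hX 1) 0
  have e11 := congrFun (congrFun hX 1) 1
  simp only [Matrix.mul_apply, Fin.sum_univ_two] at e00 e01 e10 e11
  have h01 : (1 : Matrix (Fin 2) (Fin 2) K) 0 1 = 0 := Matrix.one_apply_ne (by decide)
  have h10 : (1 : Matrix (Fin 2) (Fin 2) K) 1 0 = 0 := Matrix.one_apply_ne (by decide)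
  by_cases hb : M 0 1 = 0
  · by_cases hc : M 1 0 = 0
    · have had : M 0 0 - M 1 1 ≠ 0 := by
        intro h
        apply hM (M 0 0)
        apply ext_fin_two <;>
          simp only [Matrix.smul_apply, smul_eq_mul, Matrix.one_apply_eq, h01, h10, mul_one, mul_zero]
        · exact hb
        · exact hc
        · linear_combination (-1) * h
      refine ⟨M 0 0 - M 1 1, had, (M 0 0 - M 1 1) * X 0 0 - M 0 0 * (X 0 0 - X 1 1), X 0 0 - X 1 1, ?_⟩
      rw [hb] at e01
      rw [hc] at e10
      apply ext_fin_two <;>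
        simp only [Matrix.smul_apply, Matrix.add_apply, smul_eq_mul, Matrix.one_apply_eq, h01, h10, hb, hc]
      · ring
      · linear_combination (-1) * e01
      · linear_combination e10
      · ring
    · refine ⟨M 1 0, hc, M 1 0 * X 0 0 - X 1 0 * M 0 0, X 1 0, ?_⟩
      apply ext_fin_two <;>
        simp only [Matrix.smul_apply, Matrix.add_apply, smul_eq_mul, Matrix.one_apply_eq, h01, h10]
      · ring
      · linear_combination e00
      · ring
      · linear_combination e10
  · refine ⟨M 0 1, hb, M 0 1 * X 1 1 - X 0 1 * M 1 1, X 0 1, ?_⟩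
    apply ext_fin_two <;>
      simp only [Matrix.smul_apply, Matrix.add_apply, smul_eq_mul, Matrix.one_apply_eq, h01, h10]
    · linear_combination e01
    · ring
    · linear_combination (-1) * e00
    · ring

/-- the centraliser of a non-scalar 2 × 2 matrix is commutative -/
theorem comm_of_comm_nonscalar {M X Y : Matrix (Fin 2) (Fin 2) K} (hM : ∀ μ : K, M ≠ μ • 1)
    (hX : X * M = M * X) (hY : Y * M = M * Y) : X * Y = Y * X := by
  obtain ⟨t, ht, α, β, hrep⟩ := exists_smul_eq_of_comm_nonscalar hM hX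
  have h1 : t • (X * Y) = t • (Y * X) := by
    rw [← smul_mul_assoc, ← mul_smul_comm, hrep, add_mul, mul_add, smul_mul_assoc, smul_mul_assoc, mul_smul_comm,
      mul_smul_comm, one_mul, mul_one, hY]
  exact smul_right_injective _ ht h1

/-- **D5-C1**: a perfect group acting on `K²` and preserving a non-zero quadratic form `v ↦ vᵀ A v` acts trivially. -/
theorem map_eq_one_of_perfect_of_quad {N : Type*} [Group N] (hperf : commutator N = ⊤)
    (φ : N →* Matrix (Fin 2) (Fin 2) K) (A : Matrix (Fin 2) (Fin 2) K)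
    (hA : ∃ v : Fin 2 → K, v ⬝ᵥ (A *ᵥ v) ≠ 0)
    (hpres : ∀ (g : N) (v : Fin 2 → K), (φ g *ᵥ v) ⬝ᵥ (A *ᵥ (φ g *ᵥ v)) = v ⬝ᵥ (A *ᵥ v)) (g : N) :
    φ g = 1 := by
  -- determinants
  have hdet : ∀ g, (φ g).det = 1 := by
    intro g
    have := hom_eq_one_of_perfect hperf ((Matrix.detMonoidHom.comp φ).toHomUnits) g
    have h2 := congrArg Units.val this
    simpa using h2
  have hJ : ∀ g, (φ g)ᵀ * J2 K * φ g = J2 K := by
    intro g
    rw [transpose_mul_J2_mul, hdet, one_smul]
  -- the alternating defect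
  obtain ⟨lam, hlam⟩ : ∃ lam : N → K, ∀ g, lam g = ((φ g)ᵀ * A * φ g - A) 0 1 := ⟨_, fun _ => rfl⟩
  have hX : ∀ g, (φ g)ᵀ * A * φ g = A + lam g • J2 K := by
    intro g
    have h1 : (φ g)ᵀ * A * φ g - A = ((φ g)ᵀ * A * φ g - A) 0 1 • J2 K := by
      apply eq_smul_J2_of_alternating
      intro v
      rw [Matrix.sub_mulVec, dotProduct_sub, dot_transpose_mul_mul', hpres, sub_self]
    rw [hlam, ← h1]
    abel
  have hJ01 : J2 K 0 1 = 1 := by simp [J2]
  have hlam_mul : ∀ g h, lam (g * h) = lam g + lam h := by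
    intro g h
    have h1 : (φ (g * h))ᵀ * A * φ (g * h) = A + (lam g + lam h) • J2 K := by
      rw [map_mul, Matrix.transpose_mul]
      calc (φ h)ᵀ * (φ g)ᵀ * A * (φ g * φ h) = (φ h)ᵀ * ((φ g)ᵀ * A * φ g) * φ h := by
            simp only [Matrix.mul_assoc]
        _ = (φ h)ᵀ * A * φ h + lam g • ((φ h)ᵀ * J2 K * φ h) := by
            rw [hX g, Matrix.mul_add, Matrix.add_mul, Matrix.mul_smul, Matrix.smul_mul]
        _ = A + (lam g + lam h) • J2 K := by
            rw [hX h, hJ h, add_smul]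
            abel
    have h2 := hX (g * h)
    rw [h1] at h2
    have h3 := congrFun (congrFun h2 0) 1
    simp only [Matrix.add_apply, Matrix.smul_apply, hJ01, smul_eq_mul, mul_one] at h3
    exact (add_left_cancel h3).symm
  have hlam0 : ∀ g, lam g = 0 := by
    have hone : lam 1 = 0 := by
      have := hlam_mul 1 1
      rw [one_mul] at this
      exact left_eq_add.mp this
    let ψ : N →* Multiplicative K :=
      { toFun := fun g => Multiplicative.ofAdd (lam g)
        map_one' := by rw [hone]; rfl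
        map_mul' := fun g h => by rw [hlam_mul]; rfl }
    intro g
    have := hom_eq_one_of_perfect hperf ψ g
    exact this
  have hpresA : ∀ g, (φ g)ᵀ * A * φ g = A := by
    intro g
    rw [hX, hlam0, zero_smul, add_zero]
  -- `gᵀ` commutes with `A J`
  have hinv : ∀ g, φ g * φ g⁻¹ = 1 := by
    intro g
    rw [← map_mul, mul_inv_cancel, map_one]
  have hcomm : ∀ g, (φ g)ᵀ * (A * J2 K) = (A * J2 K) * (φ g)ᵀ := by
    intro g
    have h1 : (φ g)ᵀ * J2 K = J2 K * φ g⁻¹ := by
      have := congrArg (· * φ g⁻¹) (hJ g)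
      simp only [Matrix.mul_assoc, hinv, Matrix.mul_one] at this
      exact this
    have h2 : (φ g)ᵀ * A = A * φ g⁻¹ := by
      have := congrArg (· * φ g⁻¹) (hpresA g)
      simp only [Matrix.mul_assoc, hinv, Matrix.mul_one] at this
      exact this
    have h3 : φ g⁻¹ * J2 K = J2 K * (φ g)ᵀ := by
      have h4 : J2 K * ((φ g)ᵀ * J2 K) * J2 K = J2 K * (J2 K * φ g⁻¹) * J2 K := by rw [h1]
      have h5 : J2 K * ((φ g)ᵀ * J2 K) * J2 K = -(J2 K * (φ g)ᵀ) := by
        rw [Matrix.mul_assoc, Matrix.mul_assoc, J2_mul_J2, Matrix.mul_neg, Matrix.mul_neg, Matrix.mul_one]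
      have h6 : J2 K * (J2 K * φ g⁻¹) * J2 K = -(φ g⁻¹ * J2 K) := by
        rw [← Matrix.mul_assoc, J2_mul_J2, Matrix.neg_mul, Matrix.neg_mul, Matrix.one_mul]
      rw [h5, h6] at h4
      exact (neg_injective h4).symm
    rw [← Matrix.mul_assoc, h2, Matrix.mul_assoc, h3, Matrix.mul_assoc]
  have hns : ∀ μ : K, A * J2 K ≠ μ • 1 := by
    intro μ hμ
    obtain ⟨v, hv⟩ := hA
    apply hv
    have h1 : A = (-μ) • J2 K := by
      have := congrArg (· * J2 K) hμ
      simp only [Matrix.mul_assoc, J2_mul_J2, Matrix.mul_neg, Matrix.mul_one, Matrix.smul_mul, Matrix.one_mul] at this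
      rw [neg_smul, ← this, neg_neg]
    rw [h1, Matrix.smul_mulVec, dotProduct_smul, dot_J2, smul_zero]
  have hab : ∀ g h, φ g * φ h = φ h * φ g := by
    intro g h
    have := comm_of_comm_nonscalar hns (hcomm h) (hcomm g)
    rw [← Matrix.transpose_mul, ← Matrix.transpose_mul] at this
    exact Matrix.transpose_injective this
  -- conclusion
  have hker : commutator N ≤ φ.toHomUnits.ker := by
    rw [commutator_eq_closure, Subgroup.closure_le]
    rintro x ⟨p, q, rfl⟩
    rw [SetLike.mem_coe, MonoidHom.mem_ker, map_commutatorElement, commutatorElement_eq_one_iff_commute]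
    exact Units.ext (hab p q)
  rw [hperf] at hker
  have := MonoidHom.mem_ker.mp (hker (Subgroup.mem_top g))
  have h2 := congrArg Units.val this
  simpa using h2

end Cfsg.Agent.Helper3.AschOm10
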