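import Mathlib
import Cfsg.Prelude.Def_GeometricClasses
import Cfsg.Agent.Helper7.FExA
import Cfsg.Agent.Helper3.AschOm10C1

/-!
# ASCH-OM part 3 (Ω_10^±), piece D5-C2 + assembly (helper3)

A perfect group of isometries centralising a field `E` of degree `n / 2` is trivial, given an `E`-valued quadratic form
invariant under the isometries centralising `E` (piece C3): coordinates with respect to an `E`-basis of `F^n` turn the
group into a group of 2 × 2 matrices over `E` preserving a non-zero binary quadratic form (piece C1).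
-/

set_option autoImplicit false
set_option linter.unusedSectionVars false

namespace Cfsg.Agent.Helper3.AschOm10

open Matrix Cfsg Cfsg.Geo Cfsg.Agent.Helper7.FEx
open scoped MatrixGroups

variable {n : ℕ} {F : Type*} [Field F] [Fintype F]

/-- a subgroup equal to its own commutator subgroup is a perfect group -/
theorem commutator_eq_top_of_perfect {G : Type*} [Group G] {N : Subgroup G} (hperf : ⁅N, N⁆ = N) :
    commutator N = ⊤ := by
  apply Subgroup.map_injective N.subtype_injective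
  rw [Subgroup.map_subtype_commutator, hperf, ← MonoidHom.range_eq_map, Subgroup.range_subtype]

/-- D5-C from the `E`-valued quadratic form (C3). -/
theorem eq_bot_of_perfect_of_field_quadratic {r : ℕ} (hn : n = 2 * r) (hn0 : 0 < n)
    (E : Subalgebra F (Matrix (Fin n) (Fin n) F)) (hE : IsFieldSubalgebra r E)
    {N : Subgroup (GL (Fin n) F)}
    (hcE : ∀ x ∈ N, ∀ k ∈ E, (x : Matrix (Fin n) (Fin n) F) * k = k * (x : Matrix (Fin n) (Fin n) F))
    (hperf : ⁅N, N⁆ = N)
    (qE : (Fin n → F) → Matrix (Fin n) (Fin n) F)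
    (bE : (Fin n → F) → (Fin n → F) → Matrix (Fin n) (Fin n) F)
    (hqE : ∀ v, qE v ∈ E) (hbE : ∀ u v, bE u v ∈ E)
    (hpol : ∀ u v, qE (u + v) = qE u + qE v + bE u v)
    (hsq : ∀ k ∈ E, ∀ v, qE (k *ᵥ v) = k * k * qE v)
    (hbsmul : ∀ k ∈ E, ∀ u v, bE (k *ᵥ u) v = k * bE u v)
    (hbsymm : ∀ u v, bE u v = bE v u)
    (hne : ∃ v, qE v ≠ 0)
    (hinv : ∀ g ∈ N, ∀ v, qE ((g : Matrix (Fin n) (Fin n) F) *ᵥ v) = qE v) :
    N = ⊥ := by
  classical
  have : Nonempty (Fin n) := ⟨⟨0, hn0⟩⟩
  let _ := fieldOfSub E hE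
  let _ := modOfSub E
  have hr : 0 < r := by omega
  have hfin2 : Module.finrank E (Fin n → F) = 2 := by
    have h := finrank_mul hr E hE
    rw [Fintype.card_fin] at h
    have h2 : r * Module.finrank E (Fin n → F) = r * 2 := by rw [h, hn]; ring
    exact Nat.eq_of_mul_eq_mul_left hr h2
  have : Module.Finite E (Fin n → F) := Module.finite_of_finrank_pos (by rw [hfin2]; norm_num)
  let b : Module.Basis (Fin 2) E (Fin n → F) := Module.finBasisOfFinrankEq E (Fin n → F) hfin2
  -- the linear maps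
  let L : N → ((Fin n → F) →ₗ[E] (Fin n → F)) := fun g =>
    { toFun := fun v => ((g : GL (Fin n) F) : Matrix (Fin n) (Fin n) F) *ᵥ v
      map_add' := fun u v => Matrix.mulVec_add _ u v
      map_smul' := fun k v => by
        show ((g : GL (Fin n) F) : Matrix (Fin n) (Fin n) F) *ᵥ ((k : Matrix (Fin n) (Fin n) F) *ᵥ v) =
          (k : Matrix (Fin n) (Fin n) F) *ᵥ (((g : GL (Fin n) F) : Matrix (Fin n) (Fin n) F) *ᵥ v)
        rw [Matrix.mulVec_mulVec, Matrix.mulVec_mulVec, hcE g g.2 k k.2] }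
  have hL : ∀ (g : N) (v : Fin n → F), L g v = ((g : GL (Fin n) F) : Matrix (Fin n) (Fin n) F) *ᵥ v := fun _ _ => rfl
  let φ : N →* Matrix (Fin 2) (Fin 2) E :=
    { toFun := fun g => LinearMap.toMatrix b b (L g)
      map_one' := by
        have h1 : L 1 = LinearMap.id := by
          ext v i
          rw [hL]
          simp
        rw [h1, LinearMap.toMatrix_id]
      map_mul' := fun g h => by
        have h1 : L (g * h) = (L g).comp (L h) := by
          ext v i
          rw [LinearMap.comp_apply, hL, hL, hL, Matrix.mulVec_mulVec]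
          simp
        rw [h1, LinearMap.toMatrix_comp b b b] }
  have hφ : ∀ g : N, φ g = LinearMap.toMatrix b b (L g) := fun _ => rfl
  -- the quadratic form over `E`
  let qK : (Fin n → F) → E := fun v => ⟨qE v, hqE v⟩
  let bK : (Fin n → F) → (Fin n → F) → E := fun u v => ⟨bE u v, hbE u v⟩
  have hqK_add : ∀ u v, qK (u + v) = qK u + qK v + bK u v := fun u v => Subtype.ext (hpol u v)
  have hqK_smul : ∀ (k : E) (v : Fin n → F), qK (k • v) = k * k * qK v := fun k v => Subtype.ext (hsq k k.2 v)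
  have hbK_smul : ∀ (k : E) (u v : Fin n → F), bK (k • u) v = k * bK u v :=
    fun k u v => Subtype.ext (hbsmul k k.2 u v)
  have hbK_symm : ∀ u v, bK u v = bK v u := fun u v => Subtype.ext (hbsymm u v)
  obtain ⟨A, hAdef⟩ : ∃ A : Matrix (Fin 2) (Fin 2) E, A = !![qK (b 0), bK (b 0) (b 1); 0, qK (b 1)] := ⟨_, rfl⟩
  have hkey : ∀ v : Fin n → F, qK v = (⇑(b.repr v)) ⬝ᵥ (A *ᵥ (⇑(b.repr v))) := by
    intro v
    have hv : b.repr v 0 • b 0 + b.repr v 1 • b 1 = v := by
      have h := b.sum_repr v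
      rw [Fin.sum_univ_two] at h
      exact h
    conv_lhs => rw [← hv]
    rw [hqK_add, hqK_smul, hqK_smul, hbK_smul, hbK_symm, hbK_smul, hbK_symm, hAdef]
    simp [dotProduct, Matrix.mulVec, Fin.sum_univ_two]
    ring
  have hpres : ∀ (g : N) (x : Fin 2 → E), (φ g *ᵥ x) ⬝ᵥ (A *ᵥ (φ g *ᵥ x)) = x ⬝ᵥ (A *ᵥ x) := by
    intro g x
    obtain ⟨v, hv⟩ : ∃ v : Fin n → F, ⇑(b.repr v) = x := by
      refine ⟨b.equivFun.symm x, ?_⟩
      rw [← Module.Basis.equivFun_apply, LinearEquiv.apply_symm_apply]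
    rw [← hv, hφ, LinearMap.toMatrix_mulVec_repr, ← hkey, ← hkey, hL]
    exact Subtype.ext (hinv g g.2 v)
  have hA : ∃ x : Fin 2 → E, x ⬝ᵥ (A *ᵥ x) ≠ 0 := by
    obtain ⟨v, hv⟩ := hne
    refine ⟨⇑(b.repr v), ?_⟩
    rw [← hkey]
    intro h
    exact hv (congrArg Subtype.val h)
  have htriv := map_eq_one_of_perfect_of_quad (commutator_eq_top_of_perfect hperf) φ A hA hpres
  rw [Subgroup.eq_bot_iff_forall]
  intro g hg
  have h1 := htriv ⟨g, hg⟩
  rw [hφ, ← LinearMap.toMatrix_id b] at h1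
  have h2 : L ⟨g, hg⟩ = LinearMap.id := (LinearMap.toMatrix b b).injective h1
  apply Units.ext
  apply Matrix.toLin'.injective
  apply LinearMap.ext
  intro v
  have h3 := congrArg (fun f => f v) h2
  simp only [hL, LinearMap.id_apply] at h3
  rw [Matrix.toLin'_apply, h3]
  simp

end Cfsg.Agent.Helper3.AschOm10
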