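import Mathlib

/-!
# ASCH-OM part 3 (Ω_10^±), piece D5-C3, duality (helper3)

For a finite-dimensional field extension `K / F` and a non-zero `F`-linear functional `θ` on `K`, every `F`-linear
functional on `K` is `x ↦ θ (x * c)` for a unique `c`.
-/

set_option autoImplicit false

namespace Cfsg.Agent.Helper3.AschOm10

variable {F K : Type*} [Field F] [Field K] [Algebra F K] [FiniteDimensional F K]

/-- `c ↦ θ (· * c)` -/
noncomputable def dualMap (θ : K →ₗ[F] F) : K →ₗ[F] (K →ₗ[F] F) :=
  (LinearMap.mul F K).compr₂ θ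

omit [FiniteDimensional F K] in
theorem dualMap_apply (θ : K →ₗ[F] F) (c x : K) : dualMap θ c x = θ (x * c) := by
  unfold dualMap
  rw [LinearMap.compr₂_apply, LinearMap.mul_apply', mul_comm]

theorem dualMap_injective (θ : K →ₗ[F] F) (hθ : θ ≠ 0) : Function.Injective (dualMap θ) := by
  rw [← LinearMap.ker_eq_bot, LinearMap.ker_eq_bot']
  intro c hc
  by_contra hc0
  apply hθ
  ext y
  have h := congrArg (fun f => f (y * c⁻¹)) hc
  simp only [dualMap_apply, LinearMap.zero_apply] at h
  rw [mul_assoc, inv_mul_cancel₀ hc0, mul_one] at h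
  rw [h, LinearMap.zero_apply]

theorem dualMap_surjective (θ : K →ₗ[F] F) (hθ : θ ≠ 0) : Function.Surjective (dualMap θ) := by
  have h := dualMap_injective θ hθ
  have hfin : Module.finrank F K = Module.finrank F (K →ₗ[F] F) := (Subspace.dual_finrank_eq (K := F) (V := K)).symm
  exact (LinearMap.injective_iff_surjective_of_finrank_eq_finrank hfin).mp h

/-- every functional is `θ (· * c)` -/
theorem exists_dual (θ : K →ₗ[F] F) (hθ : θ ≠ 0) (φ : K →ₗ[F] F) : ∃ c : K, ∀ x, φ x = θ (x * c) := by
  obtain ⟨c, hc⟩ := dualMap_surjective θ hθ φ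
  exact ⟨c, fun x => by rw [← hc, dualMap_apply]⟩

/-- uniqueness -/
theorem dual_unique (θ : K →ₗ[F] F) (hθ : θ ≠ 0) {c c' : K} (h : ∀ x, θ (x * c) = θ (x * c')) : c = c' := by
  apply dualMap_injective θ hθ
  ext x
  rw [dualMap_apply, dualMap_apply, h]

/-- a non-zero functional exists -/
theorem exists_ne_zero_functional (F K : Type*) [Field F] [Field K] [Algebra F K] [FiniteDimensional F K] :
    ∃ θ : K →ₗ[F] F, θ ≠ 0 := by
  have h1 : 0 < Module.finrank F (K →ₗ[F] F) := by
    have h2 : Module.finrank F (K →ₗ[F] F) = Module.finrank F K := Subspace.dual_finrank_eq (K := F) (V := K)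
    rw [h2]
    exact Module.finrank_pos
  have : Nontrivial (K →ₗ[F] F) := Module.nontrivial_of_finrank_pos h1
  exact exists_ne 0

end Cfsg.Agent.Helper3.AschOm10
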