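import Mathlib
import Cfsg.Prelude.Def_GeometricClasses
import Cfsg.Agent.Helper7.FExA
import Cfsg.Agent.Helper3.AschOm10Dual

/-!
# ASCH-OM part 3 (Ω_10^±), piece D5-C3 in characteristic two (helper3)

The quadratic form with values in a self-adjoint field `E` of matrices: in characteristic two `λ ↦ √(Q (λ v))` is an
`F`-linear functional on `E`, `= θ (λ d_v)`, and `q_E v = d_v ^ 2`.
-/

set_option autoImplicit false
set_option linter.unusedSectionVars false

namespace Cfsg.Agent.Helper3.AschOm10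

open Matrix Cfsg Cfsg.Geo Cfsg.Agent.Helper7.FEx
open scoped MatrixGroups

variable {n : ℕ} {F : Type*} [Field F] [Fintype F]

/-- C3, characteristic two. -/
theorem exists_field_quadratic_even {r : ℕ} (h2 : (2 : F) = 0) (Q : (Fin n → F) → F)
    (hQ : IsNondegenerateQuadraticForm Q) (E : Subalgebra F (Matrix (Fin n) (Fin n) F)) (hE : IsFieldSubalgebra r E)
    (hn : 0 < n) (hsa : IsSelfAdjointFor (QuadraticMap.polar Q) E) :
    ∃ (qE : (Fin n → F) → Matrix (Fin n) (Fin n) F)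
      (bE : (Fin n → F) → (Fin n → F) → Matrix (Fin n) (Fin n) F),
      (∀ v, qE v ∈ E) ∧ (∀ u v, bE u v ∈ E) ∧ (∀ u v, qE (u + v) = qE u + qE v + bE u v) ∧
      (∀ k ∈ E, ∀ v, qE (k *ᵥ v) = k * k * qE v) ∧ (∀ u u' v, bE (u + u') v = bE u v + bE u' v) ∧
      (∀ k ∈ E, ∀ u v, bE (k *ᵥ u) v = k * bE u v) ∧ (∀ u v, bE u v = bE v u) ∧ (∃ v, qE v ≠ 0) ∧
      (∀ g : GL (Fin n) F, g ∈ isometryGroup F Q →
        (∀ k ∈ E, (g : Matrix (Fin n) (Fin n) F) * k = k * (g : Matrix (Fin n) (Fin n) F)) →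
        ∀ v, qE ((g : Matrix (Fin n) (Fin n) F) *ᵥ v) = qE v) := by
  classical
  have : Nonempty (Fin n) := ⟨⟨0, hn⟩⟩
  let _ := fieldOfSub E hE
  have hfd : FiniteDimensional F E := inferInstance
  have : Finite E := Module.finite_of_finite F
  have : CharP F 2 := CharTwo.of_one_ne_zero_of_two_eq_zero one_ne_zero h2
  have : CharP E 2 := charP_of_injective_algebraMap (algebraMap F E).injective 2
  have : ExpChar F 2 := ExpChar.prime Nat.prime_two
  have : ExpChar E 2 := ExpChar.prime Nat.prime_two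
  -- square roots
  obtain ⟨sF, hsF, hsF'⟩ : ∃ sF : F ≃+* F, (∀ x, sF x ^ 2 = x) ∧ (∀ x, sF (x ^ 2) = x) :=
    ⟨(frobeniusEquiv F 2).symm, fun x => frobeniusEquiv_symm_pow_p F 2 x, fun x => frobeniusEquiv_symm_pow F 2 x⟩
  obtain ⟨sE, hsE⟩ : ∃ sE : E ≃+* E, ∀ x, sE x ^ 2 = x :=
    ⟨(frobeniusEquiv E 2).symm, fun x => frobeniusEquiv_symm_pow_p E 2 x⟩
  have hsEmul : ∀ x : E, sE x * sE x = x := fun x => by rw [← sq, hsE]
  -- the polar form
  have hB := hQ.polar_bilinear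
  have hQ0 : Q 0 = 0 := by
    have h := hQ.smul (0 : F) (0 : Fin n → F)
    rw [zero_smul] at h
    rw [h]
    ring
  have hBself : ∀ w : Fin n → F, QuadraticMap.polar Q w w = 0 := by
    intro w
    have hw : w + w = 0 := by
      rw [← two_smul F w, h2, zero_smul]
    unfold QuadraticMap.polar
    rw [hw, hQ0, zero_sub]
    have h3 : -Q w - Q w = -(2 * Q w) := by ring
    rw [h3, h2, zero_mul, neg_zero]
  have hQadd : ∀ a b : Fin n → F, Q (a + b) = Q a + Q b + QuadraticMap.polar Q a b := by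
    intro a b
    unfold QuadraticMap.polar
    ring
  -- `B (λ v, μ v) = 0`
  have hBline : ∀ (k l : E) (v : Fin n → F),
      QuadraticMap.polar Q ((k : Matrix (Fin n) (Fin n) F) *ᵥ v) ((l : Matrix (Fin n) (Fin n) F) *ᵥ v) = 0 := by
    intro k l v
    obtain ⟨m, hm⟩ : ∃ m : E, m * m = l * k := ⟨sE (l * k), hsEmul _⟩
    have hm' : (m : Matrix (Fin n) (Fin n) F) * (m : Matrix (Fin n) (Fin n) F) =
        (l : Matrix (Fin n) (Fin n) F) * (k : Matrix (Fin n) (Fin n) F) := congrArg Subtype.val hm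
    rw [← hsa l l.2, Matrix.mulVec_mulVec, ← hm', ← Matrix.mulVec_mulVec, hsa m m.2, hBself]
  -- the functionals
  have hψadd : ∀ (v : Fin n → F) (k l : E),
      Q (((k + l : E) : Matrix (Fin n) (Fin n) F) *ᵥ v) =
        Q ((k : Matrix (Fin n) (Fin n) F) *ᵥ v) + Q ((l : Matrix (Fin n) (Fin n) F) *ᵥ v) := by
    intro v k l
    have h1 : ((k + l : E) : Matrix (Fin n) (Fin n) F) *ᵥ v =
        (k : Matrix (Fin n) (Fin n) F) *ᵥ v + (l : Matrix (Fin n) (Fin n) F) *ᵥ v := by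
      rw [← Matrix.add_mulVec]
      rfl
    rw [h1, hQadd, hBline, add_zero]
  obtain ⟨ψ, hψ⟩ : ∃ ψ : (Fin n → F) → (E →ₗ[F] F), ∀ v (k : E),
      ψ v k = sF (Q ((k : Matrix (Fin n) (Fin n) F) *ᵥ v)) := by
    refine ⟨fun v =>
      { toFun := fun k => sF (Q ((k : Matrix (Fin n) (Fin n) F) *ᵥ v))
        map_add' := fun k l => by rw [hψadd, map_add]
        map_smul' := fun c k => by
          have h1 : ((c • k : E) : Matrix (Fin n) (Fin n) F) *ᵥ v = c • ((k : Matrix (Fin n) (Fin n) F) *ᵥ v) :=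
            smul_assoc' E c k v
          rw [h1, hQ.smul, map_mul, hsF', RingHom.id_apply, smul_eq_mul] }, fun v k => rfl⟩
  obtain ⟨θ, hθ⟩ := exists_ne_zero_functional F E
  choose d hd using fun φ : E →ₗ[F] F => exists_dual θ hθ φ
  obtain ⟨D, hDdef⟩ : ∃ D : (Fin n → F) → E, ∀ v, D v = d (ψ v) := ⟨_, fun _ => rfl⟩
  have hD : ∀ (v : Fin n → F) (k : E), sF (Q ((k : Matrix (Fin n) (Fin n) F) *ᵥ v)) = θ (k * D v) := by
    intro v k
    rw [← hψ, hd, hDdef]
  have huniq : ∀ {c c' : E}, (∀ k : E, θ (k * c) = θ (k * c')) → c = c' := fun h => dual_unique θ hθ h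
  have hchar : ∀ a b c : F, a + b + c + a + b = c := by
    intro a b c
    have ha := CharTwo.add_self_eq_zero a
    have hb := CharTwo.add_self_eq_zero b
    linear_combination ha + hb
  -- homogeneity and invariance
  have hDsmul : ∀ (k : E) (v : Fin n → F), D ((k : Matrix (Fin n) (Fin n) F) *ᵥ v) = k * D v := by
    intro k v
    apply huniq
    intro l
    rw [← hD, Matrix.mulVec_mulVec, ← mul_assoc, ← hD]
    rfl
  have hDinv : ∀ g : GL (Fin n) F, g ∈ isometryGroup F Q →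
      (∀ k ∈ E, (g : Matrix (Fin n) (Fin n) F) * k = k * (g : Matrix (Fin n) (Fin n) F)) →
      ∀ v, D ((g : Matrix (Fin n) (Fin n) F) *ᵥ v) = D v := by
    intro g hg hgc v
    apply huniq
    intro l
    rw [← hD, ← hD, Matrix.mulVec_mulVec, ← hgc l l.2, ← Matrix.mulVec_mulVec]
    congr 1
    exact hg ((l : Matrix (Fin n) (Fin n) F) *ᵥ v) ((l : Matrix (Fin n) (Fin n) F) *ᵥ v)
  -- the polar map
  obtain ⟨δ, hδdef⟩ : ∃ δ : (Fin n → F) → (Fin n → F) → E, ∀ u v, δ u v = D (u + v) + D u + D v :=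
    ⟨_, fun _ _ => rfl⟩
  have hδ : ∀ (u v : Fin n → F) (k : E),
      θ (k * δ u v) = sF (QuadraticMap.polar Q (((k * k : E) : Matrix (Fin n) (Fin n) F) *ᵥ u) v) := by
    intro u v k
    have hB' : QuadraticMap.polar Q ((k : Matrix (Fin n) (Fin n) F) *ᵥ u) ((k : Matrix (Fin n) (Fin n) F) *ᵥ v) =
        QuadraticMap.polar Q (((k * k : E) : Matrix (Fin n) (Fin n) F) *ᵥ u) v := by
      rw [← hsa k k.2, Matrix.mulVec_mulVec]
      rfl
    rw [hδdef, mul_add, mul_add, map_add, map_add, ← hD, ← hD, ← hD, Matrix.mulVec_add, hQadd, map_add, map_add,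
      hB', hchar]
  have hδsmul : ∀ (k : E) (u v : Fin n → F), δ ((k : Matrix (Fin n) (Fin n) F) *ᵥ u) v = sE k * δ u v := by
    intro k u v
    apply huniq
    intro l
    rw [hδ, ← mul_assoc, hδ, Matrix.mulVec_mulVec]
    have h1 : l * sE k * (l * sE k) = l * l * k := by
      rw [mul_mul_mul_comm, hsEmul]
    rw [h1]
    rfl
  have hδadd : ∀ u u' v : Fin n → F, δ (u + u') v = δ u v + δ u' v := by
    intro u u' v
    apply huniq
    intro l
    rw [mul_add, map_add, hδ, hδ, hδ, Matrix.mulVec_add, hB.add_left, map_add]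
  have hδsymm : ∀ u v : Fin n → F, δ u v = δ v u := by
    intro u v
    rw [hδdef, hδdef, add_comm u v, add_assoc, add_comm (D u), ← add_assoc]
  have hDadd : ∀ u v : Fin n → F, D (u + v) = D u + D v + δ u v := by
    intro u v
    rw [hδdef]
    have ha := CharTwo.add_self_eq_zero (D u)
    have hb := CharTwo.add_self_eq_zero (D v)
    linear_combination (-1 : E) * ha - hb
  refine ⟨fun v => ((D v * D v : E) : Matrix (Fin n) (Fin n) F),
    fun u v => ((δ u v * δ u v : E) : Matrix (Fin n) (Fin n) F), fun v => (D v * D v).2, fun u v => (δ u v * δ u v).2,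
    ?_, ?_, ?_, ?_, ?_, ?_, ?_⟩
  · intro u v
    show ((D (u + v) * D (u + v) : E) : Matrix (Fin n) (Fin n) F) =
      ((D u * D u + D v * D v + δ u v * δ u v : E) : Matrix (Fin n) (Fin n) F)
    rw [hDadd, CharTwo.add_mul_self, CharTwo.add_mul_self]
  · intro k hk v
    show ((D (k *ᵥ v) * D (k *ᵥ v) : E) : Matrix (Fin n) (Fin n) F) =
      (((⟨k, hk⟩ : E) * ⟨k, hk⟩ * (D v * D v) : E) : Matrix (Fin n) (Fin n) F)
    rw [hDsmul ⟨k, hk⟩ v, mul_mul_mul_comm]
  · intro u u' v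
    show ((δ (u + u') v * δ (u + u') v : E) : Matrix (Fin n) (Fin n) F) =
      ((δ u v * δ u v + δ u' v * δ u' v : E) : Matrix (Fin n) (Fin n) F)
    rw [hδadd, CharTwo.add_mul_self]
  · intro k hk u v
    show ((δ (k *ᵥ u) v * δ (k *ᵥ u) v : E) : Matrix (Fin n) (Fin n) F) =
      (((⟨k, hk⟩ : E) * (δ u v * δ u v) : E) : Matrix (Fin n) (Fin n) F)
    rw [hδsmul ⟨k, hk⟩ u v, mul_mul_mul_comm, hsEmul]
  · intro u v
    show ((δ u v * δ u v : E) : Matrix (Fin n) (Fin n) F) = ((δ v u * δ v u : E) : Matrix (Fin n) (Fin n) F)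
    rw [hδsymm]
  · by_contra hcon
    push Not at hcon
    have hD0 : ∀ v, D v = 0 := by
      intro v
      have h1 : D v * D v = 0 := Subtype.ext (hcon v)
      exact mul_self_eq_zero.mp h1
    have hQz : ∀ v, Q v = 0 := by
      intro v
      have h1 := hD v 1
      rw [hD0, mul_zero, map_zero] at h1
      have h3 : ((1 : E) : Matrix (Fin n) (Fin n) F) *ᵥ v = v := by
        show (1 : Matrix (Fin n) (Fin n) F) *ᵥ v = v
        exact Matrix.one_mulVec v
      rw [h3] at h1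
      have h4 := hsF (Q v)
      rw [h1] at h4
      rw [← h4]
      ring
    have hv : (Pi.single (⟨0, hn⟩ : Fin n) (1 : F) : Fin n → F) ≠ 0 := by
      intro h
      have := congrFun h ⟨0, hn⟩
      simp at this
    obtain ⟨⟨x, hx⟩, -⟩ := hQ.nondegenerate _ hv
    apply hx
    unfold QuadraticMap.polar
    rw [hQz, hQz, hQz]
    ring
  · intro g hg hgc v
    show ((D ((g : Matrix (Fin n) (Fin n) F) *ᵥ v) * D ((g : Matrix (Fin n) (Fin n) F) *ᵥ v) : E) :
      Matrix (Fin n) (Fin n) F) = ((D v * D v : E) : Matrix (Fin n) (Fin n) F)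
    rw [hDinv g hg hgc]

/-- C3, characteristic not two. -/
theorem exists_field_quadratic_odd {r : ℕ} (h2 : (2 : F) ≠ 0) (Q : (Fin n → F) → F)
    (hQ : IsNondegenerateQuadraticForm Q) (E : Subalgebra F (Matrix (Fin n) (Fin n) F)) (hE : IsFieldSubalgebra r E)
    (hn : 0 < n) (hsa : IsSelfAdjointFor (QuadraticMap.polar Q) E) :
    ∃ (qE : (Fin n → F) → Matrix (Fin n) (Fin n) F)
      (bE : (Fin n → F) → (Fin n → F) → Matrix (Fin n) (Fin n) F),
      (∀ v, qE v ∈ E) ∧ (∀ u v, bE u v ∈ E) ∧ (∀ u v, qE (u + v) = qE u + qE v + bE u v) ∧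
      (∀ k ∈ E, ∀ v, qE (k *ᵥ v) = k * k * qE v) ∧ (∀ u u' v, bE (u + u') v = bE u v + bE u' v) ∧
      (∀ k ∈ E, ∀ u v, bE (k *ᵥ u) v = k * bE u v) ∧ (∀ u v, bE u v = bE v u) ∧ (∃ v, qE v ≠ 0) ∧
      (∀ g : GL (Fin n) F, g ∈ isometryGroup F Q →
        (∀ k ∈ E, (g : Matrix (Fin n) (Fin n) F) * k = k * (g : Matrix (Fin n) (Fin n) F)) →
        ∀ v, qE ((g : Matrix (Fin n) (Fin n) F) *ᵥ v) = qE v) := by
  classical
  have : Nonempty (Fin n) := ⟨⟨0, hn⟩⟩
  let _ := fieldOfSub E hE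
  have hfd : FiniteDimensional F E := inferInstance
  have hB := hQ.polar_bilinear
  have hBsymm : ∀ a b : Fin n → F, QuadraticMap.polar Q a b = QuadraticMap.polar Q b a :=
    fun a b => QuadraticMap.polar_comm Q a b
  have h2E : (2 : E) ≠ 0 := by
    intro h
    apply h2
    have h1 : algebraMap F E 2 = 0 := by rw [map_ofNat]; exact h
    exact (map_eq_zero (algebraMap F E)).mp h1
  obtain ⟨φ, hφ⟩ : ∃ φ : (Fin n → F) → (Fin n → F) → (E →ₗ[F] F), ∀ u v (k : E),
      φ u v k = QuadraticMap.polar Q ((k : Matrix (Fin n) (Fin n) F) *ᵥ u) v := by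
    refine ⟨fun u v =>
      { toFun := fun k => QuadraticMap.polar Q ((k : Matrix (Fin n) (Fin n) F) *ᵥ u) v
        map_add' := fun k l => by
          have h1 : ((k + l : E) : Matrix (Fin n) (Fin n) F) *ᵥ u =
              (k : Matrix (Fin n) (Fin n) F) *ᵥ u + (l : Matrix (Fin n) (Fin n) F) *ᵥ u := by
            rw [← Matrix.add_mulVec]
            rfl
          rw [h1, hB.add_left]
        map_smul' := fun c k => by
          have h1 : ((c • k : E) : Matrix (Fin n) (Fin n) F) *ᵥ u = c • ((k : Matrix (Fin n) (Fin n) F) *ᵥ u) :=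
            smul_assoc' E c k u
          rw [h1, hB.smul_left, RingHom.id_apply, smul_eq_mul] }, fun u v k => rfl⟩
  obtain ⟨θ, hθ⟩ := exists_ne_zero_functional F E
  choose d hd using fun ψ : E →ₗ[F] F => exists_dual θ hθ ψ
  obtain ⟨β, hβdef⟩ : ∃ β : (Fin n → F) → (Fin n → F) → E, ∀ u v, β u v = d (φ u v) := ⟨_, fun _ _ => rfl⟩
  have hβ : ∀ (u v : Fin n → F) (k : E),
      QuadraticMap.polar Q ((k : Matrix (Fin n) (Fin n) F) *ᵥ u) v = θ (k * β u v) := by
    intro u v k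
    rw [← hφ, hd, hβdef]
  have huniq : ∀ {c c' : E}, (∀ k : E, θ (k * c) = θ (k * c')) → c = c' := fun h => dual_unique θ hθ h
  have hβsmul : ∀ (k : E) (u v : Fin n → F), β ((k : Matrix (Fin n) (Fin n) F) *ᵥ u) v = k * β u v := by
    intro k u v
    apply huniq
    intro l
    rw [← hβ, Matrix.mulVec_mulVec, ← mul_assoc, ← hβ]
    rfl
  have hβadd : ∀ u u' v : Fin n → F, β (u + u') v = β u v + β u' v := by
    intro u u' v
    apply huniq
    intro l
    rw [mul_add, map_add, ← hβ, ← hβ, ← hβ, Matrix.mulVec_add, hB.add_left]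
  have hβsymm : ∀ u v : Fin n → F, β u v = β v u := by
    intro u v
    apply huniq
    intro l
    rw [← hβ, ← hβ, hsa l l.2, hBsymm]
  have hβinv : ∀ g : GL (Fin n) F, g ∈ isometryGroup F Q →
      (∀ k ∈ E, (g : Matrix (Fin n) (Fin n) F) * k = k * (g : Matrix (Fin n) (Fin n) F)) →
      ∀ u v, β ((g : Matrix (Fin n) (Fin n) F) *ᵥ u) ((g : Matrix (Fin n) (Fin n) F) *ᵥ v) = β u v := by
    intro g hg hgc u v
    apply huniq
    intro l
    rw [← hβ, ← hβ, Matrix.mulVec_mulVec, ← hgc l l.2, ← Matrix.mulVec_mulVec]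
    have h : ∀ w : Fin n → F, Q ((g : Matrix (Fin n) (Fin n) F) *ᵥ w) = Q w := fun w => hg w w
    unfold QuadraticMap.polar
    rw [← Matrix.mulVec_add, h, h, h]
  refine ⟨fun v => ((β v v : E) : Matrix (Fin n) (Fin n) F),
    fun u v => ((β u v + β u v : E) : Matrix (Fin n) (Fin n) F), fun v => (β v v).2, fun u v => (β u v + β u v).2,
    ?_, ?_, ?_, ?_, ?_, ?_, ?_⟩
  · intro u v
    show ((β (u + v) (u + v) : E) : Matrix (Fin n) (Fin n) F) =
      ((β u u + β v v + (β u v + β u v) : E) : Matrix (Fin n) (Fin n) F)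
    rw [hβadd, hβsymm u (u + v), hβsymm v (u + v), hβadd, hβadd, hβsymm v u]
    congr 1
    ring
  · intro k hk v
    show ((β (k *ᵥ v) (k *ᵥ v) : E) : Matrix (Fin n) (Fin n) F) =
      (((⟨k, hk⟩ : E) * ⟨k, hk⟩ * β v v : E) : Matrix (Fin n) (Fin n) F)
    rw [hβsmul ⟨k, hk⟩ v, hβsymm v, hβsmul ⟨k, hk⟩ v, mul_assoc]
  · intro u u' v
    show ((β (u + u') v + β (u + u') v : E) : Matrix (Fin n) (Fin n) F) =
      ((β u v + β u v + (β u' v + β u' v) : E) : Matrix (Fin n) (Fin n) F)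
    rw [hβadd]
    congr 1
    ring
  · intro k hk u v
    show ((β (k *ᵥ u) v + β (k *ᵥ u) v : E) : Matrix (Fin n) (Fin n) F) =
      (((⟨k, hk⟩ : E) * (β u v + β u v) : E) : Matrix (Fin n) (Fin n) F)
    rw [hβsmul ⟨k, hk⟩ u v, mul_add]
  · intro u v
    show ((β u v + β u v : E) : Matrix (Fin n) (Fin n) F) = ((β v u + β v u : E) : Matrix (Fin n) (Fin n) F)
    rw [hβsymm]
  · by_contra hcon
    push Not at hcon
    have h0 : ∀ v, β v v = 0 := fun v => Subtype.ext (hcon v)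
    have hβ0 : ∀ u v, β u v = 0 := by
      intro u v
      have h1 := h0 (u + v)
      rw [hβadd, hβsymm u (u + v), hβsymm v (u + v), hβadd, hβadd, h0, h0, hβsymm v u, zero_add, add_zero,
        ← two_mul] at h1
      exact (mul_eq_zero.mp h1).resolve_left h2E
    have hv : (Pi.single (⟨0, hn⟩ : Fin n) (1 : F) : Fin n → F) ≠ 0 := by
      intro h
      have := congrFun h ⟨0, hn⟩
      simp at this
    obtain ⟨⟨x, hx⟩, -⟩ := hQ.nondegenerate _ hv
    apply hx
    have h1 := hβ x (Pi.single (⟨0, hn⟩ : Fin n) (1 : F)) 1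
    rw [hβ0, mul_zero, map_zero] at h1
    have h3 : ((1 : E) : Matrix (Fin n) (Fin n) F) *ᵥ x = x := by
      show (1 : Matrix (Fin n) (Fin n) F) *ᵥ x = x
      exact Matrix.one_mulVec x
    rw [h3] at h1
    exact h1
  · intro g hg hgc v
    show ((β ((g : Matrix (Fin n) (Fin n) F) *ᵥ v) ((g : Matrix (Fin n) (Fin n) F) *ᵥ v) : E) :
      Matrix (Fin n) (Fin n) F) = ((β v v : E) : Matrix (Fin n) (Fin n) F)
    rw [hβinv g hg hgc]

/-- **C3**: the quadratic form with values in a self-adjoint field of matrices. -/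
theorem exists_field_quadratic' {r : ℕ} (Q : (Fin n → F) → F)
    (hQ : IsNondegenerateQuadraticForm Q) (E : Subalgebra F (Matrix (Fin n) (Fin n) F)) (hE : IsFieldSubalgebra r E)
    (hn : 0 < n) (hsa : IsSelfAdjointFor (QuadraticMap.polar Q) E) :
    ∃ (qE : (Fin n → F) → Matrix (Fin n) (Fin n) F)
      (bE : (Fin n → F) → (Fin n → F) → Matrix (Fin n) (Fin n) F),
      (∀ v, qE v ∈ E) ∧ (∀ u v, bE u v ∈ E) ∧ (∀ u v, qE (u + v) = qE u + qE v + bE u v) ∧
      (∀ k ∈ E, ∀ v, qE (k *ᵥ v) = k * k * qE v) ∧ (∀ u u' v, bE (u + u') v = bE u v + bE u' v) ∧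
      (∀ k ∈ E, ∀ u v, bE (k *ᵥ u) v = k * bE u v) ∧ (∀ u v, bE u v = bE v u) ∧ (∃ v, qE v ≠ 0) ∧
      (∀ g : GL (Fin n) F, g ∈ isometryGroup F Q →
        (∀ k ∈ E, (g : Matrix (Fin n) (Fin n) F) * k = k * (g : Matrix (Fin n) (Fin n) F)) →
        ∀ v, qE ((g : Matrix (Fin n) (Fin n) F) *ᵥ v) = qE v) := by
  by_cases h2 : (2 : F) = 0
  · exact exists_field_quadratic_even h2 Q hQ E hE hn hsa
  · exact exists_field_quadratic_odd h2 Q hQ E hE hn hsa

end Cfsg.Agent.Helper3.AschOm10
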