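import Mathlib
import Cfsg.Prelude.Def_GeometricClasses
import Cfsg.Agent.Helper3.AschOm10C2
import Cfsg.Agent.Helper3.AschOm10C3

/-!
# ASCH-OM part 3 (Ω_10^±), piece D5-C (helper3)

A perfect group of isometries centralising a self-adjoint field of degree `n / 2` is trivial (lead's exact stub
`eq_bot_of_perfect_of_field_half` of `notes/lead_aschOm4_D5_stubs.lean.txt`).
-/

set_option autoImplicit false
set_option linter.unusedSectionVars false

namespace Cfsg.Agent.Helper3.AschOm10

open Matrix Cfsg Cfsg.Geo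
open scoped MatrixGroups

variable {n : ℕ} {F : Type*} [Field F] [Fintype F]

/-- **D5-C**: a perfect group of isometries centralising a self-adjoint field of degree `n / 2` is trivial. -/
theorem eq_bot_of_perfect_of_field_half {r : ℕ} (hn : n = 2 * r) (Q : (Fin n → F) → F)
    (hQ : IsNondegenerateQuadraticForm Q) (E : Subalgebra F (Matrix (Fin n) (Fin n) F)) (hE : IsFieldSubalgebra r E)
    (hsa : IsSelfAdjointFor (QuadraticMap.polar Q) E) {N : Subgroup (GL (Fin n) F)} (hNI : N ≤ isometryGroup F Q)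
    (hcE : ∀ x ∈ N, ∀ k ∈ E, (x : Matrix (Fin n) (Fin n) F) * k = k * (x : Matrix (Fin n) (Fin n) F))
    (hperf : ⁅N, N⁆ = N) : N = ⊥ := by
  rcases Nat.eq_zero_or_pos n with h0 | h0
  · rw [Subgroup.eq_bot_iff_forall]
    intro x _
    subst h0
    apply Units.ext
    exact Subsingleton.elim _ _
  · obtain ⟨qE, bE, hqE, hbE, hpol, hsq, -, hbsmul, hbsymm, hne, hinv⟩ := exists_field_quadratic' Q hQ E hE h0 hsa
    exact eq_bot_of_perfect_of_field_quadratic hn h0 E hE hcE hperf qE bE hqE hbE hpol hsq hbsmul hbsymm hne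
      (fun g hg v => hinv g (hNI hg) (hcE g hg) v)

end Cfsg.Agent.Helper3.AschOm10
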