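import Mathlib
import Cfsg.Prelude.Def_GeometricClasses

/-!
# ASCH-OM piece M3c, part A (helper3): the field `F[J]` attached to an anisotropic binary symmetric form

For a symmetric matrix `G = (p r; r s)` the matrix `J = adj(G) · (0 1; -1 0) = (r s; -p -r)` satisfies `J² = -det G`,
`F + F J` is a subalgebra of `M_2(F)`, a field when the form is anisotropic, and it is normalised by every similitude
of `G`.
-/

set_option autoImplicit false
set_option linter.unusedSectionVars false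

namespace Cfsg.Agent.Helper3.AschOm

open Matrix Cfsg Cfsg.Geo

variable {F : Type*} [Field F]

/-- `J = adj(G) · (0 1; -1 0)` for `G = (p r; r s)` -/
def Jm (G : Matrix (Fin 2) (Fin 2) F) : Matrix (Fin 2) (Fin 2) F := !![G 0 1, G 1 1; -G 0 0, -G 0 1]

theorem Jm_sq (G : Matrix (Fin 2) (Fin 2) F) (hs : G 1 0 = G 0 1) :
    Jm G * Jm G = (-(G.det)) • (1 : Matrix (Fin 2) (Fin 2) F) := by
  ext i j
  fin_cases i <;> fin_cases j <;>
    simp [Jm, Matrix.mul_apply, Fin.sum_univ_two, Matrix.det_fin_two, hs] <;> ring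

/-- `F + F J` -/
def K1 (G : Matrix (Fin 2) (Fin 2) F) (hs : G 1 0 = G 0 1) : Subalgebra F (Matrix (Fin 2) (Fin 2) F) where
  carrier := {z | ∃ x y : F, z = x • (1 : Matrix (Fin 2) (Fin 2) F) + y • Jm G}
  mul_mem' := by
    rintro _ _ ⟨x, y, rfl⟩ ⟨x', y', rfl⟩
    refine ⟨x * x' - y * y' * G.det, x * y' + y * x', ?_⟩
    have hJ := Jm_sq G hs
    simp only [add_mul, mul_add, smul_mul_assoc, mul_smul_comm, one_mul, mul_one, hJ, smul_smul]
    module
  one_mem' := ⟨1, 0, by rw [one_smul, zero_smul, add_zero]⟩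
  add_mem' := by
    rintro _ _ ⟨x, y, rfl⟩ ⟨x', y', rfl⟩
    exact ⟨x + x', y + y', by module⟩
  zero_mem' := ⟨0, 0, by rw [zero_smul, zero_smul, add_zero]⟩
  algebraMap_mem' := fun c => ⟨c, 0, by rw [Algebra.algebraMap_eq_smul_one, zero_smul, add_zero]⟩

theorem mem_K1 {G : Matrix (Fin 2) (Fin 2) F} {hs : G 1 0 = G 0 1} {z : Matrix (Fin 2) (Fin 2) F} :
    z ∈ K1 G hs ↔ ∃ x y : F, z = x • (1 : Matrix (Fin 2) (Fin 2) F) + y • Jm G := Iff.rfl

theorem K1_comm {G : Matrix (Fin 2) (Fin 2) F} {hs : G 1 0 = G 0 1} {z w : Matrix (Fin 2) (Fin 2) F}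
    (hz : z ∈ K1 G hs) (hw : w ∈ K1 G hs) : z * w = w * z := by
  obtain ⟨x, y, rfl⟩ := hz
  obtain ⟨x', y', rfl⟩ := hw
  simp only [add_mul, mul_add, smul_mul_assoc, mul_smul_comm, one_mul, mul_one]
  module

/-- the norm form of `F + F J` does not vanish when `G` is anisotropic -/
theorem norm_ne_zero {G : Matrix (Fin 2) (Fin 2) F} (hs : G 1 0 = G 0 1)
    (haniso : ∀ v : Fin 2 → F, v ≠ 0 → v ⬝ᵥ (G *ᵥ v) ≠ 0) (x y : F) (hxy : ¬ (x = 0 ∧ y = 0)) :
    x ^ 2 + y ^ 2 * G.det ≠ 0 := by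
  have hp : G 0 0 ≠ 0 := by
    intro hp
    have h1 : (![1, 0] : Fin 2 → F) ≠ 0 := by
      intro h
      have := congrFun h 0
      simp at this
    apply haniso _ h1
    simp [dotProduct, Matrix.mulVec, Fin.sum_univ_two, hp]
  intro h0
  have hv : (![x - G 0 1 * y, G 0 0 * y] : Fin 2 → F) ≠ 0 := by
    intro h
    have h1 := congrFun h 1
    have h2 := congrFun h 0
    simp at h1 h2
    have hy : y = 0 := by
      rcases h1 with h1 | h1
      · exact absurd h1 hp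
      · exact h1
    rw [hy, mul_zero, sub_zero] at h2
    exact hxy ⟨h2, hy⟩
  apply haniso _ hv
  simp only [dotProduct, Matrix.mulVec, Fin.sum_univ_two, Matrix.cons_val_zero, Matrix.cons_val_one, hs]
  rw [Matrix.det_fin_two, hs] at h0
  linear_combination (G 0 0) * h0

theorem G00_ne_zero {G : Matrix (Fin 2) (Fin 2) F}
    (haniso : ∀ v : Fin 2 → F, v ≠ 0 → v ⬝ᵥ (G *ᵥ v) ≠ 0) : G 0 0 ≠ 0 := by
  intro hp
  have h1 : (![1, 0] : Fin 2 → F) ≠ 0 := by
    intro h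
    have := congrFun h 0
    simp at this
  apply haniso _ h1
  simp [dotProduct, Matrix.mulVec, Fin.sum_univ_two, hp]

theorem K1_inv {G : Matrix (Fin 2) (Fin 2) F} (hs : G 1 0 = G 0 1)
    (haniso : ∀ v : Fin 2 → F, v ≠ 0 → v ⬝ᵥ (G *ᵥ v) ≠ 0) {z : Matrix (Fin 2) (Fin 2) F}
    (hz : z ∈ K1 G hs) (hz0 : z ≠ 0) : ∃ w ∈ K1 G hs, z * w = 1 := by
  obtain ⟨x, y, rfl⟩ := hz
  have hxy : ¬ (x = 0 ∧ y = 0) := by
    rintro ⟨rfl, rfl⟩
    apply hz0
    rw [zero_smul, zero_smul, add_zero]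
  have hN := norm_ne_zero hs haniso x y hxy
  refine ⟨((x ^ 2 + y ^ 2 * G.det)⁻¹ * x) • (1 : Matrix (Fin 2) (Fin 2) F) +
    (-((x ^ 2 + y ^ 2 * G.det)⁻¹ * y)) • Jm G, ⟨_, _, rfl⟩, ?_⟩
  have hJ := Jm_sq G hs
  simp only [add_mul, mul_add, smul_mul_assoc, mul_smul_comm, one_mul, mul_one, hJ, smul_smul]
  have h1 : x * ((x ^ 2 + y ^ 2 * G.det)⁻¹ * x) + y * -((x ^ 2 + y ^ 2 * G.det)⁻¹ * y) * -G.det = 1 := by
    field_simp
  have h2 : x * -((x ^ 2 + y ^ 2 * G.det)⁻¹ * y) + y * ((x ^ 2 + y ^ 2 * G.det)⁻¹ * x) = 0 := by ring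
  calc _ = (x * ((x ^ 2 + y ^ 2 * G.det)⁻¹ * x) + y * -((x ^ 2 + y ^ 2 * G.det)⁻¹ * y) * -G.det) •
        (1 : Matrix (Fin 2) (Fin 2) F) +
      (x * -((x ^ 2 + y ^ 2 * G.det)⁻¹ * y) + y * ((x ^ 2 + y ^ 2 * G.det)⁻¹ * x)) • Jm G := by module
    _ = 1 := by rw [h1, h2, one_smul, zero_smul, add_zero]

theorem K1_finrank {G : Matrix (Fin 2) (Fin 2) F} (hs : G 1 0 = G 0 1) (hp : G 0 0 ≠ 0) :
    Module.finrank F (K1 G hs) = 2 := by
  let φ : (F × F) →ₗ[F] K1 G hs :=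
    { toFun := fun p => ⟨p.1 • (1 : Matrix (Fin 2) (Fin 2) F) + p.2 • Jm G, ⟨p.1, p.2, rfl⟩⟩
      map_add' := fun a b => by
        apply Subtype.ext
        show (a + b).1 • (1 : Matrix (Fin 2) (Fin 2) F) + (a + b).2 • Jm G =
          (a.1 • (1 : Matrix (Fin 2) (Fin 2) F) + a.2 • Jm G) + (b.1 • (1 : Matrix (Fin 2) (Fin 2) F) + b.2 • Jm G)
        rw [Prod.fst_add, Prod.snd_add]
        module
      map_smul' := fun c a => by
        apply Subtype.ext
        show (c • a).1 • (1 : Matrix (Fin 2) (Fin 2) F) + (c • a).2 • Jm G =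
          c • (a.1 • (1 : Matrix (Fin 2) (Fin 2) F) + a.2 • Jm G)
        rw [Prod.smul_fst, Prod.smul_snd, smul_eq_mul, smul_eq_mul]
        module }
  have hinj : Function.Injective φ := by
    rw [← LinearMap.ker_eq_bot, LinearMap.ker_eq_bot']
    rintro ⟨x, y⟩ h
    have h' : x • (1 : Matrix (Fin 2) (Fin 2) F) + y • Jm G = 0 := congrArg Subtype.val h
    have h10 := congrFun (congrFun h' 1) 0
    have h00 := congrFun (congrFun h' 0) 0
    simp [Jm] at h10 h00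
    have hy : y = 0 := by
      rcases h10 with h | h
      · exact h
      · exact absurd h hp
    rw [hy, zero_mul, add_zero] at h00
    rw [hy, h00]
    rfl
  have hsurj : Function.Surjective φ := by
    rintro ⟨_, x, y, rfl⟩
    exact ⟨(x, y), rfl⟩
  rw [← (LinearEquiv.ofBijective φ ⟨hinj, hsurj⟩).finrank_eq, Module.finrank_prod, Module.finrank_self]

theorem K1_isField {G : Matrix (Fin 2) (Fin 2) F} (hs : G 1 0 = G 0 1)
    (haniso : ∀ v : Fin 2 → F, v ≠ 0 → v ⬝ᵥ (G *ᵥ v) ≠ 0) : IsFieldSubalgebra 2 (K1 G hs) :=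
  ⟨fun _ hx _ hy => K1_comm hx hy, fun _ hx h0 => K1_inv hs haniso hx h0, K1_finrank hs (G00_ne_zero haniso)⟩

/-- a similitude of `G` conjugates `J` to a multiple of `J` -/
theorem sim_mul_Jm {G A : Matrix (Fin 2) (Fin 2) F} (hs : G 1 0 = G 0 1) {ν : F}
    (hA : Aᵀ * G * A = ν • G) : ν • (A * Jm G) = A.det • (Jm G * A) := by
  have e00 := congrFun (congrFun hA 0) 0
  have e01 := congrFun (congrFun hA 0) 1
  have e11 := congrFun (congrFun hA 1) 1
  simp only [Matrix.mul_apply, Fin.sum_univ_two, Matrix.transpose_apply, Matrix.smul_apply, smul_eq_mul, hs]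
    at e00 e01 e11
  ext i j
  fin_cases i <;> fin_cases j
  · simp only [Jm, Matrix.smul_apply, Matrix.mul_apply, Fin.sum_univ_two, smul_eq_mul, Matrix.det_fin_two,
      Fin.zero_eta, Fin.isValue, Matrix.of_apply, Matrix.cons_val', Matrix.cons_val_zero, Matrix.cons_val_one,
      Matrix.cons_val_fin_one]
    linear_combination (-(A 0 0)) * e01 + (A 0 1) * e00
  · simp only [Jm, Matrix.smul_apply, Matrix.mul_apply, Fin.sum_univ_two, smul_eq_mul, Matrix.det_fin_two,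
      Fin.zero_eta, Fin.mk_one, Fin.isValue, Matrix.of_apply, Matrix.cons_val', Matrix.cons_val_zero,
      Matrix.cons_val_one, Matrix.cons_val_fin_one]
    linear_combination (-(A 0 0)) * e11 + (A 0 1) * e01
  · simp only [Jm, Matrix.smul_apply, Matrix.mul_apply, Fin.sum_univ_two, smul_eq_mul, Matrix.det_fin_two,
      Fin.zero_eta, Fin.mk_one, Fin.isValue, Matrix.of_apply, Matrix.cons_val', Matrix.cons_val_zero,
      Matrix.cons_val_one, Matrix.cons_val_fin_one]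
    linear_combination (-(A 1 0)) * e01 + (A 1 1) * e00
  · simp only [Jm, Matrix.smul_apply, Matrix.mul_apply, Fin.sum_univ_two, smul_eq_mul, Matrix.det_fin_two,
      Fin.mk_one, Fin.isValue, Matrix.of_apply, Matrix.cons_val', Matrix.cons_val_zero,
      Matrix.cons_val_one, Matrix.cons_val_fin_one]
    linear_combination (-(A 1 0)) * e11 + (A 1 1) * e01

/-- a similitude of `G` normalises `F + F J` -/
theorem K1_conj {G : Matrix (Fin 2) (Fin 2) F} (hs : G 1 0 = G 0 1) (a : GL (Fin 2) F) {ν : F} (hν : ν ≠ 0)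
    (hA : (a : Matrix (Fin 2) (Fin 2) F)ᵀ * G * (a : Matrix (Fin 2) (Fin 2) F) = ν • G)
    {z : Matrix (Fin 2) (Fin 2) F} (hz : z ∈ K1 G hs) :
    (a : Matrix (Fin 2) (Fin 2) F) * z * ((a⁻¹ : GL (Fin 2) F) : Matrix (Fin 2) (Fin 2) F) ∈ K1 G hs := by
  obtain ⟨x, y, rfl⟩ := hz
  have e1 : (a : Matrix (Fin 2) (Fin 2) F) * ((a⁻¹ : GL (Fin 2) F) : Matrix (Fin 2) (Fin 2) F) = 1 :=
    Units.mul_inv a
  have h1 := sim_mul_Jm hs hA
  have h2 : (a : Matrix (Fin 2) (Fin 2) F) * Jm G * ((a⁻¹ : GL (Fin 2) F) : Matrix (Fin 2) (Fin 2) F) =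
      (ν⁻¹ * (a : Matrix (Fin 2) (Fin 2) F).det) • Jm G := by
    have h3 : ν • ((a : Matrix (Fin 2) (Fin 2) F) * Jm G *
        ((a⁻¹ : GL (Fin 2) F) : Matrix (Fin 2) (Fin 2) F)) =
        (a : Matrix (Fin 2) (Fin 2) F).det • Jm G := by
      rw [← smul_mul_assoc, h1, smul_mul_assoc, mul_assoc, e1, mul_one]
    rw [mul_smul, ← h3, smul_smul, inv_mul_cancel₀ hν, one_smul]
  refine ⟨x, y * (ν⁻¹ * (a : Matrix (Fin 2) (Fin 2) F).det), ?_⟩
  rw [mul_add, add_mul, mul_smul_comm, smul_mul_assoc, mul_one, e1, mul_smul_comm, smul_mul_assoc, h2, smul_smul]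

end Cfsg.Agent.Helper3.AschOm
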