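import Mathlib
import Cfsg.Prelude.Def_GeometricClasses
import Cfsg.Agent.Helper7.TensNMA
import Cfsg.Agent.Helper7.TnSpB
import Cfsg.Agent.Helper9.AschCompC4
import Cfsg.Agent.Helper3.AschOmM3cA

/-!
# ASCH-OM piece M3c (helper3): symmetric ⊗ symmetric with a first factor of dimension two, `q` odd

If the first factor is isotropic, `x₀ ⊗ F^{n₂}` is totally singular of half the dimension; if it is anisotropic the
similitudes of the first factor normalise the field `F + F J`, and the group normalises its image under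
`z ↦ P (z ⊗ 1) P⁻¹`.
-/

set_option autoImplicit false
set_option linter.unusedSectionVars false

namespace Cfsg.Agent.Helper3.AschOm

open Matrix Cfsg Cfsg.Geo Cfsg.Agent.Helper7.TensNM Cfsg.Agent.Helper7.TnSp Cfsg.Agent.Helper9.AschComp
open scoped MatrixGroups Kronecker

variable {n : ℕ} {F : Type*} [Field F] [Fintype F]

theorem two_ne_zero_of_odd_card' (hodd : Odd (Fintype.card F)) : (2 : F) ≠ 0 := by
  intro h2
  have hchar : ringChar F = 2 := by
    have hdvd : ringChar F ∣ 2 := by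
      have := (ringChar.spec F 2).mp (by exact_mod_cast h2)
      exact this
    have hprime : (ringChar F).Prime := CharP.char_is_prime F (ringChar F)
    exact (Nat.prime_dvd_prime_iff_eq hprime Nat.prime_two).mp hdvd
  have := FiniteField.even_card_iff_char_two.mp hchar
  obtain ⟨k, hk⟩ := hodd
  omega

theorem polar_self' {Q : (Fin n → F) → F} (hQ : IsNondegenerateQuadraticForm Q) (v : Fin n → F) :
    QuadraticMap.polar Q v v = 2 * Q v := by
  unfold QuadraticMap.polar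
  have h : v + v = (2 : F) • v := (two_smul F v).symm
  rw [h, hQ.smul]
  ring

theorem quad_zero {Q : (Fin n → F) → F} (hQ : IsNondegenerateQuadraticForm Q) : Q 0 = 0 := by
  have h := hQ.smul (0 : F) (0 : Fin n → F)
  rw [zero_smul] at h
  rw [h]
  ring

theorem polar_isometry {Q : (Fin n → F) → F} {g : GL (Fin n) F} (hg : g ∈ isometryGroup F Q)
    (u v : Fin n → F) :
    QuadraticMap.polar Q ((g : Matrix (Fin n) (Fin n) F) *ᵥ u) ((g : Matrix (Fin n) (Fin n) F) *ᵥ v) =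
      QuadraticMap.polar Q u v := by
  have h : ∀ w : Fin n → F, Q ((g : Matrix (Fin n) (Fin n) F) *ᵥ w) = Q w := fun w => hg w w
  unfold QuadraticMap.polar
  rw [← Matrix.mulVec_add, h, h, h]

theorem formOfGram_gram {κ : Type} [Fintype κ] [DecidableEq κ] (f : (κ → F) → (κ → F) → F)
    (hf : IsBilinearForm f) (u v : κ → F) : formOfGram id (gramMatrix f) u v = f u v := by
  rw [formOfGram_id, ← eq_dot_gram f hf]

section coords

variable {n₁ n₂ : ℕ}

theorem Rm_conj (e : Fin n ≃ Fin n₁ × Fin n₂) (P : GL (Fin n) F)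
    (M : Matrix (Fin n₁ × Fin n₂) (Fin n₁ × Fin n₂) F) :
    Rm e P * M * Rm' e P =
      (P : Matrix (Fin n) (Fin n) F) * M.submatrix e e * ((P⁻¹ : GL (Fin n) F) : Matrix (Fin n) (Fin n) F) := by
  have h2 : M = (M.submatrix e e).submatrix e.symm e.symm := by
    ext a b
    simp
  unfold Rm Rm'
  conv_lhs => rw [h2]
  rw [Matrix.submatrix_mul_equiv, Matrix.submatrix_mul_equiv, Matrix.submatrix_id_id]

theorem tensHom_eq_Rm (e : Fin n ≃ Fin n₁ × Fin n₂) (P : GL (Fin n) F) (z : Matrix (Fin n₁) (Fin n₁) F) :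
    tensHom e P z = Rm e P * (z ⊗ₖ (1 : Matrix (Fin n₂) (Fin n₂) F)) * Rm' e P := by
  rw [Rm_conj, tensHom_apply]
  rfl

theorem Rm_conj_mul (e : Fin n ≃ Fin n₁ × Fin n₂) (P : GL (Fin n) F)
    (M N : Matrix (Fin n₁ × Fin n₂) (Fin n₁ × Fin n₂) F) :
    (Rm e P * M * Rm' e P) * (Rm e P * N * Rm' e P) = Rm e P * (M * N) * Rm' e P := by
  calc (Rm e P * M * Rm' e P) * (Rm e P * N * Rm' e P)
      = Rm e P * M * (Rm' e P * Rm e P) * N * Rm' e P := by simp only [Matrix.mul_assoc]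
    _ = Rm e P * (M * N) * Rm' e P := by rw [Rm'_mul_Rm, Matrix.mul_one]; simp only [Matrix.mul_assoc]

/-- the form on pure tensors -/
theorem polar_pt {Q : (Fin n → F) → F} (e : Fin n ≃ Fin n₁ × Fin n₂) (P : GL (Fin n) F)
    {f₁ : (Fin n₁ → F) → (Fin n₁ → F) → F} {f₂ : (Fin n₂ → F) → (Fin n₂ → F) → F}
    (h₁ : IsBilinearForm f₁) (h₂ : IsBilinearForm f₂) {c : F}
    (hc : ∀ x y : Fin n₁ × Fin n₂ → F,
      QuadraticMap.polar Q ((P : Matrix (Fin n) (Fin n) F) *ᵥ (x ∘ e)) ((P : Matrix (Fin n) (Fin n) F) *ᵥ (y ∘ e)) =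
        c * formOfGram id (gramMatrix f₁ ⊗ₖ gramMatrix f₂) x y)
    (u u' : Fin n₁ → F) (y y' : Fin n₂ → F) :
    QuadraticMap.polar Q (Rm e P *ᵥ pt u y) (Rm e P *ᵥ pt u' y') = c * (f₁ u u' * f₂ y y') := by
  rw [← mulVec_comp, ← mulVec_comp, hc]
  have h := formOfGram_pt (RingHom.id F) (gramMatrix f₁) (gramMatrix f₂) u u' y y'
  have h' : formOfGram id (gramMatrix f₁ ⊗ₖ gramMatrix f₂) (pt u y) (pt u' y') =
      formOfGram id (gramMatrix f₁) u u' * formOfGram id (gramMatrix f₂) y y' := h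
  rw [h', formOfGram_gram f₁ h₁, formOfGram_gram f₂ h₂]

/-- the Kronecker factors of an isometry in the tensor subgroup are similitudes of the factors -/
theorem factor_similitude {Q : (Fin n → F) → F} [NeZero n₁] [NeZero n₂] (e : Fin n ≃ Fin n₁ × Fin n₂)
    (P : GL (Fin n) F) {f₁ : (Fin n₁ → F) → (Fin n₁ → F) → F} {f₂ : (Fin n₂ → F) → (Fin n₂ → F) → F}
    (h₁ : IsBilinearForm f₁) (h₂ : IsBilinearForm f₂) (hn₁ : IsNondegenerateForm f₁)
    (hn₂ : IsNondegenerateForm f₂)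
    (hT : IsTensorFormStructure id (QuadraticMap.polar Q) f₁ f₂ e P) {g : GL (Fin n) F}
    (hg : g ∈ isometryGroup F Q) (a : Matrix (Fin n₁) (Fin n₁) F) (b : Matrix (Fin n₂) (Fin n₂) F)
    (hab : (g : Matrix (Fin n) (Fin n) F) = Rm e P * (a ⊗ₖ b) * Rm' e P) :
    ∃ ν : F, ν ≠ 0 ∧ aᵀ * gramMatrix f₁ * a = ν • gramMatrix f₁ := by
  obtain ⟨c, hc0, hc⟩ := hT
  have hform : ∀ x y : Fin n₁ × Fin n₂ → F,
      QuadraticMap.polar Q (Rm e P *ᵥ x) (Rm e P *ᵥ y) =
        c * formOfGram id (gramMatrix f₁ ⊗ₖ gramMatrix f₂) x y := by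
    intro x y
    rw [← mulVec_comp, ← mulVec_comp, hc]
  have hact : ∀ x : Fin n₁ × Fin n₂ → F,
      (g : Matrix (Fin n) (Fin n) F) *ᵥ (Rm e P *ᵥ x) = Rm e P *ᵥ ((a ⊗ₖ b) *ᵥ x) := by
    intro x
    rw [hab, Matrix.mulVec_mulVec, Matrix.mulVec_mulVec, Matrix.mul_assoc, Rm'_mul_Rm, Matrix.mul_one]
  have hpres : (a ⊗ₖ b)ᵀ * (gramMatrix f₁ ⊗ₖ gramMatrix f₂) * (a ⊗ₖ b) = gramMatrix f₁ ⊗ₖ gramMatrix f₂ := by
    apply matrix_eq_of_forall_dot
    intro u v
    rw [dot_transpose_mul_mul, ← formOfGram_id, ← formOfGram_id]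
    apply mul_left_cancel₀ hc0
    rw [← hform, ← hform, ← hact, ← hact, polar_isometry hg]
  have h2 : (aᵀ * gramMatrix f₁ * a) ⊗ₖ (bᵀ * gramMatrix f₂ * b) = gramMatrix f₁ ⊗ₖ gramMatrix f₂ := by
    rw [← hpres, Matrix.mul_kronecker_mul, Matrix.mul_kronecker_mul, Matrix.kroneckerMap_transpose]
  obtain ⟨ν, hν, hA, -⟩ := kron_factor _ _ _ _ h2 (gram_ne_zero f₁ h₁ hn₁) (gram_ne_zero f₂ h₂ hn₂)
  exact ⟨ν, hν, hA⟩

end coords

/-- **M3c**: symmetric ⊗ symmetric with a first factor of dimension two (`q` odd): the group normalises a field of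
degree two (anisotropic first factor), or `Q` is of plus type (isotropic first factor). -/
theorem tensor_sym_two (hodd : Odd (Fintype.card F)) (Q : (Fin n → F) → F) (hQ : IsNondegenerateQuadraticForm Q)
    {H : Subgroup (GL (Fin n) F)} (hHI : H ≤ isometryGroup F Q)
    {n₂ : ℕ} (e : Fin n ≃ Fin 2 × Fin n₂) (P : GL (Fin n) F)
    (f₁ : (Fin 2 → F) → (Fin 2 → F) → F) (f₂ : (Fin n₂ → F) → (Fin n₂ → F) → F)
    (h₁ : IsSymmetricForm f₁) (h₂ : IsSymmetricForm f₂)
    (hT : IsTensorFormStructure id (QuadraticMap.polar Q) f₁ f₂ e P)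
    (hle : H ≤ tensorProductSubgroup 2 n₂ e P) :
    (∃ K : Subalgebra F (Matrix (Fin n) (Fin n) F), IsFieldSubalgebra 2 K ∧ H ≤ subalgebraNormalizer K) ∨
    IsPlusTypeOn Q ⊤ := by
  have h2F := two_ne_zero_of_odd_card' hodd
  have hcard : n = 2 * n₂ := by
    have := Fintype.card_congr e
    simpa using this
  by_cases hiso : ∃ x₀ : Fin 2 → F, x₀ ≠ 0 ∧ f₁ x₀ x₀ = 0
  · -- isotropic first factor
    right
    obtain ⟨x₀, hx₀, hx₀0⟩ := hiso
    obtain ⟨c, hc0, hc⟩ := hT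
    obtain ⟨L, hL⟩ : ∃ L : (Fin n₂ → F) →ₗ[F] (Fin n → F), ∀ y, L y = Rm e P *ᵥ pt x₀ y :=
      ⟨{ toFun := fun y => Rm e P *ᵥ pt x₀ y
         map_add' := fun y y' => by rw [pt_add_right, Matrix.mulVec_add]
         map_smul' := fun a y => by rw [pt_smul_right, Matrix.mulVec_smul, RingHom.id_apply] }, fun y => rfl⟩
    have hLinj : Function.Injective L := by
      intro y y' hyy
      rw [hL, hL] at hyy
      have h1 := congrArg (fun v => Rm' e P *ᵥ v) hyy
      simp only [Matrix.mulVec_mulVec, Rm'_mul_Rm, Matrix.one_mulVec] at h1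
      obtain ⟨i, hi⟩ := Function.ne_iff.mp hx₀
      funext j
      have h3 := congrFun h1 (i, j)
      rw [pt_apply, pt_apply] at h3
      exact mul_left_cancel₀ hi h3
    refine ⟨LinearMap.range L, le_top, ?_, ?_⟩
    · rintro w ⟨y, rfl⟩
      have h1 := polar_pt e P h₁.bilinear h₂.bilinear hc x₀ x₀ y y
      rw [hx₀0, zero_mul, mul_zero, ← hL, polar_self' hQ] at h1
      rcases mul_eq_zero.mp h1 with h | h
      · exact absurd h h2F
      · exact h
    · rw [LinearMap.finrank_range_of_inj hLinj, finrank_top, Module.finrank_fin_fun, Module.finrank_fin_fun, hcard]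
  · -- anisotropic first factor
    push Not at hiso
    by_cases hn₂ : n₂ = 0
    · right
      refine ⟨⊥, bot_le, ?_, ?_⟩
      · intro w hw
        rw [(Submodule.mem_bot F).mp hw]
        exact quad_zero hQ
      · rw [finrank_bot, finrank_top, Module.finrank_fin_fun, hcard, hn₂]
    left
    have hn₂' : 0 < n₂ := Nat.pos_of_ne_zero hn₂
    have : NeZero n₂ := ⟨hn₂⟩
    obtain ⟨G, hG⟩ : ∃ G : Matrix (Fin 2) (Fin 2) F, G = gramMatrix f₁ := ⟨_, rfl⟩
    have hs : G 1 0 = G 0 1 := by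
      rw [hG]
      exact h₁.symm _ _
    have haniso : ∀ v : Fin 2 → F, v ≠ 0 → v ⬝ᵥ (G *ᵥ v) ≠ 0 := by
      intro v hv
      rw [hG, ← eq_dot_gram f₁ h₁.bilinear]
      exact hiso v hv
    have hE : IsFieldSubalgebra 2 (K1 G hs) := K1_isField hs haniso
    refine ⟨(K1 G hs).map (tensHom e P), isFieldSubalgebra_map hE _ (tensHom_injective hn₂' e P), ?_⟩
    apply le_subalgebraNormalizer_of_conj_mem
    rintro g hg _ ⟨z, hz, rfl⟩
    obtain ⟨a, b, hab⟩ := mem_tensor (hle hg)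
    obtain ⟨ν, hν, hA⟩ := factor_similitude e P h₁.bilinear h₂.bilinear h₁.nondegenerate h₂.nondegenerate hT
      (hHI hg) _ _ hab
    rw [← hG] at hA
    have hginv : ((g⁻¹ : GL (Fin n) F) : Matrix (Fin n) (Fin n) F) =
        Rm e P * (((a⁻¹ : GL (Fin 2) F) : Matrix (Fin 2) (Fin 2) F) ⊗ₖ
          ((b⁻¹ : GL (Fin n₂) F) : Matrix (Fin n₂) (Fin n₂) F)) * Rm' e P := by
      apply Units.inv_eq_of_mul_eq_one_right
      rw [hab, Rm_conj_mul, ← Matrix.mul_kronecker_mul, ← Units.val_mul, ← Units.val_mul, mul_inv_cancel,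
        mul_inv_cancel, Units.val_one, Units.val_one, Matrix.one_kronecker_one, Matrix.mul_one, Rm_mul_Rm']
    show (g : Matrix (Fin n) (Fin n) F) * tensHom e P z * ((g⁻¹ : GL (Fin n) F) : Matrix (Fin n) (Fin n) F) ∈ _
    have hconj : (g : Matrix (Fin n) (Fin n) F) * tensHom e P z *
        ((g⁻¹ : GL (Fin n) F) : Matrix (Fin n) (Fin n) F) =
        tensHom e P ((a : Matrix (Fin 2) (Fin 2) F) * z * ((a⁻¹ : GL (Fin 2) F) : Matrix (Fin 2) (Fin 2) F)) := by
      rw [hginv, hab, tensHom_eq_Rm, tensHom_eq_Rm, Rm_conj_mul, Rm_conj_mul, ← Matrix.mul_kronecker_mul,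
        ← Matrix.mul_kronecker_mul, Matrix.mul_one, ← Units.val_mul, mul_inv_cancel, Units.val_one]
    rw [hconj]
    exact ⟨_, K1_conj hs a hν hA hz, rfl⟩

end Cfsg.Agent.Helper3.AschOm
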