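import Mathlib
import Cfsg.Prelude.Def_GeometricClasses
import Cfsg.Agent.Helper7.TensNMA
import Cfsg.Agent.Helper3.AschOmM3c
import Cfsg.Agent.Helper3.AschOmM3bA

/-!
# ASCH-OM piece M3b (helper3): alternating ⊗ alternating is of plus type

`Q` vanishes on pure tensors (`q` odd: `2 Q = polar`; `q` even: `Q` restricted to pure tensors extends to an additive
square-semilinear functional `N` invariant under the group, whose kernel is an invariant subspace, and an irreducible
group in dimension at least two has no injective such functional).  Then `L₁ ⊗ F^{n₂}`, `L₁` a Lagrangian of the first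
factor, is totally singular of half the dimension.
-/

set_option autoImplicit false
set_option linter.unusedSectionVars false

namespace Cfsg.Agent.Helper3.AschOm

open Matrix Cfsg Cfsg.Geo Cfsg.Agent.Helper7.TensNM
open scoped MatrixGroups Kronecker

variable {n : ℕ} {F : Type*} [Field F] [Fintype F]

theorem pt_single {n₁ n₂ : ℕ} (i : Fin n₁) (j : Fin n₂) :
    pt (Pi.single i (1 : F)) (Pi.single j (1 : F)) = Pi.single (i, j) 1 := by
  ext ⟨i', j'⟩
  simp only [pt_apply, Pi.single_apply, Prod.mk.injEq]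
  by_cases hi : i' = i <;> by_cases hj : j' = j <;> simp [hi, hj]

theorem quad_add (Q : (Fin n → F) → F) (a b : Fin n → F) :
    Q (a + b) = Q a + Q b + QuadraticMap.polar Q a b := by
  unfold QuadraticMap.polar
  ring

/-- characteristic two: `Q` vanishes on pure tensors -/
theorem quad_pure_eq_zero_of_two (h2 : (2 : F) = 0) (Q : (Fin n → F) → F) (hQ : IsNondegenerateQuadraticForm Q)
    {H : Subgroup (GL (Fin n) F)} (hHI : H ≤ isometryGroup F Q) (hirr : ActsIrreducibly (matrixSet H))
    (hn : 2 ≤ n) {n₁ n₂ : ℕ} (e : Fin n ≃ Fin n₁ × Fin n₂) (P : GL (Fin n) F)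
    {f₁ : (Fin n₁ → F) → (Fin n₁ → F) → F} {f₂ : (Fin n₂ → F) → (Fin n₂ → F) → F}
    (h₁ : IsSymplecticForm f₁) (h₂ : IsSymplecticForm f₂) {c : F}
    (hc : ∀ x y : Fin n₁ × Fin n₂ → F,
      QuadraticMap.polar Q ((P : Matrix (Fin n) (Fin n) F) *ᵥ (x ∘ e)) ((P : Matrix (Fin n) (Fin n) F) *ᵥ (y ∘ e)) =
        c * formOfGram id (gramMatrix f₁ ⊗ₖ gramMatrix f₂) x y)
    (hle : H ≤ tensorProductSubgroup n₁ n₂ e P) (x : Fin n₁ → F) (y : Fin n₂ → F) :
    Q (Rm e P *ᵥ pt x y) = 0 := by
  classical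
  have hpol := polar_pt e P h₁.bilinear h₂.bilinear hc
  have hRR' := Rm_mul_Rm' e P
  have hR'R := Rm'_mul_Rm e P
  obtain ⟨N, hN⟩ : ∃ N : (Fin n → F) → F,
      ∀ v, N v = ∑ α, (Rm' e P *ᵥ v) α ^ 2 * Q (Rm e P *ᵥ Pi.single α 1) := ⟨_, fun v => rfl⟩
  have hsq : ∀ a b : F, (a + b) ^ 2 = a ^ 2 + b ^ 2 := by
    intro a b
    linear_combination (a * b) * h2
  have hNsa : SemiAdd N := by
    constructor
    · intro u v
      rw [hN, hN, hN, ← Finset.sum_add_distrib]
      apply Finset.sum_congr rfl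
      intro α _
      rw [Matrix.mulVec_add, Pi.add_apply, hsq]
      ring
    · intro a u
      rw [hN, hN, Finset.mul_sum]
      apply Finset.sum_congr rfl
      intro α _
      rw [Matrix.mulVec_smul, Pi.smul_apply, smul_eq_mul]
      ring
  have hφ₁ : ∀ y : Fin n₂ → F, SemiAdd (fun x : Fin n₁ → F => Q (Rm e P *ᵥ pt x y)) := by
    intro y
    constructor
    · intro u v
      show Q (Rm e P *ᵥ pt (u + v) y) = _
      rw [pt_add_left, Matrix.mulVec_add, quad_add Q, hpol, h₂.alternating, mul_zero, mul_zero, add_zero]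
    · intro a u
      show Q (Rm e P *ᵥ pt (a • u) y) = _
      rw [pt_smul_left, Matrix.mulVec_smul, hQ.smul]
  have hφ₂ : ∀ x : Fin n₁ → F, SemiAdd (fun y : Fin n₂ → F => Q (Rm e P *ᵥ pt x y)) := by
    intro x
    constructor
    · intro u v
      show Q (Rm e P *ᵥ pt x (u + v)) = _
      rw [pt_add_right, Matrix.mulVec_add, quad_add Q, hpol, h₁.alternating, zero_mul, mul_zero, add_zero]
    · intro a u
      show Q (Rm e P *ᵥ pt x (a • u)) = _
      rw [pt_smul_right, Matrix.mulVec_smul, hQ.smul]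
  have hQN : ∀ (x : Fin n₁ → F) (y : Fin n₂ → F), Q (Rm e P *ᵥ pt x y) = N (Rm e P *ᵥ pt x y) := by
    intro x y
    have e1 := (hφ₁ y).expand (1 : Matrix (Fin n₁) (Fin n₁) F) 1 (one_mul 1) x
    simp only [Matrix.one_mulVec] at e1
    rw [e1, hN, Matrix.mulVec_mulVec, hR'R, Matrix.one_mulVec, Fintype.sum_prod_type]
    apply Finset.sum_congr rfl
    intro i _
    have e2 := (hφ₂ (Pi.single i 1)).expand (1 : Matrix (Fin n₂) (Fin n₂) F) 1 (one_mul 1) y
    simp only [Matrix.one_mulVec] at e2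
    rw [e2, Finset.mul_sum]
    apply Finset.sum_congr rfl
    intro j _
    rw [pt_single, pt_apply]
    ring
  have hinv : ∀ g ∈ H, ∀ v, N ((g : Matrix (Fin n) (Fin n) F) *ᵥ v) = N v := by
    intro g hg v
    obtain ⟨a, b, hab⟩ := mem_tensor (hle hg)
    have hact : ∀ z, (g : Matrix (Fin n) (Fin n) F) *ᵥ (Rm e P *ᵥ z) =
        Rm e P *ᵥ (((a : Matrix (Fin n₁) (Fin n₁) F) ⊗ₖ (b : Matrix (Fin n₂) (Fin n₂) F)) *ᵥ z) := by
      intro z
      rw [hab, Matrix.mulVec_mulVec, Matrix.mulVec_mulVec, Matrix.mul_assoc, hR'R, Matrix.mul_one]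
    have hNg : SemiAdd (fun v => N ((g : Matrix (Fin n) (Fin n) F) *ᵥ v)) := by
      constructor
      · intro u w
        show N ((g : Matrix (Fin n) (Fin n) F) *ᵥ (u + w)) = _
        rw [Matrix.mulVec_add, hNsa.add]
      · intro s u
        show N ((g : Matrix (Fin n) (Fin n) F) *ᵥ (s • u)) = _
        rw [Matrix.mulVec_smul, hNsa.smul]
    have e1 := hNg.expand (Rm e P) (Rm' e P) hRR' v
    have e2 := hNsa.expand (Rm e P) (Rm' e P) hRR' v
    rw [e1, e2]
    apply Finset.sum_congr rfl
    rintro ⟨i, j⟩ _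
    congr 1
    rw [← pt_single, hact, kron_mulVec_pt, ← hQN, ← hQN, ← kron_mulVec_pt, ← hact]
    exact hHI hg (Rm e P *ᵥ pt (Pi.single i 1) (Pi.single j 1)) 0
  obtain ⟨W₀, hW₀⟩ : ∃ W₀ : Submodule F (Fin n → F), ∀ v, v ∈ W₀ ↔ N v = 0 :=
    ⟨{ carrier := {v | N v = 0}
       add_mem' := fun {u v} hu hv => by
         show N (u + v) = 0
         rw [hNsa.add, hu, hv, add_zero]
       zero_mem' := hNsa.zero
       smul_mem' := fun a {u} hu => by
         show N (a • u) = 0
         rw [hNsa.smul, hu, mul_zero] }, fun v => Iff.rfl⟩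
  have hW₀inv : ∀ s ∈ matrixSet H, W₀.map (Matrix.toLin' s) ≤ W₀ := by
    rintro _ ⟨g, hg, rfl⟩ _ ⟨v, hv, rfl⟩
    rw [hW₀, Matrix.toLin'_apply, hinv g hg]
    exact (hW₀ v).mp hv
  rcases hirr W₀ hW₀inv with hbot | htop
  · exfalso
    have hNinj : Function.Injective N := by
      intro u v huv
      have h1 : N (u + v) = 0 := by
        rw [hNsa.add, huv]
        linear_combination (N v) * h2
      have h3 : u + v = 0 := by
        have hmem : u + v ∈ W₀ := (hW₀ _).mpr h1
        rw [hbot] at hmem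
        exact (Submodule.mem_bot F).mp hmem
      have h4 : v + v = 0 := by
        ext i
        simp only [Pi.add_apply, Pi.zero_apply]
        linear_combination (v i) * h2
      calc u = u + (v + v) := by rw [h4, add_zero]
        _ = (u + v) + v := by rw [add_assoc]
        _ = v := by rw [h3, zero_add]
    have hcard := Fintype.card_le_of_injective N hNinj
    rw [Fintype.card_fun, Fintype.card_fin] at hcard
    have hq : 2 ≤ Fintype.card F := Fintype.one_lt_card
    have h5 : Fintype.card F ^ 2 ≤ Fintype.card F ^ n := Nat.pow_le_pow_right (by omega) hn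
    nlinarith
  · have hmem : Rm e P *ᵥ pt x y ∈ W₀ := by
      rw [htop]
      trivial
    rw [hQN]
    exact (hW₀ _).mp hmem

/-- **M3b**: alternating ⊗ alternating is of plus type. -/
theorem plus_of_tensor_alt (Q : (Fin n → F) → F) (hQ : IsNondegenerateQuadraticForm Q)
    {H : Subgroup (GL (Fin n) F)} (hHI : H ≤ isometryGroup F Q) (hirr : ActsIrreducibly (matrixSet H))
    {n₁ n₂ : ℕ} (e : Fin n ≃ Fin n₁ × Fin n₂) (P : GL (Fin n) F)
    (f₁ : (Fin n₁ → F) → (Fin n₁ → F) → F) (f₂ : (Fin n₂ → F) → (Fin n₂ → F) → F)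
    (h₁ : IsSymplecticForm f₁) (h₂ : IsSymplecticForm f₂)
    (hT : IsTensorFormStructure id (QuadraticMap.polar Q) f₁ f₂ e P)
    (hle : H ≤ tensorProductSubgroup n₁ n₂ e P) : IsPlusTypeOn Q ⊤ := by
  classical
  have hcard : n = n₁ * n₂ := by
    have := Fintype.card_congr e
    simpa using this
  obtain ⟨L₁, hL₁, hL₁d⟩ := exists_lagrangian_symp h₁
  by_cases hn0 : n = 0
  · refine ⟨⊥, bot_le, ?_, ?_⟩
    · intro w hw
      rw [(Submodule.mem_bot F).mp hw]
      exact quad_zero hQ
    · rw [finrank_bot, finrank_top, Module.finrank_fin_fun, hn0]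
  have hn2 : 2 ≤ n := by
    have h1 : n₁ ≠ 0 := by
      rintro rfl
      rw [zero_mul] at hcard
      exact hn0 hcard
    have h2 : n₂ ≠ 0 := by
      rintro rfl
      rw [mul_zero] at hcard
      exact hn0 hcard
    have h3 : 2 ≤ n₁ := by omega
    have h4 : 1 ≤ n₂ := by omega
    rw [hcard]
    nlinarith
  obtain ⟨c, hc0, hc⟩ := hT
  have hpure : ∀ x y, Q (Rm e P *ᵥ pt x y) = 0 := by
    intro x y
    by_cases h2 : (2 : F) = 0
    · exact quad_pure_eq_zero_of_two h2 Q hQ hHI hirr hn2 e P h₁ h₂ hc hle x y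
    · have h1 := polar_pt e P h₁.bilinear h₂.bilinear hc x x y y
      rw [h₁.alternating, zero_mul, mul_zero, polar_self' hQ] at h1
      rcases mul_eq_zero.mp h1 with h | h
      · exact absurd h h2
      · exact h
  have hpol := polar_pt e P h₁.bilinear h₂.bilinear hc
  obtain ⟨k, hk⟩ : ∃ k, Module.finrank F L₁ = k := ⟨_, rfl⟩
  obtain ⟨bL⟩ : Nonempty (Module.Basis (Fin k) F L₁) := ⟨Module.finBasisOfFinrankEq F L₁ hk⟩
  obtain ⟨w, hw⟩ : ∃ w : Fin k × Fin n₂ → (Fin n → F),
      ∀ p, w p = Rm e P *ᵥ pt ((bL p.1 : L₁) : Fin n₁ → F) (Pi.single p.2 1) := ⟨_, fun p => rfl⟩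
  have hwli : LinearIndependent F w := by
    rw [Fintype.linearIndependent_iff]
    intro g hg
    have h1 : Rm e P *ᵥ (∑ p, g p • pt ((bL p.1 : L₁) : Fin n₁ → F) (Pi.single p.2 (1 : F))) = 0 := by
      rw [Matrix.mulVec_sum]
      rw [← hg]
      apply Finset.sum_congr rfl
      intro p _
      rw [Matrix.mulVec_smul, hw]
    have h2 : ∑ p, g p • pt ((bL p.1 : L₁) : Fin n₁ → F) (Pi.single p.2 (1 : F)) = 0 := by
      have := congrArg (fun v => Rm' e P *ᵥ v) h1
      simpa [Matrix.mulVec_mulVec, Rm'_mul_Rm] using this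
    rintro ⟨a, j⟩
    have h3 : ∑ a', g (a', j) • ((bL a' : L₁) : Fin n₁ → F) = 0 := by
      ext i
      have h4 := congrFun h2 (i, j)
      rw [Finset.sum_apply, Fintype.sum_prod_type] at h4
      simp only [Pi.smul_apply, pt_apply, Pi.single_apply, smul_eq_mul, Pi.zero_apply] at h4
      rw [Finset.sum_apply]
      simp only [Pi.smul_apply, smul_eq_mul, Pi.zero_apply]
      rw [← h4]
      apply Finset.sum_congr rfl
      intro a' _
      rw [Finset.sum_eq_single j]
      · simp
      · intro j' _ hj'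
        simp [Ne.symm hj']
      · intro h
        exact absurd (Finset.mem_univ _) h
    have h5 : ∑ a', g (a', j) • bL a' = 0 := by
      apply Subtype.ext
      rw [Submodule.coe_sum]
      simpa using h3
    exact Fintype.linearIndependent_iff.mp bL.linearIndependent (fun a' => g (a', j)) h5 a
  have hβ : ∀ p p', QuadraticMap.polar Q (w p) (w p') = 0 := by
    intro p p'
    rw [hw, hw, hpol, hL₁ _ (bL p.1).2 _ (bL p'.1).2, zero_mul, mul_zero]
  have hzl : ∀ v, QuadraticMap.polar Q 0 v = 0 := by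
    intro v
    have := hQ.polar_bilinear.smul_left 0 0 v
    rw [zero_smul, zero_mul] at this
    exact this
  have hzr : ∀ v, QuadraticMap.polar Q v 0 = 0 := by
    intro v
    have := hQ.polar_bilinear.smul_right 0 v 0
    rw [zero_smul, zero_mul] at this
    exact this
  have hβspan : ∀ u ∈ Submodule.span F (Set.range w), ∀ v ∈ Submodule.span F (Set.range w),
      QuadraticMap.polar Q u v = 0 := by
    intro u hu v hv
    induction hu using Submodule.span_induction with
    | mem a ha =>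
      obtain ⟨p, rfl⟩ := ha
      induction hv using Submodule.span_induction with
      | mem b hb =>
        obtain ⟨p', rfl⟩ := hb
        exact hβ p p'
      | zero => exact hzr _
      | add y z _ _ hy hz => rw [hQ.polar_bilinear.add_right, hy, hz, add_zero]
      | smul r y _ hy => rw [hQ.polar_bilinear.smul_right, hy, mul_zero]
    | zero => exact hzl _
    | add y z _ _ hy hz => rw [hQ.polar_bilinear.add_left, hy, hz, add_zero]
    | smul r y _ hy => rw [hQ.polar_bilinear.smul_left, hy, mul_zero]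
  have hQspan : ∀ u ∈ Submodule.span F (Set.range w), Q u = 0 := by
    intro u hu
    induction hu using Submodule.span_induction with
    | mem a ha =>
      obtain ⟨p, rfl⟩ := ha
      rw [hw]
      exact hpure _ _
    | zero => exact quad_zero hQ
    | add y z hy hz ihy ihz => rw [quad_add Q, ihy, ihz, hβspan y hy z hz, add_zero, add_zero]
    | smul r y _ ihy => rw [hQ.smul, ihy, mul_zero]
  refine ⟨Submodule.span F (Set.range w), le_top, hQspan, ?_⟩
  rw [finrank_span_eq_card hwli, Fintype.card_prod, Fintype.card_fin, Fintype.card_fin, finrank_top,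
    Module.finrank_fin_fun, hcard, ← hL₁d, hk]
  ring

end Cfsg.Agent.Helper3.AschOm
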