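import Mathlib
import Cfsg.Prelude.Def_GeometricClasses
import Cfsg.Agent.Helper3.AschOmM3b
import Cfsg.Agent.Lead.AschCUV8b

/-!
# ASCH-OM3 pieces X1 and X3 (helper3)

* X1 `quad_pure_tensor_zero`: alternating ⊗ alternating: `Q` vanishes on the pure tensors;
* X3 `tensor_sym_two_pair`: symmetric ⊗ symmetric with a first factor of dimension two, `q` odd: the group normalises a
  field of degree two (anisotropic first factor) or permutes the two totally singular subspaces `x ⊗ F^{n₂}`,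
  `y ⊗ F^{n₂}` (`x`, `y` the two singular lines of the first factor).
-/

set_option autoImplicit false
set_option linter.unusedSectionVars false

namespace Cfsg.Agent.Helper3.AschOm3

open Matrix Cfsg Cfsg.Geo Cfsg.Agent.Helper7.TensNM Cfsg.Agent.Helper7.TnSp Cfsg.Agent.Helper9.AschComp
open Cfsg.Agent.Helper3.AschOm
open scoped MatrixGroups Kronecker

variable {n : ℕ} {F : Type*} [Field F] [Fintype F]

/-- X1: alternating ⊗ alternating: `Q` vanishes on the pure tensors. -/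
theorem quad_pure_tensor_zero (Q : (Fin n → F) → F) (hQ : IsNondegenerateQuadraticForm Q)
    {H : Subgroup (GL (Fin n) F)} (hHI : H ≤ isometryGroup F Q) (hirr : ActsIrreducibly (matrixSet H))
    {n₁ n₂ : ℕ} (e : Fin n ≃ Fin n₁ × Fin n₂) (P : GL (Fin n) F)
    (f₁ : (Fin n₁ → F) → (Fin n₁ → F) → F) (f₂ : (Fin n₂ → F) → (Fin n₂ → F) → F)
    (h₁ : IsSymplecticForm f₁) (h₂ : IsSymplecticForm f₂)
    (hT : IsTensorFormStructure id (QuadraticMap.polar Q) f₁ f₂ e P)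
    (hle : H ≤ tensorProductSubgroup n₁ n₂ e P) :
    ∀ (x₁ : Fin n₁ → F) (x₂ : Fin n₂ → F),
      Q ((P : Matrix (Fin n) (Fin n) F) *ᵥ ((fun a : Fin n₁ × Fin n₂ => x₁ a.1 * x₂ a.2) ∘ e)) = 0 := by
  classical
  intro x₁ x₂
  have hpt : (fun a : Fin n₁ × Fin n₂ => x₁ a.1 * x₂ a.2) = pt x₁ x₂ := rfl
  rw [hpt, mulVec_comp]
  obtain ⟨c, hc0, hc⟩ := hT
  by_cases h2 : (2 : F) = 0
  · by_cases hn0 : n = 0
    · subst hn0
      have h0 : Rm e P *ᵥ pt x₁ x₂ = 0 := Subsingleton.elim _ _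
      rw [h0]
      exact quad_zero hQ
    have hcard : n = n₁ * n₂ := by
      have := Fintype.card_congr e
      simpa using this
    obtain ⟨L₁, -, hL₁d⟩ := exists_lagrangian_symp h₁
    have hn2 : 2 ≤ n := by
      have h1 : n₁ ≠ 0 := by
        rintro rfl
        rw [zero_mul] at hcard
        exact hn0 hcard
      have h2' : n₂ ≠ 0 := by
        rintro rfl
        rw [mul_zero] at hcard
        exact hn0 hcard
      have h3 : 2 ≤ n₁ := by omega
      have h4 : 1 ≤ n₂ := by omega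
      rw [hcard]
      nlinarith
    exact quad_pure_eq_zero_of_two h2 Q hQ hHI hirr hn2 e P h₁ h₂ hc hle x₁ x₂
  · have h1 := polar_pt e P h₁.bilinear h₂.bilinear hc x₁ x₁ x₂ x₂
    rw [h₁.alternating, zero_mul, mul_zero, polar_self' hQ] at h1
    rcases mul_eq_zero.mp h1 with h | h
    · exact absurd h h2
    · exact h

section stab

variable {ι J : Type} [Fintype ι] [DecidableEq ι] [Fintype J] [DecidableEq J] {t : ℕ}

/-- an element of the tensor subgroup whose small factor is monomial in the frame permutes the blocks -/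
theorem stab_of_mono {R : Matrix ι (Fin t × J) F} {R' : Matrix (Fin t × J) ι F} (hR'R : R' * R = 1)
    {g : GL ι F} {B : Matrix (Fin t) (Fin t) F} {A A' : Matrix J J F} (hAA' : A * A' = 1)
    (hg : (g : Matrix ι ι F) = R * (B ⊗ₖ A) * R') (π : Equiv.Perm (Fin t))
    (hπ : ∀ l k, k ≠ π l → B k l = 0) (hs0 : ∀ l, B (π l) l ≠ 0) :
    g ∈ decompositionStabilizer (blk R) := by
  have hact : ∀ (u : Fin t → F) (y : J → F),
      (g : Matrix ι ι F) *ᵥ (R *ᵥ pt u y) = R *ᵥ pt (B *ᵥ u) (A *ᵥ y) := by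
    intro u y
    rw [hg, Matrix.mulVec_mulVec, Matrix.mul_assoc, hR'R, Matrix.mul_one, ← Matrix.mulVec_mulVec, kron_mulVec_pt]
  refine ⟨π, fun l => ?_⟩
  apply le_antisymm
  · rintro w ⟨v, hv, rfl⟩
    obtain ⟨y, rfl⟩ := mem_blk.mp hv
    rw [Matrix.toLin'_apply, hact, Frame.mulVec_ev_of_mono (hπ l), pt_smul_left, ← pt_smul_right]
    exact mem_blk.mpr ⟨_, rfl⟩
  · intro w hw
    obtain ⟨y', rfl⟩ := mem_blk.mp hw
    refine ⟨R *ᵥ pt (ev F l) ((B (π l) l)⁻¹ • (A' *ᵥ y')), mem_blk.mpr ⟨_, rfl⟩, ?_⟩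
    rw [Matrix.toLin'_apply, hact, Frame.mulVec_ev_of_mono (hπ l), pt_smul_left, ← pt_smul_right,
      Matrix.mulVec_smul, smul_smul, mul_inv_cancel₀ (hs0 l), one_smul, Matrix.mulVec_mulVec, hAA',
      Matrix.one_mulVec]

end stab

/-- a similitude of the Gram matrix in terms of the form -/
theorem form_of_gram_sim {k : ℕ} {f : (Fin k → F) → (Fin k → F) → F} (hf : IsBilinearForm f)
    {a : Matrix (Fin k) (Fin k) F} {ν : F} (hA : aᵀ * gramMatrix f * a = ν • gramMatrix f) (u v : Fin k → F) :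
    f (a *ᵥ u) (a *ᵥ v) = ν * f u v := by
  rw [eq_dot_gram f hf, ← dot_transpose_mul_mul, hA, Matrix.smul_mulVec, dotProduct_smul, smul_eq_mul,
    ← eq_dot_gram f hf]

/-- X3, isotropic first factor: the two totally singular subspaces `x ⊗ F^{n₂}`, `y ⊗ F^{n₂}`. -/
theorem tensor_sym_two_pair_iso (hodd : Odd (Fintype.card F)) (Q : (Fin n → F) → F) (hQ : IsNondegenerateQuadraticForm Q)
    {H : Subgroup (GL (Fin n) F)} (hHI : H ≤ isometryGroup F Q)
    {n₂ : ℕ} (hn₂ : 0 < n₂) (e : Fin n ≃ Fin 2 × Fin n₂) (P : GL (Fin n) F)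
    (f₁ : (Fin 2 → F) → (Fin 2 → F) → F) (f₂ : (Fin n₂ → F) → (Fin n₂ → F) → F)
    (h₁ : IsSymmetricForm f₁) (h₂ : IsSymmetricForm f₂)
    (hT : IsTensorFormStructure id (QuadraticMap.polar Q) f₁ f₂ e P)
    (hle : H ≤ tensorProductSubgroup 2 n₂ e P)
    (hiso : ∃ x₀ : Fin 2 → F, x₀ ≠ 0 ∧ f₁ x₀ x₀ = 0) :
    ∃ D : Fin 2 → Submodule F (Fin n → F), IsMDecomposition n₂ D ∧ (∀ i, IsTotallySingularQuad Q (D i)) ∧
      H ≤ decompositionStabilizer D := by
  classical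
  have h2F := two_ne_zero_of_odd_card' hodd
  have hn₂0 : n₂ ≠ 0 := by omega
  have : NeZero n₂ := ⟨hn₂0⟩
  have hb := h₁.bilinear
  obtain ⟨x₀, hx₀, hx₀0⟩ := hiso
  obtain ⟨z, hz⟩ := (h₁.nondegenerate x₀ hx₀).2
  obtain ⟨tt, htt⟩ : ∃ tt : F, tt * (2 * f₁ x₀ z) = f₁ z z :=
    ⟨f₁ z z / (2 * f₁ x₀ z), div_mul_cancel₀ _ (mul_ne_zero h2F hz)⟩
  obtain ⟨y₀, hy₀def⟩ : ∃ y₀ : Fin 2 → F, y₀ = z + (-tt) • x₀ := ⟨_, rfl⟩
  obtain ⟨β, hβdef⟩ : ∃ β : F, β = f₁ x₀ z := ⟨_, rfl⟩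
  have hβ0 : β ≠ 0 := by rw [hβdef]; exact hz
  have hxy : f₁ x₀ y₀ = β := by
    rw [hy₀def, hb.add_right, hb.smul_right, hx₀0, mul_zero, add_zero, hβdef]
  have hyx : f₁ y₀ x₀ = β := by rw [h₁.symm, hxy]
  have hyy : f₁ y₀ y₀ = 0 := by
    rw [hy₀def]
    simp only [hb.add_left, hb.add_right, hb.smul_left, hb.smul_right, hx₀0, h₁.symm z x₀]
    linear_combination (-1) * htt
  obtain ⟨c, hc0, hc⟩ := hT
  -- the frame matrix
  obtain ⟨U, hU⟩ : ∃ U : Matrix (Fin 2) (Fin 2) F, U = Matrix.of fun i j => if j = 0 then x₀ i else y₀ i :=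
    ⟨_, rfl⟩
  have hUv : ∀ v : Fin 2 → F, U *ᵥ v = v 0 • x₀ + v 1 • y₀ := by
    intro v
    ext i
    rw [hU]
    simp [Matrix.mulVec, dotProduct, Fin.sum_univ_two]
    ring
  have hdet : U.det ≠ 0 := by
    intro hd
    obtain ⟨v, hv, hv0⟩ := Matrix.exists_mulVec_eq_zero_iff.mpr hd
    rw [hUv] at hv0
    have e1 : f₁ x₀ (v 0 • x₀ + v 1 • y₀) = 0 := by
      rw [hv0]
      have := hb.smul_right 0 x₀ 0
      rw [zero_smul, zero_mul] at this
      exact this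
    rw [hb.add_right, hb.smul_right, hb.smul_right, hx₀0, hxy, mul_zero, zero_add] at e1
    have e2 : f₁ (v 0 • x₀ + v 1 • y₀) y₀ = 0 := by
      rw [hv0]
      have := hb.smul_left 0 0 y₀
      rw [zero_smul, zero_mul] at this
      exact this
    rw [hb.add_left, hb.smul_left, hb.smul_left, hyy, hxy, mul_zero, add_zero] at e2
    apply hv
    ext i
    fin_cases i
    · exact (mul_eq_zero.mp e2).resolve_right hβ0
    · exact (mul_eq_zero.mp e1).resolve_right hβ0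
  obtain ⟨U', hU'⟩ : ∃ U' : Matrix (Fin 2) (Fin 2) F, U' = U⁻¹ := ⟨_, rfl⟩
  have hUU' : U * U' = 1 := by
    rw [hU']
    exact Matrix.mul_nonsing_inv U (isUnit_iff_ne_zero.mpr hdet)
  have hU'U : U' * U = 1 := by
    rw [hU']
    exact Matrix.nonsing_inv_mul U (isUnit_iff_ne_zero.mpr hdet)
  obtain ⟨R, hR⟩ : ∃ R, R = Rm e P * (U ⊗ₖ (1 : Matrix (Fin n₂) (Fin n₂) F)) := ⟨_, rfl⟩
  obtain ⟨R', hR'⟩ : ∃ R', R' = (U' ⊗ₖ (1 : Matrix (Fin n₂) (Fin n₂) F)) * Rm' e P := ⟨_, rfl⟩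
  have hRR' : R * R' = 1 := by
    rw [hR, hR', Matrix.mul_assoc, ← Matrix.mul_assoc (U ⊗ₖ 1), ← Matrix.mul_kronecker_mul, hUU', Matrix.one_mul,
      Matrix.one_kronecker_one, Matrix.one_mul, Rm_mul_Rm']
  have hR'R : R' * R = 1 := by
    rw [hR, hR', Matrix.mul_assoc, ← Matrix.mul_assoc (Rm' e P), Rm'_mul_Rm, Matrix.one_mul,
      ← Matrix.mul_kronecker_mul, hU'U, Matrix.one_mul, Matrix.one_kronecker_one]
  have hRpt : ∀ (u : Fin 2 → F) (y : Fin n₂ → F), R *ᵥ pt u y = Rm e P *ᵥ pt (U *ᵥ u) y := by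
    intro u y
    rw [hR, ← Matrix.mulVec_mulVec, kron_mulVec_pt, Matrix.one_mulVec]
  have hcol0 : U *ᵥ ev F (0 : Fin 2) = x₀ := by
    rw [hUv, ev_apply, ev_apply]
    simp
  have hcol1 : U *ᵥ ev F (1 : Fin 2) = y₀ := by
    rw [hUv, ev_apply, ev_apply]
    simp
  have hcolss : ∀ l : Fin 2, f₁ (U *ᵥ ev F l) (U *ᵥ ev F l) = 0 := by
    intro l
    fin_cases l
    · show f₁ (U *ᵥ ev F (0 : Fin 2)) (U *ᵥ ev F (0 : Fin 2)) = 0
      rw [hcol0, hx₀0]
    · show f₁ (U *ᵥ ev F (1 : Fin 2)) (U *ᵥ ev F (1 : Fin 2)) = 0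
      rw [hcol1, hyy]
  refine ⟨blk R, ?_, ?_, ?_⟩
  · have := Cfsg.Agent.Lead.AschCU.blk_isMDecomposition (R := R) (R' := R') hR'R hRR' (by simpa using hn₂)
    simpa using this
  · intro l v hv
    obtain ⟨y, rfl⟩ := mem_blk.mp hv
    rw [hRpt]
    have h1 := polar_pt e P hb h₂.bilinear hc (U *ᵥ ev F l) (U *ᵥ ev F l) y y
    rw [hcolss l, zero_mul, mul_zero, polar_self' hQ] at h1
    rcases mul_eq_zero.mp h1 with h | h
    · exact absurd h h2F
    · exact h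
  · intro g hg
    obtain ⟨a, b, hab⟩ := mem_tensor (hle hg)
    obtain ⟨ν, hν, hA⟩ := factor_similitude e P hb h₂.bilinear h₁.nondegenerate h₂.nondegenerate
      ⟨c, hc0, hc⟩ (hHI hg) _ _ hab
    have hsim := form_of_gram_sim hb hA
    have hgR : (g : Matrix (Fin n) (Fin n) F) =
        R * ((U' * (a : Matrix (Fin 2) (Fin 2) F) * U) ⊗ₖ (b : Matrix (Fin n₂) (Fin n₂) F)) * R' := by
      rw [hR, hR']
      exact conj_of hUU' hab
    obtain ⟨B, hB⟩ : ∃ B, B = U' * (a : Matrix (Fin 2) (Fin 2) F) * U := ⟨_, rfl⟩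
    rw [← hB] at hgR
    have hUB : U * B = (a : Matrix (Fin 2) (Fin 2) F) * U := by
      rw [hB, ← Matrix.mul_assoc, ← Matrix.mul_assoc, hUU', Matrix.one_mul]
    have hax : ∀ v : Fin 2 → F, (a : Matrix (Fin 2) (Fin 2) F) *ᵥ (U *ᵥ v) =
        (B *ᵥ v) 0 • x₀ + (B *ᵥ v) 1 • y₀ := by
      intro v
      rw [Matrix.mulVec_mulVec, ← hUB, ← Matrix.mulVec_mulVec, hUv]
    have hBev : ∀ l k : Fin 2, (B *ᵥ ev F l) k = B k l := fun l k => Frame.mulVec_ev B l k
    have hform : ∀ l l' : Fin 2, f₁ ((a : Matrix (Fin 2) (Fin 2) F) *ᵥ (U *ᵥ ev F l))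
        ((a : Matrix (Fin 2) (Fin 2) F) *ᵥ (U *ᵥ ev F l')) = β * (B 0 l * B 1 l' + B 1 l * B 0 l') := by
      intro l l'
      rw [hax, hax, hBev, hBev, hBev, hBev]
      simp only [hb.add_left, hb.add_right, hb.smul_left, hb.smul_right, hx₀0, hyy, hxy, hyx]
      ring
    have e00 := hform 0 0
    have e11 := hform 1 1
    have e01 := hform 0 1
    rw [hsim, hcol0, hx₀0] at e00
    rw [hsim, hcol1, hyy] at e11
    rw [hsim, hcol0, hcol1, hxy] at e01
    have k00 : B 0 0 * B 1 0 = 0 := by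
      have h3 : (2 * β) * (B 0 0 * B 1 0) = 0 := by linear_combination (-1) * e00
      exact (mul_eq_zero.mp h3).resolve_left (mul_ne_zero h2F hβ0)
    have k11 : B 0 1 * B 1 1 = 0 := by
      have h3 : (2 * β) * (B 0 1 * B 1 1) = 0 := by linear_combination (-1) * e11
      exact (mul_eq_zero.mp h3).resolve_left (mul_ne_zero h2F hβ0)
    have k01 : B 0 0 * B 1 1 + B 1 0 * B 0 1 = ν := by
      have h3 : β * (B 0 0 * B 1 1 + B 1 0 * B 0 1 - ν) = 0 := by linear_combination (-1) * e01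
      have := (mul_eq_zero.mp h3).resolve_left hβ0
      linear_combination this
    have hbb' : (b : Matrix (Fin n₂) (Fin n₂) F) * ((b⁻¹ : GL (Fin n₂) F) : Matrix (Fin n₂) (Fin n₂) F) = 1 := by
      rw [← Units.val_mul, mul_inv_cancel, Units.val_one]
    rcases mul_eq_zero.mp k00 with h00 | h10
    · -- `B 0 0 = 0`: antidiagonal
      rw [h00, zero_mul, zero_add] at k01
      have h10 : B 1 0 ≠ 0 := by
        intro h
        rw [h, zero_mul] at k01
        exact hν k01.symm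
      have h01 : B 0 1 ≠ 0 := by
        intro h
        rw [h, mul_zero] at k01
        exact hν k01.symm
      have h11 : B 1 1 = 0 := (mul_eq_zero.mp k11).resolve_left h01
      refine stab_of_mono hR'R hbb' hgR (Equiv.swap 0 1) ?_ ?_
      · intro l k hk
        fin_cases l <;> fin_cases k
        · exact h00
        · exact absurd rfl hk
        · exact absurd rfl hk
        · exact h11
      · intro l
        fin_cases l
        · exact h10
        · exact h01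
    · -- `B 1 0 = 0`: diagonal
      rw [h10, zero_mul, add_zero] at k01
      have h00 : B 0 0 ≠ 0 := by
        intro h
        rw [h, zero_mul] at k01
        exact hν k01.symm
      have h11 : B 1 1 ≠ 0 := by
        intro h
        rw [h, mul_zero] at k01
        exact hν k01.symm
      have h01 : B 0 1 = 0 := (mul_eq_zero.mp k11).resolve_right h11
      refine stab_of_mono hR'R hbb' hgR 1 ?_ ?_
      · intro l k hk
        fin_cases l <;> fin_cases k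
        · exact absurd rfl hk
        · exact h10
        · exact h01
        · exact absurd rfl hk
      · intro l
        fin_cases l
        · exact h00
        · exact h11

/-- `J` is skew-adjoint for `G` -/
theorem Jm_transpose_mul (G : Matrix (Fin 2) (Fin 2) F) (hs : G 1 0 = G 0 1) :
    (Jm G)ᵀ * G = -(G * Jm G) := by
  ext i j
  fin_cases i <;> fin_cases j <;>
    simp [Jm, Matrix.mul_apply, Fin.sum_univ_two, hs]

/-- the adjoint of an element of `F + F J` -/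
theorem K1_adjoint (G : Matrix (Fin 2) (Fin 2) F) (hs : G 1 0 = G 0 1) (x y : F) :
    (x • (1 : Matrix (Fin 2) (Fin 2) F) + y • Jm G)ᵀ * G =
      G * (x • (1 : Matrix (Fin 2) (Fin 2) F) + (-y) • Jm G) := by
  rw [Matrix.transpose_add, Matrix.transpose_smul, Matrix.transpose_smul, Matrix.transpose_one, add_mul, mul_add,
    smul_mul_assoc, smul_mul_assoc, mul_smul_comm, mul_smul_comm, Jm_transpose_mul G hs, one_mul, mul_one, neg_smul,
    smul_neg]

/-- adjoints through `z ↦ P (z ⊗ 1) P⁻¹` -/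
theorem tensHom_adjoint {Q : (Fin n → F) → F} {n₁ n₂ : ℕ} (e : Fin n ≃ Fin n₁ × Fin n₂) (P : GL (Fin n) F)
    {f₁ : (Fin n₁ → F) → (Fin n₁ → F) → F} {f₂ : (Fin n₂ → F) → (Fin n₂ → F) → F}
    (hT : IsTensorFormStructure id (QuadraticMap.polar Q) f₁ f₂ e P)
    {z z' : Matrix (Fin n₁) (Fin n₁) F} (hzz' : zᵀ * gramMatrix f₁ = gramMatrix f₁ * z') (u v : Fin n → F) :
    QuadraticMap.polar Q (tensHom e P z *ᵥ u) v = QuadraticMap.polar Q u (tensHom e P z' *ᵥ v) := by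
  obtain ⟨c, hc0, hc⟩ := hT
  have hform : ∀ x y : Fin n₁ × Fin n₂ → F,
      QuadraticMap.polar Q (Rm e P *ᵥ x) (Rm e P *ᵥ y) =
        c * (x ⬝ᵥ ((gramMatrix f₁ ⊗ₖ gramMatrix f₂) *ᵥ y)) := by
    intro x y
    rw [← mulVec_comp, ← mulVec_comp, hc, formOfGram_id]
  have hu : ∀ w : Fin n → F, w = Rm e P *ᵥ (Rm' e P *ᵥ w) := by
    intro w
    rw [Matrix.mulVec_mulVec, Rm_mul_Rm', Matrix.one_mulVec]
  have hact : ∀ (y : Matrix (Fin n₁) (Fin n₁) F) (w : Fin n → F),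
      tensHom e P y *ᵥ w = Rm e P *ᵥ ((y ⊗ₖ (1 : Matrix (Fin n₂) (Fin n₂) F)) *ᵥ (Rm' e P *ᵥ w)) := by
    intro y w
    rw [tensHom_eq_Rm, ← Matrix.mulVec_mulVec, ← Matrix.mulVec_mulVec]
  have hM : (z ⊗ₖ (1 : Matrix (Fin n₂) (Fin n₂) F))ᵀ * (gramMatrix f₁ ⊗ₖ gramMatrix f₂) =
      (gramMatrix f₁ ⊗ₖ gramMatrix f₂) * (z' ⊗ₖ (1 : Matrix (Fin n₂) (Fin n₂) F)) := by
    rw [← Matrix.kroneckerMap_transpose, Matrix.transpose_one, ← Matrix.mul_kronecker_mul, ← Matrix.mul_kronecker_mul,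
      hzz', Matrix.one_mul, Matrix.mul_one]
  have key : ∀ X Y : Fin n₁ × Fin n₂ → F,
      ((z ⊗ₖ (1 : Matrix (Fin n₂) (Fin n₂) F)) *ᵥ X) ⬝ᵥ ((gramMatrix f₁ ⊗ₖ gramMatrix f₂) *ᵥ Y) =
        X ⬝ᵥ ((gramMatrix f₁ ⊗ₖ gramMatrix f₂) *ᵥ ((z' ⊗ₖ (1 : Matrix (Fin n₂) (Fin n₂) F)) *ᵥ Y)) := by
    intro X Y
    symm
    rw [Matrix.mulVec_mulVec, ← hM, ← Matrix.mulVec_mulVec, Matrix.dotProduct_mulVec X, Matrix.vecMul_transpose]
  rw [hact z u, hact z' v]
  conv_lhs => rw [hu v]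
  conv_rhs => rw [hu u]
  rw [hform, hform, key]

/-- X3, anisotropic first factor: the field of degree two, adjoint-closed and not self-adjoint. -/
theorem tensor_sym_two_pair_aniso (hodd : Odd (Fintype.card F)) (Q : (Fin n → F) → F) (hQ : IsNondegenerateQuadraticForm Q)
    {H : Subgroup (GL (Fin n) F)} (hHI : H ≤ isometryGroup F Q)
    {n₂ : ℕ} (hn₂ : 0 < n₂) (e : Fin n ≃ Fin 2 × Fin n₂) (P : GL (Fin n) F)
    (f₁ : (Fin 2 → F) → (Fin 2 → F) → F) (f₂ : (Fin n₂ → F) → (Fin n₂ → F) → F)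
    (h₁ : IsSymmetricForm f₁) (h₂ : IsSymmetricForm f₂)
    (hT : IsTensorFormStructure id (QuadraticMap.polar Q) f₁ f₂ e P)
    (hle : H ≤ tensorProductSubgroup 2 n₂ e P)
    (hiso : ∀ x₀ : Fin 2 → F, x₀ ≠ 0 → f₁ x₀ x₀ ≠ 0) :
    ∃ K : Subalgebra F (Matrix (Fin n) (Fin n) F), IsFieldSubalgebra 2 K ∧ H ≤ subalgebraNormalizer K ∧
      IsAdjointClosedFor (QuadraticMap.polar Q) K ∧ ¬ IsSelfAdjointFor (QuadraticMap.polar Q) K := by
  classical
  have h2F := two_ne_zero_of_odd_card' hodd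
  have hn₂0 : n₂ ≠ 0 := by omega
  have : NeZero n₂ := ⟨hn₂0⟩
  have hb := h₁.bilinear
  obtain ⟨G, hG⟩ : ∃ G : Matrix (Fin 2) (Fin 2) F, G = gramMatrix f₁ := ⟨_, rfl⟩
  have hs : G 1 0 = G 0 1 := by
    rw [hG]
    exact h₁.symm _ _
  have haniso : ∀ v : Fin 2 → F, v ≠ 0 → v ⬝ᵥ (G *ᵥ v) ≠ 0 := by
    intro v hv
    rw [hG, ← eq_dot_gram f₁ h₁.bilinear]
    exact hiso v hv
  have hE : IsFieldSubalgebra 2 (K1 G hs) := K1_isField hs haniso
  refine ⟨(K1 G hs).map (tensHom e P), isFieldSubalgebra_map hE _ (tensHom_injective hn₂ e P), ?_, ?_, ?_⟩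
  · apply le_subalgebraNormalizer_of_conj_mem
    rintro g hg _ ⟨z, hz, rfl⟩
    obtain ⟨a, b, hab⟩ := mem_tensor (hle hg)
    obtain ⟨ν, hν, hA⟩ := factor_similitude e P h₁.bilinear h₂.bilinear h₁.nondegenerate h₂.nondegenerate hT
      (hHI hg) _ _ hab
    rw [← hG] at hA
    have hginv : ((g⁻¹ : GL (Fin n) F) : Matrix (Fin n) (Fin n) F) =
        Rm e P * (((a⁻¹ : GL (Fin 2) F) : Matrix (Fin 2) (Fin 2) F) ⊗ₖ
          ((b⁻¹ : GL (Fin n₂) F) : Matrix (Fin n₂) (Fin n₂) F)) * Rm' e P := by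
      apply Units.inv_eq_of_mul_eq_one_right
      rw [hab, Rm_conj_mul, ← Matrix.mul_kronecker_mul, ← Units.val_mul, ← Units.val_mul, mul_inv_cancel,
        mul_inv_cancel, Units.val_one, Units.val_one, Matrix.one_kronecker_one, Matrix.mul_one, Rm_mul_Rm']
    show (g : Matrix (Fin n) (Fin n) F) * tensHom e P z * ((g⁻¹ : GL (Fin n) F) : Matrix (Fin n) (Fin n) F) ∈ _
    have hconj : (g : Matrix (Fin n) (Fin n) F) * tensHom e P z *
        ((g⁻¹ : GL (Fin n) F) : Matrix (Fin n) (Fin n) F) =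
        tensHom e P ((a : Matrix (Fin 2) (Fin 2) F) * z * ((a⁻¹ : GL (Fin 2) F) : Matrix (Fin 2) (Fin 2) F)) := by
      rw [hginv, hab, tensHom_eq_Rm, tensHom_eq_Rm, Rm_conj_mul, Rm_conj_mul, ← Matrix.mul_kronecker_mul,
        ← Matrix.mul_kronecker_mul, Matrix.mul_one, ← Units.val_mul, mul_inv_cancel, Units.val_one]
    rw [hconj]
    exact ⟨_, K1_conj hs a hν hA hz, rfl⟩
  · -- adjoint-closed
    rintro _ ⟨z, hz, rfl⟩
    obtain ⟨x, y, rfl⟩ := hz
    refine ⟨tensHom e P (x • (1 : Matrix (Fin 2) (Fin 2) F) + (-y) • Jm G), ⟨_, ⟨x, -y, rfl⟩, rfl⟩, ?_⟩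
    intro u v
    exact tensHom_adjoint e P hT (by rw [← hG]; exact K1_adjoint G hs x y) u v
  · -- not self-adjoint
    intro hsa
    have hJmem : tensHom e P (Jm G) ∈ (K1 G hs).map (tensHom e P) :=
      ⟨_, ⟨0, 1, by rw [zero_smul, one_smul, zero_add]⟩, rfl⟩
    have hadj : ∀ u v : Fin n → F, QuadraticMap.polar Q (tensHom e P (Jm G) *ᵥ u) v =
        QuadraticMap.polar Q u (tensHom e P (-Jm G) *ᵥ v) := by
      intro u v
      refine tensHom_adjoint e P hT ?_ u v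
      rw [← hG, Jm_transpose_mul G hs, Matrix.mul_neg]
    have hJsa := hsa _ hJmem
    have hzero : ∀ u v : Fin n → F, QuadraticMap.polar Q (tensHom e P (Jm G) *ᵥ u) v = 0 := by
      intro u v
      have h1 := hadj u v
      have h2 := hJsa u v
      rw [map_neg, Matrix.neg_mulVec] at h1
      have h3 : QuadraticMap.polar Q u (-(tensHom e P (Jm G) *ᵥ v)) =
          -QuadraticMap.polar Q u (tensHom e P (Jm G) *ᵥ v) := by
        have := hQ.polar_bilinear.smul_right (-1) u (tensHom e P (Jm G) *ᵥ v)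
        rw [neg_one_smul, neg_one_mul] at this
        exact this
      rw [h3, ← h2] at h1
      have h4 : 2 * QuadraticMap.polar Q (tensHom e P (Jm G) *ᵥ u) v = 0 := by linear_combination h1
      exact (mul_eq_zero.mp h4).resolve_left h2F
    have hv : ∀ u : Fin n → F, tensHom e P (Jm G) *ᵥ u = 0 := by
      intro u
      by_contra hne
      obtain ⟨-, ⟨y, hy⟩⟩ := hQ.nondegenerate _ hne
      exact hy (hzero u y)
    have hJ0 : tensHom e P (Jm G) = 0 := by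
      ext i j
      have := congrFun (hv (Pi.single j 1)) i
      rw [Matrix.mulVec_single_one] at this
      exact this
    have hJ : Jm G = 0 := tensHom_injective hn₂ e P (hJ0.trans (map_zero _).symm)
    have h10 := congrFun (congrFun hJ 1) 0
    simp [Jm] at h10
    exact G00_ne_zero haniso h10

/-- X3: symmetric ⊗ symmetric with a first factor of dimension two (`q` odd). -/
theorem tensor_sym_two_pair (hodd : Odd (Fintype.card F)) (Q : (Fin n → F) → F) (hQ : IsNondegenerateQuadraticForm Q)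
    {H : Subgroup (GL (Fin n) F)} (hHI : H ≤ isometryGroup F Q)
    {n₂ : ℕ} (hn₂ : 0 < n₂) (e : Fin n ≃ Fin 2 × Fin n₂) (P : GL (Fin n) F)
    (f₁ : (Fin 2 → F) → (Fin 2 → F) → F) (f₂ : (Fin n₂ → F) → (Fin n₂ → F) → F)
    (h₁ : IsSymmetricForm f₁) (h₂ : IsSymmetricForm f₂)
    (hT : IsTensorFormStructure id (QuadraticMap.polar Q) f₁ f₂ e P)
    (hle : H ≤ tensorProductSubgroup 2 n₂ e P) :
    (∃ K : Subalgebra F (Matrix (Fin n) (Fin n) F), IsFieldSubalgebra 2 K ∧ H ≤ subalgebraNormalizer K) ∨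
    (∃ D : Fin 2 → Submodule F (Fin n → F), IsMDecomposition n₂ D ∧ (∀ i, IsTotallySingularQuad Q (D i)) ∧
      H ≤ decompositionStabilizer D) := by
  by_cases hiso : ∃ x₀ : Fin 2 → F, x₀ ≠ 0 ∧ f₁ x₀ x₀ = 0
  · exact Or.inr (tensor_sym_two_pair_iso hodd Q hQ hHI hn₂ e P f₁ f₂ h₁ h₂ hT hle hiso)
  · push Not at hiso
    obtain ⟨K, hK, hN, -, -⟩ := tensor_sym_two_pair_aniso hodd Q hQ hHI hn₂ e P f₁ f₂ h₁ h₂ hT hle hiso
    exact Or.inl ⟨K, hK, hN⟩

/-- X3 with the adjoint information on the field: symmetric ⊗ symmetric with a first factor of dimension two (`q` odd). -/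
theorem tensor_sym_two_pair' (hodd : Odd (Fintype.card F)) (Q : (Fin n → F) → F) (hQ : IsNondegenerateQuadraticForm Q)
    {H : Subgroup (GL (Fin n) F)} (hHI : H ≤ isometryGroup F Q)
    {n₂ : ℕ} (hn₂ : 0 < n₂) (e : Fin n ≃ Fin 2 × Fin n₂) (P : GL (Fin n) F)
    (f₁ : (Fin 2 → F) → (Fin 2 → F) → F) (f₂ : (Fin n₂ → F) → (Fin n₂ → F) → F)
    (h₁ : IsSymmetricForm f₁) (h₂ : IsSymmetricForm f₂)
    (hT : IsTensorFormStructure id (QuadraticMap.polar Q) f₁ f₂ e P)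
    (hle : H ≤ tensorProductSubgroup 2 n₂ e P) :
    (∃ K : Subalgebra F (Matrix (Fin n) (Fin n) F), IsFieldSubalgebra 2 K ∧ H ≤ subalgebraNormalizer K ∧
      IsAdjointClosedFor (QuadraticMap.polar Q) K ∧ ¬ IsSelfAdjointFor (QuadraticMap.polar Q) K) ∨
    (∃ D : Fin 2 → Submodule F (Fin n → F), IsMDecomposition n₂ D ∧ (∀ i, IsTotallySingularQuad Q (D i)) ∧
      H ≤ decompositionStabilizer D) := by
  by_cases hiso : ∃ x₀ : Fin 2 → F, x₀ ≠ 0 ∧ f₁ x₀ x₀ = 0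
  · exact Or.inr (tensor_sym_two_pair_iso hodd Q hQ hHI hn₂ e P f₁ f₂ h₁ h₂ hT hle hiso)
  · push Not at hiso
    exact Or.inl (tensor_sym_two_pair_aniso hodd Q hQ hHI hn₂ e P f₁ f₂ h₁ h₂ hT hle hiso)

end Cfsg.Agent.Helper3.AschOm3
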