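import Mathlib
import Cfsg.Prelude.Def_GeometricClasses
import Cfsg.Agent.Helper3.AschOmE1A
import Cfsg.Agent.Helper3.AschOmM3b

/-!
# ASCH-OM round 2, piece E1 (helper3): a tensor power of two-dimensional spaces is of plus type

`plus_of_tensorWreath_two_core`: a non-degenerate quadratic form on `F^n` whose polar form is the tensor power of a
form `G₁` on `F^2`, `G₁` being invariant under a perfect absolutely irreducible subgroup of `GL_2(F)`, and which is
invariant under an irreducible subgroup of the tensor-wreath group, is of plus type.  (`G₁` is forced to be alternating;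
in characteristic two the quadratic form vanishes on the decomposable tensors by the square-semilinearity argument.)
-/

set_option autoImplicit false
set_option linter.unusedSectionVars false

namespace Cfsg.Agent.Helper3.AschOm

open Matrix Cfsg Cfsg.Geo Cfsg.Agent.Helper7.AschPP

variable {F : Type*} [Field F]

/-- determinant one on a perfect group -/
theorem det_eq_one_of_perfect {d : ℕ} {P₁ : Subgroup (GL (Fin d) F)} (hperf : ⁅P₁, P₁⁆ = P₁) {u : GL (Fin d) F}
    (hu : u ∈ P₁) : (u : Matrix (Fin d) (Fin d) F).det = 1 := by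
  have h1 : ⁅P₁, P₁⁆ ≤ (Matrix.GeneralLinearGroup.det : GL (Fin d) F →* Fˣ).ker := by
    rw [Subgroup.commutator_le]
    intro g₁ _ g₂ _
    rw [MonoidHom.mem_ker, map_commutatorElement]
    exact commutatorElement_eq_one_iff_commute.mpr (Commute.all _ _)
  rw [hperf] at h1
  have h2 := h1 hu
  rw [MonoidHom.mem_ker] at h2
  have h3 := congrArg Units.val h2
  simpa using h3

theorem eq_of_pow_swap {A B : F} (h2 : (2 : F) = 0) (hA : A ≠ 0) {k' : ℕ} (h1 : A ^ (k' + 1) = B ^ (k' + 1))
    (h3 : B * A ^ k' = A * B ^ k') : A = B := by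
  have hB : B ≠ 0 := by
    rintro rfl
    rw [zero_pow (Nat.succ_ne_zero k')] at h1
    exact hA ((pow_eq_zero_iff (Nat.succ_ne_zero k')).mp h1)
  have h4 : B ^ k' * (B ^ 2 - A ^ 2) = 0 := by
    have h5 : B * B ^ (k' + 1) = A * (A * B ^ k') := by
      rw [← h1, ← h3]
      ring
    linear_combination h5
  rcases mul_eq_zero.mp h4 with h | h
  · exact absurd h (pow_ne_zero k' hB)
  · have h6 : (A - B) ^ 2 = 0 := by linear_combination (-1) * h + (B ^ 2 - A * B) * h2
    exact sub_eq_zero.mp ((pow_eq_zero_iff (two_ne_zero)).mp h6)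

/-- characteristic two: a symmetric tensor power has a symmetric factor -/
theorem gram_symm_of_two (h2 : (2 : F) = 0) {k' : ℕ} {G : Matrix (Fin 2) (Fin 2) F} (hG : G ≠ 0)
    (hM : ∀ a b : Fin (k' + 1) → Fin 2, ∏ i, G (a i) (b i) = ∏ i, G (b i) (a i)) (i j : Fin 2) :
    G i j = G j i := by
  obtain ⟨p, r, hA⟩ : ∃ p r, G p r ≠ 0 := by
    by_contra hcon
    push Not at hcon
    exact hG (by ext p r; exact hcon p r)
  have key : ∀ i j, G i j * G p r ^ k' = G j i * G r p ^ k' := by
    intro i j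
    have := hM (Fin.cons (α := fun _ => Fin 2) i (fun _ => p)) (Fin.cons (α := fun _ => Fin 2) j (fun _ => r))
    rw [Fin.prod_univ_succ, Fin.prod_univ_succ] at this
    simpa using this
  have h1 : G p r ^ (k' + 1) = G r p ^ (k' + 1) := by
    rw [pow_succ', pow_succ']
    exact key p r
  have hAB : G p r = G r p := eq_of_pow_swap h2 hA h1 (key r p)
  have h3 := key i j
  rw [← hAB] at h3
  exact mul_right_cancel₀ (pow_ne_zero k' hA) h3

/-- the factor of a symmetric tensor power which is invariant under a perfect absolutely irreducible group is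
alternating -/
theorem gram_alt [Fintype F] {k' : ℕ} {G : Matrix (Fin 2) (Fin 2) F} (hG : G ≠ 0)
    (hM : ∀ a b : Fin (k' + 1) → Fin 2, ∏ i, G (a i) (b i) = ∏ i, G (b i) (a i))
    {P₁ : Subgroup (GL (Fin 2) F)} (hperf : ⁅P₁, P₁⁆ = P₁) (habs : ActsAbsolutelyIrreducibly (matrixSet P₁))
    (hfix : ∀ u ∈ P₁, (u : Matrix (Fin 2) (Fin 2) F)ᵀ * G * (u : Matrix (Fin 2) (Fin 2) F) = G) :
    (∀ i, G i i = 0) ∧ ∀ i j, G i j = - G j i := by
  classical
  by_cases h2 : (2 : F) = 0
  · have hsym := gram_symm_of_two h2 hG hM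
    have hψ : SemiAdd (fun x : Fin 2 → F => x ⬝ᵥ (G *ᵥ x)) := by
      constructor
      · intro u v
        simp only [dotProduct, Matrix.mulVec, Fin.sum_univ_two, Pi.add_apply]
        rw [hsym 1 0]
        linear_combination (u 0 * v 0 * G 0 0 + u 1 * v 1 * G 1 1 + (u 0 * v 1 + u 1 * v 0) * G 0 1) * h2
      · intro a u
        simp only [dotProduct, Matrix.mulVec, Fin.sum_univ_two, Pi.smul_apply, smul_eq_mul]
        ring
    have hinv : ∀ s ∈ matrixSet P₁, ∀ v : Fin 2 → F, (s *ᵥ v) ⬝ᵥ (G *ᵥ (s *ᵥ v)) = v ⬝ᵥ (G *ᵥ v) := by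
      rintro _ ⟨u, hu, rfl⟩ v
      rw [← Cfsg.Agent.Helper7.TnSp.dot_transpose_mul_mul, hfix u hu]
    have hz : ∀ v : Fin 2 → F, v ⬝ᵥ (G *ᵥ v) = 0 :=
      SemiAdd.eq_zero_of_invariant hψ h2 habs.1 hinv (by simp)
    have hdiag : ∀ i, G i i = 0 := by
      intro i
      have := hz (Pi.single i 1)
      rw [Matrix.mulVec_single_one, single_one_dotProduct] at this
      exact this
    refine ⟨hdiag, fun i j => ?_⟩
    linear_combination (hsym i j) + (G j i) * h2
  · have hs : (G + Gᵀ) 1 0 = (G + Gᵀ) 0 1 := by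
      simp only [Matrix.add_apply, Matrix.transpose_apply]
      ring
    have hS : ∀ u ∈ P₁, (u : Matrix (Fin 2) (Fin 2) F)ᵀ * (G + Gᵀ) * (u : Matrix (Fin 2) (Fin 2) F) = G + Gᵀ := by
      intro u hu
      have h1 := hfix u hu
      have h3 : (u : Matrix (Fin 2) (Fin 2) F)ᵀ * Gᵀ * (u : Matrix (Fin 2) (Fin 2) F) = Gᵀ := by
        have := congrArg Matrix.transpose h1
        rw [Matrix.transpose_mul, Matrix.transpose_mul, Matrix.transpose_transpose, ← Matrix.mul_assoc] at this
        exact this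
      rw [Matrix.mul_add, Matrix.add_mul, h1, h3]
    have hcomm : ∀ s ∈ matrixSet P₁, Jm (G + Gᵀ) * s = s * Jm (G + Gᵀ) := by
      rintro _ ⟨u, hu, rfl⟩
      have h1 := sim_mul_Jm hs (ν := 1) (A := (u : Matrix (Fin 2) (Fin 2) F)) (by rw [one_smul]; exact hS u hu)
      rw [det_eq_one_of_perfect hperf hu, one_smul, one_smul] at h1
      exact h1.symm
    obtain ⟨c, hc⟩ := habs.2 _ hcomm
    have e00 := congrFun (congrFun hc 0) 0
    have e01 := congrFun (congrFun hc 0) 1
    have e10 := congrFun (congrFun hc 1) 0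
    have e11 := congrFun (congrFun hc 1) 1
    simp [Jm] at e00 e01 e10 e11
    have h01 : G 0 1 + G 1 0 = 0 := by
      have : (2 : F) * (G 0 1 + G 1 0) = 0 := by linear_combination e00 - e11
      rcases mul_eq_zero.mp this with h | h
      · exact absurd h h2
      · exact h
    have h00 : G 0 0 = 0 := by
      have : (2 : F) * G 0 0 = 0 := by linear_combination (-1) * e10
      rcases mul_eq_zero.mp this with h | h
      · exact absurd h h2
      · exact h
    have h11 : G 1 1 = 0 := by
      have : (2 : F) * G 1 1 = 0 := by linear_combination e01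
      rcases mul_eq_zero.mp this with h | h
      · exact absurd h h2
      · exact h
    constructor
    · intro i
      fin_cases i
      · exact h00
      · exact h11
    · intro i j
      fin_cases i <;> fin_cases j
      · show G 0 0 = - G 0 0
        rw [h00, neg_zero]
      · show G 0 1 = - G 1 0
        linear_combination h01
      · show G 1 0 = - G 0 1
        linear_combination h01
      · show G 1 1 = - G 1 1
        rw [h11, neg_zero]

/-- prepend the coordinate `0` -/
def c0 {k' : ℕ} (β : Fin k' → Fin 2) : Fin (k' + 1) → Fin 2 := Fin.cons (α := fun _ => Fin 2) 0 β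

theorem c0_zero {k' : ℕ} (β : Fin k' → Fin 2) : c0 β 0 = 0 := rfl

theorem c0_injective {k' : ℕ} : Function.Injective (c0 (k' := k')) := by
  intro β β' h
  funext i
  have := congrFun h i.succ
  simpa [c0] using this

/-- **E1**, core statement -/
theorem plus_of_tensorWreath_two_core [Fintype F] {n k : ℕ} (hk : 2 ≤ k) (Q : (Fin n → F) → F)
    (hQ : IsNondegenerateQuadraticForm Q)
    {H : Subgroup (GL (Fin n) F)} (hHI : H ≤ isometryGroup F Q) (hirr : ActsIrreducibly (matrixSet H))
    (e : Fin n ≃ (Fin k → Fin 2)) (Pm : GL (Fin n) F) (G₁ : Matrix (Fin 2) (Fin 2) F) (c : F) (hc : c ≠ 0)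
    (hG₁ : G₁ ≠ 0)
    (hgram : ∀ x y : (Fin k → Fin 2) → F,
      QuadraticMap.polar Q ((Pm : Matrix (Fin n) (Fin n) F) *ᵥ (x ∘ e))
        ((Pm : Matrix (Fin n) (Fin n) F) *ᵥ (y ∘ e)) = c * ∑ a, ∑ b, x a * (∏ i, G₁ (a i) (b i)) * y b)
    (P₁ : Subgroup (GL (Fin 2) F)) (hperf : ⁅P₁, P₁⁆ = P₁) (habs : ActsAbsolutelyIrreducibly (matrixSet P₁))
    (hfix : ∀ u ∈ P₁, (u : Matrix (Fin 2) (Fin 2) F)ᵀ * G₁ * (u : Matrix (Fin 2) (Fin 2) F) = G₁)
    (hle : H ≤ tensorWreathSubgroup 2 k e Pm) : IsPlusTypeOn Q ⊤ := by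
  classical
  obtain ⟨k', rfl⟩ : ∃ k', k = k' + 1 := ⟨k - 1, by omega⟩
  have hk' : 1 ≤ k' := by omega
  have hcard : n = 2 ^ (k' + 1) := by
    have := Fintype.card_congr e
    simpa using this
  have hn2 : 2 ≤ n := by
    rw [hcard]
    calc 2 = 2 ^ 1 := by norm_num
      _ ≤ 2 ^ (k' + 1) := Nat.pow_le_pow_right (by norm_num) (by omega)
  have : Nontrivial (Fin (k' + 1)) := Fin.nontrivial_iff_two_le.mpr (by omega)
  have hRR' := Rg_mul_Rg' (F := F) e Pm
  have hR'R := Rg'_mul_Rg (F := F) e Pm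
  have hpolR : ∀ x y : (Fin (k' + 1) → Fin 2) → F, QuadraticMap.polar Q (Rg e Pm *ᵥ x) (Rg e Pm *ᵥ y) =
      c * ∑ a, ∑ b, x a * (∏ i, G₁ (a i) (b i)) * y b := by
    intro x y
    rw [← mulVec_comp_g, ← mulVec_comp_g]
    exact hgram x y
  have hpol : ∀ v w : Fin (k' + 1) → Fin 2 → F, QuadraticMap.polar Q (Rg e Pm *ᵥ dec v) (Rg e Pm *ᵥ dec w) =
      c * ∏ i, (v i ⬝ᵥ (G₁ *ᵥ w i)) := by
    intro v w
    rw [hpolR, gram_dec]
  have hpol1 : ∀ a b : Fin (k' + 1) → Fin 2, QuadraticMap.polar Q (Rg e Pm *ᵥ Pi.single a 1)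
      (Rg e Pm *ᵥ Pi.single b 1) = c * ∏ i, G₁ (a i) (b i) := by
    intro a b
    rw [single_eq_dec, single_eq_dec, hpol]
    congr 1
    refine Finset.prod_congr rfl fun i _ => ?_
    rw [Matrix.mulVec_single_one, single_one_dotProduct]
    rfl
  have hM : ∀ a b : Fin (k' + 1) → Fin 2, ∏ i, G₁ (a i) (b i) = ∏ i, G₁ (b i) (a i) := by
    intro a b
    have h1 := hpol1 a b
    rw [QuadraticMap.polar_comm, hpol1 b a] at h1
    exact (mul_left_cancel₀ hc h1).symm
  obtain ⟨hdiag, hskew⟩ := gram_alt hG₁ hM hperf habs hfix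
  have hψ : ∀ x : Fin 2 → F, x ⬝ᵥ (G₁ *ᵥ x) = 0 := by
    intro x
    simp only [dotProduct, Matrix.mulVec, Fin.sum_univ_two]
    rw [hdiag 0, hdiag 1, hskew 1 0]
    ring
  have hpure : ∀ v : Fin (k' + 1) → Fin 2 → F, Q (Rg e Pm *ᵥ dec v) = 0 := by
    by_cases h2 : (2 : F) = 0
    · obtain ⟨N, hN⟩ : ∃ N : (Fin n → F) → F,
          ∀ x, N x = ∑ α, (Rg' e Pm *ᵥ x) α ^ 2 * Q (Rg e Pm *ᵥ Pi.single α 1) := ⟨_, fun x => rfl⟩
      have hsq : ∀ a b : F, (a + b) ^ 2 = a ^ 2 + b ^ 2 := fun a b => by linear_combination (a * b) * h2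
      have hNsa : SemiAdd N := by
        constructor
        · intro u v
          rw [hN, hN, hN, ← Finset.sum_add_distrib]
          refine Finset.sum_congr rfl fun α _ => ?_
          rw [Matrix.mulVec_add, Pi.add_apply, hsq]
          ring
        · intro a u
          rw [hN, hN, Finset.mul_sum]
          refine Finset.sum_congr rfl fun α _ => ?_
          rw [Matrix.mulVec_smul, Pi.smul_apply, smul_eq_mul]
          ring
      have hN1 : ∀ α, N (Rg e Pm *ᵥ Pi.single α 1) = Q (Rg e Pm *ᵥ Pi.single α 1) := by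
        intro α
        rw [hN, Matrix.mulVec_mulVec, hR'R, Matrix.one_mulVec, Finset.sum_eq_single α]
        · simp
        · intro β _ hβ
          simp [Pi.single_eq_of_ne hβ]
        · intro h
          exact absurd (Finset.mem_univ _) h
      have hms1 : MultiSemiAdd (fun v : Fin (k' + 1) → Fin 2 → F => Q (Rg e Pm *ᵥ dec v)) := by
        intro v i
        obtain ⟨j, hj⟩ := exists_ne i
        constructor
        · intro u u'
          show Q (Rg e Pm *ᵥ dec (Function.update v i (u + u'))) = _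
          rw [dec_update_add, Matrix.mulVec_add, quad_add Q, hpol,
            Finset.prod_eq_zero (Finset.mem_univ j)
              (by rw [Function.update_of_ne hj, Function.update_of_ne hj]; exact hψ (v j)),
            mul_zero, add_zero]
        · intro a u
          show Q (Rg e Pm *ᵥ dec (Function.update v i (a • u))) = _
          rw [dec_update_smul, Matrix.mulVec_smul, hQ.smul]
      have hms2 : MultiSemiAdd (fun v : Fin (k' + 1) → Fin 2 → F => N (Rg e Pm *ᵥ dec v)) := by
        intro v i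
        constructor
        · intro u u'
          show N (Rg e Pm *ᵥ dec (Function.update v i (u + u'))) = _
          rw [dec_update_add, Matrix.mulVec_add, hNsa.add]
        · intro a u
          show N (Rg e Pm *ᵥ dec (Function.update v i (a • u))) = _
          rw [dec_update_smul, Matrix.mulVec_smul, hNsa.smul]
      have hQN : ∀ v : Fin (k' + 1) → Fin 2 → F, Q (Rg e Pm *ᵥ dec v) = N (Rg e Pm *ᵥ dec v) := by
        intro v
        refine MultiSemiAdd.ext hms1 hms2 (fun α => ?_) v
        show Q (Rg e Pm *ᵥ dec fun i => Pi.single (α i) 1) = N (Rg e Pm *ᵥ dec fun i => Pi.single (α i) 1)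
        rw [← single_eq_dec, hN1]
      have hinv : ∀ s ∈ matrixSet H, ∀ x, N (s *ᵥ x) = N x := by
        rintro _ ⟨g, hg, rfl⟩ x
        obtain ⟨kk, hkk, hgk⟩ := mem_tensorWreath (hle hg)
        have hpres := presDec_of_mem hkk
        have hNg : SemiAdd (fun x => N ((g : Matrix (Fin n) (Fin n) F) *ᵥ x)) := by
          constructor
          · intro u w
            show N ((g : Matrix (Fin n) (Fin n) F) *ᵥ (u + w)) = _
            rw [Matrix.mulVec_add, hNsa.add]
          · intro s u
            show N ((g : Matrix (Fin n) (Fin n) F) *ᵥ (s • u)) = _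
            rw [Matrix.mulVec_smul, hNsa.smul]
        have e1 := hNg.expand (Rg e Pm) (Rg' e Pm) hRR' x
        have e2 := hNsa.expand (Rg e Pm) (Rg' e Pm) hRR' x
        show N ((g : Matrix (Fin n) (Fin n) F) *ᵥ x) = N x
        rw [e1, e2]
        refine Finset.sum_congr rfl fun α _ => ?_
        congr 1
        obtain ⟨w, hw⟩ := hpres.1 (fun i => Pi.single (α i) 1)
        have hact : (g : Matrix (Fin n) (Fin n) F) *ᵥ (Rg e Pm *ᵥ Pi.single α 1) = Rg e Pm *ᵥ dec w := by
          rw [hgk, Matrix.mulVec_mulVec, Matrix.mul_assoc, hR'R, Matrix.mul_one, ← Matrix.mulVec_mulVec,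
            single_eq_dec, hw]
        rw [hact, ← hQN, ← hact, hN1]
        exact hHI hg (Rg e Pm *ᵥ Pi.single α 1) 0
      intro v
      rw [hQN]
      exact SemiAdd.eq_zero_of_invariant hNsa h2 hirr hinv (by simpa using hn2) _
    · intro v
      have h1 := hpol v v
      rw [polar_self' hQ, Finset.prod_eq_zero (Finset.mem_univ 0) (hψ (v 0)), mul_zero] at h1
      rcases mul_eq_zero.mp h1 with h | h
      · exact absurd h h2
      · exact h
  -- the totally singular subspace
  obtain ⟨w, hw⟩ : ∃ w : (Fin k' → Fin 2) → (Fin n → F),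
      ∀ β, w β = Rg e Pm *ᵥ Pi.single (c0 β) 1 := ⟨_, fun β => rfl⟩
  have hwli : LinearIndependent F w := by
    rw [Fintype.linearIndependent_iff]
    intro g hg β
    have h1 : Rg e Pm *ᵥ (∑ β, g β • (Pi.single (c0 β) (1 : F))) = 0 := by
      rw [Matrix.mulVec_sum, ← hg]
      refine Finset.sum_congr rfl fun β _ => ?_
      rw [Matrix.mulVec_smul, hw]
    have h2 : ∑ β, g β • (Pi.single (c0 β) (1 : F)) = 0 := by
      have := congrArg (fun v => Rg' e Pm *ᵥ v) h1
      simpa [Matrix.mulVec_mulVec, hR'R] using this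
    have h3 := congrFun h2 (c0 β)
    rw [Finset.sum_apply, Finset.sum_eq_single β] at h3
    · simpa using h3
    · intro β' _ hβ'
      have : c0 β ≠ c0 β' := fun h => hβ' (c0_injective h).symm
      simp [Pi.single_eq_of_ne this]
    · intro h
      exact absurd (Finset.mem_univ _) h
  have hβ : ∀ p p', QuadraticMap.polar Q (w p) (w p') = 0 := by
    intro p p'
    rw [hw, hw, hpol1, Finset.prod_eq_zero (Finset.mem_univ 0) (by rw [c0_zero, c0_zero]; exact hdiag 0), mul_zero]
  have hzl : ∀ v, QuadraticMap.polar Q 0 v = 0 := by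
    intro v
    have := hQ.polar_bilinear.smul_left 0 0 v
    rw [zero_smul, zero_mul] at this
    exact this
  have hzr : ∀ v, QuadraticMap.polar Q v 0 = 0 := by
    intro v
    have := hQ.polar_bilinear.smul_right 0 v 0
    rw [zero_smul, zero_mul] at this
    exact this
  have hβspan : ∀ u ∈ Submodule.span F (Set.range w), ∀ v ∈ Submodule.span F (Set.range w),
      QuadraticMap.polar Q u v = 0 := by
    intro u hu v hv
    induction hu using Submodule.span_induction with
    | mem a ha =>
      obtain ⟨p, rfl⟩ := ha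
      induction hv using Submodule.span_induction with
      | mem b hb =>
        obtain ⟨p', rfl⟩ := hb
        exact hβ p p'
      | zero => exact hzr _
      | add y z _ _ hy hz => rw [hQ.polar_bilinear.add_right, hy, hz, add_zero]
      | smul r y _ hy => rw [hQ.polar_bilinear.smul_right, hy, mul_zero]
    | zero => exact hzl _
    | add y z _ _ hy hz => rw [hQ.polar_bilinear.add_left, hy, hz, add_zero]
    | smul r y _ hy => rw [hQ.polar_bilinear.smul_left, hy, mul_zero]
  have hQspan : ∀ u ∈ Submodule.span F (Set.range w), Q u = 0 := by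
    intro u hu
    induction hu using Submodule.span_induction with
    | mem a ha =>
      obtain ⟨p, rfl⟩ := ha
      rw [hw, single_eq_dec]
      exact hpure _
    | zero => exact quad_zero hQ
    | add y z hy hz ihy ihz => rw [quad_add Q, ihy, ihz, hβspan y hy z hz, add_zero, add_zero]
    | smul r y _ ihy => rw [hQ.smul, ihy, mul_zero]
  refine ⟨Submodule.span F (Set.range w), le_top, hQspan, ?_⟩
  rw [finrank_span_eq_card hwli, finrank_top, Module.finrank_fin_fun, hcard]
  simp only [Fintype.card_fun, Fintype.card_fin]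
  ring

/-- **E1**: the first alternative of helper4's `perfect_case_form` (polar form of `Q`, trivial field automorphism,
two-dimensional factors) gives plus type -/
theorem plus_of_tensorWreath_two [Fintype F] {n k : ℕ} (hk : 2 ≤ k) (Q : (Fin n → F) → F)
    (hQ : IsNondegenerateQuadraticForm Q)
    {H : Subgroup (GL (Fin n) F)} (hHI : H ≤ isometryGroup F Q) (hirr : ActsIrreducibly (matrixSet H))
    (e : Fin n ≃ (Fin k → Fin 2)) (Pm : GL (Fin n) F) (G₁ : Matrix (Fin 2) (Fin 2) F) (c : F)
    (P₁ : Subgroup (GL (Fin 2) F)) (hc : c ≠ 0) (hG₁ : IsUnit G₁.det)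
    (hgram : ∀ x y : (Fin k → Fin 2) → F,
      QuadraticMap.polar Q ((Pm : Matrix (Fin n) (Fin n) F) *ᵥ (x ∘ e))
        ((Pm : Matrix (Fin n) (Fin n) F) *ᵥ (y ∘ e)) =
          c * ∑ a, ∑ b, x a * (∏ i, G₁ (a i) (b i)) * (RingEquiv.refl F) (y b))
    (hperf : ⁅P₁, P₁⁆ = P₁) (habs : ActsAbsolutelyIrreducibly (matrixSet P₁))
    (hfix : ∀ u ∈ P₁, (u : Matrix (Fin 2) (Fin 2) F)ᵀ * G₁ *
      (u : Matrix (Fin 2) (Fin 2) F).map (RingEquiv.refl F) = G₁)
    (hle : H ≤ tensorWreathSubgroup 2 k e Pm) : IsPlusTypeOn Q ⊤ := by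
  have hG0 : G₁ ≠ 0 := by
    rintro rfl
    rw [Matrix.det_zero] at hG₁
    exact not_isUnit_zero hG₁
  refine plus_of_tensorWreath_two_core hk Q hQ hHI hirr e Pm G₁ c hc hG0 ?_ P₁ hperf habs ?_ hle
  · intro x y
    rw [hgram x y]
    rfl
  · intro u hu
    have h := hfix u hu
    have hm : (u : Matrix (Fin 2) (Fin 2) F).map (RingEquiv.refl F) = (u : Matrix (Fin 2) (Fin 2) F) := by
      ext i j
      rfl
    rw [hm] at h
    exact h

end Cfsg.Agent.Helper3.AschOm
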