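import Mathlib
import Cfsg.Prelude.Def_GeometricClasses
import Cfsg.Agent.Helper3.AschOmE1

/-!
# ASCH-OM round 2, piece E1 in lead's exact stub shape (helper3)
-/

set_option autoImplicit false

namespace Cfsg.Agent.Helper3.AschOm2

open Cfsg Cfsg.Geo
open scoped MatrixGroups Matrix Kronecker commutatorElement

variable {n : ℕ} {F : Type*} [Field F] [Fintype F]

/-- E1: in dimension eight the tensor-induced case (first alternative of helper4's `perfect_case_form` with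
`f = polar Q`, `σ = id`; necessarily `d = 2`, `k = 3`) forces plus type. -/
theorem plus_of_tensorWreath_two (Q : (Fin 8 → F) → F) (hQ : IsNondegenerateQuadraticForm Q)
    {H : Subgroup (GL (Fin 8) F)} (hHI : H ≤ isometryGroup F Q) (hirr : ActsIrreducibly (matrixSet H))
    {d k : ℕ} (e : Fin 8 ≃ (Fin k → Fin d)) (Pm : GL (Fin 8) F) (G₁ : Matrix (Fin d) (Fin d) F) (c : F)
    (P₁ : Subgroup (GL (Fin d) F)) (hd : 2 ≤ d) (hk : 2 ≤ k) (hc : c ≠ 0) (hG : IsUnit G₁.det)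
    (hform : ∀ x y : (Fin k → Fin d) → F,
      QuadraticMap.polar Q ((Pm : Matrix (Fin 8) (Fin 8) F) *ᵥ (x ∘ e)) ((Pm : Matrix (Fin 8) (Fin 8) F) *ᵥ (y ∘ e)) =
        c * ∑ a, ∑ b, x a * (∏ i, G₁ (a i) (b i)) * y b)
    (hperf : ⁅P₁, P₁⁆ = P₁) (habs : ActsAbsolutelyIrreducibly (matrixSet P₁))
    (hinv : ∀ u ∈ P₁, (u : Matrix (Fin d) (Fin d) F)ᵀ * G₁ * (u : Matrix (Fin d) (Fin d) F) = G₁)
    (hle : H ≤ tensorWreathSubgroup d k e Pm) : IsPlusTypeOn Q ⊤ := by
  have hcard : 8 = d ^ k := by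
    have := Fintype.card_congr e
    simpa using this
  obtain rfl : d = 2 := by
    have h1 : d ^ 2 ∣ d ^ k := pow_dvd_pow d hk
    rw [← hcard] at h1
    have h2 : d ^ 2 ≤ 8 := Nat.le_of_dvd (by norm_num) h1
    nlinarith
  have hG0 : G₁ ≠ 0 := by
    rintro rfl
    rw [Matrix.det_zero] at hG
    exact not_isUnit_zero hG
  exact Cfsg.Agent.Helper3.AschOm.plus_of_tensorWreath_two_core hk Q hQ hHI hirr e Pm G₁ c hc hG0 hform P₁ hperf
    habs hinv hle

end Cfsg.Agent.Helper3.AschOm2
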