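import Mathlib
import Cfsg.Prelude.Def_GeometricClasses
import Cfsg.Agent.Lead.AschArith
import Cfsg.Agent.Helper3.AschUArith
import Cfsg.Agent.Helper3.AschUMain

/-!
# ASCH-PRIME-U at `n = 5`: `SU_5(q)`

`final5` is `asch_prime_unitary` at `n = 5` together with the arithmetic `arithU5` of the
symplectic-type class; the field-extension alternative carries `3 ≤ q`, for which the case `q = 2`
(the group `11:5 < L_2(11) < SU_5(2)`) is taken as the hypothesis `hsl`.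
-/

set_option autoImplicit false

namespace Cfsg.Agent.Helper3.AschU

open Cfsg Cfsg.Geo Cfsg.Agent.Lead.Asch
open scoped MatrixGroups Matrix

theorem arithU5 {F : Type*} [Field F] [Fintype F] {p e q : ℕ} (hmf : IsMinimalFieldFor 5 p e F)
    (hnp : 5 ≠ p) (hF : Fintype.card F = q ^ 2) :
    p.Prime ∧ CharP F p ∧ ((q = p ∧ p % 5 = 4) ∨ (q = p ^ 2 ∧ (p % 5 = 2 ∨ p % 5 = 3))) := by
  obtain ⟨hp, hchar, hcard, hdvd, hmin⟩ := hmf
  obtain ⟨a, rfl, rfl⟩ := q_eq_pow hp (hcard.symm.trans hF)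
  have hcard1 : 1 < Fintype.card F := Fintype.one_lt_card
  have ha0 : 0 < a := by
    rcases Nat.eq_zero_or_pos a with rfl | h
    · simp at hcard; omega
    · exact h
  have hle := exp_le (by norm_num) hp hnp (by omega) hmin
  have hpm : p % 5 ≠ 0 := by
    intro h0
    have : 5 ∣ p := Nat.dvd_of_mod_eq_zero h0
    exact hnp ((Nat.prime_dvd_prime_iff_eq (by norm_num) hp).1 this)
  have hlt : p % 5 < 5 := Nat.mod_lt _ (by norm_num)
  rw [dvd_pow_sub_one_iff hp.pos, pow_mod_eq] at hdvd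
  have hmin' : ∀ d : ℕ, 0 < d → d < 2 * a → ¬ (p % 5) ^ d % 5 = 1 % 5 := by
    intro d h0 h1 h2
    exact hmin d h0 h1 (by rw [dvd_pow_sub_one_iff hp.pos, pow_mod_eq]; exact h2)
  refine ⟨hp, hchar, ?_⟩
  have hk : a = 1 ∨ a = 2 := by omega
  rcases hk with rfl | rfl
  · left
    refine ⟨by simp, ?_⟩
    have h1 := hmin' 1 (by norm_num) (by norm_num)
    generalize p % 5 = b at *
    interval_cases b <;> simp_all
  · right
    refine ⟨rfl, ?_⟩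
    have h1 := hmin' 1 (by norm_num) (by norm_num)
    have h2 := hmin' 2 (by norm_num) (by norm_num)
    generalize p % 5 = b at *
    interval_cases b <;> simp_all

theorem final5 {F : Type*} [Field F] [Fintype F] (q : ℕ) (hF : Fintype.card F = q ^ 2) (hU7 : NotSU 5 F q)
    (hsl : q = 2 → ∀ K : Subalgebra F (Matrix (Fin 5) (Fin 5) F), Cfsg.Geo.IsFieldSubalgebra 5 K →
      Cfsg.Geo.IsAdjointClosedFor (Cfsg.hermForm 5 F q) K →
      ¬ Cfsg.Geo.IsMaximalIn (Cfsg.GU 5 F q ⊓ Cfsg.Geo.specialLinear (Fin 5) F)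
        (Cfsg.Geo.subalgebraNormalizer K ⊓ (Cfsg.GU 5 F q ⊓ Cfsg.Geo.specialLinear (Fin 5) F)))
    (H : Subgroup (Matrix.GeneralLinearGroup (Fin 5) F)) (hH : Cfsg.Geo.IsMaximalIn (Cfsg.GU 5 F q ⊓ Cfsg.Geo.specialLinear (Fin 5) F) H) :
    (∃ W : Submodule F (Fin 5 → F), W ≠ ⊥ ∧ Cfsg.Geo.IsTotallySingularFor (Cfsg.hermForm 5 F q) W ∧ H = Cfsg.Geo.subspaceStabilizer W ⊓ (Cfsg.GU 5 F q ⊓ Cfsg.Geo.specialLinear (Fin 5) F)) ∨
    (∃ W : Submodule F (Fin 5 → F), W ≠ ⊥ ∧ Cfsg.Geo.IsNondegenerateOn (Cfsg.hermForm 5 F q) W ∧ 2 * Module.finrank F W < 5 ∧ H = Cfsg.Geo.subspaceStabilizer W ⊓ (Cfsg.GU 5 F q ⊓ Cfsg.Geo.specialLinear (Fin 5) F)) ∨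
    (∃ D : Fin 5 → Submodule F (Fin 5 → F), Cfsg.Geo.IsNondegenerateMDecomposition (Cfsg.hermForm 5 F q) 1 D ∧ H = Cfsg.Geo.decompositionStabilizer D ⊓ (Cfsg.GU 5 F q ⊓ Cfsg.Geo.specialLinear (Fin 5) F)) ∨
    (3 ≤ q ∧ ∃ K : Subalgebra F (Matrix (Fin 5) (Fin 5) F), Cfsg.Geo.IsFieldSubalgebra 5 K ∧ Cfsg.Geo.IsAdjointClosedFor (Cfsg.hermForm 5 F q) K ∧ H = Cfsg.Geo.subalgebraNormalizer K ⊓ (Cfsg.GU 5 F q ⊓ Cfsg.Geo.specialLinear (Fin 5) F)) ∨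
    (∃ (F₀ : Subfield F) (r : ℕ) (P : Matrix.GeneralLinearGroup (Fin 5) F), r.Prime ∧ Odd r ∧ Fintype.card F = Nat.card F₀ ^ r ∧ Cfsg.Geo.IsFormRationalStructure (Cfsg.hermForm 5 F q) F₀ 1 P ∧ H = Cfsg.Geo.subfieldSubgroup F₀ P ⊓ (Cfsg.GU 5 F q ⊓ Cfsg.Geo.specialLinear (Fin 5) F)) ∨
    (Odd q ∧ ∃ (F₀ : Subfield F) (P : Matrix.GeneralLinearGroup (Fin 5) F), Fintype.card F = Nat.card F₀ ^ 2 ∧ Cfsg.Geo.IsFormRationalStructure (Cfsg.hermForm 5 F q) F₀ 1 P ∧ H = Cfsg.Geo.subfieldSubgroup F₀ P ⊓ (Cfsg.GU 5 F q ⊓ Cfsg.Geo.specialLinear (Fin 5) F)) ∨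
    (∃ (p : ℕ) (R : Subgroup (Matrix.GeneralLinearGroup (Fin 5) F)), p.Prime ∧ CharP F p ∧ ((q = p ∧ p % 5 = 4) ∨ (q = p ^ 2 ∧ (p % 5 = 2 ∨ p % 5 = 3))) ∧ Cfsg.Geo.IsSymplecticTypeGroup 5 R ∧ Cfsg.Geo.ActsAbsolutelyIrreducibly (Cfsg.Geo.matrixSet R) ∧ R ≤ Cfsg.Geo.similarityGroup (Cfsg.hermForm 5 F q) ∧ Nat.card R = 125 ∧ Nat.card (Subgroup.center R) = 5 ∧ H = Cfsg.Geo.subgroupNormalizer R ⊓ (Cfsg.GU 5 F q ⊓ Cfsg.Geo.specialLinear (Fin 5) F)) ∨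
    Cfsg.Geo.InUnitaryResidualClass H := by
  rcases asch_prime_unitary (by norm_num) (by norm_num) q hF hU7 H hH with
    h | h | h | h | h | h | h | h
  · exact Or.inl h
  · exact Or.inr (Or.inl h)
  · exact Or.inr (Or.inr (Or.inl h))
  · obtain ⟨K, hK, hadj, hHK⟩ := h
    refine Or.inr (Or.inr (Or.inr (Or.inl ⟨?_, K, hK, hadj, hHK⟩)))
    by_contra hq3
    have hcard1 : 1 < Fintype.card F := Fintype.one_lt_card
    have hq2 : q = 2 := by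
      rcases Nat.lt_or_ge q 2 with h2 | h2
      · exfalso
        have : q ^ 2 ≤ 1 := by
          interval_cases q <;> simp
        omega
      · omega
    exact hsl hq2 K hK hadj (hHK ▸ hH)
  · exact Or.inr (Or.inr (Or.inr (Or.inr (Or.inl h))))
  · exact Or.inr (Or.inr (Or.inr (Or.inr (Or.inr (Or.inl h)))))
  · obtain ⟨p, e, R, hnp, hmf, hst, habs, hRG, hcard, hcen, hHR⟩ := h
    obtain ⟨hp, hchar, harith⟩ := arithU5 hmf hnp hF
    exact Or.inr (Or.inr (Or.inr (Or.inr (Or.inr (Or.inr (Or.inl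
      ⟨p, R, hp, hchar, harith, hst, habs, (hRG.trans inf_le_left).trans (GU_le_similarityGroup q),
        by rw [hcard]; norm_num, hcen, hHR⟩))))))
  · exact Or.inr (Or.inr (Or.inr (Or.inr (Or.inr (Or.inr (Or.inr h))))))

end Cfsg.Agent.Helper3.AschU
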