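import Mathlib
import Cfsg.Agent.Helper3.AutExA

set_option autoImplicit false

namespace Cfsg.Agent.Helper3.AutEx

open Cfsg.Agent.Helper3.SympT

variable {P : Type*} [Group P]

/-- Noncentral involutions. -/
def IsT (z : P) (t : P) : Prop := t * t = 1 ∧ t ≠ 1 ∧ t ≠ z

/-- The pair `{t, t z}`. -/
def pr (z : P) (t : P) : Set P := {t, t * z}

namespace E2

variable {z : P}

theorem isT_mul_z (h : E2 P z) {t : P} (ht : IsT z t) : IsT z (t * z) := by
  obtain ⟨h1, h2, h3⟩ := ht
  refine ⟨?_, ?_, ?_⟩
  · calc t * z * (t * z) = t * (z * t) * z := by group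
      _ = t * (t * z) * z := by rw [h.z_comm t]
      _ = (t * t) * (z * z) := by group
      _ = 1 := by rw [h1, h.z_sq, one_mul]
  · intro h4
    apply h3
    have : t = (t * z) * z⁻¹ := by group
    rw [this, h4, one_mul]
    exact inv_eq_of_mul_eq_one_left h.z_sq
  · intro h4
    apply h2
    have : t * z = 1 * z := by rw [h4, one_mul]
    exact mul_right_cancel this

theorem mul_z_mul_z (h : E2 P z) (t : P) : t * z * z = t := by
  rw [mul_assoc, h.z_sq, mul_one]

theorem pr_mul_z (h : E2 P z) (t : P) : pr z (t * z) = pr z t := by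
  unfold pr
  rw [h.mul_z_mul_z, Set.pair_comm]

theorem pr_eq_iff (h : E2 P z) {t t' : P} : pr z t' = pr z t ↔ t' = t ∨ t' = t * z := by
  constructor
  · intro h1
    have : t' ∈ pr z t := by rw [← h1]; exact Set.mem_insert _ _
    exact this
  · rintro (rfl | rfl)
    · rfl
    · exact h.pr_mul_z t

theorem mem_pr_iff {t x : P} : x ∈ pr z t ↔ x = t ∨ x = t * z := Iff.rfl

theorem isT_of_mem_pr (h : E2 P z) {t x : P} (ht : IsT z t) (hx : x ∈ pr z t) : IsT z x := by
  rcases hx with rfl | hx
  · exact ht
  · rw [Set.mem_singleton_iff] at hx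
    rw [hx]; exact h.isT_mul_z ht

/-- Images of noncentral involutions under automorphisms. -/
theorem map_z (h : E2 P z) (φ : MulAut P) : φ z = z := by
  have h1 : φ z ∈ Subgroup.center P := by
    rw [Subgroup.mem_center_iff]
    intro g
    have h2 := h.z_comm (φ.symm g)
    have h3 := congrArg φ h2
    simpa using h3
  rcases (h.cen _).mp h1 with h2 | h2
  · exfalso
    apply h.z_ne
    have : φ z = φ 1 := by rw [h2, map_one]
    exact φ.injective this
  · exact h2

theorem isT_map (h : E2 P z) (φ : MulAut P) {t : P} (ht : IsT z t) : IsT z (φ t) := by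
  obtain ⟨h1, h2, h3⟩ := ht
  refine ⟨?_, ?_, ?_⟩
  · rw [← map_mul, h1, map_one]
  · intro h4
    apply h2
    have : φ t = φ 1 := by rw [h4, map_one]
    exact φ.injective this
  · intro h4
    apply h3
    have : φ t = φ z := by rw [h4, h.map_z]
    exact φ.injective this

theorem image_pr (h : E2 P z) (φ : MulAut P) (t : P) : φ '' pr z t = pr z (φ t) := by
  unfold pr
  rw [Set.image_pair, map_mul, h.map_z]

end E2

section minus

variable {z : P} (h : E2 P z)
  (hno8 : ∀ A : Subgroup P, Cfsg.IsElementaryAbelian 2 A → Nat.card ↥A ≤ 4)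

include h hno8

/-- Noncentral involutions in different pairs do not commute. -/
theorem not_comm_of_pr_ne [Finite P] {t t' : P} (ht : IsT z t) (ht' : IsT z t')
    (hne : pr z t' ≠ pr z t) : t * t' ≠ t' * t := by
  intro hcomm
  have hne1 : t' ≠ t := fun e => hne (by rw [e])
  have hne2 : t' ≠ t * z := fun e => hne (by rw [e, h.pr_mul_z])
  obtain ⟨h1, h2, h3⟩ := ht
  obtain ⟨h1', h2', h3'⟩ := ht'
  have hcm : ∀ x ∈ ({z, t, t'} : Set P), ∀ y ∈ ({z, t, t'} : Set P), x * y = y * x := by
    intro x hx y hy
    simp only [Set.mem_insert_iff, Set.mem_singleton_iff] at hx hy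
    rcases hx with rfl | rfl | rfl <;> rcases hy with rfl | rfl | rfl
    · rfl
    · exact (h.z_comm _).symm
    · exact (h.z_comm _).symm
    · exact h.z_comm _
    · rfl
    · exact hcomm
    · exact h.z_comm _
    · exact hcomm.symm
    · rfl
  have hA := Subgroup.isMulCommutative_closure hcm
  have hexp : ∀ a ∈ Subgroup.closure ({z, t, t'} : Set P), a ^ 2 = 1 := by
    intro a ha
    induction ha using Subgroup.closure_induction with
    | mem x hx =>
      simp only [Set.mem_insert_iff, Set.mem_singleton_iff] at hx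
      rcases hx with rfl | rfl | rfl
      · rw [pow_two]; exact h.z_sq
      · rw [pow_two]; exact h1
      · rw [pow_two]; exact h1'
    | one => simp
    | mul x y hx hy hx2 hy2 =>
      have hxy : x * y = y * x :=
        congrArg Subtype.val (mul_comm' (⟨x, hx⟩ : Subgroup.closure ({z, t, t'} : Set P)) ⟨y, hy⟩)
      rw [pow_two] at hx2 hy2 ⊢
      calc x * y * (x * y) = x * (y * x) * y := by group
        _ = x * (x * y) * y := by rw [hxy]
        _ = (x * x) * (y * y) := by group
        _ = 1 := by rw [hx2, hy2, one_mul]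
    | inv x _ hx2 => rw [inv_pow, hx2, inv_one]
  have hcard := hno8 _ ⟨hA, hexp⟩
  -- five distinct elements
  have hsub : ({1, z, t, t * z, t'} : Set P) ⊆ (Subgroup.closure ({z, t, t'} : Set P) : Set P) := by
    have hz : z ∈ Subgroup.closure ({z, t, t'} : Set P) := Subgroup.subset_closure (by simp)
    have htm : t ∈ Subgroup.closure ({z, t, t'} : Set P) := Subgroup.subset_closure (by simp)
    have htm' : t' ∈ Subgroup.closure ({z, t, t'} : Set P) := Subgroup.subset_closure (by simp)
    intro x hx
    simp only [Set.mem_insert_iff, Set.mem_singleton_iff] at hx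
    rcases hx with rfl | rfl | rfl | rfl | rfl
    · exact Subgroup.one_mem _
    · exact hz
    · exact htm
    · exact Subgroup.mul_mem _ htm hz
    · exact htm'
  have h5 : ({1, z, t, t * z, t'} : Set P).ncard = 5 := by
    have htz1 : t * z ≠ 1 := (h.isT_mul_z ⟨h1, h2, h3⟩).2.1
    have htzz : t * z ≠ z := (h.isT_mul_z ⟨h1, h2, h3⟩).2.2
    have htzt : t * z ≠ t := by
      intro e
      apply h.z_ne
      have : t * z = t * 1 := by rw [e, mul_one]
      exact mul_left_cancel this
    rw [Set.ncard_insert_of_notMem _ (Set.toFinite _), Set.ncard_insert_of_notMem _ (Set.toFinite _),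
      Set.ncard_insert_of_notMem _ (Set.toFinite _), Set.ncard_insert_of_notMem _ (Set.toFinite _),
      Set.ncard_singleton]
    · simp only [Set.mem_singleton_iff]; exact fun e => hne2 e.symm
    · simp only [Set.mem_insert_iff, Set.mem_singleton_iff, not_or]
      exact ⟨fun e => htzt e.symm, fun e => hne1 e.symm⟩
    · simp only [Set.mem_insert_iff, Set.mem_singleton_iff, not_or]
      exact ⟨fun e => h3 e.symm, fun e => htzz e.symm, fun e => h3' e.symm⟩
    · simp only [Set.mem_insert_iff, Set.mem_singleton_iff, not_or]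
      exact ⟨fun e => h.z_ne e.symm, fun e => h2 e.symm, fun e => htz1 e.symm, fun e => h2' e.symm⟩
  have h6 := Set.ncard_le_ncard hsub (Set.toFinite _)
  rw [h5] at h6
  have h7 : (Subgroup.closure ({z, t, t'} : Set P) : Set P).ncard =
      Nat.card (Subgroup.closure ({z, t, t'} : Set P)) := by
    rw [← Nat.card_coe_set_eq]; rfl
  omega

end minus

end Cfsg.Agent.Helper3.AutEx
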