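import Mathlib
import Cfsg.Agent.Helper3.AutExB

set_option autoImplicit false

namespace Cfsg.Agent.Helper3.AutEx

open Cfsg.Agent.Helper3.SympT

variable {P : Type*} [Group P]

/-- The set of pairs. -/
abbrev XX (z : P) : Type _ := {s : Set P // ∃ t, IsT z t ∧ s = pr z t}

namespace E2

section count

variable {z : P} (h : E2 P z) [Finite P]

include h

theorem sq_one_cases {e : P} (he : e * e = 1) : e = 1 ∨ e = z ∨ IsT z e := by
  by_cases h1 : e = 1
  · left; exact h1
  by_cases h2 : e = z
  · right; left; exact h2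
  · right; right; exact ⟨he, h1, h2⟩

open Classical in
theorem card_T (hinv : Nat.card {e : P // e ^ 2 = 1} = 12) :
    ∀ [Fintype P], (Finset.univ.filter (fun t : P => IsT z t)).card = 10 := by
  intro _
  rw [Nat.card_eq_fintype_card, Fintype.card_subtype] at hinv
  have e : Finset.univ.filter (fun e : P => e ^ 2 = 1) =
      insert 1 (insert z (Finset.univ.filter (fun t : P => IsT z t))) := by
    ext x
    simp only [Finset.mem_filter, Finset.mem_univ, true_and, Finset.mem_insert]
    rw [pow_two]
    constructor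
    · exact h.sq_one_cases
    · rintro (rfl | rfl | hx)
      · simp
      · exact h.z_sq
      · exact hx.1
  rw [e, Finset.card_insert_of_notMem, Finset.card_insert_of_notMem] at hinv
  · omega
  · simp only [Finset.mem_filter, Finset.mem_univ, true_and]
    exact fun hx => hx.2.2 rfl
  · simp only [Finset.mem_insert, Finset.mem_filter, Finset.mem_univ, true_and, not_or]
    exact ⟨fun e => h.z_ne e.symm, fun hx => hx.2.1 rfl⟩

open Classical in
theorem card_fiber [Fintype P] {t₀ : P} (ht₀ : IsT z t₀) :
    ((Finset.univ.filter (fun t : P => IsT z t)).filter (fun t => pr z t = pr z t₀)).card = 2 := by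
  have e : (Finset.univ.filter (fun t : P => IsT z t)).filter (fun t => pr z t = pr z t₀) =
      {t₀, t₀ * z} := by
    ext x
    simp only [Finset.mem_filter, Finset.mem_univ, true_and, Finset.mem_insert,
      Finset.mem_singleton]
    constructor
    · rintro ⟨_, hx⟩
      exact h.pr_eq_iff.mp hx
    · intro hx
      refine ⟨?_, h.pr_eq_iff.mpr hx⟩
      rcases hx with rfl | rfl
      · exact ht₀
      · exact h.isT_mul_z ht₀
  rw [e, Finset.card_insert_of_notMem, Finset.card_singleton]
  simp only [Finset.mem_singleton]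
  intro e1
  apply h.z_ne
  have : t₀ * z = t₀ * 1 := by rw [← e1, mul_one]
  exact mul_left_cancel this

open Classical in
theorem card_XX (hinv : Nat.card {e : P // e ^ 2 = 1} = 12) : Nat.card (XX z) = 5 := by
  have : Fintype P := Fintype.ofFinite P
  have hT := h.card_T hinv
  have h1 := Finset.card_eq_sum_card_image (pr z) (Finset.univ.filter (fun t : P => IsT z t))
  have h2 : ∀ b ∈ (Finset.univ.filter (fun t : P => IsT z t)).image (pr z),
      ((Finset.univ.filter (fun t : P => IsT z t)).filter (fun t => pr z t = b)).card = 2 := by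
    intro b hb
    obtain ⟨t₀, ht₀, rfl⟩ := Finset.mem_image.mp hb
    simp only [Finset.mem_filter, Finset.mem_univ, true_and] at ht₀
    exact h.card_fiber ht₀
  rw [Finset.sum_congr rfl h2, Finset.sum_const, smul_eq_mul, hT] at h1
  have h3 : Nat.card (XX z) =
      ((Finset.univ.filter (fun t : P => IsT z t)).image (pr z)).card := by
    rw [← Fintype.card_coe, ← Nat.card_eq_fintype_card]
    apply Nat.card_congr
    apply Equiv.subtypeEquivRight
    intro s
    simp only [Finset.mem_image, Finset.mem_filter, Finset.mem_univ, true_and]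
    constructor
    · rintro ⟨t, ht, rfl⟩
      exact ⟨t, ht, rfl⟩
    · rintro ⟨t, ht, rfl⟩
      exact ⟨t, ht, rfl⟩
  omega


open Classical in
/-- The noncentral involutions generate `P`. -/
theorem closure_T_eq_top
    (hno8 : ∀ A : Subgroup P, Cfsg.IsElementaryAbelian 2 A → Nat.card ↥A ≤ 4)
    (hinv : Nat.card {e : P // e ^ 2 = 1} = 12) (hcard : Nat.card P = 32) :
    Subgroup.closure {t : P | IsT z t} = ⊤ := by
  have : Fintype P := Fintype.ofFinite P
  have hT := h.card_T hinv
  set Tset := Finset.univ.filter (fun t : P => IsT z t) with hTset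
  have memT : ∀ t : P, t ∈ Tset ↔ IsT z t := by
    intro t
    rw [hTset]; simp
  obtain ⟨t₀, ht₀m⟩ : Tset.Nonempty := Finset.card_pos.mp (by omega)
  have ht₀ := (memT t₀).mp ht₀m
  have hfib : (Tset.filter (fun t => pr z t = pr z t₀)).card = 2 := h.card_fiber ht₀
  have hsplit : (Tset.filter (fun t => pr z t = pr z t₀)).card +
      (Tset.filter (fun t => ¬ pr z t = pr z t₀)).card = Tset.card :=
    Finset.card_filter_add_card_filter_not (s := Tset) (fun t => pr z t = pr z t₀)
  set Tneq := Tset.filter (fun t => ¬ pr z t = pr z t₀) with hTneq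
  have hTneq8 : Tneq.card = 8 := by omega
  have memTneq : ∀ t : P, t ∈ Tneq ↔ IsT z t ∧ pr z t ≠ pr z t₀ := by
    intro t
    rw [hTneq, Finset.mem_filter, memT]
  obtain ⟨t₁, ht₁m⟩ : Tneq.Nonempty := Finset.card_pos.mp (by omega)
  obtain ⟨ht₁, hne₁⟩ := (memTneq t₁).mp ht₁m
  set A := Subgroup.closure {t : P | IsT z t} with hA
  have hTA : ∀ t : P, IsT z t → t ∈ A := fun t ht => Subgroup.subset_closure ht
  have hzA : z ∈ A := by
    have h1 := not_comm_of_pr_ne h hno8 ht₀ ht₁ hne₁
    have h2 : kap t₀ t₁ = z := by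
      rcases h.comm t₀ t₁ with h3 | h3
      · exact absurd (kap_eq_one_iff.mp h3) h1
      · exact h3
    rw [← h2]
    unfold kap
    exact A.mul_mem (A.mul_mem (A.mul_mem (hTA _ ht₀) (hTA _ ht₁)) (A.inv_mem (hTA _ ht₀)))
      (A.inv_mem (hTA _ ht₁))
  set F := insert 1 (insert z Tset) with hF
  have hFcard : F.card = 12 := by
    rw [hF, Finset.card_insert_of_notMem, Finset.card_insert_of_notMem, hT]
    · rw [memT]; exact fun hx => hx.2.2 rfl
    · simp only [Finset.mem_insert, not_or, memT]
      exact ⟨fun e => h.z_ne e.symm, fun hx => hx.2.1 rfl⟩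
  have hFsq : ∀ x ∈ F, x * x = 1 := by
    intro x hx
    rw [hF] at hx
    simp only [Finset.mem_insert, memT] at hx
    rcases hx with rfl | rfl | hx
    · simp
    · exact h.z_sq
    · exact hx.1
  set S₂ := Tneq.image (fun t => t₀ * t) with hS₂
  have hS₂card : S₂.card = 8 := by
    rw [hS₂, Finset.card_image_of_injective _ (mul_right_injective t₀), hTneq8]
  have hS₂sq : ∀ x ∈ S₂, x * x = z := by
    intro x hx
    rw [hS₂, Finset.mem_image] at hx
    obtain ⟨t, ht, rfl⟩ := hx
    obtain ⟨htT, hne⟩ := (memTneq t).mp ht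
    have h1 := not_comm_of_pr_ne h hno8 ht₀ htT hne
    have h2 : t * t₀ = z * t₀ * t := h.mul_of_not_comm (fun e => h1 e.symm)
    calc t₀ * t * (t₀ * t) = t₀ * (t * t₀) * t := by group
      _ = t₀ * (z * t₀ * t) * t := by rw [h2]
      _ = (t₀ * z) * t₀ * (t * t) := by group
      _ = (z * t₀) * t₀ * (t * t) := by rw [h.z_comm t₀]
      _ = z * (t₀ * t₀) * (t * t) := by group
      _ = z := by rw [ht₀.1, htT.1, mul_one, mul_one]
  have hdisj : Disjoint F S₂ := by
    rw [Finset.disjoint_left]
    intro x hx1 hx2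
    apply h.z_ne
    rw [← hS₂sq x hx2, hFsq x hx1]
  have hunion : (F ∪ S₂).card = 20 := by
    rw [Finset.card_union_of_disjoint hdisj, hFcard, hS₂card]
  have hsub : F ∪ S₂ ⊆ Finset.univ.filter (fun x : P => x ∈ A) := by
    intro x hx
    simp only [Finset.mem_filter, Finset.mem_univ, true_and]
    rcases Finset.mem_union.mp hx with hx | hx
    · rw [hF] at hx
      simp only [Finset.mem_insert, memT] at hx
      rcases hx with rfl | rfl | hx
      · exact A.one_mem
      · exact hzA
      · exact hTA _ hx
    · rw [hS₂, Finset.mem_image] at hx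
      obtain ⟨t, ht, rfl⟩ := hx
      exact A.mul_mem (hTA _ ht₀) (hTA _ ((memTneq t).mp ht).1)
  have hAcard : 20 ≤ Nat.card A := by
    rw [Nat.card_eq_fintype_card, Fintype.card_subtype, ← hunion]
    exact Finset.card_le_card hsub
  have hdvd : Nat.card A ∣ Nat.card P := Subgroup.card_subgroup_dvd_card A
  rw [hcard] at hdvd
  obtain ⟨k, hk⟩ := hdvd
  have hk1 : k = 1 := by
    rcases k with _ | _ | k
    · omega
    · rfl
    · exfalso
      have : Nat.card A * (k + 1 + 1) ≥ 20 * 2 := Nat.mul_le_mul hAcard (by omega)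
      omega
  rw [hk1, mul_one] at hk
  apply (Subgroup.card_eq_iff_eq_top A).mp
  rw [hcard, hk]

end count

end E2

end Cfsg.Agent.Helper3.AutEx
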