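import Mathlib
import Cfsg.Agent.Helper3.AutExC

set_option autoImplicit false

namespace Cfsg.Agent.Helper3.AutEx

open Cfsg.Agent.Helper3.SympT

variable {P : Type*} [Group P]

namespace E2

variable {z : P} (h : E2 P z)

/-- The action of an automorphism on pairs. -/
def mapX (φ : MulAut P) (s : XX z) : XX z :=
  ⟨φ '' s.1, by
    obtain ⟨t, ht, hs⟩ := s.2
    exact ⟨φ t, h.isT_map φ ht, by rw [hs, h.image_pr]⟩⟩

theorem mapX_mul (φ ψ : MulAut P) (s : XX z) : h.mapX (φ * ψ) s = h.mapX φ (h.mapX ψ s) := by
  apply Subtype.ext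
  show (φ * ψ) '' s.1 = φ '' (ψ '' s.1)
  rw [Set.image_image]
  rfl

theorem mapX_one (s : XX z) : h.mapX 1 s = s := by
  apply Subtype.ext
  show (1 : MulAut P) '' s.1 = s.1
  simp

/-- The permutation representation on pairs. -/
def permHom : MulAut P →* Equiv.Perm (XX z) where
  toFun φ :=
    { toFun := h.mapX φ
      invFun := h.mapX φ⁻¹
      left_inv := fun s => by rw [← h.mapX_mul, inv_mul_cancel, h.mapX_one]
      right_inv := fun s => by rw [← h.mapX_mul, mul_inv_cancel, h.mapX_one] }
  map_one' := by
    apply Equiv.ext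
    intro s
    exact h.mapX_one s
  map_mul' φ ψ := by
    apply Equiv.ext
    intro s
    exact h.mapX_mul φ ψ s

theorem permHom_apply (φ : MulAut P) (s : XX z) : h.permHom φ s = h.mapX φ s := rfl

theorem mapX_mk (φ : MulAut P) {t : P} (ht : IsT z t) :
    h.mapX φ ⟨pr z t, t, ht, rfl⟩ = ⟨pr z (φ t), φ t, h.isT_map φ ht, rfl⟩ := by
  apply Subtype.ext
  exact h.image_pr φ t

/-- Inner automorphisms act trivially on pairs. -/
theorem range_conj_le_ker : (MulAut.conj : P →* MulAut P).range ≤ h.permHom.ker := by
  rintro _ ⟨n, rfl⟩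
  rw [MonoidHom.mem_ker]
  apply Equiv.ext
  intro s
  obtain ⟨S, t, ht, rfl⟩ := s
  show h.mapX (MulAut.conj n) ⟨pr z t, t, ht, rfl⟩ = ⟨pr z t, t, ht, rfl⟩
  rw [h.mapX_mk (MulAut.conj n) ht]
  apply Subtype.ext
  show pr z (MulAut.conj n t) = pr z t
  rw [MulAut.conj_apply, h.pr_eq_iff]
  by_cases hc : n * t = t * n
  · left
    rw [hc]; group
  · right
    rw [h.conj_of_not_comm hc, h.z_comm t]

variable [Finite P]
  (hno8 : ∀ A : Subgroup P, Cfsg.IsElementaryAbelian 2 A → Nat.card ↥A ≤ 4)
  (hinv : Nat.card {e : P // e ^ 2 = 1} = 12) (hcard : Nat.card P = 32)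

include hno8 hinv hcard

theorem ker_le_range_conj : h.permHom.ker ≤ (MulAut.conj : P →* MulAut P).range := by
  intro φ hφ
  rw [MonoidHom.mem_ker] at hφ
  have hT : ∀ t : P, IsT z t → (φ t * t⁻¹ = 1 ∨ φ t * t⁻¹ = z) := by
    intro t ht
    have h1 : h.permHom φ ⟨pr z t, t, ht, rfl⟩ = ⟨pr z t, t, ht, rfl⟩ := by rw [hφ]; rfl
    rw [h.permHom_apply, h.mapX_mk φ ht] at h1
    have h2 : pr z (φ t) = pr z t := congrArg Subtype.val h1
    rcases h.pr_eq_iff.mp h2 with h3 | h3
    · left; rw [h3]; group
    · right
      rw [h3, h.z_comm t]; group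
  have hall : ∀ x : P, φ x * x⁻¹ = 1 ∨ φ x * x⁻¹ = z := by
    intro x
    have hx : x ∈ Subgroup.closure {t : P | IsT z t} := by
      rw [h.closure_T_eq_top hno8 hinv hcard]; trivial
    induction hx using Subgroup.closure_induction with
    | mem t ht => exact hT t ht
    | one => left; simp
    | mul a b _ _ ha hb =>
      have e : φ (a * b) * (a * b)⁻¹ = φ a * (φ b * b⁻¹) * a⁻¹ := by rw [map_mul]; group
      rw [e]
      rcases hb with hb | hb
      · rw [hb, mul_one]; exact ha
      · rw [hb, mul_assoc, ← h.z_comm a⁻¹, ← mul_assoc]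
        rcases ha with ha | ha
        · right; rw [ha, one_mul]
        · left; rw [ha, h.z_sq]
    | inv a _ ha =>
      have e : φ a⁻¹ * a⁻¹⁻¹ = a⁻¹ * (φ a * a⁻¹)⁻¹ * a := by rw [map_inv]; group
      rw [e]
      have hzi : z⁻¹ = z := inv_eq_of_mul_eq_one_left h.z_sq
      rcases ha with ha | ha
      · left; rw [ha]; group
      · right
        rw [ha, hzi, mul_assoc, ← h.z_comm a, ← mul_assoc, inv_mul_cancel, one_mul]
  obtain ⟨n, hn⟩ := h.inner_of_central φ hall
  exact ⟨n, hn.symm⟩

omit hinv hcard in
theorem permHom_surjective : Function.Surjective h.permHom := by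
  rw [← MonoidHom.range_eq_top, eq_top_iff, ← Equiv.Perm.closure_isSwap, Subgroup.closure_le]
  rintro σ ⟨a, b, hab, rfl⟩
  obtain ⟨A, t, ht, rfl⟩ := a
  obtain ⟨B, t', ht', rfl⟩ := b
  have hne : pr z t' ≠ pr z t := by
    intro e
    apply hab
    exact Subtype.ext e.symm
  have hnc := not_comm_of_pr_ne h hno8 ht ht' hne
  have ht't : t' * t = z * t * t' := h.mul_of_not_comm (fun e => hnc e.symm)
  have ha : (t * t') * (t * t') = z := by
    calc (t * t') * (t * t') = t * (t' * t) * t' := by group
      _ = t * (z * t * t') * t' := by rw [ht't]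
      _ = (t * z) * t * (t' * t') := by group
      _ = (z * t) * t * (t' * t') := by rw [h.z_comm t]
      _ = z * (t * t) * (t' * t') := by group
      _ = z := by rw [ht.1, ht'.1, mul_one, mul_one]
  refine ⟨transv h (t * t') ha, ?_⟩
  apply Equiv.ext
  intro c
  obtain ⟨C, t'', ht'', rfl⟩ := c
  rw [h.permHom_apply, h.mapX_mk _ ht'', Equiv.swap_apply_def]
  have htt : t * t = 1 := ht.1
  have ht't' : t' * t' = 1 := ht'.1
  by_cases hc1 : (⟨pr z t'', t'', ht'', rfl⟩ : XX z) = ⟨pr z t, t, ht, rfl⟩
  · rw [if_pos hc1]
    have e1 : pr z t'' = pr z t := congrArg Subtype.val hc1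
    apply Subtype.ext
    show pr z (transv h (t * t') ha t'') = pr z t'
    -- t'' = t or t z
    have hcomm : ¬ t * (t * t') = (t * t') * t := by
      intro e
      apply hnc
      have : t * (t * t') = t * (t' * t) := by rw [e]; group
      exact mul_left_cancel this
    rcases h.pr_eq_iff.mp e1 with rfl | rfl
    · rw [transv_of_not_comm h _ ha hcomm]
      have : t'' * (t'' * t') = t' := by rw [← mul_assoc, htt, one_mul]
      rw [this]
    · have hcomm2 : ¬ t * z * (t * t') = (t * t') * (t * z) := by
        intro e
        apply hcomm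
        have e2 : t * z * (t * t') = (t * (t * t')) * z := by
          calc t * z * (t * t') = t * (z * (t * t')) := by group
            _ = t * ((t * t') * z) := by rw [h.z_comm (t * t')]
            _ = (t * (t * t')) * z := by group
        have e3 : (t * t') * (t * z) = ((t * t') * t) * z := by group
        rw [e2, e3] at e
        exact mul_right_cancel e
      rw [transv_of_not_comm h _ ha hcomm2]
      have : t * z * (t * t') = t' * z := by
        calc t * z * (t * t') = t * (z * t) * t' := by group
          _ = t * (t * z) * t' := by rw [h.z_comm t]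
          _ = (t * t) * (z * t') := by group
          _ = t' * z := by rw [htt, one_mul, h.z_comm t']
      rw [this, h.pr_mul_z]
  · rw [if_neg hc1]
    by_cases hc2 : (⟨pr z t'', t'', ht'', rfl⟩ : XX z) = ⟨pr z t', t', ht', rfl⟩
    · rw [if_pos hc2]
      have e1 : pr z t'' = pr z t' := congrArg Subtype.val hc2
      apply Subtype.ext
      show pr z (transv h (t * t') ha t'') = pr z t
      have hcomm : ¬ t' * (t * t') = (t * t') * t' := by
        intro e
        apply hnc
        have : (t' * t) * t' = (t * t') * t' := by rw [← e]; group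
        exact (mul_right_cancel this).symm
      rcases h.pr_eq_iff.mp e1 with rfl | rfl
      · rw [transv_of_not_comm h _ ha hcomm]
        have : t'' * (t * t'') = t * z := by
          calc t'' * (t * t'') = (t'' * t) * t'' := by group
            _ = (z * t * t'') * t'' := by rw [ht't]
            _ = z * t * (t'' * t'') := by group
            _ = t * z := by rw [ht't', mul_one, h.z_comm t]
        rw [this, h.pr_mul_z]
      · have hcomm2 : ¬ t' * z * (t * t') = (t * t') * (t' * z) := by
          intro e
          apply hcomm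
          have e2 : t' * z * (t * t') = (t' * (t * t')) * z := by
            calc t' * z * (t * t') = t' * (z * (t * t')) := by group
              _ = t' * ((t * t') * z) := by rw [h.z_comm (t * t')]
              _ = (t' * (t * t')) * z := by group
          have e3 : (t * t') * (t' * z) = ((t * t') * t') * z := by group
          rw [e2, e3] at e
          exact mul_right_cancel e
        rw [transv_of_not_comm h _ ha hcomm2]
        have : t' * z * (t * t') = t := by
          calc t' * z * (t * t') = (t' * z) * t * t' := by group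
            _ = (z * t') * t * t' := by rw [h.z_comm t']
            _ = z * (t' * t) * t' := by group
            _ = z * (z * t * t') * t' := by rw [ht't]
            _ = (z * z) * t * (t' * t') := by group
            _ = t := by rw [h.z_sq, ht't', one_mul, mul_one]
        rw [this]
    · rw [if_neg hc2]
      have hn1 : pr z t'' ≠ pr z t := fun e => hc1 (Subtype.ext e)
      have hn2 : pr z t'' ≠ pr z t' := fun e => hc2 (Subtype.ext e)
      have hnc1 := not_comm_of_pr_ne h hno8 ht ht'' hn1
      have hnc2 := not_comm_of_pr_ne h hno8 ht' ht'' hn2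
      have e1 : t'' * t = z * t * t'' := h.mul_of_not_comm (fun e => hnc1 e.symm)
      have e2 : t'' * t' = z * t' * t'' := h.mul_of_not_comm (fun e => hnc2 e.symm)
      have hcomm : t'' * (t * t') = (t * t') * t'' := by
        calc t'' * (t * t') = (t'' * t) * t' := by group
          _ = (z * t * t'') * t' := by rw [e1]
          _ = z * t * (t'' * t') := by group
          _ = z * t * (z * t' * t'') := by rw [e2]
          _ = z * (t * z) * t' * t'' := by group
          _ = z * (z * t) * t' * t'' := by rw [h.z_comm t]
          _ = (z * z) * (t * t') * t'' := by group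
          _ = (t * t') * t'' := by rw [h.z_sq, one_mul]
      apply Subtype.ext
      show pr z (transv h (t * t') ha t'') = pr z t''
      rw [transv_of_comm h _ ha hcomm]

end E2

end Cfsg.Agent.Helper3.AutEx
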