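import Mathlib
import Cfsg.Agent.Helper3.AutExD

set_option autoImplicit false

namespace Cfsg.Agent.Helper3.AutEx

open Cfsg.Agent.Helper3.SympT Cfsg.Agent.Helper3.Extra

/-- In an extraspecial group of order 32 of minus type, `e ^ 2 = 1` has exactly `12` solutions. -/
theorem card_sq_one_of_minus {P : Type*} [Group P] [Finite P] (hIn : InClass 2 P)
    (h32 : Nat.card P = 32)
    (hminus : ∀ A : Subgroup P, Cfsg.IsElementaryAbelian 2 A → Nat.card ↥A ≤ 4) :
    Nat.card {e : P // e ^ 2 = 1} = 12 := by
  have hpow : ∀ m : ℕ, 2 ^ (2 * m + 1) = 32 → m = 2 := by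
    intro m hm
    have : 2 ^ (2 * m + 1) = 2 ^ 5 := by rw [hm]; norm_num
    have := Nat.pow_right_injective (le_refl 2) this
    omega
  rcases plus_or_minus 32 P hIn h32 with hp | hm
  · exfalso
    obtain ⟨m, hm1, _, A, hA, hAc⟩ := hIn.rank_plus hp
    rw [h32] at hm1
    have hm2 := hpow m hm1.symm
    subst hm2
    have := hminus A hA
    rw [hAc] at this
    norm_num at this
  · obtain ⟨m, _, hm1, hm2⟩ := hm
    rw [h32] at hm1
    have hm3 := hpow m hm1.symm
    subst hm3
    unfold inv2 at hm2
    norm_num at hm2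
    omega


namespace E2

variable {P : Type*} [Group P] {z : P}

/-- An automorphism of order at most two with at most one fixed pair fixes no element of
order four. -/
theorem no_fixed_order4 [Finite P] (h : E2 P z)
    (hno8 : ∀ A : Subgroup P, Cfsg.IsElementaryAbelian 2 A → Nat.card ↥A ≤ 4)
    (hinv : Nat.card {e : P // e ^ 2 = 1} = 12) (hcard : Nat.card P = 32)
    (φ : MulAut P) (hφ2 : ∀ x : P, φ (φ x) = x)
    (huniq : ∀ p p' : XX z, h.permHom φ p = p → h.permHom φ p' = p' → p = p')
    {a : P} (ha : a * a = z) : φ a ≠ a := by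
  intro hφa
  have hzz : ∀ x : P, z * (z * x) = x := fun x => by rw [← mul_assoc, h.z_sq, one_mul]
  -- a noncentral involution not commuting with `a`
  have hex : ∃ t : P, IsT z t ∧ a * t ≠ t * a := by
    by_contra hcon
    push Not at hcon
    have hall : ∀ x : P, a * x = x * a := by
      intro x
      have hx : x ∈ Subgroup.closure {t : P | IsT z t} := by
        rw [h.closure_T_eq_top hno8 hinv hcard]; trivial
      induction hx using Subgroup.closure_induction with
      | mem t ht => exact hcon t ht
      | one => simp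
      | mul x y _ _ hx hy =>
        calc a * (x * y) = (a * x) * y := by group
          _ = (x * a) * y := by rw [hx]
          _ = x * (a * y) := by group
          _ = x * (y * a) := by rw [hy]
          _ = x * y * a := by group
      | inv x _ hx =>
        calc a * x⁻¹ = x⁻¹ * (x * a) * x⁻¹ := by group
          _ = x⁻¹ * (a * x) * x⁻¹ := by rw [hx]
          _ = x⁻¹ * a := by group
    have hc : a ∈ Subgroup.center P := by
      rw [Subgroup.mem_center_iff]
      intro g
      exact (hall g).symm
    rcases (h.cen a).mp hc with h1 | h1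
    · rw [h1, one_mul] at ha
      exact h.z_ne ha.symm
    · rw [h1, h.z_sq] at ha
      exact h.z_ne ha.symm
  obtain ⟨t, ht, hat⟩ := hex
  have hat' : a * t = z * t * a := h.mul_of_not_comm hat
  have htt : t * t = 1 := ht.1
  -- t' = t * a
  have ht' : IsT z (t * a) := by
    refine ⟨?_, ?_, ?_⟩
    · calc t * a * (t * a) = t * (a * t) * a := by group
        _ = t * (z * t * a) * a := by rw [hat']
        _ = (t * z) * t * (a * a) := by group
        _ = (z * t) * t * (a * a) := by rw [h.z_comm t]
        _ = z * (t * t) * (a * a) := by group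
        _ = 1 := by rw [htt, ha, mul_one, h.z_sq]
    · intro e
      apply hat
      have : a = t⁻¹ := eq_inv_of_mul_eq_one_right e
      rw [this]; group
    · intro e
      apply hat
      have : a = t⁻¹ * z := by rw [← e]; group
      rw [this]
      calc t⁻¹ * z * t = t⁻¹ * (z * t) := by group
        _ = t⁻¹ * (t * z) := by rw [h.z_comm t]
        _ = t * (t⁻¹ * z) := by group
  have hne : pr z (t * a) ≠ pr z t := by
    intro e
    rcases h.pr_eq_iff.mp e with h1 | h1
    · apply hat
      have : a = 1 := by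
        have : t * a = t * 1 := by rw [h1, mul_one]
        exact mul_left_cancel this
      rw [this]; simp
    · apply hat
      have : a = z := mul_left_cancel h1
      rw [this]; exact (h.z_comm t).symm
  -- pairs different from both commute with `a`
  have hcomm : ∀ u : P, IsT z u → pr z u ≠ pr z t → pr z u ≠ pr z (t * a) → u * a = a * u := by
    intro u hu hn1 hn2
    have hnc1 := not_comm_of_pr_ne h hno8 ht hu hn1
    have hnc2 := not_comm_of_pr_ne h hno8 ht' hu hn2
    have e1 : u * t = z * t * u := h.mul_of_not_comm (fun e => hnc1 e.symm)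
    have e2 : u * (t * a) = z * (t * a) * u := h.mul_of_not_comm (fun e => hnc2 e.symm)
    have e3 : u * (t * a) = z * t * (u * a) := by
      calc u * (t * a) = (u * t) * a := by group
        _ = (z * t * u) * a := by rw [e1]
        _ = z * t * (u * a) := by group
    rw [e3] at e2
    have e4 : z * t * (u * a) = z * t * (a * u) := by rw [e2]; group
    exact mul_left_cancel e4
  -- images
  have hs : IsT z (φ t) := h.isT_map φ ht
  have hs' : IsT z (φ (t * a)) := h.isT_map φ ht'
  have hsa : φ t * a ≠ a * φ t := by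
    intro e
    apply hat
    have : φ (t * a) = φ (a * t) := by rw [map_mul, map_mul, hφa, e]
    exact (φ.injective this).symm
  have hs'a : φ (t * a) * a ≠ a * φ (t * a) := by
    intro e
    have e1 : φ (t * a * a) = φ (a * (t * a)) := by
      rw [map_mul φ (t * a) a, map_mul φ a (t * a), hφa, e]
    have e2 := φ.injective e1
    apply hat
    have e3 : (t * a) * a = (a * t) * a := by rw [e2]; group
    exact (mul_right_cancel e3).symm
  have hsin : pr z (φ t) = pr z t ∨ pr z (φ t) = pr z (t * a) := by
    by_contra hcon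
    push Not at hcon
    exact hsa (hcomm _ hs hcon.1 hcon.2)
  have hs'in : pr z (φ (t * a)) = pr z t ∨ pr z (φ (t * a)) = pr z (t * a) := by
    by_contra hcon
    push Not at hcon
    exact hs'a (hcomm _ hs' hcon.1 hcon.2)
  have hss' : pr z (φ (t * a)) ≠ pr z (φ t) := by
    intro e
    apply hne
    rcases h.pr_eq_iff.mp e with h1 | h1
    · rw [φ.injective h1]
    · have : φ (t * a) = φ (t * z) := by rw [h1, map_mul φ t z, h.map_z]
      rw [φ.injective this, h.pr_mul_z]
  have hfix : ∀ {u : P} (hu : IsT z u), pr z (φ u) = pr z u →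
      h.permHom φ ⟨pr z u, u, hu, rfl⟩ = ⟨pr z u, u, hu, rfl⟩ := by
    intro u hu e
    rw [h.permHom_apply, h.mapX_mk φ hu]
    exact Subtype.ext e
  rcases hsin with hA | hB
  · -- `pr t` is fixed
    rcases hs'in with h1 | h1
    · exact hss' (h1.trans hA.symm)
    · have := huniq _ _ (hfix ht hA) (hfix ht' h1)
      exact hne (congrArg Subtype.val this).symm
  · rcases hs'in with h1 | h1
    · -- swapped
      rcases h.pr_eq_iff.mp hB with e1 | e1 <;> rcases h.pr_eq_iff.mp h1 with e2 | e2
      · -- φ t = t a, φ (t a) = t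
        have e3 : φ a = a * z := by
          have : φ (t * (t * a)) = φ t * φ (t * a) := map_mul φ t (t * a)
          rw [e1, e2, ← mul_assoc, htt, one_mul] at this
          rw [this]
          calc t * a * t = t * (a * t) := by group
            _ = t * (z * t * a) := by rw [hat']
            _ = (t * z) * t * a := by group
            _ = (z * t) * t * a := by rw [h.z_comm t]
            _ = z * (t * t) * a := by group
            _ = a * z := by rw [htt, mul_one, h.z_comm a]
        rw [hφa] at e3
        apply h.z_ne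
        have : a * 1 = a * z := by rw [mul_one]; exact e3
        exact (mul_left_cancel this).symm
      · -- φ t = t a, φ (t a) = t z : then φ (φ t) = t z ≠ t
        have := hφ2 t
        rw [e1, e2] at this
        apply h.z_ne
        have e3 : t * z = t * 1 := by rw [this, mul_one]
        exact mul_left_cancel e3
      · -- φ t = t a z, φ (t a) = t : then φ (φ t) = φ (t a) z = t z
        have := hφ2 t
        rw [e1, map_mul φ (t * a) z, h.map_z, e2] at this
        apply h.z_ne
        have e3 : t * z = t * 1 := by rw [this, mul_one]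
        exact mul_left_cancel e3
      · -- φ t = t a z, φ (t a) = t z
        have e3 : φ a = a * z := by
          have : φ (t * (t * a)) = φ t * φ (t * a) := map_mul φ t (t * a)
          rw [e1, e2, ← mul_assoc, htt, one_mul] at this
          rw [this]
          calc t * a * z * (t * z) = t * a * (z * t) * z := by group
            _ = t * a * (t * z) * z := by rw [h.z_comm t]
            _ = t * (a * t) * (z * z) := by group
            _ = t * (z * t * a) := by rw [h.z_sq, mul_one, hat']
            _ = (t * z) * t * a := by group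
            _ = (z * t) * t * a := by rw [h.z_comm t]
            _ = z * (t * t) * a := by group
            _ = a * z := by rw [htt, mul_one, h.z_comm a]
        rw [hφa] at e3
        apply h.z_ne
        have : a * 1 = a * z := by rw [mul_one]; exact e3
        exact (mul_left_cancel this).symm
    · exact hss' (h1.trans hB.symm)

end E2

section perm

variable {X : Type*}

/-- A power of `ρ` (of order `5`, fixed-point-free) fixing a point is trivial. -/
theorem pow_fix_eq_one {ρ : Equiv.Perm X} (hρ5 : ρ ^ 5 = 1) (hfpf : ∀ p : X, ρ p ≠ p)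
    {m : ℕ} {p : X} (hm : (ρ ^ m) p = p) : ρ ^ m = 1 := by
  have hred : ρ ^ m = ρ ^ (m % 5) := by
    conv_lhs => rw [← Nat.div_add_mod m 5, pow_add, pow_mul, hρ5, one_pow, one_mul]
  rw [hred] at hm ⊢
  have hlt : m % 5 < 5 := Nat.mod_lt _ (by norm_num)
  set k := m % 5 with hk
  have hfix : ∀ a : ℕ, ((ρ ^ k) ^ a) p = p := by
    intro a
    induction a with
    | zero => simp
    | succ a ih => rw [pow_succ, Equiv.Perm.mul_apply, hm, ih]
  interval_cases k
  · simp
  · exfalso; exact hfpf p (by simpa using hm)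
  · exfalso
    have := hfix 3
    rw [← pow_mul] at this
    have e : ρ ^ (2 * 3) = ρ := by
      rw [show 2 * 3 = 5 + 1 from rfl, pow_add, hρ5, one_mul, pow_one]
    rw [e] at this
    exact hfpf p this
  · exfalso
    have := hfix 2
    rw [← pow_mul] at this
    have e : ρ ^ (3 * 2) = ρ := by
      rw [show 3 * 2 = 5 + 1 from rfl, pow_add, hρ5, one_mul, pow_one]
    rw [e] at this
    exact hfpf p this
  · exfalso
    have := hfix 4
    rw [← pow_mul] at this
    have e : ρ ^ (4 * 4) = ρ := by
      rw [show 4 * 4 = 5 * 3 + 1 from rfl, pow_add, pow_mul, hρ5, one_pow, one_mul, pow_one]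
    rw [e] at this
    exact hfpf p this

theorem exists_pow_apply_eq [Finite X] (hX : Nat.card X = 5) {ρ : Equiv.Perm X} (hρ5 : ρ ^ 5 = 1)
    (hfpf : ∀ p : X, ρ p ≠ p) (p p' : X) : ∃ k : ℕ, (ρ ^ k) p = p' := by
  have key : ∀ i j : Fin 5, (i : ℕ) < j → (ρ ^ (i : ℕ)) p = (ρ ^ (j : ℕ)) p → False := by
    intro i j hlt hij
    have h1 : (ρ ^ ((j : ℕ) - i)) p = p := by
      have e : ρ ^ (j : ℕ) = ρ ^ (i : ℕ) * ρ ^ ((j : ℕ) - i) := by
        rw [← pow_add]; congr 1; omega
      rw [e, Equiv.Perm.mul_apply] at hij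
      exact ((ρ ^ (i : ℕ)).injective hij).symm
    have h2 := pow_fix_eq_one hρ5 hfpf h1
    have h3 : orderOf ρ = 5 := by
      have : Fact (Nat.Prime 5) := ⟨by norm_num⟩
      apply orderOf_eq_prime hρ5
      intro e
      rw [e] at hfpf
      exact hfpf p rfl
    have h4 := orderOf_dvd_of_pow_eq_one h2
    rw [h3] at h4
    have := Nat.le_of_dvd (by omega) h4
    omega
  have hinj : Function.Injective (fun i : Fin 5 => (ρ ^ (i : ℕ)) p) := by
    intro i j hij
    simp only at hij
    rcases Nat.lt_trichotomy (i : ℕ) j with h1 | h1 | h1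
    · exact (key i j h1 hij).elim
    · exact Fin.ext h1
    · exact (key j i h1 hij.symm).elim
  have hbij : Function.Bijective (fun i : Fin 5 => (ρ ^ (i : ℕ)) p) := by
    rw [Nat.bijective_iff_injective_and_card]
    exact ⟨hinj, by rw [hX]; simp⟩
  obtain ⟨i, hi⟩ := hbij.2 p'
  exact ⟨i, hi⟩

/-- An involution normalizing the group generated by a fixed-point-free element of order `5` on
five points has at most one fixed point. -/
theorem fix_unique [Finite X] (hX : Nat.card X = 5) {ρ σ : Equiv.Perm X} (hρ5 : ρ ^ 5 = 1)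
    (hfpf : ∀ p : X, ρ p ≠ p) (hnorm : σ * ρ * σ⁻¹ ∈ Subgroup.zpowers ρ) (hσ : σ ≠ 1)
    {p p' : X} (hp : σ p = p) (hp' : σ p' = p') : p = p' := by
  by_contra hne
  obtain ⟨k, hk⟩ := exists_pow_apply_eq hX hρ5 hfpf p p'
  -- the commutator
  have hc : σ * ρ ^ k * σ⁻¹ * (ρ ^ k)⁻¹ ∈ Subgroup.zpowers ρ := by
    apply Subgroup.mul_mem
    · have e : σ * ρ ^ k * σ⁻¹ = (σ * ρ * σ⁻¹) ^ k := by rw [conj_pow]
      rw [e]
      exact Subgroup.pow_mem _ hnorm k
    · exact Subgroup.inv_mem _ (Subgroup.pow_mem _ (Subgroup.mem_zpowers ρ) k)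
  have hσinv : σ⁻¹ p = p := by
    rw [Equiv.Perm.inv_eq_iff_eq]; exact hp.symm
  have hcfix : (σ * ρ ^ k * σ⁻¹ * (ρ ^ k)⁻¹) p' = p' := by
    have e1 : (ρ ^ k)⁻¹ p' = p := by
      rw [← hk, ← Equiv.Perm.mul_apply, inv_mul_cancel, Equiv.Perm.one_apply]
    rw [Equiv.Perm.mul_apply, Equiv.Perm.mul_apply, Equiv.Perm.mul_apply, e1, hσinv, hk, hp']
  obtain ⟨n, hn⟩ := Subgroup.mem_zpowers_iff.mp hc
  -- reduce the exponent
  have hnat : ∃ m : ℕ, ρ ^ m = σ * ρ ^ k * σ⁻¹ * (ρ ^ k)⁻¹ := by
    refine ⟨(n % 5).toNat, ?_⟩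
    rw [← hn, ← zpow_natCast, Int.toNat_of_nonneg (Int.emod_nonneg _ (by norm_num))]
    have h5 : ρ ^ (5 : ℤ) = 1 := by exact_mod_cast hρ5
    conv_rhs => rw [← Int.mul_ediv_add_emod n 5, zpow_add, zpow_mul, h5, one_zpow, one_mul]
  obtain ⟨m, hm⟩ := hnat
  rw [← hm] at hcfix
  have hc1 := pow_fix_eq_one hρ5 hfpf hcfix
  rw [hm] at hc1
  -- σ commutes with ρ ^ k
  have hcomm : σ * ρ ^ k = ρ ^ k * σ := by
    have : σ * ρ ^ k = (σ * ρ ^ k * σ⁻¹ * (ρ ^ k)⁻¹) * ρ ^ k * σ := by group
    rw [this, hc1, one_mul]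
  -- hence σ fixes all points
  apply hσ
  ext q
  obtain ⟨j, hj⟩ := exists_pow_apply_eq hX hρ5 hfpf p q
  -- ρ ^ k generates: ρ ^ j p' ... use p' as base point
  have hkne : ρ ^ k ≠ 1 := by
    intro e
    rw [e] at hk
    exact hne hk
  -- σ commutes with ρ: ρ is a power of ρ ^ k
  have hρk : ∃ a : ℕ, (ρ ^ k) ^ a = ρ := by
    have hred : ρ ^ k = ρ ^ (k % 5) := by
      conv_lhs => rw [← Nat.div_add_mod k 5, pow_add, pow_mul, hρ5, one_pow, one_mul]
    have hlt : k % 5 < 5 := Nat.mod_lt _ (by norm_num)
    rw [hred] at hkne ⊢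
    set r := k % 5 with hr
    interval_cases r
    · exact absurd (pow_zero ρ) hkne
    · exact ⟨1, by simp⟩
    · refine ⟨3, ?_⟩
      rw [← pow_mul, show 2 * 3 = 5 + 1 from rfl, pow_add, hρ5, one_mul, pow_one]
    · refine ⟨2, ?_⟩
      rw [← pow_mul, show 3 * 2 = 5 + 1 from rfl, pow_add, hρ5, one_mul, pow_one]
    · refine ⟨4, ?_⟩
      rw [← pow_mul, show 4 * 4 = 5 * 3 + 1 from rfl, pow_add, pow_mul, hρ5, one_pow, one_mul,
        pow_one]
  obtain ⟨a, ha⟩ := hρk
  have hcommρ : σ * ρ = ρ * σ := by
    rw [← ha]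
    exact (Commute.pow_right (show Commute σ (ρ ^ k) from hcomm) a).eq
  have hcommj : σ * ρ ^ j = ρ ^ j * σ :=
    (Commute.pow_right (show Commute σ ρ from hcommρ) j).eq
  rw [← hj, ← Equiv.Perm.mul_apply, hcommj, Equiv.Perm.mul_apply, hp]
  rfl

end perm

end Cfsg.Agent.Helper3.AutEx
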