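import Mathlib
import Cfsg.Agent.Helper3.AutExE
import Cfsg.Agent.Helper1.Fitting2
import Cfsg.Agent.Helper9.Core

set_option autoImplicit false

namespace Cfsg.Agent.Helper3.AutEx

open Cfsg.Agent.Helper3.SympT Cfsg.Agent.Helper3.Extra

/-- A group of order `10` is solvable. -/
theorem isSolvable_of_card_ten {Q : Type*} [Group Q] [Finite Q] (hQ : Nat.card Q = 10) :
    Group.IsSolvable Q := by
  have : Fact (Nat.Prime 5) := ⟨by norm_num⟩
  obtain ⟨x, hx⟩ := exists_prime_orderOf_dvd_card' (G := Q) 5 (by rw [hQ]; norm_num)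
  have hNc : Nat.card (Subgroup.zpowers x) = 5 := by rw [Nat.card_zpowers, hx]
  have hidx : (Subgroup.zpowers x).index = 2 := by
    have := (Subgroup.zpowers x).card_mul_index
    rw [hNc, hQ] at this
    omega
  have hNn : (Subgroup.zpowers x).Normal := Subgroup.normal_of_index_eq_two hidx
  have h1 : Group.IsSolvable (Subgroup.zpowers x) :=
    Group.isSolvable_of_comm (fun a b => mul_comm' a b)
  have h2 : Group.IsSolvable (Q ⧸ Subgroup.zpowers x) := by
    have hc : Nat.card (Q ⧸ Subgroup.zpowers x) = 2 := by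
      have := Subgroup.card_eq_card_quotient_mul_card_subgroup (Subgroup.zpowers x)
      rw [hQ, hNc] at this
      omega
    have : Fact (Nat.Prime 2) := ⟨Nat.prime_two⟩
    have hcyc : IsCyclic (Q ⧸ Subgroup.zpowers x) := isCyclic_of_prime_card hc
    exact Group.isSolvable_of_comm (fun a b => by
      obtain ⟨g, hg⟩ := hcyc.exists_generator
      obtain ⟨i, rfl⟩ := Subgroup.mem_zpowers_iff.mp (hg a)
      obtain ⟨j, rfl⟩ := Subgroup.mem_zpowers_iff.mp (hg b)
      rw [← zpow_add, ← zpow_add, add_comm])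
  exact Group.isSolvable_of_ker_le_range (Subgroup.zpowers x).subtype
    (QuotientGroup.mk' (Subgroup.zpowers x)) (by
    rw [QuotientGroup.ker_mk', Subgroup.range_subtype])

/-- A group with a normal `p`-subgroup and solvable quotient is solvable. -/
theorem isSolvable_of_normal_pgroup {G : Type*} [Group G] [Finite G] {p : ℕ} [Fact p.Prime]
    (H : Subgroup G) [H.Normal] (hp : IsPGroup p H) (hq : Group.IsSolvable (G ⧸ H)) :
    Group.IsSolvable G := by
  have : Group.IsNilpotent H := hp.isNilpotent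
  have h1 : Group.IsSolvable H := inferInstance
  exact Group.isSolvable_of_ker_le_range H.subtype (QuotientGroup.mk' H) (by
    rw [QuotientGroup.ker_mk', Subgroup.range_subtype])

section setting

variable {G : Type*} [Group G] [Finite G] (H : Subgroup G) [hHn : H.Normal] {z : ↥H}
  (h : E2 ↥H z)

/-- The permutation action of `G` on the pairs of `H`. -/
def psi : G →* Equiv.Perm (XX z) := h.permHom.comp (MulAut.conjNormal : G →* MulAut ↥H)

theorem psi_apply (g : G) : psi H h g = h.permHom (MulAut.conjNormal g) := rfl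

variable (hno8 : ∀ A : Subgroup ↥H, Cfsg.IsElementaryAbelian 2 A → Nat.card ↥A ≤ 4)
  (hinv : Nat.card {e : ↥H // e ^ 2 = 1} = 12) (hcard : Nat.card ↥H = 32)
  (hC : Subgroup.centralizer (H : Set G) ≤ H)

include h hno8 hinv hcard hC

theorem psi_ker : (psi H h).ker = H := by
  ext g
  rw [MonoidHom.mem_ker, psi_apply]
  constructor
  · intro hg
    have h1 : (MulAut.conjNormal g : MulAut ↥H) ∈ h.permHom.ker := MonoidHom.mem_ker.mpr hg
    obtain ⟨n, hn⟩ := h.ker_le_range_conj hno8 hinv hcard h1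
    have h2 : (n : G)⁻¹ * g ∈ Subgroup.centralizer (H : Set G) := by
      rw [Subgroup.mem_centralizer_iff]
      intro x hx
      have h3 := congrArg (fun φ : MulAut ↥H => ((φ ⟨x, hx⟩ : ↥H) : G)) hn
      simp only [MulAut.conjNormal_apply, MulAut.conj_apply, Subgroup.coe_mul,
        Subgroup.coe_inv] at h3
      calc x * ((n : G)⁻¹ * g) = (n : G)⁻¹ * ((n : G) * x * (n : G)⁻¹) * g := by group
        _ = (n : G)⁻¹ * (g * x * g⁻¹) * g := by rw [h3]
        _ = (n : G)⁻¹ * g * x := by group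
    have h4 := hC h2
    have : g = (n : G) * ((n : G)⁻¹ * g) := by group
    rw [this]
    exact H.mul_mem n.2 h4
  · intro hg
    have h1 : (MulAut.conjNormal g : MulAut ↥H) = MulAut.conj (⟨g, hg⟩ : ↥H) :=
      MulAut.conjNormal_val (h := (⟨g, hg⟩ : ↥H))
    rw [h1]
    exact MonoidHom.mem_ker.mp (h.range_conj_le_ker ⟨_, rfl⟩)

/-- The centralizer in `H` of an element of order `5`. -/
theorem fixed_of_order_five {f : G} (hf5 : f ^ 5 = 1) (hf1 : f ≠ 1) (x : ↥H)
    (hx : (MulAut.conjNormal f : MulAut ↥H) x = x) : x = 1 ∨ x = z := by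
  classical
  have : Fact (Nat.Prime 5) := ⟨by norm_num⟩
  have : Fact (Nat.Prime 2) := ⟨Nat.prime_two⟩
  set φ : MulAut ↥H := MulAut.conjNormal f with hφ
  have hφ5 : φ ^ 5 = 1 := by rw [hφ, ← map_pow, hf5, map_one]
  -- the fixed subgroup
  let K : Subgroup ↥H :=
    { carrier := {x | φ x = x}
      mul_mem' := fun {a b} ha hb => by
        show φ (a * b) = a * b
        rw [map_mul, ha, hb]
      one_mem' := map_one φ
      inv_mem' := fun {a} ha => by
        show φ a⁻¹ = a⁻¹
        rw [map_inv, ha] }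
  have memK : ∀ x : ↥H, x ∈ K ↔ φ x = x := fun x => Iff.rfl
  have : Fintype ↥H := Fintype.ofFinite _
  set σ : Equiv.Perm ↥H := MulAut.toPerm ↥H φ with hσ
  have hσ5 : σ ^ 5 ^ 1 = 1 := by rw [pow_one, hσ, ← map_pow, hφ5, map_one]
  have hmod0 := Equiv.Perm.card_compl_support_modEq hσ5
  have hsupp : σ.supportᶜ = Finset.univ.filter (fun x => x ∈ K) := by
    ext x
    simp only [Finset.mem_compl, Equiv.Perm.mem_support, not_not, Finset.mem_filter,
      Finset.mem_univ, true_and, memK]
    rfl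
  have hKcard : Nat.card K = σ.supportᶜ.card := by
    rw [hsupp, Nat.card_eq_fintype_card, Fintype.card_subtype]
  rw [← hKcard, ← Nat.card_eq_fintype_card, hcard] at hmod0
  have hmod : 32 ≡ Nat.card K [MOD 5] := hmod0.symm
  have hdvd : Nat.card K ∣ 2 ^ 5 := by
    have := Subgroup.card_subgroup_dvd_card K
    rw [hcard] at this
    exact this
  obtain ⟨j, hj5, hj⟩ := (Nat.dvd_prime_pow Nat.prime_two).mp hdvd
  have hK2 : Nat.card K = 2 ∨ Nat.card K = 32 := by
    rw [hj] at hmod ⊢
    unfold Nat.ModEq at hmod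
    interval_cases j <;> simp_all
  rcases hK2 with hK2 | hK32
  · -- K = {1, z}
    obtain ⟨y, hy1, hy2⟩ := (Nat.card_eq_two_iff' (1 : K)).mp hK2
    have hzK : z ∈ K := by
      rw [memK]
      exact h.map_z φ
    have hzy : (⟨z, hzK⟩ : K) = y := by
      apply hy2
      intro e
      exact h.z_ne (congrArg Subtype.val e)
    by_cases hx1 : x = 1
    · left; exact hx1
    · right
      have hxK : x ∈ K := (memK x).mpr hx
      have : (⟨x, hxK⟩ : K) = y := by
        apply hy2
        intro e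
        exact hx1 (congrArg Subtype.val e)
      exact congrArg Subtype.val (this.trans hzy.symm)
  · -- K = ⊤ : f centralizes H
    exfalso
    have hKtop : K = ⊤ := by
      apply (Subgroup.card_eq_iff_eq_top K).mp
      rw [hK32, hcard]
    have hfC : f ∈ Subgroup.centralizer (H : Set G) := by
      rw [Subgroup.mem_centralizer_iff]
      intro y hy
      have hyK : (⟨y, hy⟩ : ↥H) ∈ K := by rw [hKtop]; trivial
      have h3 := congrArg (fun w : ↥H => (w : G)) ((memK _).mp hyK)
      simp only [hφ, MulAut.conjNormal_apply] at h3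
      calc y * f = (f * y * f⁻¹) * f := by rw [h3]
        _ = f * y := by group
    have hfH : f ∈ H := hC hfC
    have h32 : (⟨f, hfH⟩ : ↥H) ^ 32 = 1 := by
      rw [← hcard]; exact pow_card_eq_one'
    have h32' : f ^ 32 = 1 := by
      have := congrArg (fun w : ↥H => (w : G)) h32
      simpa using this
    apply hf1
    have e : f = (f ^ 5) ^ 13 * (f ^ 32)⁻¹ ^ 2 := by group
    rw [e, h32', hf5]
    simp


theorem psi_fpf {f : G} (hf5 : f ^ 5 = 1) (hf1 : f ≠ 1) (p : XX z) : psi H h f p ≠ p := by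
  obtain ⟨S, t, ht, rfl⟩ := p
  intro e
  rw [psi_apply, h.permHom_apply, h.mapX_mk _ ht] at e
  have e1 : pr z ((MulAut.conjNormal f : MulAut ↥H) t) = pr z t := congrArg Subtype.val e
  set φ : MulAut ↥H := MulAut.conjNormal f with hφ
  have hφ5 : φ ^ 5 = 1 := by rw [hφ, ← map_pow, hf5, map_one]
  rcases h.pr_eq_iff.mp e1 with h1 | h1
  · rcases fixed_of_order_five H h hno8 hinv hcard hC hf5 hf1 t h1 with h2 | h2
    · exact ht.2.1 h2
    · exact ht.2.2 h2
  · have h2 : φ (φ t) = t := by
      rw [h1, map_mul, h1, h.map_z, h.mul_z_mul_z]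
    have h5 : φ ^ 5 = φ * (φ * φ) * (φ * φ) := by
      simp only [pow_succ, pow_zero, one_mul, mul_assoc]
    have h3 : (φ ^ 5) t = t * z := by
      rw [h5, MulAut.mul_apply, MulAut.mul_apply, MulAut.mul_apply, MulAut.mul_apply, h2, h2, h1]
    rw [hφ5, MulAut.one_apply] at h3
    apply h.z_ne
    have : t * 1 = t * z := by rw [mul_one]; exact h3
    exact (mul_left_cancel this).symm

theorem psi_normal (hG : Nat.card G = 320) {f : G} (hf5 : f ^ 5 = 1) (hf1 : f ≠ 1) (T : G) :
    psi H h T * psi H h f * (psi H h T)⁻¹ ∈ Subgroup.zpowers (psi H h f) := by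
  have : Fact (Nat.Prime 5) := ⟨by norm_num⟩
  have hX := h.card_XX hinv
  have hne : Nonempty (XX z) := by
    rw [← Nat.card_pos_iff.trans ⟨fun h => h.1, fun h => ⟨h, inferInstance⟩⟩]
    omega
  obtain ⟨p0⟩ := hne
  set Ψ := psi H h with hΨ
  have hρ5 : Ψ f ^ 5 = 1 := by rw [← map_pow, hf5, map_one]
  have hρ1 : Ψ f ≠ 1 := by
    intro e
    apply psi_fpf H h hno8 hinv hcard hC hf5 hf1 p0
    rw [← hΨ, e]; rfl
  have hord : orderOf (Ψ f) = 5 := orderOf_eq_prime hρ5 hρ1
  have hRc : Nat.card (Subgroup.zpowers (Ψ f)) = 5 := by rw [Nat.card_zpowers, hord]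
  have hKc : Nat.card Ψ.range = 10 := by
    rw [← Subgroup.index_ker, hΨ, psi_ker H h hno8 hinv hcard hC]
    have := H.card_mul_index
    rw [hcard, hG] at this
    omega
  have hRK : Subgroup.zpowers (Ψ f) ≤ Ψ.range := by
    rw [Subgroup.zpowers_le]
    exact ⟨f, rfl⟩
  have hrel : (Subgroup.zpowers (Ψ f)).relIndex Ψ.range = 2 := by
    have h1 := Subgroup.relIndex_mul_index hRK
    have h2 := (Subgroup.zpowers (Ψ f)).card_mul_index
    have h3 := Ψ.range.card_mul_index
    rw [hRc] at h2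
    rw [hKc] at h3
    have h4 : Ψ.range.index ≠ 0 := Subgroup.index_ne_zero_of_finite
    have h5 : 5 * ((Subgroup.zpowers (Ψ f)).relIndex Ψ.range * Ψ.range.index) =
        10 * Ψ.range.index := by rw [h1, h2, h3]
    have h6 : ((Subgroup.zpowers (Ψ f)).relIndex Ψ.range * 5) * Ψ.range.index =
        (2 * 5) * Ψ.range.index := by
      calc ((Subgroup.zpowers (Ψ f)).relIndex Ψ.range * 5) * Ψ.range.index
          = 5 * ((Subgroup.zpowers (Ψ f)).relIndex Ψ.range * Ψ.range.index) := by ring
        _ = 10 * Ψ.range.index := h5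
        _ = (2 * 5) * Ψ.range.index := by norm_num
    have h7 := Nat.eq_of_mul_eq_mul_right (Nat.pos_of_ne_zero h4) h6
    omega
  have hidx : ((Subgroup.zpowers (Ψ f)).comap Ψ).index = 2 := by
    rw [Subgroup.index_comap, hrel]
  have hn : ((Subgroup.zpowers (Ψ f)).comap Ψ).Normal := Subgroup.normal_of_index_eq_two hidx
  have hfA : f ∈ (Subgroup.zpowers (Ψ f)).comap Ψ := by
    rw [Subgroup.mem_comap]
    exact Subgroup.mem_zpowers _
  have := hn.conj_mem f hfA T
  rw [Subgroup.mem_comap, map_mul, map_mul, map_inv] at this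
  exact this

theorem no_order4_centralized (hG : Nat.card G = 320) (T : G) (hT2 : T * T = 1) (hTH : T ∉ H)
    (a : ↥H) (ha : a * a = z) : T * (a : G) * T⁻¹ ≠ (a : G) := by
  have : Fact (Nat.Prime 5) := ⟨by norm_num⟩
  obtain ⟨f, hf⟩ := exists_prime_orderOf_dvd_card' (G := G) 5 (by rw [hG]; norm_num)
  have hf5 : f ^ 5 = 1 := by rw [← hf]; exact pow_orderOf_eq_one f
  have hf1 : f ≠ 1 := by
    intro e
    rw [e, orderOf_one] at hf
    omega
  set φ : MulAut ↥H := MulAut.conjNormal T with hφ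
  have hφ2 : ∀ x : ↥H, φ (φ x) = x := by
    intro x
    have : φ * φ = 1 := by rw [hφ, ← map_mul, hT2, map_one]
    rw [← MulAut.mul_apply, this, MulAut.one_apply]
  have hσ1 : psi H h T ≠ 1 := by
    intro e
    apply hTH
    rw [← psi_ker H h hno8 hinv hcard hC]
    exact MonoidHom.mem_ker.mpr e
  have huniq : ∀ p p' : XX z, h.permHom φ p = p → h.permHom φ p' = p' → p = p' := by
    intro p p' hp hp'
    exact fix_unique (h.card_XX hinv) (ρ := psi H h f) (σ := psi H h T)
      (by rw [← map_pow, hf5, map_one]) (psi_fpf H h hno8 hinv hcard hC hf5 hf1)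
      (psi_normal H h hno8 hinv hcard hC hG hf5 hf1 T) hσ1 hp hp'
  have := h.no_fixed_order4 hno8 hinv hcard φ hφ2 huniq ha
  intro e
  apply this
  apply Subtype.ext
  rw [hφ, MulAut.conjNormal_apply]
  exact e

end setting

end Cfsg.Agent.Helper3.AutEx
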