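import Mathlib
import Cfsg.Prelude
import Cfsg.Agent.Helper3.BG1211m
import Cfsg.Agent.Helper2.ZasOddD
import Cfsg.Agent.S1420

set_option autoImplicit false
set_option linter.unusedSectionVars false
set_option linter.unusedVariables false

/-!
Two lemmas for the BG 15.7 trichotomy (Type V): nilpotent subgroups of a complement of `N_σ`.
-/

namespace Cfsg.Agent.Helper3.BG157q

open Cfsg Cfsg.Agent.Lead.BG127

universe u

variable {G : Type u} [Group G] [Finite G]

/-- primes dividing the order of (a subgroup of) a complement `E` of `N_σ` are not in `σ(N)` -/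
theorem not_mem_sigma_of_dvd_card_le_compl (hG : Cfsg.IsMinSimpleOddOrder G) {N E X : Subgroup G}
    (hN : IsCoatom N) (hE : Cfsg.IsComplIn E (Cfsg.sigmaCore N) N) (hX : X ≤ E) {p : ℕ}
    (hp : p.Prime) (hpX : p ∣ Nat.card X) : p ∉ Cfsg.sigma N := by
  intro hpσ
  have hhall := (Cfsg.Agent.Lead.BG12.sigmaCore_hall hG N hN).1
  have h1 := Cfsg.Agent.Helper1.IsComplIn_card_mul hE
  have h2 := Cfsg.Agent.Helper1.relIndex_mul_card_of_le
    (Cfsg.Agent.Lead.BG12.sigmaCore_le (M := N))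
  have hrel : (Cfsg.sigmaCore N).relIndex N = Nat.card E := by
    rw [← h1] at h2
    exact Nat.eq_of_mul_eq_mul_right Nat.card_pos h2
  apply hhall.2.2 p hp hpσ
  rw [hrel]
  exact hpX.trans (Subgroup.card_dvd_of_le hX)

/-- **(Q1)** nilpotent subgroups of a complement of `N_σ` in `N` are abelian (BG 12.? = S1420(1)). -/
theorem isMulCommutative_of_isNilpotent_le_compl (hG : Cfsg.IsMinSimpleOddOrder G)
    {N E X : Subgroup G} (hN : IsCoatom N) (hE : Cfsg.IsComplIn E (Cfsg.sigmaCore N) N)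
    (hX : X ≤ E) (hnil : Group.IsNilpotent ↥X) : IsMulCommutative ↥X :=
  (Cfsg.Agent.S1420.result hG N hN E hE).1 X (hX.trans hE.1) hnil
    (fun p hp hpX => not_mem_sigma_of_dvd_card_le_compl hG hN hE hX hp hpX)

/-- **(Q2)** if `r ∈ τ₂(N)` and the Sylow `r`-subgroups of `G` are nonabelian, then every nilpotent
`r'`-subgroup of a complement `E` of `N_σ` in `N` is cyclic. -/
theorem isCyclic_of_isNilpotent_le_compl (hG : Cfsg.IsMinSimpleOddOrder G)
    {N E A Q : Subgroup G} (hN : IsCoatom N) (hE : Cfsg.IsComplIn E (Cfsg.sigmaCore N) N)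
    {r : ℕ} [hr' : Fact r.Prime] (hr : r ∈ Cfsg.tau2 N)
    (hS : ∀ S : Sylow r G, ¬ IsMulCommutative (S : Subgroup G))
    (hA : A ≤ E ∧ Cfsg.IsElementaryAbelian r A ∧ Nat.card A = r ^ 2) (hQ : Q ≤ E)
    (hQnil : Group.IsNilpotent ↥Q) (hQr : (Nat.card Q).Coprime r) : IsCyclic ↥Q := by
  have c : Ctx N E r A := ⟨hG, Cfsg.Agent.Helper1.BG116.hypD,
    Cfsg.Agent.Helper3.BGAlpha.hypAlpha hG, hN, hE, hr, hA.1, hA.2.1, hA.2.2⟩
  obtain ⟨T, hAT, hTE, hTp, hTc⟩ := Cfsg.Agent.Lead.exists_le_card_eq_ppart c.isPGroup hA.1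
  obtain ⟨x₀, y, -, -, -, -, -, -, -, htau⟩ :=
    Cfsg.Agent.Helper3.BG1211.ctx_exists_decomp_of_nonabelian c hS hAT hTE hTp hTc
  have hcomm := isMulCommutative_of_isNilpotent_le_compl hG hN hE hQ hQnil
  haveI : IsZGroup ↥Q := by
    refine ⟨fun q hq0 P => ?_⟩
    haveI hq : Fact q.Prime := ⟨hq0⟩
    by_cases hqQ : q ∣ Nat.card Q
    · have hqr : q ≠ r := by
        rintro rfl
        have := Nat.Coprime.eq_one_of_dvd hQr.symm hqQ
        exact hq.out.one_lt.ne' this
      have hqσ : q ∉ Cfsg.sigma N :=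
        not_mem_sigma_of_dvd_card_le_compl hG hN hE hQ hq.out hqQ
      have hq2 : Cfsg.PRankLE q 2 ↥N :=
        Cfsg.Agent.Lead.BG12.pRankLE_of_not_mem_sigma hG hN hq.out hqσ
      have hq1 : Cfsg.PRankLE q 1 ↥N := by
        by_contra h1
        have : q ∈ Cfsg.tau2 N := ⟨hq.out, hqσ, hq2, h1⟩
        rw [htau] at this
        exact hqr this
      have hZ : IsCyclic ↥((P : Subgroup ↥Q).map Q.subtype) :=
        Cfsg.Agent.Lead.BG12.isCyclic_of_pRankLE_one hG.1 hq1
          ((Subgroup.map_subtype_le _).trans (hQ.trans hE.1)) (P.2.map _)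
      exact isCyclic_of_surjective
        ((P : Subgroup ↥Q).equivMapOfInjective Q.subtype Q.subtype_injective).symm
        ((P : Subgroup ↥Q).equivMapOfInjective Q.subtype Q.subtype_injective).symm.surjective
    · have h1 : Nat.card ↥(P : Subgroup ↥Q) = 1 := by
        obtain ⟨k, hk⟩ := IsPGroup.iff_card.mp P.2
        rcases Nat.eq_zero_or_pos k with rfl | hk0
        · rw [hk, pow_zero]
        · exfalso
          apply hqQ
          have h2 : q ∣ Nat.card ↥(P : Subgroup ↥Q) := by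
            rw [hk]; exact dvd_pow_self q hk0.ne'
          exact h2.trans (Subgroup.card_subgroup_dvd_card _)
      haveI : Subsingleton ↥(P : Subgroup ↥Q) := (Nat.card_eq_one_iff_unique.mp h1).1
      exact isCyclic_of_subsingleton
  exact Cfsg.Agent.Helper2.ZasOdd.isCyclic_of_comm (fun x y => hcomm.is_comm.comm x y)

end Cfsg.Agent.Helper3.BG157q
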