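import Mathlib

set_option autoImplicit false

namespace Cfsg.Agent.Helper3

/-- The index of the centralizer of `x` is the size of the conjugacy class of `x`. -/
theorem index_centralizer_singleton_eq_card_conj {G : Type*} [Group G] (x : G) :
    (Subgroup.centralizer ({x} : Set G)).index = Nat.card {y : G // IsConj x y} := by
  have hstab : MulAction.stabilizer (ConjAct G) x =
      (Subgroup.centralizer ({x} : Set G)).map (ConjAct.toConjAct (G := G)).toMonoidHom := by
    ext g
    rw [MulAction.mem_stabilizer_iff, ConjAct.smul_def, Subgroup.mem_map]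
    constructor
    · intro h
      refine ⟨ConjAct.ofConjAct g, ?_, by simp⟩
      rw [Subgroup.mem_centralizer_iff]
      intro y hy
      rw [Set.mem_singleton_iff] at hy
      subst hy
      calc y * ConjAct.ofConjAct g = ConjAct.ofConjAct g * y * (ConjAct.ofConjAct g)⁻¹ * ConjAct.ofConjAct g := by rw [h]
        _ = ConjAct.ofConjAct g * y := by group
    · rintro ⟨h, hh, rfl⟩
      rw [Subgroup.mem_centralizer_iff] at hh
      have := hh x rfl
      simp only [MulEquiv.toMonoidHom_eq_coe, MonoidHom.coe_coe, ConjAct.ofConjAct_toConjAct]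
      rw [← this]; group
  have h1 : (Subgroup.centralizer ({x} : Set G)).index = (MulAction.stabilizer (ConjAct G) x).index := by
    rw [hstab]
    exact (Subgroup.index_map_equiv _ (ConjAct.toConjAct (G := G))).symm
  rw [h1, MulAction.index_stabilizer, ← Nat.card_coe_set_eq]
  apply Nat.card_congr
  refine Equiv.subtypeEquivRight ?_
  intro y
  rw [ConjAct.mem_orbit_conjAct, isConj_comm]

/-- A finite set carrying a fixed-point-free involution has even cardinality. -/
theorem even_card_of_involution {α : Type*} (s : Finset α) (g : α → α)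
    (hmem : ∀ a ∈ s, g a ∈ s) (hinv : ∀ a ∈ s, g (g a) = a) (hne : ∀ a ∈ s, g a ≠ a) :
    Even s.card := by
  have h : ∑ _a ∈ s, (1 : ZMod 2) = 0 := by
    apply Finset.sum_involution (fun a _ => g a)
    · intro a _; decide
    · intro a ha _; exact hne a ha
    · intro a ha; exact hmem a ha
    · intro a ha; exact hinv a ha
  rw [Finset.sum_const, nsmul_eq_mul, mul_one] at h
  exact (ZMod.natCast_eq_zero_iff_even).mp h

end Cfsg.Agent.Helper3
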