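import Mathlib
import Cfsg.Prelude.Def_KGroupFacts

set_option autoImplicit false

/-!
# Central extensions of a group by a bilinear map

For a group `G`, an additive commutative group `A` and a map `β : G → G → A` additive in both variables,
the set `A × G` with `(a, g) (b, h) = (a + b + β g h, g h)` is a group, and the projection onto `G` is a central
extension with kernel `A`. When `G` is commutative its commutators are `(β g h - β h g, 1)`.
-/

namespace Cfsg.Agent.Helper3

universe u v

/-- A map `G → G → A` additive in both variables. -/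
structure BiAdd (G : Type u) [Group G] (A : Type v) [AddCommGroup A] where
  toFun : G → G → A
  map_mul_left : ∀ g h k, toFun (g * h) k = toFun g k + toFun h k
  map_mul_right : ∀ g h k, toFun g (h * k) = toFun g h + toFun g k

namespace BiAdd

variable {G : Type u} [Group G] {A : Type v} [AddCommGroup A] (β : BiAdd G A)

theorem map_one_left (g : G) : β.toFun 1 g = 0 := by
  have h := β.map_mul_left 1 1 g
  rw [mul_one] at h
  exact left_eq_add.mp h

theorem map_one_right (g : G) : β.toFun g 1 = 0 := by
  have h := β.map_mul_right g 1 1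
  rw [mul_one] at h
  exact left_eq_add.mp h

theorem map_inv_left (g h : G) : β.toFun g⁻¹ h = - β.toFun g h := by
  have h1 := β.map_mul_left g⁻¹ g h
  rw [inv_mul_cancel, map_one_left] at h1
  exact eq_neg_of_add_eq_zero_left h1.symm

theorem map_inv_right (g h : G) : β.toFun g h⁻¹ = - β.toFun g h := by
  have h1 := β.map_mul_right g h⁻¹ h
  rw [inv_mul_cancel, map_one_right] at h1
  exact eq_neg_of_add_eq_zero_left h1.symm

/-- The underlying type of the extension. -/
structure Ext (β : BiAdd G A) where
  fst : A
  snd : G

namespace Ext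

variable {β}

@[ext] theorem ext' {x y : Ext β} (h1 : x.fst = y.fst) (h2 : x.snd = y.snd) : x = y := by
  cases x; cases y; simp_all

instance : Mul (Ext β) := ⟨fun x y => ⟨x.fst + y.fst + β.toFun x.snd y.snd, x.snd * y.snd⟩⟩
instance : One (Ext β) := ⟨⟨0, 1⟩⟩
instance : Inv (Ext β) := ⟨fun x => ⟨- x.fst + β.toFun x.snd x.snd, x.snd⁻¹⟩⟩

@[simp] theorem mul_fst (x y : Ext β) : (x * y).fst = x.fst + y.fst + β.toFun x.snd y.snd := rfl
@[simp] theorem mul_snd (x y : Ext β) : (x * y).snd = x.snd * y.snd := rfl
@[simp] theorem one_fst : (1 : Ext β).fst = 0 := rfl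
@[simp] theorem one_snd : (1 : Ext β).snd = 1 := rfl
@[simp] theorem inv_fst (x : Ext β) : (x⁻¹).fst = - x.fst + β.toFun x.snd x.snd := rfl
@[simp] theorem inv_snd (x : Ext β) : (x⁻¹).snd = x.snd⁻¹ := rfl

instance : Group (Ext β) :=
  Group.ofLeftAxioms
    (by
      intro x y z
      apply ext'
      · simp only [mul_fst, mul_snd, β.map_mul_left, β.map_mul_right]
        abel
      · simp only [mul_snd, mul_assoc])
    (by
      intro x
      apply ext'
      · simp only [mul_fst, one_fst, one_snd, β.map_one_left]
        abel
      · simp only [mul_snd, one_snd, one_mul])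
    (by
      intro x
      apply ext'
      · simp only [mul_fst, inv_fst, inv_snd, one_fst, β.map_inv_left]
        abel
      · simp only [mul_snd, inv_snd, inv_mul_cancel, one_snd])

/-- The underlying equivalence with the product. -/
def equivProd : Ext β ≃ A × G where
  toFun x := (x.fst, x.snd)
  invFun y := ⟨y.1, y.2⟩
  left_inv x := by cases x; rfl
  right_inv y := rfl

instance [Finite A] [Finite G] : Finite (Ext β) := Finite.of_equiv _ equivProd.symm

/-- The projection onto `G`. -/
def proj : Ext β →* G where
  toFun x := x.snd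
  map_one' := rfl
  map_mul' _ _ := rfl

@[simp] theorem proj_apply (x : Ext β) : proj x = x.snd := rfl

theorem proj_surjective : Function.Surjective (proj : Ext β →* G) := fun g => ⟨⟨0, g⟩, rfl⟩

theorem mem_ker_proj {x : Ext β} : x ∈ (proj : Ext β →* G).ker ↔ x.snd = 1 := Iff.rfl

/-- The inclusion of `A`. -/
def incl : Multiplicative A →* Ext β where
  toFun a := ⟨Multiplicative.toAdd a, 1⟩
  map_one' := rfl
  map_mul' a b := by
    apply ext'
    · simp only [mul_fst, toAdd_mul, β.map_one_left, add_zero]
    · simp only [mul_snd, mul_one]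

@[simp] theorem incl_fst (a : Multiplicative A) : (incl a : Ext β).fst = Multiplicative.toAdd a := rfl
@[simp] theorem incl_snd (a : Multiplicative A) : (incl a : Ext β).snd = 1 := rfl

theorem incl_injective : Function.Injective (incl : Multiplicative A →* Ext β) := by
  intro a b h
  have := congrArg Ext.fst h
  simpa using this

theorem range_incl : (incl : Multiplicative A →* Ext β).range = (proj : Ext β →* G).ker := by
  ext x
  constructor
  · rintro ⟨a, rfl⟩
    exact rfl
  · intro hx
    refine ⟨Multiplicative.ofAdd x.fst, ?_⟩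
    apply ext'
    · rfl
    · exact (mem_ker_proj.mp hx).symm

/-- The kernel of the projection is `A`. -/
noncomputable def kerEquiv : (proj : Ext β →* G).ker ≃* Multiplicative A :=
  ((MulEquiv.subgroupCongr range_incl.symm).trans
    (MonoidHom.ofInjective incl_injective).symm)

theorem ker_proj_le_center : (proj : Ext β →* G).ker ≤ Subgroup.center (Ext β) := by
  intro x hx
  rw [mem_ker_proj] at hx
  rw [Subgroup.mem_center_iff]
  intro y
  apply ext'
  · simp only [mul_fst, hx, β.map_one_left, β.map_one_right]
    abel
  · simp only [mul_snd, hx, mul_one, one_mul]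

end Ext

end BiAdd

namespace BiAdd.Ext

open scoped commutatorElement

variable {G : Type u} [CommGroup G] {A : Type v} [AddCommGroup A] {β : BiAdd G A}

theorem commutatorElement_eq (x y : Ext β) :
    ⁅x, y⁆ = incl (Multiplicative.ofAdd (β.toFun x.snd y.snd - β.toFun y.snd x.snd)) := by
  have h : x * y = incl (Multiplicative.ofAdd (β.toFun x.snd y.snd - β.toFun y.snd x.snd)) * (y * x) := by
    apply ext'
    · simp only [mul_fst, mul_snd, incl_fst, incl_snd, toAdd_ofAdd, β.map_one_left]
      abel
    · simp only [mul_snd, incl_snd, one_mul]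
      exact mul_comm _ _
  rw [commutatorElement_def, mul_assoc (x * y), ← mul_inv_rev, h, mul_inv_cancel_right]

theorem incl_mem_commutator (g h : G) :
    (incl (Multiplicative.ofAdd (β.toFun g h - β.toFun h g)) : Ext β) ∈ commutator (Ext β) := by
  have := commutatorElement_eq (β := β) ⟨0, g⟩ ⟨0, h⟩
  rw [← this]
  exact Subgroup.commutator_mem_commutator (Subgroup.mem_top _) (Subgroup.mem_top _)

theorem ker_proj_le_commutator
    (hgen : AddSubgroup.closure {a : A | ∃ g h : G, a = β.toFun g h - β.toFun h g} = ⊤) :
    (proj : Ext β →* G).ker ≤ commutator (Ext β) := by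
  intro x hx
  rw [← range_incl] at hx
  obtain ⟨a, rfl⟩ := hx
  have ha : Multiplicative.toAdd a ∈ AddSubgroup.closure {a : A | ∃ g h : G, a = β.toFun g h - β.toFun h g} := by
    rw [hgen]; exact AddSubgroup.mem_top _
  have key : ∀ b : A, b ∈ AddSubgroup.closure {a : A | ∃ g h : G, a = β.toFun g h - β.toFun h g} →
      (incl (Multiplicative.ofAdd b) : Ext β) ∈ commutator (Ext β) := by
    intro b hb
    induction hb using AddSubgroup.closure_induction with
    | mem c hc =>
      obtain ⟨g, h, rfl⟩ := hc
      exact incl_mem_commutator g h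
    | zero =>
      have : (incl (Multiplicative.ofAdd (0 : A)) : Ext β) = 1 := by
        rw [ofAdd_zero, map_one]
      rw [this]; exact Subgroup.one_mem _
    | add c d _ _ hc hd =>
      rw [ofAdd_add, map_mul]
      exact Subgroup.mul_mem _ hc hd
    | neg c _ hc =>
      rw [ofAdd_neg, map_inv]
      exact Subgroup.inv_mem _ hc
  have := key _ ha
  rwa [ofAdd_toAdd] at this

theorem isStemExtension_proj
    (hgen : AddSubgroup.closure {a : A | ∃ g h : G, a = β.toFun g h - β.toFun h g} = ⊤) :
    Cfsg.IsStemExtension (proj : Ext β →* G) :=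
  ⟨proj_surjective, ker_proj_le_center, ker_proj_le_commutator hgen⟩

end BiAdd.Ext

/-- If some `β g h - β h g` equals `1` in `ZMod n`, these differences generate `ZMod n`. -/
theorem closure_eq_top_of_one_mem {n : ℕ} {S : Set (ZMod n)} (h : (1 : ZMod n) ∈ S) :
    AddSubgroup.closure S = ⊤ := by
  rw [eq_top_iff]
  intro a _
  have h1 : (1 : ZMod n) ∈ AddSubgroup.closure S := AddSubgroup.subset_closure h
  have h2 := AddSubgroup.zsmul_mem _ h1 (ZMod.cast a : ℤ)
  rwa [zsmul_one, ZMod.intCast_zmod_cast] at h2

end Cfsg.Agent.Helper3
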