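import Mathlib
import Cfsg.Prelude.Def_CaseTheorems
import Cfsg.Prelude.Def_OddOrderLocal

set_option autoImplicit false

/-!
Plumbing for Blackburn's theorem on 2-groups of sectional rank at most two: transport of
`PRankLE` along isomorphisms, sections of quotients, and an elementwise criterion for being
metacyclic.
-/

namespace Cfsg.Agent.Helper3.Black

universe u

theorem pRankLE_of_equiv {p k : ℕ} {X Y : Type*} [Group X] [Group Y] (e : X ≃* Y)
    (h : Cfsg.PRankLE p k X) : Cfsg.PRankLE p k Y := by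
  intro A hA hexp
  have hinj : Function.Injective (e.symm : Y →* X) := e.symm.injective
  have hcard := Subgroup.card_map_of_injective (K := A) hinj
  rw [← hcard]
  apply h
  · refine ⟨⟨?_⟩⟩
    rintro ⟨_, a, ha, rfl⟩ ⟨_, b, hb, rfl⟩
    apply Subtype.ext
    change (e.symm : Y →* X) a * (e.symm : Y →* X) b = (e.symm : Y →* X) b * (e.symm : Y →* X) a
    rw [← map_mul, ← map_mul]
    have := hA.is_comm.comm ⟨a, ha⟩ ⟨b, hb⟩
    have h2 : a * b = b * a := congrArg Subtype.val this
    rw [h2]
  · rintro _ ⟨a, ha, rfl⟩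
    rw [← map_pow, hexp a ha, map_one]

variable {S : Type u} [Group S]

theorem pRankLE_of_sectional {p k : ℕ} (h : Cfsg.SectionalPRankLE p k S) : Cfsg.PRankLE p k S := by
  have h1 := h (⊤ : Subgroup S) (⊥ : Subgroup (⊤ : Subgroup S))
  exact pRankLE_of_equiv ((QuotientGroup.quotientBot).trans Subgroup.topEquiv) h1

theorem sectional_quotient {p k : ℕ} (h : Cfsg.SectionalPRankLE p k S) (N : Subgroup S)
    [N.Normal] : Cfsg.SectionalPRankLE p k (S ⧸ N) := by
  intro K M hM
  set K₀ : Subgroup S := K.comap (QuotientGroup.mk' N) with hK₀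
  set f : ↥K₀ →* ↥K := (QuotientGroup.mk' N).subgroupComap K with hf
  have hfs : Function.Surjective f :=
    (QuotientGroup.mk' N).subgroupComap_surjective_of_surjective K
      (QuotientGroup.mk'_surjective N)
  set g : ↥K₀ →* ↥K ⧸ M := (QuotientGroup.mk' M).comp f with hg
  have hgs : Function.Surjective g := (QuotientGroup.mk'_surjective M).comp hfs
  have hker : g.ker = M.comap f := by
    ext x
    rw [MonoidHom.mem_ker, Subgroup.mem_comap, hg, MonoidHom.comp_apply,
      QuotientGroup.mk'_apply, QuotientGroup.eq_one_iff]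
  have hn : (M.comap f).Normal := hM.comap f
  have h1 := h K₀ (M.comap f)
  have e : ↥K₀ ⧸ M.comap f ≃* ↥K ⧸ M :=
    (QuotientGroup.quotientMulEquivOfEq hker.symm).trans
      (QuotientGroup.quotientKerEquivOfSurjective g hgs)
  exact pRankLE_of_equiv e h1

/-- elementwise criterion for being metacyclic -/
theorem isMetacyclic_of_gen (c b : S) (hn : (Subgroup.zpowers c).Normal)
    (hgen : ∀ g : S, ∃ i : ℤ, (b ^ i)⁻¹ * g ∈ Subgroup.zpowers c) : Cfsg.IsMetacyclic S := by
  refine ⟨Subgroup.zpowers c, hn, inferInstance, ?_⟩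
  refine ⟨⟨(b : S ⧸ Subgroup.zpowers c), fun q => ?_⟩⟩
  induction q using QuotientGroup.induction_on with
  | H g =>
    obtain ⟨i, hi⟩ := hgen g
    refine ⟨i, ?_⟩
    change (b : S ⧸ Subgroup.zpowers c) ^ i = (g : S ⧸ Subgroup.zpowers c)
    rw [← QuotientGroup.mk_zpow, QuotientGroup.eq]
    exact hi

/-- a group generated by `x, y` with `⟨x⟩` normal is metacyclic -/
theorem isMetacyclic_of_closure_pair (x y : S) (hxy : Subgroup.closure ({x, y} : Set S) = ⊤)
    (hn : (Subgroup.zpowers x).Normal) : Cfsg.IsMetacyclic S := by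
  apply isMetacyclic_of_gen x y hn
  intro g
  have hle : Subgroup.closure ({x, y} : Set S) ≤
      (Subgroup.zpowers (y : S ⧸ Subgroup.zpowers x)).comap
        (QuotientGroup.mk' (Subgroup.zpowers x)) := by
    rw [Subgroup.closure_le]
    rintro w hw
    rcases hw with rfl | rfl
    · rw [SetLike.mem_coe, Subgroup.mem_comap, QuotientGroup.mk'_apply,
        (QuotientGroup.eq_one_iff w).mpr (Subgroup.mem_zpowers w)]
      exact Subgroup.one_mem _
    · rw [SetLike.mem_coe, Subgroup.mem_comap, QuotientGroup.mk'_apply]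
      exact Subgroup.mem_zpowers _
  have hg : g ∈ Subgroup.closure ({x, y} : Set S) := by rw [hxy]; exact Subgroup.mem_top g
  obtain ⟨i, hi⟩ := Subgroup.mem_zpowers_iff.mp (hle hg)
  refine ⟨i, ?_⟩
  rw [QuotientGroup.mk'_apply, ← QuotientGroup.mk_zpow] at hi
  exact QuotientGroup.eq.mp hi

end Cfsg.Agent.Helper3.Black
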