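import Mathlib
import Cfsg.Agent.Helper1.Class2
import Cfsg.Agent.Helper3.MetaActB

set_option autoImplicit false

/-!
The core configuration of Blackburn's theorem: a non-abelian 2-group with derived group `⟨z⟩` of
order two in which no generating pair `(x, y)` has `z ∈ ⟨x⟩` contains an elementary abelian subgroup
of order at least eight.
-/

namespace Cfsg.Agent.Helper3.Black

open scoped commutatorElement
open Cfsg.Agent.Helper3.MetaAct

universe u

variable {S : Type u} [Group S]

/-- the configuration -/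
structure Cfg (z : S) : Prop where
  z_ne : z ≠ 1
  z_sq : z ^ 2 = 1
  z_cen : ∀ g : S, Commute z g
  comm : ∀ x y : S, ⁅x, y⁆ = 1 ∨ ⁅x, y⁆ = z
  gen_comm : ∀ x y : S, Subgroup.closure ({x, y} : Set S) = ⊤ → ⁅x, y⁆ = z
  gen_not : ∀ x y : S, Subgroup.closure ({x, y} : Set S) = ⊤ → z ∉ Subgroup.zpowers x

theorem closure_pair_mul {x y u : S} (hxy : Subgroup.closure ({x, y} : Set S) = ⊤)
    (hu : u ∈ Subgroup.zpowers y) : Subgroup.closure ({x * u, y} : Set S) = ⊤ := by
  rw [eq_top_iff, ← hxy, Subgroup.closure_le]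
  have hy : y ∈ Subgroup.closure ({x * u, y} : Set S) :=
    Subgroup.subset_closure (Set.mem_insert_of_mem _ rfl)
  have hu' : u ∈ Subgroup.closure ({x * u, y} : Set S) := by
    have : Subgroup.zpowers y ≤ Subgroup.closure ({x * u, y} : Set S) := by
      rw [Subgroup.zpowers_le]; exact hy
    exact this hu
  have hxu : x * u ∈ Subgroup.closure ({x * u, y} : Set S) :=
    Subgroup.subset_closure (Set.mem_insert _ _)
  rintro w hw
  rcases hw with rfl | rfl
  · have := Subgroup.mul_mem _ hxu (Subgroup.inv_mem _ hu')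
    rwa [mul_inv_cancel_right] at this
  · exact hy

theorem closure_pair_symm {x y : S} (hxy : Subgroup.closure ({x, y} : Set S) = ⊤) :
    Subgroup.closure ({y, x} : Set S) = ⊤ := by
  rw [Set.pair_comm]; exact hxy

theorem closure_pair_inv {x y : S} (hxy : Subgroup.closure ({x, y} : Set S) = ⊤) :
    Subgroup.closure ({y⁻¹, x} : Set S) = ⊤ := by
  rw [eq_top_iff, ← hxy, Subgroup.closure_le]
  rintro w hw
  rcases hw with rfl | rfl
  · exact Subgroup.subset_closure (Set.mem_insert_of_mem _ rfl)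
  · have : w⁻¹ ∈ Subgroup.closure ({w⁻¹, x} : Set S) :=
      Subgroup.subset_closure (Set.mem_insert _ _)
    have h2 := Subgroup.inv_mem _ this
    rwa [inv_inv] at h2

namespace Cfg

variable {z : S} (h : Cfg z)
include h

theorem hcen (x y w : S) : Commute ⁅x, y⁆ w := by
  rcases h.comm x y with h1 | h1
  · rw [h1]; exact Commute.one_left w
  · rw [h1]; exact h.z_cen w

theorem hexp (x y : S) : ⁅x, y⁆ ^ 2 = 1 := by
  rcases h.comm x y with h1 | h1
  · rw [h1, one_pow]
  · rw [h1, h.z_sq]

theorem sq_central (g w : S) : Commute (g ^ 2) w := pow_p_central h.hcen h.hexp g w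

theorem pow_two_pow_central (g w : S) (m : ℕ) : Commute (g ^ 2 ^ (m + 1)) w := by
  rw [pow_succ', pow_mul]
  exact (h.sq_central g w).pow_left _

theorem mul_sq (x y : S) : (x * y) ^ 2 = x ^ 2 * y ^ 2 * ⁅y, x⁆ := by
  have hyx : y * x = ⁅y, x⁆ * x * y := by simp [commutatorElement_def]
  have := Cfsg.Agent.Helper1.mul_pow_of_central (h.hcen y x) hyx 2
  rw [this]
  norm_num

theorem z_pow_even (m : ℕ) : z ^ 2 ^ (m + 1) = 1 := by
  rw [pow_succ', pow_mul, h.z_sq, one_pow]

/-- reduction step: a generating pair `(a', b)` with `a' ^ 2 ^ k = 1 or z` contradicts minimality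
of `(a, b)` or the configuration -/
theorem reduce {a b a' : S} {k : ℕ} (hmin : ∀ x y : S, Subgroup.closure ({x, y} : Set S) = ⊤ →
      orderOf a * orderOf b ≤ orderOf x * orderOf y)
    (ha : orderOf a = 2 ^ (k + 1)) (hb : 0 < orderOf b)
    (hgen : Subgroup.closure ({a', b} : Set S) = ⊤) {d : S} (hd : d = 1 ∨ d = z)
    (hpow : a' ^ 2 ^ k = d) : False := by
  rcases hd with rfl | rfl
  · have h1 : orderOf a' ∣ 2 ^ k := orderOf_dvd_of_pow_eq_one hpow
    have h2 : orderOf a' ≤ 2 ^ k := Nat.le_of_dvd (by positivity) h1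
    have h3 := hmin a' b hgen
    rw [ha] at h3
    have h4 : (2 : ℕ) ^ k < 2 ^ (k + 1) := Nat.pow_lt_pow_right (by norm_num) (Nat.lt_succ_self k)
    have h5 : orderOf a' * orderOf b < 2 ^ (k + 1) * orderOf b :=
      Nat.mul_lt_mul_of_lt_of_le (lt_of_le_of_lt h2 h4) le_rfl hb
    omega
  · apply h.gen_not a' b hgen
    rw [← hpow]
    exact Subgroup.pow_mem _ (Subgroup.mem_zpowers a') _

end Cfg

theorem exists_E8_core [Finite S] {z : S} (h : Cfg z) (a b : S)
    (hab : Subgroup.closure ({a, b} : Set S) = ⊤)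
    (hmin : ∀ x y : S, Subgroup.closure ({x, y} : Set S) = ⊤ →
      orderOf a * orderOf b ≤ orderOf x * orderOf y)
    {k l : ℕ} (hk : orderOf a = 2 ^ k) (hl : orderOf b = 2 ^ l) (hkl : k ≤ l) :
    ∃ E : Subgroup S, IsMulCommutative E ∧ (∀ e ∈ E, e ^ 2 = 1) ∧ 4 < Nat.card E := by
  classical
  have hba := closure_pair_symm hab
  have hcab : ⁅a, b⁆ = z := h.gen_comm a b hab
  have hcba : ⁅b, a⁆ = z := h.gen_comm b a hba
  have ha1 : a ≠ 1 := by
    rintro rfl
    rw [commutatorElement_one_left] at hcab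
    exact h.z_ne hcab.symm
  have hk0 : k ≠ 0 := by
    rintro rfl
    rw [pow_zero, orderOf_eq_one_iff] at hk
    exact ha1 hk
  obtain ⟨k', rfl⟩ : ∃ k', k = k' + 1 := ⟨k - 1, by omega⟩
  obtain ⟨l', rfl⟩ : ∃ l', l = l' + 1 := ⟨l - 1, by omega⟩
  have hkl' : k' ≤ l' := by omega
  have hbpos : 0 < orderOf b := by rw [hl]; positivity
  set a₀ : S := a ^ 2 ^ k' with ha₀
  set b₀ : S := b ^ 2 ^ l' with hb₀
  have ha₀sq : a₀ ^ 2 = 1 := by
    rw [ha₀, ← pow_mul, ← pow_succ, ← hk, pow_orderOf_eq_one]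
  have hb₀sq : b₀ ^ 2 = 1 := by
    rw [hb₀, ← pow_mul, ← pow_succ, ← hl, pow_orderOf_eq_one]
  have ha₀1 : a₀ ≠ 1 := by
    apply pow_ne_one_of_lt_orderOf (by positivity)
    rw [hk]
    exact Nat.pow_lt_pow_right (by norm_num) (Nat.lt_succ_self k')
  have hb₀1 : b₀ ≠ 1 := by
    apply pow_ne_one_of_lt_orderOf (by positivity)
    rw [hl]
    exact Nat.pow_lt_pow_right (by norm_num) (Nat.lt_succ_self l')
  have ha₀z : a₀ ≠ z := by
    intro h1
    apply h.gen_not a b hab
    rw [← h1]
    exact Subgroup.pow_mem _ (Subgroup.mem_zpowers a) _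
  have hb₀z : b₀ ≠ z := by
    intro h1
    apply h.gen_not b a hba
    rw [← h1]
    exact Subgroup.pow_mem _ (Subgroup.mem_zpowers b) _
  have hb₀inv : b₀⁻¹ = b₀ := by
    rw [inv_eq_iff_mul_eq_one, ← sq, hb₀sq]
  rcases Nat.eq_zero_or_pos l' with hl0 | hlpos
  · -- `k = l = 1`
    exfalso
    subst hl0
    have hk0' : k' = 0 := by omega
    subst hk0'
    have ha2 : a ^ 2 = 1 := by simpa [hk] using pow_orderOf_eq_one a
    have hb2 : b ^ 2 = 1 := by simpa [hl] using pow_orderOf_eq_one b
    have h1 : (a * b) ^ 2 = z := by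
      rw [h.mul_sq, ha2, hb2, one_mul, one_mul, hcba]
    have hgen : Subgroup.closure ({a * b, b} : Set S) = ⊤ :=
      closure_pair_mul hab (Subgroup.mem_zpowers b)
    apply h.gen_not (a * b) b hgen
    rw [← h1]
    exact Subgroup.pow_mem _ (Subgroup.mem_zpowers _) _
  · obtain ⟨l'', rfl⟩ : ∃ l'', l' = l'' + 1 := ⟨l' - 1, by omega⟩
    have hb₀cen : ∀ w : S, Commute b₀ w := fun w => h.pow_two_pow_central b w l''
    -- the key claim
    have hkey : ∀ d : S, d = 1 ∨ d = z → b₀ ≠ a₀ * d := by
      intro d hd hbd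
      have hdsq : d ^ 2 = 1 := by
        rcases hd with rfl | rfl
        · exact one_pow 2
        · exact h.z_sq
      have hdcen : ∀ w : S, Commute d w := by
        rcases hd with rfl | rfl
        · exact fun w => Commute.one_left w
        · exact h.z_cen
      have hab₀ : a₀ * b₀⁻¹ = d := by
        rw [hb₀inv, hbd, ← mul_assoc, ← sq, ha₀sq, one_mul]
      rcases Nat.lt_or_ge k' (l'' + 1) with hlt | hge
      · -- `k < l`
        obtain ⟨m, hm⟩ : ∃ m, l'' + 1 = k' + (m + 1) := ⟨l'' - k', by omega⟩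
        set u : S := (b ^ 2 ^ (m + 1))⁻¹ with hu
        have hucen : ∀ w : S, Commute u w := fun w => (h.pow_two_pow_central b w m).inv_left
        have hgen : Subgroup.closure ({a * u, b} : Set S) = ⊤ :=
          closure_pair_mul hab (Subgroup.inv_mem _ (Subgroup.pow_mem _ (Subgroup.mem_zpowers b) _))
        have hpow : (a * u) ^ 2 ^ k' = d := by
          rw [(hucen a).symm.mul_pow, hu, inv_pow, ← pow_mul, ← pow_add, add_comm (m + 1) k', ← hm,
            ← hb₀, ← ha₀, hab₀]
        exact h.reduce hmin hk hbpos hgen hd hpow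
      · -- `k = l`
        have hk'eq : k' = l'' + 1 := by omega
        subst hk'eq
        have hgen : Subgroup.closure ({a * b⁻¹, b} : Set S) = ⊤ :=
          closure_pair_mul hab (Subgroup.inv_mem _ (Subgroup.mem_zpowers b))
        have hcinv : ⁅b⁻¹, a⁆ = z := h.gen_comm b⁻¹ a (closure_pair_inv hab)
        have hsq : (a * b⁻¹) ^ 2 = a ^ 2 * (b ^ 2)⁻¹ * z := by
          rw [h.mul_sq, hcinv, inv_pow]
        have hpow : (a * b⁻¹) ^ 2 ^ (l'' + 1) = d * z ^ 2 ^ l'' := by
          rw [pow_succ', pow_mul, hsq]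
          have c1 : Commute (a ^ 2 * (b ^ 2)⁻¹) z := (h.z_cen _).symm
          have c2 : Commute (a ^ 2) ((b ^ 2)⁻¹) := (h.sq_central a _)
          rw [c1.mul_pow, c2.mul_pow, inv_pow, ← pow_mul, ← pow_mul, ← pow_succ', ← ha₀, ← hb₀,
            hab₀]
        rcases Nat.eq_zero_or_pos l'' with hl0 | hlpos'
        · subst hl0
          simp only [pow_zero, pow_one, zero_add] at hpow
          rcases hd with hd1 | hdz
          · rw [hd1, one_mul] at hpow
            exact h.reduce hmin hk hbpos hgen (Or.inr rfl) (by simpa using hpow)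
          · rw [hdz, ← sq, h.z_sq] at hpow
            exact h.reduce hmin hk hbpos hgen (Or.inl rfl) (by simpa using hpow)
        · obtain ⟨l₃, rfl⟩ : ∃ l₃, l'' = l₃ + 1 := ⟨l'' - 1, by omega⟩
          rw [h.z_pow_even, mul_one] at hpow
          exact h.reduce hmin hk hbpos hgen hd hpow
    have hne1 : b₀ ≠ a₀ := by
      have := hkey 1 (Or.inl rfl)
      rwa [mul_one] at this
    have hne2 : b₀ ≠ a₀ * z := hkey z (Or.inr rfl)
    -- the elementary abelian subgroup
    have hgcomm : ∀ x ∈ ({a₀, b₀, z} : Set S), ∀ y ∈ ({a₀, b₀, z} : Set S), x * y = y * x := by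
      intro x hx y hy
      have hcen : ∀ w ∈ ({a₀, b₀, z} : Set S), w ≠ a₀ → ∀ v : S, Commute w v := by
        intro w hw hne v
        rcases hw with hw | hw | hw
        · exact absurd hw hne
        · rw [hw]; exact hb₀cen v
        · rw [hw]; exact h.z_cen v
      by_cases hxa : x = a₀
      · by_cases hya : y = a₀
        · rw [hxa, hya]
        · exact ((hcen y hy hya x).symm).eq
      · exact (hcen x hx hxa y).eq
    set E : Subgroup S := Subgroup.closure ({a₀, b₀, z} : Set S) with hE
    have hEc : IsMulCommutative E := Subgroup.isMulCommutative_closure hgcomm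
    have hEexp : ∀ e ∈ E, e ^ 2 = 1 := by
      intro e he
      induction he using Subgroup.closure_induction with
      | mem x hx =>
        rcases hx with rfl | rfl | rfl
        · exact ha₀sq
        · exact hb₀sq
        · exact h.z_sq
      | one => exact one_pow 2
      | mul x y hx' hy' hx hy =>
        have hc : Commute x y := by
          have := hEc.is_comm.comm ⟨x, hx'⟩ ⟨y, hy'⟩
          exact congrArg Subtype.val this
        rw [hc.mul_pow, hx, hy, one_mul]
      | inv x _ hx => rw [inv_pow, hx, inv_one]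
    refine ⟨E, hEc, hEexp, ?_⟩
    have ha₀E : a₀ ∈ E := Subgroup.subset_closure (by simp)
    have hb₀E : b₀ ∈ E := Subgroup.subset_closure (by simp)
    have hzE : z ∈ E := Subgroup.subset_closure (by simp)
    let T : Finset S := {1, z, a₀, b₀, a₀ * z}
    have hTE : (T : Set S) ⊆ (E : Set S) := by
      intro x hx
      simp only [T, Finset.coe_insert, Finset.coe_singleton, Set.mem_insert_iff,
        Set.mem_singleton_iff] at hx
      rcases hx with rfl | rfl | rfl | rfl | rfl
      · exact E.one_mem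
      · exact hzE
      · exact ha₀E
      · exact hb₀E
      · exact E.mul_mem ha₀E hzE
    have hTcard : T.card = 5 := by
      have e1 : b₀ ∉ ({a₀ * z} : Finset S) := by simpa using hne2
      have e2 : a₀ ∉ ({b₀, a₀ * z} : Finset S) := by
        simp only [Finset.mem_insert, Finset.mem_singleton, not_or]
        refine ⟨fun hh => hne1 hh.symm, fun hh => h.z_ne ?_⟩
        have : a₀ * 1 = a₀ * z := by rw [mul_one]; exact hh
        exact (mul_left_cancel this).symm
      have e3 : z ∉ ({a₀, b₀, a₀ * z} : Finset S) := by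
        simp only [Finset.mem_insert, Finset.mem_singleton, not_or]
        refine ⟨fun hh => ha₀z hh.symm, fun hh => hb₀z hh.symm, fun hh => ha₀1 ?_⟩
        have : 1 * z = a₀ * z := by rw [one_mul]; exact hh
        exact (mul_right_cancel this).symm
      have e4 : (1 : S) ∉ ({z, a₀, b₀, a₀ * z} : Finset S) := by
        simp only [Finset.mem_insert, Finset.mem_singleton, not_or]
        refine ⟨fun hh => h.z_ne hh.symm, fun hh => ha₀1 hh.symm, fun hh => hb₀1 hh.symm,
          fun hh => ha₀z ?_⟩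
        have h2 : a₀ * z * z = z := by rw [← hh, one_mul]
        rw [mul_assoc, ← sq, h.z_sq, mul_one] at h2
        exact h2
      rw [Finset.card_insert_of_notMem e4, Finset.card_insert_of_notMem e3,
        Finset.card_insert_of_notMem e2, Finset.card_insert_of_notMem e1, Finset.card_singleton]
    have h1 : (T : Set S).ncard ≤ (E : Set S).ncard := Set.ncard_le_ncard hTE (Set.toFinite _)
    rw [Set.ncard_coe_finset, hTcard] at h1
    have h2 : Nat.card E = (E : Set S).ncard := Nat.card_coe_set_eq _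
    rw [h2]
    omega

theorem exists_E8 [Finite S] (hS : IsPGroup 2 S) {z : S} (h : Cfg z)
    (hex : ∃ x y : S, Subgroup.closure ({x, y} : Set S) = ⊤) :
    ∃ E : Subgroup S, IsMulCommutative E ∧ (∀ e ∈ E, e ^ 2 = 1) ∧ 4 < Nat.card E := by
  classical
  have hP : ∃ n, ∃ x y : S, Subgroup.closure ({x, y} : Set S) = ⊤ ∧ orderOf x * orderOf y = n := by
    obtain ⟨x, y, hxy⟩ := hex
    exact ⟨_, x, y, hxy, rfl⟩
  obtain ⟨a, b, hab, hn⟩ := Nat.find_spec hP
  have hmin : ∀ x y : S, Subgroup.closure ({x, y} : Set S) = ⊤ →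
      orderOf a * orderOf b ≤ orderOf x * orderOf y := by
    intro x y hxy
    rw [hn]
    exact Nat.find_min' hP ⟨x, y, hxy, rfl⟩
  have : Fact (Nat.Prime 2) := ⟨Nat.prime_two⟩
  obtain ⟨k, hk⟩ := (IsPGroup.iff_orderOf.mp hS) a
  obtain ⟨l, hl⟩ := (IsPGroup.iff_orderOf.mp hS) b
  rcases le_total k l with hkl | hkl
  · exact exists_E8_core h a b hab hmin hk hl hkl
  · refine exists_E8_core h b a (closure_pair_symm hab) ?_ hl hk hkl
    intro x y hxy
    rw [mul_comm (orderOf b)]
    exact hmin x y hxy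

end Cfsg.Agent.Helper3.Black
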