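import Mathlib
import Cfsg.Agent.Helper3.BlackA
import Cfsg.Agent.Helper3.BlackB
import Cfsg.Agent.Helper1.KWCondB

set_option autoImplicit false

/-!
Blackburn's theorem: a finite 2-group of sectional rank at most two is metacyclic.
-/

namespace Cfsg.Agent.Helper3.Black

open scoped commutatorElement
open Cfsg.Agent.Helper3.MetaAct

universe u

variable {S : Type u} [Group S]

/-- data extracted from a metacyclic quotient by a central subgroup `⟨z⟩` -/
theorem extract (z : S) (hn : (Subgroup.zpowers z).Normal)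
    (hm : Cfsg.IsMetacyclic (S ⧸ Subgroup.zpowers z)) :
    ∃ a b : S, (∀ g : S, ∃ i j e : ℤ, g = b ^ i * a ^ j * z ^ e) ∧
      ∀ g : S, ∃ j e : ℤ, g⁻¹ * a * g = a ^ j * z ^ e := by
  obtain ⟨A, hAn, hAc, hQc⟩ := hm
  obtain ⟨⟨q, hq⟩, hgenA⟩ := hAc.exists_generator
  obtain ⟨a, rfl⟩ := QuotientGroup.mk_surjective q
  obtain ⟨b', hgenQ⟩ := hQc.exists_generator
  obtain ⟨b'', rfl⟩ := QuotientGroup.mk_surjective b'
  obtain ⟨b, rfl⟩ := QuotientGroup.mk_surjective b''
  -- elements of `A` are `a ^ j * z ^ e`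
  have hA : ∀ x : S, (x : S ⧸ Subgroup.zpowers z) ∈ A → ∃ j e : ℤ, x = a ^ j * z ^ e := by
    intro x hx
    obtain ⟨j, hj⟩ := Subgroup.mem_zpowers_iff.mp (hgenA ⟨_, hx⟩)
    have h1 := congrArg Subtype.val hj
    rw [Subgroup.coe_zpow] at h1
    change ((a : S ⧸ Subgroup.zpowers z)) ^ j = (x : S ⧸ Subgroup.zpowers z) at h1
    rw [← QuotientGroup.mk_zpow, QuotientGroup.eq] at h1
    obtain ⟨e, he⟩ := Subgroup.mem_zpowers_iff.mp h1
    refine ⟨j, e, ?_⟩
    rw [he, mul_inv_cancel_left]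
  refine ⟨a, b, ?_, ?_⟩
  · intro g
    obtain ⟨i, hi⟩ := Subgroup.mem_zpowers_iff.mp
      (hgenQ (((g : S ⧸ Subgroup.zpowers z)) : (S ⧸ Subgroup.zpowers z) ⧸ A))
    rw [← QuotientGroup.mk_zpow, QuotientGroup.eq] at hi
    rw [← QuotientGroup.mk_zpow, ← QuotientGroup.mk_inv, ← QuotientGroup.mk_mul] at hi
    obtain ⟨j, e, hje⟩ := hA _ hi
    refine ⟨i, j, e, ?_⟩
    rw [mul_assoc, ← hje, mul_inv_cancel_left]
  · intro g
    have h1 : ((g⁻¹ * a * g : S) : S ⧸ Subgroup.zpowers z) ∈ A := by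
      rw [QuotientGroup.mk_mul, QuotientGroup.mk_mul, QuotientGroup.mk_inv]
      have := hAn.conj_mem _ hq ((g : S ⧸ Subgroup.zpowers z))⁻¹
      rwa [inv_inv] at this
    exact hA _ h1

theorem mem_normalizer_of_conj_mem [Finite S] (H : Subgroup S) (g : S)
    (h : ∀ x ∈ H, g * x * g⁻¹ ∈ H) : g ∈ Subgroup.normalizer (H : Set S) := by
  have hle : H.map ((MulAut.conj g : S ≃* S) : S →* S) ≤ H := by
    rintro _ ⟨x, hx, rfl⟩
    exact h x hx
  have heq : H.map ((MulAut.conj g : S ≃* S) : S →* S) = H :=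
    Subgroup.eq_of_le_of_card_ge hle (by
      rw [Subgroup.card_map_of_injective (MulAut.conj g).injective])
  rw [Subgroup.mem_normalizer_iff]
  intro x
  constructor
  · exact h x
  · intro hx
    rw [← heq] at hx
    obtain ⟨y, hy, hyx⟩ := hx
    have : y = x := (MulAut.conj g).injective hyx
    rwa [← this]

theorem zpowers_normal_of_pair [Finite S] (a b : S) (hab : Subgroup.closure ({a, b} : Set S) = ⊤)
    (c : S) (hca : a * c * a⁻¹ ∈ Subgroup.zpowers c) (hcb : b⁻¹ * c * b ∈ Subgroup.zpowers c) :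
    (Subgroup.zpowers c).Normal := by
  have key : ∀ g : S, g * c * g⁻¹ ∈ Subgroup.zpowers c →
      g ∈ Subgroup.normalizer ((Subgroup.zpowers c : Subgroup S) : Set S) := by
    intro g hg
    apply mem_normalizer_of_conj_mem
    intro x hx
    obtain ⟨n, rfl⟩ := Subgroup.mem_zpowers_iff.mp hx
    rw [← conj_zpow]
    exact Subgroup.zpow_mem _ hg n
  have h1 := key a hca
  have h2 : b⁻¹ ∈ Subgroup.normalizer ((Subgroup.zpowers c : Subgroup S) : Set S) := by
    apply key
    rwa [inv_inv]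
  have h3 : b ∈ Subgroup.normalizer ((Subgroup.zpowers c : Subgroup S) : Set S) := by
    have := Subgroup.inv_mem _ h2
    rwa [inv_inv] at this
  apply Subgroup.normalizer_eq_top_iff.mp
  rw [eq_top_iff, ← hab, Subgroup.closure_le]
  rintro w hw
  rcases hw with rfl | rfl
  · exact h1
  · exact h3

theorem comm_central {s t u v : S} (hu : ∀ w : S, Commute u w) (hv : ∀ w : S, Commute v w) :
    ⁅s * u, t * v⁆ = ⁅s, t⁆ := by
  have h1 : s * u * (t * v) * (s * u)⁻¹ = s * (t * v) * s⁻¹ := by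
    have : u * (t * v) * u⁻¹ = t * v := (hu (t * v)).mul_inv_cancel
    calc s * u * (t * v) * (s * u)⁻¹ = s * (u * (t * v) * u⁻¹) * s⁻¹ := by group
      _ = s * (t * v) * s⁻¹ := by rw [this]
  have h2 : v * s⁻¹ * v⁻¹ = s⁻¹ := (hv s⁻¹).mul_inv_cancel
  rw [commutatorElement_def, commutatorElement_def, h1]
  calc s * (t * v) * s⁻¹ * (t * v)⁻¹ = s * t * (v * s⁻¹ * v⁻¹) * t⁻¹ := by group
    _ = s * t * s⁻¹ * t⁻¹ := by rw [h2]

theorem zpow_of_sq_eq_one {z : S} (hz : z ^ 2 = 1) (e : ℤ) : z ^ e = 1 ∨ z ^ e = z := by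
  have h2 : z ^ (2 : ℤ) = 1 := by rw [zpow_ofNat]; exact hz
  rcases Int.emod_two_eq_zero_or_one e with h | h
  · left
    have : e = 2 * (e / 2) := by omega
    rw [this, zpow_mul, h2, one_zpow]
  · right
    have : e = 2 * (e / 2) + 1 := by omega
    rw [this, zpow_add, zpow_mul, h2, one_zpow, one_mul, zpow_one]

/-- all commutators lie in `⟨c⟩` when `S = ⟨a, b⟩`, `⟨c⟩` is normal and `a, b` commute modulo it -/
theorem commutator_mem_zpowers (a b : S) (hab : Subgroup.closure ({a, b} : Set S) = ⊤) (c : S)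
    (hn : (Subgroup.zpowers c).Normal) (hc : ⁅a, b⁆ ∈ Subgroup.zpowers c) (x y : S) :
    ⁅x, y⁆ ∈ Subgroup.zpowers c := by
  set f := QuotientGroup.mk' (Subgroup.zpowers c) with hf
  have htop : Subgroup.closure ({f a, f b} : Set (S ⧸ Subgroup.zpowers c)) = ⊤ := by
    have h1 := MonoidHom.map_closure f ({a, b} : Set S)
    rw [hab, Set.image_pair] at h1
    rw [← h1, ← MonoidHom.range_eq_map]
    exact MonoidHom.range_eq_top.mpr (QuotientGroup.mk'_surjective _)
  have hfab : f a * f b = f b * f a := by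
    have h1 : f ⁅a, b⁆ = 1 := (QuotientGroup.eq_one_iff _).mpr hc
    rw [map_commutatorElement, commutatorElement_eq_one_iff_mul_comm] at h1
    exact h1
  have hcomm : ∀ u ∈ ({f a, f b} : Set (S ⧸ Subgroup.zpowers c)),
      ∀ v ∈ ({f a, f b} : Set (S ⧸ Subgroup.zpowers c)), u * v = v * u := by
    intro u hu v hv
    rcases hu with rfl | rfl <;> rcases hv with rfl | rfl
    · rfl
    · exact hfab
    · exact hfab.symm
    · rfl
  have hC := Subgroup.isMulCommutative_closure hcomm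
  have hxy : f x * f y = f y * f x := by
    have hx : f x ∈ Subgroup.closure ({f a, f b} : Set (S ⧸ Subgroup.zpowers c)) := by
      rw [htop]; exact Subgroup.mem_top _
    have hy : f y ∈ Subgroup.closure ({f a, f b} : Set (S ⧸ Subgroup.zpowers c)) := by
      rw [htop]; exact Subgroup.mem_top _
    have := hC.is_comm.comm ⟨f x, hx⟩ ⟨f y, hy⟩
    exact congrArg Subtype.val this
  have h1 : f ⁅x, y⁆ = 1 := by
    rw [map_commutatorElement, commutatorElement_eq_one_iff_mul_comm]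
    exact hxy
  exact (QuotientGroup.eq_one_iff _).mp h1

theorem mem_pair_left (a b : S) : a ∈ Subgroup.closure ({a, b} : Set S) :=
  Subgroup.subset_closure (Set.mem_insert _ _)

theorem mem_pair_right (a b : S) : b ∈ Subgroup.closure ({a, b} : Set S) :=
  Subgroup.subset_closure (Set.mem_insert_of_mem _ (Set.mem_singleton _))

theorem zz_mem_pair (a b : S) (i j : ℤ) : b ^ i * a ^ j ∈ Subgroup.closure ({a, b} : Set S) :=
  Subgroup.mul_mem _ (Subgroup.zpow_mem _ (mem_pair_right a b) _)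
    (Subgroup.zpow_mem _ (mem_pair_left a b) _)

/-- the abelian case -/
theorem abelian_case [Finite S] (hS : IsPGroup 2 S) (hrank : Cfsg.PRankLE 2 2 S)
    (hab : ∀ x y : S, x * y = y * x)
    (stepA : ∀ z : S, z ≠ 1 → z ^ 2 = 1 → (∀ g : S, Commute z g) →
      ∃ a b : S, (∀ g : S, ∃ i j e : ℤ, g = b ^ i * a ^ j * z ^ e) ∧
        ∀ g : S, ∃ j e : ℤ, g⁻¹ * a * g = a ^ j * z ^ e) :
    Cfsg.IsMetacyclic S := by
  have : Fact (Nat.Prime 2) := ⟨Nat.prime_two⟩
  have hnorm : ∀ H : Subgroup S, H.Normal := fun H => ⟨fun x hx g => by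
    rw [hab g x, mul_inv_cancel_right]; exact hx⟩
  by_cases hexp : ∀ g : S, g ^ 2 = 1
  · have hTc : IsMulCommutative (⊤ : Subgroup S) := ⟨⟨fun x y => Subtype.ext (hab x y)⟩⟩
    have h4 := hrank ⊤ hTc (fun a _ => hexp a)
    rw [Subgroup.card_top] at h4
    by_cases htriv : ∀ g : S, g = 1
    · apply isMetacyclic_of_gen 1 1 (hnorm _)
      intro g
      exact ⟨0, by rw [htriv g]; simp⟩
    · push Not at htriv
      obtain ⟨c, hc⟩ := htriv
      refine ⟨Subgroup.zpowers c, hnorm _, inferInstance, ?_⟩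
      have hN2 : Nat.card (Subgroup.zpowers c) = 2 := by
        rw [Nat.card_zpowers]; exact orderOf_eq_prime (hexp c) hc
      have h1 := Subgroup.card_eq_card_quotient_mul_card_subgroup (Subgroup.zpowers c)
      rw [hN2] at h1
      have hpos : 0 < Nat.card (S ⧸ Subgroup.zpowers c) := Nat.card_pos
      have hle2 : Nat.card (S ⧸ Subgroup.zpowers c) ≤ 2 := by
        norm_num at h4
        omega
      rcases Nat.lt_or_ge (Nat.card (S ⧸ Subgroup.zpowers c)) 2 with h | h
      · have h1' : Nat.card (S ⧸ Subgroup.zpowers c) = 1 := by omega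
        have : Subsingleton (S ⧸ Subgroup.zpowers c) := (Nat.card_eq_one_iff_unique.mp h1').1
        exact isCyclic_of_subsingleton
      · have h2' : Nat.card (S ⧸ Subgroup.zpowers c) = 2 := by omega
        exact isCyclic_of_prime_card (p := 2) h2'
  · push Not at hexp
    obtain ⟨g, hg⟩ := hexp
    obtain ⟨t, ht⟩ := (IsPGroup.iff_orderOf.mp hS) g
    have ht2 : 2 ≤ t := by
      by_contra hlt
      push Not at hlt
      apply hg
      have h1 : orderOf g ∣ 2 := by
        rw [ht]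
        interval_cases t
        · norm_num
        · norm_num
      exact orderOf_dvd_iff_pow_eq_one.mp h1
    obtain ⟨t', rfl⟩ : ∃ t', t = t' + 2 := ⟨t - 2, by omega⟩
    obtain ⟨w, hw⟩ : ∃ w : S, w = g ^ 2 ^ t' := ⟨_, rfl⟩
    obtain ⟨z, hz⟩ : ∃ z : S, z = w ^ 2 := ⟨_, rfl⟩
    have hzpow : z = g ^ 2 ^ (t' + 1) := by rw [hz, hw, ← pow_mul, ← pow_succ]
    have hz1 : z ≠ 1 := by
      rw [hzpow]
      apply pow_ne_one_of_lt_orderOf (by positivity)
      rw [ht]
      exact Nat.pow_lt_pow_right (by norm_num) (by omega)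
    have hz2 : z ^ 2 = 1 := by
      rw [hzpow, ← pow_mul, ← pow_succ, ← ht, pow_orderOf_eq_one]
    obtain ⟨a, b, E1, _⟩ := stepA z hz1 hz2 (fun g => hab z g)
    have hzab : z ∈ Subgroup.closure ({a, b} : Set S) := by
      obtain ⟨i, j, e, hwe⟩ := E1 w
      have hz' : z = (b ^ i * a ^ j) ^ 2 := by
        have hc1 : Commute (b ^ i * a ^ j) (z ^ e) := hab _ _
        have h3 : (z ^ e) ^ 2 = 1 := by
          rw [← zpow_natCast, ← zpow_mul, mul_comm, zpow_mul, zpow_natCast, hz2, one_zpow]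
        rw [hz, hwe, hc1.mul_pow, h3, mul_one]
      rw [hz']
      exact Subgroup.pow_mem _ (zz_mem_pair a b i j) _
    have htop : Subgroup.closure ({a, b} : Set S) = ⊤ := by
      rw [eq_top_iff]
      intro g _
      obtain ⟨i, j, e, rfl⟩ := E1 g
      exact Subgroup.mul_mem _ (zz_mem_pair a b i j) (Subgroup.zpow_mem _ hzab _)
    exact isMetacyclic_of_closure_pair a b htop (hnorm _)

/-- the action data: from `b⁻¹ a b = a^r z`, derive the normality of `⟨c⟩`, `c = a^(r-1) z` -/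
theorem c_normal [Finite S] (a b z : S) (r : ℤ) (htop : Subgroup.closure ({a, b} : Set S) = ⊤)
    (hzc : ∀ g : S, Commute z g) (hba : b⁻¹ * a * b = a ^ r * z) :
    ⁅a⁻¹, b⁻¹⁆ = a ^ (r - 1) * z ∧ (Subgroup.zpowers (a ^ (r - 1) * z)).Normal := by
  obtain ⟨d, hd⟩ : ∃ d : S, d = a ^ (r - 1) := ⟨_, rfl⟩
  have har : a ^ r = a * d := by
    rw [hd, ← zpow_one_add]
    congr 1
    ring
  have hdz : Commute d z := (hzc d).symm
  have had : Commute a d := by rw [hd]; exact (Commute.refl a).zpow_right _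
  obtain ⟨c, hc⟩ : ∃ c : S, c = d * z := ⟨_, rfl⟩
  have hcab : ⁅a⁻¹, b⁻¹⁆ = c := by
    rw [commutatorElement_def, inv_inv, inv_inv, mul_assoc, mul_assoc, ← mul_assoc b⁻¹, hba, har,
      hc]
    group
  have hca : a * c * a⁻¹ = c := by
    have : Commute a c := by rw [hc]; exact had.mul_right (hzc a).symm
    rw [this.eq, mul_inv_cancel_right]
  have hcb : b⁻¹ * c * b = c ^ r := by
    have h1 : b⁻¹ * d * b = (a * d * z) ^ (r - 1) := by
      rw [← har, ← hba, hd]
      have := conj_zpow (a := b⁻¹) (b := a) (i := r - 1)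
      rw [inv_inv] at this
      exact this.symm
    have h2 : b⁻¹ * c * b = (b⁻¹ * d * b) * z := by
      rw [hc]
      have : b * z = z * b := ((hzc b).symm).eq
      calc b⁻¹ * (d * z) * b = b⁻¹ * d * (z * b) := by group
        _ = b⁻¹ * d * (b * z) := by rw [this]
        _ = b⁻¹ * d * b * z := by group
    rw [h2, h1]
    have c1 : Commute (a * d) z := (hzc _).symm
    rw [c1.mul_zpow, ← har, ← zpow_mul, hc, hdz.mul_zpow, hd, ← zpow_mul]
    have e1 : z ^ (r - 1) * z = z ^ r := by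
      rw [← zpow_add_one]; congr 1; ring
    rw [mul_assoc, e1, mul_comm r (r - 1)]
  have hcn : (Subgroup.zpowers c).Normal := by
    apply zpowers_normal_of_pair a b htop c
    · rw [hca]; exact Subgroup.mem_zpowers c
    · rw [hcb]; exact Subgroup.zpow_mem _ (Subgroup.mem_zpowers c) r
  rw [← hd, ← hc]
  exact ⟨hcab, hcn⟩

/-- a central involution inside the commutator subgroup of a nonabelian 2-group -/
theorem exists_central_invol [Finite S] (hS : IsPGroup 2 S) (x₀ y₀ : S)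
    (hxy₀ : ¬ x₀ * y₀ = y₀ * x₀) :
    ∃ z : S, z ≠ 1 ∧ z ^ 2 = 1 ∧ z ∈ commutator S ∧ ∀ g : S, Commute z g := by
  have : Fact (Nat.Prime 2) := ⟨Nat.prime_two⟩
  have hcommC : ∀ x y : S, ⁅x, y⁆ ∈ commutator S := by
    intro x y
    rw [commutator_eq_closure]
    exact Subgroup.subset_closure ⟨x, y, rfl⟩
  have hCne : commutator S ≠ ⊥ := by
    intro h
    have := hcommC x₀ y₀
    rw [h, Subgroup.mem_bot, commutatorElement_eq_one_iff_mul_comm] at this
    exact hxy₀ this
  obtain ⟨c₀, hc₀C, hc₀1, hc₀cen⟩ :=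
    Cfsg.Agent.Helper1.KWCond.normal_inf_center_ne_bot hS (commutator S) hCne
  obtain ⟨t, ht⟩ := (IsPGroup.iff_orderOf.mp hS) c₀
  have ht0 : t ≠ 0 := by
    rintro rfl
    rw [pow_zero, orderOf_eq_one_iff] at ht
    exact hc₀1 ht
  obtain ⟨t', rfl⟩ : ∃ t', t = t' + 1 := ⟨t - 1, by omega⟩
  refine ⟨c₀ ^ 2 ^ t', ?_, ?_, Subgroup.pow_mem _ hc₀C _, ?_⟩
  · apply pow_ne_one_of_lt_orderOf (by positivity)
    rw [ht]
    exact Nat.pow_lt_pow_right (by norm_num) (Nat.lt_succ_self t')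
  · rw [← pow_mul, ← pow_succ, ← ht, pow_orderOf_eq_one]
  · intro g
    have : Commute c₀ g := (hc₀cen g).symm
    exact this.pow_left _

/-- `d = 1` -/
theorem d_eq_one [Finite S] (hS : IsPGroup 2 S) (a z : S) (hz1 : z ≠ 1) (hz2 : z ^ 2 = 1)
    (hzc : ∀ g : S, Commute z g) (hza : z ∉ Subgroup.zpowers a) (k : ℤ)
    (hmem : z ∈ Subgroup.zpowers (a ^ k * z)) : a ^ k = 1 := by
  obtain ⟨d, hd⟩ : ∃ d : S, d = a ^ k := ⟨_, rfl⟩
  rw [← hd] at hmem ⊢
  have hdz : Commute d z := (hzc d).symm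
  obtain ⟨j, hj⟩ := Subgroup.mem_zpowers_iff.mp hmem
  rw [hdz.mul_zpow] at hj
  have hdj : d ^ j = z * (z ^ j)⁻¹ := by
    rw [eq_mul_inv_iff_mul_eq]; exact hj
  have hzz : z * (z ^ j)⁻¹ = z ^ (1 - j) := by
    rw [zpow_sub, zpow_one]
  rw [hzz] at hdj
  have hzj : z ^ (1 - j) = 1 := by
    rcases zpow_of_sq_eq_one hz2 (1 - j) with h | h
    · exact h
    · exfalso
      apply hza
      rw [← h, ← hdj, hd]
      exact Subgroup.zpow_mem _ (Subgroup.zpow_mem _ (Subgroup.mem_zpowers a) _) _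
  rw [hzj] at hdj
  have hjodd : ¬ (2 : ℤ) ∣ j := by
    have h2 : (orderOf z : ℤ) ∣ 1 - j := orderOf_dvd_iff_zpow_eq_one.mpr hzj
    rw [orderOf_eq_prime hz2 hz1] at h2
    intro h3
    have : (2 : ℤ) ∣ 1 := by
      have := dvd_add h2 h3
      simp at this
    omega
  obtain ⟨s, hs⟩ := (IsPGroup.iff_orderOf.mp hS) d
  have h3 : (orderOf d : ℤ) ∣ j := orderOf_dvd_iff_zpow_eq_one.mpr hdj
  rcases Nat.eq_zero_or_pos s with hs0 | hspos
  · rw [hs0, pow_zero, orderOf_eq_one_iff] at hs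
    exact hs
  · exfalso
    apply hjodd
    have : (2 : ℤ) ∣ (orderOf d : ℤ) := by
      rw [hs]
      exact_mod_cast dvd_pow_self 2 hspos.ne'
    exact dvd_trans this h3

/-- the nonabelian case -/
theorem nonabelian_case [Finite S] (hS : IsPGroup 2 S) (hrank : Cfsg.PRankLE 2 2 S)
    (hnm : ¬ Cfsg.IsMetacyclic S) (x₀ y₀ : S) (hxy₀ : ¬ x₀ * y₀ = y₀ * x₀)
    (stepA : ∀ z : S, z ≠ 1 → z ^ 2 = 1 → (∀ g : S, Commute z g) →
      ∃ a b : S, (∀ g : S, ∃ i j e : ℤ, g = b ^ i * a ^ j * z ^ e) ∧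
        ∀ g : S, ∃ j e : ℤ, g⁻¹ * a * g = a ^ j * z ^ e) : False := by
  have : Fact (Nat.Prime 2) := ⟨Nat.prime_two⟩
  have F1 : ∀ x y : S, Subgroup.closure ({x, y} : Set S) = ⊤ → ¬ (Subgroup.zpowers x).Normal :=
    fun x y hxy hn => hnm (isMetacyclic_of_closure_pair x y hxy hn)
  obtain ⟨z, hz1, hz2, hzC, hzc⟩ := exists_central_invol hS x₀ y₀ hxy₀
  obtain ⟨a, b, E1, E2⟩ := stepA z hz1 hz2 hzc
  -- `S = ⟨a, b⟩`
  have hCle : commutator S ≤ Subgroup.closure ({a, b} : Set S) := by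
    rw [commutator_eq_closure, Subgroup.closure_le]
    rintro _ ⟨x, y, rfl⟩
    obtain ⟨i, j, e, rfl⟩ := E1 x
    obtain ⟨i', j', e', rfl⟩ := E1 y
    rw [SetLike.mem_coe, comm_central (fun w => (hzc w).zpow_left e)
      (fun w => (hzc w).zpow_left e')]
    rw [commutatorElement_def]
    exact Subgroup.mul_mem _ (Subgroup.mul_mem _ (Subgroup.mul_mem _ (zz_mem_pair a b _ _)
      (zz_mem_pair a b _ _)) (Subgroup.inv_mem _ (zz_mem_pair a b _ _)))
      (Subgroup.inv_mem _ (zz_mem_pair a b _ _))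
  have htop : Subgroup.closure ({a, b} : Set S) = ⊤ := by
    rw [eq_top_iff]
    intro g _
    obtain ⟨i, j, e, rfl⟩ := E1 g
    exact Subgroup.mul_mem _ (zz_mem_pair a b i j) (Subgroup.zpow_mem _ (hCle hzC) _)
  -- the action of `b` on `a`
  obtain ⟨r, ε, hba⟩ := E2 b
  have hnotmem : ∀ x : S, x ∈ Subgroup.zpowers a → b⁻¹ * a * b ≠ x := by
    intro x hx hbx
    apply F1 a b htop
    apply zpowers_normal_of_pair a b htop a
    · rw [mul_inv_cancel_right]; exact Subgroup.mem_zpowers a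
    · rw [hbx]; exact hx
  have hε : z ^ ε = z := by
    rcases zpow_of_sq_eq_one hz2 ε with h | h
    · exfalso
      rw [h, mul_one] at hba
      exact hnotmem _ (Subgroup.zpow_mem _ (Subgroup.mem_zpowers a) r) hba
    · exact h
  rw [hε] at hba
  have hza : z ∉ Subgroup.zpowers a := by
    intro h
    exact hnotmem _ (Subgroup.mul_mem _ (Subgroup.zpow_mem _ (Subgroup.mem_zpowers a) r) h) hba
  obtain ⟨hcab, hcn⟩ := c_normal a b z r htop hzc hba
  have hcmem : ⁅a, b⁆ ∈ Subgroup.zpowers (a ^ (r - 1) * z) := by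
    -- `⁅a, b⁆` is a conjugate of `⁅a⁻¹, b⁻¹⁆`
    have : ⁅a, b⁆ = (a * b) * ⁅a⁻¹, b⁻¹⁆ * (a * b)⁻¹ := by
      rw [commutatorElement_def, commutatorElement_def]; group
    rw [this, hcab]
    exact hcn.conj_mem _ (Subgroup.mem_zpowers _) _
  have hall : ∀ x y : S, ⁅x, y⁆ ∈ Subgroup.zpowers (a ^ (r - 1) * z) :=
    commutator_mem_zpowers a b htop _ hcn hcmem
  -- `z ∈ ⟨c⟩`, hence `d = 1`
  have hzc' : z ∈ Subgroup.zpowers (a ^ (r - 1) * z) := by
    have hle : commutator S ≤ Subgroup.zpowers (a ^ (r - 1) * z) := by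
      rw [commutator_eq_closure, Subgroup.closure_le]
      rintro _ ⟨x, y, rfl⟩
      exact hall x y
    exact hle hzC
  have hd1 : a ^ (r - 1) = 1 := d_eq_one hS a z hz1 hz2 hzc hza (r - 1) hzc'
  rw [hd1, one_mul] at hall
  -- the configuration
  have hcomm : ∀ x y : S, ⁅x, y⁆ = 1 ∨ ⁅x, y⁆ = z := by
    intro x y
    obtain ⟨m, hm⟩ := Subgroup.mem_zpowers_iff.mp (hall x y)
    rw [← hm]
    exact zpow_of_sq_eq_one hz2 m
  have hcfg : Cfg z := by
    refine ⟨hz1, hz2, hzc, hcomm, ?_, ?_⟩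
    · intro x y hxy
      rcases hcomm x y with h | h
      · exfalso
        have hxyc : x * y = y * x := commutatorElement_eq_one_iff_mul_comm.mp h
        have hcl : ∀ u ∈ ({x, y} : Set S), ∀ v ∈ ({x, y} : Set S), u * v = v * u := by
          intro u hu v hv
          rcases hu with rfl | rfl <;> rcases hv with rfl | rfl
          · rfl
          · exact hxyc
          · exact hxyc.symm
          · rfl
        have hC := Subgroup.isMulCommutative_closure hcl
        have hx₀ : x₀ ∈ Subgroup.closure ({x, y} : Set S) := by rw [hxy]; exact Subgroup.mem_top _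
        have hy₀ : y₀ ∈ Subgroup.closure ({x, y} : Set S) := by rw [hxy]; exact Subgroup.mem_top _
        have := hC.is_comm.comm ⟨x₀, hx₀⟩ ⟨y₀, hy₀⟩
        exact hxy₀ (congrArg Subtype.val this)
      · exact h
    · intro x y hxy hzx
      apply F1 x y hxy
      apply normal_of_commutator_mem
      intro u v
      rcases hcomm u v with h | h
      · rw [h]; exact Subgroup.one_mem _
      · rw [h]; exact hzx
  obtain ⟨E, hEc, hEexp, hE4⟩ := exists_E8 hS hcfg ⟨a, b, htop⟩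
  have := hrank E hEc hEexp
  norm_num at this
  omega

theorem blackburn_aux : ∀ (n : ℕ) (S : Type u) [Group S] [Finite S], Nat.card S = n →
    IsPGroup 2 S → Cfsg.SectionalPRankLE 2 2 S → Cfsg.IsMetacyclic S := by
  intro n
  induction n using Nat.strong_induction_on with
  | _ n ih =>
  intro S _ _ hcard hS hr
  have : Fact (Nat.Prime 2) := ⟨Nat.prime_two⟩
  have hrank : Cfsg.PRankLE 2 2 S := pRankLE_of_sectional hr
  -- the quotient by a central involution
  have stepA : ∀ z : S, z ≠ 1 → z ^ 2 = 1 → (∀ g : S, Commute z g) →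
      ∃ a b : S, (∀ g : S, ∃ i j e : ℤ, g = b ^ i * a ^ j * z ^ e) ∧
        ∀ g : S, ∃ j e : ℤ, g⁻¹ * a * g = a ^ j * z ^ e := by
    intro z hz1 hz2 hzc
    have hn : (Subgroup.zpowers z).Normal := ⟨fun x hx g => by
      obtain ⟨m, rfl⟩ := Subgroup.mem_zpowers_iff.mp hx
      have : g * z ^ m * g⁻¹ = z ^ m := by
        rw [← ((hzc g).zpow_left m).eq, mul_inv_cancel_right]
      rw [this]; exact Subgroup.zpow_mem _ (Subgroup.mem_zpowers z) m⟩
    have hN2 : Nat.card (Subgroup.zpowers z) = 2 := by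
      rw [Nat.card_zpowers]; exact orderOf_eq_prime hz2 hz1
    have hlt : Nat.card (S ⧸ Subgroup.zpowers z) < n := by
      have h1 := Subgroup.card_eq_card_quotient_mul_card_subgroup (Subgroup.zpowers z)
      rw [hN2, hcard] at h1
      have : 0 < Nat.card (S ⧸ Subgroup.zpowers z) := Nat.card_pos
      omega
    have hQm := ih _ hlt (S ⧸ Subgroup.zpowers z) rfl (hS.to_quotient _)
      (sectional_quotient hr _)
    exact extract z hn hQm
  by_cases hab : ∀ x y : S, x * y = y * x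
  · exact abelian_case hS hrank hab stepA
  · push Not at hab
    obtain ⟨x₀, y₀, hxy₀⟩ := hab
    by_contra hnm
    exact nonabelian_case hS hrank hnm x₀ y₀ hxy₀ stepA

/-- Blackburn: a finite 2-group of sectional rank at most two is metacyclic. -/
theorem blackburn {S : Type u} [Group S] [Finite S] (h2 : IsPGroup 2 S)
    (hr : Cfsg.SectionalPRankLE 2 2 S) : Cfsg.IsMetacyclic S :=
  blackburn_aux _ S rfl h2 hr

end Cfsg.Agent.Helper3.Black
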