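import Mathlib
import Cfsg.Prelude.Def_Characters
import Cfsg.Prelude.Def_Blocks
import Cfsg.Agent.Helper6.CentralChar
import Cfsg.Agent.Helper6.BlockBasic
import Cfsg.Agent.Helper6.BlockBasic2
import Cfsg.Agent.Helper6.StructConst

set_option autoImplicit false
set_option linter.style.haveILetI false

/-!
A criterion for a finite group to have a single 2-block.  The elements are sorted into types, each
type being a conjugacy class together with the class of the inverses; for a type `i` and an element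
`g`, let `n i g` be the number of the pairs of elements of type `i` with product `g`.  If the types
are ranked so that `n i (t k)` is even unless the type `k` of the representative `t k` has a rank
below the rank of `i` (or `k` is the type of the identity), then for every irreducible character the
central character minus the size of the class takes its values in every maximal ideal of the
algebraic integers that contains 2, and hence all irreducible characters are in one 2-block.
-/

namespace Cfsg.Agent.Helper3.BlkParity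

open Cfsg.Agent.Helper6

universe u

variable {G : Type u} [Group G]

/-- membership of a complex number in an ideal of the algebraic integers. -/
def InM (M : Ideal Cfsg.AlgInt) (z : ℂ) : Prop := ∃ a : Cfsg.AlgInt, a ∈ M ∧ (a : ℂ) = z

section InM

variable {M : Ideal Cfsg.AlgInt}

theorem InM.zero : InM M 0 := ⟨0, M.zero_mem, rfl⟩

theorem InM.add {x y : ℂ} (hx : InM M x) (hy : InM M y) : InM M (x + y) := by
  obtain ⟨a, ha, rfl⟩ := hx
  obtain ⟨b, hb, rfl⟩ := hy
  exact ⟨a + b, M.add_mem ha hb, rfl⟩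

theorem InM.neg {x : ℂ} (hx : InM M x) : InM M (-x) := by
  obtain ⟨a, ha, rfl⟩ := hx
  exact ⟨-a, M.neg_mem ha, rfl⟩

theorem InM.sub {x y : ℂ} (hx : InM M x) (hy : InM M y) : InM M (x - y) := by
  rw [sub_eq_add_neg]
  exact hx.add hy.neg

theorem InM.sum {ι : Type*} (s : Finset ι) (f : ι → ℂ) (h : ∀ i ∈ s, InM M (f i)) :
    InM M (∑ i ∈ s, f i) := by
  classical
  induction s using Finset.induction_on with
  | empty => rw [Finset.sum_empty]; exact InM.zero
  | insert a s ha ih =>
    rw [Finset.sum_insert ha]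
    exact (h a (Finset.mem_insert_self a s)).add
      (ih fun i hi => h i (Finset.mem_insert_of_mem hi))

theorem InM.mul_left {x y : ℂ} (hy : IsIntegral ℤ y) (hx : InM M x) : InM M (y * x) := by
  obtain ⟨a, ha, rfl⟩ := hx
  exact ⟨⟨y, hy⟩ * a, M.mul_mem_left _ ha, rfl⟩

theorem InM.two_mul (h2 : (2 : Cfsg.AlgInt) ∈ M) {y : ℂ} (hy : IsIntegral ℤ y) :
    InM M (2 * y) :=
  ⟨2 * ⟨y, hy⟩, M.mul_mem_right _ h2, rfl⟩

theorem InM.of_mul_self (hM : M.IsMaximal) {y : ℂ} (hy : IsIntegral ℤ y) (h : InM M (y * y)) :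
    InM M y := by
  obtain ⟨a, ha, hay⟩ := h
  have e : a = (⟨y, hy⟩ : Cfsg.AlgInt) * ⟨y, hy⟩ := Subtype.ext hay
  rw [e] at ha
  rcases hM.isPrime.mem_or_mem ha with h1 | h1 <;> exact ⟨⟨y, hy⟩, h1, rfl⟩

theorem InM.memLocalIdeal (hM : M.IsMaximal) {x : ℂ} (hx : InM M x) : Cfsg.MemLocalIdeal M x := by
  obtain ⟨a, ha, rfl⟩ := hx
  exact memLocalIdeal_of_mem hM ha

end InM

theorem intNat (n : ℕ) : IsIntegral ℤ (n : ℂ) := by
  have := isIntegral_algebraMap (R := ℤ) (A := ℂ) (x := (n : ℤ))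
  simpa using this

variable [Fintype G] [DecidableEq G]

/-- the scalar of the sum of a set of elements closed under conjugation. -/
noncomputable def W (χ : G → ℂ) (A : Finset G) : ℂ := ∑ x ∈ A, χ x / χ 1

/-- the scalar of the sum minus the number of the elements. -/
noncomputable def dd (χ : G → ℂ) (A : Finset G) : ℂ := ∑ x ∈ A, (χ x / χ 1 - 1)

theorem dd_eq (χ : G → ℂ) (A : Finset G) : dd χ A = W χ A - A.card := by
  unfold dd W
  rw [Finset.sum_sub_distrib, Finset.sum_const, nsmul_eq_mul, mul_one]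

/-- the scalars and the product formula. -/
theorem W_spec (χ : Cfsg.IrrCharacter G) (A B : Finset G)
    (hA : ∀ g x : G, x ∈ A → g * x * g⁻¹ ∈ A) (hB : ∀ g x : G, x ∈ B → g * x * g⁻¹ ∈ B) :
    IsIntegral ℤ (W (χ : G → ℂ) A) ∧
      W (χ : G → ℂ) A * W (χ : G → ℂ) B =
        ∑ q ∈ A ×ˢ B, (χ : G → ℂ) (q.1 * q.2) / (χ : G → ℂ) 1 := by
  have hχ1 : (χ : G → ℂ) 1 ≠ 0 := IsIrrCharacter.apply_one_ne_zero χ.2
  obtain ⟨n, ρ, hirr, hρ⟩ := χ.2
  haveI := hirr
  obtain ⟨cA, hcA, hA1, hA2⟩ := exists_central_value ρ A hA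
  obtain ⟨cB, hcB, hB1, hB2⟩ := exists_central_value ρ B hB
  have h1 : (χ : G → ℂ) 1 = (Module.finrank ℂ (Fin n → ℂ) : ℂ) := by
    rw [← hρ, Representation.char_one]
  have hWA : W (χ : G → ℂ) A = cA := by
    unfold W
    rw [← Finset.sum_div, ← hρ, ← hA2, hρ, h1, mul_div_assoc, div_self (by rw [← h1]; exact hχ1),
      mul_one]
  have hWB : W (χ : G → ℂ) B = cB := by
    unfold W
    rw [← Finset.sum_div, ← hρ, ← hB2, hρ, h1, mul_div_assoc, div_self (by rw [← h1]; exact hχ1),
      mul_one]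
  refine ⟨by rw [hWA]; exact hcA, ?_⟩
  have h2 : (∑ x ∈ A, ρ x) * (∑ y ∈ B, ρ y) = ∑ q ∈ A ×ˢ B, ρ (q.1 * q.2) := by
    rw [Finset.sum_mul_sum, Finset.sum_product]
    apply Finset.sum_congr rfl
    intro x _
    apply Finset.sum_congr rfl
    intro y _
    rw [map_mul]
  have h3 : (∑ x ∈ A, ρ x) * (∑ y ∈ B, ρ y) =
      (cA * cB) • (LinearMap.id : (Fin n → ℂ) →ₗ[ℂ] (Fin n → ℂ)) := by
    rw [hA1, hB1]
    ext v
    simp [mul_smul]
    ring
  have h4 := congrArg (LinearMap.trace ℂ (Fin n → ℂ)) (h2.symm.trans h3)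
  rw [map_sum, map_smul, LinearMap.trace_id, smul_eq_mul] at h4
  rw [hWA, hWB, ← Finset.sum_div, ← hρ]
  have h5 : ∑ q ∈ A ×ˢ B, ρ.character (q.1 * q.2) =
      ∑ q ∈ A ×ˢ B, (LinearMap.trace ℂ (Fin n → ℂ)) (ρ (q.1 * q.2)) := rfl
  rw [h5, h4, hρ, h1, mul_div_assoc, div_self (by rw [← h1]; exact hχ1), mul_one]

theorem dd_integral (χ : Cfsg.IrrCharacter G) (A : Finset G)
    (hA : ∀ g x : G, x ∈ A → g * x * g⁻¹ ∈ A) : IsIntegral ℤ (dd (χ : G → ℂ) A) := by
  rw [dd_eq]
  exact (W_spec χ A A hA hA).1.sub (intNat _)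

/-- the product formula for the scalars minus the numbers of the elements. -/
theorem dd_mul (χ : Cfsg.IrrCharacter G) (A B : Finset G)
    (hA : ∀ g x : G, x ∈ A → g * x * g⁻¹ ∈ A) (hB : ∀ g x : G, x ∈ B → g * x * g⁻¹ ∈ B) :
    dd (χ : G → ℂ) A * dd (χ : G → ℂ) B =
      ∑ q ∈ A ×ˢ B, ((χ : G → ℂ) (q.1 * q.2) / (χ : G → ℂ) 1 - 1)
        - A.card * dd (χ : G → ℂ) B - B.card * dd (χ : G → ℂ) A := by
  have h := (W_spec χ A B hA hB).2
  rw [Finset.sum_sub_distrib, ← h, Finset.sum_const, Finset.card_product, nsmul_eq_mul, mul_one,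
    dd_eq, dd_eq, Nat.cast_mul]
  ring

/-- the number of the pairs in `A ×ˢ B` with a given product. -/
def cnt (A B : Finset G) (g : G) : ℕ := ((A ×ˢ B).filter (fun q : G × G => q.1 * q.2 = g)).card

theorem cnt_conj (A B : Finset G)
    (hA : ∀ g x : G, x ∈ A → g * x * g⁻¹ ∈ A) (hB : ∀ g x : G, x ∈ B → g * x * g⁻¹ ∈ B)
    (c g : G) : cnt A B (c * g * c⁻¹) = cnt A B g := by
  unfold cnt
  symm
  apply Finset.card_bij (fun q _ => (c * q.1 * c⁻¹, c * q.2 * c⁻¹))
  · intro q hq
    rw [Finset.mem_filter, Finset.mem_product] at hq ⊢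
    refine ⟨⟨hA c _ hq.1.1, hB c _ hq.1.2⟩, ?_⟩
    show c * q.1 * c⁻¹ * (c * q.2 * c⁻¹) = c * g * c⁻¹
    rw [← hq.2]; group
  · intro q _ q' _ hqq
    have h1 := congrArg Prod.fst hqq
    have h2 := congrArg Prod.snd hqq
    simp only [mul_left_inj, mul_right_inj] at h1 h2
    exact Prod.ext h1 h2
  · intro q hq
    rw [Finset.mem_filter, Finset.mem_product] at hq
    refine ⟨(c⁻¹ * q.1 * c, c⁻¹ * q.2 * c), ?_, ?_⟩
    · rw [Finset.mem_filter, Finset.mem_product]
      have e1 := hA c⁻¹ _ hq.1.1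
      have e2 := hB c⁻¹ _ hq.1.2
      rw [inv_inv] at e1 e2
      refine ⟨⟨e1, e2⟩, ?_⟩
      show c⁻¹ * q.1 * c * (c⁻¹ * q.2 * c) = g
      have : c⁻¹ * q.1 * c * (c⁻¹ * q.2 * c) = c⁻¹ * (q.1 * q.2) * c := by group
      rw [this, hq.2]; group
    · apply Prod.ext
      · show c * (c⁻¹ * q.1 * c) * c⁻¹ = q.1
        group
      · show c * (c⁻¹ * q.2 * c) * c⁻¹ = q.2
        group

theorem cnt_inv (A B : Finset G) (hAB : ∀ x : G, x ∈ A → x⁻¹ ∈ B) (hBA : ∀ x : G, x ∈ B → x⁻¹ ∈ A)
    (g : G) : cnt A B g⁻¹ = cnt A B g := by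
  unfold cnt
  symm
  apply Finset.card_bij (fun q _ => (q.2⁻¹, q.1⁻¹))
  · intro q hq
    rw [Finset.mem_filter, Finset.mem_product] at hq ⊢
    refine ⟨⟨hBA _ hq.1.2, hAB _ hq.1.1⟩, ?_⟩
    show q.2⁻¹ * q.1⁻¹ = g⁻¹
    rw [← hq.2, mul_inv_rev]
  · intro q _ q' _ hqq
    have h1 := congrArg Prod.fst hqq
    have h2 := congrArg Prod.snd hqq
    simp only [inv_inj] at h1 h2
    exact Prod.ext h2 h1
  · intro q hq
    rw [Finset.mem_filter, Finset.mem_product] at hq
    refine ⟨(q.2⁻¹, q.1⁻¹), ?_, ?_⟩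
    · rw [Finset.mem_filter, Finset.mem_product]
      refine ⟨⟨hBA _ hq.1.2, hAB _ hq.1.1⟩, ?_⟩
      show q.2⁻¹ * q.1⁻¹ = g
      rw [← mul_inv_rev, hq.2, inv_inv]
    · apply Prod.ext
      · show (q.1⁻¹)⁻¹ = q.1
        rw [inv_inv]
      · show (q.2⁻¹)⁻¹ = q.2
        rw [inv_inv]

theorem sum_pairs_eq (f : G → ℂ) (A B : Finset G) :
    ∑ q ∈ A ×ˢ B, f (q.1 * q.2) = ∑ g : G, (cnt A B g : ℂ) * f g := by
  rw [← Finset.sum_fiberwise (A ×ˢ B) (fun q : G × G => q.1 * q.2) (fun q => f (q.1 * q.2))]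
  apply Finset.sum_congr rfl
  intro g _
  have : ∀ q ∈ (A ×ˢ B).filter (fun q : G × G => q.1 * q.2 = g), f (q.1 * q.2) = f g := by
    intro q hq
    rw [(Finset.mem_filter.mp hq).2]
  rw [Finset.sum_congr rfl this, Finset.sum_const, nsmul_eq_mul]
  rfl

/-! ### the types -/

section types

variable {ι : Type} [Fintype ι] [DecidableEq ι] (ty : G → ι) (t : ι → G)

/-- the elements of a type. -/
def cls (i : ι) : Finset G := Finset.univ.filter (fun x => ty x = i)

theorem mem_cls (i : ι) (x : G) : x ∈ cls ty i ↔ ty x = i := by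
  unfold cls
  simp

variable (hconj : ∀ g x : G, ty (g * x * g⁻¹) = ty x) (hinv : ∀ x : G, ty x⁻¹ = ty x)
  (hcover : ∀ x : G, IsConj (t (ty x)) x ∨ IsConj (t (ty x))⁻¹ x)

include hconj in
theorem cls_conj (i : ι) (g x : G) (hx : x ∈ cls ty i) : g * x * g⁻¹ ∈ cls ty i := by
  rw [mem_cls] at hx ⊢
  rw [hconj, hx]

include hinv in
theorem cls_inv (i : ι) (x : G) (hx : x ∈ cls ty i) : x⁻¹ ∈ cls ty i := by
  rw [mem_cls] at hx ⊢
  rw [hinv, hx]

include hcover in
/-- a function that is invariant under conjugation and inversion is determined by its values at the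
representatives. -/
theorem eq_rep (f : G → ℕ) (hf1 : ∀ c g : G, f (c * g * c⁻¹) = f g) (hf2 : ∀ g : G, f g⁻¹ = f g)
    (x : G) : f x = f (t (ty x)) := by
  rcases hcover x with h | h
  · obtain ⟨c, hc⟩ := isConj_iff.mp h
    have e := hf1 c (t (ty x))
    rw [hc] at e
    exact e
  · obtain ⟨c, hc⟩ := isConj_iff.mp h
    have e := hf1 c (t (ty x))⁻¹
    rw [hc, hf2] at e
    exact e

include hcover in
theorem sum_types (χ : G → ℂ) (f : G → ℕ) (hf1 : ∀ c g : G, f (c * g * c⁻¹) = f g)
    (hf2 : ∀ g : G, f g⁻¹ = f g) :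
    ∑ g : G, (f g : ℂ) * (χ g / χ 1 - 1) = ∑ k : ι, (f (t k) : ℂ) * dd χ (cls ty k) := by
  rw [← Finset.sum_fiberwise Finset.univ ty]
  apply Finset.sum_congr rfl
  intro k _
  unfold dd
  rw [Finset.mul_sum]
  apply Finset.sum_congr rfl
  intro x hx
  have hx' : ty x = k := (Finset.mem_filter.mp hx).2
  rw [eq_rep ty t hcover f hf1 hf2 x, hx']

variable {M : Ideal Cfsg.AlgInt} (hM : Cfsg.IsPModular 2 M) (i0 : ι) (h0 : ∀ x : G, ty x = i0 → x = 1)
  (ρ : ι → ℕ)
  (hpar : ∀ i k : ι, ρ k < ρ i ∨ k = i0 ∨ Even (cnt (cls ty i) (cls ty i) (t k)))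

include h0 in
theorem dd_cls_zero (χ : Cfsg.IrrCharacter G) : dd (χ : G → ℂ) (cls ty i0) = 0 := by
  have hχ1 : (χ : G → ℂ) 1 ≠ 0 := IsIrrCharacter.apply_one_ne_zero χ.2
  unfold dd
  apply Finset.sum_eq_zero
  intro x hx
  rw [mem_cls] at hx
  rw [h0 x hx, div_self hχ1, sub_self]

include hconj hinv hcover hM h0 hpar in
/-- the sums over the types are in the ideal. -/
theorem dd_cls_mem (χ : Cfsg.IrrCharacter G) (i : ι) : InM M (dd (χ : G → ℂ) (cls ty i)) := by
  have h2M : (2 : Cfsg.AlgInt) ∈ M := by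
    have := hM.2.2
    simpa using this
  induction' hn : ρ i using Nat.strong_induction_on with n ih generalizing i
  have hA := cls_conj ty hconj i
  have hI := cls_inv ty hinv i
  have hint := dd_integral χ (cls ty i) hA
  apply InM.of_mul_self hM.2.1 hint
  rw [dd_mul χ _ _ hA hA, sum_pairs_eq (fun g => (χ : G → ℂ) g / (χ : G → ℂ) 1 - 1),
    sum_types ty t hcover (χ : G → ℂ) (cnt (cls ty i) (cls ty i)) (cnt_conj _ _ hA hA)
      (cnt_inv _ _ hI hI)]
  have e : ∀ z : ℂ, z - ((cls ty i).card : ℂ) * dd (χ : G → ℂ) (cls ty i) -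
      ((cls ty i).card : ℂ) * dd (χ : G → ℂ) (cls ty i) =
      z - 2 * (((cls ty i).card : ℂ) * dd (χ : G → ℂ) (cls ty i)) := fun z => by ring
  rw [e]
  apply InM.sub
  · apply InM.sum
    intro k _
    rcases hpar i k with h | h | h
    · exact InM.mul_left (intNat _) (ih (ρ k) (by rw [← hn]; exact h) k rfl)
    · rw [h, dd_cls_zero ty i0 h0 χ, mul_zero]
      exact InM.zero
    · obtain ⟨m, hm⟩ := h
      rw [hm, Nat.cast_add, ← two_mul, mul_assoc]
      exact InM.two_mul h2M
        ((intNat _).mul (dd_integral χ _ (cls_conj ty hconj k)))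
  · exact InM.two_mul h2M ((intNat _).mul hint)

omit [DecidableEq G] in
theorem classFinset_conj (x : G) (g y : G) (hy : y ∈ classFinset x) :
    g * y * g⁻¹ ∈ classFinset x := by
  rw [mem_classFinset] at hy ⊢
  exact hy.trans (isConj_iff.mpr ⟨g, rfl⟩)

omit [DecidableEq G] in
theorem classFinset_inv (x y : G) (hy : y ∈ classFinset x) : y⁻¹ ∈ classFinset x⁻¹ := by
  rw [mem_classFinset] at hy ⊢
  obtain ⟨c, hc⟩ := isConj_iff.mp hy
  apply isConj_iff.mpr
  refine ⟨c, ?_⟩
  rw [← hc]
  group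

omit [DecidableEq G] in
theorem classFinset_inv' (x y : G) (hy : y ∈ classFinset x⁻¹) : y⁻¹ ∈ classFinset x := by
  have := classFinset_inv x⁻¹ y hy
  rwa [inv_inv] at this

omit [DecidableEq G] in
theorem card_classFinset_inv (x : G) : (classFinset x⁻¹).card = (classFinset x).card := by
  symm
  apply Finset.card_bij (fun y _ => y⁻¹)
  · intro y hy
    exact classFinset_inv x y hy
  · intro y _ y' _ h
    exact inv_injective h
  · intro y hy
    exact ⟨y⁻¹, classFinset_inv' x y hy, inv_inv y⟩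

include hconj hinv hcover hM h0 hpar in
/-- the central character minus the size of the class is in the ideal. -/
theorem dd_class_mem (χ : Cfsg.IrrCharacter G) (x : G) :
    InM M (dd (χ : G → ℂ) (classFinset x)) := by
  have h2M : (2 : Cfsg.AlgInt) ∈ M := by
    have := hM.2.2
    simpa using this
  have hK := classFinset_conj x
  have hK' := classFinset_conj x⁻¹
  have hint := dd_integral χ _ hK
  have hint' := dd_integral χ _ hK'
  have hall := dd_cls_mem ty t hconj hinv hcover hM i0 h0 ρ hpar χ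
  -- the sum of the two
  have hsum : InM M (dd (χ : G → ℂ) (classFinset x) + dd (χ : G → ℂ) (classFinset x⁻¹)) := by
    by_cases hr : IsConj x x⁻¹
    · have e : classFinset x⁻¹ = classFinset x := by
        ext y
        rw [mem_classFinset, mem_classFinset]
        exact ⟨fun h => hr.trans h, fun h => hr.symm.trans h⟩
      rw [e, ← two_mul]
      exact InM.two_mul h2M hint
    · have hdis : Disjoint (classFinset x) (classFinset x⁻¹) := by
        rw [Finset.disjoint_left]
        intro y hy hy'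
        rw [mem_classFinset] at hy hy'
        exact hr (hy.trans hy'.symm)
      have hun : classFinset x ∪ classFinset x⁻¹ = cls ty (ty x) := by
        ext y
        rw [Finset.mem_union, mem_classFinset, mem_classFinset, mem_cls]
        constructor
        · rintro (h | h)
          · obtain ⟨c, hc⟩ := isConj_iff.mp h
            rw [← hc, hconj]
          · obtain ⟨c, hc⟩ := isConj_iff.mp h
            rw [← hc, hconj, hinv]
        · intro hy
          have hcy := hcover y
          rw [hy] at hcy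
          have hinvc : ∀ a b : G, IsConj a b → IsConj a⁻¹ b⁻¹ := by
            intro a b hab
            obtain ⟨c, hc⟩ := isConj_iff.mp hab
            apply isConj_iff.mpr
            refine ⟨c, ?_⟩
            rw [← hc]
            group
          rcases hcover x with hx | hx <;> rcases hcy with hy | hy
          · exact Or.inl (hx.symm.trans hy)
          · right
            have := hinvc _ _ hx
            exact this.symm.trans hy
          · right
            have := hinvc _ _ hx
            rw [inv_inv] at this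
            exact this.symm.trans hy
          · exact Or.inl (hx.symm.trans hy)
      have : dd (χ : G → ℂ) (classFinset x) + dd (χ : G → ℂ) (classFinset x⁻¹) =
          dd (χ : G → ℂ) (cls ty (ty x)) := by
        unfold dd
        rw [← hun, Finset.sum_union hdis]
      rw [this]
      exact hall _
  -- the product
  have hprod : InM M (dd (χ : G → ℂ) (classFinset x) * dd (χ : G → ℂ) (classFinset x⁻¹)) := by
    rw [dd_mul χ _ _ hK hK', sum_pairs_eq (fun g => (χ : G → ℂ) g / (χ : G → ℂ) 1 - 1),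
      sum_types ty t hcover (χ : G → ℂ) (cnt (classFinset x) (classFinset x⁻¹))
        (cnt_conj _ _ hK hK') (cnt_inv _ _ (classFinset_inv x) (classFinset_inv' x)),
      card_classFinset_inv]
    have e : ∀ z : ℂ, z - ((classFinset x).card : ℂ) * dd (χ : G → ℂ) (classFinset x⁻¹) -
        ((classFinset x).card : ℂ) * dd (χ : G → ℂ) (classFinset x) =
        z - ((classFinset x).card : ℂ) * (dd (χ : G → ℂ) (classFinset x) +
          dd (χ : G → ℂ) (classFinset x⁻¹)) := fun z => by ring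
    rw [e]
    apply InM.sub
    · apply InM.sum
      intro k _
      exact InM.mul_left (intNat _) (hall k)
    · exact InM.mul_left (intNat _) hsum
  apply InM.of_mul_self hM.2.1 hint
  have e : dd (χ : G → ℂ) (classFinset x) * dd (χ : G → ℂ) (classFinset x) =
      dd (χ : G → ℂ) (classFinset x) * (dd (χ : G → ℂ) (classFinset x) +
        dd (χ : G → ℂ) (classFinset x⁻¹)) -
      dd (χ : G → ℂ) (classFinset x) * dd (χ : G → ℂ) (classFinset x⁻¹) := by ring
  rw [e]
  exact (InM.mul_left hint hsum).sub hprod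

omit [DecidableEq G] in
theorem dd_classFinset (χ : Cfsg.IrrCharacter G) (x : G) :
    dd (χ : G → ℂ) (classFinset x) =
      Cfsg.centralChar (χ : G → ℂ) x - ((Subgroup.centralizer ({x} : Set G)).index : ℂ) := by
  unfold dd
  rw [Finset.sum_sub_distrib, ← Finset.sum_div, sum_classFinset_char, Finset.sum_const,
    card_classFinset, nsmul_eq_mul, mul_one]
  rfl

include hconj hinv hcover hM h0 hpar in
/-- **the criterion**: all irreducible characters are in one 2-block. -/
theorem sameBlock_of_parity (χ ψ : Cfsg.IrrCharacter G) :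
    Cfsg.SameBlock M (χ : G → ℂ) (ψ : G → ℂ) := by
  intro g
  have h1 := dd_class_mem ty t hconj hinv hcover hM i0 h0 ρ hpar χ g
  have h2 := dd_class_mem ty t hconj hinv hcover hM i0 h0 ρ hpar ψ g
  rw [dd_classFinset] at h1 h2
  have h3 := (h1.sub h2).memLocalIdeal hM.2.1
  have e : Cfsg.centralChar (χ : G → ℂ) g - ((Subgroup.centralizer ({g} : Set G)).index : ℂ) -
      (Cfsg.centralChar (ψ : G → ℂ) g - ((Subgroup.centralizer ({g} : Set G)).index : ℂ)) =
      Cfsg.centralChar (χ : G → ℂ) g - Cfsg.centralChar (ψ : G → ℂ) g := by ring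
  rw [e] at h3
  exact h3

end types

end Cfsg.Agent.Helper3.BlkParity
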