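import Mathlib

set_option autoImplicit false

/-!
The parity of the number of ways to write an element `t` of a finite group as a product of two
elements of a set `A` closed under conjugation: if `t ^ (2 ^ a * (2 * e + 1)) = 1`, it is the parity of
the number of `u` with `u * u = t ^ (2 * e + 1)` and `u * (t ^ e)⁻¹ ∈ A`.  (With `s = t ^ e`, the map
`x ↦ s t x⁻¹ s⁻¹` permutes the first components `x` of the pairs, its square is the conjugation by
`t ^ (2 * e + 1)`, and its fixed points are the elements `u s⁻¹`.)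
-/

namespace Cfsg.Agent.Helper3.PairParity

variable {G : Type*} [Group G]

section
variable (A : G → Prop) (t : G)

/-- the first components of the pairs of elements of `A` with product `t`. -/
def Firsts : Type _ := {x : G // A x ∧ A (x⁻¹ * t)}

/-- the square roots. -/
def Roots (e : ℕ) : Type _ := {u : G // u * u = t ^ (2 * e + 1) ∧ A (u * (t ^ e)⁻¹)}

variable {A t}
variable (hconj : ∀ g x : G, A x → A (g * x * g⁻¹)) (e : ℕ)

include hconj in
theorem tau_mem (x : Firsts A t) :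
    A (t ^ e * t * x.1⁻¹ * (t ^ e)⁻¹) ∧ A ((t ^ e * t * x.1⁻¹ * (t ^ e)⁻¹)⁻¹ * t) := by
  obtain ⟨x, hx, hy⟩ := x
  constructor
  · have h := hconj (t ^ e * x) _ hy
    have e1 : t ^ e * x * (x⁻¹ * t) * (t ^ e * x)⁻¹ = t ^ e * t * x⁻¹ * (t ^ e)⁻¹ := by group
    rw [e1] at h
    exact h
  · have h := hconj (t ^ e) _ hx
    have e1 : (t ^ e * t * x⁻¹ * (t ^ e)⁻¹)⁻¹ * t = t ^ e * x * (t ^ e)⁻¹ := by group
    rw [e1]
    exact h

/-- the map on the first components. -/
def tau : Function.End (Firsts A t) :=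
  fun x => ⟨t ^ e * t * x.1⁻¹ * (t ^ e)⁻¹, tau_mem hconj e x⟩

theorem tau_sq_pow (n : ℕ) (x : Firsts A t) :
    (((tau hconj e) ^ 2) ^ n : Function.End (Firsts A t)) x =
      ⟨(t ^ (2 * e + 1)) ^ n * x.1 * ((t ^ (2 * e + 1)) ^ n)⁻¹, by
        obtain ⟨x, hx, hy⟩ := x
        refine ⟨hconj _ x hx, ?_⟩
        have h := hconj ((t ^ (2 * e + 1)) ^ n) _ hy
        have e1 : (t ^ (2 * e + 1)) ^ n * (x⁻¹ * t) * ((t ^ (2 * e + 1)) ^ n)⁻¹ =
            ((t ^ (2 * e + 1)) ^ n * x * ((t ^ (2 * e + 1)) ^ n)⁻¹)⁻¹ * t := by group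
        rw [e1] at h
        exact h⟩ := by
  induction n with
  | zero =>
    rw [pow_zero]
    apply Subtype.ext
    change x.1 = (t ^ (2 * e + 1)) ^ 0 * x.1 * ((t ^ (2 * e + 1)) ^ 0)⁻¹
    simp
  | succ n ih =>
    rw [pow_succ']
    change ((tau hconj e) ^ 2 : Function.End (Firsts A t))
      ((((tau hconj e) ^ 2) ^ n : Function.End (Firsts A t)) x) = _
    rw [ih]
    apply Subtype.ext
    rw [pow_two]
    change t ^ e * t * (t ^ e * t * ((t ^ (2 * e + 1)) ^ n * x.1 * ((t ^ (2 * e + 1)) ^ n)⁻¹)⁻¹ *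
      (t ^ e)⁻¹)⁻¹ * (t ^ e)⁻¹ = (t ^ (2 * e + 1)) ^ (n + 1) * x.1 * ((t ^ (2 * e + 1)) ^ (n + 1))⁻¹
    group

theorem tau_pow (a : ℕ) (h1 : t ^ (2 ^ a * (2 * e + 1)) = 1) :
    (tau hconj e) ^ 2 ^ (a + 1) = (1 : Function.End (Firsts A t)) := by
  rw [pow_succ', pow_mul]
  funext x
  rw [tau_sq_pow hconj e (2 ^ a) x]
  apply Subtype.ext
  change (t ^ (2 * e + 1)) ^ 2 ^ a * x.1 * ((t ^ (2 * e + 1)) ^ 2 ^ a)⁻¹ = x.1
  rw [← pow_mul, mul_comm (2 * e + 1), h1]
  simp

/-- the fixed points are the square roots. -/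
def fixedEquiv : Function.fixedPoints (tau (t := t) hconj e) ≃ Roots A t e where
  toFun x := ⟨x.1.1 * t ^ e, by
    obtain ⟨⟨x, hx, hy⟩, hfix⟩ := x
    have h1 : t ^ e * t * x⁻¹ * (t ^ e)⁻¹ = x := congrArg Subtype.val hfix
    refine ⟨?_, ?_⟩
    · change x * t ^ e * (x * t ^ e) = t ^ (2 * e + 1)
      have h2 : x * t ^ e * x = t ^ e * t := by
        calc x * t ^ e * x = (t ^ e * t * x⁻¹ * (t ^ e)⁻¹) * t ^ e * x := by rw [h1]
          _ = t ^ e * t := by group
      calc x * t ^ e * (x * t ^ e) = x * t ^ e * x * t ^ e := by group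
        _ = t ^ e * t * t ^ e := by rw [h2]
        _ = t ^ (2 * e + 1) := by group
    · change A (x * t ^ e * (t ^ e)⁻¹)
      rw [mul_inv_cancel_right]
      exact hx⟩
  invFun u := ⟨⟨u.1 * (t ^ e)⁻¹, by
    obtain ⟨u, huu, hu⟩ := u
    refine ⟨hu, ?_⟩
    have h := hconj (t ^ e) _ hu
    have e0 : u⁻¹ = u * (t ^ (2 * e + 1))⁻¹ := by
      rw [← huu]
      group
    have e1 : (u * (t ^ e)⁻¹)⁻¹ * t = t ^ e * (u * (t ^ e)⁻¹) * (t ^ e)⁻¹ := by
      calc (u * (t ^ e)⁻¹)⁻¹ * t = t ^ e * u⁻¹ * t := by group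
        _ = t ^ e * (u * (t ^ (2 * e + 1))⁻¹) * t := by rw [← e0]
        _ = t ^ e * (u * (t ^ e)⁻¹) * (t ^ e)⁻¹ := by group
    change A ((u * (t ^ e)⁻¹)⁻¹ * t)
    rw [e1]
    exact h⟩, by
    obtain ⟨u, huu, hu⟩ := u
    apply Subtype.ext
    change t ^ e * t * (u * (t ^ e)⁻¹)⁻¹ * (t ^ e)⁻¹ = u * (t ^ e)⁻¹
    calc t ^ e * t * (u * (t ^ e)⁻¹)⁻¹ * (t ^ e)⁻¹ = t ^ (2 * e + 1) * u⁻¹ * (t ^ e)⁻¹ := by group
      _ = u * u * u⁻¹ * (t ^ e)⁻¹ := by rw [huu]
      _ = u * (t ^ e)⁻¹ := by group⟩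
  left_inv x := by
    apply Subtype.ext
    apply Subtype.ext
    change x.1.1 * t ^ e * (t ^ e)⁻¹ = x.1.1
    rw [mul_inv_cancel_right]
  right_inv u := by
    apply Subtype.ext
    change u.1 * (t ^ e)⁻¹ * t ^ e = u.1
    rw [inv_mul_cancel_right]

end

/-- the parity of the number of the pairs. -/
theorem card_pairs_modEq [Fintype G] [DecidableEq G] (A : G → Prop) [DecidablePred A]
    (hconj : ∀ g x : G, A x → A (g * x * g⁻¹)) (t : G) (a e : ℕ)
    (h1 : t ^ (2 ^ a * (2 * e + 1)) = 1) :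
    (Finset.univ.filter (fun q : G × G => A q.1 ∧ A q.2 ∧ q.1 * q.2 = t)).card ≡
      (Finset.univ.filter
        (fun u : G => u * u = t ^ (2 * e + 1) ∧ A (u * (t ^ e)⁻¹))).card [MOD 2] := by
  classical
  have : Fact (Nat.Prime 2) := ⟨Nat.prime_two⟩
  have hF : Fintype (Firsts A t) := by unfold Firsts; infer_instance
  have hR : Fintype (Roots A t e) := by unfold Roots; infer_instance
  have hmod := Equiv.Perm.card_fixedPoints_modEq (f := tau (t := t) hconj e) (p := 2) (n := a + 1)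
    (tau_pow hconj e a h1)
  rw [Fintype.card_eq_nat_card, Fintype.card_eq_nat_card] at hmod
  have c1 : Nat.card (Firsts A t) =
      (Finset.univ.filter (fun q : G × G => A q.1 ∧ A q.2 ∧ q.1 * q.2 = t)).card := by
    have e1 : Firsts A t ≃ {q : G × G // A q.1 ∧ A q.2 ∧ q.1 * q.2 = t} :=
      { toFun := fun x => ⟨(x.1, x.1⁻¹ * t), x.2.1, x.2.2, by simp⟩
        invFun := fun q => ⟨q.1.1, q.2.1, by
          obtain ⟨⟨x, y⟩, hx, hy, hxy⟩ := q
          change x * y = t at hxy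
          change A (x⁻¹ * t)
          have h2 : x⁻¹ * t = y := by rw [← hxy]; group
          rw [h2]
          exact hy⟩
        left_inv := fun x => rfl
        right_inv := fun q => by
          obtain ⟨⟨x, y⟩, hx, hy, hxy⟩ := q
          change x * y = t at hxy
          apply Subtype.ext
          apply Prod.ext
          · rfl
          · change x⁻¹ * t = y
            rw [← hxy]
            group }
    rw [Nat.card_congr e1, Nat.card_eq_fintype_card, Fintype.card_subtype]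
  have c2 : Nat.card (Function.fixedPoints (tau (t := t) hconj e)) =
      (Finset.univ.filter
        (fun u : G => u * u = t ^ (2 * e + 1) ∧ A (u * (t ^ e)⁻¹))).card := by
    rw [Nat.card_congr (fixedEquiv hconj e)]
    unfold Roots
    rw [Nat.card_eq_fintype_card, Fintype.card_subtype]
  rw [c1, c2] at hmod
  exact hmod

end Cfsg.Agent.Helper3.PairParity
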