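import Mathlib
import Cfsg.Agent.Helper3.BlkParity
import Cfsg.Agent.Helper3.PairParity

set_option autoImplicit false

/-!
The criterion for a single 2-block with the parities counted by square roots: the number of the
pairs of elements of type `i` with product `g` has the parity of the number of the `u` with
`u * u = g ^ (2 * e + 1)` and `u * (g ^ e)⁻¹` of type `i`, when `g ^ (2 ^ a * (2 * e + 1)) = 1`.
-/

namespace Cfsg.Agent.Helper3.BlkParity

universe u

variable {G : Type u} [Group G] [Fintype G] [DecidableEq G]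
  {ι : Type} [Fintype ι] [DecidableEq ι] (ty : G → ι) (t : ι → G)

/-- the square roots `u` of `g ^ (2 * e + 1)` with `u * (g ^ e)⁻¹` of type `i`. -/
def roots (i : ι) (g : G) (e : ℕ) : Finset G :=
  Finset.univ.filter (fun u : G => u * u = g ^ (2 * e + 1) ∧ ty (u * (g ^ e)⁻¹) = i)

theorem cnt_modEq (hconj : ∀ g x : G, ty (g * x * g⁻¹) = ty x) (i : ι) (g : G) (a e : ℕ)
    (h1 : g ^ (2 ^ a * (2 * e + 1)) = 1) :
    cnt (cls ty i) (cls ty i) g ≡ (roots ty i g e).card [MOD 2] := by
  have h := Cfsg.Agent.Helper3.PairParity.card_pairs_modEq (fun x => ty x = i)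
    (fun c x hx => by rw [hconj]; exact hx) g a e h1
  have e1 : cnt (cls ty i) (cls ty i) g =
      (Finset.univ.filter (fun q : G × G => ty q.1 = i ∧ ty q.2 = i ∧ q.1 * q.2 = g)).card := by
    unfold cnt
    congr 1
    ext q
    simp only [Finset.mem_filter, Finset.mem_product, mem_cls, Finset.mem_univ, true_and,
      and_assoc]
  rw [e1]
  exact h

/-- **the criterion**, with the parities counted by square roots. -/
theorem sameBlock_of_roots (hconj : ∀ g x : G, ty (g * x * g⁻¹) = ty x)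
    (hinv : ∀ x : G, ty x⁻¹ = ty x)
    (hcover : ∀ x : G, IsConj (t (ty x)) x ∨ IsConj (t (ty x))⁻¹ x)
    {M : Ideal Cfsg.AlgInt} (hM : Cfsg.IsPModular 2 M) (i0 : ι) (h0 : ∀ x : G, ty x = i0 → x = 1)
    (ρ : ι → ℕ) (a e : ι → ℕ) (hord : ∀ k : ι, t k ^ (2 ^ a k * (2 * e k + 1)) = 1)
    (hpar : ∀ i k : ι, ρ k < ρ i ∨ k = i0 ∨ Even (roots ty i (t k) (e k)).card)
    (χ ψ : Cfsg.IrrCharacter G) : Cfsg.SameBlock M (χ : G → ℂ) (ψ : G → ℂ) := by
  apply sameBlock_of_parity ty t hconj hinv hcover hM i0 h0 ρ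
  intro i k
  rcases hpar i k with h | h | h
  · exact Or.inl h
  · exact Or.inr (Or.inl h)
  · right; right
    have := cnt_modEq ty hconj i (t k) (a k) (e k) (hord k)
    rw [Nat.even_iff] at h ⊢
    rw [← h]
    exact this

end Cfsg.Agent.Helper3.BlkParity
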