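import Mathlib
import Cfsg.Agent.Helper9.ClassCount

set_option autoImplicit false

/-!
Sorting the elements of a finite group into types by an invariant: when every type has a
representative whose powers are normalized by few elements, and the resulting lower bounds for the
sizes of the types add up to the order of the group, then every element is conjugate to a generator
of the cyclic group of the representative of its type, and the sizes of the types are known.  With
elements that conjugate the representatives to enough of their powers, every element is conjugate to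
the representative of its type or to its inverse; and the number of square roots of an element is
determined by the sizes of the types.
-/

namespace Cfsg.Agent.Helper3.BlkCover

variable {G : Type*} [Group G]

/-- the elements conjugate to a generator of the cyclic group of `y`. -/
def Cj (y : G) : Set G :=
  {g | ∃ x : G, ∃ k : ℕ, Nat.Coprime k (orderOf y) ∧ g = x * y ^ k * x⁻¹}

theorem self_mem_Cj (y : G) : y ∈ Cj y :=
  ⟨1, 1, Nat.coprime_one_left _, by simp⟩

theorem card_Cj_ge [Finite G] (y : G) (ν : ℕ) (ho : 1 < orderOf y)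
    (hν : {h : G | ∃ j : ℕ, j < orderOf y ∧ h * y = y ^ j * h}.ncard ≤ ν) :
    Nat.card G * Nat.totient (orderOf y) ≤ ν * (Cj y).ncard := by
  have h1 := Cfsg.Agent.Helper9.ClassCount.card_mul_totient_le (fun g : G => (g ∈ Cj y : Prop)) y ν ho
    (by
      intro x g
      apply propext
      constructor
      · rintro ⟨a, k, hk, e⟩
        refine ⟨x⁻¹ * a, k, hk, ?_⟩
        have : g = x⁻¹ * (x * g * x⁻¹) * x := by group
        rw [this, e]
        group
      · rintro ⟨a, k, hk, e⟩
        refine ⟨x * a, k, hk, ?_⟩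
        rw [e]
        group)
    (by
      intro k hk
      apply propext
      constructor
      · intro _
        exact self_mem_Cj y
      · intro _
        exact ⟨1, k, hk, by simp⟩)
    hν
  have e : {g : G | (g ∈ Cj y : Prop) = (y ∈ Cj y : Prop)} = Cj y := by
    ext g
    constructor
    · intro h
      have h' : (g ∈ Cj y : Prop) = (y ∈ Cj y : Prop) := h
      rw [h']
      exact self_mem_Cj y
    · intro h
      show (g ∈ Cj y : Prop) = (y ∈ Cj y : Prop)
      exact propext ⟨fun _ => self_mem_Cj y, fun _ => h⟩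
  rw [e] at h1
  exact h1

section cover

variable [Fintype G] [DecidableEq G] {ι : Type} [Fintype ι] [DecidableEq ι]
  (ty : G → ι) (y : ι → G) (ν m : ι → ℕ) (i0 : ι)

/-- the elements of a type. -/
def cl (i : ι) : Finset G := Finset.univ.filter (fun g => ty g = i)

theorem mem_cl (i : ι) (g : G) : g ∈ cl ty i ↔ ty g = i := by
  unfold cl
  simp

variable (hm0 : m i0 = 1)
  (hconj : ∀ x g : G, ty (x * g * x⁻¹) = ty g)
  (hpow : ∀ (i : ι) (k : ℕ), Nat.Coprime k (orderOf (y i)) → ty (y i ^ k) = i)
  (hν : ∀ i : ι, i ≠ i0 → 1 < orderOf (y i) ∧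
    {h : G | ∃ j : ℕ, j < orderOf (y i) ∧ h * y i = y i ^ j * h}.ncard ≤ ν i ∧
    ν i * m i = Nat.card G * Nat.totient (orderOf (y i)))
  (hsum : ∑ i : ι, m i = Nat.card G)

include hconj hpow in
theorem Cj_subset (i : ι) : Cj (y i) ⊆ (cl ty i : Set G) := by
  rintro g ⟨x, k, hk, rfl⟩
  rw [Finset.mem_coe, mem_cl, hconj]
  exact hpow i k hk

include hm0 hν in
theorem m_le (i : ι) : m i ≤ (Cj (y i)).ncard := by
  by_cases hi : i = i0
  · rw [hi, hm0, Nat.one_le_iff_ne_zero, Ne, Set.ncard_eq_zero (Set.toFinite _), ← Ne,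
      ← Set.nonempty_iff_ne_empty]
    exact ⟨y i0, self_mem_Cj _⟩
  · obtain ⟨h1, h2, h3⟩ := hν i hi
    have h4 := card_Cj_ge (y i) (ν i) h1 h2
    rw [← h3] at h4
    have hpos : 0 < ν i := by
      rcases Nat.eq_zero_or_pos (ν i) with h0 | h0
      · rw [h0, zero_mul] at h3
        have : 0 < Nat.card G * Nat.totient (orderOf (y i)) :=
          Nat.mul_pos Nat.card_pos (Nat.totient_pos.mpr (by omega))
        omega
      · exact h0
    exact Nat.le_of_mul_le_mul_left h4 hpos

include hm0 hconj hpow hν hsum in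
/-- the sizes of the types, and the cover. -/
theorem cover : (∀ i : ι, (cl ty i).card = m i) ∧ ∀ g : G, g ∈ Cj (y (ty g)) := by
  have hle : ∀ i : ι, m i ≤ (cl ty i).card := by
    intro i
    refine le_trans (m_le y ν m i0 hm0 hν i) ?_
    rw [← Set.ncard_coe_finset]
    exact Set.ncard_le_ncard (Cj_subset ty y hconj hpow i) (Set.toFinite _)
  have htot : ∑ i : ι, (cl ty i).card = Nat.card G := by
    rw [Nat.card_eq_fintype_card, ← Finset.card_univ]
    symm
    exact Finset.card_eq_sum_card_fiberwise (fun g _ => Finset.mem_univ (ty g))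
  have heq : ∀ i : ι, (cl ty i).card = m i := by
    have h1 : ∑ i : ι, m i = ∑ i : ι, (cl ty i).card := by rw [hsum, htot]
    have h2 := (Finset.sum_eq_sum_iff_of_le (fun i _ => hle i)).mp h1
    intro i
    exact (h2 i (Finset.mem_univ i)).symm
  refine ⟨heq, fun g => ?_⟩
  have hset : Cj (y (ty g)) = (cl ty (ty g) : Set G) := by
    apply Set.eq_of_subset_of_ncard_le (Cj_subset ty y hconj hpow _) _ (Set.toFinite _)
    rw [Set.ncard_coe_finset, heq]
    exact m_le y ν m i0 hm0 hν _
  rw [hset, Finset.mem_coe, mem_cl]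

end cover

/-- an element that conjugates `y` to a power generating enough of the units gives that every
generator of the cyclic group of `y` is conjugate to `y` or to its inverse. -/
theorem rat_of_conj (y c : G) (r o : ℕ) (hpos : 0 < o) (ho : orderOf y = o)
    (hc : c * y * c⁻¹ = y ^ r)
    (hN : ∀ k : ℕ, k < o → Nat.Coprime k o → ∃ j : ℕ, k % o = r ^ j % o ∨ (k + r ^ j) % o = 0)
    (k : ℕ) (hk : Nat.Coprime k o) : IsConj y (y ^ k) ∨ IsConj y⁻¹ (y ^ k) := by
  have hcj : ∀ j : ℕ, c ^ j * y * (c ^ j)⁻¹ = y ^ (r ^ j) := by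
    intro j
    induction j with
    | zero => simp
    | succ j ih =>
      have e : c ^ (j + 1) * y * (c ^ (j + 1))⁻¹ = c * (c ^ j * y * (c ^ j)⁻¹) * c⁻¹ := by
        rw [pow_succ']
        group
      rw [e, ih, ← conj_pow, hc, ← pow_mul, pow_succ, Nat.mul_comm]
  have hkm : y ^ k = y ^ (k % o) := by rw [← ho, pow_mod_orderOf]
  have hk' : Nat.Coprime (k % o) o := by
    rw [Nat.Coprime, ← Nat.gcd_rec, Nat.gcd_comm]
    exact hk
  obtain ⟨j, hj | hj⟩ := hN (k % o) (Nat.mod_lt _ hpos) hk'
  · left
    rw [Nat.mod_mod] at hj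
    have : y ^ k = y ^ (r ^ j) := by
      rw [hkm, hj, ← ho, pow_mod_orderOf]
    rw [this, ← hcj j]
    exact isConj_iff.mpr ⟨c ^ j, rfl⟩
  · right
    have h1 : y ^ (k % o + r ^ j) = 1 := by
      rw [← pow_mod_orderOf, ho, hj, pow_zero]
    have : y ^ k = (y ^ (r ^ j))⁻¹ := by
      rw [hkm, eq_inv_iff_mul_eq_one, ← pow_add]
      exact h1
    rw [this, ← hcj j]
    apply isConj_iff.mpr
    refine ⟨c ^ j, ?_⟩
    group

/-- from the cover and the conjugating elements, every element is conjugate to the representative of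
its type or to its inverse. -/
theorem isConj_of_Cj {y g : G}
    (hrat : ∀ k : ℕ, Nat.Coprime k (orderOf y) → IsConj y (y ^ k) ∨ IsConj y⁻¹ (y ^ k))
    (hg : g ∈ Cj y) : IsConj y g ∨ IsConj y⁻¹ g := by
  obtain ⟨x, k, hk, rfl⟩ := hg
  rcases hrat k hk with h | h
  · exact Or.inl (h.trans (isConj_iff.mpr ⟨x, rfl⟩))
  · exact Or.inr (h.trans (isConj_iff.mpr ⟨x, rfl⟩))

section roots

variable [Fintype G] [DecidableEq G] {ι : Type} [Fintype ι] [DecidableEq ι]
  (ty : G → ι) (t : ι → G)
  (hconj : ∀ x g : G, ty (x * g * x⁻¹) = ty g) (hinv : ∀ g : G, ty g⁻¹ = ty g)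
  (hcover : ∀ g : G, IsConj (t (ty g)) g ∨ IsConj (t (ty g))⁻¹ g)

/-- the square roots of an element. -/
def sqrts (z : G) : Finset G := Finset.univ.filter (fun u => u * u = z)

omit [Fintype ι] [DecidableEq ι] in
theorem mem_sqrts (z u : G) : u ∈ sqrts z ↔ u * u = z := by
  unfold sqrts
  simp

omit [Fintype ι] [DecidableEq ι] in
theorem card_sqrts_conj (c z : G) : (sqrts (c * z * c⁻¹)).card = (sqrts z).card := by
  symm
  apply Finset.card_bij (fun u _ => c * u * c⁻¹)
  · intro u hu
    rw [mem_sqrts] at hu ⊢
    rw [← hu]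
    group
  · intro u _ u' _ h
    have := mul_right_cancel h
    exact mul_left_cancel this
  · intro u hu
    rw [mem_sqrts] at hu
    refine ⟨c⁻¹ * u * c, ?_, by group⟩
    rw [mem_sqrts]
    have : c⁻¹ * u * c * (c⁻¹ * u * c) = c⁻¹ * (u * u) * c := by group
    rw [this, hu]
    group

omit [Fintype ι] [DecidableEq ι] in
theorem card_sqrts_inv (z : G) : (sqrts z⁻¹).card = (sqrts z).card := by
  symm
  apply Finset.card_bij (fun u _ => u⁻¹)
  · intro u hu
    rw [mem_sqrts] at hu ⊢
    rw [← hu, mul_inv_rev]
  · intro u _ u' _ h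
    exact inv_injective h
  · intro u hu
    rw [mem_sqrts] at hu
    refine ⟨u⁻¹, ?_, inv_inv u⟩
    rw [mem_sqrts, ← mul_inv_rev, hu, inv_inv]

include hcover in
omit [Fintype ι] [DecidableEq ι] in
theorem card_sqrts_eq (z : G) : (sqrts z).card = (sqrts (t (ty z))).card := by
  rcases hcover z with h | h
  · obtain ⟨c, hc⟩ := isConj_iff.mp h
    have e := card_sqrts_conj c (t (ty z))
    rw [hc] at e
    exact e
  · obtain ⟨c, hc⟩ := isConj_iff.mp h
    have e := card_sqrts_conj c (t (ty z))⁻¹
    rw [hc, card_sqrts_inv] at e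
    exact e

include hconj hinv hcover in
omit [Fintype ι] [DecidableEq ι] in
theorem ty_sq (u : G) : ty (u * u) = ty (t (ty u) * t (ty u)) := by
  rcases hcover u with h | h
  · obtain ⟨c, hc⟩ := isConj_iff.mp h
    have e : u * u = c * (t (ty u) * t (ty u)) * c⁻¹ := by
      have : c * (t (ty u) * t (ty u)) * c⁻¹ =
          c * t (ty u) * c⁻¹ * (c * t (ty u) * c⁻¹) := by group
      rw [this, hc]
    rw [e, hconj]
  · obtain ⟨c, hc⟩ := isConj_iff.mp h
    have e : u * u = c * (t (ty u) * t (ty u))⁻¹ * c⁻¹ := by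
      have : c * (t (ty u) * t (ty u))⁻¹ * c⁻¹ =
          c * (t (ty u))⁻¹ * c⁻¹ * (c * (t (ty u))⁻¹ * c⁻¹) := by group
      rw [this, hc]
    rw [e, hconj, hinv]

include hconj hinv hcover in
/-- the number of the square roots of `z`, times the size of the type of `z`, is the total size of
the types whose squares are of the type of `z`. -/
theorem card_sqrts_mul (z : G) :
    (sqrts z).card * (cl ty (ty z)).card =
      ∑ i : ι, if ty (t i * t i) = ty z then (cl ty i).card else 0 := by
  -- count the u with the square of the type of z in two ways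
  have h1 : (Finset.univ.filter (fun u : G => ty (u * u) = ty z)).card =
      ∑ z' ∈ cl ty (ty z), (sqrts z').card := by
    have := Finset.card_eq_sum_card_fiberwise (s := Finset.univ.filter (fun u : G => ty (u * u) = ty z))
      (t := cl ty (ty z)) (f := fun u => u * u) (by
        intro u hu
        rw [Finset.mem_coe, Finset.mem_filter] at hu
        rw [Finset.mem_coe, mem_cl]
        exact hu.2)
    rw [this]
    apply Finset.sum_congr rfl
    intro z' hz'
    rw [mem_cl] at hz'
    congr 1
    ext u
    rw [Finset.mem_filter, Finset.mem_filter, mem_sqrts]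
    constructor
    · rintro ⟨_, h⟩
      exact h
    · intro h
      exact ⟨⟨Finset.mem_univ _, by rw [h, hz']⟩, h⟩
  have h2 : ∑ z' ∈ cl ty (ty z), (sqrts z').card = (cl ty (ty z)).card * (sqrts z).card := by
    rw [← smul_eq_mul, ← Finset.sum_const]
    apply Finset.sum_congr rfl
    intro z' hz'
    rw [mem_cl] at hz'
    rw [card_sqrts_eq ty t hcover z', card_sqrts_eq ty t hcover z, hz']
  have h3 : (Finset.univ.filter (fun u : G => ty (u * u) = ty z)).card =
      ∑ i : ι, if ty (t i * t i) = ty z then (cl ty i).card else 0 := by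
    rw [Finset.card_eq_sum_card_fiberwise (s := Finset.univ.filter (fun u : G => ty (u * u) = ty z))
      (t := Finset.univ) (f := ty) (fun u _ => Finset.mem_univ _)]
    apply Finset.sum_congr rfl
    intro i _
    split_ifs with hi
    · congr 1
      ext u
      rw [Finset.mem_filter, Finset.mem_filter, mem_cl]
      constructor
      · rintro ⟨_, h⟩
        exact h
      · intro h
        refine ⟨⟨Finset.mem_univ _, ?_⟩, h⟩
        rw [ty_sq ty t hconj hinv hcover u, h, hi]
    · rw [Finset.card_eq_zero, Finset.filter_eq_empty_iff]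
      rintro u hu h
      rw [Finset.mem_filter] at hu
      apply hi
      rw [← hu.2, ty_sq ty t hconj hinv hcover u, h]
  rw [mul_comm, ← h2, ← h1, h3]

end roots

end Cfsg.Agent.Helper3.BlkCover
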