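import Mathlib
import Cfsg.Agent.Helper9.OutG.Grp

set_option autoImplicit false

/-!
An invariant of conjugacy for permutations of `Fin n`: the numbers of the fixed points of some
powers, packed in one number, and its computation from a function that computes the permutation.
-/

namespace Cfsg.Agent.Helper3.BlkInv

open Cfsg.Agent.Helper9.OutG Cfsg.Agent.Helper9.J3

variable {n : ℕ}

/-- the number of the fixed points. -/
def fixC (g : Equiv.Perm (Fin n)) : ℕ := (Finset.univ.filter (fun x => g x = x)).card

theorem fixC_le (g : Equiv.Perm (Fin n)) : fixC g ≤ n := by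
  unfold fixC
  exact le_trans (Finset.card_le_univ _) (by simp)

theorem fixC_conj (x g : Equiv.Perm (Fin n)) : fixC (x * g * x⁻¹) = fixC g := by
  unfold fixC
  symm
  apply Finset.card_bij (fun a _ => x a)
  · intro a ha
    rw [Finset.mem_filter] at ha ⊢
    refine ⟨Finset.mem_univ _, ?_⟩
    have e : (x * g * x⁻¹) (x a) = x (g a) := by simp
    rw [e, ha.2]
  · intro a _ b _ h
    exact x.injective h
  · intro b hb
    rw [Finset.mem_filter] at hb
    refine ⟨x⁻¹ b, ?_, by simp⟩
    rw [Finset.mem_filter]
    refine ⟨Finset.mem_univ _, ?_⟩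
    have h1 : (x * g * x⁻¹) b = x (g (x⁻¹ b)) := by simp
    have h2 := hb.2
    rw [h1] at h2
    have h3 := congrArg (fun y => x⁻¹ y) h2
    simpa using h3

theorem fixC_inv (g : Equiv.Perm (Fin n)) : fixC g⁻¹ = fixC g := by
  unfold fixC
  congr 1
  ext a
  rw [Finset.mem_filter, Finset.mem_filter]
  constructor
  · rintro ⟨_, h⟩
    refine ⟨Finset.mem_univ _, ?_⟩
    rw [Equiv.Perm.inv_eq_iff_eq] at h
    exact h.symm
  · rintro ⟨_, h⟩
    refine ⟨Finset.mem_univ _, ?_⟩
    rw [Equiv.Perm.inv_eq_iff_eq]
    exact h.symm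

theorem fixC_eq_of_support {g g' : Equiv.Perm (Fin n)} (h : g.support = g'.support) :
    fixC g = fixC g' := by
  unfold fixC
  congr 1
  ext a
  rw [Finset.mem_filter, Finset.mem_filter]
  have h1 : a ∈ g.support ↔ a ∈ g'.support := by rw [h]
  rw [Equiv.Perm.mem_support, Equiv.Perm.mem_support] at h1
  constructor
  · rintro ⟨_, h2⟩
    exact ⟨Finset.mem_univ _, by_contra fun h3 => (h1.mpr h3) h2⟩
  · rintro ⟨_, h2⟩
    exact ⟨Finset.mem_univ _, by_contra fun h3 => (h1.mp h3) h2⟩

theorem fixC_pow_coprime (g : Equiv.Perm (Fin n)) (k : ℕ) (hk : Nat.Coprime k (orderOf g))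
    (j : ℕ) : fixC ((g ^ k) ^ j) = fixC (g ^ j) := by
  apply fixC_eq_of_support
  have e : (g ^ k) ^ j = (g ^ j) ^ k := by rw [← pow_mul, ← pow_mul, Nat.mul_comm]
  rw [e]
  apply Equiv.Perm.support_pow_coprime
  exact Nat.Coprime.coprime_dvd_right (orderOf_pow_dvd j) hk

theorem eq_one_of_fixC {g : Equiv.Perm (Fin n)} (h : fixC g = n) : g = 1 := by
  unfold fixC at h
  have h1 : Finset.univ.filter (fun x => g x = x) = Finset.univ := by
    apply Finset.eq_univ_of_card
    rw [h]
    simp
  ext x
  have : x ∈ Finset.univ.filter (fun x => g x = x) := by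
    rw [h1]
    exact Finset.mem_univ _
  rw [Finset.mem_filter] at this
  rw [this.2]
  rfl

/-- the numbers of the fixed points of the powers with the exponents `s + d₁`, `s + d₁ + d₂`, …,
packed with 8 bits each. -/
def pcodeG (g : Equiv.Perm (Fin n)) : List ℕ → ℕ → ℕ
  | [], _ => 0
  | d :: ds, s => fixC (g ^ (s + d)) + 256 * pcodeG g ds (s + d)

theorem pcodeG_cons (g : Equiv.Perm (Fin n)) (d : ℕ) (ds : List ℕ) (s : ℕ) :
    pcodeG g (d :: ds) s = fixC (g ^ (s + d)) + 256 * pcodeG g ds (s + d) := rfl

theorem pcodeG_conj (x g : Equiv.Perm (Fin n)) (ds : List ℕ) (s : ℕ) :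
    pcodeG (x * g * x⁻¹) ds s = pcodeG g ds s := by
  induction ds generalizing s with
  | nil => rfl
  | cons d ds ih =>
    rw [pcodeG_cons, pcodeG_cons, ih, conj_pow, fixC_conj]

theorem pcodeG_inv (g : Equiv.Perm (Fin n)) (ds : List ℕ) (s : ℕ) :
    pcodeG g⁻¹ ds s = pcodeG g ds s := by
  induction ds generalizing s with
  | nil => rfl
  | cons d ds ih =>
    rw [pcodeG_cons, pcodeG_cons, ih, inv_pow, fixC_inv]

theorem pcodeG_pow_coprime (g : Equiv.Perm (Fin n)) (k : ℕ) (hk : Nat.Coprime k (orderOf g))
    (ds : List ℕ) (s : ℕ) : pcodeG (g ^ k) ds s = pcodeG g ds s := by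
  induction ds generalizing s with
  | nil => rfl
  | cons d ds ih =>
    rw [pcodeG_cons, pcodeG_cons, ih, fixC_pow_coprime g k hk]

theorem pcodeG_mod (g : Equiv.Perm (Fin n)) (hn : n < 256) (d : ℕ) (ds : List ℕ) (s : ℕ) :
    pcodeG g (d :: ds) s % 256 = fixC (g ^ (s + d)) := by
  rw [pcodeG_cons, Nat.add_mul_mod_self_left]
  exact Nat.mod_eq_of_lt (lt_of_le_of_lt (fixC_le _) hn)

/-! ### the computation -/

/-- the number of the fixed points below `n` of a function. -/
def fixF (f : ℕ → ℕ) (n : ℕ) : ℕ := sumF (fun x => Bool.rec 0 1 (Nat.beq (f x) x)) n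

theorem fixF_eq {g : Equiv.Perm (Fin n)} {f : ℕ → ℕ} (hg : Comp g f) : fixF f n = fixC g := by
  unfold fixF fixC
  have key : ∀ m : ℕ, m ≤ n → sumF (fun x => Bool.rec 0 1 (Nat.beq (f x) x)) m =
      (Finset.univ.filter (fun x : Fin n => x.val < m ∧ g x = x)).card := by
    intro m
    induction m with
    | zero =>
      intro _
      change 0 = _
      symm
      rw [Finset.card_eq_zero, Finset.filter_eq_empty_iff]
      rintro x _ ⟨h, _⟩
      omega
    | succ m ih =>
      intro hm
      rw [sumF_succ, ih (by omega)]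
      have hs : Finset.univ.filter (fun x : Fin n => x.val < m + 1 ∧ g x = x) =
          Finset.univ.filter (fun x : Fin n => x.val < m ∧ g x = x) ∪
            Finset.univ.filter (fun x : Fin n => x.val = m ∧ g x = x) := by
        ext x
        simp only [Finset.mem_filter, Finset.mem_union, Finset.mem_univ, true_and]
        constructor
        · rintro ⟨h1, h2⟩
          rcases Nat.lt_succ_iff_lt_or_eq.mp h1 with h | h
          · exact Or.inl ⟨h, h2⟩
          · exact Or.inr ⟨h, h2⟩
        · rintro (⟨h1, h2⟩ | ⟨h1, h2⟩)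
          · exact ⟨by omega, h2⟩
          · exact ⟨by omega, h2⟩
      have hd : Disjoint (Finset.univ.filter (fun x : Fin n => x.val < m ∧ g x = x))
          (Finset.univ.filter (fun x : Fin n => x.val = m ∧ g x = x)) := by
        rw [Finset.disjoint_left]
        intro x h1 h2
        rw [Finset.mem_filter] at h1 h2
        omega
      rw [hs, Finset.card_union_of_disjoint hd, Nat.add_comm]
      congr 1
      have hx := hg ⟨m, by omega⟩
      by_cases hfix : g ⟨m, by omega⟩ = ⟨m, by omega⟩
      · have e1 : Nat.beq (f m) m = true := by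
          have : f m = m := by
            rw [← hx, hfix]
          rw [this]
          exact Nat.beq_refl m
        rw [e1]
        symm
        rw [Finset.card_eq_one]
        refine ⟨⟨m, by omega⟩, ?_⟩
        ext x
        simp only [Finset.mem_filter, Finset.mem_univ, true_and, Finset.mem_singleton]
        constructor
        · rintro ⟨h1, _⟩
          exact Fin.ext h1
        · intro h
          rw [h]
          exact ⟨rfl, hfix⟩
      · have e1 : Nat.beq (f m) m = false := by
          cases hb : Nat.beq (f m) m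
          · rfl
          · exfalso
            apply hfix
            apply Fin.ext
            rw [hx]
            exact Nat.eq_of_beq_eq_true hb
        rw [e1]
        symm
        rw [Finset.card_eq_zero, Finset.filter_eq_empty_iff]
        rintro x _ ⟨h1, h2⟩
        apply hfix
        have : x = ⟨m, by omega⟩ := Fin.ext h1
        rw [← this]
        exact h2
  rw [key n le_rfl]
  congr 1
  ext x
  simp only [Finset.mem_filter, Finset.mem_univ, true_and]
  exact ⟨fun h => h.2, fun h => ⟨x.isLt, h⟩⟩

/-- the code of a point: which of the iterates return to the point. -/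
def ptc (f : ℕ → ℕ) (x : ℕ) (ds : List ℕ) (cur : ℕ) : ℕ :=
  List.rec (motive := fun _ => ℕ → ℕ) (fun _ => 0)
    (fun d _ ih cur => sapp (fun c => Nat.add (Bool.rec 0 1 (Nat.beq c x)) (Nat.mul 256 (ih c)))
      (powF f d cur)) ds cur

theorem ptc_nil (f : ℕ → ℕ) (x cur : ℕ) : ptc f x [] cur = 0 := rfl

theorem ptc_cons (f : ℕ → ℕ) (x d : ℕ) (ds : List ℕ) (cur : ℕ) :
    ptc f x (d :: ds) cur =
      Bool.rec 0 1 (Nat.beq (powF f d cur) x) + 256 * ptc f x ds (powF f d cur) := by
  show sapp (fun c => Nat.add (Bool.rec 0 1 (Nat.beq c x)) (Nat.mul 256 (ptc f x ds c)))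
    (powF f d cur) = _
  rw [sapp_eq]
  rfl

/-- the packed numbers of the fixed points, computed. -/
def pcodeF (f : ℕ → ℕ) (n : ℕ) (ds : List ℕ) : ℕ := sumF (fun x => ptc f x ds x) n

theorem powF_add (f : ℕ → ℕ) (a b x : ℕ) : powF f a (powF f b x) = powF f (b + a) x := by
  induction a with
  | zero => rfl
  | succ a ih =>
    change f (powF f a (powF f b x)) = f (powF f (b + a) x)
    rw [ih]

theorem sumF_add (f g : ℕ → ℕ) (m : ℕ) :
    sumF (fun x => f x + g x) m = sumF f m + sumF g m := by
  induction m with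
  | zero => rfl
  | succ m ih =>
    rw [sumF_succ, sumF_succ, sumF_succ, ih]
    omega

theorem sumF_mul (c : ℕ) (g : ℕ → ℕ) (m : ℕ) : sumF (fun x => c * g x) m = c * sumF g m := by
  induction m with
  | zero => rfl
  | succ m ih =>
    rw [sumF_succ, sumF_succ, ih, Nat.mul_add]

theorem pcodeF_eq_aux {g : Equiv.Perm (Fin n)} {f : ℕ → ℕ} (hg : Comp g f) (ds : List ℕ) (s : ℕ) :
    sumF (fun x => ptc f x ds (powF f s x)) n = pcodeG g ds s := by
  induction ds generalizing s with
  | nil =>
    show _ = 0
    have : (fun x => ptc f x [] (powF f s x)) = fun _ => 0 := rfl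
    rw [this]
    clear this
    induction n with
    | zero => rfl
    | succ m ih => 
      rw [sumF_succ]
      have : sumF (fun _ => 0) m = 0 := by
        clear ih hg g
        induction m with
        | zero => rfl
        | succ m ih2 => rw [sumF_succ, ih2]
      rw [this]
  | cons d ds ih =>
    have e : (fun x => ptc f x (d :: ds) (powF f s x)) =
        fun x => Bool.rec 0 1 (Nat.beq (powF f (s + d) x) x) +
          256 * ptc f x ds (powF f (s + d) x) := by
      funext x
      rw [ptc_cons, powF_add]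
    rw [e, sumF_add, sumF_mul, ih (s + d), pcodeG_cons]
    congr 1
    exact fixF_eq (hg.pow (s + d))

/-- the computation of the packed numbers of the fixed points. -/
theorem pcodeF_eq {g : Equiv.Perm (Fin n)} {f : ℕ → ℕ} (hg : Comp g f) (ds : List ℕ) :
    pcodeF f n ds = pcodeG g ds 0 := pcodeF_eq_aux hg ds 0

/-- the index of a number in a list (the length of the list when it is not there). -/
def idxN (codes : List ℕ) (c : ℕ) : ℕ :=
  List.rec 0 (fun a _ ih => Bool.rec (Nat.succ ih) 0 (Nat.beq a c)) codes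

theorem idxN_cons (a : ℕ) (codes : List ℕ) (c : ℕ) :
    idxN (a :: codes) c = Bool.rec (Nat.succ (idxN codes c)) 0 (Nat.beq a c) := rfl

theorem idxN_zero {a : ℕ} {codes : List ℕ} {c : ℕ} (h : idxN (a :: codes) c = 0) : a = c := by
  rw [idxN_cons] at h
  cases hb : Nat.beq a c
  · rw [hb] at h
    exact absurd h (Nat.succ_ne_zero _)
  · exact Nat.eq_of_beq_eq_true hb

end Cfsg.Agent.Helper3.BlkInv
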