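import Mathlib
import Cfsg.Agent.Helper3.BlkInv
import Cfsg.Agent.Helper3.BlkCover
import Cfsg.Agent.Helper9.OutG.Spec

set_option autoImplicit false

/-!
For a group of permutations given by tables: the type of an element from the packed numbers of the
fixed points of its powers, and lists of tables that are all the square roots of an element, with
the parities of the numbers of the roots `u` with `u * s` of each type.
-/

noncomputable section

namespace Cfsg.Agent.Helper3.BlkRoots

open Cfsg.Agent.Helper9.OutG Cfsg.Agent.Helper9.J3 Cfsg.Agent.Helper3.BlkInv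
  Cfsg.Agent.Helper3.BlkCover

/-! ### lists and parities -/

section parity

variable {α : Type*}

/-- the parities of the numbers of the entries with each value of `c`, as the bits of a number. -/
def parL (c : α → ℕ) (L : List α) : ℕ :=
  List.rec 0 (fun k _ ih => Nat.xor (Nat.shiftLeft 1 (c k)) ih) L

theorem parL_nil (c : α → ℕ) : parL c [] = 0 := rfl

theorem parL_cons (c : α → ℕ) (k : α) (L : List α) :
    parL c (k :: L) = (1 <<< c k) ^^^ parL c L := rfl

theorem parL_append (c : α → ℕ) (L L' : List α) :
    parL c (L ++ L') = parL c L ^^^ parL c L' := by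
  induction L with
  | nil => simp [parL_nil]
  | cons k L ih => rw [List.cons_append, parL_cons, parL_cons, ih, Nat.xor_assoc]

theorem testBit_parL (c : α → ℕ) (L : List α) (i : ℕ) :
    (parL c L).testBit i = decide (Odd (L.countP (fun k => c k = i))) := by
  induction L with
  | nil => simp [parL_nil]
  | cons k L ih =>
    rw [parL_cons, Nat.testBit_xor, ih, List.countP_cons]
    by_cases hk : c k = i
    · have e1 : (1 <<< c k).testBit i = true := by
        rw [hk, Nat.one_shiftLeft, Nat.testBit_two_pow_self]
      rw [e1]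
      simp only [hk, decide_true, if_true, Bool.true_xor]
      by_cases ho : Odd (List.countP (fun k => decide (c k = i)) L) <;>
        simp [ho, Nat.odd_add_one]
    · have e1 : (1 <<< c k).testBit i = false := by
        rw [Nat.one_shiftLeft, Nat.testBit_two_pow]
        simp [hk]
      rw [e1]
      simp [hk]

theorem even_of_testBit (c : α → ℕ) (L : List α) (i : ℕ) (h : (parL c L).testBit i = false) :
    Even (L.countP (fun k => c k = i)) := by
  rw [testBit_parL] at h
  rw [← Nat.not_odd_iff_even]
  simpa using h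

end parity

section sqrtlist

variable {G : Type*} [Group G] [Fintype G] [DecidableEq G]

/-- a list without repetition of square roots of `z`, as long as the number of the square roots,
counts the square roots with a property. -/
theorem card_filter_sqrts (z : G) (L : List G) (hnd : L.Nodup) (hsq : ∀ u ∈ L, u * u = z)
    (hlen : L.length = (sqrts z).card) (P : G → Prop) [DecidablePred P] :
    ((sqrts z).filter P).card = L.countP (fun u => P u) := by
  have h1 : L.toFinset = sqrts z := by
    apply Finset.eq_of_subset_of_card_le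
    · intro u hu
      rw [List.mem_toFinset] at hu
      rw [mem_sqrts]
      exact hsq u hu
    · rw [List.toFinset_card_of_nodup hnd, hlen]
  have h2 : (L.filter (fun u => decide (P u))).toFinset = L.toFinset.filter P := by
    ext u
    simp
  rw [← h1, ← h2, List.toFinset_card_of_nodup (hnd.filter _), List.countP_eq_length_filter]

end sqrtlist

/-! ### the types of the elements of a group of tables -/

variable {D : Dat} {C : ChainD} {N : ℕ} (h : Core D C N)

/-- the group of the tables as a finite type. -/
instance instFintypeGS : Fintype ↥(GS h) := Fintype.ofFinite _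

/-- the number of the type from the packed numbers of the fixed points. -/
def tyN (codes _ds : List ℕ) (r : ℕ) (code : ℕ) : ℕ :=
  sapp (fun i => Bool.rec r i (Nat.ble i r)) (idxN codes code)

theorem tyN_le (codes ds : List ℕ) (r code : ℕ) : tyN codes ds r code ≤ r := by
  unfold tyN
  rw [sapp_eq]
  cases hb : Nat.ble (idxN codes code) r
  · exact le_rfl
  · exact Nat.le_of_ble_eq_true hb

theorem tyN_zero {a : ℕ} {codes ds : List ℕ} {r code : ℕ} (hr : 0 < r)
    (h0 : tyN (a :: codes) ds r code = 0) : a = code := by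
  unfold tyN at h0
  rw [sapp_eq] at h0
  cases hb : Nat.ble (idxN (a :: codes) code) r
  · rw [hb] at h0
    change r = 0 at h0
    omega
  · rw [hb] at h0
    exact idxN_zero h0

/-- the type of an element. -/
def ty (codes ds : List ℕ) (r : ℕ) (g : ↥(GS h)) : Fin (r + 1) :=
  ⟨tyN codes ds r (pcodeG g.1 ds 0), Nat.lt_succ_of_le (tyN_le _ _ _ _)⟩

theorem ty_conj (codes ds : List ℕ) (r : ℕ) (x g : ↥(GS h)) :
    ty h codes ds r (x * g * x⁻¹) = ty h codes ds r g := by
  unfold ty
  congr 2
  rw [Subgroup.coe_mul, Subgroup.coe_mul, Subgroup.coe_inv]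
  exact pcodeG_conj _ _ _ _

theorem ty_inv (codes ds : List ℕ) (r : ℕ) (g : ↥(GS h)) :
    ty h codes ds r g⁻¹ = ty h codes ds r g := by
  unfold ty
  congr 2
  rw [Subgroup.coe_inv]
  exact pcodeG_inv _ _ _

theorem ty_pow_coprime (codes ds : List ℕ) (r : ℕ) (g : ↥(GS h)) (k : ℕ)
    (hk : Nat.Coprime k (orderOf g)) : ty h codes ds r (g ^ k) = ty h codes ds r g := by
  unfold ty
  congr 2
  rw [Subgroup.coe_pow]
  apply pcodeG_pow_coprime
  rw [Subgroup.orderOf_coe]
  exact hk

theorem ty_eq_zero {a : ℕ} {codes ds' : List ℕ} {r : ℕ} (hr : 0 < r) (hn : D.n < 256)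
    (ha : a % 256 = D.n) {g : ↥(GS h)} (hg : ty h (a :: codes) (1 :: ds') r g = 0) : g = 1 := by
  have h1 : tyN (a :: codes) (1 :: ds') r (pcodeG g.1 (1 :: ds') 0) = 0 := congrArg Fin.val hg
  have h2 := tyN_zero hr h1
  have h3 := pcodeG_mod g.1 hn 1 ds' 0
  rw [← h2, ha, zero_add, pow_one] at h3
  apply Subtype.ext
  exact eq_one_of_fixC h3.symm

/-- the type of an element from a function that computes it. -/
theorem ty_val (codes ds : List ℕ) (r : ℕ) {g : ↥(GS h)} {f : ℕ → ℕ} (hg : Comp g.1 f) :
    (ty h codes ds r g).val = tyN codes ds r (pcodeF f D.n ds) := by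
  unfold ty
  rw [pcodeF_eq hg]

/-! ### tables from the leaves -/

/-- the function of a leaf. -/
def TLf (D : Dat) (leaf : ℕ) : ℕ → ℕ := fun x => lkF D.bits D.msk leaf x

theorem T_eq_TLf {k : ℕ} (hk : k < D.K) : T D k = TLf D (tget D.tree k) := by
  funext x
  unfold T TLf
  have : ltB k D.K = true := Nat.ble_eq_true_of_le hk
  rw [this]

theorem comp_leaf {k : ℕ} (hk : k < D.K) : Comp (gE h k).1 (TLf D (tget D.tree k)) := by
  rw [← T_eq_TLf hk]
  exact comp_gE h k

/-! ### the lists of square roots -/

/-- the key of a table: its values at the points of a list. -/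
def keyF (D : Dat) (leaf : ℕ) (bs : List ℕ) : ℕ :=
  List.rec (motive := fun _ => ℕ → ℕ) (fun acc => acc)
    (fun b _ ih acc => ih (Nat.add (Nat.mul acc 256) (TLf D leaf b))) bs 0

/-- the check of a list of tables: the tables are in the range, their squares are the table `z`,
and their keys increase from `lo` to below `hi`. -/
def rootChk (D : Dat) (bs : List ℕ) (lz : ℕ) (L : List ℕ) (lo hi : ℕ) : Bool :=
  List.rec (motive := fun _ => ℕ → Bool) (fun lo => Nat.ble lo hi)
    (fun k _ ih lo => andB (ltB k D.K) (sapp (fun lu =>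
      andB (allB (fun x => Nat.beq (TLf D lu (TLf D lu x)) (TLf D lz x)) D.n)
        (sapp (fun key => andB (Nat.ble lo key) (ih (Nat.succ key))) (keyF D lu bs)))
      (tget D.tree k))) L lo

theorem rootChk_nil (bs : List ℕ) (lz lo hi : ℕ) :
    rootChk D bs lz [] lo hi = Nat.ble lo hi := rfl

theorem rootChk_cons (bs : List ℕ) (lz k : ℕ) (L : List ℕ) (lo hi : ℕ) :
    rootChk D bs lz (k :: L) lo hi = andB (ltB k D.K)
      (andB (allB (fun x => Nat.beq (TLf D (tget D.tree k) (TLf D (tget D.tree k) x))
        (TLf D lz x)) D.n)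
      (andB (Nat.ble lo (keyF D (tget D.tree k) bs))
        (rootChk D bs lz L (Nat.succ (keyF D (tget D.tree k) bs)) hi))) := by
  show andB (ltB k D.K) (sapp _ (tget D.tree k)) = _
  rw [sapp_eq]
  show andB (ltB k D.K) (andB _ (sapp _ (keyF D (tget D.tree k) bs))) = _
  rw [sapp_eq]
  rfl

theorem rootChk_append (bs : List ℕ) (lz : ℕ) (L L' : List ℕ) (lo mid hi : ℕ)
    (h1 : rootChk D bs lz L lo mid = true) (h2 : rootChk D bs lz L' mid hi = true) :
    rootChk D bs lz (L ++ L') lo hi = true := by
  induction L generalizing lo with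
  | nil =>
    rw [rootChk_nil] at h1
    have hle : lo ≤ mid := Nat.le_of_ble_eq_true h1
    rw [List.nil_append]
    clear h1
    induction L' generalizing lo mid with
    | nil =>
      rw [rootChk_nil] at h2 ⊢
      exact Nat.ble_eq_true_of_le (le_trans hle (Nat.le_of_ble_eq_true h2))
    | cons k L' _ =>
      rw [rootChk_cons] at h2 ⊢
      obtain ⟨a1, a2⟩ := andB_true h2
      obtain ⟨a3, a4⟩ := andB_true a2
      obtain ⟨a5, a6⟩ := andB_true a4
      rw [a1, a3, a6, Nat.ble_eq_true_of_le (le_trans hle (Nat.le_of_ble_eq_true a5))]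
      rfl
  | cons k L ih =>
    rw [rootChk_cons] at h1
    obtain ⟨a1, a2⟩ := andB_true h1
    obtain ⟨a3, a4⟩ := andB_true a2
    obtain ⟨a5, a6⟩ := andB_true a4
    rw [List.cons_append, rootChk_cons, a1, a3, a5, ih _ a6]
    rfl

theorem keyF_congr {leaf leaf' : ℕ} (bs : List ℕ)
    (hb : ∀ b ∈ bs, TLf D leaf b = TLf D leaf' b) : keyF D leaf bs = keyF D leaf' bs := by
  unfold keyF
  generalize (0 : ℕ) = acc
  induction bs generalizing acc with
  | nil => rfl
  | cons b bs ih =>
    show List.rec (motive := fun _ => ℕ → ℕ) _ _ bs (Nat.add (Nat.mul acc 256) (TLf D leaf b)) =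
      List.rec (motive := fun _ => ℕ → ℕ) _ _ bs (Nat.add (Nat.mul acc 256) (TLf D leaf' b))
    rw [hb b List.mem_cons_self]
    exact ih (fun b' hb' => hb b' (List.mem_cons_of_mem _ hb')) _

variable (bs : List ℕ) (hbs : ∀ b ∈ bs, b < D.n) (kz : ℕ) (hkz : kz < D.K)

include hbs hkz in
/-- what the check of a list gives. -/
theorem rootChk_sound (L : List ℕ) (lo hi : ℕ)
    (hc : rootChk D bs (tget D.tree kz) L lo hi = true) :
    (∀ k ∈ L, gE h k * gE h k = gE h kz) ∧ (L.map (gE h)).Nodup ∧
      ∀ k ∈ L, k < D.K ∧ lo ≤ keyF D (tget D.tree k) bs := by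
  induction L generalizing lo with
  | nil =>
    exact ⟨fun k hk => absurd hk List.not_mem_nil, List.nodup_nil,
      fun k hk => absurd hk List.not_mem_nil⟩
  | cons k L ih =>
    rw [rootChk_cons] at hc
    obtain ⟨a1, a2⟩ := andB_true hc
    obtain ⟨a3, a4⟩ := andB_true a2
    obtain ⟨a5, a6⟩ := andB_true a4
    obtain ⟨i1, i2, i3⟩ := ih _ a6
    have hk : k < D.K := ltB_true a1
    refine ⟨?_, ?_, ?_⟩
    · intro k' hk'
      rcases List.mem_cons.1 hk' with rfl | hk'
      · exact eq_of_allB h (Comp.coe_mul h (comp_leaf h hk) (comp_leaf h hk))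
          (comp_leaf h hkz) a3
      · exact i1 k' hk'
    · rw [List.map_cons, List.nodup_cons]
      refine ⟨?_, i2⟩
      intro hmem
      obtain ⟨k', hk', e⟩ := List.mem_map.1 hmem
      obtain ⟨j1, j2⟩ := i3 k' hk'
      have : keyF D (tget D.tree k') bs = keyF D (tget D.tree k) bs := by
        apply keyF_congr
        intro b hb
        exact Comp.all_of_eq (comp_leaf h j1) (comp_leaf h hk) (congrArg Subtype.val e) (hbs b hb)
      rw [this] at j2
      exact absurd j2 (Nat.not_succ_le_self _)
    · intro k' hk'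
      rcases List.mem_cons.1 hk' with rfl | hk'
      · exact ⟨hk, Nat.le_of_ble_eq_true a5⟩
      · obtain ⟨j1, j2⟩ := i3 k' hk'
        exact ⟨j1, le_trans (le_trans (Nat.le_of_ble_eq_true a5) (Nat.le_succ _)) j2⟩

/-- the parities of the numbers of the tables `u` of a list with `u * s` of each type. -/
def parF (D : Dat) (codes ds : List ℕ) (r : ℕ) (ls : ℕ) (L : List ℕ) : ℕ :=
  parL (fun k => sapp (fun lu => tyN codes ds r
    (pcodeF (fun x => TLf D lu (TLf D ls x)) D.n ds)) (tget D.tree k)) L

theorem parF_append (codes ds : List ℕ) (r ls : ℕ) (L L' : List ℕ) :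
    parF D codes ds r ls (L ++ L') = parF D codes ds r ls L ^^^ parF D codes ds r ls L' :=
  parL_append _ L L'

include hbs hkz in
/-- **the count of the roots**: from the check of the list, its length, and the parities. -/
theorem even_roots (codes ds : List ℕ) (r : ℕ) (ks : ℕ) (hks : ks < D.K) (L : List ℕ)
    (lo hi : ℕ) (hc : rootChk D bs (tget D.tree kz) L lo hi = true)
    (hlen : L.length = (sqrts (gE h kz)).card) (i : Fin (r + 1))
    (hbit : (parF D codes ds r (tget D.tree ks) L).testBit i.val = false) :
    Even ((sqrts (gE h kz)).filter (fun u => ty h codes ds r (u * gE h ks) = i)).card := by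
  obtain ⟨h1, h2, h3⟩ := rootChk_sound h bs hbs kz hkz L lo hi hc
  rw [card_filter_sqrts (gE h kz) (L.map (gE h)) h2 (by
      intro u hu
      obtain ⟨k, hk, rfl⟩ := List.mem_map.1 hu
      exact h1 k hk) (by rw [List.length_map, hlen])]
  rw [List.countP_map]
  have hev := even_of_testBit _ L i.val hbit
  have e : L.countP ((fun u => decide (ty h codes ds r (u * gE h ks) = i)) ∘ gE h) =
      L.countP (fun k => decide (sapp (fun lu => tyN codes ds r
        (pcodeF (fun x => TLf D lu (TLf D (tget D.tree ks) x)) D.n ds)) (tget D.tree k) = i.val)) := by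
    apply List.countP_congr
    intro k hk
    have hkK := (h3 k hk).1
    simp only [Function.comp, decide_eq_true_eq]
    rw [sapp_eq, ← ty_val h codes ds r (Comp.coe_mul h (comp_leaf h hkK) (comp_leaf h hks))]
    exact Fin.ext_iff
  rw [e]
  exact hev

end Cfsg.Agent.Helper3.BlkRoots

end
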