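import Mathlib
import Cfsg.Agent.Helper3.BlkRoots
import Cfsg.Agent.Helper3.BlkCrit
import Cfsg.Agent.Helper9.OutG.SpecMain

set_option autoImplicit false

/-!
Consequences of the certificate of a type of cyclic subgroups, in the form needed for the cover of
the group by the types and for the criterion for a single 2-block.
-/

noncomputable section

namespace Cfsg.Agent.Helper3.BlkAsm

open Cfsg.Agent.Helper9.OutG Cfsg.Agent.Helper9.J3 Cfsg.Agent.Helper3.BlkInv
  Cfsg.Agent.Helper3.BlkCover Cfsg.Agent.Helper3.BlkRoots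

variable {D : Dat} {C : ChainD} {N : ℕ} (h : Core D C N) (hN : Nat.card ↥(GS h) = N)
  (hbs : ∀ b ∈ C.bs, b < D.n) {t : TypeD} (ht : TypeOK D C t)

include ht in
/-- the powers of the representative. -/
theorem pow_of_type (j : ℕ) : gE h t.ky ^ j = gE h (nthN t.ks (j % t.o)) := by
  rw [← type_pow h ht (Nat.mod_lt _ ht.hpos), ← type_order h ht, pow_mod_orderOf]

include ht in
theorem one_of_type : gE h (nthN t.ks 0) = 1 := by
  rw [← type_pow h ht ht.hpos, pow_zero]

include ht in
theorem sq_of_type : gE h t.ky * gE h t.ky = gE h (nthN t.ks (2 % t.o)) := by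
  rw [← pow_two, pow_of_type h ht]

include ht in
theorem inv_pow_of_type (e : ℕ) (he : e ≤ t.o) :
    (gE h t.ky ^ e)⁻¹ = gE h (nthN t.ks ((t.o - e) % t.o)) := by
  rw [← pow_of_type h ht, inv_eq_iff_mul_eq_one, ← pow_add, Nat.add_sub_cancel' he,
    ← type_order h ht, pow_orderOf_eq_one]

include hN hbs ht in
/-- the bound for the cover. -/
theorem nu_of_type (ho1 : 1 < t.o) (m : ℕ) (hm : t.nu * m = N * Nat.totient t.o) :
    1 < orderOf (gE h t.ky) ∧
      {g : ↥(GS h) | ∃ j : ℕ, j < orderOf (gE h t.ky) ∧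
        g * gE h t.ky = gE h t.ky ^ j * g}.ncard ≤ t.nu ∧
      t.nu * m = Nat.card ↥(GS h) * Nat.totient (orderOf (gE h t.ky)) := by
  rw [type_order h ht, hN]
  exact ⟨ho1, type_norm h hN hbs ht, hm⟩

include ht in
/-- the generators of the cyclic group of the representative are conjugate to it or to its
inverse. -/
theorem rat_of_type (kc r : ℕ) (hr : r < t.o)
    (hcj : allB (fun x => Nat.beq (T D kc (T D t.ky x)) (T D (nthN t.ks r) (T D kc x))) D.n = true)
    (hA : ∀ k : ℕ, k < t.o → Nat.Coprime k t.o →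
      ∃ j : ℕ, j < t.o ∧ (k % t.o = r ^ j % t.o ∨ (k + r ^ j) % t.o = 0))
    (k : ℕ) (hk : Nat.Coprime k (orderOf (gE h t.ky))) :
    IsConj (gE h t.ky) (gE h t.ky ^ k) ∨ IsConj (gE h t.ky)⁻¹ (gE h t.ky ^ k) := by
  rw [type_order h ht] at hk
  apply rat_of_conj (gE h t.ky) (gE h kc) r t.o ht.hpos (type_order h ht) _ (fun k' h1 h2 => by
    obtain ⟨j, _, hj⟩ := hA k' h1 h2
    exact ⟨j, hj⟩) k hk
  rw [mul_inv_eq_iff_eq_mul, type_pow h ht hr]
  exact eq_of_allB h (Comp.coe_mul h (comp_gE h _) (comp_gE h _))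
    (Comp.coe_mul h (comp_gE h _) (comp_gE h _)) hcj

/-- the type of the element of a table from the check. -/
theorem ty_of_chk (codes ds : List ℕ) (r k i : ℕ) (hi : i < r + 1)
    (hc : Nat.beq (tyN codes ds r (pcodeF (T D k) D.n ds)) i = true) :
    ty h codes ds r (gE h k) = ⟨i, hi⟩ := by
  apply Fin.ext
  rw [ty_val h codes ds r (comp_gE h k)]
  exact Nat.eq_of_beq_eq_true hc

end Cfsg.Agent.Helper3.BlkAsm

end
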