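import Mathlib
import Cfsg.Agent.Helper9.OutG.Grp
import Cfsg.Agent.Helper9.Golay.Tbl

set_option autoImplicit false

/-!
A group of permutations given by tables, whose letters preserve the first 24 points and whose
elements are determined by their action on these points, as a group of permutations of the 24 points
of the Golay code.
-/

noncomputable section

namespace Cfsg.Agent.Helper3.BlkBridge

open Cfsg Cfsg.Agent.Helper9.OutG Cfsg.Agent.Helper9.J3 Cfsg.Agent.Helper9.Golay

variable {D : Dat} {C : ChainD} {N : ℕ} (h : Core D C N)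

/-- a property of permutations that holds for the letters and is kept by products holds for all
elements of the group. -/
theorem forall_mem_GS (P : Equiv.Perm (Fin D.n) → Prop) (h1 : P 1)
    (hmul : ∀ a b, P a → P b → P (a * b))
    (hL : ∀ l, l < D.L → P (El D h.tab l)) : ∀ g ∈ GS h, P g := by
  have hpow : ∀ (a : Equiv.Perm (Fin D.n)), P a → ∀ k : ℕ, P (a ^ k) := by
    intro a ha k
    induction k with
    | zero => rw [pow_zero]; exact h1
    | succ k ih => rw [pow_succ]; exact hmul _ _ ih ha
  intro g hg
  refine Subgroup.closure_induction (p := fun y _ => P y) ?_ h1 ?_ ?_ hg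
  · rintro y ⟨l, rfl⟩
    exact hL l.val l.isLt
  · intro a b _ _ ha hb
    exact hmul a b ha hb
  · intro a _ ha
    have ho : 0 < orderOf a := orderOf_pos a
    have e : a⁻¹ = a ^ (orderOf a - 1) := by
      rw [inv_eq_iff_mul_eq_one, ← pow_succ', Nat.sub_add_cancel ho, pow_orderOf_eq_one]
    rw [e]
    exact hpow a ha _

variable (hn : 24 ≤ D.n)

/-- the permutations that preserve the first 24 points. -/
def Pres (g : Equiv.Perm (Fin D.n)) : Prop := ∀ x : Fin D.n, x.val < 24 → (g x).val < 24

variable (hL : ∀ l, l < D.L → ∀ x, x < 24 → T D l x < 24)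

include hL in
theorem pres_mem : ∀ g ∈ GS h, Pres g := by
  apply forall_mem_GS h Pres
  · intro x hx
    exact hx
  · intro a b ha hb x hx
    rw [Equiv.Perm.mul_apply]
    exact ha _ (hb x hx)
  · intro l hl x hx
    rw [El_apply]
    exact hL l hl x.val hx

/-- the point of `Fin D.n` of a point of the Golay code. -/
def ptFin (p : GolayPt) : Fin D.n := ⟨ptIdx p, lt_of_lt_of_le (ptIdx_lt p) hn⟩

/-- the action of an element on the points of the Golay code. -/
def resFun (g : Equiv.Perm (Fin D.n)) (p : GolayPt) : GolayPt := idxPtN (g (ptFin hn p)).val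

theorem resFun_mul (a b : Equiv.Perm (Fin D.n)) (hb : Pres b) (p : GolayPt) :
    resFun hn (a * b) p = resFun hn a (resFun hn b p) := by
  unfold resFun
  rw [Equiv.Perm.mul_apply]
  congr 3
  apply Fin.ext
  unfold ptFin
  have := hb (ptFin hn p) (ptIdx_lt p)
  change (b (ptFin hn p)).val = ptIdx (idxPtN (b (ptFin hn p)).val)
  rw [ptIdx_idxPtN this]

theorem resFun_one (p : GolayPt) : resFun hn (1 : Equiv.Perm (Fin D.n)) p = p := by
  unfold resFun
  change idxPtN (ptIdx p) = p
  exact idxPtN_ptIdx p

/-- the restriction to the points of the Golay code. -/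
def res : ↥(GS h) →* Equiv.Perm GolayPt where
  toFun g :=
    { toFun := resFun hn g.1
      invFun := resFun hn (g⁻¹).1
      left_inv := by
        intro p
        rw [← resFun_mul hn _ _ (pres_mem h hL g.1 g.2), Subgroup.coe_inv, inv_mul_cancel,
          resFun_one]
      right_inv := by
        intro p
        rw [← resFun_mul hn _ _ (pres_mem h hL _ (g⁻¹).2), Subgroup.coe_inv, mul_inv_cancel,
          resFun_one] }
  map_one' := by
    apply Equiv.ext
    intro p
    exact resFun_one hn p
  map_mul' := by
    intro a b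
    apply Equiv.ext
    intro p
    exact resFun_mul hn _ _ (pres_mem h hL b.1 b.2) p

theorem res_apply (g : ↥(GS h)) (p : GolayPt) : res h hn hL g p = idxPtN (g.1 (ptFin hn p)).val :=
  rfl

/-- the restriction of a table that agrees with the table of a permutation of the points. -/
theorem res_gE {σ : Equiv.Perm GolayPt} {t : List ℕ} (ht : IsTbl σ t) (k : ℕ)
    (hk : ∀ x, x < 24 → T D k x = t.getD x 0) : res h hn hL (gE h k) = σ := by
  apply Equiv.ext
  intro p
  rw [res_apply]
  have h1 : ((gE h k).1 (ptFin hn p)).val = T D k (ptIdx p) := comp_gE h k (ptFin hn p)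
  rw [h1, hk _ (ptIdx_lt p), ht.2 p, idxPtN_ptIdx]

/-- the letters generate the group. -/
theorem closure_letters :
    Subgroup.closure (Set.range fun l : Fin D.L => gE h l.val) = (⊤ : Subgroup ↥(GS h)) := by
  have h1 := Subgroup.closure_closure_coe_preimage
    (k := Set.range fun l : Fin D.L => El D h.tab l.val)
  have h2 : ((↑) : ↥(GS h) → Equiv.Perm (Fin D.n)) ⁻¹'
      (Set.range fun l : Fin D.L => El D h.tab l.val) =
      Set.range fun l : Fin D.L => gE h l.val := by
    ext x
    constructor
    · rintro ⟨l, hl⟩
      exact ⟨l, Subtype.ext hl⟩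
    · rintro ⟨l, rfl⟩
      exact ⟨l, rfl⟩
  rw [← h2]
  exact h1

/-- the image of the restriction. -/
theorem range_res : (res h hn hL).range =
    Subgroup.closure (Set.range fun l : Fin D.L => res h hn hL (gE h l.val)) := by
  rw [MonoidHom.range_eq_map, ← closure_letters h, MonoidHom.map_closure]
  congr 1
  ext σ
  constructor
  · rintro ⟨x, ⟨l, rfl⟩, rfl⟩
    exact ⟨l, rfl⟩
  · rintro ⟨l, rfl⟩
    exact ⟨_, ⟨l, rfl⟩, rfl⟩

/-- when the elements are determined by their action on the first 24 points, the group is the image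
of the restriction. -/
def equivOfFaithful (S : Subgroup (Equiv.Perm GolayPt))
    (hS : Subgroup.closure (Set.range fun l : Fin D.L => res h hn hL (gE h l.val)) = S)
    (hF : ∀ g : ↥(GS h), (∀ x : Fin D.n, x.val < 24 → g.1 x = x) → g = 1) : ↥(GS h) ≃* ↥S :=
  MulEquiv.ofBijective ((res h hn hL).codRestrict S (by
    intro g
    rw [← hS, ← range_res]
    exact ⟨g, rfl⟩)) (by
    constructor
    · rw [injective_iff_map_eq_one]
      intro g hg
      apply hF
      intro x hx
      have h1 : res h hn hL g = 1 := congrArg Subtype.val hg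
      have h2 := congrArg (fun σ : Equiv.Perm GolayPt => σ (idxPtN x.val)) h1
      simp only [Equiv.Perm.one_apply] at h2
      rw [res_apply] at h2
      have e : ptFin hn (idxPtN x.val) = x := by
        apply Fin.ext
        exact ptIdx_idxPtN hx
      rw [e] at h2
      have h3 := pres_mem h hL g.1 g.2 x hx
      apply Fin.ext
      exact idxPtN_injOn h3 hx h2
    · rintro ⟨σ, hσ⟩
      rw [← hS, ← range_res] at hσ
      obtain ⟨g, rfl⟩ := hσ
      exact ⟨g, rfl⟩)

end Cfsg.Agent.Helper3.BlkBridge

end
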