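import Mathlib
import Cfsg.Agent.Helper9.OutG.Spec

set_option autoImplicit false

/-!
The count of the leaves of the search for the conjugating elements, cut into the branches of the
first level, so that the kernel can check the branches one by one.
-/

noncomputable section

namespace Cfsg.Agent.Helper3.BlkCnt

open Cfsg.Agent.Helper9.OutG Cfsg.Agent.Helper9.J3

variable (D : Dat)

/-- the number of the leaves of the branch of a word of the first level. -/
def brF (yf yf' : ℕ → ℕ) (allbs : List ℕ) (rel : List (ℕ × ℕ)) (β : ℕ) (bs : List ℕ)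
    (wss : List (List (List ℕ))) (w : List ℕ) : ℕ :=
  sapp (fun z => Bool.rec 0
    (cntF D yf yf' allbs rel bs wss (fun x => (fun x => x) (evalT D w x)) (Nat.succ 0) (z :: []))
    (prR yf' rel (Nat.succ 0) (z :: []))) ((fun x => x) (evalT D w β))

theorem stepF_cons' (yf' : ℕ → ℕ) (rel : List (ℕ × ℕ)) (β : ℕ)
    (nxt : (ℕ → ℕ) → ℕ → List ℕ → ℕ) (fu : ℕ → ℕ) (len : ℕ) (imgsR : List ℕ)
    (w : List ℕ) (ws : List (List ℕ)) :
    stepF D yf' rel β nxt fu len imgsR (w :: ws) =
      Nat.add (sapp (fun z => Bool.rec 0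
        (nxt (fun x => fu (evalT D w x)) (Nat.succ len) (z :: imgsR))
        (prR yf' rel (Nat.succ len) (z :: imgsR))) (fu (evalT D w β)))
        (stepF D yf' rel β nxt fu len imgsR ws) := rfl

theorem cntF_top (yf yf' : ℕ → ℕ) (allbs : List ℕ) (rel : List (ℕ × ℕ)) (β : ℕ) (bs : List ℕ)
    (ws : List (List ℕ)) (wss : List (List (List ℕ))) :
    cntF D yf yf' allbs rel (β :: bs) (ws :: wss) (fun x => x) 0 [] =
      (ws.map (brF D yf yf' allbs rel β bs wss)).sum := by
  change stepF D yf' rel β (cntF D yf yf' allbs rel bs wss) (fun x => x) 0 [] ws = _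
  induction ws with
  | nil => rfl
  | cons w ws ih =>
    rw [stepF_cons', List.map_cons, List.sum_cons, ih]
    rfl

/-- the count from the counts of the branches. -/
theorem cntF_of_branches (yf yf' : ℕ → ℕ) (allbs : List ℕ) (rel : List (ℕ × ℕ))
    (bs0 : List ℕ) (wss0 : List (List (List ℕ))) (β : ℕ) (bs : List ℕ)
    (ws : List (List ℕ)) (wss : List (List (List ℕ))) (hb : bs0 = β :: bs) (hw : wss0 = ws :: wss)
    (cs : List ℕ) (hl : cs.length = ws.length)
    (h : ∀ i, i < ws.length → brF D yf yf' allbs rel β bs wss (ws.getD i []) = cs.getD i 0) :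
    cntF D yf yf' allbs rel bs0 wss0 (fun x => x) 0 [] = cs.sum := by
  subst hb hw
  rw [cntF_top]
  congr 1
  apply List.ext_getElem
  · rw [List.length_map, hl]
  · intro i h1 h2
    rw [List.getElem_map]
    rw [List.length_map] at h1
    have := h i h1
    rw [List.getD_eq_getElem _ _ h1, List.getD_eq_getElem _ _ h2] at this
    exact this

/-- the check of the count of a type of involutions from the count of the centralizer. -/
theorem hcnt_two (C : ChainD) (t : TypeD) (ho : t.o = 2) (c : ℕ)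
    (hc : cntF D (T D t.ky) (T D (nthN t.ks 1)) C.bs t.rel C.bs C.wss (fun x => x) 0 [] = c)
    (hle : c ≤ t.nu) :
    Nat.ble (sumF (fun j => ifz (Nat.sub (Nat.gcd j t.o) 1)
      (cntF D (T D t.ky) (T D (nthN t.ks j)) C.bs t.rel C.bs C.wss (fun x => x) 0 []) 0) t.o)
      t.nu = true := by
  rw [ho]
  apply Nat.ble_eq_true_of_le
  rw [show (2 : ℕ) = 1 + 1 from rfl, sumF_succ, sumF_succ]
  have h0 : ifz (Nat.sub (Nat.gcd 0 (1 + 1)) 1)
      (cntF D (T D t.ky) (T D (nthN t.ks 0)) C.bs t.rel C.bs C.wss (fun x => x) 0 []) 0 = 0 := rfl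
  have h1 : ifz (Nat.sub (Nat.gcd 1 (1 + 1)) 1)
      (cntF D (T D t.ky) (T D (nthN t.ks 1)) C.bs t.rel C.bs C.wss (fun x => x) 0 []) 0 =
      cntF D (T D t.ky) (T D (nthN t.ks 1)) C.bs t.rel C.bs C.wss (fun x => x) 0 [] := rfl
  show ifz (Nat.sub (Nat.gcd (0 + 1) (1 + 1)) 1)
      (cntF D (T D t.ky) (T D (nthN t.ks (0 + 1))) C.bs t.rel C.bs C.wss (fun x => x) 0 []) 0 +
    (ifz (Nat.sub (Nat.gcd 0 (1 + 1)) 1)
      (cntF D (T D t.ky) (T D (nthN t.ks 0)) C.bs t.rel C.bs C.wss (fun x => x) 0 []) 0 +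
      sumF _ 0) ≤ t.nu
  rw [h0]
  have h1' : ifz (Nat.sub (Nat.gcd (0 + 1) (1 + 1)) 1)
      (cntF D (T D t.ky) (T D (nthN t.ks (0 + 1))) C.bs t.rel C.bs C.wss (fun x => x) 0 []) 0 =
      cntF D (T D t.ky) (T D (nthN t.ks 1)) C.bs t.rel C.bs C.wss (fun x => x) 0 [] := h1
  rw [h1', hc]
  show c + (0 + 0) ≤ t.nu
  omega

end Cfsg.Agent.Helper3.BlkCnt

end
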