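import Mathlib
import Cfsg.Agent.Helper3.BlkRoots

set_option autoImplicit false

/-!
A store of elements of a group of permutations given by tables: a tree of packed tables, each with a
letter, a depth and a parent, the table being the conjugate of the table of the parent by the letter
(or, at depth zero, a table of the group); and the lists of square roots taken from a store.
-/

noncomputable section

namespace Cfsg.Agent.Helper3.BlkStore

open Cfsg.Agent.Helper9.OutG Cfsg.Agent.Helper9.J3 Cfsg.Agent.Helper3.BlkInv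
  Cfsg.Agent.Helper3.BlkCover Cfsg.Agent.Helper3.BlkRoots

/-- the data of a store: the tree of the leaves, the number of the entries, and the position of the
fields behind the packed table. -/
structure StoreD where
  /-- the tree of the leaves. -/
  tree : NTree
  /-- the number of the entries. -/
  c : ℕ
  /-- the position of the fields behind the packed table. -/
  sh : ℕ

/-- the letter of a leaf. -/
def sLet (S : StoreD) (leaf : ℕ) : ℕ := Nat.land (Nat.shiftRight leaf S.sh) 7

/-- the depth of a leaf. -/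
def sDep (S : StoreD) (leaf : ℕ) : ℕ := Nat.land (Nat.shiftRight leaf (Nat.add S.sh 3)) 255

/-- the parent of a leaf. -/
def sPar (S : StoreD) (leaf : ℕ) : ℕ := Nat.shiftRight leaf (Nat.add S.sh 11)

/-- the check of an entry. -/
def entChk (D : Dat) (S : StoreD) (j : ℕ) : Bool :=
  sapp (fun leaf => ifz (sDep S leaf)
    (allB (fun x => Nat.beq (TLf D leaf x) (T D (sPar S leaf) x)) D.n)
    (andB (ltB (sPar S leaf) S.c) (sapp (fun pleaf => andB (ltB (sDep S pleaf) (sDep S leaf))
      (allB (fun x => Nat.beq (TLf D leaf x)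
        (T D (sLet S leaf) (TLf D pleaf (T D (ivI D (sLet S leaf)) x)))) D.n))
      (tget S.tree (sPar S leaf))))) (tget S.tree j)

theorem entChk_eq (D : Dat) (S : StoreD) (j : ℕ) :
    entChk D S j = ifz (sDep S (tget S.tree j))
      (allB (fun x => Nat.beq (TLf D (tget S.tree j) x) (T D (sPar S (tget S.tree j)) x)) D.n)
      (andB (ltB (sPar S (tget S.tree j)) S.c)
        (andB (ltB (sDep S (tget S.tree (sPar S (tget S.tree j)))) (sDep S (tget S.tree j)))
          (allB (fun x => Nat.beq (TLf D (tget S.tree j) x)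
            (T D (sLet S (tget S.tree j)) (TLf D (tget S.tree (sPar S (tget S.tree j)))
              (T D (ivI D (sLet S (tget S.tree j))) x)))) D.n))) := by
  unfold entChk
  rw [sapp_eq, sapp_eq]

variable {D : Dat} {C : ChainD} {N : ℕ} (h : Core D C N)

theorem comp_congr {g : Equiv.Perm (Fin D.n)} {f f' : ℕ → ℕ} (hg : Comp g f)
    (hf : ∀ x, x < D.n → f' x = f x) : Comp g f' := by
  intro x
  rw [hg x, hf x.val x.isLt]

/-- the entries of a checked store are tables of elements of the group. -/
theorem exists_of_entChk (S : StoreD) (hS : ∀ j, j < S.c → entChk D S j = true) :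
    ∀ d j : ℕ, j < S.c → sDep S (tget S.tree j) = d →
      ∃ g : ↥(GS h), Comp g.1 (TLf D (tget S.tree j)) := by
  intro d
  induction d using Nat.strong_induction_on with
  | _ d ih =>
    intro j hj hd
    have hc := hS j hj
    rw [entChk_eq] at hc
    by_cases h0 : sDep S (tget S.tree j) = 0
    · rw [h0, ifz_zero] at hc
      refine ⟨gE h (sPar S (tget S.tree j)), ?_⟩
      apply comp_congr (comp_gE h _)
      intro x hx
      exact Nat.eq_of_beq_eq_true (allB_true hc hx)
    · rw [ifz_pos h0] at hc
      obtain ⟨c1, c2⟩ := andB_true hc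
      obtain ⟨c3, c4⟩ := andB_true c2
      obtain ⟨gp, hgp⟩ := ih _ (by rw [← hd]; exact ltB_true c3) _ (ltB_true c1) rfl
      refine ⟨gE h (sLet S (tget S.tree j)) * gp * gE h (ivI D (sLet S (tget S.tree j))), ?_⟩
      apply comp_congr (Comp.coe_mul h (Comp.coe_mul h (comp_gE h _) hgp) (comp_gE h _))
      intro x hx
      exact Nat.eq_of_beq_eq_true (allB_true c4 hx)

/-- the element of an entry of a checked store. -/
def sE (S : StoreD) (hS : ∀ j, j < S.c → entChk D S j = true) (j : ℕ) : ↥(GS h) :=
  if hj : j < S.c then Classical.choose (exists_of_entChk h S hS _ j hj rfl) else 1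

theorem comp_sE (S : StoreD) (hS : ∀ j, j < S.c → entChk D S j = true) {j : ℕ} (hj : j < S.c) :
    Comp (sE h S hS j).1 (TLf D (tget S.tree j)) := by
  unfold sE
  rw [dif_pos hj]
  exact Classical.choose_spec (exists_of_entChk h S hS _ j hj rfl)

/-! ### ranges -/

/-- the list of the numbers from `j0`, `cnt` of them. -/
def rangeL (j0 cnt : ℕ) : List ℕ :=
  Nat.rec (motive := fun _ => ℕ → List ℕ) (fun _ => []) (fun _ ih j => j :: ih (Nat.succ j)) cnt j0

theorem rangeL_zero (j0 : ℕ) : rangeL j0 0 = [] := rfl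

theorem rangeL_succ (j0 cnt : ℕ) : rangeL j0 (cnt + 1) = j0 :: rangeL (j0 + 1) cnt := rfl

theorem length_rangeL (j0 cnt : ℕ) : (rangeL j0 cnt).length = cnt := by
  induction cnt generalizing j0 with
  | zero => rfl
  | succ cnt ih => rw [rangeL_succ, List.length_cons, ih]

theorem rangeL_add (j0 a b : ℕ) : rangeL j0 (a + b) = rangeL j0 a ++ rangeL (j0 + a) b := by
  induction a generalizing j0 with
  | zero => simp [rangeL_zero]
  | succ a ih =>
    have e : a + 1 + b = (a + b) + 1 := by omega
    rw [e, rangeL_succ, rangeL_succ, ih, List.cons_append]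
    congr 3
    omega

/-! ### lists of square roots from a store -/

variable (lf : ℕ → ℕ) (Kb : ℕ) (el : ℕ → ↥(GS h))
  (hcomp : ∀ k, k < Kb → Comp (el k).1 (TLf D (lf k)))

/-- the check of a list of entries: the entries are in the range, their squares are the table `z`,
and their keys increase from `lo` to below `hi`. -/
def rootChkG (D : Dat) (lf : ℕ → ℕ) (Kb : ℕ) (bs : List ℕ) (lz : ℕ) (L : List ℕ) (lo hi : ℕ) :
    Bool :=
  List.rec (motive := fun _ => ℕ → Bool) (fun lo => Nat.ble lo hi)
    (fun k _ ih lo => andB (ltB k Kb) (sapp (fun lu =>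
      andB (allB (fun x => Nat.beq (TLf D lu (TLf D lu x)) (TLf D lz x)) D.n)
        (sapp (fun key => andB (Nat.ble lo key) (ih (Nat.succ key))) (keyF D lu bs)))
      (lf k))) L lo

theorem rootChkG_nil (bs : List ℕ) (lz lo hi : ℕ) :
    rootChkG D lf Kb bs lz [] lo hi = Nat.ble lo hi := rfl

theorem rootChkG_cons (bs : List ℕ) (lz k : ℕ) (L : List ℕ) (lo hi : ℕ) :
    rootChkG D lf Kb bs lz (k :: L) lo hi = andB (ltB k Kb)
      (andB (allB (fun x => Nat.beq (TLf D (lf k) (TLf D (lf k) x)) (TLf D lz x)) D.n)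
      (andB (Nat.ble lo (keyF D (lf k) bs))
        (rootChkG D lf Kb bs lz L (Nat.succ (keyF D (lf k) bs)) hi))) := by
  show andB (ltB k Kb) (sapp _ (lf k)) = _
  rw [sapp_eq]
  show andB (ltB k Kb) (andB _ (sapp _ (keyF D (lf k) bs))) = _
  rw [sapp_eq]
  rfl

theorem rootChkG_append (bs : List ℕ) (lz : ℕ) (L L' : List ℕ) (lo mid hi : ℕ)
    (h1 : rootChkG D lf Kb bs lz L lo mid = true) (h2 : rootChkG D lf Kb bs lz L' mid hi = true) :
    rootChkG D lf Kb bs lz (L ++ L') lo hi = true := by
  induction L generalizing lo with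
  | nil =>
    rw [rootChkG_nil] at h1
    have hle : lo ≤ mid := Nat.le_of_ble_eq_true h1
    rw [List.nil_append]
    clear h1
    induction L' generalizing lo mid with
    | nil =>
      rw [rootChkG_nil] at h2 ⊢
      exact Nat.ble_eq_true_of_le (le_trans hle (Nat.le_of_ble_eq_true h2))
    | cons k L' _ =>
      rw [rootChkG_cons] at h2 ⊢
      obtain ⟨a1, a2⟩ := andB_true h2
      obtain ⟨a3, a4⟩ := andB_true a2
      obtain ⟨a5, a6⟩ := andB_true a4
      rw [a1, a3, a6, Nat.ble_eq_true_of_le (le_trans hle (Nat.le_of_ble_eq_true a5))]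
      rfl
  | cons k L ih =>
    rw [rootChkG_cons] at h1
    obtain ⟨a1, a2⟩ := andB_true h1
    obtain ⟨a3, a4⟩ := andB_true a2
    obtain ⟨a5, a6⟩ := andB_true a4
    rw [List.cons_append, rootChkG_cons, a1, a3, a5, ih _ a6]
    rfl

/-- the check of a range from the checks of its parts. -/
theorem rootChkG_chunks (bs : List ℕ) (lz B : ℕ) (bd : ℕ → ℕ) (nq : ℕ)
    (hq : ∀ q, q < nq → rootChkG D lf Kb bs lz (rangeL (q * B) B) (bd q) (bd (q + 1)) = true) :
    rootChkG D lf Kb bs lz (rangeL 0 (nq * B)) (bd 0) (bd nq) = true := by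
  induction nq with
  | zero =>
    rw [Nat.zero_mul, rangeL_zero, rootChkG_nil]
    exact Nat.ble_eq_true_of_le le_rfl
  | succ nq ih =>
    rw [Nat.succ_mul, rangeL_add, Nat.zero_add]
    exact rootChkG_append lf Kb bs lz _ _ _ _ _ (ih (fun q hq' => hq q (by omega)))
      (hq nq (by omega))

variable (bs : List ℕ) (hbs : ∀ b ∈ bs, b < D.n) (kz : ℕ) (hkz : kz < D.K)

include hcomp hbs hkz in
/-- what the check of a list gives. -/
theorem rootChkG_sound (L : List ℕ) (lo hi : ℕ)
    (hc : rootChkG D lf Kb bs (tget D.tree kz) L lo hi = true) :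
    (∀ k ∈ L, el k * el k = gE h kz) ∧ (L.map el).Nodup ∧
      ∀ k ∈ L, k < Kb ∧ lo ≤ keyF D (lf k) bs := by
  induction L generalizing lo with
  | nil =>
    exact ⟨fun k hk => absurd hk List.not_mem_nil, List.nodup_nil,
      fun k hk => absurd hk List.not_mem_nil⟩
  | cons k L ih =>
    rw [rootChkG_cons] at hc
    obtain ⟨a1, a2⟩ := andB_true hc
    obtain ⟨a3, a4⟩ := andB_true a2
    obtain ⟨a5, a6⟩ := andB_true a4
    obtain ⟨i1, i2, i3⟩ := ih _ a6
    have hk : k < Kb := ltB_true a1
    refine ⟨?_, ?_, ?_⟩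
    · intro k' hk'
      rcases List.mem_cons.1 hk' with rfl | hk'
      · exact eq_of_allB h (Comp.coe_mul h (hcomp _ hk) (hcomp _ hk)) (comp_leaf h hkz) a3
      · exact i1 k' hk'
    · rw [List.map_cons, List.nodup_cons]
      refine ⟨?_, i2⟩
      intro hmem
      obtain ⟨k', hk', e⟩ := List.mem_map.1 hmem
      obtain ⟨j1, j2⟩ := i3 k' hk'
      have : keyF D (lf k') bs = keyF D (lf k) bs := by
        apply keyF_congr
        intro b hb
        exact Comp.all_of_eq (hcomp _ j1) (hcomp _ hk) (congrArg Subtype.val e) (hbs b hb)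
      rw [this] at j2
      exact absurd j2 (Nat.not_succ_le_self _)
    · intro k' hk'
      rcases List.mem_cons.1 hk' with rfl | hk'
      · exact ⟨hk, Nat.le_of_ble_eq_true a5⟩
      · obtain ⟨j1, j2⟩ := i3 k' hk'
        exact ⟨j1, le_trans (le_trans (Nat.le_of_ble_eq_true a5) (Nat.le_succ _)) j2⟩

/-- the parities of the numbers of the entries `u` of a list with `u * s` of each type. -/
def parG (D : Dat) (lf : ℕ → ℕ) (codes ds : List ℕ) (r : ℕ) (ls : ℕ) (L : List ℕ) : ℕ :=
  parL (fun k => sapp (fun lu => tyN codes ds r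
    (pcodeF (fun x => TLf D lu (TLf D ls x)) D.n ds)) (lf k)) L

theorem parG_append (codes ds : List ℕ) (r ls : ℕ) (L L' : List ℕ) :
    parG D lf codes ds r ls (L ++ L') = parG D lf codes ds r ls L ^^^ parG D lf codes ds r ls L' :=
  parL_append _ L L'

/-- the combination of the parities of the parts of a range. -/
def xorF (f : ℕ → ℕ) (nq : ℕ) : ℕ := Nat.rec 0 (fun q acc => Nat.xor acc (f q)) nq

theorem parG_chunks (codes ds : List ℕ) (r ls B : ℕ) (mk : ℕ → ℕ) (nq : ℕ)
    (hq : ∀ q, q < nq → parG D lf codes ds r ls (rangeL (q * B) B) = mk q) :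
    parG D lf codes ds r ls (rangeL 0 (nq * B)) = xorF mk nq := by
  induction nq with
  | zero =>
    rw [Nat.zero_mul]
    rfl
  | succ nq ih =>
    rw [Nat.succ_mul, rangeL_add, Nat.zero_add, parG_append, ih (fun q hq' => hq q (by omega)),
      hq nq (by omega)]
    rfl

include hcomp hbs hkz in
/-- **the count of the roots**, for a list of entries of a store. -/
theorem even_rootsG (codes ds : List ℕ) (r : ℕ) (ks : ℕ) (hks : ks < D.K) (L : List ℕ)
    (lo hi : ℕ) (hc : rootChkG D lf Kb bs (tget D.tree kz) L lo hi = true)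
    (hlen : L.length = (sqrts (gE h kz)).card) (i : Fin (r + 1))
    (hbit : (parG D lf codes ds r (tget D.tree ks) L).testBit i.val = false) :
    Even ((sqrts (gE h kz)).filter (fun u => ty h codes ds r (u * gE h ks) = i)).card := by
  obtain ⟨h1, h2, h3⟩ := rootChkG_sound h lf Kb el hcomp bs hbs kz hkz L lo hi hc
  rw [card_filter_sqrts (gE h kz) (L.map el) h2 (by
      intro u hu
      obtain ⟨k, hk, rfl⟩ := List.mem_map.1 hu
      exact h1 k hk) (by rw [List.length_map, hlen])]
  rw [List.countP_map]
  have hev := even_of_testBit _ L i.val hbit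
  have e : L.countP ((fun u => decide (ty h codes ds r (u * gE h ks) = i)) ∘ el) =
      L.countP (fun k => decide (sapp (fun lu => tyN codes ds r
        (pcodeF (fun x => TLf D lu (TLf D (tget D.tree ks) x)) D.n ds)) (lf k) = i.val)) := by
    apply List.countP_congr
    intro k hk
    have hkK := (h3 k hk).1
    simp only [Function.comp, decide_eq_true_eq]
    rw [sapp_eq, ← ty_val h codes ds r (Comp.coe_mul h (hcomp _ hkK) (comp_leaf h hks))]
    exact Fin.ext_iff
  rw [e]
  exact hev

end Cfsg.Agent.Helper3.BlkStore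

end
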