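import Mathlib

set_option autoImplicit false

namespace Cfsg.Agent.Helper3.CamHer

open scoped Pointwise

variable {G : Type*} [Group G]

/-- `g` is a 2-element. -/
def T2 (g : G) : Prop := ∃ k : ℕ, g ^ (2 ^ k) = 1

theorem T2_of_orderOf {g : G} (h : ∃ k : ℕ, orderOf g = 2 ^ k) : T2 g := by
  obtain ⟨k, hk⟩ := h
  exact ⟨k, by rw [← hk]; exact pow_orderOf_eq_one g⟩

theorem orderOf_of_T2 {g : G} (h : T2 g) : ∃ k : ℕ, orderOf g = 2 ^ k := by
  obtain ⟨k, hk⟩ := h
  have := orderOf_dvd_of_pow_eq_one hk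
  obtain ⟨j, _, hj⟩ := (Nat.dvd_prime_pow Nat.prime_two).1 this
  exact ⟨j, hj⟩

theorem T2.isPGroup {g : G} (h : T2 g) : IsPGroup 2 (Subgroup.zpowers g) := by
  obtain ⟨k, hk⟩ := orderOf_of_T2 h
  exact IsPGroup.of_card (n := k) (by rw [Nat.card_zpowers, hk])

theorem T2_of_mem {P : Subgroup G} (hP : IsPGroup 2 P) {g : G} (hg : g ∈ P) : T2 g := by
  obtain ⟨k, hk⟩ := hP ⟨g, hg⟩
  refine ⟨k, ?_⟩
  have := congrArg Subtype.val hk
  simpa using this

theorem T2_one : T2 (1 : G) := ⟨0, by simp⟩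

theorem T2.pow {g : G} (h : T2 g) (n : ℕ) : T2 (g ^ n) := by
  obtain ⟨k, hk⟩ := h
  exact ⟨k, by rw [← pow_mul, mul_comm, pow_mul, hk, one_pow]⟩

theorem T2.conj {g : G} (h : T2 g) (a : G) : T2 (a * g * a⁻¹) := by
  obtain ⟨k, hk⟩ := h
  exact ⟨k, by rw [conj_pow, hk]; group⟩

/-- Membership in a conjugate Sylow subgroup. -/
theorem mem_smul_iff (P : Sylow 2 G) (g x : G) :
    x ∈ g • P ↔ g⁻¹ * x * g ∈ P := by
  change x ∈ ((g • P : Sylow 2 G) : Subgroup G) ↔ g⁻¹ * x * g ∈ (P : Subgroup G)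
  rw [Sylow.coe_subgroup_smul, Subgroup.mem_pointwise_smul_iff_inv_smul_mem]
  simp [MulAut.smul_def, mul_assoc]

/-- A 2-element normalising a Sylow 2-subgroup lies in it. -/
theorem mem_of_normalizes [Finite G] (Q : Sylow 2 G) {x : G} (hx : T2 x)
    (hn : x ∈ Subgroup.normalizer ((Q : Subgroup G) : Set G)) : x ∈ Q := by
  have h1 : Subgroup.zpowers x ≤ Subgroup.normalizer ((Q : Subgroup G) : Set G) := by
    rw [Subgroup.zpowers_le]; exact hn
  have h2 : IsPGroup 2 (Subgroup.zpowers x ⊔ (Q : Subgroup G) : Subgroup G) :=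
    IsPGroup.to_sup_of_normal_right' hx.isPGroup Q.isPGroup' h1
  have h3 := Q.is_maximal' h2 le_sup_right
  have h4 : x ∈ Subgroup.zpowers x ⊔ (Q : Subgroup G) :=
    (le_sup_left : Subgroup.zpowers x ≤ _) (Subgroup.mem_zpowers x)
  rw [h3] at h4
  exact h4

/-- A 2-element centralising a Sylow 2-subgroup lies in it. -/
theorem mem_of_centralizes [Finite G] (Q : Sylow 2 G) {x : G} (hx : T2 x)
    (hc : ∀ q ∈ Q, q * x = x * q) : x ∈ Q := by
  apply mem_of_normalizes Q hx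
  rw [Subgroup.mem_normalizer_iff]
  intro h
  constructor
  · intro hh
    have : x * h * x⁻¹ = h := by rw [← hc h hh]; group
    rw [this]; exact hh
  · intro hh
    have h1 := hc _ hh
    have : h = x * h * x⁻¹ := by
      have : x * h * x⁻¹ * x = x * (x * h * x⁻¹) := by rw [h1]
      have h2 : x * h = x * (x * h * x⁻¹) := by rw [← this]; group
      exact mul_left_cancel h2
    rw [this]; exact hh

/-- Two Sylow subgroups of `G` inside `C` are conjugate by an element of `C`. -/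
theorem sylow_conj_in [Finite G] (C : Subgroup G) (P Q : Sylow 2 G)
    (hP : (P : Subgroup G) ≤ C) (hQ : (Q : Subgroup G) ≤ C) :
    ∃ k ∈ C, k • Q = P := by
  obtain ⟨k, hk⟩ := MulAction.exists_smul_eq C (Q.subtype hQ) (P.subtype hP)
  refine ⟨k, k.2, ?_⟩
  rw [Sylow.smul_subtype] at hk
  exact Sylow.subtype_injective hk

/-- If `C` contains a Sylow 2-subgroup of `G` then every 2-subgroup of `C` lies in a Sylow
2-subgroup of `G` contained in `C`. -/
theorem exists_sylow_between [Finite G] (C : Subgroup G) (Q : Sylow 2 G)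
    (hQ : (Q : Subgroup G) ≤ C) (D : Subgroup G) (hD : IsPGroup 2 D) (hDC : D ≤ C) :
    ∃ R : Sylow 2 G, (R : Subgroup G) ≤ C ∧ D ≤ R := by
  have hD' : IsPGroup 2 (D.subgroupOf C) :=
    hD.comap_of_injective C.subtype Subtype.coe_injective
  obtain ⟨R', hR'⟩ := hD'.exists_le_sylow
  obtain ⟨k, hk⟩ := MulAction.exists_smul_eq C (Q.subtype hQ) R'
  rw [Sylow.smul_subtype] at hk
  refine ⟨(k : G) • Q, Sylow.smul_le hQ k, ?_⟩
  intro d hd
  have h1 : (⟨d, hDC hd⟩ : C) ∈ D.subgroupOf C := by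
    rw [Subgroup.mem_subgroupOf]; exact hd
  have h2 := hR' h1
  rw [← hk] at h2
  change (⟨d, hDC hd⟩ : C) ∈ (((k : G) • Q : Sylow 2 G) : Subgroup G).subgroupOf C at h2
  rw [Subgroup.mem_subgroupOf] at h2
  exact h2

end Cfsg.Agent.Helper3.CamHer
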