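import Mathlib
import Cfsg.Agent.Helper3.CamHerA

set_option autoImplicit false

namespace Cfsg.Agent.Helper3.CamHer

open scoped Pointwise

variable {G : Type*} [Group G]

/-- Exponent lemma: if `r v` has order dividing `2^e`, `v` commutes with its `r`-conjugate and with
`r^2`, then `r` centralises `v^(2^(e-1))`. -/
theorem lemX (e : ℕ) (he : 1 ≤ e) (r v : G) (hrv : (r * v) ^ (2 ^ e) = 1)
    (hr : r ^ (2 ^ e) = 1) (hv : v ^ (2 ^ e) = 1)
    (h1 : Commute (r⁻¹ * v * r) v) (h2 : Commute (r * r) v) :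
    r⁻¹ * v ^ (2 ^ (e - 1)) * r = v ^ (2 ^ (e - 1)) := by
  have hk : 2 * 2 ^ (e - 1) = 2 ^ e := by
    obtain ⟨j, rfl⟩ : ∃ j, e = j + 1 := ⟨e - 1, by omega⟩
    simp [pow_succ, mul_comm]
  set k := 2 ^ (e - 1) with hkdef
  have h3 : Commute (r * r) (r⁻¹ * v * r) := by
    have h2' : r * r * v = v * (r * r) := h2
    change r * r * (r⁻¹ * v * r) = r⁻¹ * v * r * (r * r)
    have e1 : r * r * (r⁻¹ * v * r) = r * v * r := by group
    have e2 : r⁻¹ * v * r * (r * r) = r⁻¹ * (v * (r * r)) * r := by group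
    rw [e1, e2, ← h2']; group
  have hsq : (r * v) ^ 2 = (r * r) * (r⁻¹ * v * r * v) := by
    rw [pow_two]; group
  have h4 : Commute (r * r) (r⁻¹ * v * r * v) := h3.mul_right h2
  have h5 : ((r * r) * (r⁻¹ * v * r * v)) ^ k = 1 := by
    rw [← hsq, ← pow_mul, hk, hrv]
  rw [h4.mul_pow, ← pow_two, ← pow_mul, hk, hr, one_mul, h1.mul_pow] at h5
  have h6 : (r⁻¹ * v * r) ^ k = r⁻¹ * v ^ k * r := by
    have := conj_pow (a := r⁻¹) (b := v) (i := k)
    simpa using this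
  rw [h6] at h5
  have h7 : v ^ k * v ^ k = 1 := by rw [← pow_add, ← two_mul, hk, hv]
  have h8 : r⁻¹ * v ^ k * r = (v ^ k)⁻¹ := eq_inv_of_mul_eq_one_left h5
  rw [h8]
  exact inv_eq_of_mul_eq_one_left h7

/-- Burnside fusion trick: if `y, z ∈ Z(R)` for a Sylow 2-subgroup `R`, and `y` is conjugate to
`y z` by an element centralising `z`, then `z = 1`. -/
theorem lemT [Finite G] (R : Sylow 2 G) (y z s : G)
    (hyc : ∀ g ∈ R, g * y = y * g)
    (hz : z ∈ R) (hzc : ∀ g ∈ R, g * z = z * g)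
    (hs : s⁻¹ * y * s = y * z) (hsz : s * z = z * s) : z = 1 := by
  set C : Subgroup G := Subgroup.centralizer {z} ⊓ Subgroup.centralizer {y * z} with hC
  have hmemC : ∀ g : G, g ∈ C ↔ (g * z = z * g ∧ g * (y * z) = y * z * g) := by
    intro g
    rw [hC, Subgroup.mem_inf, Subgroup.mem_centralizer_singleton_iff,
      Subgroup.mem_centralizer_singleton_iff]
  have hRC : (R : Subgroup G) ≤ C := by
    intro g hg
    rw [hmemC]
    refine ⟨hzc g hg, ?_⟩
    rw [← mul_assoc, hyc g hg, mul_assoc, hzc g hg, mul_assoc]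
  have hsz' : s⁻¹ * z = z * s⁻¹ := by
    have : s⁻¹ * (s * z) * s⁻¹ = s⁻¹ * (z * s) * s⁻¹ := by rw [hsz]
    have e1 : s⁻¹ * (s * z) * s⁻¹ = z * s⁻¹ := by group
    have e2 : s⁻¹ * (z * s) * s⁻¹ = s⁻¹ * z := by group
    rw [e1, e2] at this
    exact this.symm
  have hR'C : ((s⁻¹ • R : Sylow 2 G) : Subgroup G) ≤ C := by
    intro x hx
    have hx' : s * x * s⁻¹ ∈ R := by
      have := (mem_smul_iff R s⁻¹ x).1 hx
      simpa using this
    rw [hmemC]
    constructor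
    · have h1 := hzc _ hx'
      have e1 : x * z = s⁻¹ * (s * x * s⁻¹ * z) * s := by
        have : s⁻¹ * (s * x * s⁻¹ * z) * s = x * (s⁻¹ * z) * s := by group
        rw [this, hsz']; group
      rw [e1, h1]
      have : s⁻¹ * (z * (s * x * s⁻¹)) * s = (s⁻¹ * z) * s * x := by group
      rw [this, hsz']; group
    · have h1 := hyc _ hx'
      rw [← hs]
      have e1 : x * (s⁻¹ * y * s) = s⁻¹ * (s * x * s⁻¹ * y) * s := by group
      rw [e1, h1]; group
  obtain ⟨c, hcC, hc⟩ := sylow_conj_in C R (s⁻¹ • R) hRC hR'C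
  rw [← mul_smul] at hc
  have hnorm : c * s⁻¹ ∈ Subgroup.normalizer ((R : Subgroup G) : Set G) :=
    Sylow.smul_eq_iff_mem_normalizer.1 hc
  obtain ⟨hcz, hcyz⟩ := (hmemC c).1 hcC
  set n : G := s * c⁻¹ with hn
  have hnN : n ∈ Subgroup.normalizer ((R : Subgroup G) : Set G) := by
    have := Subgroup.inv_mem _ hnorm
    simpa [hn] using this
  have hcz' : c⁻¹ * z = z * c⁻¹ := by
    have : c⁻¹ * (c * z) * c⁻¹ = c⁻¹ * (z * c) * c⁻¹ := by rw [hcz]
    have e1 : c⁻¹ * (c * z) * c⁻¹ = z * c⁻¹ := by group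
    have e2 : c⁻¹ * (z * c) * c⁻¹ = c⁻¹ * z := by group
    rw [e1, e2] at this
    exact this.symm
  have hnz : n * z = z * n := by
    rw [hn, mul_assoc, hcz', ← mul_assoc, hsz, mul_assoc]
  have hny : n⁻¹ * y * n = y * z := by
    have e1 : n⁻¹ * y * n = c * (s⁻¹ * y * s) * c⁻¹ := by rw [hn]; group
    rw [e1, hs, hcyz]; group
  have hpow : ∀ j : ℕ, (n ^ j)⁻¹ * y * n ^ j = y * z ^ j := by
    intro j
    induction j with
    | zero => simp
    | succ j ih =>
      have e1 : (n ^ (j + 1))⁻¹ * y * n ^ (j + 1) = n⁻¹ * ((n ^ j)⁻¹ * y * n ^ j) * n := by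
        rw [pow_succ]; group
      rw [e1, ih]
      have e2 : n⁻¹ * (y * z ^ j) * n = (n⁻¹ * y * n) * (n⁻¹ * z ^ j * n) := by group
      have hzj : n⁻¹ * z ^ j * n = z ^ j := by
        have hcomm : Commute n z := hnz
        have := (hcomm.pow_right j).eq
        rw [mul_assoc, ← this]; group
      rw [e2, hny, hzj, pow_succ]; group
  have hn0 : orderOf n ≠ 0 := (orderOf_pos n).ne'
  obtain ⟨a, m, hm, ham⟩ := Nat.exists_eq_two_pow_mul_odd hn0
  have hT : T2 (n ^ m) := ⟨a, by rw [← pow_mul, mul_comm, ← ham, pow_orderOf_eq_one]⟩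
  have hmem : n ^ m ∈ R := mem_of_normalizes R hT (Subgroup.pow_mem _ hnN m)
  have h1 := hpow m
  have h2 := hyc _ hmem
  have h3 : (n ^ m)⁻¹ * y * n ^ m = y := by
    rw [mul_assoc, ← h2]; group
  rw [h3] at h1
  have hzm : z ^ m = 1 := by
    have := mul_left_cancel (a := y) (b := 1) (c := z ^ m) (by rw [mul_one]; exact h1)
    exact this.symm
  obtain ⟨b, hb⟩ := T2_of_mem R.isPGroup' hz
  have hd1 : orderOf z ∣ m := orderOf_dvd_of_pow_eq_one hzm
  have hd2 : orderOf z ∣ 2 ^ b := orderOf_dvd_of_pow_eq_one hb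
  have hcop : Nat.Coprime m (2 ^ b) := by
    apply Nat.Coprime.pow_right
    exact Nat.coprime_two_right.2 hm
  have : orderOf z = 1 := Nat.eq_one_of_dvd_coprimes hcop hd1 hd2
  exact orderOf_eq_one_iff.1 this

end Cfsg.Agent.Helper3.CamHer
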