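import Mathlib
import Cfsg.Agent.Helper3.CamHerB
import Cfsg.Agent.Helper4.NormalizerGrow

set_option autoImplicit false

namespace Cfsg.Agent.Helper3.CamHer

open scoped Pointwise

variable {G : Type*} [Group G]

/-- The centre of `P`, as a subgroup of `G`. -/
def ZZ (P : Subgroup G) : Subgroup G := P ⊓ Subgroup.centralizer (P : Set G)

theorem mem_ZZ {P : Subgroup G} {c : G} : c ∈ ZZ P ↔ c ∈ P ∧ ∀ g ∈ P, g * c = c * g := by
  rw [ZZ, Subgroup.mem_inf, Subgroup.mem_centralizer_iff]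
  rfl

/-- `℧^{e-1}(Z(P))`. -/
def We (e : ℕ) (P : Subgroup G) : Subgroup G where
  carrier := {w | ∃ c ∈ ZZ P, c ^ (2 ^ (e - 1)) = w}
  one_mem' := ⟨1, one_mem _, one_pow _⟩
  mul_mem' := by
    rintro _ _ ⟨c1, h1, rfl⟩ ⟨c2, h2, rfl⟩
    refine ⟨c1 * c2, mul_mem h1 h2, ?_⟩
    have : Commute c1 c2 := ((mem_ZZ.1 h2).2 c1 (mem_ZZ.1 h1).1)
    exact this.mul_pow _
  inv_mem' := by
    rintro _ ⟨c, h, rfl⟩
    exact ⟨c⁻¹, inv_mem h, inv_pow _ _⟩

theorem mem_We {e : ℕ} {P : Subgroup G} {w : G} :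
    w ∈ We e P ↔ ∃ c ∈ ZZ P, c ^ (2 ^ (e - 1)) = w := Iff.rfl

theorem We_le_ZZ (e : ℕ) (P : Subgroup G) : We e P ≤ ZZ P := by
  rintro _ ⟨c, hc, rfl⟩
  exact Subgroup.pow_mem _ hc _

theorem mem_ZZ_smul (P : Sylow 2 G) (g c : G) :
    c ∈ ZZ ((g • P : Sylow 2 G) : Subgroup G) ↔ g⁻¹ * c * g ∈ ZZ (P : Subgroup G) := by
  rw [mem_ZZ, mem_ZZ]
  constructor
  · rintro ⟨h1, h2⟩
    refine ⟨(mem_smul_iff P g c).1 h1, ?_⟩
    intro x hx
    have hx' : g * x * g⁻¹ ∈ g • P := by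
      rw [mem_smul_iff]
      have : g⁻¹ * (g * x * g⁻¹) * g = x := by group
      rw [this]; exact hx
    have h3 := h2 _ hx'
    have e1 : x * (g⁻¹ * c * g) = g⁻¹ * (g * x * g⁻¹ * c) * g := by group
    rw [e1, h3]; group
  · rintro ⟨h1, h2⟩
    refine ⟨(mem_smul_iff P g c).2 h1, ?_⟩
    intro x hx
    have hx' : g⁻¹ * x * g ∈ P := (mem_smul_iff P g x).1 hx
    have h3 := h2 _ hx'
    have e1 : x * c = g * (g⁻¹ * x * g * (g⁻¹ * c * g)) * g⁻¹ := by group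
    rw [e1, h3]; group

theorem mem_We_smul (e : ℕ) (P : Sylow 2 G) (g w : G) :
    w ∈ We e ((g • P : Sylow 2 G) : Subgroup G) ↔ g⁻¹ * w * g ∈ We e (P : Subgroup G) := by
  rw [mem_We, mem_We]
  constructor
  · rintro ⟨c, hc, rfl⟩
    refine ⟨g⁻¹ * c * g, (mem_ZZ_smul P g c).1 hc, ?_⟩
    have := conj_pow (a := g⁻¹) (b := c) (i := 2 ^ (e - 1))
    simpa using this
  · rintro ⟨c, hc, hcw⟩
    refine ⟨g * c * g⁻¹, (mem_ZZ_smul P g _).2 ?_, ?_⟩
    · have : g⁻¹ * (g * c * g⁻¹) * g = c := by group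
      rw [this]; exact hc
    · rw [conj_pow, hcw]; group

theorem card_We_smul (e : ℕ) (P : Sylow 2 G) (g : G) :
    Nat.card (We e ((g • P : Sylow 2 G) : Subgroup G)) = Nat.card (We e (P : Subgroup G)) := by
  apply Nat.card_congr
  refine ⟨fun x => ⟨g⁻¹ * x * g, (mem_We_smul e P g x).1 x.2⟩,
    fun x => ⟨g * x * g⁻¹, (mem_We_smul e P g _).2 ?_⟩, ?_, ?_⟩
  · have : g⁻¹ * (g * (x : G) * g⁻¹) * g = x := by group
    rw [this]; exact x.2
  · intro x; apply Subtype.ext; simp only []; group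
  · intro x; apply Subtype.ext; simp only []; group

theorem card_We_eq [Finite G] (e : ℕ) (P Q : Sylow 2 G) :
    Nat.card (We e (P : Subgroup G)) = Nat.card (We e (Q : Subgroup G)) := by
  obtain ⟨g, rfl⟩ := MulAction.exists_smul_eq G Q P
  exact card_We_smul e Q g

/-- Every 2-element is centralised by a Sylow 2-subgroup. -/
def TC (G : Type*) [Group G] : Prop :=
  ∀ x : G, T2 x → ∃ Q : Sylow 2 G, ∀ q ∈ Q, q * x = x * q

/-- `2^(e-1)`-th powers of elements of order dividing `2^e`. -/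
def WW (e : ℕ) : Set G := {w | ∃ g : G, g ^ (2 ^ e) = 1 ∧ g ^ (2 ^ (e - 1)) = w}

theorem fact1 [Finite G] (hTC : TC G) (e : ℕ) (w : G) (hw : w ∈ WW (G := G) e) (P : Sylow 2 G)
    (hP : ∀ q ∈ P, q * w = w * q) : w ∈ We e (P : Subgroup G) := by
  obtain ⟨g, hg1, rfl⟩ := hw
  have hT : T2 g := ⟨e, hg1⟩
  obtain ⟨Q, hQ⟩ := hTC g hT
  have hgQ : g ∈ Q := mem_of_centralizes Q hT hQ
  have hgZ : g ∈ ZZ (Q : Subgroup G) := mem_ZZ.2 ⟨hgQ, hQ⟩
  set w := g ^ (2 ^ (e - 1)) with hw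
  have hQC : (Q : Subgroup G) ≤ Subgroup.centralizer {w} := by
    intro q hq
    rw [Subgroup.mem_centralizer_singleton_iff]
    have : Commute q g := hQ q hq
    exact (this.pow_right _).eq
  have hPC : (P : Subgroup G) ≤ Subgroup.centralizer {w} := by
    intro q hq
    rw [Subgroup.mem_centralizer_singleton_iff]
    exact hP q hq
  obtain ⟨k, hkC, hk⟩ := sylow_conj_in _ P Q hPC hQC
  rw [← hk, mem_We_smul]
  rw [Subgroup.mem_centralizer_singleton_iff] at hkC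
  have : k⁻¹ * w * k = w := by
    rw [mul_assoc, ← hkC]; group
  rw [this]
  exact ⟨g, hgZ, rfl⟩

/-- In a finite 2-group `R`, a proper subgroup `D` is normalised by some `r ∈ R ∖ D` with
`r^2 ∈ D`. -/
theorem exists_sq_mem (R D : Subgroup G) [Finite R] (hR : IsPGroup 2 R) (hD : D < R) :
    ∃ r ∈ R, r ∈ Subgroup.normalizer (D : Set G) ∧ r ∉ D ∧ r * r ∈ D := by
  obtain ⟨r₀, hr₀R, hr₀N, hr₀D⟩ := Cfsg.Agent.Helper4.exists_mem_normalizer_not_mem R hR D hD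
  obtain ⟨a, ha⟩ := T2_of_mem hR hr₀R
  have hex : ∃ j : ℕ, r₀ ^ (2 ^ j) ∈ D := ⟨a, by rw [ha]; exact one_mem _⟩
  classical
  set j := Nat.find hex with hj
  have hjspec : r₀ ^ (2 ^ j) ∈ D := Nat.find_spec hex
  have hjpos : j ≠ 0 := by
    intro h0
    rw [h0] at hjspec
    simp at hjspec
    exact hr₀D hjspec
  obtain ⟨i, hi⟩ : ∃ i, j = i + 1 := ⟨j - 1, by omega⟩
  refine ⟨r₀ ^ (2 ^ i), Subgroup.pow_mem _ hr₀R _, Subgroup.pow_mem _ hr₀N _, ?_, ?_⟩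
  · have : i < j := by omega
    exact Nat.find_min hex this
  · rw [← pow_add, ← two_mul, ← pow_succ', ← hi]
    exact hjspec

end Cfsg.Agent.Helper3.CamHer
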