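import Mathlib
import Cfsg.Agent.Helper3.CamHerC

set_option autoImplicit false

namespace Cfsg.Agent.Helper3.CamHer

open scoped Pointwise

variable {G : Type*} [Group G]

theorem card_lt_of_lt' [Finite G] {D D' : Subgroup G} (h : D < D') : Nat.card D < Nat.card D' := by
  rcases lt_or_ge (Nat.card D) (Nat.card D') with h1 | h1
  · exact h1
  · exfalso
    have := Subgroup.eq_of_le_of_card_ge h.le h1
    exact h.ne this

theorem sylow_card_eq [Finite G] (P Q : Sylow 2 G) : Nat.card P = Nat.card Q := by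
  rw [Sylow.card_eq_multiplicity, Sylow.card_eq_multiplicity]

/-- Key step (E): under `TC`, every element of `WW e ∩ P` is central in `P`. -/
theorem mainE [Finite G] (hTC : TC G) (e : ℕ) (he : 1 ≤ e)
    (hexp : ∀ g : G, T2 g → g ^ (2 ^ e) = 1) :
    ∀ k : ℕ, ∀ (P : Sylow 2 G) (w : G), w ∈ WW (G := G) e → w ∈ P →
      Nat.card P - Nat.card ((P : Subgroup G) ⊓ Subgroup.centralizer {w} : Subgroup G) = k →
      w ∈ ZZ (P : Subgroup G) := by
  intro k
  induction k using Nat.strong_induction_on with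
  | _ k ih =>
  intro P w hwW hwP hk
  set D : Subgroup G := (P : Subgroup G) ⊓ Subgroup.centralizer {w} with hD
  have hmemD : ∀ x : G, x ∈ D ↔ x ∈ P ∧ x * w = w * x := by
    intro x
    rw [hD, Subgroup.mem_inf, Subgroup.mem_centralizer_singleton_iff]
    rfl
  by_cases hDP : (P : Subgroup G) ≤ D
  · rw [mem_ZZ]
    exact ⟨hwP, fun g hg => ((hmemD g).1 (hDP hg)).2⟩
  have hDP' : D < (P : Subgroup G) := lt_of_le_of_ne inf_le_left (fun h => hDP h.ge)
  have hTw : T2 w := T2_of_mem P.isPGroup' hwP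
  obtain ⟨Q₀, hQ₀⟩ := hTC w hTw
  have hQ₀C : (Q₀ : Subgroup G) ≤ Subgroup.centralizer {w} := by
    intro q hq
    rw [Subgroup.mem_centralizer_singleton_iff]
    exact hQ₀ q hq
  obtain ⟨R, hRC, hDR⟩ := exists_sylow_between (Subgroup.centralizer {w}) Q₀ hQ₀C D
    (P.isPGroup'.to_le inf_le_left) inf_le_right
  have hRw : ∀ q ∈ R, q * w = w * q := by
    intro q hq
    have := hRC hq
    rwa [Subgroup.mem_centralizer_singleton_iff] at this
  have hcardPR : Nat.card P = Nat.card R := sylow_card_eq P R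
  have hcardD : Nat.card D < Nat.card P := card_lt_of_lt' hDP'
  have hDR' : D < (R : Subgroup G) := by
    refine lt_of_le_of_ne hDR ?_
    intro h
    have : Nat.card D = Nat.card R := by rw [h]
    omega
  -- every element of `We e P` is central in `R`
  have hcentral : ∀ c ∈ ZZ (P : Subgroup G), c ^ (2 ^ (e - 1)) ∈ ZZ (R : Subgroup G) := by
    intro c hc
    obtain ⟨hcP, hcc⟩ := mem_ZZ.1 hc
    have hcD : c ∈ D := (hmemD c).2 ⟨hcP, (hcc w hwP).symm⟩
    have hcR : c ∈ R := hDR hcD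
    have hTc : T2 c := T2_of_mem P.isPGroup' hcP
    obtain ⟨r, hrR, hrN, hrD, hrr⟩ := exists_sq_mem (R : Subgroup G) D R.isPGroup' hDR'
    have hrcR : r * c ∈ R := Subgroup.mul_mem _ hrR hcR
    have hconjD : r⁻¹ * c * r ∈ D := by
      rw [Subgroup.mem_normalizer_iff] at hrN
      rw [hrN]
      have : r * (r⁻¹ * c * r) * r⁻¹ = c := by group
      rw [this]; exact hcD
    have hX := lemX e he r c (hexp _ (T2_of_mem R.isPGroup' hrcR))
      (hexp _ (T2_of_mem R.isPGroup' hrR)) (hexp _ hTc)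
      (hcc _ ((hmemD _).1 hconjD).1) (hcc _ ((hmemD _).1 hrr).1)
    set wS := c ^ (2 ^ (e - 1)) with hwS
    have hwSR : wS ∈ R := Subgroup.pow_mem _ hcR _
    have hwSW : wS ∈ WW (G := G) e := ⟨c, hexp _ hTc, rfl⟩
    have hrw : r * wS = wS * r := by
      have : r * (r⁻¹ * wS * r) = r * wS := by rw [hX]
      rw [← this]; group
    set D' : Subgroup G := (R : Subgroup G) ⊓ Subgroup.centralizer {wS} with hD'
    have hDD' : D < D' := by
      refine lt_of_le_of_ne ?_ ?_
      · intro x hx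
        rw [hD', Subgroup.mem_inf, Subgroup.mem_centralizer_singleton_iff]
        refine ⟨hDR hx, ?_⟩
        have : Commute x c := hcc x ((hmemD x).1 hx).1
        exact (this.pow_right _).eq
      · intro h
        apply hrD
        rw [h, hD', Subgroup.mem_inf, Subgroup.mem_centralizer_singleton_iff]
        exact ⟨hrR, hrw⟩
    have hc1 : Nat.card D < Nat.card D' := card_lt_of_lt' hDD'
    have hc2 : Nat.card D' ≤ Nat.card R := Subgroup.card_le_of_le inf_le_left
    have hlt : Nat.card R - Nat.card D' < k := by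
      rw [← hk]
      change Nat.card R - Nat.card D' < Nat.card P - Nat.card D
      omega
    exact ih _ hlt R wS hwSW hwSR rfl
  have hle : We e (P : Subgroup G) ≤ We e (R : Subgroup G) := by
    rintro _ ⟨c, hc, rfl⟩
    have h1 := hcentral c hc
    have hcP := (mem_ZZ.1 hc).1
    exact fact1 hTC e _ ⟨c, hexp _ (T2_of_mem P.isPGroup' hcP), rfl⟩ R (mem_ZZ.1 h1).2
  have heq : We e (P : Subgroup G) = We e (R : Subgroup G) :=
    Subgroup.eq_of_le_of_card_ge hle (card_We_eq e R P).le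
  have hwR : w ∈ We e (R : Subgroup G) := fact1 hTC e w hwW R hRw
  rw [← heq] at hwR
  exact We_le_ZZ e _ hwR

theorem mem_We_of_WW [Finite G] (hTC : TC G) (e : ℕ) (he : 1 ≤ e)
    (hexp : ∀ g : G, T2 g → g ^ (2 ^ e) = 1) (P : Sylow 2 G) (w : G)
    (hw : w ∈ WW (G := G) e) (hwP : w ∈ P) : w ∈ We e (P : Subgroup G) := by
  have h1 := mainE hTC e he hexp _ P w hw hwP rfl
  exact fact1 hTC e w hw P (mem_ZZ.1 h1).2

theorem We_subset_WW (e : ℕ) (hexp : ∀ g : G, T2 g → g ^ (2 ^ e) = 1) (P : Sylow 2 G) (w : G)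
    (hw : w ∈ We e (P : Subgroup G)) : w ∈ WW (G := G) e := by
  obtain ⟨c, hc, rfl⟩ := hw
  exact ⟨c, hexp _ (T2_of_mem P.isPGroup' (mem_ZZ.1 hc).1), rfl⟩

/-- `We e P` is the same for all Sylow subgroups containing it. -/
theorem We_eq_of_le [Finite G] (hTC : TC G) (e : ℕ) (he : 1 ≤ e)
    (hexp : ∀ g : G, T2 g → g ^ (2 ^ e) = 1) (P R : Sylow 2 G)
    (h : We e (P : Subgroup G) ≤ (R : Subgroup G)) :
    We e (R : Subgroup G) = We e (P : Subgroup G) := by
  symm
  refine Subgroup.eq_of_le_of_card_ge ?_ (card_We_eq e R P).le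
  intro w hw
  exact mem_We_of_WW hTC e he hexp R w (We_subset_WW e hexp P w hw) (h hw)

end Cfsg.Agent.Helper3.CamHer
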