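import Mathlib
import Cfsg.Agent.Helper3.CamHerD

set_option autoImplicit false

namespace Cfsg.Agent.Helper3.CamHer

open scoped Pointwise

universe u

theorem le_normalizer_of_le_ZZ {G : Type*} [Group G] (A R : Subgroup G) (h : A ≤ ZZ R) :
    R ≤ Subgroup.normalizer (A : Set G) := by
  intro r hr
  rw [Subgroup.mem_normalizer_iff]
  intro w
  constructor
  · intro hw
    have h1 := (mem_ZZ.1 (h hw)).2 r hr
    have : r * w * r⁻¹ = w := by rw [h1]; group
    rw [this]; exact hw
  · intro hw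
    have h1 := (mem_ZZ.1 (h hw)).2 r hr
    have : w = r * w * r⁻¹ := by
      have h2 : r * (r * w * r⁻¹) * r⁻¹ = r * w * r⁻¹ := by rw [h1]; group
      have h3 : r * (r * w * r⁻¹) = r * w := by
        have := congrArg (· * r) h2
        simpa [mul_assoc] using this
      exact (mul_left_cancel h3).symm
    rw [this]; exact hw

theorem exists_exp {G : Type*} [Group G] [Finite G] (S : Sylow 2 G) :
    ∃ e : ℕ, ∀ g ∈ S, g ^ (2 ^ e) = 1 := by
  obtain ⟨m, hm⟩ := IsPGroup.iff_card.1 S.isPGroup'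
  refine ⟨m, fun g hg => ?_⟩
  have h1 : (⟨g, hg⟩ : S) ^ Nat.card S = 1 := pow_card_eq_one'
  rw [hm] at h1
  have := congrArg Subtype.val h1
  simpa using this

theorem T2_coe {G : Type*} [Group G] {H : Subgroup G} {x : H} (hx : T2 x) : T2 (x : G) := by
  obtain ⟨k, hk⟩ := hx
  refine ⟨k, ?_⟩
  have := congrArg Subtype.val hk
  simpa using this

/-- **Camina–Herzog**: if every 2-element of a finite group is centralised by a Sylow 2-subgroup,
then the Sylow 2-subgroups are abelian. -/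
theorem main : ∀ n : ℕ, ∀ (G : Type u) [Group G] [Finite G], Nat.card G = n → TC G →
    ∀ (S : Sylow 2 G) (a b : G), a ∈ S → b ∈ S → a * b = b * a := by
  intro n
  induction n using Nat.strong_induction_on with
  | _ n ih =>
  intro G _ _ hn hTC S a b ha hb
  classical
  have hex := exists_exp S
  set e := Nat.find hex with he
  have hespec : ∀ g ∈ S, g ^ (2 ^ e) = 1 := Nat.find_spec hex
  rcases Nat.eq_zero_or_pos e with he0 | hepos
  · have h1 := hespec a ha
    rw [he0] at h1
    simp at h1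
    rw [h1]; simp
  have he1 : 1 ≤ e := hepos
  -- exponent for all 2-elements
  have hexp : ∀ g : G, T2 g → g ^ (2 ^ e) = 1 := by
    intro g hg
    obtain ⟨Q, hQ⟩ := hg.isPGroup.exists_le_sylow
    obtain ⟨k, rfl⟩ := MulAction.exists_smul_eq G S Q
    have h1 : g ∈ k • S := hQ (Subgroup.mem_zpowers g)
    rw [mem_smul_iff] at h1
    have h2 := hespec _ h1
    have h3 : (k⁻¹ * g * k) ^ (2 ^ e) = k⁻¹ * g ^ (2 ^ e) * k := by
      have := conj_pow (a := k⁻¹) (b := g) (i := 2 ^ e)
      simpa using this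
    rw [h3] at h2
    have : g ^ (2 ^ e) = k * (k⁻¹ * g ^ (2 ^ e) * k) * k⁻¹ := by group
    rw [this, h2]; group
  set W : Subgroup G := We e (S : Subgroup G) with hW
  have hWZ : W ≤ ZZ (S : Subgroup G) := We_le_ZZ e _
  -- key claim
  have hK : ∀ y ∈ S, ∃ R : Sylow 2 G, (∀ q ∈ R, q * y = y * q) ∧ We e (R : Subgroup G) = W := by
    intro y hy
    have hTy : T2 y := T2_of_mem S.isPGroup' hy
    obtain ⟨Q₀, hQ₀⟩ := hTC y hTy
    have hQ₀C : (Q₀ : Subgroup G) ≤ Subgroup.centralizer {y} := by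
      intro q hq
      rw [Subgroup.mem_centralizer_singleton_iff]
      exact hQ₀ q hq
    obtain ⟨R, hRC, hDR⟩ := exists_sylow_between (Subgroup.centralizer {y}) Q₀ hQ₀C
      ((S : Subgroup G) ⊓ Subgroup.centralizer {y})
      (S.isPGroup'.to_le inf_le_left) inf_le_right
    refine ⟨R, ?_, ?_⟩
    · intro q hq
      have := hRC hq
      rwa [Subgroup.mem_centralizer_singleton_iff] at this
    · apply We_eq_of_le hTC e he1 hexp S R
      intro w hw
      apply hDR
      obtain ⟨hwS, hwc⟩ := mem_ZZ.1 (hWZ hw)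
      rw [Subgroup.mem_inf, Subgroup.mem_centralizer_singleton_iff]
      exact ⟨hwS, (hwc y hy).symm⟩
  set H : Subgroup G := Subgroup.normalizer (W : Set G) with hH
  have hSH : (S : Subgroup G) ≤ H := le_normalizer_of_le_ZZ W _ hWZ
  by_cases hHtop : H = ⊤
  · -- `W` is normal: pass to the quotient
    have hWn : W.Normal := Subgroup.normalizer_eq_top_iff.1 hHtop
    -- `W ≠ ⊥`
    have hWne : W ≠ ⊥ := by
      intro hbot
      have hmin : ¬ ∀ g ∈ S, g ^ (2 ^ (e - 1)) = 1 := Nat.find_min hex (by omega)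
      push Not at hmin
      obtain ⟨g₀, hg₀S, hg₀⟩ := hmin
      have hTg : T2 g₀ := T2_of_mem S.isPGroup' hg₀S
      obtain ⟨Q, hQ⟩ := hTC g₀ hTg
      have hgQ : g₀ ∈ Q := mem_of_centralizes Q hTg hQ
      have h1 : g₀ ^ (2 ^ (e - 1)) ∈ We e (Q : Subgroup G) :=
        ⟨g₀, mem_ZZ.2 ⟨hgQ, hQ⟩, rfl⟩
      have h2 : Nat.card (We e (Q : Subgroup G)) = 1 := by
        rw [card_We_eq e Q S]
        change Nat.card W = 1
        rw [hbot]; simp
      rw [Subgroup.card_eq_one] at h2
      rw [h2, Subgroup.mem_bot] at h1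
      exact hg₀ h1
    have hcardlt : Nat.card (G ⧸ W) < n := by
      have h1 := Subgroup.card_eq_card_quotient_mul_card_subgroup W
      have h2 : 1 < Nat.card W := by
        rcases Nat.lt_or_ge 1 (Nat.card W) with h | h
        · exact h
        · exfalso
          have hpos : 0 < Nat.card W := Nat.card_pos
          have : Nat.card W = 1 := by omega
          exact hWne (Subgroup.card_eq_one.1 this)
      have h3 : 0 < Nat.card (G ⧸ W) := Nat.card_pos
      rw [← hn, h1]
      nlinarith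
    have hsurj : Function.Surjective (QuotientGroup.mk' W) := QuotientGroup.mk'_surjective W
    have hTCq : TC (G ⧸ W) := by
      intro xb hxb
      obtain ⟨x, rfl⟩ := QuotientGroup.mk_surjective xb
      obtain ⟨k, hk⟩ := hxb
      have h1 : x ^ (2 ^ k) ∈ W := by
        rw [← QuotientGroup.eq_one_iff, QuotientGroup.mk_pow]
        exact hk
      have h2 : T2 (x ^ (2 ^ k)) := T2_of_mem S.isPGroup' (mem_ZZ.1 (hWZ h1)).1
      have h3 := hexp _ h2
      have hTx : T2 x := ⟨k + e, by rw [pow_add, pow_mul]; exact h3⟩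
      obtain ⟨Q₀, hQ₀⟩ := hTC x hTx
      refine ⟨Q₀.mapSurjective hsurj, ?_⟩
      intro qb hqb
      have hqb' : qb ∈ (Q₀ : Subgroup G).map (QuotientGroup.mk' W) := hqb
      obtain ⟨q, hq, rfl⟩ := Subgroup.mem_map.1 hqb'
      change (q : G ⧸ W) * (x : G ⧸ W) = (x : G ⧸ W) * (q : G ⧸ W)
      rw [← QuotientGroup.mk_mul, ← QuotientGroup.mk_mul, hQ₀ q hq]
    have hab := ih _ hcardlt (G ⧸ W) rfl hTCq (S.mapSurjective hsurj)
    -- commutators of `S` lie in `W`
    have hcomm : ∀ y s : G, y ∈ S → s ∈ S → y⁻¹ * s⁻¹ * y * s ∈ W := by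
      intro y s hy hs
      have h1 : (y : G ⧸ W) ∈ S.mapSurjective hsurj := by
        change (y : G ⧸ W) ∈ (S : Subgroup G).map (QuotientGroup.mk' W)
        exact Subgroup.mem_map.2 ⟨y, hy, rfl⟩
      have h2 : (s : G ⧸ W) ∈ S.mapSurjective hsurj := by
        change (s : G ⧸ W) ∈ (S : Subgroup G).map (QuotientGroup.mk' W)
        exact Subgroup.mem_map.2 ⟨s, hs, rfl⟩
      have h3 := hab _ _ h1 h2
      rw [← QuotientGroup.eq_one_iff]
      have h4 : ((y : G ⧸ W))⁻¹ * ((s : G ⧸ W))⁻¹ * (y : G ⧸ W) * (s : G ⧸ W) = 1 := by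
        calc ((y : G ⧸ W))⁻¹ * ((s : G ⧸ W))⁻¹ * (y : G ⧸ W) * (s : G ⧸ W)
            = ((y : G ⧸ W))⁻¹ * ((s : G ⧸ W))⁻¹ * ((y : G ⧸ W) * (s : G ⧸ W)) := by group
          _ = 1 := by rw [h3]; group
      simpa [QuotientGroup.mk_mul, QuotientGroup.mk_inv] using h4
    set z := a⁻¹ * b⁻¹ * a * b with hz
    have hzW : z ∈ W := hcomm a b ha hb
    obtain ⟨R, hRa, hRW⟩ := hK a ha
    have hzR : z ∈ ZZ (R : Subgroup G) := by
      have : z ∈ We e (R : Subgroup G) := by rw [hRW]; exact hzW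
      exact We_le_ZZ e _ this
    obtain ⟨hzR1, hzR2⟩ := mem_ZZ.1 hzR
    have hbz : b * z = z * b := (mem_ZZ.1 (hWZ hzW)).2 b hb
    have hs : b⁻¹ * a * b = a * z := by rw [hz]; group
    have hz1 : z = 1 := lemT R a z b hRa hzR1 hzR2 hs hbz
    have : a * b = b * a * z := by rw [hz]; group
    rw [this, hz1, mul_one]
  · -- `H` is a proper subgroup inheriting the hypothesis
    have hHlt : H < ⊤ := lt_top_iff_ne_top.2 hHtop
    have hcardlt : Nat.card H < n := by
      have := card_lt_of_lt' hHlt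
      rw [Subgroup.card_top, hn] at this
      exact this
    have hTCH : TC H := by
      intro x hx
      have hxG : T2 (x : G) := T2_coe hx
      obtain ⟨P', hP'⟩ := hx.isPGroup.exists_le_sylow
      obtain ⟨h, hh⟩ := MulAction.exists_smul_eq H (S.subtype hSH) P'
      have h1 : x ∈ h • S.subtype hSH := by rw [hh]; exact hP' (Subgroup.mem_zpowers x)
      rw [mem_smul_iff] at h1
      have h2 : ((h⁻¹ * x * h : H) : G) ∈ S := by
        have : (h⁻¹ * x * h : H) ∈ (S : Subgroup G).subgroupOf H := h1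
        rwa [Subgroup.mem_subgroupOf] at this
      obtain ⟨R, hRy, hRW⟩ := hK _ h2
      have hRH : (R : Subgroup G) ≤ H := by
        apply le_normalizer_of_le_ZZ
        rw [← hRW]
        exact We_le_ZZ e _
      refine ⟨h • R.subtype hRH, ?_⟩
      intro q hq
      rw [mem_smul_iff] at hq
      have h3 : ((h⁻¹ * q * h : H) : G) ∈ R := by
        have : (h⁻¹ * q * h : H) ∈ (R : Subgroup G).subgroupOf H := hq
        rwa [Subgroup.mem_subgroupOf] at this
      have h4 := hRy _ h3
      have h5 : (h⁻¹ * q * h) * (h⁻¹ * x * h) = (h⁻¹ * x * h) * (h⁻¹ * q * h) := by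
        apply Subtype.ext
        exact h4
      have e1 : q * x = h * ((h⁻¹ * q * h) * (h⁻¹ * x * h)) * h⁻¹ := by group
      rw [e1, h5]; group
    have hab := ih _ hcardlt H rfl hTCH (S.subtype hSH) ⟨a, hSH ha⟩ ⟨b, hSH hb⟩
      (by
        change (⟨a, hSH ha⟩ : H) ∈ (S : Subgroup G).subgroupOf H
        rw [Subgroup.mem_subgroupOf]; exact ha)
      (by
        change (⟨b, hSH hb⟩ : H) ∈ (S : Subgroup G).subgroupOf H
        rw [Subgroup.mem_subgroupOf]; exact hb)
    have := congrArg Subtype.val hab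
    simpa using this

end Cfsg.Agent.Helper3.CamHer
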