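import Mathlib
import Cfsg.Agent.Helper3.CamHerE

set_option autoImplicit false

namespace Cfsg.Agent.Helper3.CamHer

open scoped Pointwise

/-- If the centraliser of `x` has odd index then it contains a Sylow 2-subgroup. -/
theorem exists_sylow_le_of_odd_index {G : Type*} [Group G] [Finite G] (C : Subgroup G)
    (hC : ¬ 2 ∣ C.index) : ∃ Q : Sylow 2 G, (Q : Subgroup G) ≤ C := by
  have Q' : Sylow 2 C := default
  have hQ : IsPGroup 2 ((Q' : Subgroup C).map C.subtype) := Q'.isPGroup'.map _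
  have hidx : ¬ 2 ∣ ((Q' : Subgroup C).map C.subtype).index := by
    rw [Subgroup.index_map_subtype]
    intro h
    rcases (Nat.Prime.dvd_mul Nat.prime_two).1 h with h1 | h1
    · exact Q'.not_dvd_index h1
    · exact hC h1
  refine ⟨hQ.toSylow hidx, ?_⟩
  intro q hq
  have hq' : q ∈ (Q' : Subgroup C).map C.subtype := hq
  obtain ⟨c, _, rfl⟩ := Subgroup.mem_map.1 hq'
  exact c.2

theorem TC_of_le {G : Type*} [Group G]
    (h : ∀ x : G, (∃ k : ℕ, orderOf x = 2 ^ k) →
      ∃ Q : Sylow 2 G, (Q : Subgroup G) ≤ Subgroup.centralizer ({x} : Set G)) : TC G := by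
  intro x hx
  obtain ⟨Q, hQ⟩ := h x (orderOf_of_T2 hx)
  refine ⟨Q, fun q hq => ?_⟩
  have := hQ hq
  rwa [Subgroup.mem_centralizer_singleton_iff] at this

theorem TC_of_index {G : Type*} [Group G] [Finite G]
    (h : ∀ x : G, (∃ k : ℕ, orderOf x = 2 ^ k) →
      ¬ 2 ∣ (Subgroup.centralizer ({x} : Set G)).index) : TC G :=
  TC_of_le (fun x hx => exists_sylow_le_of_odd_index _ (h x hx))

/-- Camina–Herzog, element form. -/
theorem camina_herzog {G : Type*} [Group G] [Finite G] (hTC : TC G) (S : Sylow 2 G) (a b : G)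
    (ha : a ∈ S) (hb : b ∈ S) : a * b = b * a :=
  main _ G rfl hTC S a b ha hb

end Cfsg.Agent.Helper3.CamHer
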