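import Mathlib
import Cfsg.Agent.Helper4.ClassSize
import Cfsg.Agent.Helper5.Generation2

set_option autoImplicit false

namespace Cfsg.Agent.Helper3.Camina

open scoped IsMulCommutative

variable {G : Type*} [Group G]

/-- the Camina condition on `N` -/
def IsCam (N : Subgroup G) : Prop :=
  ∀ g : G, g ∉ N → ∀ n ∈ N, ∃ x : G, x * g * x⁻¹ = g * n

theorem orderOf_conj' (x g : G) : orderOf (x * g * x⁻¹) = orderOf g :=
  orderOf_injective (MulAut.conj x).toMonoidHom (MulAut.conj x).injective g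

theorem cam_pow {N : Subgroup G} (hcam : IsCam N) {g c : G} (hg : g ∉ N) (hc : c ∈ N)
    (hgc : g * c = c * g) : c ^ orderOf g = 1 := by
  obtain ⟨x, hx⟩ := hcam g hg c hc
  have h1 : orderOf (g * c) = orderOf g := by rw [← hx]; exact orderOf_conj' x g
  have h2 : (g * c) ^ orderOf g = 1 := by rw [← h1]; exact pow_orderOf_eq_one _
  have hcomm : Commute g c := hgc
  rw [hcomm.mul_pow, pow_orderOf_eq_one, one_mul] at h2
  exact h2

theorem cam_fpf {N : Subgroup G} (hcam : IsCam N) {p : ℕ} {u c : G} (hu : u ∉ N)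
    (hup : ∃ a : ℕ, u ^ (p ^ a) = 1) (hc : c ∈ N) (huc : u * c = c * u)
    (hcop : (orderOf c).Coprime p) : c = 1 := by
  obtain ⟨a, ha⟩ := hup
  have h1 : c ^ orderOf u = 1 := cam_pow hcam hu hc huc
  have h2 : orderOf c ∣ orderOf u := orderOf_dvd_of_pow_eq_one h1
  have h3 : orderOf u ∣ p ^ a := orderOf_dvd_of_pow_eq_one ha
  have h4 : orderOf c ∣ p ^ a := h2.trans h3
  have h5 : (orderOf c).Coprime (p ^ a) := hcop.pow_right a
  have h6 : orderOf c = 1 := Nat.Coprime.eq_one_of_dvd h5 h4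
  exact orderOf_eq_one_iff.mp h6

/-- the class of `y ∉ N` is the full preimage of the class of its image -/
theorem isConj_iff_of_cam {N : Subgroup G} [N.Normal] (hcam : IsCam N) {y : G} (hy : y ∉ N) (g : G) :
    IsConj y g ↔ IsConj (QuotientGroup.mk y : G ⧸ N) (QuotientGroup.mk g) := by
  constructor
  · intro h
    obtain ⟨x, hx⟩ := isConj_iff.mp h
    rw [isConj_iff]
    refine ⟨QuotientGroup.mk x, ?_⟩
    rw [← hx]
    simp
  · intro h
    obtain ⟨xb, hx⟩ := isConj_iff.mp h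
    obtain ⟨x, rfl⟩ := QuotientGroup.mk_surjective xb
    have h1 : (QuotientGroup.mk (x * y * x⁻¹) : G ⧸ N) = QuotientGroup.mk g := by
      rw [← hx]; simp
    rw [QuotientGroup.eq] at h1
    -- n := (x y x⁻¹)⁻¹ g ∈ N
    set n := (x * y * x⁻¹)⁻¹ * g with hn
    have hn' : x⁻¹ * n * x⁻¹⁻¹ ∈ N := ‹N.Normal›.conj_mem n h1 x⁻¹
    obtain ⟨t, ht⟩ := hcam y hy _ hn'
    rw [isConj_iff]
    refine ⟨x * t, ?_⟩
    have : x * t * y * (x * t)⁻¹ = x * (t * y * t⁻¹) * x⁻¹ := by group
    rw [this, ht, hn]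
    group

theorem index_centralizer_of_cam [Finite G] {N : Subgroup G} [N.Normal] (hcam : IsCam N) {y : G}
    (hy : y ∉ N) :
    (Subgroup.centralizer ({y} : Set G)).index =
      Nat.card N * (Subgroup.centralizer ({(QuotientGroup.mk y : G ⧸ N)} : Set (G ⧸ N))).index := by
  rw [Cfsg.Agent.Helper4.index_centralizer_eq_card_conj, Cfsg.Agent.Helper4.index_centralizer_eq_card_conj]
  set t : Set (G ⧸ N) := {q | IsConj (QuotientGroup.mk y : G ⧸ N) q} with ht
  have h1 : Nat.card {g : G // IsConj y g} = Nat.card ((QuotientGroup.mk : G → G ⧸ N) ⁻¹' t) := by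
    apply Nat.card_congr
    refine Equiv.subtypeEquivRight ?_
    intro g
    rw [isConj_iff_of_cam hcam hy g]
    rfl
  rw [h1, Nat.card_congr (QuotientGroup.preimageMkEquivSubgroupProdSet N t), Nat.card_prod]
  rfl

theorem card_centralizer_of_cam [Finite G] {N : Subgroup G} [N.Normal] (hcam : IsCam N) {y : G}
    (hy : y ∉ N) :
    Nat.card (Subgroup.centralizer ({y} : Set G)) =
      Nat.card (Subgroup.centralizer ({(QuotientGroup.mk y : G ⧸ N)} : Set (G ⧸ N))) := by
  have h1 := index_centralizer_of_cam hcam hy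
  have h2 := (Subgroup.centralizer ({y} : Set G)).index_mul_card
  have h3 := (Subgroup.centralizer ({(QuotientGroup.mk y : G ⧸ N)} : Set (G ⧸ N))).index_mul_card
  have h4 : Nat.card G = Nat.card N * Nat.card (G ⧸ N) := by
    rw [mul_comm]; exact Subgroup.card_eq_card_quotient_mul_card_subgroup N
  have hpos1 : 0 < Nat.card N := Nat.card_pos
  have hpos2 : 0 < (Subgroup.centralizer ({(QuotientGroup.mk y : G ⧸ N)} : Set (G ⧸ N))).index :=
    Nat.pos_of_ne_zero (Subgroup.index_ne_zero_of_finite)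
  rw [h1, h4, ← h3] at h2
  -- |N| * idx * |C_G y| = |N| * (idx * |C_Q|)
  have h5 : Nat.card ↥N * (Subgroup.centralizer ({(QuotientGroup.mk y : G ⧸ N)} : Set (G ⧸ N))).index *
      Nat.card (Subgroup.centralizer ({y} : Set G)) =
      Nat.card ↥N * (Subgroup.centralizer ({(QuotientGroup.mk y : G ⧸ N)} : Set (G ⧸ N))).index *
      Nat.card (Subgroup.centralizer ({(QuotientGroup.mk y : G ⧸ N)} : Set (G ⧸ N))) := by
    rw [h2]; ring
  exact Nat.eq_of_mul_eq_mul_left (Nat.mul_pos hpos1 hpos2) h5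

end Cfsg.Agent.Helper3.Camina
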