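import Mathlib
import Cfsg.Agent.Helper1.AbelianAct
import Cfsg.Agent.Helper3.AmbivA
import Cfsg.Agent.Helper3.CaminaA
import Cfsg.Agent.Helper5.Generation2

/-!
Helper library (helper3): Camina pairs, part B: centralizer orders in the quotient, existence of
`C_p × C_p` in the quotient for a bad prime, and the impossibility of a Frobenius action.
-/

set_option autoImplicit false

namespace Cfsg.Agent.Helper3.Camina

open Cfsg.Agent.Helper5
open scoped IsMulCommutative

variable {G : Type*} [Group G]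




/-- a Sylow `p`-subgroup meets a normal subgroup of order divisible by `p` nontrivially -/
theorem sylow_inf_normal_ne_bot [Finite G] {p : ℕ} [hp : Fact p.Prime] (N : Subgroup G) [hN : N.Normal]
    (hpN : p ∣ Nat.card N) (P : Sylow p G) : ∃ z ∈ (P : Subgroup G), z ∈ N ∧ z ≠ 1 := by
  obtain ⟨z', hz'⟩ := exists_prime_orderOf_dvd_card' p hpN
  have hzp : IsPGroup p (Subgroup.zpowers (z' : G)) := by
    rw [IsPGroup.iff_card]
    refine ⟨1, ?_⟩
    rw [Nat.card_zpowers, Subgroup.orderOf_coe, hz', pow_one]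
  obtain ⟨P', hP'⟩ := hzp.exists_le_sylow
  obtain ⟨g, hg⟩ := MulAction.exists_smul_eq G P' P
  have hz1 : (z' : G) ∈ (P' : Subgroup G) := hP' (Subgroup.mem_zpowers _)
  have hz2 : g * (z' : G) * g⁻¹ ∈ (P : Subgroup G) := by
    rw [← hg, Sylow.smul_def, Sylow.pointwise_smul_def, Subgroup.mem_pointwise_smul_iff_inv_smul_mem]
    have : (MulAut.conj g)⁻¹ • (g * (z' : G) * g⁻¹) = (z' : G) := by
      rw [MulAut.smul_def, MulAut.conj_inv_apply]; group
    rw [this]; exact hz1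
  refine ⟨g * (z' : G) * g⁻¹, hz2, hN.conj_mem _ z'.2 g, ?_⟩
  intro h
  have h1 : (z' : G) = 1 := by
    have : (z' : G) = g⁻¹ * (g * (z' : G) * g⁻¹) * g := by group
    rw [this, h]; group
  have h2 : z' = 1 := Subtype.ext h1
  rw [h2, orderOf_one] at hz'
  exact hp.out.one_lt.ne hz'

theorem dvd_card_centralizer_quot [Finite G] {p : ℕ} [hp : Fact p.Prime] {N : Subgroup G} [hN : N.Normal]
    (hcam : IsCam N) (hpN : p ∣ Nat.card N) (yb : G ⧸ N) (k : ℕ) (hk : orderOf yb = p ^ k)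
    (hy1 : yb ≠ 1) :
    p ^ (k + 1) ∣ Nat.card (Subgroup.centralizer ({yb} : Set (G ⧸ N))) := by
  have hsurj : Function.Surjective (QuotientGroup.mk' N) := QuotientGroup.mk'_surjective N
  -- lift to a `p`-element in a Sylow subgroup
  have hzp : IsPGroup p (Subgroup.zpowers yb) := by
    rw [IsPGroup.iff_card]
    exact ⟨k, by rw [Nat.card_zpowers, hk]⟩
  obtain ⟨Sb, hSb⟩ := hzp.exists_le_sylow
  obtain ⟨P, hP⟩ := Sylow.mapSurjective_surjective hsurj p Sb
  have hyb : yb ∈ (P : Subgroup G).map (QuotientGroup.mk' N) := by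
    rw [← Sylow.coe_mapSurjective hsurj, hP]
    exact hSb (Subgroup.mem_zpowers _)
  obtain ⟨y, hyP, hy⟩ := hyb
  have hyN : y ∉ N := by
    intro h
    apply hy1
    rw [← hy]
    exact (QuotientGroup.eq_one_iff y).mpr h
  -- central element of P in N
  obtain ⟨z0, hz0P, hz0N, hz01⟩ := sylow_inf_normal_ne_bot N hpN P
  have hne : N.subgroupOf (P : Subgroup G) ≠ ⊥ := by
    intro h
    have : (⟨z0, hz0P⟩ : (P : Subgroup G)) ∈ N.subgroupOf (P : Subgroup G) := Subgroup.mem_subgroupOf.mpr hz0N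
    rw [h, Subgroup.mem_bot] at this
    exact hz01 (congrArg Subtype.val this)
  obtain ⟨z, hzN, hz1, hzc⟩ := Cfsg.Agent.Helper3.Ambiv.normal_meets_center P.2 (N.subgroupOf (P : Subgroup G)) hne
  -- B = C_P(y)
  set B : Subgroup G := (P : Subgroup G) ⊓ Subgroup.centralizer ({y} : Set G) with hB
  have hBp : IsPGroup p B := P.2.to_le inf_le_left
  set φ : B →* G ⧸ N := (QuotientGroup.mk' N).comp B.subtype with hφ
  have hcard : Nat.card B = Nat.card φ.ker * Nat.card φ.range := by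
    rw [Subgroup.card_eq_card_quotient_mul_card_subgroup φ.ker,
      Nat.card_congr (QuotientGroup.quotientKerEquivRange φ).toEquiv, mul_comm]
  have hyB : y ∈ B := ⟨hyP, Subgroup.mem_centralizer_singleton_iff.mpr rfl⟩
  have hzB : (z : G) ∈ B := by
    refine ⟨z.2, Subgroup.mem_centralizer_singleton_iff.mpr ?_⟩
    have := hzc ⟨y, hyP⟩
    exact (congrArg Subtype.val this).symm
  have h1 : p ^ k ∣ Nat.card φ.range := by
    have h2 : Subgroup.zpowers yb ≤ φ.range := by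
      rw [Subgroup.zpowers_le]
      exact ⟨⟨y, hyB⟩, hy⟩
    have := Subgroup.card_dvd_of_le h2
    rwa [Nat.card_zpowers, hk] at this
  have h2 : p ∣ Nat.card φ.ker := by
    have hkp : IsPGroup p φ.ker := hBp.to_subgroup _
    have hnt : Nontrivial φ.ker := by
      refine ⟨⟨⟨⟨z, hzB⟩, ?_⟩, 1, ?_⟩⟩
      · rw [MonoidHom.mem_ker]
        exact (QuotientGroup.eq_one_iff _).mpr (Subgroup.mem_subgroupOf.mp hzN)
      · intro h
        apply hz1
        have := congrArg (fun t : φ.ker => ((t : B) : G)) h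
        exact Subtype.ext this
    obtain ⟨n, hn0, hn⟩ := hkp.nontrivial_iff_card.mp hnt
    rw [hn]
    exact dvd_pow_self p (Nat.pos_iff_ne_zero.mp hn0)
  have h3 : p ^ (k + 1) ∣ Nat.card B := by
    rw [hcard, pow_succ, mul_comm]
    exact Nat.mul_dvd_mul h2 h1
  have h4 : Nat.card B ∣ Nat.card (Subgroup.centralizer ({y} : Set G)) :=
    Subgroup.card_dvd_of_le inf_le_right
  have h5 := card_centralizer_of_cam hcam hyN
  have h6 : (QuotientGroup.mk y : G ⧸ N) = yb := hy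
  rw [h6] at h5
  rw [← h5]
  exact h3.trans h4




/-- if no cyclic `p`-subgroup `⟨y⟩ ≠ 1` is a Sylow `p`-subgroup of `C(y)`, then there is a subgroup `C_p × C_p` -/
theorem exists_rank_two {Q : Type*} [Group Q] [Finite Q] {p : ℕ} [hp : Fact p.Prime]
    (hpQ : p ∣ Nat.card Q)
    (hyp : ∀ y : Q, y ≠ 1 → ∀ k : ℕ, orderOf y = p ^ k →
      p ^ (k + 1) ∣ Nat.card (Subgroup.centralizer ({y} : Set Q))) :
    ∃ T : Subgroup Q, IsPGroup p T ∧ ∃ e ∈ T, ∃ f ∈ T, e ^ p = 1 ∧ f ^ p = 1 ∧ e * f = f * e ∧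
      ∀ s t : ZMod p, abPow p e f s t = 1 → s = 0 ∧ t = 0 := by
  classical
  have hpp : p.Prime := hp.out
  -- the set of nontrivial p-elements
  let S : Set Q := {y | y ≠ 1 ∧ ∃ k : ℕ, orderOf y = p ^ k}
  have hSne : Nonempty S := by
    obtain ⟨x, hx⟩ := exists_prime_orderOf_dvd_card' p hpQ
    refine ⟨⟨x, ?_, 1, by rw [hx, pow_one]⟩⟩
    intro h
    rw [h, orderOf_one] at hx
    exact hpp.one_lt.ne hx
  obtain ⟨⟨y, hy1, k, hk⟩, hmax⟩ := Finite.exists_max (fun y : S => orderOf (y : Q))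
  have hmax' : ∀ x : Q, x ≠ 1 → (∃ l : ℕ, orderOf x = p ^ l) → orderOf x ≤ p ^ k := by
    intro x hx1 hxl
    have := hmax ⟨x, hx1, hxl⟩
    simpa [hk] using this
  have hk0 : k ≠ 0 := by
    rintro rfl
    rw [pow_zero, orderOf_eq_one_iff] at hk
    exact hy1 hk
  -- a Sylow subgroup of the centralizer
  set C := Subgroup.centralizer ({y} : Set Q) with hC
  have hyC : y ∈ C := Subgroup.mem_centralizer_singleton_iff.mpr rfl
  have hzp : IsPGroup p (Subgroup.zpowers (⟨y, hyC⟩ : C)) := by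
    rw [IsPGroup.iff_card]
    refine ⟨k, ?_⟩
    rw [Nat.card_zpowers, ← hk]
    exact Subgroup.orderOf_mk y hyC
  obtain ⟨T, hT⟩ := hzp.exists_le_sylow
  have hTcard : p ^ (k + 1) ∣ Nat.card (T : Subgroup C) := by
    rw [T.card_eq_multiplicity]
    apply pow_dvd_pow
    exact (Nat.Prime.pow_dvd_iff_le_factorization hpp Nat.card_pos.ne').mp (hyp y hy1 k hk)
  have hex : ∃ s : C, s ∈ (T : Subgroup C) ∧ s ∉ Subgroup.zpowers (⟨y, hyC⟩ : C) := by
    by_contra hcon
    push Not at hcon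
    have hle : (T : Subgroup C) ≤ Subgroup.zpowers (⟨y, hyC⟩ : C) := hcon
    have h1 := Subgroup.card_le_of_le hle
    have h2 : Nat.card (Subgroup.zpowers (⟨y, hyC⟩ : C)) = p ^ k := by
      rw [Nat.card_zpowers, ← hk]; exact Subgroup.orderOf_mk y hyC
    have h3 : p ^ (k + 1) ≤ Nat.card (T : Subgroup C) := Nat.le_of_dvd Nat.card_pos hTcard
    have h4 : p ^ k < p ^ (k + 1) := Nat.pow_lt_pow_right hpp.one_lt (Nat.lt_succ_self k)
    omega
  obtain ⟨s, hsT, hsy⟩ := hex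
  set T' : Subgroup Q := (T : Subgroup C).map C.subtype with hT'
  have hT'p : IsPGroup p T' := T.2.map _
  have hyT' : y ∈ T' := ⟨⟨y, hyC⟩, hT (Subgroup.mem_zpowers _), rfl⟩
  have hs0T' : (s : Q) ∈ T' := ⟨s, hsT, rfl⟩
  have hs0y : (s : Q) ∉ Subgroup.zpowers y := by
    intro h
    obtain ⟨n, hn⟩ := Subgroup.mem_zpowers_iff.mp h
    apply hsy
    rw [Subgroup.mem_zpowers_iff]
    refine ⟨n, ?_⟩
    apply Subtype.ext
    rw [Subgroup.coe_zpow]
    exact hn
  have hcomm0 : Commute (s : Q) y := by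
    have := Subgroup.mem_centralizer_singleton_iff.mp s.2
    exact this
  -- p-elements in T'
  have hpel : ∀ x ∈ T', ∃ l : ℕ, orderOf x = p ^ l := by
    intro x hx
    obtain ⟨j, hj⟩ := hT'p ⟨x, hx⟩
    have h1 : x ^ (p ^ j) = 1 := by
      have := congrArg Subtype.val hj
      simpa using this
    exact (Nat.dvd_prime_pow hpp).mp (orderOf_dvd_of_pow_eq_one h1) |>.imp (fun l hl => hl.2)
  -- minimal power of s in ⟨y⟩
  have hexj : ∃ j : ℕ, (s : Q) ^ (p ^ j) ∈ Subgroup.zpowers y := by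
    obtain ⟨l, hl⟩ := hpel _ hs0T'
    refine ⟨l, ?_⟩
    rw [← hl, pow_orderOf_eq_one]
    exact Subgroup.one_mem _
  set j0 := Nat.find hexj with hj0
  have hj0spec : (s : Q) ^ (p ^ j0) ∈ Subgroup.zpowers y := Nat.find_spec hexj
  have hj0ne : j0 ≠ 0 := by
    intro h
    rw [h, pow_zero, pow_one] at hj0spec
    exact hs0y hj0spec
  obtain ⟨j1, hj1⟩ := Nat.exists_eq_add_one_of_ne_zero hj0ne
  set s1 : Q := (s : Q) ^ (p ^ j1) with hs1
  have hs1y : s1 ∉ Subgroup.zpowers y := by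
    have := Nat.find_min hexj (m := j1) (by rw [← hj0, hj1]; exact Nat.lt_succ_self j1)
    exact this
  have hs1p : s1 ^ p ∈ Subgroup.zpowers y := by
    have : s1 ^ p = (s : Q) ^ (p ^ j0) := by
      rw [hs1, ← pow_mul, hj1, pow_succ]
    rw [this]; exact hj0spec
  have hs1T' : s1 ∈ T' := T'.pow_mem hs0T' _
  have hcomm1 : Commute s1 y := hcomm0.pow_left _
  have hs11 : s1 ≠ 1 := by
    intro h
    rw [h] at hs1y
    exact hs1y (Subgroup.one_mem _)
  have hs1k : s1 ^ (p ^ k) = 1 := by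
    obtain ⟨l, hl⟩ := hpel s1 hs1T'
    have h1 := hmax' s1 hs11 ⟨l, hl⟩
    rw [hl] at h1
    have h2 : l ≤ k := (Nat.pow_le_pow_iff_right hpp.one_lt).mp h1
    have h3 : orderOf s1 ∣ p ^ k := by rw [hl]; exact pow_dvd_pow p h2
    exact orderOf_dvd_iff_pow_eq_one.mp h3
  obtain ⟨m, hm⟩ := Subgroup.mem_zpowers_iff.mp hs1p
  obtain ⟨k1, hk1⟩ := Nat.exists_eq_add_one_of_ne_zero hk0
  have hpm : (p : ℤ) ∣ m := by
    have h1 : y ^ (m * (p : ℤ) ^ k1) = 1 := by
      rw [zpow_mul, hm]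
      have : (s1 ^ p) ^ ((p : ℤ) ^ k1) = s1 ^ (p ^ k) := by
        rw [← zpow_natCast s1 p, ← zpow_mul, ← zpow_natCast s1 (p ^ k)]
        congr 1
        rw [hk1]; push_cast; ring
      rw [this, hs1k]
    have h2 : ((orderOf y : ℕ) : ℤ) ∣ m * (p : ℤ) ^ k1 := orderOf_dvd_iff_zpow_eq_one.mpr h1
    rw [hk, hk1] at h2
    push_cast at h2
    rw [pow_succ, mul_comm ((p : ℤ) ^ k1) (p : ℤ)] at h2
    have hne : ((p : ℤ) ^ k1) ≠ 0 := pow_ne_zero _ (by exact_mod_cast hpp.ne_zero)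
    rw [mul_comm m] at h2
    -- p * p^k1 ∣ p^k1 * m
    obtain ⟨c, hc⟩ := h2
    refine ⟨c, ?_⟩
    have : (p : ℤ) ^ k1 * m = (p : ℤ) ^ k1 * ((p : ℤ) * c) := by rw [hc]; ring
    exact mul_left_cancel₀ hne this
  obtain ⟨m', hm'⟩ := hpm
  set e : Q := s1 * y ^ (-m') with he
  set f : Q := y ^ (p ^ k1) with hf
  have hyT'z : ∀ n : ℤ, y ^ n ∈ T' := fun n => T'.zpow_mem hyT' n
  have heT' : e ∈ T' := T'.mul_mem hs1T' (hyT'z _)
  have hfT' : f ∈ T' := T'.pow_mem hyT' _
  have hep : e ^ p = 1 := by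
    have hc : Commute s1 (y ^ (-m')) := hcomm1.zpow_right _
    rw [he, hc.mul_pow, ← hm, hm', ← zpow_natCast (y ^ (-m')) p, ← zpow_mul, ← zpow_add]
    have : (p : ℤ) * m' + -m' * (p : ℤ) = 0 := by ring
    rw [this, zpow_zero]
  have hfp : f ^ p = 1 := by
    rw [hf, ← pow_mul, ← pow_succ, ← hk1, ← hk, pow_orderOf_eq_one]
  have hf1 : f ≠ 1 := by
    rw [hf]
    apply pow_ne_one_of_lt_orderOf (pow_ne_zero _ hpp.ne_zero)
    rw [hk, hk1]
    exact Nat.pow_lt_pow_right hpp.one_lt (Nat.lt_succ_self k1)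
  have hey : e ∉ Subgroup.zpowers y := by
    intro h
    apply hs1y
    have : s1 = e * y ^ m' := by rw [he, mul_assoc, ← zpow_add]; simp
    rw [this]
    exact Subgroup.mul_mem _ h (Subgroup.zpow_mem _ (Subgroup.mem_zpowers y) _)
  have hfy : ∀ n : ℕ, f ^ n ∈ Subgroup.zpowers y := by
    intro n
    rw [hf, ← pow_mul]
    exact Subgroup.pow_mem _ (Subgroup.mem_zpowers y) _
  have hef : e * f = f * e := by
    have hc : Commute e y := (hcomm1.mul_left (Commute.refl y |>.zpow_left _))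
    exact (hc.pow_right _).eq
  refine ⟨T', hT'p, e, heT', f, hfT', hep, hfp, hef, ?_⟩
  intro s' t' hst
  unfold abPow at hst
  have hs0 : s' = 0 := by
    by_contra hs
    have hval : 0 < s'.val := Nat.pos_of_ne_zero (fun h => hs ((ZMod.val_eq_zero s').mp h))
    have hlt : s'.val < p := ZMod.val_lt s'
    have hcop : Nat.Coprime s'.val p := by
      rw [Nat.coprime_comm, Nat.Prime.coprime_iff_not_dvd hpp]
      intro hd
      exact absurd (Nat.le_of_dvd hval hd) (not_le.mpr hlt)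
    obtain ⟨n, -, hn⟩ := Nat.exists_mul_mod_eq_one_of_coprime hcop hpp.one_lt
    have h1 : e ^ s'.val ∈ Subgroup.zpowers y := by
      have : e ^ s'.val = (f ^ t'.val)⁻¹ := eq_inv_of_mul_eq_one_left hst
      rw [this]
      exact Subgroup.inv_mem _ (hfy _)
    have h2 : e = (e ^ s'.val) ^ n := by
      rw [← pow_mul, pow_eq_pow_mod _ hep, hn, pow_one]
    apply hey
    rw [h2]
    exact Subgroup.pow_mem _ h1 _
  refine ⟨hs0, ?_⟩
  rw [hs0, ZMod.val_zero, pow_zero, one_mul] at hst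
  have hof : orderOf f = p := orderOf_eq_prime hfp hf1
  have h0 : orderOf f ∣ t'.val := orderOf_dvd_of_pow_eq_one hst
  have h1 : p ∣ t'.val := by rw [hof] at h0; exact h0
  have h2 : t'.val = 0 := Nat.eq_zero_of_dvd_of_lt h1 (ZMod.val_lt t')
  exact (ZMod.val_eq_zero t').mp h2





theorem mk_abPow (N : Subgroup G) [N.Normal] (p : ℕ) (e f : G) (s t : ZMod p) :
    (QuotientGroup.mk (abPow p e f s t) : G ⧸ N) =
      abPow p (QuotientGroup.mk e : G ⧸ N) (QuotientGroup.mk f) s t := by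
  unfold abPow
  rw [QuotientGroup.mk_mul, QuotientGroup.mk_pow, QuotientGroup.mk_pow]

/-- a `p`-group `Y` whose image modulo `N` contains `C_p × C_p` cannot act on a nontrivial abelian
`p'`-group `V` with `Y ∩ N` acting trivially and `Y ∖ N` acting fixed-point-freely -/
theorem no_frobenius_action [Finite G] {p : ℕ} [hp : Fact p.Prime] (N : Subgroup G) [hN : N.Normal]
    (Y V : Subgroup G) [hVc : IsMulCommutative V] (hYV : Y ≤ Subgroup.normalizer (V : Set G))
    (hcop : (Nat.card V).Coprime p)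
    (hYN : ∀ d ∈ Y, d ∈ N → ∀ v ∈ V, d * v * d⁻¹ = v)
    (hfix : ∀ u ∈ Y, u ∉ N → ∀ v ∈ V, u * v * u⁻¹ = v → v = 1)
    (e f : G) (he : e ∈ Y) (hf : f ∈ Y)
    (hep : (QuotientGroup.mk e : G ⧸ N) ^ p = 1) (hfp : (QuotientGroup.mk f : G ⧸ N) ^ p = 1)
    (hef : (QuotientGroup.mk e : G ⧸ N) * QuotientGroup.mk f = QuotientGroup.mk f * QuotientGroup.mk e)
    (hind : ∀ s t : ZMod p, abPow p (QuotientGroup.mk e : G ⧸ N) (QuotientGroup.mk f) s t = 1 →
      s = 0 ∧ t = 0) : V = ⊥ := by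
  set act : ZMod p → ZMod p → (V →* V) := fun s t =>
    Cfsg.Agent.Helper1.conjOn Y V hYV ⟨abPow p e f s t, abPow_mem Y e f he hf s t⟩ with hact
  have hall : ∀ v : V, v = 1 := by
    apply trivial_of_fixedPointFree_sq (p := p) hcop act
    · intro s t s' t'
      apply MonoidHom.ext
      intro v
      apply Subtype.ext
      simp only [hact, MonoidHom.comp_apply, Cfsg.Agent.Helper1.conjOn_coe]
      set u12 := abPow p e f (s + s') (t + t') with hu12
      set u1 := abPow p e f s t with hu1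
      set u2 := abPow p e f s' t' with hu2
      set d := (u1 * u2)⁻¹ * u12 with hd
      have hdY : d ∈ Y := Y.mul_mem (Y.inv_mem (Y.mul_mem (abPow_mem Y e f he hf s t)
        (abPow_mem Y e f he hf s' t'))) (abPow_mem Y e f he hf _ _)
      have hdN : d ∈ N := by
        rw [← QuotientGroup.eq_one_iff, hd, QuotientGroup.mk_mul, QuotientGroup.mk_inv,
          QuotientGroup.mk_mul, hu12, hu1, hu2, mk_abPow, mk_abPow, mk_abPow,
          abPow_add _ _ hef hep hfp]
        group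
      have h1 := hYN d hdY hdN (v : G) v.2
      have h2 : u12 = u1 * u2 * d := by rw [hd]; group
      rw [h2]
      calc u1 * u2 * d * (v : G) * (u1 * u2 * d)⁻¹
          = u1 * (u2 * (d * (v : G) * d⁻¹) * u2⁻¹) * u1⁻¹ := by group
        _ = u1 * (u2 * (v : G) * u2⁻¹) * u1⁻¹ := by rw [h1]
    · apply MonoidHom.ext
      intro v
      apply Subtype.ext
      simp only [hact, Cfsg.Agent.Helper1.conjOn_coe, MonoidHom.id_apply]
      rw [abPow_zero]
      group
    · intro s t hst v hv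
      have hu : abPow p e f s t ∉ N := by
        intro h
        rw [← QuotientGroup.eq_one_iff, mk_abPow] at h
        obtain ⟨h1, h2⟩ := hind s t h
        rcases hst with h3 | h3
        · exact h3 h1
        · exact h3 h2
      have h1 := congrArg Subtype.val hv
      simp only [hact, Cfsg.Agent.Helper1.conjOn_coe] at h1
      have h2 := hfix _ (abPow_mem Y e f he hf s t) hu (v : G) v.2 h1
      exact Subtype.ext h2
  rw [eq_bot_iff]
  intro v hv
  have := hall ⟨v, hv⟩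
  rw [Subgroup.mem_bot]
  exact congrArg Subtype.val this

/-- lifting a `p`-subgroup of the quotient to a `p`-subgroup of a supplement of `N` -/
theorem lift_pgroup [Finite G] {p : ℕ} [hp : Fact p.Prime] (N : Subgroup G) [hN : N.Normal]
    (M : Subgroup G) (hM : ∀ xb : G ⧸ N, ∃ m ∈ M, (QuotientGroup.mk m : G ⧸ N) = xb)
    (Tb : Subgroup (G ⧸ N)) (hTb : IsPGroup p Tb) :
    ∃ Y : Subgroup G, Y ≤ M ∧ IsPGroup p Y ∧ ∀ tb ∈ Tb, ∃ y ∈ Y, (QuotientGroup.mk y : G ⧸ N) = tb := by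
  set φ : M →* G ⧸ N := (QuotientGroup.mk' N).comp M.subtype with hφ
  have hsurj : Function.Surjective φ := by
    intro xb
    obtain ⟨m, hm, hx⟩ := hM xb
    exact ⟨⟨m, hm⟩, hx⟩
  obtain ⟨Sb, hSb⟩ := hTb.exists_le_sylow
  obtain ⟨Y, hY⟩ := Sylow.mapSurjective_surjective hsurj p Sb
  refine ⟨(Y : Subgroup M).map M.subtype, Subgroup.map_subtype_le _, Y.2.map _, ?_⟩
  intro tb htb
  have h1 : tb ∈ (Y : Subgroup M).map φ := by
    rw [← Sylow.coe_mapSurjective hsurj, hY]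
    exact hSb htb
  obtain ⟨y, hy, hyt⟩ := h1
  exact ⟨(y : G), ⟨y, hy, rfl⟩, hyt⟩


end Cfsg.Agent.Helper3.Camina
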