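import Mathlib
import Cfsg.Agent.Helper1.Basic
import Cfsg.Agent.Helper1.AGa
import Cfsg.Agent.Helper3.CaminaB

/-!
Helper library (helper3): Camina pairs, part C: the basic Frobenius-action contradiction.
-/

set_option autoImplicit false

namespace Cfsg.Agent.Helper3.Camina

open Cfsg.Agent.Helper5
open scoped IsMulCommutative

variable {G : Type*} [Group G]

/-- the centre of `R`, as a subgroup of `G` -/
def zOf (R : Subgroup G) : Subgroup G := R ⊓ Subgroup.centralizer (R : Set G)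

instance zOf_comm (R : Subgroup G) : IsMulCommutative (zOf R) :=
  ⟨⟨fun a b => Subtype.ext ((Subgroup.mem_centralizer_iff.mp a.2.2 b b.2.1).symm)⟩⟩

theorem zOf_ne_bot [Finite G] {r : ℕ} [hr : Fact r.Prime] {R : Subgroup G} (hR : IsPGroup r R)
    (hne : R ≠ ⊥) : zOf R ≠ ⊥ := by
  have : Nontrivial ↥R := (Subgroup.nontrivial_iff_ne_bot _).mpr hne
  have h1 := hR.bot_lt_center
  obtain ⟨a, ha1⟩ := (Subgroup.ne_bot_iff_exists_ne_one).mp h1.ne'
  intro hbot
  have hz : ((a : ↥R) : G) ∈ zOf R := by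
    refine ⟨(a : ↥R).2, Subgroup.mem_centralizer_iff.mpr ?_⟩
    intro y hy
    have := Subgroup.mem_center_iff.mp a.2 ⟨y, hy⟩
    exact congrArg Subtype.val this
  rw [hbot, Subgroup.mem_bot] at hz
  exact ha1 (Subtype.ext (Subtype.ext hz))

theorem normalizer_le_normalizer_zOf [Finite G] (R : Subgroup G) :
    Subgroup.normalizer (R : Set G) ≤ Subgroup.normalizer (zOf R : Set G) := by
  intro y hy
  have hy' : y⁻¹ ∈ Subgroup.normalizer (R : Set G) := Subgroup.inv_mem _ hy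
  apply Subgroup.mem_normalizer_fintype
  intro v hv
  refine ⟨(Subgroup.mem_normalizer_iff.mp hy v).mp hv.1, Subgroup.mem_centralizer_iff.mpr ?_⟩
  intro g hg
  have hg' : y⁻¹ * g * y⁻¹⁻¹ ∈ R := (Subgroup.mem_normalizer_iff.mp hy' g).mp hg
  have h1 := Subgroup.mem_centralizer_iff.mp hv.2 _ hg'
  calc g * (y * v * y⁻¹) = y * ((y⁻¹ * g * y⁻¹⁻¹) * v) * y⁻¹ := by group
    _ = y * (v * (y⁻¹ * g * y⁻¹⁻¹)) * y⁻¹ := by rw [h1]
    _ = y * v * y⁻¹ * g := by group

/-- the existence of `C_p × C_p` in the quotient for a bad prime -/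
theorem exists_rank_two_quot [Finite G] {p : ℕ} [hp : Fact p.Prime] {N : Subgroup G} [hN : N.Normal]
    (hcam : IsCam N) (hpN : p ∣ Nat.card N) (hpI : p ∣ N.index) :
    ∃ T : Subgroup (G ⧸ N), IsPGroup p T ∧ ∃ e ∈ T, ∃ f ∈ T, e ^ p = 1 ∧ f ^ p = 1 ∧ e * f = f * e ∧
      ∀ s t : ZMod p, abPow p e f s t = 1 → s = 0 ∧ t = 0 := by
  apply exists_rank_two
  · rw [← Subgroup.index_eq_card]; exact hpI
  · intro y hy1 k hk
    exact dvd_card_centralizer_quot hcam hpN y k hk hy1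

/-- the basic contradiction: a bad prime `p`, a supplement `M` of `N` normalizing a nontrivial
`r`-subgroup `R ≤ N` (`r ≠ p`) such that the `p`-elements of `M ∩ N` centralize `R`. -/
theorem frob_contra [Finite G] {p r : ℕ} [hp : Fact p.Prime] [hr : Fact r.Prime] (hpr : p ≠ r)
    {N : Subgroup G} [hN : N.Normal]
    (hcam : IsCam N) (hpN : p ∣ Nat.card N) (hpI : p ∣ N.index)
    (M R : Subgroup G) (hM : ∀ xb : G ⧸ N, ∃ m ∈ M, (QuotientGroup.mk m : G ⧸ N) = xb)
    (hRN : R ≤ N) (hRr : IsPGroup r R) (hR1 : R ≠ ⊥) (hMR : M ≤ Subgroup.normalizer (R : Set G))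
    (hMN : ∀ d ∈ M, d ∈ N → (∃ a : ℕ, d ^ (p ^ a) = 1) → ∀ v ∈ R, d * v * d⁻¹ = v) : False := by
  obtain ⟨Tb, hTb, eb, heb, fb, hfb, hep, hfp, hef, hind⟩ := exists_rank_two_quot hcam hpN hpI
  obtain ⟨Y, hYM, hYp, hYlift⟩ := lift_pgroup N M hM Tb hTb
  obtain ⟨e, heY, hee⟩ := hYlift eb heb
  obtain ⟨f, hfY, hff⟩ := hYlift fb hfb
  have hpow : ∀ u ∈ Y, ∃ a : ℕ, u ^ (p ^ a) = 1 := by
    intro u hu
    obtain ⟨a, ha⟩ := hYp ⟨u, hu⟩
    exact ⟨a, by simpa using congrArg Subtype.val ha⟩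
  have hVp : IsPGroup r (zOf R) := hRr.to_le inf_le_left
  have hcop : (Nat.card (zOf R)).Coprime p := by
    obtain ⟨n, hn⟩ := IsPGroup.iff_card.mp hVp
    rw [hn]
    exact Nat.Coprime.pow_left n ((Nat.coprime_primes hr.out hp.out).mpr (Ne.symm hpr))
  apply zOf_ne_bot hRr hR1
  apply no_frobenius_action N Y (zOf R) ((hYM.trans hMR).trans (normalizer_le_normalizer_zOf R)) hcop
    ?_ ?_ e f heY hfY
  · rw [hee]; exact hep
  · rw [hff]; exact hfp
  · rw [hee, hff]; exact hef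
  · rw [hee, hff]; exact hind
  · intro d hdY hdN v hv
    exact hMN d (hYM hdY) hdN (hpow d hdY) v hv.1
  · intro u huY huN v hv huv
    have hvN : v ∈ N := hRN hv.1
    have huc : u * v = v * u := by
      calc u * v = (u * v * u⁻¹) * u := by group
        _ = v * u := by rw [huv]
    have hco : (orderOf v).Coprime p := by
      have h1 : orderOf v ∣ Nat.card (zOf R) := by
        have := orderOf_dvd_natCard (⟨v, hv⟩ : zOf R)
        rwa [Subgroup.orderOf_mk] at this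
      exact hcop.coprime_dvd_left h1
    exact cam_fpf hcam huN (hpow u huY) hvN huc hco

end Cfsg.Agent.Helper3.Camina
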