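import Mathlib
import Cfsg.Agent.Helper1.Basic
import Cfsg.Agent.Helper1.AGa
import Cfsg.Agent.Helper3.CaminaC

/-!
Helper library (helper3): Camina pairs, part D: for a bad prime `p` a Sylow `p`-subgroup of `N` is
self-normalizing in `N`; consequences.
-/

set_option autoImplicit false

namespace Cfsg.Agent.Helper3.Camina

open Cfsg.Agent.Helper5
open scoped IsMulCommutative Pointwise

variable {G : Type*} [Group G]

theorem mem_sylow_inf_of_pow [Finite G] {p : ℕ} [hp : Fact p.Prime] (P : Sylow p G) (N : Subgroup G)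
    [hN : N.Normal] (d : G) (hdN : d ∈ N)
    (hdL : d ∈ Subgroup.normalizer (((P : Subgroup G) ⊓ N : Subgroup G) : Set G))
    (hd : ∃ a : ℕ, d ^ (p ^ a) = 1) : d ∈ (P : Subgroup G) ⊓ N := by
  set P0 := (P : Subgroup G) ⊓ N with hP0
  have hP0p : IsPGroup p P0 := P.2.to_le inf_le_left
  have hZp : IsPGroup p (Subgroup.zpowers d) := by
    obtain ⟨a, ha⟩ := hd
    rw [IsPGroup.iff_card, Nat.card_zpowers]
    obtain ⟨j, -, hj⟩ := (Nat.dvd_prime_pow hp.out).mp (orderOf_dvd_of_pow_eq_one ha)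
    exact ⟨j, hj⟩
  have hZn : Subgroup.zpowers d ≤ Subgroup.normalizer (P0 : Set G) := by
    rw [Subgroup.zpowers_le]; exact hdL
  have hDp : IsPGroup p (Subgroup.zpowers d ⊔ P0 : Subgroup G) :=
    IsPGroup.to_sup_of_normal_right' hZp hP0p hZn
  have hDN : Subgroup.zpowers d ⊔ P0 ≤ N := sup_le (by rw [Subgroup.zpowers_le]; exact hdN) inf_le_right
  obtain ⟨P', hP'⟩ := hDp.exists_le_sylow
  obtain ⟨g, hg⟩ := MulAction.exists_smul_eq G P P'
  have hle : Subgroup.zpowers d ⊔ P0 ≤ MulAut.conj g • P0 := by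
    intro x hx
    rw [Subgroup.mem_pointwise_smul_iff_inv_smul_mem]
    have h1 : x ∈ (P' : Subgroup G) := hP' hx
    rw [← hg, Sylow.smul_def, Sylow.pointwise_smul_def, Subgroup.mem_pointwise_smul_iff_inv_smul_mem] at h1
    refine ⟨h1, ?_⟩
    rw [MulAut.smul_def, MulAut.conj_inv_apply]
    have := hN.conj_mem x (hDN hx) g⁻¹
    simpa using this
  have hcard : Nat.card (Subgroup.zpowers d ⊔ P0 : Subgroup G) ≤ Nat.card P0 := by
    rw [← Cfsg.Agent.Helper1.card_conj_smul g P0]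
    exact Subgroup.card_le_of_le hle
  have heq : P0 = Subgroup.zpowers d ⊔ P0 := Subgroup.eq_of_le_of_card_ge le_sup_right hcard
  rw [heq]
  exact le_sup_left (a := Subgroup.zpowers d) (Subgroup.mem_zpowers d)

/-- the quotient map restricted to `N_G(P ∩ N)` is onto -/
theorem normalizer_sylow_inf_surj [Finite G] {p : ℕ} [hp : Fact p.Prime] (P : Sylow p G) (N : Subgroup G)
    [hN : N.Normal] (xb : G ⧸ N) :
    ∃ m ∈ Subgroup.normalizer (((P : Subgroup G) ⊓ N : Subgroup G) : Set G),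
      (QuotientGroup.mk m : G ⧸ N) = xb := by
  obtain ⟨g, rfl⟩ := QuotientGroup.mk_surjective xb
  have hg : g ∈ Subgroup.normalizer (((P : Subgroup G) ⊓ N : Subgroup G) : Set G) ⊔ N := by
    rw [Cfsg.Agent.Helper1.AG.frattini_sylow_inf]; exact Subgroup.mem_top g
  rw [← SetLike.mem_coe, Subgroup.mul_normal] at hg
  obtain ⟨l, hl, n, hn, rfl⟩ := hg
  refine ⟨l, hl, ?_⟩
  rw [QuotientGroup.mk_mul, (QuotientGroup.eq_one_iff n).mpr hn, mul_one]

/-- **(C1)** for a bad prime `p`, a Sylow `p`-subgroup of `N` is self-normalizing in `N` -/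
theorem normalizer_inf_le [Finite G] {p : ℕ} [hp : Fact p.Prime] {N : Subgroup G} [hN : N.Normal]
    (hcam : IsCam N) (hpN : p ∣ Nat.card N) (hpI : p ∣ N.index) (P : Sylow p G) :
    Subgroup.normalizer (((P : Subgroup G) ⊓ N : Subgroup G) : Set G) ⊓ N ≤ (P : Subgroup G) := by
  by_contra hcon
  set P0 := (P : Subgroup G) ⊓ N with hP0
  set L := Subgroup.normalizer (P0 : Set G) with hL
  set L0 := L ⊓ N with hL0
  have hP0p : IsPGroup p P0 := P.2.to_le inf_le_left
  have hPL : (P : Subgroup G) ≤ L := Cfsg.Agent.Helper1.le_normalizer_inf_normal _ N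
  have hLL0 : L ≤ Subgroup.normalizer (L0 : Set G) := by
    intro l hl
    apply Subgroup.mem_normalizer_fintype
    intro c hc
    exact ⟨L.mul_mem (L.mul_mem hl hc.1) (L.inv_mem hl), hN.conj_mem c hc.2 l⟩
  have hnp : ¬ IsPGroup p L0 := by
    intro h
    have h1 : IsPGroup p ((P : Subgroup G) ⊔ L0 : Subgroup G) :=
      IsPGroup.to_sup_of_normal_right' P.2 h (hPL.trans hLL0)
    have h2 := P.is_maximal' h1 le_sup_left
    apply hcon
    rw [← h2]
    exact le_sup_right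
  obtain ⟨r, hrp, hrne, hrd⟩ : ∃ r : ℕ, r.Prime ∧ r ≠ p ∧ r ∣ Nat.card L0 := by
    by_contra hno
    push Not at hno
    apply hnp
    rw [IsPGroup.iff_card]
    exact ⟨_, Nat.eq_prime_pow_of_unique_prime_dvd Nat.card_pos.ne'
      (fun {d} hd hdd => by_contra (fun hne => hno d hd hne hdd))⟩
  have : Fact r.Prime := ⟨hrp⟩
  -- work inside L
  set L0' : Subgroup L := L0.subgroupOf L with hL0'
  have hL0'n : L0'.Normal := (Subgroup.normal_subgroupOf_iff_le_normalizer inf_le_left).mpr hLL0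
  have hcardL0' : Nat.card L0' = Nat.card L0 :=
    Nat.card_congr (Subgroup.subgroupOfEquivOfLe (inf_le_left : L0 ≤ L)).toEquiv
  obtain ⟨R⟩ : Nonempty (Sylow r L0') := inferInstance
  have hRne : (R : Subgroup L0') ≠ ⊥ := by
    intro h
    have h1 := R.card_eq_multiplicity
    rw [h, Subgroup.card_bot] at h1
    have h2 : 0 < (Nat.card L0').factorization r :=
      Nat.Prime.factorization_pos_of_dvd hrp Nat.card_pos.ne' (hcardL0' ▸ hrd)
    have h3 : 1 < r ^ (Nat.card L0').factorization r := Nat.one_lt_pow h2.ne' hrp.one_lt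
    omega
  set R1 : Subgroup L := (R : Subgroup L0').map L0'.subtype with hR1
  set R2 : Subgroup G := R1.map L.subtype with hR2
  have hfrat := Sylow.normalizer_sup_eq_top R
  set M : Subgroup G := (Subgroup.normalizer (R1 : Set L)).map L.subtype with hM
  have hR2r : IsPGroup r R2 := (R.2.map _).map _
  have hR2L0 : R2 ≤ L0 := by
    rintro _ ⟨x, hx, rfl⟩
    obtain ⟨y, hy, rfl⟩ := hx
    exact Subgroup.mem_subgroupOf.mp y.2
  have hR2ne : R2 ≠ ⊥ := by
    obtain ⟨x, hx⟩ := (Subgroup.ne_bot_iff_exists_ne_one).mp hRne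
    intro h
    have h1 : (((x : L0') : L) : G) ∈ R2 := ⟨((x : L0') : L), ⟨(x : L0'), x.2, rfl⟩, rfl⟩
    rw [h, Subgroup.mem_bot] at h1
    exact hx (Subtype.ext (Subtype.ext (Subtype.ext h1)))
  have hML : M ≤ L := Subgroup.map_subtype_le _
  have hMR : M ≤ Subgroup.normalizer (R2 : Set G) := by
    rintro _ ⟨x, hx, rfl⟩
    apply Subgroup.mem_normalizer_fintype
    rintro _ ⟨y, hy, rfl⟩
    exact ⟨x * y * x⁻¹, (Subgroup.mem_normalizer_iff.mp hx y).mp hy, rfl⟩
  have hMsurj : ∀ xb : G ⧸ N, ∃ m ∈ M, (QuotientGroup.mk m : G ⧸ N) = xb := by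
    intro xb
    obtain ⟨l, hl, rfl⟩ := normalizer_sylow_inf_surj P N xb
    have h1 : (⟨l, hl⟩ : L) ∈ Subgroup.normalizer (R1 : Set L) ⊔ L0' := by
      rw [hfrat]; exact Subgroup.mem_top _
    rw [← SetLike.mem_coe, Subgroup.mul_normal] at h1
    obtain ⟨x, hx, c, hc, hxc⟩ := h1
    refine ⟨(x : G), ⟨x, hx, rfl⟩, ?_⟩
    have h2 : l = (x : G) * (c : G) := by
      have := congrArg Subtype.val hxc
      simpa using this.symm
    have hcN : (c : G) ∈ N := (Subgroup.mem_subgroupOf.mp hc).2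
    rw [h2, QuotientGroup.mk_mul, (QuotientGroup.eq_one_iff (c : G)).mpr hcN, mul_one]
  apply frob_contra (Ne.symm hrne) hcam hpN hpI M R2 hMsurj (hR2L0.trans inf_le_right) hR2r hR2ne hMR
  intro d hdM hdN hdp v hv
  have hdL : d ∈ L := hML hdM
  have hdP0 : d ∈ P0 := mem_sylow_inf_of_pow P N d hdN hdL hdp
  have hvL : v ∈ L := (hR2L0 hv).1
  -- the commutator lies in R2 ⊓ P0 = ⊥
  have h1 : d * v * d⁻¹ * v⁻¹ ∈ R2 :=
    R2.mul_mem ((Subgroup.mem_normalizer_iff.mp (hMR hdM) v).mp hv) (R2.inv_mem hv)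
  have h2 : d * v * d⁻¹ * v⁻¹ ∈ P0 := by
    have h3 : v * d⁻¹ * v⁻¹ ∈ P0 := (Subgroup.mem_normalizer_iff.mp hvL d⁻¹).mp (P0.inv_mem hdP0)
    have : d * v * d⁻¹ * v⁻¹ = d * (v * d⁻¹ * v⁻¹) := by group
    rw [this]
    exact P0.mul_mem hdP0 h3
  have h4 : d * v * d⁻¹ * v⁻¹ = 1 := by
    have hdisj : Disjoint P0 R2 := IsPGroup.disjoint_of_ne p r hrne.symm P0 R2 hP0p hR2r
    exact Subgroup.disjoint_def.mp hdisj h2 h1
  calc d * v * d⁻¹ = (d * v * d⁻¹ * v⁻¹) * v := by group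
    _ = v := by rw [h4, one_mul]

/-- two distinct bad primes cannot coexist -/
theorem no_two_bad [Finite G] {p q : ℕ} [hp : Fact p.Prime] [hq : Fact q.Prime] (hpq : p ≠ q)
    {N : Subgroup G} [hN : N.Normal] (hcam : IsCam N) (hpN : p ∣ Nat.card N) (hpI : p ∣ N.index)
    (hqN : q ∣ Nat.card N) (hqI : q ∣ N.index) : False := by
  obtain ⟨P⟩ : Nonempty (Sylow p G) := inferInstance
  set P0 := (P : Subgroup G) ⊓ N with hP0
  have hP0ne : P0 ≠ ⊥ := by
    obtain ⟨z, hzP, hzN, hz1⟩ := sylow_inf_normal_ne_bot N hpN P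
    intro h
    have : z ∈ P0 := ⟨hzP, hzN⟩
    rw [h, Subgroup.mem_bot] at this
    exact hz1 this
  apply frob_contra (p := q) (r := p) (Ne.symm hpq) hcam hqN hqI
    (Subgroup.normalizer (P0 : Set G)) P0 (normalizer_sylow_inf_surj P N) inf_le_right
    (P.2.to_le inf_le_left) hP0ne le_rfl
  intro d hdL hdN hdq v hv
  have hdP : d ∈ (P : Subgroup G) := normalizer_inf_le hcam hpN hpI P ⟨hdL, hdN⟩
  obtain ⟨b, hb⟩ := P.2 ⟨d, hdP⟩
  have hb' : d ^ (p ^ b) = 1 := by simpa using congrArg Subtype.val hb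
  obtain ⟨a, ha⟩ := hdq
  have h1 : orderOf d ∣ p ^ b := orderOf_dvd_of_pow_eq_one hb'
  have h2 : orderOf d ∣ q ^ a := orderOf_dvd_of_pow_eq_one ha
  have h3 : Nat.Coprime (p ^ b) (q ^ a) :=
    Nat.Coprime.pow b a ((Nat.coprime_primes hp.out hq.out).mpr hpq)
  have h4 : orderOf d = 1 := Nat.eq_one_of_dvd_coprimes h3 h1 h2
  rw [orderOf_eq_one_iff.mp h4]
  group

/-- for a bad prime `p`, a nilpotent `N` is a `p`-group -/
theorem isPGroup_of_isNilpotent [Finite G] {p : ℕ} [hp : Fact p.Prime]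
    {N : Subgroup G} [hN : N.Normal] (hcam : IsCam N) (hpN : p ∣ Nat.card N) (hpI : p ∣ N.index)
    (hnil : Group.IsNilpotent N) : IsPGroup p N := by
  obtain ⟨P⟩ : Nonempty (Sylow p G) := inferInstance
  set P0 := (P : Subgroup G) ⊓ N with hP0
  set H : Subgroup N := P0.subgroupOf N with hH
  have hnc : NormalizerCondition N := normalizerCondition_of_isNilpotent
  have hHtop : H = ⊤ := by
    by_contra hne
    have hlt : H < ⊤ := lt_top_iff_ne_top.mpr hne
    have h1 := hnc H hlt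
    obtain ⟨n, hn, hnH⟩ := SetLike.exists_of_lt h1
    apply hnH
    rw [hH, Subgroup.mem_subgroupOf]
    have hnL : (n : G) ∈ Subgroup.normalizer (P0 : Set G) := by
      apply Subgroup.mem_normalizer_fintype
      intro g hg
      have h2 : (⟨g, hg.2⟩ : N) ∈ H := Subgroup.mem_subgroupOf.mpr hg
      have h3 := (Subgroup.mem_normalizer_iff.mp hn ⟨g, hg.2⟩).mp h2
      exact Subgroup.mem_subgroupOf.mp h3
    exact ⟨normalizer_inf_le hcam hpN hpI P ⟨hnL, n.2⟩, n.2⟩
  have hNP : N ≤ (P : Subgroup G) := by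
    intro n hn
    have : (⟨n, hn⟩ : N) ∈ H := by rw [hHtop]; exact Subgroup.mem_top _
    exact (Subgroup.mem_subgroupOf.mp this).1
  exact P.2.to_le hNP

end Cfsg.Agent.Helper3.Camina
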