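import Mathlib

set_option autoImplicit false

namespace Cfsg.Agent.Helper3.TransInv

open MulAction Subgroup Subgroup.leftTransversals

variable {G : Type*} [Group G] {H : Subgroup G}

/-- extension by `1` of a homomorphism defined on a subgroup -/
noncomputable def ext1 {A : Type*} [CommGroup A] (ϕ : H →* A) (x : G) : A :=
  open scoped Classical in if h : x ∈ H then ϕ ⟨x, h⟩ else 1

theorem ext1_of_mem {A : Type*} [CommGroup A] (ϕ : H →* A) {x : G} (h : x ∈ H) :
    ext1 ϕ x = ϕ ⟨x, h⟩ := by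
  unfold ext1
  rw [dif_pos h]

theorem ext1_mul {A : Type*} [CommGroup A] (ϕ : H →* A) {x y : G} (hx : x ∈ H) (hy : y ∈ H) :
    ext1 ϕ (x * y) = ext1 ϕ x * ext1 ϕ y := by
  rw [ext1_of_mem ϕ hx, ext1_of_mem ϕ hy, ext1_of_mem ϕ (H.mul_mem hx hy), ← map_mul]
  rfl

theorem ext1_one {A : Type*} [CommGroup A] (ϕ : H →* A) : ext1 ϕ (1 : G) = 1 := by
  rw [ext1_of_mem ϕ H.one_mem]
  exact map_one ϕ

/-- the transfer as a product over the cosets, with the transversal `Quotient.out` -/
theorem transfer_eq_prod_out {A : Type*} [CommGroup A] (ϕ : H →* A) [H.FiniteIndex] (g : G)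
    [Fintype (G ⧸ H)] :
    MonoidHom.transfer ϕ g
      = ∏ q : G ⧸ H, ext1 ϕ ((Quotient.out q : G)⁻¹ * (g * (Quotient.out (g⁻¹ • q) : G))) := by
  have hT : ∀ q : G ⧸ H, ((Quotient.out q : G) : G ⧸ H) = q := fun q => Quotient.out_eq' q
  rw [MonoidHom.transfer_def ϕ ⟨Set.range (Quotient.out : G ⧸ H → G), isComplement_range_left hT⟩]
  unfold diff
  simp only
  have hinst : ‹Fintype (G ⧸ H)› = H.fintypeQuotientOfFiniteIndex := Subsingleton.elim _ _
  subst hinst
  apply Finset.prod_congr rfl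
  intro q _
  have h1 : (((⟨Set.range (Quotient.out : G ⧸ H → G), isComplement_range_left hT⟩ :
      H.LeftTransversal).2.leftQuotientEquiv q : Set.range (Quotient.out : G ⧸ H → G)) : G)
      = Quotient.out q := IsComplement.leftQuotientEquiv_apply hT q
  have h2 : (((g • (⟨Set.range (Quotient.out : G ⧸ H → G), isComplement_range_left hT⟩ :
      H.LeftTransversal)).2.leftQuotientEquiv q : _) : G)
      = g * Quotient.out (g⁻¹ • q) := by
    rw [smul_apply_eq_smul_apply_inv_smul, smul_eq_mul]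
    congr 1
    exact IsComplement.leftQuotientEquiv_apply hT _
  rw [← ext1_of_mem ϕ, h1, h2]

theorem ext1_conj {A : Type*} [CommGroup A] (ϕ : H →* A) {x h : G} (hx : x ∈ H) (hh : h ∈ H) :
    ext1 ϕ (h⁻¹ * x * h) = ext1 ϕ x := by
  rw [ext1_mul ϕ (H.mul_mem (H.inv_mem hh) hx) hh, ext1_mul ϕ (H.inv_mem hh) hx,
    ext1_of_mem ϕ (H.inv_mem hh), ext1_of_mem ϕ hh, mul_comm, ← mul_assoc, ← map_mul]
  have : (⟨h, hh⟩ : H) * ⟨h⁻¹, H.inv_mem hh⟩ = 1 := Subtype.ext (mul_inv_cancel h)
  rw [this, map_one, one_mul]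

theorem smul_eq_iff_mem (g k : G) : g • (k : G ⧸ H) = (k : G ⧸ H) ↔ k⁻¹ * g * k ∈ H := by
  rw [MulAction.Quotient.smul_coe, eq_comm, QuotientGroup.eq, smul_eq_mul, mul_assoc]

/-- the transfer of an involution is a product over the fixed cosets -/
theorem transfer_involution {A : Type*} [CommGroup A] (ϕ : H →* A) [H.FiniteIndex] (g : G)
    (hg : g ^ 2 = 1) [Fintype (G ⧸ H)] [DecidableEq (G ⧸ H)] :
    MonoidHom.transfer ϕ g
      = ∏ q ∈ Finset.univ.filter (fun q : G ⧸ H => g • q = q),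
          ext1 ϕ ((Quotient.out q : G)⁻¹ * g * (Quotient.out q : G)) := by
  have hginv : g⁻¹ = g := inv_eq_of_mul_eq_one_left (by rw [← pow_two]; exact hg)
  have hgg : ∀ q : G ⧸ H, g • g • q = q := by
    intro q
    rw [← mul_smul, ← pow_two, hg, one_smul]
  have hout : ∀ q : G ⧸ H, ((Quotient.out q : G) : G ⧸ H) = q := fun q => Quotient.out_eq' q
  rw [transfer_eq_prod_out, ← Finset.prod_filter_mul_prod_filter_not Finset.univ
    (fun q : G ⧸ H => g • q = q)]
  have h2 : ∏ q ∈ Finset.univ.filter (fun q : G ⧸ H => ¬ g • q = q),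
      ext1 ϕ ((Quotient.out q : G)⁻¹ * (g * (Quotient.out (g⁻¹ • q) : G))) = 1 := by
    refine Finset.prod_involution (fun q _ => g • q) ?_ ?_ ?_ ?_
    · intro q _
      rw [hginv, hgg]
      have ha : (Quotient.out q : G)⁻¹ * (g * (Quotient.out (g • q) : G)) ∈ H := by
        rw [← QuotientGroup.eq, hout, ← smul_eq_mul, ← MulAction.Quotient.smul_coe, hout, hgg]
      have hb : (Quotient.out (g • q) : G)⁻¹ * (g * (Quotient.out q : G)) ∈ H := by
        rw [← QuotientGroup.eq, hout, ← smul_eq_mul, ← MulAction.Quotient.smul_coe, hout]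
      rw [← ext1_mul ϕ ha hb]
      have : (Quotient.out q : G)⁻¹ * (g * (Quotient.out (g • q) : G))
          * ((Quotient.out (g • q) : G)⁻¹ * (g * (Quotient.out q : G))) = 1 := by
        have : (Quotient.out q : G)⁻¹ * (g * (Quotient.out (g • q) : G))
          * ((Quotient.out (g • q) : G)⁻¹ * (g * (Quotient.out q : G)))
          = (Quotient.out q : G)⁻¹ * g ^ 2 * (Quotient.out q : G) := by rw [pow_two]; group
        rw [this, hg, mul_one, inv_mul_cancel]
      rw [this, ext1_one]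
    · intro q hq _
      exact (Finset.mem_filter.mp hq).2
    · intro q hq
      have := (Finset.mem_filter.mp hq).2
      refine Finset.mem_filter.mpr ⟨Finset.mem_univ _, ?_⟩
      rw [hgg]
      exact fun h => this h.symm
    · intro q _
      exact hgg q
  rw [h2, mul_one]
  apply Finset.prod_congr rfl
  intro q hq
  have := (Finset.mem_filter.mp hq).2
  have h3 : g⁻¹ • q = q := by rw [hginv]; exact this
  rw [h3, mul_assoc]

/-- a product of signs -/
theorem prod_units_eq {ι : Type*} [DecidableEq ι] (s : Finset ι) (f : ι → ℤˣ) :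
    ∏ x ∈ s, f x = (-1) ^ (s.filter (fun x => f x = -1)).card := by
  rw [← Finset.prod_filter_mul_prod_filter_not s (fun x => f x = -1)]
  have h1 : ∏ x ∈ s.filter (fun x => f x = -1), f x
      = (-1) ^ (s.filter (fun x => f x = -1)).card := by
    rw [Finset.prod_congr rfl (fun x hx => (Finset.mem_filter.mp hx).2), Finset.prod_const]
  have h2 : ∏ x ∈ s.filter (fun x => ¬ f x = -1), f x = 1 := by
    apply Finset.prod_eq_one
    intro x hx
    rcases Int.units_eq_one_or (f x) with h | h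
    · exact h
    · exact absurd h (Finset.mem_filter.mp hx).2
  rw [h1, h2, mul_one]

/-- a `2`-group acting without fixed points on a stable subset -/
theorem even_card_of_no_fixed {Γ α : Type*} [Group Γ] [MulAction Γ α] [Finite α]
    (hΓ : IsPGroup 2 Γ) (Z : Set α) (hstable : ∀ γ : Γ, ∀ a ∈ Z, γ • a ∈ Z)
    (hnofix : ∀ a ∈ Z, ∃ γ : Γ, γ • a ≠ a) : Even (Nat.card Z) := by
  have : Fact (Nat.Prime 2) := ⟨Nat.prime_two⟩
  obtain ⟨p, hp⟩ : ∃ p : SubMulAction Γ α, p = ⟨Z, fun γ {a} ha => hstable γ a ha⟩ := ⟨_, rfl⟩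
  have h1 := hΓ.card_modEq_card_fixedPoints p
  have h2 : Nat.card (MulAction.fixedPoints Γ p) = 0 := by
    rw [Nat.card_eq_zero]
    left
    constructor
    rintro ⟨⟨a, ha⟩, hfix⟩
    have haZ : a ∈ Z := by rw [hp] at ha; exact ha
    obtain ⟨γ, hγ⟩ := hnofix a haZ
    apply hγ
    have := hfix γ
    exact congrArg Subtype.val this
  rw [h2] at h1
  have h3 : Nat.card p = Nat.card Z := by
    rw [hp]
    rfl
  rw [← h3]
  exact Nat.even_iff.mpr h1

/-- the transfer of an involution is `-1` when the index is odd and the number of fixed cosets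
with trivial contribution is even -/
theorem transfer_involution_eq_neg_one [Finite G] (ϕ : H →* ℤˣ) (g : G) (hg : g ^ 2 = 1)
    (hodd : Odd H.index)
    (heven : Even (Nat.card {q : G ⧸ H | ∃ k : G, (k : G ⧸ H) = q ∧ k⁻¹ * g * k ∈ H ∧
      ext1 ϕ (k⁻¹ * g * k) = 1})) :
    MonoidHom.transfer ϕ g = -1 := by
  classical
  have : Fintype (G ⧸ H) := Fintype.ofFinite _
  have hout : ∀ q : G ⧸ H, ((Quotient.out q : G) : G ⧸ H) = q := fun q => Quotient.out_eq' q
  rw [transfer_involution ϕ g hg, prod_units_eq]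
  -- the fixed cosets
  have hfix : Odd (Finset.univ.filter (fun q : G ⧸ H => g • q = q)).card := by
    have : Fact (Nat.Prime 2) := ⟨Nat.prime_two⟩
    have hσ : (MulAction.toPerm g : Equiv.Perm (G ⧸ H)) ^ 2 ^ 1 = 1 := by
      rw [pow_one]
      ext q
      simp only [pow_two, Equiv.Perm.coe_mul, Function.comp_apply, MulAction.toPerm_apply,
        Equiv.Perm.coe_one, id_eq]
      rw [← mul_smul, ← pow_two, hg, one_smul]
    have h1 := Equiv.Perm.card_compl_support_modEq hσ
    have h2 : (MulAction.toPerm g : Equiv.Perm (G ⧸ H)).supportᶜ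
        = Finset.univ.filter (fun q : G ⧸ H => g • q = q) := by
      ext q
      simp [Equiv.Perm.mem_support]
    rw [h2, ← Nat.card_eq_fintype_card, ← Subgroup.index_eq_card] at h1
    rw [Nat.odd_iff] at hodd ⊢
    rw [← hodd]
    exact h1
  -- the fixed cosets with trivial contribution
  have h1 : ((Finset.univ.filter (fun q : G ⧸ H => g • q = q)).filter
      (fun q => ¬ ext1 ϕ ((Quotient.out q : G)⁻¹ * g * (Quotient.out q : G)) = -1)).card
      = Nat.card {q : G ⧸ H | ∃ k : G, (k : G ⧸ H) = q ∧ k⁻¹ * g * k ∈ H ∧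
          ext1 ϕ (k⁻¹ * g * k) = 1} := by
    rw [← Nat.card_eq_finsetCard]
    apply Nat.card_congr
    apply Equiv.subtypeEquivRight
    intro q
    rw [Finset.mem_filter, Finset.mem_filter]
    constructor
    · rintro ⟨⟨-, hq⟩, hne⟩
      refine ⟨Quotient.out q, hout q, ?_, ?_⟩
      · rw [← smul_eq_iff_mem, hout]; exact hq
      · rcases Int.units_eq_one_or (ext1 ϕ ((Quotient.out q : G)⁻¹ * g * (Quotient.out q : G)))
          with h | h
        · exact h
        · exact absurd h hne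
    · rintro ⟨k, rfl, hk, hk1⟩
      have hq : g • (k : G ⧸ H) = (k : G ⧸ H) := (smul_eq_iff_mem g k).mpr hk
      refine ⟨⟨Finset.mem_univ _, hq⟩, ?_⟩
      have hh : k⁻¹ * (Quotient.out (k : G ⧸ H) : G) ∈ H := by
        rw [← QuotientGroup.eq, hout]
      have h2 : (Quotient.out (k : G ⧸ H) : G)⁻¹ * g * (Quotient.out (k : G ⧸ H) : G)
          = (k⁻¹ * (Quotient.out (k : G ⧸ H) : G))⁻¹ * (k⁻¹ * g * k)
            * (k⁻¹ * (Quotient.out (k : G ⧸ H) : G)) := by group
      rw [h2, ext1_conj ϕ hk hh, hk1]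
      decide
  have h3 := Finset.card_filter_add_card_filter_not
    (s := Finset.univ.filter (fun q : G ⧸ H => g • q = q))
    (fun q => ext1 ϕ ((Quotient.out q : G)⁻¹ * g * (Quotient.out q : G)) = -1)
  have h3' : ((Finset.univ.filter (fun q : G ⧸ H => g • q = q)).filter
      (fun q => ext1 ϕ ((Quotient.out q : G)⁻¹ * g * (Quotient.out q : G)) = -1)).card
      + Nat.card {q : G ⧸ H | ∃ k : G, (k : G ⧸ H) = q ∧ k⁻¹ * g * k ∈ H ∧
          ext1 ϕ (k⁻¹ * g * k) = 1}
      = (Finset.univ.filter (fun q : G ⧸ H => g • q = q)).card := by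
    rw [← h1]
    exact h3
  clear h3
  have h3 := h3'
  have h4 : Odd ((Finset.univ.filter (fun q : G ⧸ H => g • q = q)).filter
      (fun q => ext1 ϕ ((Quotient.out q : G)⁻¹ * g * (Quotient.out q : G)) = -1)).card := by
    rw [← h3] at hfix
    rcases Nat.even_or_odd ((Finset.univ.filter (fun q : G ⧸ H => g • q = q)).filter
      (fun q => ext1 ϕ ((Quotient.out q : G)⁻¹ * g * (Quotient.out q : G)) = -1)).card with h | h
    · exact absurd (h.add heven) (Nat.not_even_iff_odd.mpr hfix)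
    · exact h
  exact h4.neg_one_pow

/-- **Thompson transfer, abstractly**: a `2`-group `Γ` centralizing the involution `g` and moving
every fixed coset with trivial contribution forces the transfer of `g` to be `-1`. -/
theorem transfer_eq_neg_one_of_pgroup [Finite G] (ϕ : H →* ℤˣ) (g : G) (hg : g ^ 2 = 1)
    (hodd : Odd H.index) (Γ : Subgroup G) (hΓ : IsPGroup 2 Γ) (hcomm : ∀ γ ∈ Γ, γ * g = g * γ)
    (hmove : ∀ k : G, k⁻¹ * g * k ∈ H → ext1 ϕ (k⁻¹ * g * k) = 1 → ∃ γ ∈ Γ, k⁻¹ * γ * k ∉ H) :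
    MonoidHom.transfer ϕ g = -1 := by
  apply transfer_involution_eq_neg_one ϕ g hg hodd
  apply even_card_of_no_fixed (Γ := Γ) hΓ
  · rintro γ _ ⟨k, rfl, hk, hk1⟩
    refine ⟨(γ : G) * k, rfl, ?_, ?_⟩
    · have : ((γ : G) * k)⁻¹ * g * ((γ : G) * k) = k⁻¹ * g * k := by
        have h1 := hcomm γ γ.2
        calc ((γ : G) * k)⁻¹ * g * ((γ : G) * k) = k⁻¹ * ((γ : G)⁻¹ * (g * γ)) * k := by group
          _ = k⁻¹ * g * k := by rw [← h1]; group
      rw [this]; exact hk
    · have : ((γ : G) * k)⁻¹ * g * ((γ : G) * k) = k⁻¹ * g * k := by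
        have h1 := hcomm γ γ.2
        calc ((γ : G) * k)⁻¹ * g * ((γ : G) * k) = k⁻¹ * ((γ : G)⁻¹ * (g * γ)) * k := by group
          _ = k⁻¹ * g * k := by rw [← h1]; group
      rw [this]; exact hk1
  · rintro _ ⟨k, rfl, hk, hk1⟩
    obtain ⟨γ, hγ, hγk⟩ := hmove k hk hk1
    refine ⟨⟨γ, hγ⟩, ?_⟩
    intro h
    apply hγk
    exact (smul_eq_iff_mem γ k).mp h

end Cfsg.Agent.Helper3.TransInv
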