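import Mathlib
import Cfsg.Agent.Helper3.CharI
import Cfsg.Agent.Helper3.TransInv

set_option autoImplicit false

/-!
The transfer of a saturated `2`-fusion system into a group of order two, evaluated at an
involution (Thompson transfer).
-/

namespace Cfsg.Agent.Helper3.Char

open Cfsg Cfsg.FusionSystem Cfsg.Agent.Lead Cfsg.Agent.Helper3.Marks Cfsg.Agent.Helper3.Park
  Cfsg.Agent.Helper3.TransInv

universe u

variable {Ω : Type u} [Group Ω] {S : Subgroup Ω}

/-- **Thompson transfer for saturated fusion systems**: a sign character `θ` of `S` gives a sign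
character `V` of `S`, constant on the classes of the system, with `V u = -1` for every involution
`u` such that `θ (ψ u) = -1` for every map `ψ` of the system defined on the centralizer of `u`. -/
theorem exists_transfer_sign [Finite S] [Fact (Nat.Prime 2)] (hS : IsPGroup 2 S)
    (F : FusionSystem S) (hF : F.IsSaturated 2) (θ : S →* ℤˣ) :
    ∃ V : S →* ℤˣ,
      (∀ (P : Subgroup Ω) (φ : P →* Ω) (hφ : φ ∈ F.Hom P) (x : P),
        V ⟨φ x, Fusion.map_mem F hφ x⟩ = V ⟨x, Fusion.src_le F hφ x.2⟩) ∧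
      (∀ u : S, u ^ 2 = 1 →
        (∀ (Q : Subgroup Ω) (ψ : Q →* Ω), ψ ∈ F.Hom Q → ∀ hu : (u : Ω) ∈ Q,
          (∀ s : S, s * u = u * s → (s : Ω) ∈ Q) →
          ∀ ht : ψ ⟨u, hu⟩ ∈ S, θ ⟨ψ ⟨u, hu⟩, ht⟩ = -1) →
        V u = -1) := by
  obtain ⟨X, hXf, hXa, hstab, ⟨x₀, hx₀⟩, hmarks, n, hn, hpn⟩ := exists_char_biset 2 hS F hF
  have hfree : ∀ (b : S) (x : X), mkT (1 : S) b • x = x → b = 1 := by
    intro b x hb
    obtain ⟨D, ⟨Q, ψ, hψ, hT⟩, hD⟩ := hstab x
    obtain ⟨h1, h2⟩ := hT (((1 : S) : Ω), (b : Ω)) ⟨mkT 1 b, (hD _).mp hb, rfl⟩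
    have h3 : (⟨((1 : S) : Ω), h1⟩ : Q) = 1 := Subtype.ext rfl
    change ψ ⟨((1 : S) : Ω), h1⟩ = (b : Ω) at h2
    rw [h3, map_one] at h2
    exact Subtype.ext h2.symm
  have hindex : (stabR S x₀).index = n := by
    have h1 := index_stabR hfree x₀
    rw [hn, mul_comm] at h1
    exact Nat.eq_of_mul_eq_mul_left Nat.card_pos h1
  refine ⟨(MonoidHom.transfer (phiR (fun b => hfree b x₀) θ)).comp (iotaR S X), ?_, ?_⟩
  · intro P φ hφ x
    have hP : P ≤ S := Fusion.src_le F hφ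
    obtain ⟨e, he⟩ := exists_perm_of_mem F hstab hmarks hP hφ
    have heG : e ∈ autR S X := by
      rw [mem_autR]
      intro b w
      have h1 := he 1 b w
      have h2 : (⟨((1 : P) : Ω), hP (1 : P).2⟩ : S) = 1 := Subtype.ext rfl
      have h3 : (⟨φ (1 : P), Fusion.map_mem F hφ 1⟩ : S) = 1 := Subtype.ext (map_one φ)
      rw [h2, h3] at h1
      exact h1
    have hconj : iotaR S X ⟨φ x, Fusion.map_mem F hφ x⟩
        = (⟨e, heG⟩ : autR S X) * iotaR S X ⟨x, hP x.2⟩ * (⟨e, heG⟩ : autR S X)⁻¹ := by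
      rw [eq_mul_inv_iff_mul_eq]
      apply Subtype.ext
      apply Equiv.ext
      intro y
      change ((iotaR S X ⟨φ x, Fusion.map_mem F hφ x⟩ : autR S X) : Equiv.Perm X) (e y)
        = e (((iotaR S X ⟨x, hP x.2⟩ : autR S X) : Equiv.Perm X) y)
      rw [iotaR_apply, iotaR_apply]
      exact (he x 1 y).symm
    rw [MonoidHom.comp_apply, MonoidHom.comp_apply, hconj, map_mul, map_mul, map_inv,
      mul_comm, ← mul_assoc, inv_mul_cancel, one_mul]
  · intro u hu2 hfc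
    rw [MonoidHom.comp_apply]
    have hodd : Odd (stabR S x₀).index := by
      rw [hindex]
      exact Nat.odd_iff.mpr (Nat.two_dvd_ne_zero.mp hpn)
    apply transfer_eq_neg_one_of_pgroup _ _ (by rw [← map_pow, hu2, map_one]) hodd
      ((Subgroup.centralizer {u}).map (iotaR S X)) ((hS.to_subgroup _).map _)
    · rintro _ ⟨s, hs, rfl⟩
      have hs' : u * s = s * u := Subgroup.mem_centralizer_iff.mp hs u rfl
      rw [← map_mul, ← map_mul, hs']
    · intro k hk hk1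
      by_contra hall
      push Not at hall
      rw [ext1_of_mem _ hk, phiR_apply] at hk1
      obtain ⟨D, ⟨Q, ψ, hψ, hT⟩, hD⟩ := hstab ((k : Equiv.Perm X) x₀)
      -- the centralizer of `u` lies in `Q`
      have hCQ : ∀ s : S, s * u = u * s → (s : Ω) ∈ Q := by
        intro s hs
        have hsΓ : iotaR S X s ∈ (Subgroup.centralizer {u}).map (iotaR S X) := by
          refine ⟨s, ?_, rfl⟩
          rw [SetLike.mem_coe, Subgroup.mem_centralizer_iff]
          rintro _ rfl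
          exact hs.symm
        have h1 := smul_conj_eq k s (hall _ hsΓ)
        exact (hT _ ⟨mkT s (tauR x₀ ⟨_, hall _ hsΓ⟩)⁻¹, (hD _).mp h1, rfl⟩).1
      have h1 := smul_conj_eq k u hk
      obtain ⟨h2, h3⟩ := hT ((u : Ω), (((tauR x₀ ⟨_, hk⟩)⁻¹ : S) : Ω))
        ⟨mkT u (tauR x₀ ⟨_, hk⟩)⁻¹, (hD _).mp h1, rfl⟩
      change ψ ⟨(u : Ω), h2⟩ = (((tauR x₀ ⟨_, hk⟩)⁻¹ : S) : Ω) at h3
      have ht : ψ ⟨(u : Ω), h2⟩ ∈ S := by rw [h3]; exact ((tauR x₀ ⟨_, hk⟩)⁻¹ : S).2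
      have h4 := hfc Q ψ hψ h2 hCQ ht
      have h5 : (⟨ψ ⟨(u : Ω), h2⟩, ht⟩ : S) = (tauR x₀ ⟨_, hk⟩)⁻¹ := Subtype.ext h3
      rw [h5, hk1] at h4
      exact absurd h4 (by decide)

end Cfsg.Agent.Helper3.Char
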