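import Mathlib
import Cfsg.Prelude.Def_KGroupFacts
import Cfsg.Agent.Helper3.StemTransfer

/-!
# The `p`-part of the kernel of a stem extension for an abelian Sylow `p`-subgroup of order `p ^ 2`

If the group `G` of order `p ^ 2 * m`, with `m` prime to `p`, has commuting elements `x`, `y` of order
`p` and an element `n` with `n x n⁻¹ = x ^ 2` and `n y n⁻¹ = y`, the kernel of a finite stem extension
of `G` has no element of order `p`: the lifts of `x` and `y` commute (their commutator `c` is central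
and conjugation by a lift of `n` gives `c = c ^ 2`), so the preimage of the subgroup generated by `x`
and `y` is abelian and of index prime to `p`, and the transfer into it kills the commutator subgroup.
-/

set_option autoImplicit false

namespace Cfsg.Agent.Helper3.StemAbSyl

open scoped commutatorElement
open Cfsg.Agent.Helper3.StemTransfer

section aux
variable {A : Type*} [Group A]

/-- the commutator with a square, when the commutator is central. -/
theorem commutatorElement_sq_left {a b : A} (hc : ⁅a, b⁆ ∈ Subgroup.center A) :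
    ⁅a ^ 2, b⁆ = ⁅a, b⁆ ^ 2 := by
  have h1 : a * ⁅a, b⁆ = ⁅a, b⁆ * a := (Subgroup.mem_center_iff.mp hc a)
  have h2 : ⁅a ^ 2, b⁆ = a * ⁅a, b⁆ * a⁻¹ * ⁅a, b⁆ := by
    rw [commutatorElement_def, commutatorElement_def, pow_two]
    group
  rw [h2, h1, mul_inv_cancel_right, pow_two]

end aux

section main
variable {Γ G : Type*} [Group Γ] [Group G]

/-- the lifts of `x` and `y` commute. -/
theorem lifts_commute (σ : Γ →* G) (hc : σ.ker ≤ Subgroup.center Γ) {x y n : G}
    (hxy : x * y = y * x) (hnx : n * x * n⁻¹ = x ^ 2) (hny : n * y * n⁻¹ = y)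
    {X Y N : Γ} (hX : σ X = x) (hY : σ Y = y) (hN : σ N = n) : X * Y = Y * X := by
  have hck : ⁅X, Y⁆ ∈ σ.ker := by
    rw [MonoidHom.mem_ker, map_commutatorElement, hX, hY, commutatorElement_eq_one_iff_commute]
    exact hxy
  have hcc : ⁅X, Y⁆ ∈ Subgroup.center Γ := hc hck
  have hk1 : (X ^ 2)⁻¹ * (N * X * N⁻¹) ∈ Subgroup.center Γ := by
    apply hc
    rw [MonoidHom.mem_ker, map_mul, map_inv, map_pow, map_mul, map_mul, map_inv, hX, hN, hnx,
      inv_mul_cancel]
  have hk2 : Y⁻¹ * (N * Y * N⁻¹) ∈ Subgroup.center Γ := by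
    apply hc
    rw [MonoidHom.mem_ker, map_mul, map_inv, map_mul, map_mul, map_inv, hY, hN, hny,
      inv_mul_cancel]
  have e1 : N * X * N⁻¹ = X ^ 2 * ((X ^ 2)⁻¹ * (N * X * N⁻¹)) := by
    rw [mul_inv_cancel_left]
  have e2 : N * Y * N⁻¹ = Y * (Y⁻¹ * (N * Y * N⁻¹)) := by
    rw [mul_inv_cancel_left]
  have h3 : N * ⁅X, Y⁆ * N⁻¹ = ⁅N * X * N⁻¹, N * Y * N⁻¹⁆ := by
    rw [commutatorElement_def, commutatorElement_def]
    group
  have h4 : N * ⁅X, Y⁆ * N⁻¹ = ⁅X, Y⁆ := by
    rw [Subgroup.mem_center_iff.mp hcc N, mul_inv_cancel_right]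
  have h5 : ⁅X, Y⁆ = ⁅X, Y⁆ ^ 2 := by
    rw [← commutatorElement_sq_left hcc]
    calc ⁅X, Y⁆ = N * ⁅X, Y⁆ * N⁻¹ := h4.symm
      _ = ⁅N * X * N⁻¹, N * Y * N⁻¹⁆ := h3
      _ = ⁅X ^ 2 * ((X ^ 2)⁻¹ * (N * X * N⁻¹)), Y * (Y⁻¹ * (N * Y * N⁻¹))⁆ := by rw [← e1, ← e2]
      _ = ⁅X ^ 2, Y⁆ := commutatorElement_mul_central hk1 hk2
  have h6 : ⁅X, Y⁆ = 1 := by
    rw [pow_two] at h5
    exact (mul_eq_left.mp h5.symm)
  exact commutatorElement_eq_one_iff_commute.mp h6

/-- the preimage of the subgroup generated by `x` and `y` is commutative. -/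
theorem comap_commute (σ : Γ →* G) (hc : σ.ker ≤ Subgroup.center Γ) {x y : G} {X Y : Γ}
    (hX : σ X = x) (hY : σ Y = y) (hXY : X * Y = Y * X) :
    ∀ u ∈ (Subgroup.closure {x, y}).comap σ, ∀ v ∈ (Subgroup.closure {x, y}).comap σ,
      u * v = v * u := by
  have hcomm : ∀ s ∈ ({X, Y} : Set Γ), ∀ t ∈ ({X, Y} : Set Γ), s * t = t * s := by
    intro s hs t ht
    rcases hs with rfl | rfl <;> rcases ht with rfl | rfl
    · rfl
    · exact hXY
    · exact hXY.symm
    · rfl
  have hT : ∀ s ∈ Subgroup.closure ({X, Y} : Set Γ), ∀ t ∈ Subgroup.closure ({X, Y} : Set Γ),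
      s * t = t * s := by
    intro s hs t ht
    have := (Subgroup.isMulCommutative_closure hcomm).is_comm.comm
      (⟨s, hs⟩ : Subgroup.closure ({X, Y} : Set Γ)) ⟨t, ht⟩
    exact congrArg Subtype.val this
  have hmap : (Subgroup.closure ({X, Y} : Set Γ)).map σ = Subgroup.closure {x, y} := by
    rw [MonoidHom.map_closure, Set.image_pair, hX, hY]
  have hdec : ∀ u ∈ (Subgroup.closure {x, y}).comap σ,
      ∃ t ∈ Subgroup.closure ({X, Y} : Set Γ), ∃ κ ∈ Subgroup.center Γ, u = t * κ := by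
    intro u hu
    rw [Subgroup.mem_comap, ← hmap] at hu
    obtain ⟨t, ht, htu⟩ := hu
    refine ⟨t, ht, t⁻¹ * u, ?_, by rw [mul_inv_cancel_left]⟩
    apply hc
    rw [MonoidHom.mem_ker, map_mul, map_inv, htu, inv_mul_cancel]
  intro u hu v hv
  obtain ⟨t, ht, κ, hκ, rfl⟩ := hdec u hu
  obtain ⟨t', ht', κ', hκ', rfl⟩ := hdec v hv
  have c1 := Subgroup.mem_center_iff.mp hκ
  have c2 := Subgroup.mem_center_iff.mp hκ'
  have e1 : t * κ * (t' * κ') = (t * t') * (κ * κ') := by
    rw [mul_assoc t κ, ← mul_assoc κ t', ← c1 t', mul_assoc t' κ, ← mul_assoc t t']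
  have e2 : t' * κ' * (t * κ) = (t' * t) * (κ' * κ) := by
    rw [mul_assoc t' κ', ← mul_assoc κ' t, ← c2 t, mul_assoc t κ', ← mul_assoc t' t]
  rw [e1, e2, hT t ht t' ht', c1 κ']

/-- the subgroup generated by `x` and `y` has order divisible by `p ^ 2`. -/
theorem sq_dvd_card_closure [Finite G] (p : ℕ) [hp : Fact p.Prime] {x y n : G}
    (hx : x ^ p = 1) (hy : y ^ p = 1) (hx1 : x ≠ 1) (hy1 : y ≠ 1) (hxy : x * y = y * x)
    (hnx : n * x * n⁻¹ = x ^ 2) (hny : n * y * n⁻¹ = y) :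
    p ^ 2 ∣ Nat.card (Subgroup.closure ({x, y} : Set G)) := by
  have hox : orderOf x = p := orderOf_eq_prime hx hx1
  have hoy : orderOf y = p := orderOf_eq_prime hy hy1
  have hS : Subgroup.closure ({x, y} : Set G) = Subgroup.zpowers x ⊔ Subgroup.zpowers y := by
    rw [Subgroup.zpowers_eq_closure, Subgroup.zpowers_eq_closure, ← Subgroup.closure_union]
    rfl
  have hpx : IsPGroup p (Subgroup.zpowers x) :=
    IsPGroup.of_card (n := 1) (by rw [Nat.card_zpowers, hox, pow_one])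
  have hpy : IsPGroup p (Subgroup.zpowers y) :=
    IsPGroup.of_card (n := 1) (by rw [Nat.card_zpowers, hoy, pow_one])
  have hnorm : Subgroup.zpowers x ≤ Subgroup.normalizer (Subgroup.zpowers y) := by
    rw [Subgroup.zpowers_le]
    rw [Subgroup.mem_normalizer_iff]
    intro h
    have hcomm : ∀ w ∈ Subgroup.zpowers y, x * w * x⁻¹ = w := by
      intro w hw
      obtain ⟨i, rfl⟩ := Subgroup.mem_zpowers_iff.mp hw
      have : Commute x (y ^ i) := (show Commute x y from hxy).zpow_right i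
      rw [this.eq, mul_inv_cancel_right]
    constructor
    · intro hh
      rw [hcomm h hh]
      exact hh
    · intro hh
      have h2 : h = x⁻¹ * (x * h * x⁻¹) * x := by group
      have h3 : x⁻¹ * (x * h * x⁻¹) * x = x * h * x⁻¹ := by
        obtain ⟨i, hi⟩ := Subgroup.mem_zpowers_iff.mp hh
        have : Commute x (y ^ i) := (show Commute x y from hxy).zpow_right i
        rw [← hi, mul_assoc, ← this.eq, inv_mul_cancel_left]
      rw [h2, h3]
      exact hh
  have hpS : IsPGroup p (Subgroup.closure ({x, y} : Set G)) := by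
    rw [hS]
    exact IsPGroup.to_sup_of_normal_right' hpx hpy hnorm
  obtain ⟨j, hj⟩ := IsPGroup.iff_card.mp hpS
  -- `y` is not a power of `x`
  have hyx : y ∉ Subgroup.zpowers x := by
    intro hmem
    obtain ⟨i, hi⟩ := Subgroup.mem_zpowers_iff.mp hmem
    have h1 : n * y * n⁻¹ = y ^ 2 := by
      rw [← hi]
      have : n * x ^ i * n⁻¹ = (n * x * n⁻¹) ^ i := (conj_zpow (a := n) (b := x) (i := i)).symm
      rw [this, hnx, ← zpow_natCast, ← zpow_mul, mul_comm, zpow_mul, zpow_natCast]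
    rw [hny, pow_two] at h1
    exact hy1 (mul_eq_left.mp h1.symm)
  have hlt : Nat.card (Subgroup.zpowers x) < Nat.card (Subgroup.closure ({x, y} : Set G)) := by
    have hle : Subgroup.zpowers x ≤ Subgroup.closure ({x, y} : Set G) := by
      rw [Subgroup.zpowers_le]
      exact Subgroup.subset_closure (Set.mem_insert _ _)
    have hne : Subgroup.zpowers x ≠ Subgroup.closure ({x, y} : Set G) := by
      intro h
      apply hyx
      rw [h]
      exact Subgroup.subset_closure (Set.mem_insert_of_mem _ rfl)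
    by_contra hcon
    rw [not_lt] at hcon
    exact hne (Subgroup.eq_of_le_of_card_ge hle hcon)
  rw [Nat.card_zpowers, hox, hj] at hlt
  rw [hj]
  apply pow_dvd_pow
  by_contra hcon
  rw [not_le] at hcon
  have hj1 : j ≤ 1 := by omega
  have := Nat.pow_le_pow_right hp.out.pos hj1
  rw [pow_one] at this
  omega

/-- **the kernel of a finite stem extension has no `p`-element**, for an abelian Sylow `p`-subgroup
of order `p ^ 2` generated by `x` and `y` and an element `n` with `n x n⁻¹ = x ^ 2`, `n y n⁻¹ = y`. -/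
theorem eq_one_of_pow_prime_pow [Finite Γ] [Finite G] (σ : Γ →* G)
    (hσ : Cfsg.IsStemExtension σ) (p : ℕ) [hp : Fact p.Prime] {x y n : G}
    (hx : x ^ p = 1) (hy : y ^ p = 1) (hx1 : x ≠ 1) (hy1 : y ≠ 1) (hxy : x * y = y * x)
    (hnx : n * x * n⁻¹ = x ^ 2) (hny : n * y * n⁻¹ = y)
    (m : ℕ) (hcard : Nat.card G = p ^ 2 * m) (hm : ¬ p ∣ m)
    (z : Γ) (hz : z ∈ σ.ker) (k : ℕ) (hzk : z ^ p ^ k = 1) : z = 1 := by
  obtain ⟨X, hX⟩ := hσ.1 x
  obtain ⟨Y, hY⟩ := hσ.1 y
  obtain ⟨N, hN⟩ := hσ.1 n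
  have hXY := lifts_commute σ hσ.2.1 hxy hnx hny hX hY hN
  have hcomm := comap_commute σ hσ.2.1 hX hY hXY
  set S : Subgroup G := Subgroup.closure ({x, y} : Set G) with hSdef
  have hidx : (S.comap σ).index = S.index := Subgroup.index_comap_of_surjective S hσ.1
  have : (S.comap σ).FiniteIndex := ⟨by
    rw [hidx]
    exact Subgroup.index_ne_zero_of_finite⟩
  obtain ⟨hzA, hzD⟩ := pow_index_mem_commutator (S.comap σ) z (hσ.2.1 hz) (hσ.2.2 hz)
  have hbot : commutator (S.comap σ) = ⊥ := by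
    rw [eq_bot_iff, commutator_def, Subgroup.commutator_le]
    intro u _ v _
    rw [Subgroup.mem_bot, commutatorElement_eq_one_iff_commute]
    apply Subtype.ext
    exact hcomm u.1 u.2 v.1 v.2
  rw [hbot, Subgroup.mem_bot] at hzD
  have h1 : z ^ S.index = 1 := by
    have h0 : z ^ (S.comap σ).index = 1 := congrArg Subtype.val hzD
    rwa [hidx] at h0
  -- the index is prime to `p`
  have h2 : p ^ 2 ∣ Nat.card S := sq_dvd_card_closure p hx hy hx1 hy1 hxy hnx hny
  have h3 : S.index * Nat.card S = p ^ 2 * m := by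
    rw [mul_comm, Subgroup.card_mul_index, hcard]
  have h4 : ¬ p ∣ S.index := by
    intro hdvd
    obtain ⟨t, ht⟩ := h2
    obtain ⟨u, hu⟩ := hdvd
    rw [ht, hu] at h3
    have h5 : p ^ 2 * (p * u * t) = p ^ 2 * m := by
      rw [← h3]
      ring
    have h6 := Nat.eq_of_mul_eq_mul_left (pow_pos hp.out.pos 2) h5
    apply hm
    exact ⟨u * t, by rw [← h6]; ring⟩
  have h7 : Nat.Coprime (S.index) (p ^ k) :=
    Nat.Coprime.pow_right k ((Nat.Prime.coprime_iff_not_dvd hp.out).mpr h4).symm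
  have h8 : orderOf z ∣ Nat.gcd S.index (p ^ k) :=
    Nat.dvd_gcd (orderOf_dvd_of_pow_eq_one h1) (orderOf_dvd_of_pow_eq_one hzk)
  rw [h7] at h8
  exact orderOf_eq_one_iff.mp (Nat.dvd_one.mp h8)

end main

end Cfsg.Agent.Helper3.StemAbSyl
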