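import Mathlib
import Cfsg.Agent.Helper3.Co1ZN
import Cfsg.Agent.Helper3.StemAbSyl
import Cfsg.Agent.Helper5.StemPL
import Cfsg.Agent.Helper5.StemPH
import Cfsg.Agent.Helper5.StemPM
import Cfsg.Agent.Helper5.StemPC

/-!
# The Schur multiplier of the first Conway group is cyclic of order 2

The group of automorphisms of the lattice is a stem extension of the quotient by its centre, with a
kernel of order 2.  The covering group of exponent 60 of the presentation on five generators has at
most twice the order of the quotient, which bounds the parts of the kernel of a stem extension for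
the primes 2, 3 and 5; the part for 7 is trivial since a Sylow 7-subgroup is abelian with an element
acting on it with eigenvalues 2 and 1; the other primes divide the order only once.
-/

set_option autoImplicit false

namespace Cfsg.Agent.Helper3.Co1ZG

open Cfsg Cfsg.Agent.Helper5 Cfsg.Agent.Helper5.StemP Cfsg.Agent.Helper5.LP Cfsg.Agent.Helper5.LTC
  Cfsg.Agent.Helper2.Co2M Cfsg.Agent.Helper2.Tw
  Cfsg.Agent.Helper9.Golay Cfsg.Agent.Helper9.Leech Cfsg.Agent.Helper9.LeechAct
open scoped commutatorElement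

theorem card_Co1 : Nat.card Spor.Co1 = 4157776806543360000 := co1_simple_card.2

theorem finCo1 : Finite Spor.Co1 :=
  Nat.finite_of_card_ne_zero (by rw [card_Co1]; norm_num)

/-! ### the existence of a stem extension with a kernel of order 2 -/

theorem gw_inv_of {a b : ℕ} (h : RelOK false [a, b]) (hr : ∀ c ∈ [a, b], rowChk c = true) :
    gw b = (gw a)⁻¹ := by
  have h1 := relP_sound hr h
  rw [List.map_cons, List.map_cons, List.map_nil, List.prod_cons, List.prod_cons, List.prod_nil,
    mul_one] at h1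
  exact (inv_eq_of_mul_eq_one_right h1).symm

theorem negPerm_eq_comm : negPerm = ⁅gw 16, gw 18⁆ := by
  have hr : ∀ c ∈ [16, 18, 17, 19], rowChk c = true := by
    apply rows_ok'
    decide
  have h1 := relN_sound hr comm_neg
  have h17 : gw 17 = (gw 16)⁻¹ := gw_inv_of inv_8 (by apply rows_ok'; decide)
  have h19 : gw 19 = (gw 18)⁻¹ := gw_inv_of inv_9 (by apply rows_ok'; decide)
  rw [List.map_cons, List.map_cons, List.map_cons, List.map_cons, List.map_nil, List.prod_cons,
    List.prod_cons, List.prod_cons, List.prod_cons, List.prod_nil, mul_one, h17, h19] at h1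
  rw [← h1, commutatorElement_def]
  group

theorem negEl_mem_commutator : (⟨negPerm, negPerm_mem⟩ : ↥Co0) ∈ commutator ↥Co0 := by
  have h : (⟨negPerm, negPerm_mem⟩ : ↥Co0) = ⁅gC 16, gC 18⁆ := by
    apply Subtype.ext
    rw [commutatorElement_def, Subgroup.coe_mul, Subgroup.coe_mul, Subgroup.coe_mul,
      Subgroup.coe_inv, Subgroup.coe_inv, ← commutatorElement_def]
    exact negPerm_eq_comm
  rw [h, commutator_def]
  exact Subgroup.commutator_mem_commutator (Subgroup.mem_top _) (Subgroup.mem_top _)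

theorem center_le_commutator : Subgroup.center ↥Co0 ≤ commutator ↥Co0 := by
  intro z hz
  rw [Subgroup.mem_center_iff] at hz
  have h := central_eq z.2 (fun f hf => by
    have := congrArg Subtype.val (hz ⟨f, hf⟩)
    exact this.symm)
  rcases h with h | h
  · have : z = 1 := Subtype.ext h
    rw [this]
    exact Subgroup.one_mem _
  · have : z = ⟨negPerm, negPerm_mem⟩ := Subtype.ext h
    rw [this]
    exact negEl_mem_commutator

theorem stem_co0 : Cfsg.IsStemExtension (QuotientGroup.mk' (Subgroup.center ↥Co0)) := by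
  refine ⟨QuotientGroup.mk'_surjective _, ?_, ?_⟩
  · rw [QuotientGroup.ker_mk']
  · rw [QuotientGroup.ker_mk']
    exact center_le_commutator

theorem ker_co0 : Nonempty ((QuotientGroup.mk' (Subgroup.center ↥Co0)).ker ≃*
    Multiplicative (ZMod 2)) := by
  have hker : (QuotientGroup.mk' (Subgroup.center ↥Co0)).ker = Subgroup.center ↥Co0 :=
    QuotientGroup.ker_mk' _
  have hcard : Nat.card (Subgroup.center ↥Co0) = 2 := card_center
  have : Fact (Nat.Prime 2) := ⟨Nat.prime_two⟩
  have hcyc : IsCyclic (Subgroup.center ↥Co0) := isCyclic_of_prime_card hcard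
  have e1 : Multiplicative (ZMod (Nat.card (Subgroup.center ↥Co0))) ≃* (Subgroup.center ↥Co0) :=
    zmodCyclicMulEquiv hcyc
  have e2 : Multiplicative (ZMod (Nat.card (Subgroup.center ↥Co0))) ≃* Multiplicative (ZMod 2) :=
    AddEquiv.toMultiplicative (ZMod.ringEquivCongr hcard).toAddEquiv
  exact ⟨(MulEquiv.subgroupCongr hker).trans (e1.symm.trans e2)⟩

/-! ### the bound for the stem extensions -/

theorem mm_cop : ∀ i, i < 5 → (X.mm i).Coprime 2 ∧ (X.mm i).Coprime 3 ∧ (X.mm i).Coprime 5 := by
  intro i hi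
  interval_cases i <;> decide

theorem mm_cop2 : ∀ i, i < 5 → gQ i ^ X.mm i = 1 ∧ (X.mm i).Coprime (2 ^ 21) := by
  intro i hi
  exact ⟨gQ_pow i hi, Nat.Coprime.pow_right 21 (mm_cop i hi).1⟩

theorem mm_cop3 : ∀ i, i < 5 → gQ i ^ X.mm i = 1 ∧ (X.mm i).Coprime (3 ^ 9) := by
  intro i hi
  exact ⟨gQ_pow i hi, Nat.Coprime.pow_right 9 (mm_cop i hi).2.1⟩

theorem mm_cop5 : ∀ i, i < 5 → gQ i ^ X.mm i = 1 ∧ (X.mm i).Coprime (5 ^ 4) := by
  intro i hi
  exact ⟨gQ_pow i hi, Nat.Coprime.pow_right 4 (mm_cop i hi).2.2⟩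

/-- a kernel all of whose elements have odd order dividing `s`, of order dividing 2, is trivial. -/
theorem ker_trivial_of_odd {Γ : Type} [Group Γ] [Finite Γ] (σ : Γ →* Spor.Co1)
    (hσ : Cfsg.IsStemExtension σ) (hc : σ.ker ≤ Subgroup.center Γ) (s t : ℕ)
    (hst : Nat.card Spor.Co1 = s * t) (hs : Nat.gcd s 2 = 1)
    (h2 : Nat.card (qmap σ hc t).ker ∣ 2) : Nat.card (qmap σ hc t).ker = 1 := by
  have := finCo1
  have hbot : (qmap σ hc t).ker = ⊥ := by
    rw [Subgroup.eq_bot_iff_forall]
    intro y hy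
    have hs' : y ^ s = 1 := qmap_ker_pow σ hσ hc (s := s) (t := t) hst y hy
    have h2' : y ^ 2 = 1 := by
      obtain ⟨c, hc2⟩ := h2
      have h5 : y ^ Nat.card (qmap σ hc t).ker = 1 := by
        have h4 : (⟨y, hy⟩ : (qmap σ hc t).ker) ^ Nat.card (qmap σ hc t).ker = 1 :=
          pow_card_eq_one'
        have h7 := congrArg Subtype.val h4
        rwa [Subgroup.coe_pow, Subgroup.coe_one] at h7
      have h6 : y ^ (Nat.card (qmap σ hc t).ker * c) = 1 := by rw [pow_mul, h5, one_pow]
      rwa [← hc2] at h6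
    have hd : orderOf y ∣ Nat.gcd s 2 :=
      Nat.dvd_gcd (orderOf_dvd_of_pow_eq_one hs') (orderOf_dvd_of_pow_eq_one h2')
    rw [hs] at hd
    exact orderOf_eq_one_iff.mp (Nat.dvd_one.mp hd)
  exact (Subgroup.eq_bot_iff_card _).mp hbot

/-- the order of the covering group of the top stage divides twice the order of the group. -/
theorem card_top_dvd : Nat.card (CovG 5 X.mm CT CT 60) ∣ Nat.card Spor.Co1 * 2 := by
  have := finCo1
  have := card_top.1
  have hle := card_top.2
  have hsurj := stage5.pi_surj 60 gQ_closure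
  have h1 : Nat.card (CovG 5 X.mm CT CT 60) = Nat.card Spor.Co1 * Nat.card (stage5.pi 60).ker := by
    have h2 := Subgroup.card_eq_card_quotient_mul_card_subgroup (stage5.pi 60).ker
    rw [h2, Nat.card_congr (QuotientGroup.quotientKerEquivOfSurjective _ hsurj).toEquiv]
  rw [h1]
  apply Nat.mul_dvd_mul_left
  have hk : Nat.card (stage5.pi 60).ker ≤ 2 := by
    rw [h1, card_Co1] at hle
    by_contra hcon
    rw [not_le] at hcon
    have : 4157776806543360000 * 3 ≤ 4157776806543360000 * Nat.card (stage5.pi 60).ker :=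
      Nat.mul_le_mul_left _ hcon
    omega
  have hpos : 0 < Nat.card (stage5.pi 60).ker := Nat.card_pos
  interval_cases (Nat.card (stage5.pi 60).ker) <;> decide

theorem bound (Γ : Type) [Group Γ] [Finite Γ] (σ : Γ →* Spor.Co1)
    (hσ : Cfsg.IsStemExtension σ) : Nat.card σ.ker ≤ 2 := by
  have hc := hσ.2.1
  have := finCo1
  have : Finite (LPG (2 * 5) (coverRels 5 X.mm CT CT 60)) := card_top.1
  have hcard : Nat.card (LPG (2 * 5) (coverRels 5 X.mm CT CT 60)) ∣ Nat.card Spor.Co1 * 2 :=
    card_top_dvd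
  have h2 : Nat.card (qmap σ hc 1982582476875).ker ∣ 2 :=
    card_qmap_ker_dvd_of_pow_dvd σ hσ hc 2 Nat.prime_two 21 2 1982582476875 60 (by norm_num)
      (by rw [card_Co1]; norm_num)
      5 X.mm CT CT stage5.lt2 gQ gQ_closure mm_cop2 stage5.rel2 2 hcard (by decide)
  have h3 : Nat.card (qmap σ hc 211236945920000).ker ∣ 2 :=
    card_qmap_ker_dvd_of_pow_dvd σ hσ hc 3 Nat.prime_three 9 1 211236945920000 60 (by norm_num)
      (by rw [card_Co1]; norm_num)
      5 X.mm CT CT stage5.lt2 gQ gQ_closure mm_cop3 stage5.rel2 2 hcard (by decide)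
  have h5 : Nat.card (qmap σ hc 6652442890469376).ker ∣ 2 :=
    card_qmap_ker_dvd_of_pow_dvd σ hσ hc 5 Nat.prime_five 4 1 6652442890469376 60 (by norm_num)
      (by rw [card_Co1]; norm_num)
      5 X.mm CT CT stage5.lt2 gQ gQ_closure mm_cop5 stage5.rel2 2 hcard (by decide)
  have h3' : Nat.card (qmap σ hc 211236945920000).ker = 1 :=
    ker_trivial_of_odd σ hσ hc 19683 211236945920000 (by rw [card_Co1]) (by decide) h3
  have h5' : Nat.card (qmap σ hc 6652442890469376).ker = 1 :=
    ker_trivial_of_odd σ hσ hc 625 6652442890469376 (by rw [card_Co1]) (by decide) h5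
  have h7 : ∀ z ∈ σ.ker,
      z ^ Nat.gcd (Nat.gcd 1982582476875 211236945920000) 6652442890469376 = 1 → z = 1 := by
    intro z hz hz1
    have e77 : Nat.gcd (Nat.gcd 1982582476875 211236945920000) 6652442890469376 =
        7 ^ 2 * (11 * (13 * 23)) := by norm_num
    rw [e77, pow_mul] at hz1
    have hz49 : z ^ 7 ^ 2 = 1 := by
      refine eq_one_of_pow_eq_one σ hσ (11 * (13 * 23)) ?_ (z ^ 7 ^ 2)
        (Subgroup.pow_mem _ hz _) hz1
      intro q hq hqd
      rw [card_Co1]
      rcases (Nat.Prime.dvd_mul hq).mp hqd with h | h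
      · rw [(Nat.prime_dvd_prime_iff_eq hq (by norm_num)).mp h]
        norm_num
      · rcases (Nat.Prime.dvd_mul hq).mp h with h | h
        · rw [(Nat.prime_dvd_prime_iff_eq hq (by norm_num)).mp h]
          norm_num
        · rw [(Nat.prime_dvd_prime_iff_eq hq (by norm_num)).mp h]
          norm_num
    have : Fact (Nat.Prime 7) := ⟨by norm_num⟩
    have hr10 : rowChk 10 = true := rows_ok 10 (by norm_num)
    have hr12 : rowChk 12 = true := rows_ok 12 (by norm_num)
    have hx : gQ' 10 ^ 7 = 1 := by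
      have h := rel_of_ok (rows_ok' (r := List.replicate 7 10) (by
        intro c hc
        rw [List.eq_of_mem_replicate hc]
        norm_num)) x7_pow
      rwa [List.map_replicate, List.prod_replicate] at h
    have hy : gQ' 12 ^ 7 = 1 := by
      have h := rel_of_ok (rows_ok' (r := List.replicate 7 12) (by
        intro c hc
        rw [List.eq_of_mem_replicate hc]
        norm_num)) y7_pow
      rwa [List.map_replicate, List.prod_replicate] at h
    have h11 : gQ' 11 = (gQ' 10)⁻¹ := gQ'_odd 5 (by norm_num)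
    have h13 : gQ' 13 = (gQ' 12)⁻¹ := gQ'_odd 6 (by norm_num)
    have h15 : gQ' 15 = (gQ' 14)⁻¹ := gQ'_odd 7 (by norm_num)
    have hxy : gQ' 10 * gQ' 12 = gQ' 12 * gQ' 10 := by
      have h := rel_of_ok (rows_ok' (r := [10, 12, 11, 13]) (by decide)) xy7_comm
      rw [List.map_cons, List.map_cons, List.map_cons, List.map_cons, List.map_nil, List.prod_cons,
        List.prod_cons, List.prod_cons, List.prod_cons, List.prod_nil, mul_one, h11, h13] at h
      have h' : gQ' 10 * gQ' 12 * (gQ' 10)⁻¹ * (gQ' 12)⁻¹ = 1 := by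
        rw [← h]
        group
      have h2 := mul_inv_eq_one.mp h'
      exact mul_inv_eq_iff_eq_mul.mp h2
    have hnx : gQ' 14 * gQ' 10 * (gQ' 14)⁻¹ = gQ' 10 ^ 2 := by
      have h := rel_of_ok (rows_ok' (r := [14, 10, 15, 11, 11]) (by decide)) nx7
      rw [List.map_cons, List.map_cons, List.map_cons, List.map_cons, List.map_cons, List.map_nil,
        List.prod_cons, List.prod_cons, List.prod_cons, List.prod_cons, List.prod_cons,
        List.prod_nil, mul_one, h11, h15] at h
      have h' : gQ' 14 * gQ' 10 * (gQ' 14)⁻¹ * (gQ' 10 ^ 2)⁻¹ = 1 := by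
        rw [← h]
        group
      exact mul_inv_eq_one.mp h'
    have hny : gQ' 14 * gQ' 12 * (gQ' 14)⁻¹ = gQ' 12 := by
      have h := rel_of_ok (rows_ok' (r := [14, 12, 15, 13]) (by decide)) ny7
      rw [List.map_cons, List.map_cons, List.map_cons, List.map_cons, List.map_nil, List.prod_cons,
        List.prod_cons, List.prod_cons, List.prod_cons, List.prod_nil, mul_one, h13, h15] at h
      have h' : gQ' 14 * gQ' 12 * (gQ' 14)⁻¹ * (gQ' 12)⁻¹ = 1 := by
        rw [← h]
        group
      exact mul_inv_eq_one.mp h'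
    have hx1 : gQ' 10 ≠ 1 := gQ'_ne_one hr10 (by norm_num) move_10
    have hy1 : gQ' 12 ≠ 1 := gQ'_ne_one hr12 (by norm_num) move_12
    exact StemAbSyl.eq_one_of_pow_prime_pow σ hσ 7 hx hy hx1 hy1 hxy hnx hny 84852587888640000
      (by rw [card_Co1]; norm_num) (by norm_num) z hz 2 hz49
  have h8 := Cfsg.Agent.Helper5.StemP.card_ker_le_mul3 σ hc 1982582476875 211236945920000 6652442890469376 h7
  calc Nat.card σ.ker ≤ Nat.card (qmap σ hc 1982582476875).ker *
        Nat.card (qmap σ hc 211236945920000).ker *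
        Nat.card (qmap σ hc 6652442890469376).ker := h8
    _ ≤ 2 * 1 * 1 := by
        rw [h3', h5']
        exact Nat.mul_le_mul (Nat.mul_le_mul (Nat.le_of_dvd (by norm_num) h2) le_rfl) le_rfl
    _ = 2 := by norm_num

/-- **the Schur multiplier of the first Conway group is cyclic of order 2.** -/
theorem main : Cfsg.HasCyclicSchurMultiplier Spor.Co1 2 := by
  have c2 : Nat.card (Multiplicative (ZMod 2)) = 2 := by
    change Nat.card (ZMod 2) = 2
    rw [Nat.card_zmod]
  apply hasSchurMultiplier_of_exists_of_card_le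
  · exact ⟨↥Co0, inferInstance, finCo0, QuotientGroup.mk' (Subgroup.center ↥Co0), stem_co0,
      ker_co0⟩
  · intro Γ _ _ σ hσ
    rw [c2]
    exact bound Γ σ hσ

end Cfsg.Agent.Helper3.Co1ZG
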