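import Cfsg.Agent.Helper3.Co3XCJu0
import Cfsg.Agent.Helper3.Co3XCJu1
import Cfsg.Agent.Helper3.Co3XCJu2
import Cfsg.Agent.Helper3.Co3XCJu3
import Cfsg.Agent.Helper3.Co3XCJu4
import Cfsg.Agent.Helper3.Co3XCJu5
import Cfsg.Agent.Helper3.Co3XCJu6
import Cfsg.Agent.Helper3.Co3XCJu7
import Cfsg.Agent.Helper3.Co3XCJu8
import Cfsg.Agent.Helper3.Co3XCJu9
import Cfsg.Agent.Helper3.Co3XCJu10
import Cfsg.Agent.Helper3.Co3XCJu11
import Cfsg.Agent.Helper3.Co3XCJu12
import Cfsg.Agent.Helper3.Co3XCJu13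
import Cfsg.Agent.Helper3.Co3XCJu14
import Cfsg.Agent.Helper3.Co3XCJu15
import Cfsg.Agent.Helper3.Co3XCJu16
import Cfsg.Agent.Helper3.Co3XCJu17
import Cfsg.Agent.Helper3.Co3XCJu18
import Cfsg.Agent.Helper3.Co3XCJu19
import Cfsg.Agent.Helper3.Co3XCJu20
import Cfsg.Agent.Helper3.Co3XCJu21
import Cfsg.Agent.Helper3.Co3XCJu22
import Cfsg.Agent.Helper3.Co3XCJu23
import Cfsg.Agent.Helper3.Co3XCJu24
import Cfsg.Agent.Helper3.Co3XCJu25
import Cfsg.Agent.Helper3.Co3XCJu26
import Cfsg.Agent.Helper3.Co3XCJu27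
import Cfsg.Agent.Helper3.Co3XCJu28
import Cfsg.Agent.Helper3.Co3XCJu29
import Cfsg.Agent.Helper3.Co3XCJu30
import Cfsg.Agent.Helper3.Co3XCJu31
import Cfsg.Agent.Helper3.Co3XCJu32
import Cfsg.Agent.Helper3.Co3XCJu33
import Cfsg.Agent.Helper3.Co3XCJu34
import Cfsg.Agent.Helper3.Co3XCJu35
import Cfsg.Agent.Helper3.Co3XCJu36
import Cfsg.Agent.Helper3.Co3XCJu37
import Cfsg.Agent.Helper3.Co3XCJu38
import Cfsg.Agent.Helper3.Co3XCJu39
import Cfsg.Agent.Helper3.Co3XCJu40
import Cfsg.Agent.Helper3.Co3XCJu41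
import Cfsg.Agent.Helper3.Co3XCJu42
import Cfsg.Agent.Helper3.Co3XCJu43
import Cfsg.Agent.Helper3.Co3XCJu44
import Cfsg.Agent.Helper3.Co3XCJu45
import Cfsg.Agent.Helper3.Co3XCJu46
import Cfsg.Agent.Helper3.Co3XCJu47
import Cfsg.Agent.Helper3.Co3XCJu48
import Cfsg.Agent.Helper3.Co3XCJu49
import Cfsg.Agent.Helper3.Co3XCJu50
import Cfsg.Agent.Helper3.Co3XCJu51
import Cfsg.Agent.Helper3.Co3XCJu52
import Cfsg.Agent.Helper3.Co3XCJu53
import Cfsg.Agent.Helper3.Co3XCJu54
import Cfsg.Agent.Helper3.Co3XCJu55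
import Cfsg.Agent.Helper3.Co3XCJu56
import Cfsg.Agent.Helper3.Co3XCJu57
import Cfsg.Agent.Helper3.Co3XCTb0
import Cfsg.Agent.Helper3.Co3XCTb1
import Cfsg.Agent.Helper3.Co3XCTb2
import Cfsg.Agent.Helper3.Co3XCTb3
import Cfsg.Agent.Helper3.Co3XCTb4
import Cfsg.Agent.Helper3.Co3XCTb5

/-! generated labelled Todd-Coxeter certificate, summary: Co3XC -/

set_option autoImplicit false
set_option maxRecDepth 1000000

namespace Cfsg.Agent.Helper3.Co3XC
open Cfsg.Agent.Helper5.LTC

theorem upto_0 : ∀ j, j < 0 → ∃ r, checkFact cert j r = true := fun j hj => absurd hj (by omega)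

theorem upto_1 : ∀ j, j < 2000 → ∃ r, checkFact cert j r = true :=
  upto_step cert upto_0 ju_0 2000 len_0 chk_0

theorem upto_2 : ∀ j, j < 4000 → ∃ r, checkFact cert j r = true :=
  upto_step cert upto_1 ju_1 2000 len_1 chk_1

theorem upto_3 : ∀ j, j < 6000 → ∃ r, checkFact cert j r = true :=
  upto_step cert upto_2 ju_2 2000 len_2 chk_2

theorem upto_4 : ∀ j, j < 8000 → ∃ r, checkFact cert j r = true :=
  upto_step cert upto_3 ju_3 2000 len_3 chk_3

theorem upto_5 : ∀ j, j < 10000 → ∃ r, checkFact cert j r = true :=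
  upto_step cert upto_4 ju_4 2000 len_4 chk_4

theorem upto_6 : ∀ j, j < 12000 → ∃ r, checkFact cert j r = true :=
  upto_step cert upto_5 ju_5 2000 len_5 chk_5

theorem upto_7 : ∀ j, j < 14000 → ∃ r, checkFact cert j r = true :=
  upto_step cert upto_6 ju_6 2000 len_6 chk_6

theorem upto_8 : ∀ j, j < 16000 → ∃ r, checkFact cert j r = true :=
  upto_step cert upto_7 ju_7 2000 len_7 chk_7

theorem upto_9 : ∀ j, j < 18000 → ∃ r, checkFact cert j r = true :=
  upto_step cert upto_8 ju_8 2000 len_8 chk_8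

theorem upto_10 : ∀ j, j < 20000 → ∃ r, checkFact cert j r = true :=
  upto_step cert upto_9 ju_9 2000 len_9 chk_9

theorem upto_11 : ∀ j, j < 22000 → ∃ r, checkFact cert j r = true :=
  upto_step cert upto_10 ju_10 2000 len_10 chk_10

theorem upto_12 : ∀ j, j < 24000 → ∃ r, checkFact cert j r = true :=
  upto_step cert upto_11 ju_11 2000 len_11 chk_11

theorem upto_13 : ∀ j, j < 26000 → ∃ r, checkFact cert j r = true :=
  upto_step cert upto_12 ju_12 2000 len_12 chk_12

theorem upto_14 : ∀ j, j < 28000 → ∃ r, checkFact cert j r = true :=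
  upto_step cert upto_13 ju_13 2000 len_13 chk_13

theorem upto_15 : ∀ j, j < 30000 → ∃ r, checkFact cert j r = true :=
  upto_step cert upto_14 ju_14 2000 len_14 chk_14

theorem upto_16 : ∀ j, j < 32000 → ∃ r, checkFact cert j r = true :=
  upto_step cert upto_15 ju_15 2000 len_15 chk_15

theorem upto_17 : ∀ j, j < 34000 → ∃ r, checkFact cert j r = true :=
  upto_step cert upto_16 ju_16 2000 len_16 chk_16

theorem upto_18 : ∀ j, j < 36000 → ∃ r, checkFact cert j r = true :=
  upto_step cert upto_17 ju_17 2000 len_17 chk_17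

theorem upto_19 : ∀ j, j < 38000 → ∃ r, checkFact cert j r = true :=
  upto_step cert upto_18 ju_18 2000 len_18 chk_18

theorem upto_20 : ∀ j, j < 40000 → ∃ r, checkFact cert j r = true :=
  upto_step cert upto_19 ju_19 2000 len_19 chk_19

theorem upto_21 : ∀ j, j < 42000 → ∃ r, checkFact cert j r = true :=
  upto_step cert upto_20 ju_20 2000 len_20 chk_20

theorem upto_22 : ∀ j, j < 44000 → ∃ r, checkFact cert j r = true :=
  upto_step cert upto_21 ju_21 2000 len_21 chk_21

theorem upto_23 : ∀ j, j < 46000 → ∃ r, checkFact cert j r = true :=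
  upto_step cert upto_22 ju_22 2000 len_22 chk_22

theorem upto_24 : ∀ j, j < 48000 → ∃ r, checkFact cert j r = true :=
  upto_step cert upto_23 ju_23 2000 len_23 chk_23

theorem upto_25 : ∀ j, j < 50000 → ∃ r, checkFact cert j r = true :=
  upto_step cert upto_24 ju_24 2000 len_24 chk_24

theorem upto_26 : ∀ j, j < 52000 → ∃ r, checkFact cert j r = true :=
  upto_step cert upto_25 ju_25 2000 len_25 chk_25

theorem upto_27 : ∀ j, j < 54000 → ∃ r, checkFact cert j r = true :=
  upto_step cert upto_26 ju_26 2000 len_26 chk_26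

theorem upto_28 : ∀ j, j < 56000 → ∃ r, checkFact cert j r = true :=
  upto_step cert upto_27 ju_27 2000 len_27 chk_27

theorem upto_29 : ∀ j, j < 58000 → ∃ r, checkFact cert j r = true :=
  upto_step cert upto_28 ju_28 2000 len_28 chk_28

theorem upto_30 : ∀ j, j < 60000 → ∃ r, checkFact cert j r = true :=
  upto_step cert upto_29 ju_29 2000 len_29 chk_29

theorem upto_31 : ∀ j, j < 62000 → ∃ r, checkFact cert j r = true :=
  upto_step cert upto_30 ju_30 2000 len_30 chk_30

theorem upto_32 : ∀ j, j < 64000 → ∃ r, checkFact cert j r = true :=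
  upto_step cert upto_31 ju_31 2000 len_31 chk_31

theorem upto_33 : ∀ j, j < 66000 → ∃ r, checkFact cert j r = true :=
  upto_step cert upto_32 ju_32 2000 len_32 chk_32

theorem upto_34 : ∀ j, j < 68000 → ∃ r, checkFact cert j r = true :=
  upto_step cert upto_33 ju_33 2000 len_33 chk_33

theorem upto_35 : ∀ j, j < 70000 → ∃ r, checkFact cert j r = true :=
  upto_step cert upto_34 ju_34 2000 len_34 chk_34

theorem upto_36 : ∀ j, j < 72000 → ∃ r, checkFact cert j r = true :=
  upto_step cert upto_35 ju_35 2000 len_35 chk_35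

theorem upto_37 : ∀ j, j < 74000 → ∃ r, checkFact cert j r = true :=
  upto_step cert upto_36 ju_36 2000 len_36 chk_36

theorem upto_38 : ∀ j, j < 76000 → ∃ r, checkFact cert j r = true :=
  upto_step cert upto_37 ju_37 2000 len_37 chk_37

theorem upto_39 : ∀ j, j < 78000 → ∃ r, checkFact cert j r = true :=
  upto_step cert upto_38 ju_38 2000 len_38 chk_38

theorem upto_40 : ∀ j, j < 80000 → ∃ r, checkFact cert j r = true :=
  upto_step cert upto_39 ju_39 2000 len_39 chk_39

theorem upto_41 : ∀ j, j < 82000 → ∃ r, checkFact cert j r = true :=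
  upto_step cert upto_40 ju_40 2000 len_40 chk_40

theorem upto_42 : ∀ j, j < 84000 → ∃ r, checkFact cert j r = true :=
  upto_step cert upto_41 ju_41 2000 len_41 chk_41

theorem upto_43 : ∀ j, j < 86000 → ∃ r, checkFact cert j r = true :=
  upto_step cert upto_42 ju_42 2000 len_42 chk_42

theorem upto_44 : ∀ j, j < 88000 → ∃ r, checkFact cert j r = true :=
  upto_step cert upto_43 ju_43 2000 len_43 chk_43

theorem upto_45 : ∀ j, j < 90000 → ∃ r, checkFact cert j r = true :=
  upto_step cert upto_44 ju_44 2000 len_44 chk_44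

theorem upto_46 : ∀ j, j < 92000 → ∃ r, checkFact cert j r = true :=
  upto_step cert upto_45 ju_45 2000 len_45 chk_45

theorem upto_47 : ∀ j, j < 94000 → ∃ r, checkFact cert j r = true :=
  upto_step cert upto_46 ju_46 2000 len_46 chk_46

theorem upto_48 : ∀ j, j < 96000 → ∃ r, checkFact cert j r = true :=
  upto_step cert upto_47 ju_47 2000 len_47 chk_47

theorem upto_49 : ∀ j, j < 98000 → ∃ r, checkFact cert j r = true :=
  upto_step cert upto_48 ju_48 2000 len_48 chk_48

theorem upto_50 : ∀ j, j < 100000 → ∃ r, checkFact cert j r = true :=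
  upto_step cert upto_49 ju_49 2000 len_49 chk_49

theorem upto_51 : ∀ j, j < 102000 → ∃ r, checkFact cert j r = true :=
  upto_step cert upto_50 ju_50 2000 len_50 chk_50

theorem upto_52 : ∀ j, j < 104000 → ∃ r, checkFact cert j r = true :=
  upto_step cert upto_51 ju_51 2000 len_51 chk_51

theorem upto_53 : ∀ j, j < 106000 → ∃ r, checkFact cert j r = true :=
  upto_step cert upto_52 ju_52 2000 len_52 chk_52

theorem upto_54 : ∀ j, j < 108000 → ∃ r, checkFact cert j r = true :=
  upto_step cert upto_53 ju_53 2000 len_53 chk_53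

theorem upto_55 : ∀ j, j < 110000 → ∃ r, checkFact cert j r = true :=
  upto_step cert upto_54 ju_54 2000 len_54 chk_54

theorem upto_56 : ∀ j, j < 112000 → ∃ r, checkFact cert j r = true :=
  upto_step cert upto_55 ju_55 2000 len_55 chk_55

theorem upto_57 : ∀ j, j < 114000 → ∃ r, checkFact cert j r = true :=
  upto_step cert upto_56 ju_56 2000 len_56 chk_56

theorem upto_58 : ∀ j, j < 114152 → ∃ r, checkFact cert j r = true :=
  upto_step cert upto_57 ju_57 152 len_57 chk_57

theorem hchk : ∀ j, j < cert.nf → ∃ r, checkFact cert j r = true := upto_58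

theorem rowsto_0 : ∀ n, n < 0 → ∀ x, x < cert.k → tabEntryOK cert tab n x = true :=
  fun n hn => absurd hn (by omega)

theorem rowsto_1 : ∀ n, n < 2000 → ∀ x, x < cert.k → tabEntryOK cert tab n x = true :=
  rows_step cert tab rowsto_0 2000 rows_0

theorem rowsto_2 : ∀ n, n < 4000 → ∀ x, x < cert.k → tabEntryOK cert tab n x = true :=
  rows_step cert tab rowsto_1 2000 rows_1

theorem rowsto_3 : ∀ n, n < 6000 → ∀ x, x < cert.k → tabEntryOK cert tab n x = true :=
  rows_step cert tab rowsto_2 2000 rows_2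

theorem rowsto_4 : ∀ n, n < 8000 → ∀ x, x < cert.k → tabEntryOK cert tab n x = true :=
  rows_step cert tab rowsto_3 2000 rows_3

theorem rowsto_5 : ∀ n, n < 10000 → ∀ x, x < cert.k → tabEntryOK cert tab n x = true :=
  rows_step cert tab rowsto_4 2000 rows_4

theorem rowsto_6 : ∀ n, n < 11178 → ∀ x, x < cert.k → tabEntryOK cert tab n x = true :=
  rows_step cert tab rowsto_5 1178 rows_5

theorem hT : ∀ n, n < tab.N → ∀ x, x < cert.k → tabEntryOK cert tab n x = true := rowsto_6

theorem hjs : ∀ j ∈ js, relFactOK cert j = true := by decide +kernel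

theorem h0 : ordOK cert js cs0 0 1 = true := by decide +kernel

theorem hgs : ∀ i, i < 8 → genOK cert js (css.getD i []) i 0 (as_.getD i 0) = true := by decide +kernel

end Cfsg.Agent.Helper3.Co3XC
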