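import Mathlib
import Cfsg.Agent.Helper3.Co3XCovA
import Cfsg.Agent.Helper3.Co3XBSum
import Cfsg.Agent.Helper5.LTCI

/-!
# The covering group of exponent 15 of a subgroup of order 44352000 of the third Conway group

Labelled Todd–Coxeter over the image of the covering group of the subgroup of order 7920 generated
by `a, b` (5600 cosets): the covering group has order at most `44352000`, and the covering
homomorphism is injective.  The central words of the second subgroup of order 7920, generated by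
`a⁻¹, c`, are trivial as well, being the images of those of the first one under a second homomorphism
from its covering group.
-/

set_option autoImplicit false

namespace Cfsg.Agent.Helper3.Co3X

open Cfsg Cfsg.Agent.Helper5.StemP Cfsg.Agent.Helper5.LP Cfsg.Agent.Helper5.LTC
  Cfsg.Agent.Helper5.TC Cfsg.Agent.Helper5.TCI

theorem CH2_lt : ∀ r ∈ CH ++ CH, ∀ c ∈ r, c < 2 * 3 := by
  intro r hr
  rcases List.mem_append.mp hr with h | h <;> exact CH_lt r h

theorem CH_rel : ∀ r ∈ CH, (r.map (lval g)).prod = 1 := fun r hr => CC_rel r (CH_sub r hr)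

theorem CH2_rel : ∀ r ∈ CH ++ CH, (r.map (lval g)).prod = 1 := by
  intro r hr
  rcases List.mem_append.mp hr with h | h <;> exact CH_rel r h

theorem g_pow3 : ∀ i, i < 3 → g i ^ mm i = 1 := fun i hi => g_pow i (by omega)

/-- the covering homomorphism. -/
noncomputable def piF : CovG 3 mm CH CH 15 →* P :=
  coverHomU 3 mm CH CH 15 CH2_lt g g_pow3 CH2_rel

theorem piF_ev (l : List ℕ) (hl : ∀ c ∈ l, c < 2 * 3) :
    piF (ev (2 * 3) (coverRels 3 mm CH CH 15) l) = (l.map (lval g)).prod :=
  coverHomU_ev 3 mm CH CH 15 CH2_lt g g_pow3 CH2_rel l hl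

theorem CU_lt6 : ∀ r ∈ CU, ∀ c ∈ r, c < 2 * 3 := fun r hr c hc => by
  have := CU_lt r hr c hc
  omega

theorem evF_eq (l : List ℕ) (hl : ∀ c ∈ l, c < 2 * 2) :
    (l.map (lval (cgen 3 mm CH CH 15))).prod = ev (2 * 3) (coverRels 3 mm CH CH 15) l :=
  (ev_eq_prod 3 mm CH CH 15 l (fun c hc => by have := hl c hc; omega)).symm

theorem rels_hold : ∀ l ∈ coverRels 2 mm CU CU 15,
    (l.map (lval (cgen 3 mm CH CH 15))).prod = 1 := by
  apply coverRels_hold
  · intro i hi
    exact cgen_pow 3 mm CH CH 15 (i := i) (by omega)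
  · intro r hr
    rw [evF_eq r (CU_lt r hr)]
    exact cover_center 3 mm CH CH 15 (CU_sub r hr) (CU_lt6 r hr)
  · intro r hr
    rw [evF_eq r (CU_lt r hr), ev_pow]
    exact ev_rel (mem_coverRels_T 3 mm CH CH 15 (CU_sub r hr))

/-- the natural map from the covering group of the subgroup. -/
noncomputable def phiF : CovG 2 mm CU CU 15 →* CovG 3 mm CH CH 15 :=
  lift (lval (cgen 3 mm CH CH 15)) (coverRels_lt 2 mm CU CU 15 CU2_lt) rels_hold

theorem phiF_ev (l : List ℕ) (hl : ∀ c ∈ l, c < 2 * 2) :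
    phiF (ev (2 * 2) (coverRels 2 mm CU CU 15) l) = ev (2 * 3) (coverRels 3 mm CH CH 15) l := by
  unfold phiF
  rw [lift_ev _ _ _ l hl, evF_eq l hl]

/-- the image of the covering group of the subgroup. -/
noncomputable def kF : Subgroup (CovG 3 mm CH CH 15) := phiF.range

instance kF_fin : Finite kF :=
  Finite.of_surjective phiF.rangeRestrict phiF.rangeRestrict_surjective

theorem kF_card : Nat.card kF ≤ 7920 :=
  (Nat.card_le_card_of_surjective phiF.rangeRestrict phiF.rangeRestrict_surjective).trans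
    card_le_U.2

theorem comp_eq : piF.comp phiF = piU := by
  apply covG_hom_ext
  intro c hc
  have hl : ∀ c' ∈ [c], c' < 2 * 2 := by
    intro c' hc'
    rw [List.mem_singleton] at hc'
    omega
  have hl6 : ∀ c' ∈ [c], c' < 2 * 3 := fun c' hc' => by have := hl c' hc'; omega
  rw [MonoidHom.comp_apply, phiF_ev [c] hl, piF_ev [c] hl6, piU_ev [c] hl]

theorem kF_map_card : 7920 ≤ Nat.card (kF.map piF) := by
  have h : kF.map piF = piU.range := by
    unfold kF
    rw [← MonoidHom.range_comp, comp_eq]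
  rw [h]
  exact card_piU_range

theorem kF_inj : ∀ l, phi (zC 3 mm CH CH 15) l ∈ kF → phi (zC 3 mm CH CH 15) l = 1 := by
  intro l hl
  apply eq_one_of_map_card kF piF 7920 kF_card kF_map_card _ hl
  have hker : ∀ i, zC 3 mm CH CH 15 i ∈ piF.ker := by
    intro i
    unfold zC
    by_cases hi : i < CH.length
    · rw [List.getD_eq_getElem CH [] hi]
      exact coverHomU_ker 3 mm CH CH 15 CH2_lt g g_pow3 CH2_rel (List.getElem_mem hi)
    · rw [List.getD_eq_default CH [] (by omega), ev_nil]
      exact Subgroup.one_mem _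
  exact MonoidHom.mem_ker.mp (phi_mem _ hker l)

/-- the words of the subgroup are trivial in the covering group. -/
theorem evF_CU_eq_one : ∀ r ∈ CU, ev (2 * 3) (coverRels 3 mm CH CH 15) r = 1 := by
  intro r hr
  rw [← phiF_ev r (CU_lt r hr), ev_CU_eq_one r hr, map_one]

/-! ### the second subgroup of order 7920 -/

/-- the images of the generators: `a⁻¹` and `c`. -/
noncomputable def xV (i : ℕ) : CovG 3 mm CH CH 15 :=
  if i = 0 then (cgen 3 mm CH CH 15 0)⁻¹ else cgen 3 mm CH CH 15 2

theorem sb_lt : ∀ c, c < 2 * 2 → sb c < 2 * 3 := by decide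

theorem lval_xV : ∀ c, c < 2 * 2 → lval xV c = lval (cgen 3 mm CH CH 15) (sb c) := by
  intro c hc
  interval_cases c
  · show (cgen 3 mm CH CH 15 0)⁻¹ = lval (cgen 3 mm CH CH 15) (2 * 0 + 1)
    rw [lval_odd]
  · show ((cgen 3 mm CH CH 15 0)⁻¹)⁻¹ = lval (cgen 3 mm CH CH 15) (2 * 0)
    rw [lval_even, inv_inv]
  · show cgen 3 mm CH CH 15 2 = lval (cgen 3 mm CH CH 15) (2 * 2)
    rw [lval_even]
  · show (cgen 3 mm CH CH 15 2)⁻¹ = lval (cgen 3 mm CH CH 15) (2 * 2 + 1)
    rw [lval_odd]

theorem map_sb_lt (l : List ℕ) (hl : ∀ c ∈ l, c < 2 * 2) : ∀ c ∈ l.map sb, c < 2 * 3 := by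
  intro c hc
  obtain ⟨c', hc', rfl⟩ := List.mem_map.mp hc
  exact sb_lt c' (hl c' hc')

theorem prod_xV : ∀ l : List ℕ, (∀ c ∈ l, c < 2 * 2) →
    (l.map (lval xV)).prod = ev (2 * 3) (coverRels 3 mm CH CH 15) (l.map sb)
  | [], _ => by simp [ev_nil]
  | c :: l, h => by
    rw [List.map_cons, List.prod_cons, List.map_cons, ev_cons,
      prod_xV l (fun c hc => h c (List.mem_cons_of_mem _ hc)),
      lval_xV c (h c List.mem_cons_self),
      ev_letter 3 mm CH CH 15 (sb_lt c (h c List.mem_cons_self))]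

theorem CV_mem {r : List ℕ} (hr : r ∈ CU) : r.map sb ∈ CH := by
  rw [CH_eq, CV_eq]
  exact List.mem_append_right _ (List.mem_append_right _ (List.mem_map.mpr ⟨r, hr, rfl⟩))

theorem relsV_hold : ∀ l ∈ coverRels 2 mm CU CU 15, (l.map (lval xV)).prod = 1 := by
  apply coverRels_hold
  · intro i hi
    interval_cases i
    · show ((cgen 3 mm CH CH 15 0)⁻¹) ^ 11 = 1
      rw [inv_pow, inv_eq_one]
      exact cgen_pow 3 mm CH CH 15 (i := 0) (by norm_num)
    · show (cgen 3 mm CH CH 15 2) ^ 11 = 1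
      exact cgen_pow 3 mm CH CH 15 (i := 2) (by norm_num)
  · intro r hr
    rw [prod_xV r (CU_lt r hr)]
    exact cover_center 3 mm CH CH 15 (CV_mem hr) (map_sb_lt r (CU_lt r hr))
  · intro r hr
    rw [prod_xV r (CU_lt r hr), ev_pow]
    exact ev_rel (mem_coverRels_T 3 mm CH CH 15 (CV_mem hr))

/-- the map from the covering group of the first subgroup onto the second one. -/
noncomputable def phiV : CovG 2 mm CU CU 15 →* CovG 3 mm CH CH 15 :=
  lift (lval xV) (coverRels_lt 2 mm CU CU 15 CU2_lt) relsV_hold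

theorem phiV_ev (l : List ℕ) (hl : ∀ c ∈ l, c < 2 * 2) :
    phiV (ev (2 * 2) (coverRels 2 mm CU CU 15) l) =
      ev (2 * 3) (coverRels 3 mm CH CH 15) (l.map sb) := by
  unfold phiV
  rw [lift_ev _ _ _ l hl, prod_xV l hl]

/-- the words of the second subgroup are trivial in the covering group. -/
theorem evF_CV_eq_one : ∀ r ∈ CV, ev (2 * 3) (coverRels 3 mm CH CH 15) r = 1 := by
  intro r hr
  rw [CV_eq] at hr
  obtain ⟨r0, hr0, rfl⟩ := List.mem_map.mp hr
  rw [← phiV_ev r0 (CU_lt r0 hr0), ev_CU_eq_one r0 hr0, map_one]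

theorem CX_length : CX.length = 5 := by decide

theorem zC_tail : ∀ i, 5 ≤ i → zC 3 mm CH CH 15 i = 1 := by
  intro i hi
  unfold zC
  have h5 : CX.length ≤ i := by rw [CX_length]; exact hi
  have e : CH.getD i [] = (CU ++ CV).getD (i - CX.length) [] := by
    rw [CH_eq]
    exact List.getD_append_right _ _ _ _ h5
  rw [e]
  by_cases hlt : i - CX.length < (CU ++ CV).length
  · rw [List.getD_eq_getElem _ [] hlt]
    have hm : (CU ++ CV)[i - CX.length] ∈ CU ++ CV := List.getElem_mem hlt
    rcases List.mem_append.mp hm with h | h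
    · exact evF_CU_eq_one _ h
    · exact evF_CV_eq_one _ h
  · rw [List.getD_eq_default _ [] (by omega), ev_nil]

theorem words_lt_B : ∀ wi, ∀ c ∈ Co3XB.cert.W wi, c < 2 * 3 := by
  intro wi c hc
  have h : ∀ w ∈ Co3XB.words, ∀ c ∈ w, c < 6 := by decide +kernel
  change c ∈ Co3XB.words.getD wi [] at hc
  by_cases hwi : wi < Co3XB.words.length
  · rw [List.getD_eq_getElem _ _ hwi] at hc
    exact h _ (List.getElem_mem hwi) c hc
  · rw [List.getD_eq_default _ _ (by omega)] at hc
    simp at hc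

set_option maxRecDepth 1000000 in
theorem wordOK_B : ∀ wi, wi < Co3XB.cert.nrel →
    wordOK2 (coverRels 3 mm CH CH 15) CH 5 (Co3XB.cert.W wi) (Co3XB.cert.δ wi)
      (Co3XB.origs.getD wi 0) = true := by decide +kernel

theorem subW0_B : Co3XB.cert.W 146 = [0] := by decide +kernel

theorem subW1_B : Co3XB.cert.W 147 = [2] := by decide +kernel

theorem letter_mem_kF (c : ℕ) (hc : c < 2 * 2) :
    ev (2 * 3) (coverRels 3 mm CH CH 15) [c] ∈ kF := by
  refine ⟨ev (2 * 2) (coverRels 2 mm CU CU 15) [c], ?_⟩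
  apply phiF_ev
  intro c' hc'
  rw [List.mem_singleton] at hc'
  omega

theorem hsubs_B : ∀ wi, Co3XB.cert.nrel ≤ wi → wi < Co3XB.cert.nw →
    ev (2 * 3) (coverRels 3 mm CH CH 15) (Co3XB.cert.W wi) ∈ kF := by
  intro wi h1 h2
  have h1' : 146 ≤ wi := h1
  have h2' : wi < 148 := h2
  interval_cases wi
  · rw [subW0_B]
    exact letter_mem_kF 0 (by norm_num)
  · rw [subW1_B]
    exact letter_mem_kF 2 (by norm_num)

theorem card_le_F : Finite (CovG 3 mm CH CH 15) ∧
    Nat.card (CovG 3 mm CH CH 15) ≤ 44352000 := by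
  have h := covG_card_le_tail 3 mm CH CH 15 Co3XB.cert rfl rfl rfl (by norm_num)
    (fun r hr => hr) CH_lt 5 (by norm_num) zC_tail
    words_lt_B (fun wi => Co3XB.origs.getD wi 0) wordOK_B kF hsubs_B
    kF_inj Co3XB.hchk Co3XB.tab (by decide +kernel) (by decide)
    Co3XB.hT Co3XB.js Co3XB.hjs 0 1 (by norm_num) (by norm_num) Co3XB.cs0 Co3XB.h0
    (fun i => Co3XB.as_.getD i 0) (fun i => Co3XB.css.getD i []) Co3XB.hgs
  refine ⟨h.1, h.2.trans ?_⟩
  have hN : Co3XB.tab.N = 5600 := rfl
  rw [hN]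
  calc Nat.card kF * 5600 * 1 ≤ 7920 * 5600 * 1 :=
        Nat.mul_le_mul_right _ (Nat.mul_le_mul_right _ kF_card)
    _ = 44352000 := by norm_num

instance fin_F : Finite (CovG 3 mm CH CH 15) := card_le_F.1

theorem actsOn_F : ActsOn (rho.comp piF) (ev (2 * 3) (coverRels 3 mm CH CH 15)) (2 * 3)
    tabF :=
  actsOn_of_hom piF _ (2 * 3) (by norm_num) piF_ev

theorem card_range_F : 44352000 ≤ Nat.card (rho.comp piF).range := by
  have h1 := chain_lower actsOn_F levelHs [] chainH_ok
  rw [chainH_prod] at h1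
  exact h1.trans (Subgroup.card_le_of_le inf_le_left)

theorem rhoF_injective : Function.Injective (rho.comp piF) := by
  have hs := (rho.comp piF).rangeRestrict_surjective
  have hb := hs.bijective_of_nat_card_le (card_le_F.2.trans card_range_F)
  intro x y hxy
  apply hb.1
  exact Subtype.ext hxy

theorem piF_injective : Function.Injective piF := by
  intro x y hxy
  apply rhoF_injective
  rw [MonoidHom.comp_apply, MonoidHom.comp_apply, hxy]

theorem card_piF_range : 44352000 ≤ Nat.card piF.range := by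
  have h1 : Nat.card (rho.comp piF).range ≤ Nat.card piF.range := by
    rw [MonoidHom.range_comp]
    have : Finite piF.range := inferInstance
    exact Nat.le_of_dvd Nat.card_pos (Subgroup.card_map_dvd _ rho)
  exact card_range_F.trans h1

/-- the central words are trivial in the covering group of the subgroup. -/
theorem ev_CH_eq_one : ∀ r ∈ CH, ev (2 * 3) (coverRels 3 mm CH CH 15) r = 1 := by
  intro r hr
  apply piF_injective
  rw [map_one]
  exact MonoidHom.mem_ker.mp (coverHomU_ker 3 mm CH CH 15 CH2_lt g g_pow3 CH2_rel hr)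

end Cfsg.Agent.Helper3.Co3X
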