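import Mathlib
import Cfsg.Agent.Helper3.Co3XCovB
import Cfsg.Agent.Helper3.Co3XCSum
import Cfsg.Agent.Helper3.LTCTail64

/-!
# The covering group of exponent 15 of the third Conway group: the order bound

Labelled Todd–Coxeter over the image of the covering group of the subgroup of order 44352000
generated by `a, b, c` (11178 cosets): the covering group of exponent 15 on the generators
`a, b, c, t` has order at most `495766656000`.
-/

set_option autoImplicit false

namespace Cfsg.Agent.Helper3.Co3X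

open Cfsg Cfsg.Agent.Helper5.StemP Cfsg.Agent.Helper5.LP Cfsg.Agent.Helper5.LTC
  Cfsg.Agent.Helper5.TC Cfsg.Agent.Helper5.TCI Cfsg.Agent.Helper3.LTC64

theorem CC2_lt : ∀ r ∈ CC ++ CC, ∀ c ∈ r, c < 2 * 4 := by
  intro r hr
  rcases List.mem_append.mp hr with h | h <;> exact CC_lt r h

theorem CC2_rel : ∀ r ∈ CC ++ CC, (r.map (lval g)).prod = 1 := by
  intro r hr
  rcases List.mem_append.mp hr with h | h <;> exact CC_rel r h

/-- the covering homomorphism. -/
noncomputable def piC : CovG 4 mm CC CC 15 →* P :=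
  coverHomU 4 mm CC CC 15 CC2_lt g g_pow CC2_rel

theorem piC_surj : Function.Surjective piC :=
  coverHomU_surjective 4 mm CC CC 15 CC2_lt g g_pow CC2_rel g_closure

theorem piC_ev (l : List ℕ) (hl : ∀ c ∈ l, c < 2 * 4) :
    piC (ev (2 * 4) (coverRels 4 mm CC CC 15) l) = (l.map (lval g)).prod :=
  coverHomU_ev 4 mm CC CC 15 CC2_lt g g_pow CC2_rel l hl

theorem CH_lt8 : ∀ r ∈ CH, ∀ c ∈ r, c < 2 * 4 := fun r hr c hc => by
  have := CH_lt r hr c hc
  omega

theorem evC_eq (l : List ℕ) (hl : ∀ c ∈ l, c < 2 * 3) :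
    (l.map (lval (cgen 4 mm CC CC 15))).prod = ev (2 * 4) (coverRels 4 mm CC CC 15) l :=
  (ev_eq_prod 4 mm CC CC 15 l (fun c hc => by have := hl c hc; omega)).symm

theorem relsC_hold : ∀ l ∈ coverRels 3 mm CH CH 15,
    (l.map (lval (cgen 4 mm CC CC 15))).prod = 1 := by
  apply coverRels_hold
  · intro i hi
    exact cgen_pow 4 mm CC CC 15 (i := i) (by omega)
  · intro r hr
    rw [evC_eq r (CH_lt r hr)]
    exact cover_center 4 mm CC CC 15 (CH_sub r hr) (CH_lt8 r hr)
  · intro r hr
    rw [evC_eq r (CH_lt r hr), ev_pow]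
    exact ev_rel (mem_coverRels_T 4 mm CC CC 15 (CH_sub r hr))

/-- the natural map from the covering group of the subgroup. -/
noncomputable def phiC : CovG 3 mm CH CH 15 →* CovG 4 mm CC CC 15 :=
  lift (lval (cgen 4 mm CC CC 15)) (coverRels_lt 3 mm CH CH 15 CH2_lt) relsC_hold

theorem phiC_ev (l : List ℕ) (hl : ∀ c ∈ l, c < 2 * 3) :
    phiC (ev (2 * 3) (coverRels 3 mm CH CH 15) l) = ev (2 * 4) (coverRels 4 mm CC CC 15) l := by
  unfold phiC
  rw [lift_ev _ _ _ l hl, evC_eq l hl]

/-- the image of the covering group of the subgroup. -/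
noncomputable def kC : Subgroup (CovG 4 mm CC CC 15) := phiC.range

instance kC_fin : Finite kC :=
  Finite.of_surjective phiC.rangeRestrict phiC.rangeRestrict_surjective

theorem kC_card : Nat.card kC ≤ 44352000 :=
  (Nat.card_le_card_of_surjective phiC.rangeRestrict phiC.rangeRestrict_surjective).trans
    card_le_F.2

theorem compC_eq : piC.comp phiC = piF := by
  apply covG_hom_ext
  intro c hc
  have hl : ∀ c' ∈ [c], c' < 2 * 3 := by
    intro c' hc'
    rw [List.mem_singleton] at hc'
    omega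
  have hl8 : ∀ c' ∈ [c], c' < 2 * 4 := fun c' hc' => by have := hl c' hc'; omega
  rw [MonoidHom.comp_apply, phiC_ev [c] hl, piC_ev [c] hl8, piF_ev [c] hl]

theorem kC_map_card : 44352000 ≤ Nat.card (kC.map piC) := by
  have h : kC.map piC = piF.range := by
    unfold kC
    rw [← MonoidHom.range_comp, compC_eq]
  rw [h]
  exact card_piF_range

theorem kC_inj : ∀ l, phi (zC 4 mm CC CC 15) l ∈ kC → phi (zC 4 mm CC CC 15) l = 1 := by
  intro l hl
  apply eq_one_of_map_card kC piC 44352000 kC_card kC_map_card _ hl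
  have hker : ∀ i, zC 4 mm CC CC 15 i ∈ piC.ker := by
    intro i
    unfold zC
    by_cases hi : i < CC.length
    · rw [List.getD_eq_getElem CC [] hi]
      exact coverHomU_ker 4 mm CC CC 15 CC2_lt g g_pow CC2_rel (List.getElem_mem hi)
    · rw [List.getD_eq_default CC [] (by omega), ev_nil]
      exact Subgroup.one_mem _
  exact MonoidHom.mem_ker.mp (phi_mem _ hker l)

/-- the words of the subgroup are trivial in the covering group. -/
theorem evC_CH_eq_one : ∀ r ∈ CH, ev (2 * 4) (coverRels 4 mm CC CC 15) r = 1 := by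
  intro r hr
  rw [← phiC_ev r (CH_lt r hr), ev_CH_eq_one r hr, map_one]

theorem CN_length : CN.length = 8 := by decide

theorem zC_tailC : ∀ i, 8 ≤ i → zC 4 mm CC CC 15 i = 1 := by
  intro i hi
  unfold zC
  have h8 : CN.length ≤ i := by rw [CN_length]; exact hi
  have e : CC.getD i [] = CH.getD (i - CN.length) [] := by
    rw [CC_eq]
    exact List.getD_append_right _ _ _ _ h8
  rw [e]
  by_cases hlt : i - CN.length < CH.length
  · rw [List.getD_eq_getElem _ [] hlt]
    exact evC_CH_eq_one _ (List.getElem_mem hlt)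
  · rw [List.getD_eq_default _ [] (by omega), ev_nil]

theorem words_lt_C : ∀ wi, ∀ c ∈ Co3XC.cert.W wi, c < 2 * 4 := by
  intro wi c hc
  have h : ∀ w ∈ Co3XC.words, ∀ c ∈ w, c < 8 := by decide +kernel
  change c ∈ Co3XC.words.getD wi [] at hc
  by_cases hwi : wi < Co3XC.words.length
  · rw [List.getD_eq_getElem _ _ hwi] at hc
    exact h _ (List.getElem_mem hwi) c hc
  · rw [List.getD_eq_default _ _ (by omega)] at hc
    simp at hc

set_option maxRecDepth 1000000 in
theorem wordOK_C : ∀ wi, wi < Co3XC.cert.nrel →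
    wordOK3 (coverRels 4 mm CC CC 15) CC 8 (Co3XC.cert.W wi) (Co3XC.cert.δ wi)
      (Co3XC.origs.getD wi 0) = true := by decide +kernel

theorem subW0_C : Co3XC.cert.W 308 = [0] := by decide +kernel

theorem subW1_C : Co3XC.cert.W 309 = [2] := by decide +kernel

theorem subW2_C : Co3XC.cert.W 310 = [4] := by decide +kernel

theorem letter_mem_kC (c : ℕ) (hc : c < 2 * 3) :
    ev (2 * 4) (coverRels 4 mm CC CC 15) [c] ∈ kC := by
  refine ⟨ev (2 * 3) (coverRels 3 mm CH CH 15) [c], ?_⟩
  apply phiC_ev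
  intro c' hc'
  rw [List.mem_singleton] at hc'
  omega

theorem hsubs_C : ∀ wi, Co3XC.cert.nrel ≤ wi → wi < Co3XC.cert.nw →
    ev (2 * 4) (coverRels 4 mm CC CC 15) (Co3XC.cert.W wi) ∈ kC := by
  intro wi h1 h2
  have h1' : 308 ≤ wi := h1
  have h2' : wi < 311 := h2
  interval_cases wi
  · rw [subW0_C]
    exact letter_mem_kC 0 (by norm_num)
  · rw [subW1_C]
    exact letter_mem_kC 2 (by norm_num)
  · rw [subW2_C]
    exact letter_mem_kC 4 (by norm_num)

theorem card_le_C : Finite (CovG 4 mm CC CC 15) ∧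
    Nat.card (CovG 4 mm CC CC 15) ≤ 495766656000 := by
  have h := covG_card_le_tail64 4 mm CC CC 15 Co3XC.cert rfl rfl rfl (by norm_num)
    (fun r hr => hr) CC_lt 8 (by norm_num) zC_tailC
    words_lt_C (fun wi => Co3XC.origs.getD wi 0) wordOK_C kC hsubs_C
    kC_inj Co3XC.hchk Co3XC.tab (by decide +kernel) (by decide)
    Co3XC.hT Co3XC.js Co3XC.hjs 0 1 (by norm_num) (by norm_num) Co3XC.cs0 Co3XC.h0
    (fun i => Co3XC.as_.getD i 0) (fun i => Co3XC.css.getD i []) Co3XC.hgs
  refine ⟨h.1, h.2.trans ?_⟩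
  have hN : Co3XC.tab.N = 11178 := rfl
  rw [hN]
  calc Nat.card kC * 11178 * 1 ≤ 44352000 * 11178 * 1 :=
        Nat.mul_le_mul_right _ (Nat.mul_le_mul_right _ kC_card)
    _ = 495766656000 := by norm_num

instance fin_C : Finite (CovG 4 mm CC CC 15) := card_le_C.1

/-- the covering group of exponent 15 has the order of the group. -/
theorem card_C : Nat.card (CovG 4 mm CC CC 15) = Nat.card P := by
  have h1 : Nat.card P ∣ Nat.card (CovG 4 mm CC CC 15) :=
    Subgroup.card_dvd_of_surjective piC piC_surj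
  have h2 := card_le_C.2
  rw [← card_P] at h2
  exact Nat.le_antisymm h2 (Nat.le_of_dvd Nat.card_pos h1)

end Cfsg.Agent.Helper3.Co3X
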