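import Mathlib
import Cfsg.Agent.Helper3.Co3YDat
import Cfsg.Agent.Helper9.Co3O.Final
import Cfsg.Agent.Helper5.LPS
import Cfsg.Agent.Helper5.StemPF

/-!
# Checks for the 2-part of the Schur multiplier of the third Conway group

The words of `Co3YDat` in the permutation group on 552 points of `Cfsg.Agent.Helper9.Co3O`: the tables
of the eight letters, the relators, the orders, the four generating tables as words in the letters, the
stabiliser chain of the subgroup of order 898128000.
-/

set_option autoImplicit false

namespace Cfsg.Agent.Helper3.Co3Y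

open Cfsg.Agent.Helper5.LP Cfsg.Agent.Helper5.StemP Cfsg.Agent.Helper9.OutG Cfsg.Agent.Helper9.Co3O

set_option maxRecDepth 1000000 in
theorem tab_agree : ∀ c, c < 8 → ∀ v, v < 552 → evalT dD (W c) v = tabF c v := by decide +kernel

set_option maxRecDepth 1000000 in
theorem W_inv : invW dD (W 0) = W 1 ∧ invW dD (W 2) = W 3 ∧ invW dD (W 4) = W 5 ∧
    invW dD (W 6) = W 7 := by
  decide +kernel

set_option maxRecDepth 1000000 in
theorem chk_rels : ∀ r ∈ CC, ∀ v, v < 552 → actL tabF r v = v := by
  rw [CC_eq]
  decide +kernel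

set_option maxRecDepth 1000000 in
theorem chk_pow : ∀ i, i < 4 → ∀ v, v < 552 → actL tabF (List.replicate (mm i) (2 * i)) v = v := by
  decide +kernel

set_option maxRecDepth 1000000 in
theorem chk_let : ∀ l, l < 4 → ∀ v, v < 552 → T dD l v = actL tabF (letW l) v := by
  decide +kernel

theorem letW_lt : ∀ l, l < 4 → ∀ x ∈ letW l, x < 8 := by decide

set_option maxRecDepth 1000000 in
theorem chk_move : tabF 0 1 ≠ 1 := by decide +kernel

set_option maxRecDepth 1000000 in
theorem chainM_ok : chainOK tabF (2 * 3) 552 [] levelMs = true := chainOK_of_F (by decide +kernel)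

theorem chainM_prod : chainProd levelMs = 898128000 := by decide +kernel

theorem CC_lt : ∀ r ∈ CC, ∀ c ∈ r, c < 2 * 4 := by
  rw [CC_eq]
  decide

theorem CM_lt : ∀ r ∈ CM, ∀ c ∈ r, c < 2 * 3 := by decide

theorem CM_sub : ∀ r ∈ CM, r ∈ CC := fun _ hr => List.mem_append_right _ hr

theorem CN_length : CN.length = 8 := by decide

end Cfsg.Agent.Helper3.Co3Y
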