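import Mathlib
import Cfsg.Agent.Helper3.Co3YGen
import Cfsg.Agent.Helper3.CovQuot
import Cfsg.Agent.Helper4.McLMCov
import Cfsg.Agent.Helper5.LTCH
import Cfsg.Agent.Helper5.StemPI

/-!
# The covering group of exponent 2 of the McLaughlin group, inside the third Conway group

The covering group of exponent 90 of the McLaughlin group (on helper4's generators `a, b, c` of
order 7) is a triple cover, whose kernel dies in the covering group of exponent 2: this one is
isomorphic to the McLaughlin group.  It maps injectively to the third Conway group, onto the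
stabiliser of a point.
-/

set_option autoImplicit false

namespace Cfsg.Agent.Helper3.Co3Y

open Cfsg Cfsg.Agent.Helper5.StemP Cfsg.Agent.Helper5.LP Cfsg.Agent.Helper5.LTC
  Cfsg.Agent.Helper5.TC Cfsg.Agent.Helper5.TCI Cfsg.Agent.Helper3.Co3X

/-- abbreviation: the orders of helper4's generators. -/
abbrev m7 : ℕ → ℕ := Cfsg.Agent.Helper4.McLM.mm

/-- abbreviation: the covering group of exponent 2 of the McLaughlin group. -/
abbrev CovM : Type := CovG 3 m7 CM CM 2

/-! ### the covering group of exponent 2 of the McLaughlin group -/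

theorem ker_le_zpowers : Cfsg.Agent.Helper4.McLM.piF.ker ≤
    Subgroup.zpowers Cfsg.Agent.Helper4.McLM.z0 := by
  obtain ⟨ε⟩ := Cfsg.Agent.Helper4.McLM.stem_F.1.2
  have hcard : Nat.card Cfsg.Agent.Helper4.McLM.piF.ker = 3 := by
    rw [Nat.card_congr ε.toEquiv]
    change Nat.card (ZMod (3 ^ 1)) = 3
    rw [Nat.card_zmod]
    norm_num
  have : Fact (Nat.Prime 3) := ⟨Nat.prime_three⟩
  have hz : Cfsg.Agent.Helper4.McLM.z0 ≠ 1 := by
    have h := Cfsg.Agent.Helper4.McLM.z0_ne
    rwa [show 3 ^ (1 - 1) = 1 from rfl, pow_one] at h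
  let z' : Cfsg.Agent.Helper4.McLM.piF.ker :=
    ⟨Cfsg.Agent.Helper4.McLM.z0, Cfsg.Agent.Helper4.McLM.z0_ker⟩
  have hz' : z' ≠ 1 := by
    intro h
    exact hz (congrArg Subtype.val h)
  have htop : Subgroup.zpowers z' = ⊤ := zpowers_eq_top_of_prime_card hcard hz'
  intro y hy
  have hmem : (⟨y, hy⟩ : Cfsg.Agent.Helper4.McLM.piF.ker) ∈ Subgroup.zpowers z' := by
    rw [htop]
    exact Subgroup.mem_top _
  obtain ⟨k, hk⟩ := Subgroup.mem_zpowers_iff.mp hmem
  rw [Subgroup.mem_zpowers_iff]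
  refine ⟨k, ?_⟩
  have := congrArg Subtype.val hk
  rwa [Subgroup.coe_zpow] at this

theorem quot_z0 : CovQ.quot 3 m7 CM CM 90 2 Cfsg.Agent.Helper4.McLM.CC2_lt (by norm_num)
    Cfsg.Agent.Helper4.McLM.z0 = 1 := by
  unfold Cfsg.Agent.Helper4.McLM.z0
  rw [map_pow, CovQ.quot_ev 3 m7 CM CM 90 2 Cfsg.Agent.Helper4.McLM.CC2_lt (by norm_num) _
    Cfsg.Agent.Helper4.McLM.zw_lt, show 10 = 2 * 5 from rfl, pow_mul, ev_pow,
    ev_rel (mem_coverRels_T 3 m7 CM CM 2 Cfsg.Agent.Helper4.McLM.zw_mem), one_pow]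

/-- the covering homomorphism of exponent 2 onto helper4's McLaughlin group. -/
noncomputable def piM0 : CovM →* Cfsg.Agent.Helper4.McLM.GG :=
  coverHomU 3 m7 CM CM 2 Cfsg.Agent.Helper4.McLM.CC2_lt Cfsg.Agent.Helper4.McLM.g
    Cfsg.Agent.Helper4.McLM.g_pow Cfsg.Agent.Helper4.McLM.CC2_rel

theorem piM0_injective : Function.Injective piM0 :=
  CovQ.coverHomU_injective_of_quot 3 m7 CM CM 90 2 Cfsg.Agent.Helper4.McLM.CC2_lt (by norm_num)
    Cfsg.Agent.Helper4.McLM.g Cfsg.Agent.Helper4.McLM.g_pow Cfsg.Agent.Helper4.McLM.CC2_rel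
    Cfsg.Agent.Helper4.McLM.z0 ker_le_zpowers quot_z0

instance fin_M : Finite CovM := Finite.of_injective piM0 piM0_injective

theorem card_le_M : Nat.card CovM ≤ 898128000 := by
  rw [← Cfsg.Agent.Helper4.McLM.card_GG]
  exact Nat.card_le_card_of_injective piM0 piM0_injective

/-! ### its image in the third Conway group -/

theorem CM2_lt : ∀ r ∈ CM ++ CM, ∀ c ∈ r, c < 2 * 3 := Cfsg.Agent.Helper4.McLM.CC2_lt

theorem CM_rel : ∀ r ∈ CM, (r.map (lval g)).prod = 1 := fun r hr => CC_rel r (CM_sub r hr)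

theorem CM2_rel : ∀ r ∈ CM ++ CM, (r.map (lval g)).prod = 1 := by
  intro r hr
  rcases List.mem_append.mp hr with h | h <;> exact CM_rel r h

theorem g_pow3 : ∀ i, i < 3 → g i ^ m7 i = 1 := by
  intro i hi
  have h := g_pow i (by omega)
  have e : mm i = 7 := by
    unfold mm
    rw [if_neg (by omega)]
  rw [e] at h
  exact h

/-- the covering homomorphism of the subgroup. -/
noncomputable def piM : CovM →* P :=
  coverHomU 3 m7 CM CM 2 CM2_lt g g_pow3 CM2_rel

theorem piM_ev (l : List ℕ) (hl : ∀ c ∈ l, c < 2 * 3) :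
    piM (ev (2 * 3) (coverRels 3 m7 CM CM 2) l) = (l.map (lval g)).prod :=
  coverHomU_ev 3 m7 CM CM 2 CM2_lt g g_pow3 CM2_rel l hl

theorem actsOn_M : ActsOn (rho.comp piM) (ev (2 * 3) (coverRels 3 m7 CM CM 2)) (2 * 3) tabF :=
  actsOn_of_hom piM _ (2 * 3) (by norm_num) piM_ev

theorem card_range_M : 898128000 ≤ Nat.card (rho.comp piM).range := by
  have h1 := chain_lower actsOn_M levelMs [] chainM_ok
  rw [chainM_prod] at h1
  exact h1.trans (Subgroup.card_le_of_le inf_le_left)

theorem card_piM_range : 898128000 ≤ Nat.card piM.range := by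
  have h1 : Nat.card (rho.comp piM).range ≤ Nat.card piM.range := by
    rw [MonoidHom.range_comp]
    have : Finite piM.range := inferInstance
    exact Nat.le_of_dvd Nat.card_pos (Subgroup.card_map_dvd _ rho)
  exact card_range_M.trans h1

/-- the central words are trivial in the covering group of the subgroup. -/
theorem ev_CM_eq_one : ∀ r ∈ CM, ev (2 * 3) (coverRels 3 m7 CM CM 2) r = 1 := by
  intro r hr
  apply piM0_injective
  rw [map_one]
  exact MonoidHom.mem_ker.mp (coverHomU_ker 3 m7 CM CM 2 Cfsg.Agent.Helper4.McLM.CC2_lt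
    Cfsg.Agent.Helper4.McLM.g Cfsg.Agent.Helper4.McLM.g_pow Cfsg.Agent.Helper4.McLM.CC2_rel hr)

end Cfsg.Agent.Helper3.Co3Y
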