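import Mathlib
import Cfsg.Agent.Helper3.Co3XCovC
import Cfsg.Agent.Helper3.Co3YCovC
import Cfsg.Agent.Helper5.StemPL
import Cfsg.Agent.Helper5.StemPM
import Cfsg.Agent.Helper5.StemPC
import Cfsg.Agent.Helper3.Schur

/-!
# The Schur multiplier of the third Conway group is trivial

Two covering presentations of the third Conway group (in its permutation representation on 552
points): of exponent 15 on generators of orders 11, 11, 11, 2, over a subgroup of order 44352000,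
for the primes 3 and 5; of exponent 2 on generators of orders 7, 7, 7, 3, over the stabiliser of a
point, for the prime 2.  Both covering groups have the order of the group.
-/

set_option autoImplicit false

namespace Cfsg.Agent.Helper3.Co3Z

open Cfsg Cfsg.Agent.Helper5 Cfsg.Agent.Helper5.StemP Cfsg.Agent.Helper5.LP Cfsg.Agent.Helper3.Co3X

theorem mmX_cop : ∀ i, i < 4 → (Co3X.mm i).Coprime 3 ∧ (Co3X.mm i).Coprime 5 := by
  intro i hi
  interval_cases i <;> decide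

theorem mmX_cop3 : ∀ i, i < 4 → Co3X.g i ^ Co3X.mm i = 1 ∧ (Co3X.mm i).Coprime (3 ^ 7) := by
  intro i hi
  exact ⟨Co3X.g_pow i hi, Nat.Coprime.pow_right 7 (mmX_cop i hi).1⟩

theorem mmX_cop5 : ∀ i, i < 4 → Co3X.g i ^ Co3X.mm i = 1 ∧ (Co3X.mm i).Coprime (5 ^ 3) := by
  intro i hi
  exact ⟨Co3X.g_pow i hi, Nat.Coprime.pow_right 3 (mmX_cop i hi).2⟩

theorem mmY_cop : ∀ i, i < 4 → (Co3Y.mm i).Coprime 2 := by
  intro i hi
  interval_cases i <;> decide

theorem mmY_cop2 : ∀ i, i < 4 → Co3Y.g i ^ Co3Y.mm i = 1 ∧ (Co3Y.mm i).Coprime (2 ^ 10) := by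
  intro i hi
  exact ⟨Co3Y.g_pow i hi, Nat.Coprime.pow_right 10 (mmY_cop i hi)⟩

theorem bound (Γ : Type) [Group Γ] [Finite Γ] (σ : Γ →* P)
    (hσ : Cfsg.IsStemExtension σ) : Nat.card σ.ker ≤ 1 := by
  have hc := hσ.2.1
  have : Finite (LPG (2 * 4) (coverRels 4 Co3X.mm Co3X.CC Co3X.CC 15)) := Co3X.card_le_C.1
  have : Finite (LPG (2 * 4) (coverRels 4 Co3Y.mm Co3Y.CC Co3Y.CC 2)) := Co3Y.card_le_C.1
  have hcardX : Nat.card (LPG (2 * 4) (coverRels 4 Co3X.mm Co3X.CC Co3X.CC 15)) ∣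
      Nat.card P * 1 := by
    show Nat.card (CovG 4 Co3X.mm Co3X.CC Co3X.CC 15) ∣ _
    rw [Co3X.card_C, mul_one]
  have hcardY : Nat.card (LPG (2 * 4) (coverRels 4 Co3Y.mm Co3Y.CC Co3Y.CC 2)) ∣
      Nat.card P * 1 := by
    show Nat.card (CovG 4 Co3Y.mm Co3Y.CC Co3Y.CC 2) ∣ _
    rw [Co3Y.card_C, mul_one]
  have h2 : Nat.card (qmap σ hc 484147125).ker ∣ 1 :=
    card_qmap_ker_dvd_of_pow_dvd σ hσ hc 2 Nat.prime_two 10 1 484147125 2 (by norm_num)
      (by rw [card_P]; norm_num)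
      4 Co3Y.mm Co3Y.CC Co3Y.CC Co3Y.CC2_lt Co3Y.g Co3Y.g_closure mmY_cop2 Co3Y.CC2_rel 1 hcardY
      (by decide)
  have h3 : Nat.card (qmap σ hc 226688000).ker ∣ 1 :=
    card_qmap_ker_dvd_of_pow_dvd σ hσ hc 3 Nat.prime_three 7 1 226688000 15 (by norm_num)
      (by rw [card_P]; norm_num)
      4 Co3X.mm Co3X.CC Co3X.CC Co3X.CC2_lt Co3X.g Co3X.g_closure mmX_cop3 Co3X.CC2_rel 1 hcardX
      (by decide)
  have h5 : Nat.card (qmap σ hc 3966133248).ker ∣ 1 :=
    card_qmap_ker_dvd_of_pow_dvd σ hσ hc 5 Nat.prime_five 3 1 3966133248 15 (by norm_num)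
      (by rw [card_P]; norm_num)
      4 Co3X.mm Co3X.CC Co3X.CC Co3X.CC2_lt Co3X.g Co3X.g_closure mmX_cop5 Co3X.CC2_rel 1 hcardX
      (by decide)
  have h7 : ∀ z ∈ σ.ker, z ^ Nat.gcd (Nat.gcd 484147125 226688000) 3966133248 = 1 → z = 1 := by
    intro z hz hz1
    have e1771 : Nat.gcd (Nat.gcd 484147125 226688000) 3966133248 = 7 * (11 * 23) := by decide
    rw [e1771] at hz1
    refine eq_one_of_pow_eq_one σ hσ (7 * (11 * 23)) ?_ z hz hz1
    intro q hq hqd
    rw [card_P]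
    rcases (Nat.Prime.dvd_mul hq).mp hqd with h | h
    · rw [(Nat.prime_dvd_prime_iff_eq hq (by norm_num)).mp h]
      decide
    · rcases (Nat.Prime.dvd_mul hq).mp h with h | h
      · rw [(Nat.prime_dvd_prime_iff_eq hq (by norm_num)).mp h]
        decide
      · rw [(Nat.prime_dvd_prime_iff_eq hq (by norm_num)).mp h]
        decide
  have h8 := card_ker_le_mul3 σ hc 484147125 226688000 3966133248 h7
  calc Nat.card σ.ker ≤ Nat.card (qmap σ hc 484147125).ker *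
        Nat.card (qmap σ hc 226688000).ker * Nat.card (qmap σ hc 3966133248).ker := h8
    _ ≤ 1 * 1 * 1 :=
        Nat.mul_le_mul (Nat.mul_le_mul (Nat.le_of_dvd (by norm_num) h2)
          (Nat.le_of_dvd (by norm_num) h3)) (Nat.le_of_dvd (by norm_num) h5)
    _ = 1 := by norm_num

theorem main : Cfsg.HasCyclicSchurMultiplier P 1 := by
  apply Cfsg.Agent.Helper3.hasCyclicSchurMultiplier_one_of
  intro Γ _ _ σ hσ
  have h := bound Γ σ hσ
  rw [Subgroup.eq_bot_iff_card]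
  have hpos : 0 < Nat.card σ.ker := Nat.card_pos
  omega

end Cfsg.Agent.Helper3.Co3Z
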