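import Mathlib
import Cfsg.Prelude.Def_Local
import Cfsg.Agent.Helper1.Fitting
import Cfsg.Agent.Helper4.PSolvable
import Cfsg.Agent.S3977

/-!
Helper library (helper3): finite groups in which any two `p`-subgroups of the same order are
conjugate.
-/

set_option autoImplicit false

namespace Cfsg.Agent.Helper3.ConjP

universe u

/-- any two `p`-subgroups of the same order are conjugate -/
def CP (p : ℕ) (G : Type*) [Group G] : Prop :=
  ∀ H K : Subgroup G, IsPGroup p H → IsPGroup p K → Nat.card H = Nat.card K →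
      ∃ g : G, K = H.map (MulAut.conj g).toMonoidHom

section

variable {G : Type*} [Group G] [Finite G] {p : ℕ} [hp : Fact p.Prime]

/-- small `p`-subgroups lie in every normal subgroup with a large enough Sylow `p`-subgroup -/
theorem le_of_card_le (hC : CP p G) (P : Sylow p G)
    (T : Subgroup G) [hT : T.Normal] (Q : Subgroup G) (hQ : IsPGroup p Q)
    (hcard : Nat.card Q ≤ Nat.card ↥((P : Subgroup G) ⊓ T)) : Q ≤ T := by
  have hD : IsPGroup p ↥((P : Subgroup G) ⊓ T) := P.2.to_le inf_le_left
  obtain ⟨i, hi⟩ := hQ.exists_card_eq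
  rw [hi] at hcard
  obtain ⟨Q', hQ'⟩ := Sylow.exists_subgroup_card_pow_prime_of_le_card hp.out hD hcard
  have hQ''card : Nat.card (Q'.map ((P : Subgroup G) ⊓ T).subtype) = p ^ i := by
    rw [Subgroup.card_map_of_injective (Subgroup.subtype_injective _), hQ']
  have hQ''T : Q'.map ((P : Subgroup G) ⊓ T).subtype ≤ T :=
    (Subgroup.map_subtype_le _).trans inf_le_right
  obtain ⟨g, hg⟩ := hC _ Q (IsPGroup.of_card hQ''card) hQ (hQ''card.trans hi.symm)
  rw [hg]
  rintro _ ⟨y, hy, rfl⟩
  exact hT.conj_mem y (hQ''T hy) g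

/-- a Sylow `p`-subgroup meeting a normal subgroup nontrivially lies in it, or is cyclic -/
theorem le_or_cyclic (hp2 : p ≠ 2) (hC : CP p G) (P : Sylow p G)
    (T : Subgroup G) [hT : T.Normal] (hne : (P : Subgroup G) ⊓ T ≠ ⊥) :
    (P : Subgroup G) ≤ T ∨ IsCyclic P := by
  by_contra hcon
  push Not at hcon
  obtain ⟨hPT, hncyc⟩ := hcon
  apply hncyc
  have hRmap : (T.subgroupOf P).map (P : Subgroup G).subtype = (P : Subgroup G) ⊓ T := by
    rw [Subgroup.subgroupOf_map_subtype, inf_comm]
  have hRcard : Nat.card (T.subgroupOf P) = Nat.card ↥((P : Subgroup G) ⊓ T) := by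
    rw [← hRmap, Subgroup.card_map_of_injective (Subgroup.subtype_injective _)]
  obtain ⟨m, hm⟩ := P.2.exists_card_eq
  obtain ⟨s, hs⟩ := (P.2.to_subgroup (T.subgroupOf P)).exists_card_eq
  have hs1 : 1 ≤ s := by
    by_contra h
    have h0 : s = 0 := by omega
    subst h0
    rw [pow_zero, hRcard] at hs
    exact hne (Subgroup.card_eq_one.mp hs)
  have hsm : s < m := by
    have hRtop : T.subgroupOf P ≠ ⊤ := by
      rw [Ne, Subgroup.subgroupOf_eq_top]; exact hPT
    have hlt : Nat.card (T.subgroupOf P) < Nat.card P :=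
      lt_of_le_of_ne (Subgroup.card_le_card_group _)
        (fun h => hRtop ((Subgroup.card_eq_iff_eq_top _).mp h))
    rw [hs, hm] at hlt
    exact (Nat.pow_lt_pow_iff_right hp.out.one_lt).mp hlt
  apply Cfsg.Agent.S3977.result p m s hp.out hm hs1 hsm (Or.inl hp2)
  have huniq : ∀ A : Subgroup P, Nat.card A = p ^ s → A = T.subgroupOf P := by
    intro A hA
    have h1 : A.map (P : Subgroup G).subtype ≤ T := by
      apply le_of_card_le hC P T _ ((P.2.to_subgroup A).map _)
      rw [Subgroup.card_map_of_injective (Subgroup.subtype_injective _), hA, ← hs, hRcard]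
    apply Subgroup.eq_of_le_of_card_ge
    · intro a ha
      rw [Subgroup.mem_subgroupOf]
      exact h1 ⟨a, ha, rfl⟩
    · rw [hA, hs]
  intro A B hA hB
  rw [huniq A hA, huniq B hB]

/-- lifting `p`-subgroups through a surjection with `p'`-kernel -/
theorem exists_lift {G' : Type*} [Group G'] (f : G →* G') (hf : Function.Surjective f)
    (hker : (Nat.card f.ker).Coprime p) (A' : Subgroup G') (hA' : IsPGroup p A') :
    ∃ A : Subgroup G, IsPGroup p A ∧ A.map f = A' ∧ Nat.card A = Nat.card A' := by
  have hφ : Function.Surjective (f.subgroupComap A') :=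
    f.subgroupComap_surjective_of_surjective A' hf
  let Q : Sylow p ↥(A'.comap f) := default
  have htopP : IsPGroup p (⊤ : Subgroup ↥A') := hA'.to_subgroup _
  have hQtop : (⊤ : Subgroup ↥A') = (Q : Subgroup ↥(A'.comap f)).map (f.subgroupComap A') :=
    (Q.mapSurjective hφ).3 htopP le_top
  have hAP : IsPGroup p ((Q : Subgroup ↥(A'.comap f)).map (A'.comap f).subtype) := Q.2.map _
  have hmap : ((Q : Subgroup ↥(A'.comap f)).map (A'.comap f).subtype).map f = A' := by
    rw [Subgroup.map_map]
    have hcomp : f.comp (A'.comap f).subtype = A'.subtype.comp (f.subgroupComap A') := by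
      ext x; rfl
    rw [hcomp, ← Subgroup.map_map, ← hQtop, ← MonoidHom.range_eq_map, Subgroup.range_subtype]
  refine ⟨_, hAP, hmap, ?_⟩
  generalize (Q : Subgroup ↥(A'.comap f)).map (A'.comap f).subtype = A at hAP hmap
  subst hmap
  have hdisj : A ⊓ f.ker = ⊥ := by
    apply disjoint_iff.mp
    apply Subgroup.disjoint_of_coprime_natCard
    obtain ⟨i, hi⟩ := hAP.exists_card_eq
    rw [hi]
    exact Nat.Coprime.pow_left i hker.symm
  have hinj : Function.Injective (f.subgroupMap A) := by
    rw [injective_iff_map_eq_one]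
    intro a ha
    have h1 : f (a : G) = 1 := congrArg Subtype.val ha
    have h2 : (a : G) ∈ A ⊓ f.ker := ⟨a.2, h1⟩
    rw [hdisj, Subgroup.mem_bot] at h2
    exact Subtype.ext h2
  exact Nat.card_congr (Equiv.ofBijective _ ⟨hinj, f.subgroupMap_surjective A⟩)

theorem CP_quotient (hC : CP p G) (K : Subgroup G) [K.Normal] (hK : (Nat.card K).Coprime p) :
    CP p (G ⧸ K) := by
  intro A' B' hA' hB' hcard
  have hker : (Nat.card (QuotientGroup.mk' K).ker).Coprime p := by
    rw [QuotientGroup.ker_mk']; exact hK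
  obtain ⟨A, hA, hAmap, hAcard⟩ :=
    exists_lift (QuotientGroup.mk' K) (QuotientGroup.mk'_surjective K) hker A' hA'
  obtain ⟨B, hB, hBmap, hBcard⟩ :=
    exists_lift (QuotientGroup.mk' K) (QuotientGroup.mk'_surjective K) hker B' hB'
  obtain ⟨g, hg⟩ := hC A B hA hB (by rw [hAcard, hBcard, hcard])
  refine ⟨QuotientGroup.mk g, ?_⟩
  rw [← hBmap, ← hAmap, hg, Subgroup.map_map, Subgroup.map_map]
  congr 1

theorem isPSolvable_of_surj {A B : Type*} [Group A] [Group B]
    (f : A →* B) (hf : Function.Surjective f) (hG : Cfsg.IsPSolvable p A) :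
    Cfsg.IsPSolvable p B := by
  obtain ⟨n, H, h0, hlast, hmono, hnorm, hfac⟩ := hG
  refine ⟨n, fun i => (H i).map f, ?_, ?_, ?_, ?_, ?_⟩
  · change (H 0).map _ = ⊥
    rw [h0, Subgroup.map_bot]
  · change (H (Fin.last n)).map _ = ⊤
    rw [hlast]; exact Subgroup.map_top_of_surjective _ hf
  · intro i j hij; exact Subgroup.map_mono (hmono hij)
  · intro i; exact (hnorm i).map _ hf
  · intro i
    have hdvd : ((H i.castSucc).map f).relIndex ((H i.succ).map f) ∣
        (H i.castSucc).relIndex (H i.succ) := by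
      rw [← Subgroup.relIndex_comap, Subgroup.comap_map_eq]
      exact Subgroup.relIndex_dvd_of_le_left _ le_sup_left
    rcases hfac i with ⟨m, hm⟩ | hc
    · left
      rw [hm] at hdvd
      obtain ⟨m', _, hm'⟩ := (Nat.dvd_prime_pow hp.out).mp hdvd
      exact ⟨m', hm'⟩
    · right
      exact Nat.Coprime.coprime_dvd_left hdvd hc

end

instance pCore_char (p : ℕ) [Fact p.Prime] (X : Type*) [Group X] :
    (Cfsg.pCore p X).Characteristic := by
  rw [Subgroup.characteristic_iff_map_le]
  intro φ
  apply Cfsg.Agent.Helper1.le_pCore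
  · exact Subgroup.Normal.map inferInstance _ φ.surjective
  · exact (Cfsg.Agent.Helper1.pCore_isPGroup p).map _

instance pPrimeCore_char (p : ℕ) (X : Type*) [Group X] [Finite X] :
    (Cfsg.pPrimeCore p X).Characteristic := by
  rw [Subgroup.characteristic_iff_map_le]
  intro φ
  apply Cfsg.Agent.Helper1.le_pPrimeCore
  · exact Subgroup.Normal.map inferInstance _ φ.surjective
  · rw [Subgroup.card_map_of_injective φ.injective]
    exact Cfsg.Agent.Helper1.card_pPrimeCore_coprime p

section

variable {p : ℕ} [hp : Fact p.Prime]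

theorem inter_ne_bot {G : Type*} [Group G] [Finite G] (P : Sylow p G) (H : Subgroup G)
    [hH : H.Normal] (hdiv : p ∣ Nat.card H) : (P : Subgroup G) ⊓ H ≠ ⊥ := by
  obtain ⟨x, hx⟩ := exists_prime_orderOf_dvd_card' (G := H) p hdiv
  have hxo : orderOf (x : G) = p := by rw [Subgroup.orderOf_coe]; exact hx
  have hxp : IsPGroup p (Subgroup.zpowers (x : G)) :=
    IsPGroup.of_card (n := 1) (by rw [Nat.card_zpowers, hxo, pow_one])
  obtain ⟨P', hP'⟩ := hxp.exists_le_sylow
  obtain ⟨g, hg⟩ := MulAction.exists_smul_eq G P' P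
  have h1 : g * x * g⁻¹ ∈ (P : Subgroup G) := by
    rw [← hg, Sylow.coe_subgroup_smul]
    exact Cfsg.Agent.Helper1.conj_mem_conj_smul_iff.mpr (hP' (Subgroup.mem_zpowers _))
  intro hbot
  have h2 : g * x * g⁻¹ ∈ (P : Subgroup G) ⊓ H := ⟨h1, hH.conj_mem _ x.2 g⟩
  rw [hbot, Subgroup.mem_bot] at h2
  have h3 : (x : G) = 1 := by
    have : (x : G) = g⁻¹ * (g * x * g⁻¹) * g := by group
    rw [this, h2]; group
  rw [h3, orderOf_one] at hxo
  exact hp.out.one_lt.ne hxo

theorem abelian_aux (hp2 : p ≠ 2) : ∀ (n : ℕ) (G : Type u) [Group G] [Finite G],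
    Nat.card G = n → CP p G →
    ∀ (P : Sylow p G) (H : Subgroup G) [H.Normal], Cfsg.IsPSolvable p H → p ∣ Nat.card H →
    ∀ a ∈ (P : Subgroup G), ∀ b ∈ (P : Subgroup G), a * b = b * a := by
  intro n
  induction n using Nat.strong_induction_on with
  | _ n ih =>
    intro G _ _ hcard hC P H hHn hsolv hdiv
    by_cases hcyc : IsCyclic P
    · intro a ha b hb
      letI := IsCyclic.commGroup (α := P)
      have := mul_comm (⟨a, ha⟩ : P) ⟨b, hb⟩
      exact congrArg Subtype.val this
    have key : ∀ T : Subgroup G, T.Normal → (P : Subgroup G) ⊓ T ≠ ⊥ → (P : Subgroup G) ≤ T := by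
      intro T hT hne
      exact (le_or_cyclic hp2 hC P T hne).resolve_right hcyc
    by_cases hK : (Cfsg.pPrimeCore p ↥H).map H.subtype = ⊥
    · have hK0 : Cfsg.pPrimeCore p ↥H = ⊥ :=
        (Subgroup.map_eq_bot_iff_of_injective _ H.subtype_injective).mp hK
      haveI : Nontrivial ↥H := by
        rw [← Finite.one_lt_card_iff_nontrivial]
        have h1 := Nat.le_of_dvd Nat.card_pos hdiv
        have h2 := hp.out.one_lt
        omega
      obtain ⟨W, hWn, hW0, -, hfac⟩ :=
        Cfsg.Agent.Helper4.exists_normal_section_of_isPSolvable hsolv ⊤ ⊥ bot_lt_top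
      rw [Subgroup.relIndex_bot_left] at hfac
      have hR0 : Cfsg.pCore p ↥H ≠ ⊥ := by
        rcases hfac with ⟨m, hm⟩ | hcop
        · intro hbot
          have : W ≤ Cfsg.pCore p ↥H := Cfsg.Agent.Helper1.le_pCore hWn (IsPGroup.of_card hm)
          rw [hbot, le_bot_iff] at this
          exact hW0.ne' this
        · exfalso
          have : W ≤ Cfsg.pPrimeCore p ↥H := Cfsg.Agent.Helper1.le_pPrimeCore hWn hcop
          rw [hK0, le_bot_iff] at this
          exact hW0.ne' this
      have hRn : ((Cfsg.pCore p ↥H).map H.subtype).Normal := inferInstance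
      have hRp : IsPGroup p ((Cfsg.pCore p ↥H).map H.subtype) :=
        (Cfsg.Agent.Helper1.pCore_isPGroup p).map _
      have hRP : (Cfsg.pCore p ↥H).map H.subtype ≤ P := hRp.le_sylow_of_normal P
      have hRne : (Cfsg.pCore p ↥H).map H.subtype ≠ ⊥ := by
        rw [Ne, Subgroup.map_eq_bot_iff_of_injective _ H.subtype_injective]; exact hR0
      have hPR : (P : Subgroup G) ≤ (Cfsg.pCore p ↥H).map H.subtype := by
        apply key _ hRn
        rw [inf_eq_right.mpr hRP]; exact hRne
      have hPeq : (P : Subgroup G) = (Cfsg.pCore p ↥H).map H.subtype := le_antisymm hPR hRP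
      haveI hPn : (P : Subgroup G).Normal := hPeq ▸ hRn
      have hZn : ((Subgroup.center ↥(P : Subgroup G)).map (P : Subgroup G).subtype).Normal :=
        inferInstance
      have hZP : (Subgroup.center ↥(P : Subgroup G)).map (P : Subgroup G).subtype ≤ P :=
        Subgroup.map_subtype_le _
      haveI : Nontrivial ↥(P : Subgroup G) := by
        rw [Subgroup.nontrivial_iff_ne_bot, hPeq]; exact hRne
      have hZne : (Subgroup.center ↥(P : Subgroup G)).map (P : Subgroup G).subtype ≠ ⊥ := by
        rw [Ne, Subgroup.map_eq_bot_iff_of_injective _ (Subgroup.subtype_injective _)]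
        haveI := P.2.center_nontrivial
        exact (Subgroup.nontrivial_iff_ne_bot _).mp inferInstance
      have hPZ := key _ hZn (by rw [inf_eq_right.mpr hZP]; exact hZne)
      intro a ha b hb
      obtain ⟨z, hz, hza⟩ := hPZ ha
      have h1 := Subgroup.mem_center_iff.mp hz ⟨b, hb⟩
      have h2 := congrArg Subtype.val h1
      rw [← hza]
      exact h2.symm
    · have hKn : ((Cfsg.pPrimeCore p ↥H).map H.subtype).Normal := inferInstance
      have hKcop : (Nat.card ((Cfsg.pPrimeCore p ↥H).map H.subtype)).Coprime p := by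
        rw [Subgroup.card_map_of_injective H.subtype_injective]
        exact Cfsg.Agent.Helper1.card_pPrimeCore_coprime p
      generalize (Cfsg.pPrimeCore p ↥H).map H.subtype = K at hK hKn hKcop
      haveI := hKn
      have hlt : Nat.card (G ⧸ K) < n := by
        rw [← hcard, ← Subgroup.index_eq_card, ← K.card_mul_index]
        have h1 : 1 < Nat.card K := by rw [Subgroup.one_lt_card_iff_ne_bot]; exact hK
        have h2 : 0 < K.index := Nat.pos_of_ne_zero Subgroup.index_ne_zero_of_finite
        nlinarith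
      have hCq := CP_quotient hC K hKcop
      have hsurj := QuotientGroup.mk'_surjective K
      haveI : (H.map (QuotientGroup.mk' K)).Normal := hHn.map _ hsurj
      have hsolvq : Cfsg.IsPSolvable p ↥(H.map (QuotientGroup.mk' K)) :=
        isPSolvable_of_surj ((QuotientGroup.mk' K).subgroupMap H)
          ((QuotientGroup.mk' K).subgroupMap_surjective H) hsolv
      have hdivq : p ∣ Nat.card ↥(H.map (QuotientGroup.mk' K)) := by
        obtain ⟨x, hx⟩ := exists_prime_orderOf_dvd_card' (G := H) p hdiv
        have hxo : orderOf (x : G) = p := by rw [Subgroup.orderOf_coe]; exact hx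
        have hxK : (x : G) ∉ K := by
          intro hxK
          have h1 : orderOf (x : G) ∣ Nat.card K := by
            have := orderOf_dvd_natCard (⟨x, hxK⟩ : K)
            rwa [Subgroup.orderOf_mk] at this
          rw [hxo] at h1
          exact hp.out.one_lt.ne' (Nat.Coprime.eq_one_of_dvd hKcop.symm h1)
        have hmem : (QuotientGroup.mk' K (x : G)) ∈ H.map (QuotientGroup.mk' K) :=
          Subgroup.mem_map_of_mem _ x.2
        have ho : orderOf (QuotientGroup.mk' K (x : G)) = p := by
          apply orderOf_eq_prime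
          · rw [← map_pow, ← hxo, pow_orderOf_eq_one, map_one]
          · intro h
            apply hxK
            exact (QuotientGroup.eq_one_iff _).mp h
        have := orderOf_dvd_natCard (⟨_, hmem⟩ : ↥(H.map (QuotientGroup.mk' K)))
        rwa [Subgroup.orderOf_mk, ho] at this
      have hab := ih _ hlt (G ⧸ K) rfl hCq (P.mapSurjective hsurj) (H.map (QuotientGroup.mk' K))
        hsolvq hdivq
      intro a ha b hb
      have h1 := hab (QuotientGroup.mk' K a) (Subgroup.mem_map_of_mem _ ha)
        (QuotientGroup.mk' K b) (Subgroup.mem_map_of_mem _ hb)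
      rw [← map_mul, ← map_mul] at h1
      have h2 : (a * b)⁻¹ * (b * a) ∈ K := QuotientGroup.eq.mp h1
      have h3 : (a * b)⁻¹ * (b * a) ∈ (P : Subgroup G) :=
        Subgroup.mul_mem _ (Subgroup.inv_mem _ (Subgroup.mul_mem _ ha hb)) (Subgroup.mul_mem _ hb ha)
      have hdisj : Disjoint (P : Subgroup G) K := by
        apply Subgroup.disjoint_of_coprime_natCard
        obtain ⟨m, hm⟩ := P.2.exists_card_eq
        have : Nat.card (P : Subgroup G) = p ^ m := hm
        rw [this]
        exact Nat.Coprime.pow_left m hKcop.symm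
      have h4 := Subgroup.disjoint_def.mp hdisj h3 h2
      exact inv_mul_eq_one.mp h4

end

end Cfsg.Agent.Helper3.ConjP
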