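import Mathlib
import Cfsg.Agent.Helper6.CovDefs
import Cfsg.Agent.Helper1.CovSSJac

/-!
# S4432 support, piece GA2 (helper3): `cov_main`
-/

set_option autoImplicit false

namespace Cfsg.Agent.Helper6.Cov

variable {F : Type*} [Field F] {G : Type*} [Group G]

/-- the additive subgroup of `F[G]` generated by the `ι a * z`, `a ∈ I` -/
noncomputable def covR (N : Subgroup G) (I : Ideal (MonoidAlgebra F N)) : AddSubgroup (MonoidAlgebra F G) :=
  AddSubgroup.closure {x | ∃ a ∈ I, ∃ z, x = covIncl F N a * z}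

theorem covR_gen (N : Subgroup G) {I : Ideal (MonoidAlgebra F N)} {a : MonoidAlgebra F N}
    (ha : a ∈ I) (z : MonoidAlgebra F G) : covIncl F N a * z ∈ covR N I :=
  AddSubgroup.subset_closure ⟨a, ha, z, rfl⟩

theorem covR_mul_right (N : Subgroup G) {I : Ideal (MonoidAlgebra F N)} {x : MonoidAlgebra F G}
    (hx : x ∈ covR N I) (w : MonoidAlgebra F G) : x * w ∈ covR N I := by
  unfold covR at hx
  induction hx using AddSubgroup.closure_induction with
  | mem x hx =>
    obtain ⟨a, ha, z, rfl⟩ := hx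
    rw [mul_assoc]
    exact covR_gen N ha _
  | zero => rw [zero_mul]; exact zero_mem _
  | add x y _ _ hx hy => rw [add_mul]; exact add_mem hx hy
  | neg x _ hx => rw [neg_mul]; exact neg_mem hx

theorem single_mul_covIncl_mul (N : Subgroup G) [N.Normal] (s : G) (c : F)
    (a : MonoidAlgebra F N) (z : MonoidAlgebra F G) :
    MonoidAlgebra.single s c * (covIncl F N a * z) =
      covIncl F N (covConj N s a) * (MonoidAlgebra.single s c * z) := by
  have h : MonoidAlgebra.single s c = c • MonoidAlgebra.single s (1 : F) := by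
    rw [MonoidAlgebra.smul_single, smul_eq_mul, mul_one]
  rw [h, smul_mul_assoc, smul_mul_assoc, mul_smul_comm, ← mul_assoc, single_mul_covIncl,
    mul_assoc]

theorem covR_mul_left (N : Subgroup G) [N.Normal] {I : Ideal (MonoidAlgebra F N)}
    (hI : ∀ (s : G) (a : MonoidAlgebra F N), a ∈ I → covConj N s a ∈ I)
    {x : MonoidAlgebra F G} (hx : x ∈ covR N I) (w : MonoidAlgebra F G) :
    w * x ∈ covR N I := by
  unfold covR at hx
  induction hx using AddSubgroup.closure_induction with
  | mem x hx =>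
    obtain ⟨a, ha, z, rfl⟩ := hx
    induction w using MonoidAlgebra.induction_linear with
    | zero => rw [zero_mul]; exact zero_mem _
    | add p q hp hq => rw [add_mul]; exact add_mem hp hq
    | single s c =>
      rw [single_mul_covIncl_mul]
      exact covR_gen N (hI s a ha) _
  | zero => rw [mul_zero]; exact zero_mem _
  | add x y _ _ hx hy => rw [mul_add]; exact add_mem hx hy
  | neg x _ hx => rw [mul_neg]; exact neg_mem hx

theorem covR_mul (N : Subgroup G) [N.Normal] {I₁ I₂ : Ideal (MonoidAlgebra F N)}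
    (hI : ∀ (s : G) (a : MonoidAlgebra F N), a ∈ I₂ → covConj N s a ∈ I₂)
    {x y : MonoidAlgebra F G} (hx : x ∈ covR N I₁) (hy : y ∈ covR N I₂) :
    x * y ∈ covR N (I₁ * I₂) := by
  -- first: `ι a * y' ∈ R (I₁ * I₂)` for `a ∈ I₁`, `y' ∈ R I₂`
  have key : ∀ a ∈ I₁, ∀ y' ∈ covR N I₂, covIncl F N a * y' ∈ covR N (I₁ * I₂) := by
    intro a ha y' hy'
    unfold covR at hy'
    induction hy' using AddSubgroup.closure_induction with
    | mem y' hy' =>
      obtain ⟨a', ha', z', rfl⟩ := hy'
      rw [← mul_assoc, ← map_mul]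
      exact covR_gen N (Ideal.mul_mem_mul ha ha') _
    | zero => rw [mul_zero]; exact zero_mem _
    | add p q _ _ hp hq => rw [mul_add]; exact add_mem hp hq
    | neg p _ hp => rw [mul_neg]; exact neg_mem hp
  unfold covR at hx
  induction hx using AddSubgroup.closure_induction with
  | mem x hx =>
    obtain ⟨a, ha, z, rfl⟩ := hx
    rw [mul_assoc]
    exact key a ha _ (covR_mul_left N hI hy z)
  | zero => rw [zero_mul]; exact zero_mem _
  | add p q _ _ hp hq => rw [add_mul]; exact add_mem hp hq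
  | neg p _ hp => rw [neg_mul]; exact neg_mem hp

theorem covR_bot (N : Subgroup G) {x : MonoidAlgebra F G}
    (hx : x ∈ covR N (⊥ : Ideal (MonoidAlgebra F N))) : x = 0 := by
  unfold covR at hx
  induction hx using AddSubgroup.closure_induction with
  | mem x hx =>
    obtain ⟨a, ha, z, rfl⟩ := hx
    rw [Ideal.mem_bot] at ha
    rw [ha, map_zero, zero_mul]
  | zero => rfl
  | add p q _ _ hp hq => rw [hp, hq, add_zero]
  | neg p _ hp => rw [hp, neg_zero]

/-- the ideal `{ρ (z * e)}` of `F[N]` -/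
noncomputable def covL (N : Subgroup G) (e : MonoidAlgebra F G) : Ideal (MonoidAlgebra F N) where
  carrier := {l | ∃ z : MonoidAlgebra F G, l = covRes F N (z * e)}
  add_mem' := by
    rintro _ _ ⟨z, rfl⟩ ⟨w, rfl⟩
    exact ⟨z + w, by rw [add_mul, map_add]⟩
  zero_mem' := ⟨0, by rw [zero_mul, map_zero]⟩
  smul_mem' := by
    rintro a _ ⟨z, rfl⟩
    exact ⟨covIncl F N a * z, by rw [smul_eq_mul, mul_assoc, covRes_covIncl_mul]⟩

theorem mem_covL (N : Subgroup G) (e : MonoidAlgebra F G) (l : MonoidAlgebra F N) :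
    l ∈ covL N e ↔ ∃ z : MonoidAlgebra F G, l = covRes F N (z * e) := Iff.rfl

theorem covL_isTwoSided (N : Subgroup G) (e : MonoidAlgebra F G) (hec : ∀ z, Commute e z) :
    (covL N e).IsTwoSided := by
  refine ⟨?_⟩
  intro l a hl
  obtain ⟨z, rfl⟩ := (mem_covL N e l).mp hl
  refine (mem_covL N e _).mpr ⟨z * covIncl F N a, ?_⟩
  rw [← covRes_mul_covIncl, mul_assoc, mul_assoc, (hec _).eq]

theorem cov_main_aux [Finite G] (N : Subgroup G) [N.Normal]
    (ABS : ∀ (L : Ideal (MonoidAlgebra F N)) [L.IsTwoSided],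
      (∀ g, IsIdempotentElem g → (∀ l ∈ L, g * l ∈ Ring.jacobson (MonoidAlgebra F N)) →
        (∀ l ∈ L, g * l = 0) ∧ (∀ l ∈ L, l * g = 0)) →
      ∃ f, IsIdempotentElem f ∧ (∀ a, Commute f a) ∧ f ∈ L ∧ ∀ l ∈ L, (1 - f) * l = 0)
    (e : MonoidAlgebra F G) (he : IsIdempotentElem e) (hec : ∀ z, Commute e z)
    (ε : MonoidAlgebra F N) (hε : IsIdempotentElem ε) (hεc : ∀ a, Commute ε a)
    (hprim : ∀ f : MonoidAlgebra F N, IsIdempotentElem f → (∀ a, Commute f a) → f * ε = f →
      f = 0 ∨ f = ε)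
    (hne : covIncl F N ε * e ≠ 0) :
    ∃ z : MonoidAlgebra F G, covRes F N (z * e) = ε := by
  classical
  obtain ⟨T, hT⟩ := exists_transversal_decomp (k := F) N
  have : (covL N e).IsTwoSided := covL_isTwoSided N e hec
  have hmemL : ∀ z, covRes F N (z * e) ∈ covL N e := fun z => (mem_covL N e _).mpr ⟨z, rfl⟩
  -- Step 2
  have step2 : ∀ a : MonoidAlgebra F N, covIncl F N a * e = 0 →
      (∀ l ∈ covL N e, a * l = 0) ∧ (∀ l ∈ covL N e, l * a = 0) := by
    intro a ha
    constructor
    · intro l hl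
      obtain ⟨z, rfl⟩ := (mem_covL N e l).mp hl
      rw [← covRes_covIncl_mul, ← (hec z).eq, ← mul_assoc, ha, zero_mul, map_zero]
    · intro l hl
      obtain ⟨z, rfl⟩ := (mem_covL N e l).mp hl
      rw [← covRes_mul_covIncl, mul_assoc, (hec _).eq, ha, mul_zero, map_zero]
  -- Step 2'
  have step2' : ∀ a : MonoidAlgebra F N, (∀ l ∈ covL N e, a * l = 0) →
      covIncl F N a * e = 0 := by
    intro a ha
    rw [hT (covIncl F N a * e)]
    apply Finset.sum_eq_zero
    intro t _
    have h0 : covRes F N (covIncl F N a * e * MonoidAlgebra.single t⁻¹ 1) = 0 := by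
      rw [mul_assoc, covRes_covIncl_mul, (hec _).eq]
      exact ha _ (hmemL _)
    rw [h0, map_zero, zero_mul]
  -- Step 3
  have H : ∀ g, IsIdempotentElem g →
      (∀ l ∈ covL N e, g * l ∈ Ring.jacobson (MonoidAlgebra F N)) →
      (∀ l ∈ covL N e, g * l = 0) ∧ (∀ l ∈ covL N e, l * g = 0) := by
    intro g hg hgJ
    apply step2
    obtain ⟨u, hu⟩ : ∃ u, u = covIncl F N g * e := ⟨_, rfl⟩
    rw [← hu]
    have hidem : u * u = u := by
      rw [hu]
      calc covIncl F N g * e * (covIncl F N g * e)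
          = covIncl F N g * (e * covIncl F N g) * e := by simp only [mul_assoc]
        _ = covIncl F N g * (covIncl F N g * e) * e := by rw [(hec _).eq]
        _ = covIncl F N (g * g) * (e * e) := by rw [map_mul]; simp only [mul_assoc]
        _ = covIncl F N g * e := by rw [hg.eq, he.eq]
    have hmemJ : u ∈ covR N (Ring.jacobson (MonoidAlgebra F N)) := by
      rw [hT u]
      apply sum_mem
      intro t _
      apply covR_gen
      rw [hu, mul_assoc, covRes_covIncl_mul, (hec _).eq]
      exact hgJ _ (hmemL _)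
    have hpow : ∀ k : ℕ, u ∈ covR N (Ring.jacobson (MonoidAlgebra F N) ^ k) := by
      intro k
      induction k with
      | zero =>
        rw [Submodule.pow_zero, Ideal.one_eq_top]
        have h1 := covR_gen N (I := (⊤ : Ideal (MonoidAlgebra F N))) (a := 1) trivial u
        rwa [map_one, one_mul] at h1
      | succ k ih =>
        rw [Submodule.pow_succ, ← hidem]
        exact covR_mul N (fun s a ha => jacobson_ringEquiv (covConj N s) ha) ih hmemJ
    have : IsArtinianRing (MonoidAlgebra F N) := IsArtinianRing.of_finite F _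
    obtain ⟨m, hm⟩ := IsSemiprimaryRing.isNilpotent (R := MonoidAlgebra F N)
    have hum := hpow m
    rw [hm, Submodule.zero_eq_bot] at hum
    exact covR_bot N hum
  -- Step 4
  obtain ⟨f, hf, hfc, hfL, hfl⟩ := ABS (covL N e) H
  have hfε_idem : IsIdempotentElem (f * ε) := by
    show f * ε * (f * ε) = f * ε
    calc f * ε * (f * ε) = f * (ε * f) * ε := by simp only [mul_assoc]
      _ = f * (f * ε) * ε := by rw [(hεc f).eq]
      _ = (f * f) * (ε * ε) := by simp only [mul_assoc]
      _ = f * ε := by rw [hf.eq, hε.eq]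
  have hfε_c : ∀ a, Commute (f * ε) a := fun a => (hfc a).mul_left (hεc a)
  have hfε_ε : f * ε * ε = f * ε := by rw [mul_assoc, hε.eq]
  rcases hprim (f * ε) hfε_idem hfε_c hfε_ε with h0 | h1
  · exfalso
    apply hne
    apply step2'
    intro l hl
    have h1 : l = f * l := by
      have h2 := hfl l hl
      rw [sub_mul, one_mul, sub_eq_zero] at h2
      exact h2
    rw [h1, ← mul_assoc, (hεc f).eq, h0, zero_mul]
  · have hεL : ε ∈ covL N e := by
      have h2 : ε * f ∈ covL N e := (covL N e).mul_mem_left ε hfL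
      rwa [(hεc f).eq, h1] at h2
    obtain ⟨z, hz⟩ := (mem_covL N e ε).mp hεL
    exact ⟨z, hz.symm⟩

end Cfsg.Agent.Helper6.Cov
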