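import Mathlib
import Cfsg.Agent.Helper6.CovDefs
import Cfsg.Agent.Helper2.CovAbs
import Cfsg.Agent.Helper3.CovGA2

/-!
# S4432 support, piece GA2 (helper3): `cov_main` = `cov_main_aux` + helper2's ABS lemma
-/

set_option autoImplicit false

namespace Cfsg.Agent.Helper6.Cov

theorem cov_main {F : Type*} [Field F] {G : Type*} [Group G] [Finite G] (N : Subgroup G)
    [N.Normal] (e : MonoidAlgebra F G) (he : IsIdempotentElem e) (hec : ∀ z, Commute e z)
    (ε : MonoidAlgebra F N) (hε : IsIdempotentElem ε) (hεc : ∀ a, Commute ε a)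
    (hprim : ∀ f : MonoidAlgebra F N, IsIdempotentElem f → (∀ a, Commute f a) → f * ε = f →
      f = 0 ∨ f = ε)
    (hne : covIncl F N ε * e ≠ 0) :
    ∃ z : MonoidAlgebra F G, covRes F N (z * e) = ε := by
  have hart : IsArtinianRing (MonoidAlgebra F N) := IsArtinianRing.of_finite F _
  exact cov_main_aux N (fun L _ H => exists_central_idem_mem L H) e he hec ε hε hεc hprim hne

end Cfsg.Agent.Helper6.Cov
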