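import Mathlib
import Cfsg.Agent.Helper5.LTCM
import Cfsg.Agent.Helper5.StemPB

/-!
# Permutation models of central extensions: tables on `N0 * a` points and the relators of a
covering presentation

Helpers for the labelled Todd–Coxeter method of `Cfsg.Agent.Helper5.LTC`: a table function for any
number of letters, the check that the letters act as mutually inverse permutations, and the
reduction of the relators of a covering presentation to the relators of bounded length.
-/

set_option autoImplicit false

namespace Cfsg.Agent.Helper3.CovModel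

open Cfsg.Agent.Helper5 Cfsg.Agent.Helper5.LP Cfsg.Agent.Helper5.StemP Cfsg.Agent.Helper5.LTC

/-- entry `n` (16 bits) of an array cut into chunks of 1024 entries. -/
def lkc (t : List ℕ) (n : ℕ) : ℕ := lkw 16 (t.getD (Nat.div n 1024) 0) (Nat.mod n 1024)

/-- the table of the extension by `ZMod a` of tables on `N0` points, one chunked array for each
letter: the entry holds the target and the shift. -/
def covTK (t : List (List ℕ)) (N0 a : ℕ) (x v : ℕ) : ℕ :=
  frc v fun v' =>
  frc (lkc (t.getD x []) (Nat.mod v' N0)) fun e =>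
  Nat.add (Nat.mod e N0) (Nat.mul N0 (Nat.mod (Nat.add (Nat.div v' N0) (Nat.div e N0)) a))

/-- the letters below `k` act on the points `lo, …, lo + cnt - 1` with inverse letters. -/
def invAllK (T : ℕ → ℕ → ℕ) (N cnt lo : ℕ) : ℕ → Bool
  | 0 => true
  | k + 1 => invRow T N k (linv k) cnt lo && invAllK T N cnt lo k

theorem invAllK_spec (T : ℕ → ℕ → ℕ) (N cnt lo : ℕ) : ∀ k, invAllK T N cnt lo k = true →
    ∀ x, x < k → ∀ v, lo ≤ v → v < lo + cnt → T x v < N ∧ T (linv x) (T x v) = v
  | 0, _, x, hx => by omega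
  | k + 1, h, x, hx => by
    unfold invAllK at h
    rw [Bool.and_eq_true] at h
    rcases Nat.eq_or_lt_of_le (Nat.le_of_lt_succ hx) with rfl | h1
    · exact invRow_spec T N x (linv x) cnt lo h.1
    · exact invAllK_spec T N cnt lo k h.2 x h1

theorem tableOKI_step (T : ℕ → ℕ → ℕ) (N k : ℕ) {lo : ℕ}
    (h : ∀ x, x < k → ∀ v, v < lo → T x v < N ∧ T (linv x) (T x v) = v) (cnt : ℕ)
    (hc : invAllK T N cnt lo k = true) :
    ∀ x, x < k → ∀ v, v < lo + cnt → T x v < N ∧ T (linv x) (T x v) = v := by
  intro x hx v hv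
  by_cases h1 : v < lo
  · exact h x hx v h1
  · exact invAllK_spec T N cnt lo k hc x hx v (by omega) hv

/-- the relators of a covering presentation other than the powers of the central words. -/
def coverRelsAB (d : ℕ) (m : ℕ → ℕ) (C : List (List ℕ)) : List (List ℕ) :=
  ((List.range d).flatMap fun i =>
      [[2 * i, 2 * i + 1], [2 * i + 1, 2 * i], List.replicate (m i) (2 * i)]) ++
    (C.flatMap fun r => (List.range d).map fun i => r ++ [2 * i] ++ StemP.winv r ++ [2 * i + 1])

theorem coverRels_eq (d : ℕ) (m : ℕ → ℕ) (C T : List (List ℕ)) (e : ℕ) :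
    coverRels d m C T e = coverRelsAB d m C ++ T.map fun r => (List.replicate e r).flatten := rfl

theorem actL_replicate (T : ℕ → ℕ → ℕ) (N : ℕ) (r : List ℕ)
    (h : ∀ v, v < N → actL T (r ++ r) v = v) :
    ∀ (j : ℕ) (v : ℕ), v < N → actL T (List.replicate (2 * j) r).flatten v = v
  | 0, v, _ => rfl
  | j + 1, v, hv => by
    have e1 : 2 * (j + 1) = (2 * j + 1) + 1 := by ring
    rw [e1, List.replicate_succ, List.flatten_cons, List.replicate_succ, List.flatten_cons,
      ← List.append_assoc, actL_append, actL_replicate T N r h j v hv]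
    exact h v hv

/-- **the relators of a covering presentation fix all points**, if those of bounded length do and
the squares of the central words do, the exponent being even. -/
theorem relsFix_coverRels (d : ℕ) (m : ℕ → ℕ) (C T : List (List ℕ)) (e N : ℕ)
    (Tb : ℕ → ℕ → ℕ) (h12 : RelsFix (coverRelsAB d m C) N Tb)
    (h3 : ∀ r ∈ T, ∀ v, v < N → actL Tb (r ++ r) v = v) (he : Even e) :
    RelsFix (coverRels d m C T e) N Tb := by
  intro l hl v hv
  rw [coverRels_eq] at hl
  rcases List.mem_append.mp hl with h | h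
  · exact h12 l h v hv
  · obtain ⟨r, hr, rfl⟩ := List.mem_map.mp h
    obtain ⟨j, rfl⟩ := he
    rw [← two_mul]
    exact actL_replicate Tb N r (h3 r hr) j v hv

/-- the squares of the words fix the points `lo, …, lo + cnt - 1`. -/
def sqAll (T : ℕ → ℕ → ℕ) : List (List ℕ) → ℕ → ℕ → Bool
  | [], _, _ => true
  | l :: ls, cnt, lo => fixRow T (l ++ l) cnt lo && sqAll T ls cnt lo

theorem sqAll_spec (T : ℕ → ℕ → ℕ) : ∀ (R : List (List ℕ)) (cnt lo : ℕ),
    sqAll T R cnt lo = true → ∀ l ∈ R, ∀ v, lo ≤ v → v < lo + cnt → actL T (l ++ l) v = v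
  | [], _, _, _, l, hl => by simp at hl
  | r :: rs, cnt, lo, h, l, hl => by
    unfold sqAll at h
    rw [Bool.and_eq_true] at h
    rcases List.mem_cons.mp hl with rfl | hl
    · exact fixRow_spec T (l ++ l) cnt lo h.1
    · exact sqAll_spec T rs cnt lo h.2 l hl

theorem sq_step (T : ℕ → ℕ → ℕ) (R : List (List ℕ)) {lo : ℕ}
    (h : ∀ l ∈ R, ∀ v, v < lo → actL T (l ++ l) v = v) (cnt : ℕ) (hc : sqAll T R cnt lo = true) :
    ∀ l ∈ R, ∀ v, v < lo + cnt → actL T (l ++ l) v = v := by
  intro l hl v hv
  by_cases h1 : v < lo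
  · exact h l hl v h1
  · exact sqAll_spec T R cnt lo hc l hl v (by omega) hv

end Cfsg.Agent.Helper3.CovModel
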