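import Mathlib
import Cfsg.Agent.Helper3.CovModel

/-!
# Permutation models of central extensions: reduction of the checks to the base layer

The table `covTK t N0 a` on `N0 * a` points commutes with the shifts of the layers.  Hence the
table conditions and the relators of a covering presentation have to be checked on the points of
the base layer only: a word `r` of the central list acts on the base layer as a shift, and then it
acts as this shift everywhere.
-/

set_option autoImplicit false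

namespace Cfsg.Agent.Helper3.CovModel

open Cfsg.Agent.Helper5 Cfsg.Agent.Helper5.LP Cfsg.Agent.Helper5.StemP Cfsg.Agent.Helper5.LTC

/-- the shift of the layers by `j`. -/
def shK (N0 a j v : ℕ) : ℕ :=
  Nat.add (Nat.mod v N0) (Nat.mul N0 (Nat.mod (Nat.add (Nat.div v N0) j) a))

theorem shK_eq (N0 a j v : ℕ) : shK N0 a j v = v % N0 + N0 * ((v / N0 + j) % a) := rfl

theorem add_mul_mod_lt {N0 r q : ℕ} (hr : r < N0) : (r + N0 * q) % N0 = r := by
  rw [Nat.add_mul_mod_self_left, Nat.mod_eq_of_lt hr]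

theorem add_mul_div_lt {N0 r q : ℕ} (hr : r < N0) : (r + N0 * q) / N0 = q := by
  rw [Nat.add_mul_div_left _ _ (by omega), Nat.div_eq_of_lt hr, zero_add]

theorem shK_mod {N0 : ℕ} (hN0 : 0 < N0) (a j v : ℕ) : shK N0 a j v % N0 = v % N0 := by
  rw [shK_eq, add_mul_mod_lt (Nat.mod_lt _ hN0)]

theorem shK_div {N0 : ℕ} (hN0 : 0 < N0) (a j v : ℕ) : shK N0 a j v / N0 = (v / N0 + j) % a := by
  rw [shK_eq, add_mul_div_lt (Nat.mod_lt _ hN0)]

theorem shK_lt {N0 a : ℕ} (hN0 : 0 < N0) (ha : 0 < a) (j v : ℕ) : shK N0 a j v < N0 * a := by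
  rw [shK_eq]
  have h1 : v % N0 < N0 := Nat.mod_lt _ hN0
  have h2 : (v / N0 + j) % a < a := Nat.mod_lt _ ha
  calc v % N0 + N0 * ((v / N0 + j) % a) < N0 + N0 * ((v / N0 + j) % a) := by omega
    _ = N0 * ((v / N0 + j) % a + 1) := by ring
    _ ≤ N0 * a := Nat.mul_le_mul_left _ h2

theorem shK_shK {N0 : ℕ} (hN0 : 0 < N0) (a j j' v : ℕ) :
    shK N0 a j (shK N0 a j' v) = shK N0 a (j' + j) v := by
  rw [shK_eq N0 a j, shK_mod hN0, shK_div hN0, shK_eq]
  congr 2
  rw [Nat.mod_add_mod, add_assoc]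

theorem shK_comm {N0 : ℕ} (hN0 : 0 < N0) (a j j' v : ℕ) :
    shK N0 a j (shK N0 a j' v) = shK N0 a j' (shK N0 a j v) := by
  rw [shK_shK hN0, shK_shK hN0, add_comm]

theorem shK_of_dvd {N0 a j v : ℕ} (hj : a ∣ j) (hv : v < N0 * a) : shK N0 a j v = v := by
  have hq : v / N0 < a := Nat.div_lt_of_lt_mul hv
  rw [shK_eq, Nat.add_mod, Nat.mod_eq_zero_of_dvd hj, add_zero, Nat.mod_mod,
    Nat.mod_eq_of_lt hq]
  exact Nat.mod_add_div v N0

theorem shK_decomp {N0 a v : ℕ} (hN0 : 0 < N0) (hv : v < N0 * a) :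
    shK N0 a (v / N0) (v % N0) = v := by
  have hq : v / N0 < a := Nat.div_lt_of_lt_mul hv
  rw [shK_eq, Nat.mod_mod, Nat.div_eq_of_lt (Nat.mod_lt _ hN0), zero_add, Nat.mod_eq_of_lt hq]
  exact Nat.mod_add_div v N0

theorem covTK_eq (t : List (List ℕ)) (N0 a x v : ℕ) :
    covTK t N0 a x v = lkc (t.getD x []) (v % N0) % N0 +
      N0 * ((v / N0 + lkc (t.getD x []) (v % N0) / N0) % a) := by
  unfold covTK
  rw [frc_eq, frc_eq]
  rfl

/-- **the table of an extension commutes with the shifts of the layers**. -/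
theorem covTK_shK (t : List (List ℕ)) {N0 : ℕ} (hN0 : 0 < N0) (a x j v : ℕ) :
    covTK t N0 a x (shK N0 a j v) = shK N0 a j (covTK t N0 a x v) := by
  rw [covTK_eq, shK_mod hN0, shK_div hN0, covTK_eq, shK_eq,
    add_mul_mod_lt (Nat.mod_lt _ hN0), add_mul_div_lt (Nat.mod_lt _ hN0)]
  congr 2
  generalize lkc (t.getD x []) (v % N0) / N0 = q
  rw [Nat.mod_add_mod, Nat.mod_add_mod, add_right_comm]

section
variable {T : ℕ → ℕ → ℕ} {N0 a : ℕ}

/-- a table commuting with the shifts. -/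
def ShiftEquivariant (T : ℕ → ℕ → ℕ) (N0 a : ℕ) : Prop :=
  ∀ x j v, T x (shK N0 a j v) = shK N0 a j (T x v)

theorem shiftEquivariant_covTK (t : List (List ℕ)) {N0 : ℕ} (hN0 : 0 < N0) (a : ℕ) :
    ShiftEquivariant (covTK t N0 a) N0 a := fun x j v => covTK_shK t hN0 a x j v

theorem actL_shK (hT : ShiftEquivariant T N0 a) : ∀ (l : List ℕ) (j v : ℕ),
    actL T l (shK N0 a j v) = shK N0 a j (actL T l v)
  | [], _, _ => rfl
  | c :: l, j, v => by
    rw [actL, actL_shK hT l j v, hT]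
    rfl

/-- the table conditions, from the inverse letters on the base layer. -/
theorem tableOKI_of_base (hT : ShiftEquivariant T N0 a) (hN0 : 0 < N0) (ha : 0 < a) (k : ℕ)
    (hb : ∀ x, x < k → ∀ v, v < N0 → T (linv x) (T x v) = v) :
    TableOKI k (N0 * a) linv T := by
  intro x hx v hv
  have e := shK_decomp hN0 hv
  constructor
  · rw [← e, hT]
    exact shK_lt hN0 ha _ _
  · rw [← e, hT, hT, hb x hx _ (Nat.mod_lt _ hN0)]

/-- a word acting as a shift on the base layer acts as this shift. -/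
theorem actL_eq_shK_of_base (hT : ShiftEquivariant T N0 a) (hN0 : 0 < N0) (r : List ℕ) (j : ℕ)
    (hb : ∀ v, v < N0 → actL T r v = shK N0 a j v) :
    ∀ v, v < N0 * a → actL T r v = shK N0 a j v := by
  intro v hv
  have e := shK_decomp hN0 hv
  rw [← e, actL_shK hT, hb _ (Nat.mod_lt _ hN0), shK_comm hN0]

theorem actL_eq_self_of_base (hT : ShiftEquivariant T N0 a) (hN0 : 0 < N0) (r : List ℕ)
    (hb : ∀ v, v < N0 → actL T r v = v) :
    ∀ v, v < N0 * a → actL T r v = v := by
  intro v hv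
  have e := shK_decomp hN0 hv
  rw [← e, actL_shK hT, hb _ (Nat.mod_lt _ hN0)]

theorem actL_replicate_shK (hN0 : 0 < N0) (ha : 0 < a) (r : List ℕ) (j : ℕ)
    (h : ∀ v, v < N0 * a → actL T r v = shK N0 a j v) :
    ∀ (n : ℕ) (v : ℕ), v < N0 * a →
      actL T (List.replicate n r).flatten v = shK N0 a (n * j) v
  | 0, v, hv => by
    rw [List.replicate_zero, List.flatten_nil, zero_mul, shK_of_dvd (dvd_zero a) hv]
    rfl
  | n + 1, v, hv => by
    rw [List.replicate_succ, List.flatten_cons, actL_append,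
      actL_replicate_shK hN0 ha r j h n v hv, h _ (shK_lt hN0 ha _ _), shK_shK hN0]
    congr 1
    ring

end

section
variable {T : ℕ → ℕ → ℕ} {k N : ℕ}

theorem winv_cons (c : ℕ) (l : List ℕ) : StemP.winv (c :: l) = StemP.winv l ++ [linv c] := by
  unfold StemP.winv
  rw [List.map_cons, List.reverse_cons]

theorem winv_lt (hk : ∀ x, x < k → linv x < k) (r : List ℕ) (hr : ∀ c ∈ r, c < k) :
    ∀ c ∈ StemP.winv r, c < k := by
  intro c hc
  unfold StemP.winv at hc
  rw [List.mem_reverse, List.mem_map] at hc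
  obtain ⟨c', hc', rfl⟩ := hc
  exact hk c' (hr c' hc')

theorem actL_winv_actL (hT : TableOKI k N linv T) : ∀ (r : List ℕ), (∀ c ∈ r, c < k) →
    ∀ v, v < N → actL T (StemP.winv r) (actL T r v) = v
  | [], _, _, _ => rfl
  | c :: l, hl, v, hv => by
    have hl' : ∀ c ∈ l, c < k := fun c hc => hl c (List.mem_cons_of_mem _ hc)
    have hu : actL T l v < N := actL_ltI hT l hl' v hv
    rw [winv_cons, actL_append]
    change actL T (StemP.winv l) (T (linv c) (T c (actL T l v))) = v
    rw [(hT c (hl c List.mem_cons_self) _ hu).2]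
    exact actL_winv_actL hT l hl' v hv

theorem actL_actL_winv (hT : TableOKI k N linv T) (hk : ∀ x, x < k → linv x < k) :
    ∀ (r : List ℕ), (∀ c ∈ r, c < k) → ∀ v, v < N → actL T r (actL T (StemP.winv r) v) = v
  | [], _, _, _ => rfl
  | c :: l, hl, v, hv => by
    have hl' : ∀ c ∈ l, c < k := fun c hc => hl c (List.mem_cons_of_mem _ hc)
    have hc : c < k := hl c List.mem_cons_self
    have h1 := hT (linv c) (hk c hc) v hv
    rw [LTC.linv_linv] at h1
    rw [winv_cons, actL_append]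
    change T c (actL T l (actL T (StemP.winv l) (T (linv c) v))) = v
    rw [actL_actL_winv hT hk l hl' _ h1.1]
    exact h1.2

end

section
variable {T : ℕ → ℕ → ℕ} {N0 a : ℕ}

/-- **the relators of a covering presentation fix all points**, if the table commutes with the
shifts of the layers, the power relators fix the base layer and the central words act as shifts
on the base layer. -/
theorem relsFix_coverRels_of_base (hT : ShiftEquivariant T N0 a) (hN0 : 0 < N0) (ha : 0 < a)
    (d : ℕ) (m : ℕ → ℕ) (L : List (List ℕ × ℕ)) (TT : List (List ℕ)) (e : ℕ)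
    (hOK : TableOKI (2 * d) (N0 * a) linv T)
    (hm : ∀ i, i < d → ∀ v, v < N0 → actL T (List.replicate (m i) (2 * i)) v = v)
    (hL : ∀ p ∈ L, ∀ v, v < N0 → actL T p.1 v = shK N0 a p.2 v)
    (hlt : ∀ p ∈ L, ∀ c ∈ p.1, c < 2 * d)
    (hTT : ∀ r ∈ TT, ∃ p ∈ L, p.1 = r ∧ a ∣ e * p.2) :
    RelsFix (coverRels d m (L.map Prod.fst) TT e) (N0 * a) T := by
  have hk : ∀ x, x < 2 * d → linv x < 2 * d := fun x hx => linv_lt hx
  have hev : ∀ i, linv (2 * i) = 2 * i + 1 := fun i => by
    unfold linv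
    rw [if_pos (by omega)]
  have hod : ∀ i, linv (2 * i + 1) = 2 * i := fun i => by
    unfold linv
    rw [if_neg (by omega)]
    omega
  intro l hl v hv
  unfold coverRels at hl
  rcases List.mem_append.mp hl with hl | hl
  · rcases List.mem_append.mp hl with hl | hl
    · obtain ⟨i, hi, hl⟩ := List.mem_flatMap.mp hl
      rw [List.mem_range] at hi
      rw [List.mem_cons, List.mem_cons, List.mem_singleton] at hl
      rcases hl with rfl | rfl | rfl
      · have h1 := (hOK (2 * i + 1) (by omega) v hv).2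
        rw [hod] at h1
        exact h1
      · have h1 := (hOK (2 * i) (by omega) v hv).2
        rw [hev] at h1
        exact h1
      · exact actL_eq_self_of_base hT hN0 _ (hm i hi) v hv
    · obtain ⟨r, hr, hl⟩ := List.mem_flatMap.mp hl
      obtain ⟨p, hp, rfl⟩ := List.mem_map.mp hr
      obtain ⟨i, hi, rfl⟩ := List.mem_map.mp hl
      rw [List.mem_range] at hi
      have hsh := actL_eq_shK_of_base hT hN0 p.1 p.2 (hL p hp)
      have hu := hOK (2 * i + 1) (by omega) v hv
      rw [hod] at hu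
      have hw : actL T (StemP.winv p.1) (T (2 * i + 1) v) < N0 * a :=
        actL_ltI hOK _ (winv_lt hk _ (hlt p hp)) _ hu.1
      have hx := (hOK (2 * i) (by omega) _ hw).1
      rw [actL_append, actL_append, actL_append]
      change actL T p.1 (T (2 * i) (actL T (StemP.winv p.1) (T (2 * i + 1) v))) = v
      rw [hsh _ hx, ← hT, ← hsh _ hw, actL_actL_winv hOK hk _ (hlt p hp) _ hu.1]
      exact hu.2
  · obtain ⟨r, hr, rfl⟩ := List.mem_map.mp hl
    obtain ⟨p, hp, rfl, hd⟩ := hTT r hr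
    rw [actL_replicate_shK hN0 ha p.1 p.2 (actL_eq_shK_of_base hT hN0 p.1 p.2 (hL p hp)) e v hv]
    exact shK_of_dvd hd hv

end

/-! ### the checks on the base layer -/

/-- the power relators. -/
def powRels (d : ℕ) (m : ℕ → ℕ) : List (List ℕ) :=
  (List.range d).map fun i => List.replicate (m i) (2 * i)

theorem mem_powRels {d : ℕ} (m : ℕ → ℕ) {i : ℕ} (hi : i < d) :
    List.replicate (m i) (2 * i) ∈ powRels d m :=
  List.mem_map.mpr ⟨i, List.mem_range.mpr hi, rfl⟩

/-- the word acts as the shift by `j` on the points `lo, …, lo + cnt - 1`. -/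
def shRow (T : ℕ → ℕ → ℕ) (N0 a : ℕ) (l : List ℕ) (j : ℕ) : ℕ → ℕ → Bool
  | 0, _ => true
  | cnt + 1, v => frc v fun v' =>
    Nat.beq (actL T l v') (shK N0 a j v') && shRow T N0 a l j cnt (Nat.succ v')

theorem shRow_spec (T : ℕ → ℕ → ℕ) (N0 a : ℕ) (l : List ℕ) (j : ℕ) : ∀ (cnt lo : ℕ),
    shRow T N0 a l j cnt lo = true → ∀ v, lo ≤ v → v < lo + cnt → actL T l v = shK N0 a j v
  | 0, lo, _, v, h1, h2 => by omega
  | cnt + 1, lo, h, v, h1, h2 => by
    unfold shRow at h
    rw [frc_eq, Bool.and_eq_true] at h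
    rcases Nat.eq_or_lt_of_le h1 with rfl | h1
    · exact Nat.eq_of_beq_eq_true h.1
    · exact shRow_spec T N0 a l j cnt (lo + 1) h.2 v h1 (by omega)

/-- all the words act as the given shifts on the points `lo, …, lo + cnt - 1`. -/
def shAll (T : ℕ → ℕ → ℕ) (N0 a : ℕ) : List (List ℕ × ℕ) → ℕ → ℕ → Bool
  | [], _, _ => true
  | p :: ps, cnt, lo => shRow T N0 a p.1 p.2 cnt lo && shAll T N0 a ps cnt lo

theorem shAll_spec (T : ℕ → ℕ → ℕ) (N0 a : ℕ) : ∀ (L : List (List ℕ × ℕ)) (cnt lo : ℕ),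
    shAll T N0 a L cnt lo = true →
    ∀ p ∈ L, ∀ v, lo ≤ v → v < lo + cnt → actL T p.1 v = shK N0 a p.2 v
  | [], _, _, _, p, hp => by simp at hp
  | q :: qs, cnt, lo, h, p, hp => by
    unfold shAll at h
    rw [Bool.and_eq_true] at h
    rcases List.mem_cons.mp hp with rfl | hp
    · exact shRow_spec T N0 a p.1 p.2 cnt lo h.1
    · exact shAll_spec T N0 a qs cnt lo h.2 p hp

theorem sh_step (T : ℕ → ℕ → ℕ) (N0 a : ℕ) (L : List (List ℕ × ℕ)) {lo : ℕ}
    (h : ∀ p ∈ L, ∀ v, v < lo → actL T p.1 v = shK N0 a p.2 v) (cnt : ℕ)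
    (hc : shAll T N0 a L cnt lo = true) :
    ∀ p ∈ L, ∀ v, v < lo + cnt → actL T p.1 v = shK N0 a p.2 v := by
  intro p hp v hv
  by_cases h1 : v < lo
  · exact h p hp v h1
  · exact shAll_spec T N0 a L cnt lo hc p hp v (by omega) hv

end Cfsg.Agent.Helper3.CovModel
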