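import Mathlib
import Cfsg.Agent.Helper5.LTCF
import Cfsg.Agent.Helper5.LPCox

/-!
# Coxeter relators in covering presentations of odd exponent

In a covering presentation whose generators are involutions, a central word of the form `(x y)^k`
is inverted by `x`; being central and of odd order it is trivial.
-/

set_option autoImplicit false

namespace Cfsg.Agent.Helper3.CoxCov

open Cfsg.Agent.Helper5.LTC Cfsg.Agent.Helper5.StemP Cfsg.Agent.Helper5.LP

/-- a central element inverted by conjugation, of odd order, is trivial. -/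
theorem eq_one_of_central_inv_odd {G : Type*} [Group G] {x w : G} {e : ℕ}
    (hc : w ∈ Subgroup.center G) (hinv : x * w * x⁻¹ = w⁻¹) (he : w ^ e = 1) (hodd : e % 2 = 1) :
    w = 1 := by
  have h1 : x * w * x⁻¹ = w := by
    rw [Subgroup.mem_center_iff.mp hc x, mul_inv_cancel_right]
  have h2 : w = w⁻¹ := h1.symm.trans hinv
  have h3 : w ^ 2 = 1 := by
    rw [pow_two]
    nth_rewrite 2 [h2]
    exact mul_inv_cancel w
  have h4 : orderOf w ∣ 2 := orderOf_dvd_of_pow_eq_one h3
  have h5 : orderOf w ∣ e := orderOf_dvd_of_pow_eq_one he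
  have h6 : orderOf w ∣ Nat.gcd 2 e := Nat.dvd_gcd h4 h5
  have h7 : Nat.gcd 2 e = 1 := by
    have h8 : Nat.Coprime 2 e := by
      rw [Nat.coprime_two_left]
      exact Nat.odd_iff.mpr hodd
    exact h8
  rw [h7, Nat.dvd_one, orderOf_eq_one_iff] at h6
  exact h6

/-- a power of a product of two involutions is inverted by the first of them. -/
theorem conj_mul_pow_of_invol {G : Type*} [Group G] {x y : G} (hx : x ^ 2 = 1) (hy : y ^ 2 = 1)
    (k : ℕ) : x * (x * y) ^ k * x⁻¹ = ((x * y) ^ k)⁻¹ := by
  have hx' : x⁻¹ = x := by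
    rw [inv_eq_iff_mul_eq_one, ← pow_two, hx]
  have hy' : y⁻¹ = y := by
    rw [inv_eq_iff_mul_eq_one, ← pow_two, hy]
  rw [← conj_pow, ← inv_pow]
  congr 1
  rw [mul_inv_rev, hx', hy']
  rw [← mul_assoc x x, ← pow_two, hx, one_mul]

section cov
variable (d : ℕ) (m : ℕ → ℕ) (CC : List (List ℕ)) (e : ℕ)

/-- **a Coxeter relator between involutions is trivial in a covering group of odd exponent.** -/
theorem zC_cox_eq_one (hlt : ∀ r ∈ CC, ∀ c ∈ r, c < 2 * d) (hodd : e % 2 = 1)
    (i j k idx : ℕ) (hi : i < d) (hj : j < d) (hmi : m i = 2) (hmj : m j = 2)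
    (hw : CC.getD idx [] = coxWord (2 * i) (2 * j) k) :
    zC d m CC CC e idx = 1 := by
  have hc := zC_center d m CC CC e hlt idx
  have hp := zC_pow d m CC CC e (fun r hr => hr) idx
  have hx : cgen d m CC CC e i ^ 2 = 1 := by
    have := cgen_pow d m CC CC e (i := i) hi
    rwa [hmi] at this
  have hy : cgen d m CC CC e j ^ 2 = 1 := by
    have := cgen_pow d m CC CC e (i := j) hj
    rwa [hmj] at this
  have hz : zC d m CC CC e idx = (cgen d m CC CC e i * cgen d m CC CC e j) ^ k := by
    unfold zC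
    rw [hw, ev_coxWord]
    rfl
  rw [hz] at hc hp ⊢
  exact eq_one_of_central_inv_odd hc (conj_mul_pow_of_invol hx hy k) hp hodd

end cov

end Cfsg.Agent.Helper3.CoxCov
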