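import Mathlib
import Cfsg.Agent.Helper5.Zsig3

/-! Helper library (helper3): lower bounds for cyclotomic values `Φ_n(q)` and the structure of their
prime factors, for Feit's theorem on large Zsigmondy primes and Hering's bound on the primitive part. -/

set_option autoImplicit false
set_option linter.style.haveILetI false

namespace Cfsg.Agent.Helper3.CycBound

open Polynomial Cfsg.Agent.Helper5.Zsig

/-- A non-primitive prime factor `r` of `Φ_n(a)` divides it only to the first power. -/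
theorem not_sq_dvd_phi (n a r : ℕ) [hr : Fact r.Prime] (hn : 2 < n) (ha : 1 < a)
    (hrN : r ∣ phi n a) (hne : orderOf (a : ZMod r) ≠ n) : r ∣ n ∧ ¬ r ^ 2 ∣ phi n a := by
  have hrp : r.Prime := hr.out
  obtain ⟨hdpos, hd1, j, hj⟩ := prime_factor_structure n a r (by omega) ha hrN
  set d := orderOf (a : ZMod r) with hd
  have hjpos : 0 < j := by
    rcases Nat.eq_zero_or_pos j with h | h
    · exfalso
      rw [h, pow_zero, mul_one] at hj
      exact hne hj.symm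
    · exact h
  have hrn : r ∣ n := by
    rw [hj]
    exact Dvd.dvd.mul_left (dvd_pow_self r hjpos.ne') d
  refine ⟨hrn, ?_⟩
  intro hsq
  have hS := hsq.trans (phi_dvd_geom_sum n a r (by omega) ha hrp hrn)
  have hnr : n / r = d * r ^ (j - 1) := by
    have : n = d * r ^ (j - 1) * r := by
      rw [hj, mul_assoc, ← pow_succ]
      congr 2
      omega
    rw [this, Nat.mul_div_cancel _ hrp.pos]
  have hc : r ∣ a ^ (n / r) - 1 := by
    rw [dvd_pow_sub_one_iff r a _ (by omega), hnr]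
    exact Dvd.intro _ rfl
  by_cases h2 : r = 2
  · subst h2
    have hd_one : d = 1 := Nat.dvd_one.mp (by simpa using hd1)
    rw [hd_one, one_mul] at hj hnr
    have hj2 : 2 ≤ j := by
      by_contra hlt
      have : j = 1 := by omega
      rw [this] at hj
      omega
    have ha_odd : a % 2 = 1 := by
      have h3 : 2 ∣ a ^ n - 1 := hrN.trans (phi_dvd n a ha)
      by_contra heven
      have h4 : a % 2 = 0 := by omega
      have h5 : 2 ∣ a ^ n := Dvd.dvd.pow (Nat.dvd_of_mod_eq_zero h4) (by omega)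
      have h6 : 1 ≤ a ^ n := Nat.one_le_pow _ _ (by omega)
      omega
    have hnr2 : n / 2 = 2 * 2 ^ (j - 2) := by
      rw [hnr, ← pow_succ']
      congr 1
      omega
    rw [hnr2, pow_mul] at hS
    simp only [Finset.sum_range_succ, Finset.sum_range_zero, pow_zero, pow_one, zero_add] at hS
    have hb : (a ^ 2) % 4 = 1 := by
      have : a % 4 = 1 ∨ a % 4 = 3 := by omega
      rcases this with h | h <;> simp [Nat.pow_mod, h]
    have hb2 : ((a ^ 2) ^ 2 ^ (j - 2)) % 4 = 1 := by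
      rw [Nat.pow_mod, hb]; simp
    omega
  · exact not_sq_dvd_geom_sum r hrp h2 (a ^ (n / r)) hc (Nat.one_le_pow _ _ (by omega)) hS

theorem phi_two (a : ℕ) : phi 2 a = a + 1 := by
  unfold phi
  rw [cyclotomic_two]
  simp only [eval_add, eval_X, eval_one]
  exact_mod_cast Int.natAbs_natCast (a + 1)

/-- lower bound, case `r ∣ m` -/
theorem phi_lower_dvd (m a r : ℕ) (ha : 1 < a) (hr : r.Prime) (hrm : r ∣ m) :
    (a ^ r - 1) ^ m.totient ≤ phi (m * r) a := by
  rw [phi_expand_dvd m a r ha hr hrm]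
  exact phi_lower m (a ^ r) (Nat.one_lt_pow hr.ne_zero ha)

/-- lower bound, case `r ∤ m` -/
theorem phi_lower_not_dvd (m a r : ℕ) (ha : 1 < a) (hr : r.Prime) (hr3 : 3 ≤ r) (hrm : ¬ r ∣ m) :
    a ^ ((r - 2) * m.totient) ≤ phi (m * r) a := by
  have h1 := phi_expand_not_dvd m a r ha hr hrm
  have h2 : (a ^ r - 1) ^ m.totient ≤ phi m (a ^ r) :=
    phi_lower m (a ^ r) (Nat.one_lt_pow hr.ne_zero ha)
  have h3 : phi m a ≤ (a + 1) ^ m.totient := phi_upper m a ha
  -- a^(r-2) * (a+1) ≤ a^r - 1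
  have h4 : a ^ (r - 2) * (a + 1) ≤ a ^ r - 1 := by
    obtain ⟨s, rfl⟩ : ∃ s, r = s + 2 := ⟨r - 2, by omega⟩
    have hs : 1 ≤ s := by omega
    have h5 : a ^ (s + 2) = a ^ s * a ^ 2 := pow_add a s 2
    have h6 : 1 ≤ a ^ s := Nat.one_le_pow _ _ (by omega)
    have h7 : a + 2 ≤ a ^ 2 := by nlinarith
    have h8 : a ^ s * (a + 1) + 1 ≤ a ^ s * a ^ 2 := by
      calc a ^ s * (a + 1) + 1 ≤ a ^ s * (a + 1) + a ^ s := by omega
        _ = a ^ s * (a + 2) := by ring
        _ ≤ a ^ s * a ^ 2 := Nat.mul_le_mul_left _ h7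
    simp only [Nat.add_sub_cancel]
    omega
  have h9 : (a ^ (r - 2) * (a + 1)) ^ m.totient ≤ phi (m * r) a * (a + 1) ^ m.totient := by
    calc (a ^ (r - 2) * (a + 1)) ^ m.totient ≤ (a ^ r - 1) ^ m.totient :=
          Nat.pow_le_pow_left h4 _
      _ ≤ phi m (a ^ r) := h2
      _ = phi (m * r) a * phi m a := h1
      _ ≤ phi (m * r) a * (a + 1) ^ m.totient := Nat.mul_le_mul_left _ h3
  rw [mul_pow, ← pow_mul] at h9
  exact Nat.le_of_mul_le_mul_right h9 (by positivity)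

/-- auxiliary weight for the multiplicative induction -/
def wA (n : ℕ) : ℕ := (if 2 ∣ n then 4 else 1) * (if 3 ∣ n then 9 else 8)

theorem wA_le (n : ℕ) : wA n ≤ 36 := by
  unfold wA
  split_ifs <;> norm_num

theorem wA_mul (a b : ℕ) (h : Nat.Coprime a b) : wA a * wA b = 8 * wA (a * b) := by
  have h2 : ¬ (2 ∣ a ∧ 2 ∣ b) := fun ⟨ha, hb⟩ => by
    have := Nat.dvd_gcd ha hb
    rw [h] at this
    omega
  have h3 : ¬ (3 ∣ a ∧ 3 ∣ b) := fun ⟨ha, hb⟩ => by
    have := Nat.dvd_gcd ha hb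
    rw [h] at this
    omega
  have e2 : (2 ∣ a * b) ↔ (2 ∣ a ∨ 2 ∣ b) := Nat.Prime.dvd_mul Nat.prime_two
  have e3 : (3 ∣ a * b) ↔ (3 ∣ a ∨ 3 ∣ b) := Nat.Prime.dvd_mul Nat.prime_three
  have a2 : (if 2 ∣ a * b then 4 else 1) = (if 2 ∣ a then 4 else 1) * (if 2 ∣ b then 4 else 1) := by
    by_cases ha : 2 ∣ a
    · have hb : ¬ 2 ∣ b := fun hb => h2 ⟨ha, hb⟩
      simp [e2, ha, hb]
    · by_cases hb : 2 ∣ b
      · simp [e2, ha, hb]
      · simp [e2, ha, hb]
  have a3 : 8 * (if 3 ∣ a * b then 9 else 8) = (if 3 ∣ a then 9 else 8) * (if 3 ∣ b then 9 else 8) := by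
    by_cases ha : 3 ∣ a
    · have hb : ¬ 3 ∣ b := fun hb => h3 ⟨ha, hb⟩
      simp [e3, ha, hb]
    · by_cases hb : 3 ∣ b
      · simp [e3, ha, hb]
      · simp [e3, ha, hb]
  unfold wA
  rw [a2]
  calc (if 2 ∣ a then 4 else 1) * (if 3 ∣ a then 9 else 8) *
        ((if 2 ∣ b then 4 else 1) * (if 3 ∣ b then 9 else 8))
      = (if 2 ∣ a then 4 else 1) * (if 2 ∣ b then 4 else 1) *
        ((if 3 ∣ a then 9 else 8) * (if 3 ∣ b then 9 else 8)) := by ring
    _ = (if 2 ∣ a then 4 else 1) * (if 2 ∣ b then 4 else 1) *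
        (8 * (if 3 ∣ a * b then 9 else 8)) := by rw [a3]
    _ = 8 * ((if 2 ∣ a then 4 else 1) * (if 2 ∣ b then 4 else 1) *
        (if 3 ∣ a * b then 9 else 8)) := by ring

theorem totient_cube_aux : ∀ n : ℕ, 8 * n ^ 2 ≤ wA n * n.totient ^ 3 := by
  intro n
  induction n using Nat.recOnPosPrimePosCoprime with
  | zero => simp
  | one => simp [wA]
  | prime_pow p k hp hk =>
    obtain ⟨j, rfl⟩ : ∃ j, k = j + 1 := ⟨k - 1, by omega⟩
    rw [Nat.totient_prime_pow_succ hp]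
    by_cases h2 : p = 2
    · subst h2
      have hw : wA (2 ^ (j + 1)) = 32 := by
        unfold wA
        have h1 : (2 : ℕ) ∣ 2 ^ (j + 1) := dvd_pow_self 2 (by omega)
        have h3 : ¬ (3 : ℕ) ∣ 2 ^ (j + 1) := by
          intro h
          have := Nat.Prime.dvd_of_dvd_pow Nat.prime_three h
          omega
        simp [h1, h3]
      rw [hw]
      have e1 : (2 ^ (j + 1)) ^ 2 = 4 * (2 ^ j) ^ 2 := by ring
      have e2 : (2 ^ j * (2 - 1)) ^ 3 = (2 ^ j) ^ 2 * 2 ^ j := by ring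
      rw [e1, e2]
      have : 1 ≤ 2 ^ j := Nat.one_le_pow _ _ (by norm_num)
      nlinarith [Nat.zero_le ((2 ^ j) ^ 2)]
    by_cases h3 : p = 3
    · subst h3
      have hw : wA (3 ^ (j + 1)) = 9 := by
        unfold wA
        have h1 : (3 : ℕ) ∣ 3 ^ (j + 1) := dvd_pow_self 3 (by omega)
        have h3 : ¬ (2 : ℕ) ∣ 3 ^ (j + 1) := by
          intro h
          have := Nat.Prime.dvd_of_dvd_pow Nat.prime_two h
          omega
        simp [h1, h3]
      rw [hw]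
      have e1 : (3 ^ (j + 1)) ^ 2 = 9 * (3 ^ j) ^ 2 := by ring
      have e2 : (3 ^ j * (3 - 1)) ^ 3 = 8 * ((3 ^ j) ^ 2 * 3 ^ j) := by ring
      rw [e1, e2]
      have : 1 ≤ 3 ^ j := Nat.one_le_pow _ _ (by norm_num)
      nlinarith [Nat.zero_le ((3 ^ j) ^ 2)]
    · have hp5 : 5 ≤ p := by
        have := hp.two_le
        by_contra hlt
        have : p = 4 := by omega
        subst this
        norm_num at hp
      have hw : wA (p ^ (j + 1)) = 8 := by
        unfold wA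
        have h1 : ¬ (2 : ℕ) ∣ p ^ (j + 1) := by
          intro h
          have := (Nat.prime_dvd_prime_iff_eq Nat.prime_two hp).1
            (Nat.Prime.dvd_of_dvd_pow Nat.prime_two h)
          exact h2 this.symm
        have h3' : ¬ (3 : ℕ) ∣ p ^ (j + 1) := by
          intro h
          have := (Nat.prime_dvd_prime_iff_eq Nat.prime_three hp).1
            (Nat.Prime.dvd_of_dvd_pow Nat.prime_three h)
          exact h3 this.symm
        simp [h1, h3']
      rw [hw]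
      apply Nat.mul_le_mul_left
      obtain ⟨s, rfl⟩ : ∃ s, p = s + 5 := ⟨p - 5, by omega⟩
      have e0 : s + 5 - 1 = s + 4 := by omega
      rw [e0]
      have hkey : (s + 5) ^ 2 ≤ (s + 4) ^ 3 := by nlinarith [Nat.zero_le s, Nat.zero_le (s ^ 2)]
      calc ((s + 5) ^ (j + 1)) ^ 2 = ((s + 5) ^ j) ^ 2 * (s + 5) ^ 2 := by ring
        _ ≤ ((s + 5) ^ j) ^ 3 * (s + 4) ^ 3 := by
            apply Nat.mul_le_mul _ hkey
            exact Nat.pow_le_pow_right (Nat.one_le_pow _ _ (by omega)) (by norm_num)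
        _ = ((s + 5) ^ j * (s + 4)) ^ 3 := by ring
  | coprime a b ha hb hab iha ihb =>
    rw [Nat.totient_mul hab]
    have h1 := Nat.mul_le_mul iha ihb
    have h2 := wA_mul a b hab
    have h3 : 8 * (8 * (a * b) ^ 2) ≤ 8 * (wA (a * b) * (a.totient * b.totient) ^ 3) := by
      calc 8 * (8 * (a * b) ^ 2) = 8 * a ^ 2 * (8 * b ^ 2) := by ring
        _ ≤ wA a * a.totient ^ 3 * (wA b * b.totient ^ 3) := h1
        _ = (wA a * wA b) * (a.totient * b.totient) ^ 3 := by ring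
        _ = 8 * (wA (a * b) * (a.totient * b.totient) ^ 3) := by rw [h2]; ring
    exact Nat.le_of_mul_le_mul_left h3 (by norm_num)

theorem totient_cube (n : ℕ) : 2 * n ^ 2 ≤ 9 * n.totient ^ 3 := by
  have h1 := totient_cube_aux n
  have h2 := wA_le n
  have h3 : wA n * n.totient ^ 3 ≤ 36 * n.totient ^ 3 := Nat.mul_le_mul_right _ h2
  omega

/-- `2^φ(n) ≤ Φ_n(q)²`. -/
theorem two_pow_totient_le_phi_sq (n q : ℕ) (hn : 3 ≤ n) (hq : 2 ≤ q) :
    2 ^ n.totient ≤ (phi n q) ^ 2 := by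
  have hpos : 0 < phi n q := phi_pos n q (by omega)
  rcases Nat.lt_or_ge 2 q with hq3 | hq2
  · -- q ≥ 3
    have h1 := phi_lower n q (by omega)
    have h2 : 2 ^ n.totient ≤ (q - 1) ^ n.totient := Nat.pow_le_pow_left (by omega) _
    calc 2 ^ n.totient ≤ phi n q := h2.trans h1
      _ ≤ (phi n q) ^ 2 := by nlinarith
  · have hq' : q = 2 := by omega
    subst hq'
    -- choose the prime r
    obtain ⟨r, hr, hrn, hr'⟩ : ∃ r, r.Prime ∧ r ∣ n ∧ (3 ≤ r ∨ r ∣ n / r) := by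
      rcases Nat.eq_two_pow_or_exists_odd_prime_and_dvd n with ⟨k, hk⟩ | ⟨p, hp, hpn, hodd⟩
      · have hk2 : 2 ≤ k := by
          by_contra hlt
          have : k = 0 ∨ k = 1 := by omega
          rcases this with rfl | rfl <;> omega
        obtain ⟨j, rfl⟩ : ∃ j, k = j + 2 := ⟨k - 2, by omega⟩
        refine ⟨2, Nat.prime_two, ?_, Or.inr ?_⟩
        · rw [hk]
          exact dvd_pow_self 2 (by omega)
        · rw [hk, pow_succ, Nat.mul_div_cancel _ (by norm_num : 0 < 2)]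
          exact dvd_pow_self 2 (by omega)
      · refine ⟨p, hp, hpn, Or.inl ?_⟩
        have := hp.two_le
        rcases hodd with ⟨c, hc⟩
        omega
    obtain ⟨m, hm⟩ := hrn
    have hmr : n = m * r := by rw [hm, mul_comm]
    have hnr : n / r = m := by rw [hmr, Nat.mul_div_cancel _ hr.pos]
    rw [hnr] at hr'
    have hr2 := hr.two_le
    by_cases hrm : r ∣ m
    · -- r ∣ m
      have h1 := phi_lower_dvd m 2 r (by norm_num) hr hrm
      have htot : n.totient = r * m.totient := by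
        rw [hmr, mul_comm m r]
        exact Nat.totient_mul_of_prime_of_dvd hr hrm
      have hx : 4 ≤ 2 ^ r := by
        calc 4 = 2 ^ 2 := by norm_num
          _ ≤ 2 ^ r := Nat.pow_le_pow_right (by norm_num) hr2
      have h2 : 2 ^ r ≤ (2 ^ r - 1) ^ 2 := by
        obtain ⟨y, hy⟩ : ∃ y, 2 ^ r = y + 4 := ⟨2 ^ r - 4, by omega⟩
        rw [hy]
        have : y + 4 - 1 = y + 3 := by omega
        rw [this]
        nlinarith
      rw [htot, pow_mul, ← hmr] at *
      calc (2 ^ r) ^ m.totient ≤ ((2 ^ r - 1) ^ 2) ^ m.totient := Nat.pow_le_pow_left h2 _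
        _ = ((2 ^ r - 1) ^ m.totient) ^ 2 := by rw [← pow_mul, ← pow_mul, mul_comm]
        _ ≤ (phi n 2) ^ 2 := Nat.pow_le_pow_left h1 _
    · -- r ∤ m, so r ≥ 3
      have hr3 : 3 ≤ r := by
        rcases hr' with h | h
        · exact h
        · exact absurd h hrm
      have h1 := phi_lower_not_dvd m 2 r (by norm_num) hr hr3 hrm
      have hcop : Nat.Coprime m r := (Nat.Coprime.symm ((Nat.Prime.coprime_iff_not_dvd hr).2 hrm))
      have htot : n.totient = m.totient * (r - 1) := by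
        rw [hmr, Nat.totient_mul hcop, Nat.totient_prime hr]
      rw [← hmr] at h1
      calc 2 ^ n.totient = 2 ^ (m.totient * (r - 1)) := by rw [htot]
        _ ≤ 2 ^ ((r - 2) * m.totient * 2) := by
            apply Nat.pow_le_pow_right (by norm_num)
            have : r - 1 ≤ (r - 2) * 2 := by omega
            calc m.totient * (r - 1) ≤ m.totient * ((r - 2) * 2) := Nat.mul_le_mul_left _ this
              _ = (r - 2) * m.totient * 2 := by ring
        _ = (2 ^ ((r - 2) * m.totient)) ^ 2 := by rw [pow_mul]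
        _ ≤ (phi n 2) ^ 2 := Nat.pow_le_pow_left h1 _

def S2 : List ℕ := [3, 4, 5, 6, 7, 8, 9, 10, 11, 12, 13, 14, 15, 16, 17, 18, 19, 20, 21, 22, 24, 25, 26, 27, 28, 30, 32, 33, 34, 36, 38, 39, 40, 42, 44, 45, 46, 48, 50, 52, 54, 56, 60, 66, 70, 72, 78, 84, 90]

def L3 : List (ℕ × ℕ) := [(3, 3), (4, 3), (5, 3), (6, 3), (3, 4), (4, 4), (5, 4), (6, 4), (7, 4), (3, 5), (3, 6), (4, 6), (5, 6), (6, 6), (7, 6), (8, 6), (9, 6), (10, 6), (11, 6), (3, 7), (3, 8), (4, 8), (3, 9), (3, 10), (4, 10), (5, 10), (3, 12), (4, 12), (5, 12), (3, 14), (3, 15), (3, 16), (3, 18), (4, 18), (3, 20), (3, 22), (3, 24), (3, 30), (3, 42)]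

theorem S2_spec : ∀ n < 517, 3 ≤ n → 2 ^ n.totient ≤ 9 * n ^ 4 → n ∈ S2 := by decide +kernel

theorem L3_spec : ∀ n ∈ S2, ∀ q < 157, 3 ≤ q → (q - 1) ^ n.totient ≤ 3 * n ^ 2 → (q, n) ∈ L3 := by
  decide +kernel

theorem S2_le : ∀ n ∈ S2, n ≤ 90 := by decide

theorem pow_bound : ∀ t : ℕ, 40 ≤ t → 729 * t ^ 6 < 4 * 2 ^ t := by
  intro t ht
  induction t, ht using Nat.le_induction with
  | base => norm_num
  | succ t ht ih =>
    have h1 : 40 * (t + 1) ≤ 41 * t := by omega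
    have h2 : (40 * (t + 1)) ^ 6 ≤ (41 * t) ^ 6 := Nat.pow_le_pow_left h1 6
    rw [mul_pow, mul_pow] at h2
    have h3 : (41 : ℕ) ^ 6 ≤ 2 * 40 ^ 6 := by norm_num
    have h4 : 40 ^ 6 * (t + 1) ^ 6 ≤ 40 ^ 6 * (2 * t ^ 6) := by
      calc 40 ^ 6 * (t + 1) ^ 6 ≤ 41 ^ 6 * t ^ 6 := h2
        _ ≤ 2 * 40 ^ 6 * t ^ 6 := Nat.mul_le_mul_right _ h3
        _ = 40 ^ 6 * (2 * t ^ 6) := by ring
    have h5 : (t + 1) ^ 6 ≤ 2 * t ^ 6 := Nat.le_of_mul_le_mul_left h4 (by norm_num)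
    calc 729 * (t + 1) ^ 6 ≤ 729 * (2 * t ^ 6) := Nat.mul_le_mul_left _ h5
      _ = 2 * (729 * t ^ 6) := by ring
      _ < 2 * (4 * 2 ^ t) := by omega
      _ = 4 * 2 ^ (t + 1) := by rw [pow_succ]; ring

theorem candidates (n q : ℕ) (hn : 3 ≤ n) (hq : 2 ≤ q) (h : phi n q ≤ 3 * n ^ 2) :
    n ∈ S2 ∧ (q = 2 ∨ (q, n) ∈ L3) := by
  set t := n.totient with ht
  have h1 : 2 ^ t ≤ 9 * n ^ 4 := by
    calc 2 ^ t ≤ (phi n q) ^ 2 := two_pow_totient_le_phi_sq n q hn hq
      _ ≤ (3 * n ^ 2) ^ 2 := Nat.pow_le_pow_left h 2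
      _ = 9 * n ^ 4 := by ring
  have h2 := totient_cube n
  rw [← ht] at h2
  have h3 : 4 * n ^ 4 ≤ 81 * t ^ 6 := by
    calc 4 * n ^ 4 = (2 * n ^ 2) ^ 2 := by ring
      _ ≤ (9 * t ^ 3) ^ 2 := Nat.pow_le_pow_left h2 2
      _ = 81 * t ^ 6 := by ring
  have h4 : 4 * 2 ^ t ≤ 729 * t ^ 6 := by
    calc 4 * 2 ^ t ≤ 4 * (9 * n ^ 4) := Nat.mul_le_mul_left _ h1
      _ = 9 * (4 * n ^ 4) := by ring
      _ ≤ 9 * (81 * t ^ 6) := Nat.mul_le_mul_left _ h3
      _ = 729 * t ^ 6 := by ring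
  have ht39 : t ≤ 39 := by
    by_contra hcon
    have := pow_bound t (by omega)
    omega
  have hn517 : n < 517 := by
    by_contra hcon
    have h5 : 517 ^ 2 ≤ n ^ 2 := Nat.pow_le_pow_left (by omega) 2
    have h6 : t ^ 3 ≤ 39 ^ 3 := Nat.pow_le_pow_left ht39 3
    norm_num at h5 h6
    omega
  have hnS : n ∈ S2 := S2_spec n hn517 hn h1
  refine ⟨hnS, ?_⟩
  rcases Nat.lt_or_ge 2 q with hq3 | hq2
  · right
    have h5 : (q - 1) ^ t ≤ 3 * n ^ 2 := (phi_lower n q (by omega)).trans h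
    have hn90 := S2_le n hnS
    have ht2 : 2 ≤ t := by
      have h6 : 0 < t := Nat.totient_pos.2 (by omega)
      have h7 : Even t := Nat.totient_even (by omega)
      rcases h7 with ⟨c, hc⟩
      omega
    have h6 : (q - 1) ^ 2 ≤ (q - 1) ^ t := Nat.pow_le_pow_right (by omega) ht2
    have h7 : n ^ 2 ≤ 90 ^ 2 := Nat.pow_le_pow_left hn90 2
    have hq157 : q < 157 := by
      by_contra hcon
      have h8 : 156 ^ 2 ≤ (q - 1) ^ 2 := Nat.pow_le_pow_left (by omega) 2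
      norm_num at h7 h8
      omega
    exact L3_spec n hnS q hq157 hq3 h5
  · left; omega

/-- prime factors of `Φ_n(a)`: primitive ones are `≡ 1 mod n`, the others divide `n` simply. -/
theorem prime_factor_cases (n a p : ℕ) (hn : 3 ≤ n) (ha : 2 ≤ a) (hp : p.Prime)
    (hpN : p ∣ phi n a) :
    (p ∣ a ^ n - 1 ∧ (∀ k : ℕ, 0 < k → k < n → ¬ p ∣ a ^ k - 1) ∧ n + 1 ≤ p) ∨
      (p ∣ n ∧ ¬ p ^ 2 ∣ phi n a) := by
  haveI : Fact p.Prime := ⟨hp⟩
  by_cases hd : orderOf (a : ZMod p) = n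
  · left
    obtain ⟨h1, h2⟩ := primitive_of_order_eq n a p (by omega) hpN hd
    refine ⟨h1, h2, ?_⟩
    obtain ⟨-, hd1, -⟩ := prime_factor_structure n a p (by omega) (by omega) hpN
    rw [hd] at hd1
    have := Nat.le_of_dvd (by have := hp.two_le; omega) hd1
    have := hp.two_le
    omega
  · right
    exact not_sq_dvd_phi n a p (by omega) (by omega) hpN hd

theorem feit_struct (n a : ℕ) (hn : 3 ≤ n) (ha : 2 ≤ a)
    (H : ∀ p : ℕ, p.Prime → p ∣ a ^ n - 1 → (∀ i : ℕ, 1 ≤ i → i < n → ¬ p ∣ a ^ i - 1) →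
      ¬ (n + 1 < p ∨ p ^ 2 ∣ a ^ n - 1)) :
    phi n a ∣ n * (n + 1) := by
  have hNdvd : phi n a ∣ a ^ n - 1 := phi_dvd n a (by omega)
  have key : ∀ p : ℕ, p.Prime → p ∣ phi n a → p ∣ n * (n + 1) ∧ ¬ p ^ 2 ∣ phi n a := by
    intro p hp hpN
    rcases prime_factor_cases n a p hn ha hp hpN with ⟨h1, h2, h3⟩ | ⟨h1, h2⟩
    · have h4 := H p hp h1 (fun i hi1 hin => h2 i (by omega) hin)
      push Not at h4
      have hpe : p = n + 1 := by omega
      refine ⟨?_, fun hsq => h4.2 (hsq.trans hNdvd)⟩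
      rw [hpe]
      exact dvd_mul_left _ _
    · exact ⟨h1.mul_right _, h2⟩
  have hpos : 0 < phi n a := phi_pos n a (by omega)
  have hsq : Squarefree (phi n a) := by
    rw [Nat.squarefree_iff_prime_squarefree]
    intro p hp h
    exact (key p hp (dvd_of_mul_left_dvd h)).2 (by rw [sq]; exact h)
  rw [← Nat.prod_primeFactors_of_squarefree hsq]
  apply Finset.prod_primes_dvd
  · intro p hp
    exact (Nat.prime_of_mem_primeFactors hp).prime
  · intro p hp
    exact (key p (Nat.prime_of_mem_primeFactors hp) (Nat.dvd_of_mem_primeFactors hp)).1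

theorem hering_struct (n a : ℕ) (hn : 3 ≤ n) (ha : 2 ≤ a) (h : 3 * n ^ 2 < phi n a) :
    ∃ m : ℕ, m ∣ a ^ n - 1 ∧ (∀ i : ℕ, 1 ≤ i → i < n → Nat.Coprime m (a ^ i - 1)) ∧
      3 * n + 1 ≤ m := by
  have hNdvd : phi n a ∣ a ^ n - 1 := phi_dvd n a (by omega)
  set N := phi n a with hN
  set g := Nat.gcd N n with hg
  have hgN : g ∣ N := Nat.gcd_dvd_left _ _
  have hgn : g ∣ n := Nat.gcd_dvd_right _ _
  have hgpos : 0 < g := Nat.gcd_pos_of_pos_right _ (by omega)
  have hgle : g ≤ n := Nat.le_of_dvd (by omega) hgn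
  obtain ⟨m, hm⟩ := hgN
  refine ⟨m, (Dvd.intro_left g hm.symm).trans hNdvd, ?_, ?_⟩
  · intro i hi1 hin
    apply Nat.coprime_of_dvd
    intro p hp hpm hpi
    have hpN : p ∣ N := hpm.trans (Dvd.intro_left g hm.symm)
    rcases prime_factor_cases n a p hn ha hp hpN with ⟨-, h2, -⟩ | ⟨h1, h2⟩
    · exact h2 i (by omega) hin hpi
    · apply h2
      have hpg : p ∣ g := Nat.dvd_gcd hpN h1
      rw [← hN, hm, sq]
      exact Nat.mul_dvd_mul hpg hpm
  · by_contra hcon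
    have hm3 : m ≤ 3 * n := by omega
    have : N ≤ n * (3 * n) := by
      rw [hm]
      exact Nat.mul_le_mul hgle hm3
    nlinarith


end Cfsg.Agent.Helper3.CycBound
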