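import Mathlib

set_option autoImplicit false

namespace Cfsg.Agent.Helper3

variable {G : Type*} [Group G]

/-- For `A` an abelian normal subgroup and `x : G`, the commutator map `a ↦ x a x⁻¹ a⁻¹`
as an endomorphism of `A`. -/
def commMap (A : Subgroup G) [A.Normal] (hA : IsMulCommutative A) (x : G) : A →* A where
  toFun a := ⟨x * a * x⁻¹ * (a : G)⁻¹, A.mul_mem (‹A.Normal›.conj_mem a a.2 x) (A.inv_mem a.2)⟩
  map_one' := by
    apply Subtype.ext
    simp
  map_mul' a b := by
    apply Subtype.ext
    have hb : x * (b : G) * x⁻¹ ∈ A := ‹A.Normal›.conj_mem b b.2 x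
    have hcomm : (a : G)⁻¹ * (x * b * x⁻¹) = (x * b * x⁻¹) * (a : G)⁻¹ :=
      setLike_mul_comm (A.inv_mem a.2) hb
    show x * ((a : G) * b) * x⁻¹ * ((a : G) * b)⁻¹ =
      x * a * x⁻¹ * (a : G)⁻¹ * (x * b * x⁻¹ * (b : G)⁻¹)
    have hab : ((a : G) * b)⁻¹ = (a : G)⁻¹ * (b : G)⁻¹ := by
      rw [mul_inv_rev]
      exact setLike_mul_comm (A.inv_mem b.2) (A.inv_mem a.2)
    calc x * ((a : G) * b) * x⁻¹ * ((a : G) * b)⁻¹
        = x * a * x⁻¹ * ((x * b * x⁻¹) * (a : G)⁻¹) * (b : G)⁻¹ := by rw [hab]; group
      _ = x * a * x⁻¹ * ((a : G)⁻¹ * (x * b * x⁻¹)) * (b : G)⁻¹ := by rw [hcomm]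
      _ = x * a * x⁻¹ * (a : G)⁻¹ * (x * b * x⁻¹ * (b : G)⁻¹) := by group

theorem commMap_apply (A : Subgroup G) [A.Normal] (hA : IsMulCommutative A) (x : G) (a : A) :
    ((commMap A hA x a : A) : G) = x * a * x⁻¹ * (a : G)⁻¹ := rfl

/-- The image of the commutator map, as a subgroup of `G`. -/
def commImage (A : Subgroup G) [A.Normal] (hA : IsMulCommutative A) (x : G) : Subgroup G :=
  (commMap A hA x).range.map A.subtype

theorem mem_commImage (A : Subgroup G) [A.Normal] (hA : IsMulCommutative A) (x : G) (c : G) :
    c ∈ commImage A hA x ↔ ∃ a ∈ A, x * a * x⁻¹ * a⁻¹ = c := by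
  constructor
  · rintro ⟨_, ⟨a, rfl⟩, rfl⟩
    exact ⟨a, a.2, rfl⟩
  · rintro ⟨a, ha, rfl⟩
    exact ⟨commMap A hA x ⟨a, ha⟩, ⟨⟨a, ha⟩, rfl⟩, rfl⟩

theorem commImage_le (A : Subgroup G) [A.Normal] (hA : IsMulCommutative A) (x : G) :
    commImage A hA x ≤ A := by
  rintro _ ⟨b, _, rfl⟩
  exact b.2

/-- If `G = A⟨x⟩` with `A` abelian normal, the commutator subgroup of `G` is the image of the
commutator map `a ↦ x a x⁻¹ a⁻¹`. -/
theorem commutator_eq_commImage (A : Subgroup G) [A.Normal] (hA : IsMulCommutative A) (x : G)
    (hgen : A ⊔ Subgroup.zpowers x = ⊤) : commutator G = commImage A hA x := by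
  set T := commImage A hA x with hT
  have hTA : T ≤ A := commImage_le A hA x
  have hmemT : ∀ a ∈ A, x * a * x⁻¹ * a⁻¹ ∈ T := fun a ha =>
    (mem_commImage A hA x _).mpr ⟨a, ha, rfl⟩
  apply le_antisymm
  · -- T is normal
    have hxT : ∀ t ∈ T, x * t * x⁻¹ ∈ T := by
      intro t ht
      obtain ⟨a, ha, rfl⟩ := (mem_commImage A hA x t).mp ht
      have : x * (x * a * x⁻¹ * a⁻¹) * x⁻¹ = x * (x * a * x⁻¹) * x⁻¹ * (x * a * x⁻¹)⁻¹ := by group
      rw [this]
      exact hmemT _ (‹A.Normal›.conj_mem a ha x)
    have hxT' : ∀ t ∈ T, x⁻¹ * t * x ∈ T := by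
      intro t ht
      obtain ⟨a, ha, rfl⟩ := (mem_commImage A hA x t).mp ht
      have h1 : x⁻¹ * a * x ∈ A := by
        have := ‹A.Normal›.conj_mem a ha x⁻¹
        simpa using this
      have : x⁻¹ * (x * a * x⁻¹ * a⁻¹) * x = x * (x⁻¹ * a * x) * x⁻¹ * (x⁻¹ * a * x)⁻¹ := by group
      rw [this]
      exact hmemT _ h1
    have hTnormal : T.Normal := by
      rw [← Subgroup.normalizer_eq_top_iff, eq_top_iff, ← hgen, sup_le_iff]
      constructor
      · intro a ha
        rw [Subgroup.mem_normalizer_iff]
        intro t
        constructor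
        · intro ht
          have : a * t * a⁻¹ = t := by
            have := setLike_mul_comm (s := A) ha (hTA ht)
            rw [this]; group
          rw [this]; exact ht
        · intro ht
          have h1 : a * t * a⁻¹ ∈ A := hTA ht
          have h2 : t ∈ A := by
            have := A.mul_mem (A.mul_mem (A.inv_mem ha) h1) ha
            simpa [mul_assoc] using this
          have : a * t * a⁻¹ = t := by
            have := setLike_mul_comm (s := A) ha h2
            rw [this]; group
          rw [← this]; exact ht
      · rw [Subgroup.zpowers_le, Subgroup.mem_normalizer_iff]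
        intro t
        constructor
        · exact hxT t
        · intro ht
          have := hxT' _ ht
          simpa [mul_assoc] using this
    -- the quotient is abelian
    have hcenter : ∀ g : G, (QuotientGroup.mk g : G ⧸ T) ∈ Subgroup.center (G ⧸ T) := by
      -- first: elements of A and x commute mod T
      have hax : ∀ a ∈ A, (QuotientGroup.mk a : G ⧸ T) * QuotientGroup.mk x =
          QuotientGroup.mk x * QuotientGroup.mk a := by
        intro a ha
        rw [← QuotientGroup.mk_mul, ← QuotientGroup.mk_mul, QuotientGroup.eq]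
        have : (a * x)⁻¹ * (x * a) = x⁻¹ * (x * a⁻¹ * x⁻¹ * a⁻¹⁻¹)⁻¹ * x := by
          group
        rw [this]
        apply hxT'
        apply T.inv_mem
        exact hmemT _ (A.inv_mem ha)
      have haa : ∀ a ∈ A, ∀ b ∈ A, (QuotientGroup.mk a : G ⧸ T) * QuotientGroup.mk b =
          QuotientGroup.mk b * QuotientGroup.mk a := by
        intro a ha b hb
        rw [← QuotientGroup.mk_mul, ← QuotientGroup.mk_mul, setLike_mul_comm (s := A) ha hb]
      -- centralizer of mk a is everything
      have hA_central : ∀ a ∈ A, (QuotientGroup.mk a : G ⧸ T) ∈ Subgroup.center (G ⧸ T) := by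
        intro a ha
        rw [Subgroup.mem_center_iff]
        intro q
        obtain ⟨g, rfl⟩ := QuotientGroup.mk_surjective q
        have hle : (⊤ : Subgroup G) ≤
            (Subgroup.centralizer ({(QuotientGroup.mk a : G ⧸ T)} : Set (G ⧸ T))).comap
              (QuotientGroup.mk' T) := by
          rw [← hgen, sup_le_iff]
          constructor
          · intro b hb
            rw [Subgroup.mem_comap, Subgroup.mem_centralizer_iff]
            intro y hy
            rw [Set.mem_singleton_iff] at hy
            subst hy
            exact haa a ha b hb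
          · rw [Subgroup.zpowers_le, Subgroup.mem_comap, Subgroup.mem_centralizer_iff]
            intro y hy
            rw [Set.mem_singleton_iff] at hy
            subst hy
            exact hax a ha
        have := hle (Subgroup.mem_top g)
        rw [Subgroup.mem_comap, Subgroup.mem_centralizer_iff] at this
        exact (this _ rfl).symm
      have hx_central : (QuotientGroup.mk x : G ⧸ T) ∈ Subgroup.center (G ⧸ T) := by
        rw [Subgroup.mem_center_iff]
        intro q
        obtain ⟨g, rfl⟩ := QuotientGroup.mk_surjective q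
        have hle : (⊤ : Subgroup G) ≤
            (Subgroup.centralizer ({(QuotientGroup.mk x : G ⧸ T)} : Set (G ⧸ T))).comap
              (QuotientGroup.mk' T) := by
          rw [← hgen, sup_le_iff]
          constructor
          · intro b hb
            rw [Subgroup.mem_comap, Subgroup.mem_centralizer_iff]
            intro y hy
            rw [Set.mem_singleton_iff] at hy
            subst hy
            exact (hax b hb).symm
          · rw [Subgroup.zpowers_le, Subgroup.mem_comap, Subgroup.mem_centralizer_iff]
            intro y hy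
            rw [Set.mem_singleton_iff] at hy
            subst hy
            rfl
        have := hle (Subgroup.mem_top g)
        rw [Subgroup.mem_comap, Subgroup.mem_centralizer_iff] at this
        exact (this _ rfl).symm
      intro g
      have hle : (⊤ : Subgroup G) ≤ (Subgroup.center (G ⧸ T)).comap (QuotientGroup.mk' T) := by
        rw [← hgen, sup_le_iff]
        constructor
        · intro b hb
          exact hA_central b hb
        · rw [Subgroup.zpowers_le]
          exact hx_central
      exact hle (Subgroup.mem_top g)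
    -- so the commutator subgroup lies in T
    rw [commutator_def, Subgroup.commutator_le]
    intro g _ h _
    rw [← QuotientGroup.eq_one_iff (N := T)]
    rw [commutatorElement_def]
    simp only [QuotientGroup.mk_mul, QuotientGroup.mk_inv]
    have := (Subgroup.mem_center_iff.mp (hcenter g)) (QuotientGroup.mk h)
    rw [← this]
    group
  · intro c hc
    obtain ⟨a, _, rfl⟩ := (mem_commImage A hA x c).mp hc
    rw [commutator_def]
    have := Subgroup.commutator_mem_commutator (Subgroup.mem_top x) (Subgroup.mem_top a)
    rwa [commutatorElement_def] at this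

end Cfsg.Agent.Helper3
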