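import Mathlib

/-!
Helper lemmas (helper3): twisted group algebras over `ZMod 3` of a finite abelian group with respect
to a bicharacter.  Used to construct the double covers of the alternating groups.
-/

set_option autoImplicit false

namespace Cfsg.Agent.Helper3.DCover

/-- A bimultiplicative function with values in `ZMod 3`. -/
structure Bichar (I : Type*) [AddCommGroup I] where
  c : I → I → ZMod 3
  add_left : ∀ S S' T, c (S + S') T = c S T * c S' T
  add_right : ∀ S T T', c S (T + T') = c S T * c S T'
  zero_left : ∀ T, c 0 T = 1
  zero_right : ∀ S, c S 0 = 1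

/-- The twisted group algebra. -/
def TwAlg {I : Type*} [AddCommGroup I] (_B : Bichar I) : Type _ := I → ZMod 3

namespace TwAlg

variable {I : Type*} [AddCommGroup I] {B : Bichar I}

instance : AddCommGroup (TwAlg B) := inferInstanceAs (AddCommGroup (I → ZMod 3))

@[ext] theorem ext {f g : TwAlg B} (h : ∀ S : I, f S = g S) : f = g := funext h

@[simp] theorem add_apply (f g : TwAlg B) (S : I) : (f + g) S = f S + g S := rfl
@[simp] theorem zero_apply (S : I) : (0 : TwAlg B) S = 0 := rfl
@[simp] theorem neg_apply (f : TwAlg B) (S : I) : (-f) S = -f S := rfl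
@[simp] theorem sub_apply (f g : TwAlg B) (S : I) : (f - g) S = f S - g S := rfl

variable [Fintype I] [DecidableEq I]

instance : Mul (TwAlg B) := ⟨fun f g U => ∑ S, f S * g (U - S) * B.c S (U - S)⟩

instance : One (TwAlg B) := ⟨fun U => if U = 0 then 1 else 0⟩

theorem mul_apply (f g : TwAlg B) (U : I) :
    (f * g) U = ∑ S, f S * g (U - S) * B.c S (U - S) := rfl

theorem one_apply (U : I) : (1 : TwAlg B) U = if U = 0 then 1 else 0 := rfl

theorem mul_assoc' (f g h : TwAlg B) : f * g * h = f * (g * h) := by
  ext W
  simp only [mul_apply, Finset.sum_mul, Finset.mul_sum]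
  rw [Finset.sum_comm]
  apply Finset.sum_congr rfl
  intro S _
  rw [← Equiv.sum_comp (Equiv.addRight S)]
  apply Finset.sum_congr rfl
  intro T _
  simp only [Equiv.coe_addRight, add_sub_cancel_right]
  have e1 : W - (T + S) = W - S - T := by abel
  have e2 : B.c S (W - S) = B.c S T * B.c S (W - S - T) := by
    rw [← B.add_right]
    congr 1
    abel
  rw [e1, e2, B.add_left]
  ring

theorem one_mul' (f : TwAlg B) : 1 * f = f := by
  ext U
  rw [mul_apply, Finset.sum_eq_single 0]
  · rw [one_apply, if_pos rfl, sub_zero, B.zero_left]
    ring
  · intro S _ hS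
    rw [one_apply, if_neg hS]
    ring
  · intro h
    exact absurd (Finset.mem_univ _) h

theorem mul_one' (f : TwAlg B) : f * 1 = f := by
  ext U
  rw [mul_apply, Finset.sum_eq_single U]
  · rw [sub_self, one_apply, if_pos rfl, B.zero_right]
    ring
  · intro S _ hS
    have : U - S ≠ 0 := fun h => hS (sub_eq_zero.mp h).symm
    rw [one_apply, if_neg this]
    ring
  · intro h
    exact absurd (Finset.mem_univ _) h

instance : Ring (TwAlg B) :=
  { (inferInstance : AddCommGroup (TwAlg B)) with
    mul := (· * ·)
    one := 1
    mul_assoc := mul_assoc'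
    one_mul := one_mul'
    mul_one := mul_one'
    left_distrib := by
      intro f g h
      ext U
      simp only [mul_apply, add_apply, mul_add, add_mul, Finset.sum_add_distrib]
    right_distrib := by
      intro f g h
      ext U
      simp only [mul_apply, add_apply, add_mul, Finset.sum_add_distrib]
    zero_mul := by
      intro f
      ext U
      simp only [mul_apply, zero_apply, zero_mul, Finset.sum_const_zero]
    mul_zero := by
      intro f
      ext U
      simp only [mul_apply, zero_apply, mul_zero, zero_mul, Finset.sum_const_zero] }

instance : Finite (TwAlg B) := inferInstanceAs (Finite (I → ZMod 3))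

/-- The basis element attached to `S`. -/
def single (S : I) : TwAlg B := fun U => if U = S then 1 else 0

theorem single_apply (S U : I) : (single S : TwAlg B) U = if U = S then 1 else 0 := rfl

theorem single_zero : (single 0 : TwAlg B) = 1 := rfl

theorem mul_single_apply (f : TwAlg B) (T U : I) :
    (f * single T : TwAlg B) U = f (U - T) * B.c (U - T) T := by
  rw [mul_apply, Finset.sum_eq_single (U - T)]
  · rw [sub_sub_cancel, single_apply, if_pos rfl, mul_one]
  · intro S _ hS
    have : U - S ≠ T := fun h => hS (by rw [← h]; abel)
    rw [single_apply, if_neg this]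
    ring
  · intro h
    exact absurd (Finset.mem_univ _) h

theorem single_mul_apply (f : TwAlg B) (S U : I) :
    (single S * f : TwAlg B) U = f (U - S) * B.c S (U - S) := by
  rw [mul_apply, Finset.sum_eq_single S]
  · rw [single_apply, if_pos rfl, one_mul]
  · intro S' _ hS
    rw [single_apply, if_neg hS]
    ring
  · intro h
    exact absurd (Finset.mem_univ _) h

theorem single_mul_single (S T : I) :
    (single S * single T : TwAlg B) = fun U => if U = S + T then B.c S T else 0 := by
  ext U
  rw [mul_single_apply, single_apply]
  by_cases h : U = S + T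
  · subst h
    rw [add_sub_cancel_right, if_pos rfl, if_pos rfl, one_mul]
  · have : U - T ≠ S := fun h' => h (by rw [← h']; abel)
    rw [if_neg this, if_neg h, zero_mul]

theorem single_mul_single_apply (S T U : I) :
    (single S * single T : TwAlg B) U = if U = S + T then B.c S T else 0 := by
  rw [single_mul_single]

theorem three_eq_zero : (1 : TwAlg B) + 1 + 1 = 0 := by
  ext U
  simp only [add_apply, one_apply, zero_apply]
  split_ifs
  · decide
  · simp

end TwAlg

end Cfsg.Agent.Helper3.DCover
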