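import Mathlib
import Cfsg.Agent.Helper3.DCoverA

/-!
Helper lemmas (helper3): the Clifford algebra of the form `∑ xᵢ²` over `ZMod 3` as a twisted group
algebra of `(ZMod 2)ⁿ`: generators `e k` with `e k * e k = 1`, `e k * e l = -(e l * e k)`, the even
part, and the fact that even elements commuting with all generators are scalars.
-/

set_option autoImplicit false

namespace Cfsg.Agent.Helper3.DCover

open TwAlg

/-- The index group. -/
abbrev Idx (n : ℕ) := Fin n → ZMod 2

/-- The sign character. -/
def chi (a : ZMod 2) : ZMod 3 := if a = 0 then 1 else -1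

theorem chi_add (a b : ZMod 2) : chi (a + b) = chi a * chi b := by
  revert a b; decide

theorem chi_zero : chi 0 = 1 := rfl

theorem chi_one : chi 1 = -1 := rfl

theorem chi_inj {a b : ZMod 2} (h : chi a = chi b) : a = b := by
  revert a b; decide

variable {n : ℕ}

/-- The bilinear form `β(S,T) = ∑_{j<i} Sᵢ Tⱼ`. -/
def beta (S T : Idx n) : ZMod 2 := ∑ i, ∑ j, if j < i then S i * T j else 0

theorem beta_add_left (S S' T : Idx n) : beta (S + S') T = beta S T + beta S' T := by
  unfold beta
  rw [← Finset.sum_add_distrib]
  apply Finset.sum_congr rfl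
  intro i _
  rw [← Finset.sum_add_distrib]
  apply Finset.sum_congr rfl
  intro j _
  split_ifs
  · rw [Pi.add_apply, add_mul]
  · rw [add_zero]

theorem beta_add_right (S T T' : Idx n) : beta S (T + T') = beta S T + beta S T' := by
  unfold beta
  rw [← Finset.sum_add_distrib]
  apply Finset.sum_congr rfl
  intro i _
  rw [← Finset.sum_add_distrib]
  apply Finset.sum_congr rfl
  intro j _
  split_ifs
  · rw [Pi.add_apply, mul_add]
  · rw [add_zero]

theorem beta_zero_left (T : Idx n) : beta 0 T = 0 := by
  unfold beta
  simp

theorem beta_zero_right (S : Idx n) : beta S 0 = 0 := by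
  unfold beta
  simp

/-- The bicharacter. -/
def bich (n : ℕ) : Bichar (Idx n) where
  c S T := chi (beta S T)
  add_left S S' T := by rw [beta_add_left, chi_add]
  add_right S T T' := by rw [beta_add_right, chi_add]
  zero_left T := by rw [beta_zero_left, chi_zero]
  zero_right S := by rw [beta_zero_right, chi_zero]

/-- The Clifford algebra. -/
abbrev Cl (n : ℕ) := TwAlg (bich n)

/-- The unit vector. -/
def delta (k : Fin n) : Idx n := Pi.single k 1

theorem delta_apply (k i : Fin n) : delta k i = if i = k then 1 else 0 := by
  unfold delta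
  rw [Pi.single_apply]

theorem add_self (S : Idx n) : S + S = 0 := by
  funext i
  exact CharTwo.add_self_eq_zero (S i)

theorem sub_eq_add' (S T : Idx n) : S - T = S + T := by
  funext i
  rw [Pi.sub_apply, Pi.add_apply]
  exact CharTwo.sub_eq_add (S i) (T i)

theorem beta_delta_right (S : Idx n) (k : Fin n) :
    beta S (delta k) = ∑ i, if k < i then S i else 0 := by
  unfold beta
  apply Finset.sum_congr rfl
  intro i _
  rw [Finset.sum_eq_single k]
  · rw [delta_apply, if_pos rfl, mul_one]
  · intro j _ hj
    rw [delta_apply, if_neg hj, mul_zero, ite_self]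
  · intro h
    exact absurd (Finset.mem_univ _) h

theorem beta_delta_left (S : Idx n) (k : Fin n) :
    beta (delta k) S = ∑ j, if j < k then S j else 0 := by
  unfold beta
  rw [Finset.sum_eq_single k]
  · apply Finset.sum_congr rfl
    intro j _
    rw [delta_apply, if_pos rfl, one_mul]
  · intro i _ hi
    apply Finset.sum_eq_zero
    intro j _
    rw [delta_apply, if_neg hi, zero_mul, ite_self]
  · intro h
    exact absurd (Finset.mem_univ _) h

/-- The weight. -/
def wt (S : Idx n) : ZMod 2 := ∑ i, S i

theorem wt_add (S T : Idx n) : wt (S + T) = wt S + wt T := by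
  unfold wt
  rw [← Finset.sum_add_distrib]
  rfl

theorem wt_delta (k : Fin n) : wt (delta k) = 1 := by
  unfold wt
  rw [Finset.sum_eq_single k]
  · rw [delta_apply, if_pos rfl]
  · intro j _ hj
    rw [delta_apply, if_neg hj]
  · intro h
    exact absurd (Finset.mem_univ _) h

theorem beta_symm_delta (S : Idx n) (k : Fin n) :
    beta S (delta k) + beta (delta k) S = wt S + S k := by
  rw [beta_delta_right, beta_delta_left, ← Finset.sum_add_distrib]
  have h : ∀ i : Fin n, ((if k < i then S i else 0) + if i < k then S i else 0) =
      S i + if i = k then S k else 0 := by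
    intro i
    rcases lt_trichotomy i k with h | h | h
    · rw [if_neg (not_lt.mpr h.le), if_pos h, if_neg h.ne, zero_add, add_zero]
    · subst h
      simp only [lt_self_iff_false, if_false, if_true, add_zero]
      exact (CharTwo.add_self_eq_zero (S i)).symm
    · rw [if_pos h, if_neg (not_lt.mpr h.le), if_neg h.ne', add_zero]
  rw [Finset.sum_congr rfl (fun i _ => h i), Finset.sum_add_distrib, Finset.sum_ite_eq' Finset.univ k]
  simp [wt]

theorem beta_delta_delta (k l : Fin n) : beta (delta k) (delta l) = if l < k then 1 else 0 := by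
  rw [beta_delta_left, Finset.sum_eq_single l]
  · rw [delta_apply, if_pos rfl]
  · intro j _ hj
    rw [delta_apply, if_neg hj, ite_self]
  · intro h
    exact absurd (Finset.mem_univ _) h

/-- The generators. -/
def e (k : Fin n) : Cl n := TwAlg.single (delta k)

theorem e_mul_self (k : Fin n) : e k * e k = 1 := by
  unfold e
  ext U
  rw [single_mul_single_apply, add_self, one_apply]
  change (if U = 0 then chi (beta (delta k) (delta k)) else 0) = _
  rw [beta_delta_delta, if_neg (lt_irrefl _), chi_zero]

theorem e_anticomm {k l : Fin n} (h : k ≠ l) : e k * e l = -(e l * e k) := by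
  unfold e
  ext U
  rw [TwAlg.neg_apply, single_mul_single_apply, single_mul_single_apply,
    add_comm (delta l) (delta k)]
  change (if U = delta k + delta l then chi (beta (delta k) (delta l)) else 0) =
    -(if U = delta k + delta l then chi (beta (delta l) (delta k)) else 0)
  rw [beta_delta_delta, beta_delta_delta]
  split_ifs with h1 h2 h3 h3
  · exact absurd (lt_trans h2 h3) (lt_irrefl _)
  · rw [chi_one, chi_zero]
  · rw [chi_one, chi_zero, neg_neg]
  · exact absurd (le_antisymm (not_lt.mp h3) (not_lt.mp h2)) h.symm
  · rw [neg_zero]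

/-! ### The even part -/

/-- Supported on even-weight indices. -/
def IsEven (f : Cl n) : Prop := ∀ S, f S ≠ 0 → wt S = 0

theorem isEven_one : IsEven (1 : Cl n) := by
  intro S hS
  rw [one_apply] at hS
  split_ifs at hS with h
  · rw [h]; simp [wt]
  · exact absurd rfl hS

theorem IsEven.neg {f : Cl n} (hf : IsEven f) : IsEven (-f) := by
  intro S hS
  apply hf S
  rw [TwAlg.neg_apply] at hS
  exact fun h => hS (by rw [h, neg_zero])

theorem IsEven.add {f g : Cl n} (hf : IsEven f) (hg : IsEven g) : IsEven (f + g) := by
  intro S hS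
  rw [TwAlg.add_apply] at hS
  by_cases h : f S = 0
  · rw [h, zero_add] at hS
    exact hg S hS
  · exact hf S h

theorem IsEven.mul {f g : Cl n} (hf : IsEven f) (hg : IsEven g) : IsEven (f * g) := by
  intro U hU
  rw [mul_apply] at hU
  obtain ⟨S, -, hS⟩ := Finset.exists_ne_zero_of_sum_ne_zero hU
  have h1 : f S ≠ 0 := fun h => hS (by rw [h]; ring)
  have h2 : g (U - S) ≠ 0 := fun h => hS (by rw [h]; ring)
  have h3 := wt_add S (U - S)
  rw [hf S h1, hg _ h2, add_sub_cancel] at h3
  rw [h3, add_zero]

theorem isEven_e_mul_e (k l : Fin n) : IsEven (e k * e l) := by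
  unfold e
  intro S hS
  rw [single_mul_single_apply] at hS
  split_ifs at hS with h
  · rw [h, wt_add, wt_delta, wt_delta]
    decide
  · exact absurd rfl hS

/-- An even element commuting with all generators is supported at `0`. -/
theorem eq_zero_of_comm {f : Cl n} (hf : IsEven f) (hc : ∀ k, f * e k = e k * f) (S : Idx n)
    (hS : S ≠ 0) : f S = 0 := by
  by_contra hne
  apply hS
  funext k
  have h1 := congrFun (hc k) (S + delta k)
  unfold e at h1
  rw [mul_single_apply, single_mul_apply, add_sub_cancel_right] at h1
  have h2 : chi (beta S (delta k)) = chi (beta (delta k) S) := mul_left_cancel₀ hne h1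
  have h3 := chi_inj h2
  have h4 := beta_symm_delta S k
  rw [h3, CharTwo.add_self_eq_zero, hf S hne, zero_add] at h4
  rw [Pi.zero_apply]
  exact h4.symm

theorem one_ne_zero' : (1 : Cl n) ≠ 0 := by
  intro h
  have := congrFun h 0
  rw [one_apply, if_pos rfl, TwAlg.zero_apply] at this
  exact one_ne_zero this

/-- An even unit commuting with all generators is `±1`. -/
theorem eq_one_or_neg_one {f g : Cl n} (hfg : f * g = 1) (hf : IsEven f)
    (hc : ∀ k, f * e k = e k * f) : f = 1 ∨ f = -1 := by
  have h0 := eq_zero_of_comm hf hc
  have hcases : f 0 = 0 ∨ f 0 = 1 ∨ f 0 = -1 := by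
    generalize f 0 = a
    revert a; decide
  rcases hcases with h | h | h
  · exfalso
    have : f = 0 := by
      ext S
      by_cases hS : S = 0
      · rw [hS, h]; rfl
      · rw [h0 S hS]; rfl
    rw [this, zero_mul] at hfg
    exact one_ne_zero' hfg.symm
  · left
    ext S
    rw [one_apply]
    by_cases hS : S = 0
    · rw [hS, h, if_pos rfl]
    · rw [h0 S hS, if_neg hS]
  · right
    ext S
    rw [TwAlg.neg_apply, one_apply]
    by_cases hS : S = 0
    · rw [hS, h, if_pos rfl]
    · rw [h0 S hS, if_neg hS, neg_zero]

end Cfsg.Agent.Helper3.DCover
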