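import Mathlib
import Cfsg.Agent.Helper3.DCoverB

/-!
Helper lemmas (helper3): the spin-type double cover of the alternating group inside the units of
the Clifford algebra over `ZMod 3`: root elements `u i j = e i - e j`, the normaliser-type subgroup
`Np` of even units permuting the generators, its homomorphism to the symmetric group.
-/

set_option autoImplicit false

namespace Cfsg.Agent.Helper3.DCover

open TwAlg Equiv

variable {n : ℕ}

theorem one_add_one : (1 : Cl n) + 1 = -1 := eq_neg_of_add_eq_zero_left three_eq_zero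

theorem neg_one_ne_one : (-1 : Cl n) ≠ 1 := by
  intro h
  have h1 : (1 : Cl n) + 1 = 1 := by rw [one_add_one, h]
  have h2 : (1 : Cl n) = 0 := by
    have := three_eq_zero (B := bich n)
    rw [h1, one_add_one] at this
    rw [← neg_eq_zero]
    exact this
  exact one_ne_zero' h2

/-- The root element `e i - e j`. -/
def u (i j : Fin n) : Cl n := e i - e j

theorem u_mul_self {i j : Fin n} (h : i ≠ j) : u i j * u i j = -1 := by
  unfold u
  rw [sub_mul, mul_sub, mul_sub, e_mul_self, e_mul_self, e_anticomm h.symm]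
  calc (1 : Cl n) - e i * e j - (-(e i * e j) - 1) = 1 + 1 := by abel
    _ = -1 := one_add_one

theorem u_anticomm {i j k l : Fin n} (hik : i ≠ k) (hil : i ≠ l) (hjk : j ≠ k) (hjl : j ≠ l) :
    u i j * u k l = -(u k l * u i j) := by
  unfold u
  rw [sub_mul, mul_sub, mul_sub, sub_mul, mul_sub, mul_sub, e_anticomm hik, e_anticomm hil,
    e_anticomm hjk, e_anticomm hjl]
  abel

/-- `g` conjugates the generators according to `σ`. -/
def ActsAs (g : Cl n) (σ : Perm (Fin n)) : Prop := ∀ k, g * e k = e (σ k) * g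

/-- `g` conjugates the generators according to `σ`, with a sign. -/
def ActsNeg (g : Cl n) (σ : Perm (Fin n)) : Prop := ∀ k, g * e k = -(e (σ k) * g)

theorem actsNeg_u {i j : Fin n} (h : i ≠ j) : ActsNeg (u i j) (swap i j) := by
  intro k
  unfold u
  by_cases hki : k = i
  · subst hki
    rw [swap_apply_left, sub_mul, mul_sub, e_mul_self, e_mul_self, e_anticomm h.symm]
    abel
  · by_cases hkj : k = j
    · subst hkj
      rw [swap_apply_right, sub_mul, mul_sub, e_mul_self, e_mul_self]
      abel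
    · rw [swap_apply_of_ne_of_ne hki hkj, sub_mul, mul_sub, e_anticomm (Ne.symm hki),
        e_anticomm (Ne.symm hkj)]
      abel

theorem ActsNeg.mul {g h : Cl n} {σ τ : Perm (Fin n)} (hg : ActsNeg g σ) (hh : ActsNeg h τ) :
    ActsAs (g * h) (σ * τ) := by
  intro k
  rw [mul_assoc, hh k, mul_neg, ← mul_assoc, hg (τ k), neg_mul, neg_neg, mul_assoc, Perm.mul_apply]

theorem ActsAs.mul {g h : Cl n} {σ τ : Perm (Fin n)} (hg : ActsAs g σ) (hh : ActsAs h τ) :
    ActsAs (g * h) (σ * τ) := by
  intro k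
  rw [mul_assoc, hh k, ← mul_assoc, hg (τ k), mul_assoc, Perm.mul_apply]

theorem actsAs_one : ActsAs (1 : Cl n) 1 := by
  intro k
  rw [one_mul, mul_one, Perm.one_apply]

theorem ActsAs.inv {g g' : Cl n} {σ : Perm (Fin n)} (hg : ActsAs g σ) (h1 : g * g' = 1)
    (h2 : g' * g = 1) : ActsAs g' σ⁻¹ := by
  intro k
  have h := hg (σ⁻¹ k)
  have e0 : σ (σ⁻¹ k) = k := by simp
  rw [e0] at h
  calc g' * e k = g' * (e k * g) * g' := by rw [mul_assoc, mul_assoc, h1, mul_one]
    _ = g' * (g * e (σ⁻¹ k)) * g' := by rw [h]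
    _ = e (σ⁻¹ k) * g' := by rw [← mul_assoc, h2, one_mul]

theorem ActsAs.mul_u {g : Cl n} {σ : Perm (Fin n)} (hg : ActsAs g σ) (i j : Fin n) :
    g * u i j = u (σ i) (σ j) * g := by
  unfold u
  rw [mul_sub, sub_mul, hg i, hg j]

theorem delta_injective : Function.Injective (delta : Fin n → Idx n) := by
  intro k l h
  have := congrFun h k
  rw [delta_apply, delta_apply, if_pos rfl] at this
  by_contra hne
  rw [if_neg hne] at this
  exact one_ne_zero this

theorem e_injective : Function.Injective (e : Fin n → Cl n) := by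
  intro k l h
  have := congrFun h (delta k)
  unfold e at this
  rw [single_apply, single_apply, if_pos rfl] at this
  by_contra hne
  rw [if_neg (fun h' => hne (delta_injective h'))] at this
  exact one_ne_zero this

theorem ActsAs.unique {g g' : Cl n} {σ τ : Perm (Fin n)} (hg : ActsAs g σ) (hg' : ActsAs g τ)
    (h1 : g * g' = 1) : σ = τ := by
  ext k
  have h := (hg k).symm.trans (hg' k)
  have h2 : e (σ k) = e (τ k) := by
    calc e (σ k) = e (σ k) * g * g' := by rw [mul_assoc, h1, mul_one]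
      _ = e (τ k) * g * g' := by rw [h]
      _ = e (τ k) := by rw [mul_assoc, h1, mul_one]
  rw [e_injective h2]

/-- The even units permuting the generators. -/
def Np (n : ℕ) : Subgroup (Cl n)ˣ where
  carrier := {g | IsEven (g : Cl n) ∧ IsEven ((g⁻¹ : (Cl n)ˣ) : Cl n) ∧ ∃ σ, ActsAs (g : Cl n) σ}
  one_mem' := ⟨isEven_one, by rw [inv_one]; exact isEven_one, 1, actsAs_one⟩
  mul_mem' := by
    rintro g h ⟨hg1, hg2, σ, hσ⟩ ⟨hh1, hh2, τ, hτ⟩
    refine ⟨?_, ?_, σ * τ, ?_⟩
    · rw [Units.val_mul]; exact hg1.mul hh1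
    · rw [mul_inv_rev, Units.val_mul]; exact hh2.mul hg2
    · rw [Units.val_mul]; exact hσ.mul hτ
  inv_mem' := by
    rintro g ⟨hg1, hg2, σ, hσ⟩
    refine ⟨hg2, by rw [inv_inv]; exact hg1, σ⁻¹, ?_⟩
    exact hσ.inv (Units.mul_inv g) (Units.inv_mul g)

theorem exists_actsAs (g : Np n) : ∃ σ, ActsAs ((g : (Cl n)ˣ) : Cl n) σ := g.2.2.2

/-- The permutation induced by an element of `Np`. -/
noncomputable def perm (g : Np n) : Perm (Fin n) := (exists_actsAs g).choose

theorem perm_spec (g : Np n) : ActsAs ((g : (Cl n)ˣ) : Cl n) (perm g) := (exists_actsAs g).choose_spec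

theorem perm_eq {g : Np n} {σ : Perm (Fin n)} (h : ActsAs ((g : (Cl n)ˣ) : Cl n) σ) : perm g = σ :=
  (perm_spec g).unique h (Units.mul_inv (g : (Cl n)ˣ))

/-- The homomorphism to the symmetric group. -/
noncomputable def phi (n : ℕ) : Np n →* Perm (Fin n) where
  toFun := perm
  map_one' := perm_eq actsAs_one
  map_mul' g h := by
    apply perm_eq
    rw [Subgroup.coe_mul, Units.val_mul]
    exact (perm_spec g).mul (perm_spec h)

/-- The root element as a unit. -/
def uU (i j : Fin n) (h : i ≠ j) : (Cl n)ˣ :=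
  ⟨u i j, -u i j, by rw [mul_neg, u_mul_self h, neg_neg], by rw [neg_mul, u_mul_self h, neg_neg]⟩

theorem isEven_u_mul_u (i j k l : Fin n) : IsEven (u i j * u k l) := by
  unfold u
  rw [sub_mul, mul_sub, mul_sub]
  exact ((isEven_e_mul_e i k).add (isEven_e_mul_e i l).neg).add
    (((isEven_e_mul_e j k).add (isEven_e_mul_e j l).neg)).neg |> fun h => by
      convert h using 1
      abel

/-- The generators of the double cover. -/
def gen (i j k l : Fin n) (hij : i ≠ j) (hkl : k ≠ l) : Np n :=
  ⟨uU i j hij * uU k l hkl, by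
    refine ⟨isEven_u_mul_u i j k l, ?_, swap i j * swap k l, (actsNeg_u hij).mul (actsNeg_u hkl)⟩
    rw [mul_inv_rev]
    change IsEven (-u k l * -u i j)
    rw [neg_mul_neg]
    exact isEven_u_mul_u k l i j⟩

theorem gen_val (i j k l : Fin n) (hij : i ≠ j) (hkl : k ≠ l) :
    ((gen i j k l hij hkl : (Cl n)ˣ) : Cl n) = u i j * u k l := rfl

theorem phi_gen (i j k l : Fin n) (hij : i ≠ j) (hkl : k ≠ l) :
    phi n (gen i j k l hij hkl) = swap i j * swap k l :=
  perm_eq ((actsNeg_u hij).mul (actsNeg_u hkl))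

/-- The double cover. -/
def Gam (n : ℕ) : Subgroup (Np n) :=
  Subgroup.closure {g | ∃ (i j k l : Fin n) (hij : i ≠ j) (hkl : k ≠ l), g = gen i j k l hij hkl}

theorem gen_mem (i j k l : Fin n) (hij : i ≠ j) (hkl : k ≠ l) : gen i j k l hij hkl ∈ Gam n :=
  Subgroup.subset_closure ⟨i, j, k, l, hij, hkl, rfl⟩

end Cfsg.Agent.Helper3.DCover
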