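import Mathlib
import Cfsg.Agent.Helper3.DCoverC

/-!
Helper lemmas (helper3): the double cover `Gam n` of the alternating group: the homomorphism onto
`alternatingGroup (Fin n)`, its kernel `{±1}`, and the central involution as a commutator.
-/

set_option autoImplicit false

namespace Cfsg.Agent.Helper3.DCover

open TwAlg Equiv
open scoped commutatorElement

variable {n : ℕ}

/-- Products of two transpositions generate the alternating group. -/
theorem closure_swap_mul_swap :
    Subgroup.closure {σ : Perm (Fin n) | ∃ (i j k l : Fin n), i ≠ j ∧ k ≠ l ∧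
      σ = swap i j * swap k l} = alternatingGroup (Fin n) := by
  apply le_antisymm
  · rw [Subgroup.closure_le]
    rintro σ ⟨i, j, k, l, hij, hkl, rfl⟩
    exact Equiv.Perm.mul_mem_alternatingGroup_of_isSwap ⟨i, j, hij, rfl⟩ ⟨k, l, hkl, rfl⟩
  · intro σ hσ
    suffices hind : ∀ (m : ℕ) (L : List (Perm (Fin n))) (_ : ∀ g, g ∈ L → g.IsSwap)
        (_ : L.length = 2 * m),
        L.prod ∈ Subgroup.closure {σ : Perm (Fin n) | ∃ (i j k l : Fin n), i ≠ j ∧ k ≠ l ∧
          σ = swap i j * swap k l} by
      obtain ⟨L, rfl, hL⟩ := Equiv.Perm.truncSwapFactors σ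
      obtain ⟨m, hm⟩ := (Equiv.Perm.prod_list_swap_mem_alternatingGroup_iff_even_length hL).1 hσ
      rw [← two_mul] at hm
      exact hind m L hL hm
    intro m
    induction m with
    | zero =>
      intro L _ hlen
      rw [List.length_eq_zero_iff.1 hlen, List.prod_nil]
      exact one_mem _
    | succ m ih =>
      intro L hL hlen
      rw [Nat.mul_succ] at hlen
      obtain ⟨a, L, rfl⟩ := L.exists_of_length_succ hlen
      rw [List.length_cons, Nat.succ_inj] at hlen
      obtain ⟨b, L, rfl⟩ := L.exists_of_length_succ hlen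
      rw [List.length_cons, Nat.succ_inj] at hlen
      rw [List.prod_cons, List.prod_cons, ← mul_assoc]
      apply mul_mem
      · obtain ⟨i, j, hij, rfl⟩ := hL a (by simp)
        obtain ⟨k, l, hkl, rfl⟩ := hL b (by simp)
        exact Subgroup.subset_closure ⟨i, j, k, l, hij, hkl, rfl⟩
      · exact ih L (fun g hg => hL g (by simp [hg])) hlen

/-- The restriction of `phi` to `Gam n`. -/
noncomputable def phiG (n : ℕ) : Gam n →* Perm (Fin n) := (phi n).comp (Gam n).subtype

theorem phiG_mem (g : Gam n) : phiG n g ∈ alternatingGroup (Fin n) := by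
  have hle : Gam n ≤ (alternatingGroup (Fin n)).comap (phi n) := by
    unfold Gam
    rw [Subgroup.closure_le]
    rintro g ⟨i, j, k, l, hij, hkl, rfl⟩
    change phi n _ ∈ alternatingGroup (Fin n)
    rw [phi_gen]
    exact Equiv.Perm.mul_mem_alternatingGroup_of_isSwap ⟨i, j, hij, rfl⟩ ⟨k, l, hkl, rfl⟩
  exact hle g.2

/-- The covering homomorphism. -/
noncomputable def psi (n : ℕ) : Gam n →* alternatingGroup (Fin n) :=
  (phiG n).codRestrict (alternatingGroup (Fin n)) phiG_mem

theorem psi_val (g : Gam n) : ((psi n g : alternatingGroup (Fin n)) : Perm (Fin n)) = phi n g := rfl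

theorem psi_surjective : Function.Surjective (psi n) := by
  rintro ⟨σ, hσ⟩
  have hle : alternatingGroup (Fin n) ≤ (Gam n).map (phi n) := by
    rw [← closure_swap_mul_swap, Subgroup.closure_le]
    rintro σ ⟨i, j, k, l, hij, hkl, rfl⟩
    exact ⟨gen i j k l hij hkl, gen_mem i j k l hij hkl, phi_gen i j k l hij hkl⟩
  obtain ⟨g, hg, hgσ⟩ := hle hσ
  exact ⟨⟨g, hg⟩, Subtype.ext hgσ⟩

/-- The central involution `-1`. -/
def zz (i j : Fin n) (hij : i ≠ j) : Gam n := ⟨gen i j i j hij hij, gen_mem i j i j hij hij⟩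

theorem zz_val (i j : Fin n) (hij : i ≠ j) :
    (((zz i j hij : Gam n) : Np n) : (Cl n)ˣ) = -1 := by
  apply Units.ext
  rw [Units.val_neg, Units.val_one]
  exact u_mul_self hij

theorem gam_ext {g h : Gam n} (hgh : (((g : Np n) : (Cl n)ˣ) : Cl n) = (((h : Np n) : (Cl n)ˣ) : Cl n)) :
    g = h := Subtype.ext (Subtype.ext (Units.ext hgh))

theorem zz_mem_center (i j : Fin n) (hij : i ≠ j) : zz i j hij ∈ Subgroup.center (Gam n) := by
  rw [Subgroup.mem_center_iff]
  intro g
  apply gam_ext
  simp only [Subgroup.coe_mul, Units.val_mul, zz_val, Units.val_neg, Units.val_one]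
  rw [mul_neg, neg_mul, mul_one, one_mul]

theorem zz_ne_one (i j : Fin n) (hij : i ≠ j) : zz i j hij ≠ 1 := by
  intro h
  have h1 := congrArg (fun g : Gam n => (((g : Np n) : (Cl n)ˣ) : Cl n)) h
  simp only [zz_val, Units.val_neg, Units.val_one, Subgroup.coe_one] at h1
  exact neg_one_ne_one h1

theorem zz_mul_self (i j : Fin n) (hij : i ≠ j) : zz i j hij * zz i j hij = 1 := by
  apply gam_ext
  simp only [Subgroup.coe_mul, Units.val_mul, zz_val, Units.val_neg, Units.val_one,
    Subgroup.coe_one]
  rw [neg_mul_neg, one_mul]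

theorem orderOf_zz (i j : Fin n) (hij : i ≠ j) : orderOf (zz i j hij) = 2 := by
  apply orderOf_eq_prime
  · rw [pow_two]; exact zz_mul_self i j hij
  · exact zz_ne_one i j hij

theorem psi_ker (i j : Fin n) (hij : i ≠ j) : (psi n).ker = Subgroup.zpowers (zz i j hij) := by
  apply le_antisymm
  · intro g hg
    rw [MonoidHom.mem_ker] at hg
    have h1 : phi n g = 1 := by
      have := congrArg (fun x : alternatingGroup (Fin n) => (x : Perm (Fin n))) hg
      simpa [psi_val] using this
    have hact := perm_spec (g : Np n)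
    change ActsAs _ (phi n g) at hact
    rw [h1] at hact
    have hc : ∀ k, (((g : Np n) : (Cl n)ˣ) : Cl n) * e k = e k * (((g : Np n) : (Cl n)ˣ) : Cl n) := by
      intro k
      have := hact k
      rwa [Perm.one_apply] at this
    have hev : IsEven (((g : Np n) : (Cl n)ˣ) : Cl n) := (g : Np n).2.1
    rcases eq_one_or_neg_one (Units.mul_inv ((g : Np n) : (Cl n)ˣ)) hev hc with h | h
    · have : g = 1 := by
        apply gam_ext
        rw [h]; rfl
      rw [this]; exact one_mem _
    · have : g = zz i j hij := by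
        apply gam_ext
        rw [h, zz_val, Units.val_neg, Units.val_one]
      rw [this]; exact Subgroup.mem_zpowers _
  · rw [Subgroup.zpowers_le, MonoidHom.mem_ker]
    apply Subtype.ext
    rw [psi_val]
    change phi n (gen i j i j hij hij) = _
    rw [phi_gen, swap_mul_self]
    rfl

/-- The central involution is a commutator. -/
theorem zz_mem_commutator (i j k l : Fin n) (hij : i ≠ j) (hik : i ≠ k) (hil : i ≠ l)
    (hjk : j ≠ k) (hjl : j ≠ l) (hkl : k ≠ l) : zz i j hij ∈ commutator (Gam n) := by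
  let a : Gam n := ⟨gen i j k l hij hkl, gen_mem _ _ _ _ _ _⟩
  let b : Gam n := ⟨gen i k j l hik hjl, gen_mem _ _ _ _ _ _⟩
  have hb : ActsAs (u i k * u j l) (swap i k * swap j l) := (actsNeg_u hik).mul (actsNeg_u hjl)
  have e1 : (swap i k * swap j l) i = k := by
    rw [Perm.mul_apply, swap_apply_of_ne_of_ne hij hil, swap_apply_left]
  have e2 : (swap i k * swap j l) j = l := by
    rw [Perm.mul_apply, swap_apply_left, swap_apply_of_ne_of_ne hil.symm hkl.symm]
  have e3 : (swap i k * swap j l) k = i := by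
    rw [Perm.mul_apply, swap_apply_of_ne_of_ne hjk.symm hkl, swap_apply_right]
  have e4 : (swap i k * swap j l) l = j := by
    rw [Perm.mul_apply, swap_apply_right, swap_apply_of_ne_of_ne hij.symm hjk]
  have hba : (u i k * u j l) * (u i j * u k l) = -((u i j * u k l) * (u i k * u j l)) := by
    rw [← mul_assoc, hb.mul_u, mul_assoc, hb.mul_u, e1, e2, e3, e4, ← mul_assoc,
      u_anticomm hik.symm hjk.symm hil.symm hjl.symm, neg_mul]
  have hcomm : b * a = zz i j hij * (a * b) := by
    apply gam_ext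
    simp only [Subgroup.coe_mul, Units.val_mul, zz_val, Units.val_neg, Units.val_one]
    change (u i k * u j l) * (u i j * u k l) = -1 * ((u i j * u k l) * (u i k * u j l))
    rw [hba, neg_mul, one_mul]
  have hz : zz i j hij = ⁅b, a⁆ := by
    rw [commutatorElement_def, hcomm]
    group
  rw [hz]
  exact Subgroup.commutator_mem_commutator (Subgroup.mem_top _) (Subgroup.mem_top _)

instance : Finite (Gam n) := by
  have : Finite (Cl n)ˣ := inferInstance
  infer_instance

/-- The double cover of the alternating group. -/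
theorem exists_double_cover (n : ℕ) (hn : 4 ≤ n) :
    ∃ (Γ : Type) (_ : Group Γ) (_ : Finite Γ) (z : Γ) (_ : z ∈ Subgroup.center Γ),
      orderOf z = 2 ∧ z ∈ commutator Γ ∧ ∃ _ : (Subgroup.zpowers z).Normal,
        Nonempty (Γ ⧸ Subgroup.zpowers z ≃* alternatingGroup (Fin n)) := by
  let i0 : Fin n := ⟨0, by omega⟩
  let i1 : Fin n := ⟨1, by omega⟩
  let i2 : Fin n := ⟨2, by omega⟩
  let i3 : Fin n := ⟨3, by omega⟩
  have h01 : i0 ≠ i1 := by simp [i0, i1, Fin.ext_iff]
  have h02 : i0 ≠ i2 := by simp [i0, i2, Fin.ext_iff]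
  have h03 : i0 ≠ i3 := by simp [i0, i3, Fin.ext_iff]
  have h12 : i1 ≠ i2 := by simp [i1, i2, Fin.ext_iff]
  have h13 : i1 ≠ i3 := by simp [i1, i3, Fin.ext_iff]
  have h23 : i2 ≠ i3 := by simp [i2, i3, Fin.ext_iff]
  have hker := psi_ker i0 i1 h01
  have hN : (Subgroup.zpowers (zz i0 i1 h01)).Normal := by
    rw [← hker]; infer_instance
  refine ⟨Gam n, inferInstance, inferInstance, zz i0 i1 h01, zz_mem_center i0 i1 h01,
    orderOf_zz i0 i1 h01, zz_mem_commutator i0 i1 i2 i3 h01 h02 h03 h12 h13 h23, hN, ⟨?_⟩⟩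
  exact (QuotientGroup.quotientMulEquivOfEq hker.symm).trans
    (QuotientGroup.quotientKerEquivOfSurjective (psi n) psi_surjective)

end Cfsg.Agent.Helper3.DCover
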