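import Mathlib
import Cfsg.Agent.Helper3.DCoverD
import Cfsg.Agent.Helper3.StemB
import Cfsg.Prelude.Def_SporadicB

/-!
Helper lemmas (helper3): `Gam n` is a non-split double cover of the alternating group for `n ≥ 4`,
and for `n = 8` it has a non-central involution.
-/

set_option autoImplicit false

namespace Cfsg.Agent.Helper3.DCover

open TwAlg Equiv
open scoped commutatorElement

variable {n : ℕ}

/-- A central subgroup meeting the commutator subgroup non-trivially has no complement. -/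
theorem no_complement_of_mem_commutator {H : Type*} [Group H] (z : H) (hz1 : z ≠ 1)
    (hzc : z ∈ Subgroup.center H) (hz' : z ∈ commutator H) (L : Subgroup H) :
    ¬ (Subgroup.center H).IsComplement' L := by
  intro hL
  have hle : commutator H ≤ L := by
    rw [commutator_def, Subgroup.commutator_le]
    intro g₁ _ g₂ _
    have hex : ∀ g : H, ∃ c ∈ Subgroup.center H, ∃ l ∈ L, g = l * c := by
      intro g
      obtain ⟨⟨⟨c, hc⟩, ⟨l, hl⟩⟩, hcl, -⟩ := (Subgroup.isComplement'_def.mp hL).existsUnique g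
      simp only at hcl
      subst hcl
      have hc' : c ∈ Subgroup.center H := hc
      refine ⟨c, hc', l, hl, ?_⟩
      rw [Subgroup.mem_center_iff] at hc'
      exact (hc' l).symm
    obtain ⟨c₁, hc₁, l₁, hl₁, rfl⟩ := hex g₁
    obtain ⟨c₂, hc₂, l₂, hl₂, rfl⟩ := hex g₂
    rw [Cfsg.Agent.Helper3.Stem.comm_mul_central _ _ _ _ hc₁ hc₂]
    rw [commutatorElement_def]
    exact L.mul_mem (L.mul_mem (L.mul_mem hl₁ hl₂) (L.inv_mem hl₁)) (L.inv_mem hl₂)
  have hzL : z ∈ L := hle hz'
  have hdisj := hL.disjoint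
  rw [Subgroup.disjoint_def] at hdisj
  exact hz1 (hdisj hzc hzL)

theorem center_gam (hn : 4 ≤ n) (i j : Fin n) (hij : i ≠ j) :
    Subgroup.center (Gam n) = Subgroup.zpowers (zz i j hij) := by
  apply le_antisymm
  · intro g hg
    rw [← psi_ker i j hij, MonoidHom.mem_ker]
    have hc : psi n g ∈ Subgroup.center (alternatingGroup (Fin n)) := by
      rw [Subgroup.mem_center_iff]
      intro a
      obtain ⟨h, rfl⟩ := psi_surjective a
      rw [Subgroup.mem_center_iff] at hg
      rw [← map_mul, ← map_mul, hg h]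
    rw [alternatingGroup.center_eq_bot (by rw [Nat.card_eq_fintype_card, Fintype.card_fin]; exact hn),
      Subgroup.mem_bot] at hc
    exact hc
  · rw [Subgroup.zpowers_le]
    exact zz_mem_center i j hij

/-- `Gam n` is a non-split double cover of the alternating group. -/
theorem nonsplit_gam (hn : 4 ≤ n) :
    Cfsg.IsNonsplitDoubleCover (Gam n) (alternatingGroup (Fin n)) := by
  let i0 : Fin n := ⟨0, by omega⟩
  let i1 : Fin n := ⟨1, by omega⟩
  let i2 : Fin n := ⟨2, by omega⟩
  let i3 : Fin n := ⟨3, by omega⟩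
  have h01 : i0 ≠ i1 := by simp [i0, i1, Fin.ext_iff]
  have h02 : i0 ≠ i2 := by simp [i0, i2, Fin.ext_iff]
  have h03 : i0 ≠ i3 := by simp [i0, i3, Fin.ext_iff]
  have h12 : i1 ≠ i2 := by simp [i1, i2, Fin.ext_iff]
  have h13 : i1 ≠ i3 := by simp [i1, i3, Fin.ext_iff]
  have h23 : i2 ≠ i3 := by simp [i2, i3, Fin.ext_iff]
  have hcen := center_gam hn i0 i1 h01
  have hker := psi_ker i0 i1 h01
  refine ⟨?_, ⟨?_⟩, ?_⟩
  · rw [hcen, Nat.card_zpowers, orderOf_zz]
  · exact (QuotientGroup.quotientMulEquivOfEq (hcen.trans hker.symm)).trans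
      (QuotientGroup.quotientKerEquivOfSurjective (psi n) psi_surjective)
  · exact no_complement_of_mem_commutator (zz i0 i1 h01) (zz_ne_one i0 i1 h01)
      (zz_mem_center i0 i1 h01) (zz_mem_commutator i0 i1 i2 i3 h01 h02 h03 h12 h13 h23)

theorem uu_sq {i j k l : Fin n} (hij : i ≠ j) (hik : i ≠ k) (hil : i ≠ l) (hjk : j ≠ k)
    (hjl : j ≠ l) (hkl : k ≠ l) : (u i j * u k l) * (u i j * u k l) = -1 := by
  calc (u i j * u k l) * (u i j * u k l) = u i j * (u k l * u i j) * u k l := by
        simp only [mul_assoc]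
    _ = -((u i j * u i j) * (u k l * u k l)) := by
        rw [u_anticomm hik.symm hjk.symm hil.symm hjl.symm]
        simp only [mul_neg, neg_mul, mul_assoc]
    _ = -1 := by rw [u_mul_self hij, u_mul_self hkl, neg_mul_neg, one_mul]

/-- Two products of root elements on disjoint index sets commute. -/
theorem uu_comm {a b c d i j k l : Fin n} (hai : a ≠ i) (haj : a ≠ j) (hak : a ≠ k) (hal : a ≠ l)
    (hbi : b ≠ i) (hbj : b ≠ j) (hbk : b ≠ k) (hbl : b ≠ l)
    (hci : c ≠ i) (hcj : c ≠ j) (hck : c ≠ k) (hcl : c ≠ l)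
    (hdi : d ≠ i) (hdj : d ≠ j) (hdk : d ≠ k) (hdl : d ≠ l) :
    (u a b * u c d) * (u i j * u k l) = (u i j * u k l) * (u a b * u c d) := by
  have h1 : u c d * u i j = -(u i j * u c d) := u_anticomm hci hcj hdi hdj
  have h2 : u a b * u i j = -(u i j * u a b) := u_anticomm hai haj hbi hbj
  have h3 : u c d * u k l = -(u k l * u c d) := u_anticomm hck hcl hdk hdl
  have h4 : u a b * u k l = -(u k l * u a b) := u_anticomm hak hal hbk hbl
  calc (u a b * u c d) * (u i j * u k l) = u a b * (u c d * u i j) * u k l := by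
        simp only [mul_assoc]
    _ = -(u a b * u i j * u c d * u k l) := by
        rw [h1]; simp only [mul_neg, neg_mul, mul_assoc]
    _ = u i j * u a b * u c d * u k l := by
        rw [h2]; simp only [neg_mul, neg_neg]
    _ = u i j * u a b * (u c d * u k l) := by simp only [mul_assoc]
    _ = -(u i j * (u a b * u k l) * u c d) := by
        rw [h3]; simp only [mul_neg, mul_assoc]
    _ = u i j * u k l * (u a b * u c d) := by
        rw [h4]; simp only [mul_neg, neg_mul, neg_neg, mul_assoc]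

/-- The double cover of `A₈` has a non-central involution. -/
theorem exists_two_involutions :
    ∃ x y : Gam 8, x ≠ y ∧ orderOf x = 2 ∧ orderOf y = 2 := by
  have h01 : (0 : Fin 8) ≠ 1 := by decide
  have h23 : (2 : Fin 8) ≠ 3 := by decide
  have h45 : (4 : Fin 8) ≠ 5 := by decide
  have h67 : (6 : Fin 8) ≠ 7 := by decide
  let t : Gam 8 := ⟨gen 0 1 2 3 h01 h23 * gen 4 5 6 7 h45 h67,
    mul_mem (gen_mem _ _ _ _ _ _) (gen_mem _ _ _ _ _ _)⟩
  have hA : (u (0 : Fin 8) 1 * u 2 3) * (u 0 1 * u 2 3) = -1 :=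
    uu_sq h01 (by decide) (by decide) (by decide) (by decide) h23
  have hB : (u (4 : Fin 8) 5 * u 6 7) * (u 4 5 * u 6 7) = -1 :=
    uu_sq h45 (by decide) (by decide) (by decide) (by decide) h67
  have hAB : (u (4 : Fin 8) 5 * u 6 7) * (u 0 1 * u 2 3) = (u 0 1 * u 2 3) * (u 4 5 * u 6 7) :=
    uu_comm (by decide) (by decide) (by decide) (by decide) (by decide) (by decide) (by decide)
      (by decide) (by decide) (by decide) (by decide) (by decide) (by decide) (by decide)
      (by decide) (by decide)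
  have htt : t * t = 1 := by
    apply gam_ext
    change ((u (0 : Fin 8) 1 * u 2 3) * (u 4 5 * u 6 7)) * ((u 0 1 * u 2 3) * (u 4 5 * u 6 7)) = 1
    calc ((u (0 : Fin 8) 1 * u 2 3) * (u 4 5 * u 6 7)) * ((u 0 1 * u 2 3) * (u 4 5 * u 6 7))
        = (u 0 1 * u 2 3) * ((u 4 5 * u 6 7) * (u 0 1 * u 2 3)) * (u 4 5 * u 6 7) := by
          simp only [mul_assoc]
      _ = ((u 0 1 * u 2 3) * (u 0 1 * u 2 3)) * ((u 4 5 * u 6 7) * (u 4 5 * u 6 7)) := by
          rw [hAB]; simp only [mul_assoc]
      _ = 1 := by rw [hA, hB, neg_mul_neg, one_mul]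
  have hphit : phi 8 (t : Np 8) ≠ 1 := by
    change phi 8 (gen 0 1 2 3 h01 h23 * gen 4 5 6 7 h45 h67) ≠ 1
    rw [map_mul, phi_gen, phi_gen]
    decide
  have ht1 : t ≠ 1 := by
    intro h
    apply hphit
    rw [h]
    exact map_one _
  have htz : zz (0 : Fin 8) 1 h01 ≠ t := by
    intro h
    apply hphit
    rw [← h]
    change phi 8 (gen 0 1 0 1 h01 h01) = 1
    rw [phi_gen, swap_mul_self]
  refine ⟨zz 0 1 h01, t, htz, orderOf_zz 0 1 h01, ?_⟩
  apply orderOf_eq_prime
  · rw [pow_two]; exact htt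
  · exact ht1

end Cfsg.Agent.Helper3.DCover
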