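import Mathlib

/-!
Helper lemmas (helper3): groups generated by two involutions: normal form, index of the rotation
subgroup, order.
-/

set_option autoImplicit false

namespace Cfsg.Agent.Helper3.Dih

variable {G : Type*} [Group G]

theorem mul_zpow_eq (a b : G) (ha : a * a = 1) (hb : b * b = 1) (i : ℤ) :
    a * (a * b) ^ i = (a * b) ^ (-i) * a := by
  have hainv : a⁻¹ = a := inv_eq_of_mul_eq_one_right ha
  have hbinv : b⁻¹ = b := inv_eq_of_mul_eq_one_right hb
  have h1 : a * (a * b) * a⁻¹ = (a * b)⁻¹ := by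
    rw [mul_inv_rev, hainv, hbinv, ← mul_assoc, ha, one_mul]
  have h2 : a * (a * b) ^ i * a⁻¹ = (a * b) ^ (-i) := by
    rw [← conj_zpow, h1, inv_zpow, zpow_neg]
  rw [← h2, hainv, mul_assoc, mul_assoc, ha, mul_one]

/-- Normal form of the elements of a group generated by two involutions. -/
theorem mem_closure_pair (a b : G) (ha : a * a = 1) (hb : b * b = 1) {g : G}
    (hg : g ∈ Subgroup.closure ({a, b} : Set G)) :
    ∃ i : ℤ, g = (a * b) ^ i ∨ g = (a * b) ^ i * a := by
  have hainv : a⁻¹ = a := inv_eq_of_mul_eq_one_right ha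
  have hbinv : b⁻¹ = b := inv_eq_of_mul_eq_one_right hb
  have hba : b = a * (a * b) := by rw [← mul_assoc, ha, one_mul]
  have stepa : ∀ y : G, (∃ i : ℤ, y = (a * b) ^ i ∨ y = (a * b) ^ i * a) →
      ∃ i : ℤ, a * y = (a * b) ^ i ∨ a * y = (a * b) ^ i * a := by
    rintro y ⟨i, rfl | rfl⟩
    · exact ⟨-i, Or.inr (mul_zpow_eq a b ha hb i)⟩
    · refine ⟨-i, Or.inl ?_⟩
      rw [← mul_assoc, mul_zpow_eq a b ha hb i, mul_assoc, ha, mul_one]
  have stepr : ∀ y : G, (∃ i : ℤ, y = (a * b) ^ i ∨ y = (a * b) ^ i * a) →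
      ∃ i : ℤ, (a * b) * y = (a * b) ^ i ∨ (a * b) * y = (a * b) ^ i * a := by
    rintro y ⟨i, rfl | rfl⟩
    · exact ⟨1 + i, Or.inl (by rw [zpow_add, zpow_one])⟩
    · exact ⟨1 + i, Or.inr (by rw [zpow_add, zpow_one]; simp only [mul_assoc])⟩
  have stepb : ∀ y : G, (∃ i : ℤ, y = (a * b) ^ i ∨ y = (a * b) ^ i * a) →
      ∃ i : ℤ, b * y = (a * b) ^ i ∨ b * y = (a * b) ^ i * a := by
    intro y hy
    have := stepa _ (stepr y hy)
    rwa [← mul_assoc, ← hba] at this
  induction hg using Subgroup.closure_induction_left with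
  | one => exact ⟨0, Or.inl (by rw [zpow_zero])⟩
  | mul_left x hx y _ ih =>
    rcases hx with rfl | hx
    · exact stepa y ih
    · rw [Set.mem_singleton_iff] at hx
      subst hx
      exact stepb y ih
  | inv_mul_cancel x hx y _ ih =>
    rcases hx with rfl | hx
    · rw [hainv]; exact stepa y ih
    · rw [Set.mem_singleton_iff] at hx
      subst hx
      rw [hbinv]; exact stepb y ih

theorem zpowers_le_closure (a b : G) :
    Subgroup.zpowers (a * b) ≤ Subgroup.closure ({a, b} : Set G) := by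
  rw [Subgroup.zpowers_le]
  exact mul_mem (Subgroup.subset_closure (Or.inl rfl)) (Subgroup.subset_closure (Or.inr rfl))

theorem index_zpowers (a b : G) (ha : a * a = 1) (hb : b * b = 1)
    (hs : a ∉ Subgroup.zpowers (a * b)) :
    ((Subgroup.zpowers (a * b)).subgroupOf (Subgroup.closure ({a, b} : Set G))).index = 2 := by
  rw [Subgroup.index_eq_two_iff]
  refine ⟨⟨a, Subgroup.subset_closure (Or.inl rfl)⟩, ?_⟩
  rintro ⟨g, hg⟩
  simp only [Subgroup.mem_subgroupOf, Subgroup.coe_mul]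
  obtain ⟨i, rfl | rfl⟩ := mem_closure_pair a b ha hb hg
  · refine Or.inr ⟨Subgroup.zpow_mem _ (Subgroup.mem_zpowers _) i, fun h => hs ?_⟩
    have := Subgroup.mul_mem _ (Subgroup.zpow_mem _ (Subgroup.mem_zpowers (a * b)) (-i)) h
    rwa [← mul_assoc, ← zpow_add, neg_add_cancel, zpow_zero, one_mul] at this
  · refine Or.inl ⟨?_, fun h => hs ?_⟩
    · rw [mul_assoc, ha, mul_one]
      exact Subgroup.zpow_mem _ (Subgroup.mem_zpowers _) i
    · have := Subgroup.mul_mem _ (Subgroup.zpow_mem _ (Subgroup.mem_zpowers (a * b)) (-i)) h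
      rwa [← mul_assoc, ← zpow_add, neg_add_cancel, zpow_zero, one_mul] at this

theorem card_closure_pair (a b : G) (ha : a * a = 1) (hb : b * b = 1)
    (hs : a ∉ Subgroup.zpowers (a * b)) :
    Nat.card (Subgroup.closure ({a, b} : Set G)) = 2 * orderOf (a * b) := by
  have h1 := Subgroup.card_mul_index
    ((Subgroup.zpowers (a * b)).subgroupOf (Subgroup.closure ({a, b} : Set G)))
  rw [index_zpowers a b ha hb hs,
    Nat.card_congr (Subgroup.subgroupOfEquivOfLe (zpowers_le_closure a b)).toEquiv,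
    Nat.card_zpowers] at h1
  rw [← h1, mul_comm]

end Cfsg.Agent.Helper3.Dih
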