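import Mathlib
import Cfsg.Prelude.Def_KGroupFacts
import Cfsg.Agent.Helper3.CyclicExt

/-!
Stem extensions of a group `G = ⟨c⟩⟨s⟩` with `⟨c⟩` normal (helper3).

If `σ : Γ →* G` is a stem extension, `σ α = c`, `σ ξ = s`, then the kernel of `σ` lies in the cyclic
group generated by `β = ξ α ξ⁻¹ α⁻¹`, and `β ^ m = 1` whenever some preimage of `c ^ m` commutes
with `ξ`.
-/

set_option autoImplicit false

namespace Cfsg.Agent.Helper3

universe u v

section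

variable {Γ : Type u} {G : Type v} [Group Γ] [Group G]

/-- the preimage of `⟨c⟩`. -/
def stemN (σ : Γ →* G) (c : G) : Subgroup Γ := (Subgroup.zpowers c).comap σ

instance stemN_normal (σ : Γ →* G) (c : G) [(Subgroup.zpowers c).Normal] : (stemN σ c).Normal := by
  unfold stemN; infer_instance

theorem mem_stemN_iff (σ : Γ →* G) (c : G) (α : Γ) (hα : σ α = c) (x : Γ) :
    x ∈ stemN σ c ↔ ∃ k : ℤ, ∃ z ∈ σ.ker, x = α ^ k * z := by
  constructor
  · intro hx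
    obtain ⟨k, hk⟩ := Subgroup.mem_zpowers_iff.1 (Subgroup.mem_comap.1 hx)
    refine ⟨k, (α ^ k)⁻¹ * x, ?_, by group⟩
    rw [MonoidHom.mem_ker, map_mul, map_inv, map_zpow, hα, hk]
    group
  · rintro ⟨k, z, hz, rfl⟩
    rw [MonoidHom.mem_ker] at hz
    unfold stemN
    rw [Subgroup.mem_comap, map_mul, map_zpow, hα, hz, mul_one]
    exact Subgroup.zpow_mem_zpowers c k

theorem stemN_comm (σ : Γ →* G) (hσ : Cfsg.IsStemExtension σ) (c : G) (α : Γ) (hα : σ α = c) :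
    IsMulCommutative (stemN σ c) := by
  refine ⟨⟨?_⟩⟩
  rintro ⟨x, hx⟩ ⟨y, hy⟩
  apply Subtype.ext
  show x * y = y * x
  obtain ⟨k, z, hz, rfl⟩ := (mem_stemN_iff σ c α hα x).1 hx
  obtain ⟨l, w, hw, rfl⟩ := (mem_stemN_iff σ c α hα y).1 hy
  have hzc : ∀ g : Γ, g * z = z * g := fun g => Subgroup.mem_center_iff.1 (hσ.2.1 hz) g
  have hwc : ∀ g : Γ, g * w = w * g := fun g => Subgroup.mem_center_iff.1 (hσ.2.1 hw) g
  have hL : α ^ k * z * (α ^ l * w) = α ^ (k + l) * (z * w) := by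
    calc α ^ k * z * (α ^ l * w) = α ^ k * (z * α ^ l) * w := by group
      _ = α ^ k * (α ^ l * z) * w := by rw [hzc]
      _ = α ^ (k + l) * (z * w) := by rw [zpow_add]; group
  have hR : α ^ l * w * (α ^ k * z) = α ^ (k + l) * (z * w) := by
    calc α ^ l * w * (α ^ k * z) = α ^ l * (w * α ^ k) * z := by group
      _ = α ^ l * (α ^ k * w) * z := by rw [hwc]
      _ = α ^ (l + k) * (w * z) := by rw [zpow_add]; group
      _ = α ^ (k + l) * (z * w) := by rw [hzc w, add_comm]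
  rw [hL, hR]

theorem stemN_sup (σ : Γ →* G) (hσ : Cfsg.IsStemExtension σ) (c s : G)
    (hgen : Subgroup.zpowers c ⊔ Subgroup.zpowers s = ⊤) (ξ : Γ) (hξ : σ ξ = s) :
    stemN σ c ⊔ Subgroup.zpowers ξ = ⊤ := by
  have hker : σ.ker ≤ stemN σ c ⊔ Subgroup.zpowers ξ := by
    refine le_trans ?_ le_sup_left
    intro x hx
    rw [MonoidHom.mem_ker] at hx
    unfold stemN
    rw [Subgroup.mem_comap, hx]
    exact Subgroup.one_mem _
  rw [← Subgroup.comap_map_eq_self hker, Subgroup.map_sup, MonoidHom.map_zpowers, hξ]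
  unfold stemN
  rw [Subgroup.map_comap_eq_self_of_surjective hσ.1, hgen]
  exact Subgroup.comap_top σ

/-- The kernel of a stem extension of `⟨c⟩⟨s⟩` lies in `⟨[ξ, α]⟩`. -/
theorem stem_ker_le_zpowers (σ : Γ →* G) (hσ : Cfsg.IsStemExtension σ) (c s : G)
    [(Subgroup.zpowers c).Normal]
    (hgen : Subgroup.zpowers c ⊔ Subgroup.zpowers s = ⊤) (α ξ : Γ) (hα : σ α = c) (hξ : σ ξ = s) :
    σ.ker ≤ Subgroup.zpowers (ξ * α * ξ⁻¹ * α⁻¹) := by
  have hN := stemN_comm σ hσ c α hα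
  have hcomm := commutator_eq_commImage (stemN σ c) hN ξ (stemN_sup σ hσ c s hgen ξ hξ)
  refine le_trans hσ.2.2 ?_
  rw [hcomm]
  intro t ht
  obtain ⟨a, ha, rfl⟩ := (mem_commImage (stemN σ c) hN ξ t).1 ht
  obtain ⟨k, z, hz, rfl⟩ := (mem_stemN_iff σ c α hα a).1 ha
  have hαN : α ∈ stemN σ c := (mem_stemN_iff σ c α hα α).2 ⟨1, 1, one_mem _, by simp⟩
  have hzN : z ∈ stemN σ c := (mem_stemN_iff σ c α hα z).2 ⟨0, z, hz, by simp⟩
  have h1 : ξ * (α ^ k * z) * ξ⁻¹ * (α ^ k * z)⁻¹ =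
      ((commMap (stemN σ c) hN ξ (⟨α, hαN⟩ ^ k * ⟨z, hzN⟩) : stemN σ c) : Γ) := by
    rw [commMap_apply]; rfl
  rw [h1, map_mul, map_zpow]
  have h2 : commMap (stemN σ c) hN ξ ⟨z, hzN⟩ = 1 := by
    apply Subtype.ext
    rw [commMap_apply]
    have hzc : ξ * z = z * ξ := Subgroup.mem_center_iff.1 (hσ.2.1 hz) ξ
    show ξ * z * ξ⁻¹ * z⁻¹ = 1
    rw [hzc]; group
  rw [h2, mul_one]
  have h3 : ((commMap (stemN σ c) hN ξ ⟨α, hαN⟩ ^ k : stemN σ c) : Γ) =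
      (ξ * α * ξ⁻¹ * α⁻¹) ^ k := by
    rw [Subgroup.coe_zpow, commMap_apply]
  rw [h3]
  exact Subgroup.zpow_mem_zpowers _ k

/-- If a preimage `y` of `c ^ m` commutes with `ξ`, then `[ξ, α] ^ m = 1`. -/
theorem stem_comm_zpow_eq_one (σ : Γ →* G) (hσ : Cfsg.IsStemExtension σ) (c : G)
    [(Subgroup.zpowers c).Normal] (α ξ : Γ) (hα : σ α = c) (m : ℤ) (y : Γ) (hy : σ y = c ^ m)
    (hcomm : ξ * y = y * ξ) : (ξ * α * ξ⁻¹ * α⁻¹) ^ m = 1 := by
  have hN := stemN_comm σ hσ c α hα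
  have hαN : α ∈ stemN σ c := (mem_stemN_iff σ c α hα α).2 ⟨1, 1, one_mem _, by simp⟩
  set z := (α ^ m)⁻¹ * y with hz
  have hzker : z ∈ σ.ker := by
    rw [MonoidHom.mem_ker, hz, map_mul, map_inv, map_zpow, hα, hy]; group
  have hzN : z ∈ stemN σ c := (mem_stemN_iff σ c α hα z).2 ⟨0, z, hzker, by simp⟩
  have hyz : y = α ^ m * z := by rw [hz]; group
  have h2 : commMap (stemN σ c) hN ξ ⟨z, hzN⟩ = 1 := by
    apply Subtype.ext
    rw [commMap_apply]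
    have hzc : ξ * z = z * ξ := Subgroup.mem_center_iff.1 (hσ.2.1 hzker) ξ
    show ξ * z * ξ⁻¹ * z⁻¹ = 1
    rw [hzc]; group
  have h1 : ((commMap (stemN σ c) hN ξ (⟨α, hαN⟩ ^ m * ⟨z, hzN⟩) : stemN σ c) : Γ) = 1 := by
    rw [commMap_apply]
    show ξ * (α ^ m * z) * ξ⁻¹ * (α ^ m * z)⁻¹ = 1
    rw [← hyz, hcomm]; group
  rw [map_mul, map_zpow, h2, mul_one, Subgroup.coe_zpow, commMap_apply] at h1
  exact h1

end

end Cfsg.Agent.Helper3
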