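import Mathlib
import Cfsg.Prelude.Def_KGroupFacts
import Cfsg.Agent.Helper3.StemMeta

/-!
Stem extensions of dihedral groups (helper3): the kernel is generated by a power of one element `β`
with `β ^ n = 1`.
-/

set_option autoImplicit false

namespace Cfsg.Agent.Helper3

open DihedralGroup

theorem dih_mem_zpowers_r (n : ℕ) (x : DihedralGroup n) :
    x ∈ Subgroup.zpowers (r 1 : DihedralGroup n) ↔ ∃ i, x = r i := by
  constructor
  · intro hx
    obtain ⟨k, rfl⟩ := Subgroup.mem_zpowers_iff.1 hx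
    exact ⟨_, r_one_zpow k⟩
  · rintro ⟨i, rfl⟩
    rw [Subgroup.mem_zpowers_iff]
    refine ⟨(ZMod.cast i : ℤ), ?_⟩
    rw [r_one_zpow]
    congr 1
    exact ZMod.intCast_zmod_cast i

instance dih_zpowers_r_normal (n : ℕ) : (Subgroup.zpowers (r 1 : DihedralGroup n)).Normal := by
  refine ⟨fun x hx g => ?_⟩
  obtain ⟨i, rfl⟩ := (dih_mem_zpowers_r n x).1 hx
  rw [dih_mem_zpowers_r]
  rcases g with j | j
  · exact ⟨i, by simp⟩
  · exact ⟨-i, by simp⟩

theorem dih_gen (n : ℕ) :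
    Subgroup.zpowers (r 1 : DihedralGroup n) ⊔ Subgroup.zpowers (sr 0) = ⊤ := by
  rw [eq_top_iff]
  rintro (i | i) -
  · exact Subgroup.mem_sup_left ((dih_mem_zpowers_r n _).2 ⟨i, rfl⟩)
  · have : (sr i : DihedralGroup n) = r (-i) * sr 0 := by simp
    rw [this]
    exact Subgroup.mul_mem_sup ((dih_mem_zpowers_r n _).2 ⟨_, rfl⟩) (Subgroup.mem_zpowers _)

universe u

/-- Structure of the kernel of a stem extension of a dihedral group. -/
theorem dih_stem (n : ℕ) {Γ : Type u} [Group Γ] (σ : Γ →* DihedralGroup n)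
    (hσ : Cfsg.IsStemExtension σ) :
    ∃ β : Γ, β ^ n = 1 ∧ ∀ z ∈ σ.ker, ∃ k : ℤ, z = β ^ k ∧ (n : ℤ) ∣ 2 * k := by
  obtain ⟨α, hα⟩ := hσ.1 (r 1)
  obtain ⟨ξ, hξ⟩ := hσ.1 (sr 0)
  refine ⟨ξ * α * ξ⁻¹ * α⁻¹, ?_, ?_⟩
  · have hker : α ^ (n : ℤ) ∈ σ.ker := by
      rw [MonoidHom.mem_ker, map_zpow, hα, zpow_natCast, r_one_pow_n]
    have hcomm : ξ * α ^ (n : ℤ) = α ^ (n : ℤ) * ξ := Subgroup.mem_center_iff.1 (hσ.2.1 hker) ξ
    have := stem_comm_zpow_eq_one σ hσ (r 1) α ξ hα (n : ℤ) (α ^ (n : ℤ))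
      (by rw [map_zpow, hα]) hcomm
    rwa [zpow_natCast] at this
  · intro z hz
    have hz' := stem_ker_le_zpowers σ hσ (r 1) (sr 0) (dih_gen n) α ξ hα hξ hz
    obtain ⟨k, rfl⟩ := Subgroup.mem_zpowers_iff.1 hz'
    refine ⟨k, rfl, ?_⟩
    rw [MonoidHom.mem_ker, map_zpow] at hz
    have hβ : σ (ξ * α * ξ⁻¹ * α⁻¹) = r (-2) := by
      simp only [map_mul, map_inv, hα, hξ]
      simp only [inv_r, inv_sr, sr_mul_r, sr_mul_sr, r_mul_r]
      congr 1
      ring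
    rw [hβ, r_zpow, one_def] at hz
    have h0 : ((-2 : ZMod n) * (k : ZMod n)) = 0 := by injection hz
    have h1 : (((-2 * k : ℤ)) : ZMod n) = 0 := by push_cast; exact h0
    rw [ZMod.intCast_zmod_eq_zero_iff_dvd] at h1
    have : (2 * k : ℤ) = -(-2 * k) := by ring
    rw [this]
    exact (dvd_neg).2 h1

end Cfsg.Agent.Helper3
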