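import Mathlib
import Cfsg.Agent.Helper3.DirFacA

set_option autoImplicit false
open Cfsg

namespace Cfsg.Agent.Helper3.DirFac

open Cfsg.Agent.Lead Cfsg.FusionSystem

variable {Ω : Type*} [Group Ω] {S : Subgroup Ω}


theorem le_centralizerIn_of_comm {S₁ S₂ : Subgroup Ω} (h₁ : S₁ ≤ S)
    (hcomm : ∀ a ∈ S₁, ∀ b ∈ S₂, a * b = b * a) : S₁ ≤ centralizerIn S S₂ := by
  intro a ha
  refine ⟨h₁ ha, ?_⟩
  show a ∈ Subgroup.centralizer (S₂ : Set Ω)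
  rw [Subgroup.mem_centralizer_iff]
  intro b hb
  exact (hcomm a ha b hb).symm

/-- Strong invariance of the centralizer-type subsystem on a direct factor. -/
theorem si_cent [Finite S] (p : ℕ) [Fact p.Prime] (hS : IsPGroup p S)
    (F : FusionSystem S) (hF : F.IsSaturated p) {S₁ S₂ : Subgroup Ω} (h₁ : F.StronglyClosed S₁)
    (h₂ : F.StronglyClosed S₂) (hint : S₁ ⊓ S₂ = ⊥) (hcomm : ∀ a ∈ S₁, ∀ b ∈ S₂, a * b = b * a)
    (R' : FusionSystem S₁)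
    (hR' : ∀ P : Subgroup Ω, P ≤ S₁ → R'.Hom P = F.centralizerHom S₂ P) :
    StrongInv.SI F R' := by
  intro P Q hPQ hQT φ hφ hφQ ψ hψ
  have hPT : P ≤ S₁ := hPQ.trans hQT
  rw [hR' P hPT] at hφ
  obtain ⟨hφF, hPC, hφC, φ', hφ', hφ'ext, hφ'fix⟩ := hφ
  obtain ⟨ψh, hψh, hψhv⟩ := exists_exact_ext p hS F hF h₁ h₂ hint hQT hψ
  have hle : P ⊔ S₂ ≤ Q ⊔ S₂ := sup_le_sup_right hPQ S₂
  have hφ'Q : ∀ y : ↥(P ⊔ S₂), φ' y ∈ Q ⊔ S₂ :=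
    Fusion.sup_map_mem φ' (Q ⊔ S₂)
      (fun x => by rw [hφ'ext]; exact (le_sup_left : Q ≤ Q ⊔ S₂) (hφQ x))
      (fun x => by rw [hφ'fix]; exact (le_sup_right : S₂ ≤ Q ⊔ S₂) x.2)
  obtain ⟨χ', hχ', hχ'v⟩ := transport F hle hφ' hφ'Q hψh
  have hA1 : (P.subgroupOf Q).map ψ ≤ S₁ := by
    rintro _ ⟨q, -, rfl⟩
    exact h₁.2 Q hQT ψ hψ q
  have hpre : ∀ s ∈ S₂, ∃ (t' : Ω) (ht' : t' ∈ S₂),
      ψh ⟨t', (le_sup_right : S₂ ≤ Q ⊔ S₂) ht'⟩ = s := fun s hs =>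
    Fusion.exists_preimage_of_stronglyClosed F h₂ le_sup_right hψh s hs
  have hAle : (P.subgroupOf Q).map ψ ⊔ S₂ ≤ ((P ⊔ S₂).subgroupOf (Q ⊔ S₂)).map ψh := by
    apply sup_le
    · rintro _ ⟨q, hq, rfl⟩
      rw [SetLike.mem_coe, Subgroup.mem_subgroupOf] at hq
      refine ⟨Subgroup.inclusion le_sup_left q, ?_, hψhv q⟩
      rw [SetLike.mem_coe, Subgroup.mem_subgroupOf]
      exact (le_sup_left : P ≤ P ⊔ S₂) hq
    · intro s hs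
      obtain ⟨t', ht', htt'⟩ := hpre s hs
      refine ⟨⟨t', (le_sup_right : S₂ ≤ Q ⊔ S₂) ht'⟩, ?_, htt'⟩
      rw [SetLike.mem_coe, Subgroup.mem_subgroupOf]
      exact (le_sup_right : S₂ ≤ P ⊔ S₂) ht'
  have hχ'' : χ'.comp (Subgroup.inclusion hAle) ∈ F.Hom ((P.subgroupOf Q).map ψ ⊔ S₂) :=
    Fusion.restrict_mem F hχ' hAle
  have hχF : (χ'.comp (Subgroup.inclusion hAle)).comp (Subgroup.inclusion le_sup_left) ∈
      F.Hom ((P.subgroupOf Q).map ψ) := Fusion.restrict_mem F hχ'' le_sup_left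
  have hS₁C : S₁ ≤ centralizerIn S S₂ := le_centralizerIn_of_comm h₁.1 hcomm
  refine ⟨(χ'.comp (Subgroup.inclusion hAle)).comp (Subgroup.inclusion le_sup_left), ?_, ?_⟩
  · rw [hR' _ hA1]
    refine ⟨hχF, hA1.trans hS₁C, fun x => hS₁C (h₁.2 _ hA1 _ hχF x),
      χ'.comp (Subgroup.inclusion hAle), hχ'', fun x => rfl, ?_⟩
    intro s
    obtain ⟨t', ht', htt'⟩ := hpre s.1 s.2
    have h3 := hχ'v ⟨t', (le_sup_right : S₂ ≤ P ⊔ S₂) ht'⟩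
      ⟨⟨t', (le_sup_right : S₂ ≤ Q ⊔ S₂) ht'⟩, by
        rw [SetLike.mem_coe, Subgroup.mem_subgroupOf]
        exact (le_sup_right : S₂ ≤ P ⊔ S₂) ht', rfl⟩
    have h4 : φ' ⟨t', (le_sup_right : S₂ ≤ P ⊔ S₂) ht'⟩ = t' := hφ'fix ⟨t', ht'⟩
    show χ' ⟨(s : Ω), _⟩ = s
    have h5 : χ' ⟨(s : Ω), hAle ((le_sup_right : S₂ ≤ _) s.2)⟩ =
        χ' ⟨ψh (Subgroup.inclusion hle ⟨t', (le_sup_right : S₂ ≤ P ⊔ S₂) ht'⟩), ⟨⟨t', (le_sup_right : S₂ ≤ Q ⊔ S₂) ht'⟩, by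
        rw [SetLike.mem_coe, Subgroup.mem_subgroupOf]
        exact (le_sup_right : S₂ ≤ P ⊔ S₂) ht', rfl⟩⟩ :=
      app_congr' χ' _ _ htt'.symm
    rw [h5, h3]
    rw [← htt']
    exact app_congr' ψh _ _ h4
  · intro x hx
    have h3 := hχ'v (Subgroup.inclusion le_sup_left x)
      ⟨Subgroup.inclusion hle (Subgroup.inclusion le_sup_left x), by
        rw [SetLike.mem_coe, Subgroup.mem_subgroupOf]
        exact (le_sup_left : P ≤ P ⊔ S₂) x.2, rfl⟩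
    have h4 : ψh (Subgroup.inclusion hle (Subgroup.inclusion le_sup_left x)) =
        ψ (Subgroup.inclusion hPQ x) := hψhv (Subgroup.inclusion hPQ x)
    show χ' ⟨ψ (Subgroup.inclusion hPQ x), _⟩ = ψ ⟨φ x, hφQ x⟩
    have h5 : χ' ⟨ψ (Subgroup.inclusion hPQ x), hAle ((le_sup_left : _ ≤ (P.subgroupOf Q).map ψ ⊔ S₂) hx)⟩ =
        χ' ⟨ψh (Subgroup.inclusion hle (Subgroup.inclusion le_sup_left x)),
          ⟨Subgroup.inclusion hle (Subgroup.inclusion le_sup_left x), by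
            rw [SetLike.mem_coe, Subgroup.mem_subgroupOf]
            exact (le_sup_left : P ≤ P ⊔ S₂) x.2, rfl⟩⟩ :=
      app_congr' χ' _ _ h4.symm
    rw [h5, h3]
    have h6 : ψh ⟨φ' (Subgroup.inclusion le_sup_left x), hφ'Q _⟩ =
        ψh (Subgroup.inclusion le_sup_left ⟨φ x, hφQ x⟩) :=
      app_congr' ψh _ _ (hφ'ext x)
    rw [h6]
    exact hψhv ⟨φ x, hφQ x⟩



theorem si_full (F : FusionSystem S) {T : Subgroup Ω} (hT : F.StronglyClosed T)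
    (R : FusionSystem T) (hR : ∀ P : Subgroup Ω, P ≤ T → R.Hom P = F.Hom P) :
    StrongInv.SI F R := by
  intro P Q hPQ hQT φ hφ hφQ ψ hψ
  rw [hR P (hPQ.trans hQT)] at hφ
  obtain ⟨χ, hχ, hχv⟩ := transport F hPQ hφ hφQ hψ
  have hA1 : (P.subgroupOf Q).map ψ ≤ T := by
    rintro _ ⟨q, -, rfl⟩
    exact hT.2 Q hQT ψ hψ q
  refine ⟨χ, ?_, hχv⟩
  rw [hR _ hA1]
  exact hχ

theorem full_isSubsystemOf (F : FusionSystem S) {T : Subgroup Ω}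
    (R : FusionSystem T) (hR : ∀ P : Subgroup Ω, P ≤ T → R.Hom P = F.Hom P) :
    R.IsSubsystemOf F := by
  intro P φ hφ
  rw [← hR P (R.le_of_mem hφ).1]
  exact hφ

theorem top_stronglyClosed {T : Subgroup Ω} (R : FusionSystem T) : R.StronglyClosed T :=
  ⟨le_rfl, fun _ _ φ hφ x => (R.le_of_mem hφ).2 x⟩



/-- A map of the system defined on a subgroup containing `S` is onto that subgroup. -/
theorem range_eq_of_top_le [Finite S] (F : FusionSystem S) {U : Subgroup Ω} (hU : S ≤ U)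
    {ψ : U →* Ω} (hψ : ψ ∈ F.Hom U) : ψ.range = U := by
  have hUS : U ≤ S := Fusion.src_le F hψ
  haveI : Finite U := Fusion.finite_of_le hUS
  apply Subgroup.eq_of_le_of_card_ge
  · exact (Fusion.range_le F hψ).trans hU
  · exact (Nat.card_congr (MonoidHom.ofInjective (F.injective_of_mem hψ)).toEquiv).le

/-- An automorphism of a subgroup preserves its centre. -/
theorem aut_mem_center {T : Subgroup Ω} (α : MulAut T) {t : T}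
    (ht : ∀ x : T, t * x = x * t) (x : T) : α t * x = x * α t := by
  have := ht (α.symm x)
  have h2 := congrArg α this
  rw [map_mul, map_mul, MulEquiv.apply_symm_apply] at h2
  exact h2

/-- The extension condition for the centralizer-type subsystem on a direct factor, inside `F`. -/
theorem ext_cond_F [Finite S] (F : FusionSystem S) {S₁ S₂ : Subgroup Ω}
    (hprod : Cfsg.IsInternalDirectProduct S₁ S₂ S) (R' : FusionSystem S₁)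
    (hR' : ∀ P : Subgroup Ω, P ≤ S₁ → R'.Hom P = F.centralizerHom S₂ P) :
    ∀ α ∈ R'.autGroup S₁, ∃ β ∈ F.autGroup (S₁ ⊔ centralizerIn S S₁),
      (∀ x : S₁, ((β (Subgroup.inclusion le_sup_left x) : ↥(S₁ ⊔ centralizerIn S S₁)) : Ω) =
        ((α x : S₁) : Ω)) ∧
      ∀ c : ↥(S₁ ⊔ centralizerIn S S₁), (c : Ω) ∈ centralizerIn S S₁ →
        (c : Ω)⁻¹ * ((β c : ↥(S₁ ⊔ centralizerIn S S₁)) : Ω) ∈
          S₁ ⊓ Subgroup.centralizer (S₁ : Set Ω) := by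
  obtain ⟨hS₁, hS₂, hcomm, hint, hsup⟩ := hprod
  intro α hα
  have h0 := (Fusion.mem_autGroup_iff R' le_rfl α).mp hα
  rw [hR' S₁ le_rfl] at h0
  obtain ⟨hαF, -, -, α', hα', hα'ext, hα'fix⟩ := h0
  have hS₂C : S₂ ≤ centralizerIn S S₁ := by
    intro b hb
    refine ⟨hS₂ hb, ?_⟩
    show b ∈ Subgroup.centralizer (S₁ : Set Ω)
    rw [Subgroup.mem_centralizer_iff]
    intro a ha
    exact hcomm a ha b hb
  have hUS : S₁ ⊔ centralizerIn S S₁ = S := by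
    apply le_antisymm
    · exact sup_le hS₁ inf_le_left
    · exact hsup.ge.trans (sup_le_sup_left hS₂C S₁)
  have heq : S₁ ⊔ S₂ = S₁ ⊔ centralizerIn S S₁ := by rw [hsup, hUS]
  obtain ⟨α'', hα'', hα''v⟩ := Fusion.exists_hom_of_eq F heq hα'
  have hrange : α''.range = S₁ ⊔ centralizerIn S S₁ :=
    range_eq_of_top_le F hUS.ge hα''
  obtain ⟨β, hβ, hβv⟩ := Fusion.exists_aut_of_range_eq F hα'' hrange
  refine ⟨β, hβ, fun x => ?_, fun c hc => ?_⟩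
  · rw [hβv]
    have h1 := hα''v (x : Ω) ((le_sup_left : S₁ ≤ S₁ ⊔ S₂) x.2)
      ((le_sup_left : S₁ ≤ S₁ ⊔ centralizerIn S S₁) x.2)
    have h2 := hα'ext x
    exact h1.trans h2
  · rw [hβv]
    have hcS : (c : Ω) ∈ S₁ ⊔ S₂ := by rw [hsup]; exact hc.1
    obtain ⟨t, ht, s, hs, hts⟩ := exists_mul_of_mem_sup hcomm hcS
    have h1 := hα''v (c : Ω) hcS c.2
    have h2 : (⟨(c : Ω), hcS⟩ : ↥(S₁ ⊔ S₂)) =
        Subgroup.inclusion le_sup_left ⟨t, ht⟩ * Subgroup.inclusion le_sup_right ⟨s, hs⟩ :=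
      Subtype.ext hts
    have h3 : α'' c = ((α ⟨t, ht⟩ : S₁) : Ω) * s := by
      have : α'' c = α'' ⟨(c : Ω), c.2⟩ := rfl
      rw [this, h1, h2, map_mul, hα'ext, hα'fix]
      rfl
    rw [h3, hts]
    have hαt : ((α ⟨t, ht⟩ : S₁) : Ω) ∈ S₁ := (α ⟨t, ht⟩).2
    have hcomm2 := hcomm (t⁻¹ * ((α ⟨t, ht⟩ : S₁) : Ω)) (S₁.mul_mem (S₁.inv_mem ht) hαt) s hs
    have h4 : (t * s)⁻¹ * (((α ⟨t, ht⟩ : S₁) : Ω) * s) = t⁻¹ * ((α ⟨t, ht⟩ : S₁) : Ω) := by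
      calc (t * s)⁻¹ * (((α ⟨t, ht⟩ : S₁) : Ω) * s)
          = s⁻¹ * ((t⁻¹ * ((α ⟨t, ht⟩ : S₁) : Ω)) * s) := by group
        _ = s⁻¹ * (s * (t⁻¹ * ((α ⟨t, ht⟩ : S₁) : Ω))) := by rw [hcomm2]
        _ = t⁻¹ * ((α ⟨t, ht⟩ : S₁) : Ω) := by group
    rw [h4]
    -- `t` is central in `S₁`
    have htc : ∀ x : S₁, (⟨t, ht⟩ : S₁) * x = x * ⟨t, ht⟩ := by
      intro x
      apply Subtype.ext
      show t * (x : Ω) = (x : Ω) * t
      have hc2 := (Subgroup.mem_centralizer_iff.mp hc.2) (x : Ω) x.2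
      have hsx := hcomm (x : Ω) x.2 s hs
      have ht' : t = (c : Ω) * s⁻¹ := by rw [hts]; group
      rw [ht']
      calc (c : Ω) * s⁻¹ * (x : Ω) = (c : Ω) * (s⁻¹ * ((x : Ω) * s) * s⁻¹) := by group
        _ = (c : Ω) * (s⁻¹ * (s * (x : Ω)) * s⁻¹) := by rw [hsx]
        _ = ((c : Ω) * (x : Ω)) * s⁻¹ := by group
        _ = ((x : Ω) * (c : Ω)) * s⁻¹ := by rw [hc2]
        _ = (x : Ω) * ((c : Ω) * s⁻¹) := by group
    have hαc := aut_mem_center α htc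
    refine ⟨S₁.mul_mem (S₁.inv_mem ht) hαt, ?_⟩
    show t⁻¹ * ((α ⟨t, ht⟩ : S₁) : Ω) ∈ Subgroup.centralizer (S₁ : Set Ω)
    rw [Subgroup.mem_centralizer_iff]
    intro x hx
    have e1 := congrArg Subtype.val (htc ⟨x, hx⟩)
    have e2 := congrArg Subtype.val (hαc ⟨x, hx⟩)
    simp only [Subgroup.coe_mul] at e1 e2
    calc x * (t⁻¹ * ((α ⟨t, ht⟩ : S₁) : Ω)) = t⁻¹ * (t * x) * t⁻¹ * ((α ⟨t, ht⟩ : S₁) : Ω) := by group
      _ = t⁻¹ * (x * t) * t⁻¹ * ((α ⟨t, ht⟩ : S₁) : Ω) := by rw [e1]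
      _ = t⁻¹ * (x * ((α ⟨t, ht⟩ : S₁) : Ω)) := by group
      _ = t⁻¹ * (((α ⟨t, ht⟩ : S₁) : Ω) * x) := by rw [e2]
      _ = t⁻¹ * ((α ⟨t, ht⟩ : S₁) : Ω) * x := by group







/-- The extension condition for the centralizer-type subsystem inside the full subsystem. -/
theorem ext_cond_R (F : FusionSystem S) {S₁ S₂ : Subgroup Ω} [Finite S₁]
    (R R' : FusionSystem S₁)
    (hR : ∀ P : Subgroup Ω, P ≤ S₁ → R.Hom P = F.Hom P)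
    (hR' : ∀ P : Subgroup Ω, P ≤ S₁ → R'.Hom P = F.centralizerHom S₂ P) :
    ∀ α ∈ R'.autGroup S₁, ∃ β ∈ R.autGroup (S₁ ⊔ centralizerIn S₁ S₁),
      (∀ x : S₁, ((β (Subgroup.inclusion le_sup_left x) : ↥(S₁ ⊔ centralizerIn S₁ S₁)) : Ω) =
        ((α x : S₁) : Ω)) ∧
      ∀ c : ↥(S₁ ⊔ centralizerIn S₁ S₁), (c : Ω) ∈ centralizerIn S₁ S₁ →
        (c : Ω)⁻¹ * ((β c : ↥(S₁ ⊔ centralizerIn S₁ S₁)) : Ω) ∈
          S₁ ⊓ Subgroup.centralizer (S₁ : Set Ω) := by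
  intro α hα
  have h0 := (Fusion.mem_autGroup_iff R' le_rfl α).mp hα
  rw [hR' S₁ le_rfl] at h0
  obtain ⟨hαF, -, -, -⟩ := h0
  have hαR : S₁.subtype.comp α.toMonoidHom ∈ R.Hom S₁ := by rw [hR S₁ le_rfl]; exact hαF
  have heq : S₁ = S₁ ⊔ centralizerIn S₁ S₁ := (sup_eq_left.mpr inf_le_left).symm
  obtain ⟨a', ha', ha'v⟩ := Fusion.exists_hom_of_eq R heq hαR
  have hrange : a'.range = S₁ ⊔ centralizerIn S₁ S₁ := range_eq_of_top_le R le_sup_left ha'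
  obtain ⟨β, hβ, hβv⟩ := Fusion.exists_aut_of_range_eq R ha' hrange
  refine ⟨β, hβ, fun x => ?_, fun c hc => ?_⟩
  · rw [hβv]
    exact ha'v (x : Ω) x.2 ((le_sup_left : S₁ ≤ S₁ ⊔ centralizerIn S₁ S₁) x.2)
  · rw [hβv]
    have h1 : a' c = ((α ⟨(c : Ω), hc.1⟩ : S₁) : Ω) := ha'v (c : Ω) hc.1 c.2
    rw [h1]
    have htc : ∀ x : S₁, (⟨(c : Ω), hc.1⟩ : S₁) * x = x * ⟨(c : Ω), hc.1⟩ := by
      intro x
      apply Subtype.ext
      exact ((Subgroup.mem_centralizer_iff.mp hc.2) (x : Ω) x.2).symm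
    have hαc := aut_mem_center α htc
    have hαt : ((α ⟨(c : Ω), hc.1⟩ : S₁) : Ω) ∈ S₁ := (α ⟨(c : Ω), hc.1⟩).2
    refine ⟨S₁.mul_mem (S₁.inv_mem hc.1) hαt, ?_⟩
    show (c : Ω)⁻¹ * ((α ⟨(c : Ω), hc.1⟩ : S₁) : Ω) ∈ Subgroup.centralizer (S₁ : Set Ω)
    rw [Subgroup.mem_centralizer_iff]
    intro x hx
    have e1 := congrArg Subtype.val (htc ⟨x, hx⟩)
    have e2 := congrArg Subtype.val (hαc ⟨x, hx⟩)
    simp only [Subgroup.coe_mul] at e1 e2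
    calc x * ((c : Ω)⁻¹ * ((α ⟨(c : Ω), hc.1⟩ : S₁) : Ω))
        = (c : Ω)⁻¹ * ((c : Ω) * x) * (c : Ω)⁻¹ * ((α ⟨(c : Ω), hc.1⟩ : S₁) : Ω) := by group
      _ = (c : Ω)⁻¹ * (x * (c : Ω)) * (c : Ω)⁻¹ * ((α ⟨(c : Ω), hc.1⟩ : S₁) : Ω) := by rw [e1]
      _ = (c : Ω)⁻¹ * (x * ((α ⟨(c : Ω), hc.1⟩ : S₁) : Ω)) := by group
      _ = (c : Ω)⁻¹ * (((α ⟨(c : Ω), hc.1⟩ : S₁) : Ω) * x) := by rw [e2]
      _ = (c : Ω)⁻¹ * ((α ⟨(c : Ω), hc.1⟩ : S₁) : Ω) * x := by group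

end Cfsg.Agent.Helper3.DirFac
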