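import Mathlib
import Cfsg.Agent.S0016
import Cfsg.Agent.S0129

/-!
# Finite `p`-groups in which subgroups of the same order are isomorphic (helper3, for S4020)

`pg_cases`: such a group is cyclic, elementary abelian, quaternion of order 8, or (for odd `p`)
non-abelian of order `p^3` and exponent `p`.  Ingredients: S0016 (unique subgroup of order `p`),
S0129 (bound for a maximal normal abelian subgroup), and an explicit Heisenberg bound
`heis_card_le` (`|⟨a,b⟩| ≤ p^3` when `[a,b]` is central and `a,b,[a,b]` have order dividing `p`).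
-/

set_option linter.style.haveILetI false
set_option linter.unusedSectionVars false

namespace Cfsg.Agent.Helper3.EOC

open scoped Pointwise

section quat


open QuaternionGroup

/-- reduction mod 2 on `ZMod (2 * (2 * k))` -/
def red2 (k : ℕ) : ZMod (2 * (2 * k)) →+* ZMod 2 :=
  ZMod.castHom (dvd_mul_right 2 (2 * k)) (ZMod 2)

/-- the parity character of a generalized quaternion group `QuaternionGroup (2 * k)` -/
def chiFun (k : ℕ) : QuaternionGroup (2 * k) → Multiplicative (ZMod 2)
  | a i => Multiplicative.ofAdd (red2 k i)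
  | xa i => Multiplicative.ofAdd (red2 k i)

theorem chiFun_mul (k : ℕ) (x y : QuaternionGroup (2 * k)) :
    chiFun k (x * y) = chiFun k x * chiFun k y := by
  have hneg : ∀ u : ZMod 2, -u = u := by decide
  have hk : red2 k ((2 * k : ℕ) : ZMod (2 * (2 * k))) = 0 := by
    rw [map_natCast]
    push_cast
    have : (2 : ZMod 2) = 0 := by decide
    rw [this, zero_mul]
  rcases x with i | i <;> rcases y with j | j
  · show Multiplicative.ofAdd (red2 k (i + j)) = Multiplicative.ofAdd (red2 k i) * Multiplicative.ofAdd (red2 k j)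
    rw [map_add, ofAdd_add]
  · show Multiplicative.ofAdd (red2 k (j - i)) = Multiplicative.ofAdd (red2 k i) * Multiplicative.ofAdd (red2 k j)
    rw [map_sub, ← ofAdd_add, sub_eq_add_neg, hneg, add_comm]
  · show Multiplicative.ofAdd (red2 k (i + j)) = Multiplicative.ofAdd (red2 k i) * Multiplicative.ofAdd (red2 k j)
    rw [map_add, ofAdd_add]
  · show Multiplicative.ofAdd (red2 k (((2 * k : ℕ) : ZMod (2 * (2 * k))) + j - i)) =
      Multiplicative.ofAdd (red2 k i) * Multiplicative.ofAdd (red2 k j)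
    rw [map_sub, map_add, hk, zero_add, ← ofAdd_add, sub_eq_add_neg, hneg, add_comm]

/-- the parity character as a homomorphism -/
def chi (k : ℕ) : QuaternionGroup (2 * k) →* Multiplicative (ZMod 2) :=
  MonoidHom.mk' (chiFun k) (chiFun_mul k)

theorem chi_a (k : ℕ) (i : ZMod (2 * (2 * k))) : chi k (a i) = Multiplicative.ofAdd (red2 k i) := rfl
theorem chi_xa (k : ℕ) (i : ZMod (2 * (2 * k))) : chi k (xa i) = Multiplicative.ofAdd (red2 k i) := rfl

/-- In a generalized quaternion group of order at least 16 there are two subgroups of the same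
order, one commutative and one not. -/
theorem quat_two_subgroups (k : ℕ) (hk : 2 ≤ k) :
    ∃ H K : Subgroup (QuaternionGroup (2 * k)), Nat.card H = Nat.card K ∧
      (∀ x ∈ H, ∀ y ∈ H, x * y = y * x) ∧ ¬ (∀ x ∈ K, ∀ y ∈ K, x * y = y * x) := by
  have : NeZero (2 * k) := ⟨by omega⟩
  have : NeZero (2 * (2 * k)) := ⟨by omega⟩
  refine ⟨Subgroup.zpowers (a 1), (chi k).ker, ?_, ?_, ?_⟩
  · -- cardinalities
    have h1 : Nat.card (Subgroup.zpowers (a (1 : ZMod (2 * (2 * k))))) = 2 * (2 * k) := by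
      rw [Nat.card_zpowers, QuaternionGroup.orderOf_a_one]
    have hsurj : Function.Surjective (chi k) := by
      intro u
      have hu : ∀ u : Multiplicative (ZMod 2), u = Multiplicative.ofAdd 0 ∨ u = Multiplicative.ofAdd 1 := by
        decide
      rcases hu u with rfl | rfl
      · exact ⟨1, map_one _⟩
      · refine ⟨a 1, ?_⟩
        rw [chi_a, map_one]
    have h2 : (chi k).ker.index = 2 := by
      rw [Subgroup.index_ker, MonoidHom.range_eq_top.mpr hsurj, Subgroup.card_top]
      simp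
    have h3 := Subgroup.card_mul_index (chi k).ker
    have h4 : Nat.card (QuaternionGroup (2 * k)) = 4 * (2 * k) := by
      rw [Nat.card_eq_fintype_card, QuaternionGroup.card]
    rw [h2, h4] at h3
    rw [h1]
    omega
  · intro x hx y hy
    obtain ⟨m, rfl⟩ := Subgroup.mem_zpowers_iff.mp hx
    obtain ⟨n, rfl⟩ := Subgroup.mem_zpowers_iff.mp hy
    exact (Commute.zpow_zpow_self _ m n).eq
  · intro h
    have ha : a (2 : ZMod (2 * (2 * k))) ∈ (chi k).ker := by
      rw [MonoidHom.mem_ker, chi_a]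
      have : red2 k 2 = 0 := by
        rw [map_ofNat]; decide
      rw [this]; rfl
    have hx : xa (0 : ZMod (2 * (2 * k))) ∈ (chi k).ker := by
      rw [MonoidHom.mem_ker, chi_xa, map_zero]; rfl
    have := h _ ha _ hx
    rw [QuaternionGroup.a_mul_xa, QuaternionGroup.xa_mul_a] at this
    have h4 : (0 : ZMod (2 * (2 * k))) - 2 = 0 + 2 := by
      injection this
    have h5 : ((4 : ℕ) : ZMod (2 * (2 * k))) = 0 := by
      push_cast
      linear_combination -h4
    rw [ZMod.natCast_eq_zero_iff] at h5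
    have := Nat.le_of_dvd (by norm_num) h5
    omega

end quat

section heis
variable {G : Type*} [Group G]

theorem heis_comm1 (a b d : G) (hba : b * a = a * b * d) (hda : Commute d a) (i : ℕ) :
    b * a ^ i = a ^ i * b * d ^ i := by
  induction i with
  | zero => simp
  | succ i ih =>
    have hdai : Commute (d ^ i) a := hda.pow_left i
    calc b * a ^ (i + 1) = (b * a ^ i) * a := by rw [pow_succ, mul_assoc]
      _ = a ^ i * b * d ^ i * a := by rw [ih]
      _ = a ^ i * (b * a) * d ^ i := by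
          rw [mul_assoc (a ^ i * b), hdai.eq]; group
      _ = a ^ i * (a * b * d) * d ^ i := by rw [hba]
      _ = a ^ (i + 1) * b * d ^ (i + 1) := by
          rw [pow_succ, pow_succ']; group

theorem heis_comm2 (a b d : G) (hba : b * a = a * b * d) (hda : Commute d a) (hdb : Commute d b) (i j : ℕ) :
    b ^ j * a ^ i = a ^ i * b ^ j * d ^ (i * j) := by
  induction j with
  | zero => simp
  | succ j ih =>
    have h1 : Commute (d ^ i) (b ^ j) := (hdb.pow_left i).pow_right j
    calc b ^ (j + 1) * a ^ i = b * (b ^ j * a ^ i) := by rw [pow_succ', mul_assoc]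
      _ = b * (a ^ i * b ^ j * d ^ (i * j)) := by rw [ih]
      _ = (b * a ^ i) * b ^ j * d ^ (i * j) := by group
      _ = a ^ i * b * d ^ i * b ^ j * d ^ (i * j) := by rw [heis_comm1 a b d hba hda i]
      _ = a ^ i * b * (d ^ i * b ^ j) * d ^ (i * j) := by group
      _ = a ^ i * b * (b ^ j * d ^ i) * d ^ (i * j) := by rw [h1.eq]
      _ = a ^ i * b ^ (j + 1) * d ^ (i * (j + 1)) := by
          rw [pow_succ' b j, mul_add, mul_one, pow_add d (i * j) i]
          have h2 : Commute (d ^ i) (d ^ (i * j)) := (Commute.refl d).pow_pow i (i * j)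
          calc a ^ i * b * (b ^ j * d ^ i) * d ^ (i * j)
              = a ^ i * (b * b ^ j) * (d ^ i * d ^ (i * j)) := by group
            _ = a ^ i * (b * b ^ j) * (d ^ (i * j) * d ^ i) := by rw [h2.eq]

/-- The set of products `a^i b^j c^k`. -/
def heisSet (a b c : G) : Set G := {g | ∃ i j k : ℕ, g = a ^ i * b ^ j * c ^ k}

theorem heisSet_mul (p : ℕ) (hp : 0 < p) (a b c : G) (hc : c = a * b * a⁻¹ * b⁻¹)
    (hca : Commute c a) (hcb : Commute c b) (hcp : c ^ p = 1) {g h : G}
    (hg : g ∈ heisSet a b c) (hh : h ∈ heisSet a b c) : g * h ∈ heisSet a b c := by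
  obtain ⟨i, j, k, rfl⟩ := hg
  obtain ⟨i', j', k', rfl⟩ := hh
  set d := c ^ (p - 1) with hd
  have hdc : d * c = 1 := by
    rw [hd, ← pow_succ, Nat.sub_add_cancel hp, hcp]
  have hdinv : d = c⁻¹ := eq_inv_of_mul_eq_one_left hdc
  have hda : Commute d a := hca.pow_left _
  have hdb : Commute d b := hcb.pow_left _
  have hba : b * a = a * b * d := by
    have h0 : c * (b * a) = a * b := by rw [hc]; group
    have h00 : b * a = d * (a * b) := by
      rw [hdinv, ← h0]; group
    rw [h00]
    exact (hda.mul_right hdb).eq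
  have h1 := heis_comm2 a b d hba hda hdb i' j
  refine ⟨i + i', j + j', (p - 1) * (i' * j) + k + k', ?_⟩
  have hcka : Commute (c ^ k) (a ^ i') := (hca.pow_left k).pow_right i'
  have hckb : Commute (c ^ k) (b ^ j') := (hcb.pow_left k).pow_right j'
  have hdb' : Commute (d ^ (i' * j)) (b ^ j') := (hdb.pow_left _).pow_right _
  calc a ^ i * b ^ j * c ^ k * (a ^ i' * b ^ j' * c ^ k')
      = a ^ i * b ^ j * (c ^ k * a ^ i') * b ^ j' * c ^ k' := by group
    _ = a ^ i * b ^ j * (a ^ i' * c ^ k) * b ^ j' * c ^ k' := by rw [hcka.eq]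
    _ = a ^ i * (b ^ j * a ^ i') * (c ^ k * b ^ j') * c ^ k' := by group
    _ = a ^ i * (a ^ i' * b ^ j * d ^ (i' * j)) * (b ^ j' * c ^ k) * c ^ k' := by rw [h1, hckb.eq]
    _ = a ^ i * a ^ i' * b ^ j * (d ^ (i' * j) * b ^ j') * c ^ k * c ^ k' := by group
    _ = a ^ i * a ^ i' * b ^ j * (b ^ j' * d ^ (i' * j)) * c ^ k * c ^ k' := by rw [hdb'.eq]
    _ = a ^ (i + i') * b ^ (j + j') * c ^ ((p - 1) * (i' * j) + k + k') := by
        rw [pow_add a, pow_add b, pow_add c, pow_add c, pow_mul c, ← hd]; group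

theorem heisSet_pow_a (a b c : G) (i : ℕ) : a ^ i ∈ heisSet a b c := ⟨i, 0, 0, by simp⟩
theorem heisSet_pow_b (a b c : G) (j : ℕ) : b ^ j ∈ heisSet a b c := ⟨0, j, 0, by simp⟩
theorem heisSet_pow_c (a b c : G) (k : ℕ) : c ^ k ∈ heisSet a b c := ⟨0, 0, k, by simp⟩

theorem inv_eq_pow_pred {x : G} (p : ℕ) (hp : 0 < p) (hx : x ^ p = 1) : x⁻¹ = x ^ (p - 1) := by
  apply inv_eq_of_mul_eq_one_right
  rw [← pow_succ', Nat.sub_add_cancel hp, hx]

/-- Heisenberg bound: if `c = [a,b]` commutes with `a` and `b` and `a^p = b^p = c^p = 1`, then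
`⟨a, b⟩` has at most `p^3` elements. -/
theorem heis_card_le (p : ℕ) (hp : 0 < p) (a b c : G) (ha : a ^ p = 1) (hb : b ^ p = 1)
    (hc : c = a * b * a⁻¹ * b⁻¹) (hca : Commute c a) (hcb : Commute c b) (hcp : c ^ p = 1) :
    Nat.card (Subgroup.closure ({a, b} : Set G)) ≤ p ^ 3 := by
  have hmul := fun {g h : G} => heisSet_mul p hp a b c hc hca hcb hcp (g := g) (h := h)
  let T : Subgroup G :=
    { carrier := heisSet a b c
      mul_mem' := fun hg hh => hmul hg hh
      one_mem' := ⟨0, 0, 0, by simp⟩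
      inv_mem' := by
        rintro g ⟨i, j, k, rfl⟩
        have : (a ^ i * b ^ j * c ^ k)⁻¹ = (c ^ (p - 1)) ^ k * (b ^ (p - 1)) ^ j * (a ^ (p - 1)) ^ i := by
          rw [← inv_eq_pow_pred p hp hcp, ← inv_eq_pow_pred p hp hb, ← inv_eq_pow_pred p hp ha]
          group
        rw [this, ← pow_mul, ← pow_mul, ← pow_mul]
        exact hmul (hmul (heisSet_pow_c a b c _) (heisSet_pow_b a b c _)) (heisSet_pow_a a b c _) }
  have hle : Subgroup.closure ({a, b} : Set G) ≤ T := by
    rw [Subgroup.closure_le]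
    rintro x (rfl | rfl)
    · exact ⟨1, 0, 0, by simp⟩
    · exact ⟨0, 1, 0, by simp⟩
  have : NeZero p := ⟨hp.ne'⟩
  let f : Fin p × Fin p × Fin p → T := fun t =>
    ⟨a ^ (t.1 : ℕ) * b ^ (t.2.1 : ℕ) * c ^ (t.2.2 : ℕ), ⟨_, _, _, rfl⟩⟩
  have hf : Function.Surjective f := by
    rintro ⟨g, i, j, k, rfl⟩
    refine ⟨(⟨i % p, Nat.mod_lt _ hp⟩, ⟨j % p, Nat.mod_lt _ hp⟩, ⟨k % p, Nat.mod_lt _ hp⟩), ?_⟩
    apply Subtype.ext
    show a ^ (i % p) * b ^ (j % p) * c ^ (k % p) = a ^ i * b ^ j * c ^ k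
    rw [← pow_eq_pow_mod i ha, ← pow_eq_pow_mod j hb, ← pow_eq_pow_mod k hcp]
  haveI : Finite T := Finite.of_surjective f hf
  have hT : Nat.card T ≤ p ^ 3 := by
    have := Nat.card_le_card_of_surjective f hf
    simpa [Nat.card_prod, pow_succ, mul_assoc] using this
  exact le_trans (Subgroup.card_le_of_le hle) hT

end heis
section pg
variable {Q : Type*} [Group Q] [Finite Q]

/-- a subgroup of prime order is generated by any of its non-identity elements -/
theorem zpowers_eq_of_card_prime {p : ℕ} [hp : Fact p.Prime] (H : Subgroup Q) (hH : Nat.card H = p)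
    {h : Q} (hh : h ∈ H) (h1 : h ≠ 1) : Subgroup.zpowers h = H := by
  have hle : Subgroup.zpowers h ≤ H := Subgroup.zpowers_le.mpr hh
  apply Subgroup.eq_of_le_of_card_ge hle
  rw [hH, Nat.card_zpowers]
  have hdvd : orderOf h ∣ p := by
    rw [← hH]
    have := Subgroup.orderOf_dvd_natCard H hh
    exact this
  rcases (Nat.dvd_prime hp.out).mp hdvd with h0 | h0
  · exact absurd (orderOf_eq_one_iff.mp h0) h1
  · exact h0.ge

/-- If a finite `p`-group has two different subgroups of order `p`, and subgroups of equal order are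
isomorphic, then the group has exponent `p`. -/
theorem exp_p_of_two_subgroups (p : ℕ) [hp : Fact p.Prime] (hQ : IsPGroup p Q)
    (hiso : ∀ H K : Subgroup Q, Nat.card H = Nat.card K → Nonempty (H ≃* K))
    (H K : Subgroup Q) (hH : Nat.card H = p) (hK : Nat.card K = p) (hne : H ≠ K) :
    ∀ x : Q, x ^ p = 1 := by
  have hp1 : 1 < p := hp.out.one_lt
  -- a central element of order p
  have : Nontrivial Q := by
    by_contra hnt
    rw [not_nontrivial_iff_subsingleton] at hnt
    have : Nat.card H = 1 := Nat.card_eq_one_iff_unique.mpr ⟨inferInstance, ⟨1⟩⟩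
    omega
  have := hQ.center_nontrivial
  have hZp : IsPGroup p (Subgroup.center Q) := hQ.to_subgroup _
  obtain ⟨n, hn⟩ := IsPGroup.iff_card.mp hZp
  have hn0 : n ≠ 0 := by
    rintro rfl
    rw [pow_zero] at hn
    have := (Subgroup.center Q).one_lt_card_iff_ne_bot.mpr (Subgroup.nontrivial_iff_ne_bot _ |>.mp inferInstance)
    omega
  have hdvd : p ∣ Nat.card (Subgroup.center Q) := by
    rw [hn]; exact dvd_pow_self p hn0
  obtain ⟨z0, hz0⟩ := exists_prime_orderOf_dvd_card' p hdvd
  set z : Q := (z0 : Q) with hzdef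
  have hzc : z ∈ Subgroup.center Q := z0.2
  have hzo : orderOf z = p := by rw [hzdef, Subgroup.orderOf_coe]; exact hz0
  have hz1 : z ≠ 1 := by
    intro h; rw [h, orderOf_one] at hzo; omega
  have hzp : z ^ p = 1 := by rw [← hzo]; exact pow_orderOf_eq_one z
  -- a subgroup of order p different from ⟨z⟩
  obtain ⟨H', hH', hne'⟩ : ∃ H' : Subgroup Q, Nat.card H' = p ∧ H' ≠ Subgroup.zpowers z := by
    by_cases h : H = Subgroup.zpowers z
    · exact ⟨K, hK, fun h' => hne (h.trans h'.symm)⟩
    · exact ⟨H, hH, h⟩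
  have hzH' : z ∉ H' := fun hz => hne' (zpowers_eq_of_card_prime H' hH' hz hz1).symm
  -- B = H' ⊔ ⟨z⟩ has exponent p
  set B := H' ⊔ Subgroup.zpowers z with hB
  have hZn : (Subgroup.zpowers z).Normal := by
    constructor
    intro n hn g
    obtain ⟨k, rfl⟩ := Subgroup.mem_zpowers_iff.mp hn
    have : g * z ^ k * g⁻¹ = z ^ k := by
      have hc : Commute g (z ^ k) := (show Commute g z from Subgroup.mem_center_iff.mp hzc g).zpow_right k
      rw [hc.eq]; group
    rw [this]; exact Subgroup.zpow_mem_zpowers z k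
  have hBexp : ∀ b ∈ B, b ^ p = 1 := by
    intro b hb
    have : b ∈ ((H' : Set Q) * (Subgroup.zpowers z : Set Q)) := by
      rw [← Subgroup.mul_normal]; exact hb
    obtain ⟨h, hh, w, hw, rfl⟩ := Set.mem_mul.mp this
    obtain ⟨k, rfl⟩ := Subgroup.mem_zpowers_iff.mp hw
    have hcomm : Commute h (z ^ k) := by
      have : Commute h z := Subgroup.mem_center_iff.mp hzc h
      exact this.zpow_right k
    rw [hcomm.mul_pow]
    have h1 : h ^ p = 1 := by
      have := Subgroup.orderOf_dvd_natCard H' hh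
      rw [hH'] at this
      exact orderOf_dvd_iff_pow_eq_one.mp this
    rw [h1, ← zpow_natCast, ← zpow_mul, mul_comm, zpow_mul, zpow_natCast, hzp, one_zpow, mul_one]
  -- B has order at least p^2
  have hH'B : H' ≤ B := le_sup_left
  have hzB : z ∈ B := (le_sup_right : Subgroup.zpowers z ≤ B) (Subgroup.mem_zpowers z)
  have hlt : Nat.card H' < Nat.card B := by
    refine lt_of_le_of_ne (Subgroup.card_le_of_le hH'B) ?_
    intro hcard
    have := Subgroup.eq_of_le_of_card_ge hH'B hcard.ge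
    exact hzH' (this ▸ hzB)
  have hBp : IsPGroup p B := hQ.to_subgroup _
  obtain ⟨m, hm⟩ := IsPGroup.iff_card.mp hBp
  have hm2 : 2 ≤ m := by
    by_contra hlt2
    have : m ≤ 1 := by omega
    have : p ^ m ≤ p ^ 1 := Nat.pow_le_pow_right hp.out.pos this
    rw [pow_one] at this
    omega
  have hdvd2 : p ^ 2 ∣ Nat.card B := by rw [hm]; exact pow_dvd_pow p hm2
  obtain ⟨B0, hB0⟩ := Sylow.exists_subgroup_card_pow_prime p hdvd2
  set B' : Subgroup Q := B0.map B.subtype with hB'
  have hB'card : Nat.card B' = p ^ 2 := by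
    rw [hB', Subgroup.card_map_of_injective B.subtype_injective, hB0]
  have hB'exp : ∀ b ∈ B', b ^ p = 1 := by
    rintro _ ⟨b, -, rfl⟩
    exact hBexp _ b.2
  -- now the main argument
  intro x
  by_contra hx
  obtain ⟨k, hk⟩ := (IsPGroup.iff_orderOf.mp hQ) x
  have hk2 : 2 ≤ k := by
    by_contra hlt2
    have hk1 : k ≤ 1 := by omega
    have : orderOf x ∣ p := by
      rw [hk]
      calc p ^ k ∣ p ^ 1 := pow_dvd_pow p hk1
        _ = p := pow_one p
    exact hx (orderOf_dvd_iff_pow_eq_one.mp this)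
  set y := x ^ (p ^ (k - 2)) with hy
  have hyo : orderOf y = p ^ 2 := by
    rw [hy, orderOf_pow_of_dvd (pow_ne_zero _ hp.out.ne_zero) (by rw [hk]; exact pow_dvd_pow p (by omega)), hk]
    rw [Nat.pow_div (by omega) hp.out.pos]
    congr 1; omega
  have hCcard : Nat.card (Subgroup.zpowers y) = Nat.card B' := by
    rw [Nat.card_zpowers, hyo, hB'card]
  obtain ⟨e⟩ := hiso _ _ hCcard
  set w := e ⟨y, Subgroup.mem_zpowers y⟩ with hw
  have hwo : orderOf w = p ^ 2 := by
    rw [hw, MulEquiv.orderOf_eq, Subgroup.orderOf_mk, hyo]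
  have hwp : w ^ p = 1 := by
    apply Subtype.ext
    rw [Subgroup.coe_pow, Subgroup.coe_one]
    exact hB'exp _ w.2
  have := orderOf_dvd_iff_pow_eq_one.mpr hwp
  rw [hwo] at this
  have h3 : p ^ 2 ≤ p := Nat.le_of_dvd hp.out.pos this
  nlinarith

end pg
section pg2
variable {Q : Type*} [Group Q] [Finite Q]

/-- groups of order `p^j`, `j ≤ 2`, are commutative -/
theorem comm_of_card_pow_le_two {X : Type*} [Group X] (p : ℕ) [hp : Fact p.Prime] (j : ℕ) (hj : j ≤ 2)
    (hX : Nat.card X = p ^ j) : ∀ a b : X, a * b = b * a := by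
  interval_cases j
  · rw [pow_zero] at hX
    have := (Nat.card_eq_one_iff_unique.mp hX).1
    intro a b; exact Subsingleton.elim _ _
  · rw [pow_one] at hX
    have := isCyclic_of_prime_card hX
    intro a b
    letI := IsCyclic.commGroup (α := X)
    exact mul_comm a b
  · exact fun a b => (IsPGroup.isMulCommutative_of_card_eq_prime_sq hX).is_comm.comm a b

/-- A noncommutative finite `p`-group of exponent `p` in which subgroups of equal order are
isomorphic has order `p^3`. -/
theorem card_cube_of_noncomm (p : ℕ) [hp : Fact p.Prime] (hQ : IsPGroup p Q)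
    (hiso : ∀ H K : Subgroup Q, Nat.card H = Nat.card K → Nonempty (H ≃* K))
    (hexp : ∀ x : Q, x ^ p = 1) (hnc : ¬ ∀ a b : Q, a * b = b * a) :
    Nat.card Q = p ^ 3 := by
  obtain ⟨k, hk⟩ := IsPGroup.iff_card.mp hQ
  have hk3 : 3 ≤ k := by
    by_contra hlt
    exact hnc (comm_of_card_pow_le_two p k (by omega) hk)
  -- non-commuting pair with central commutator
  set Z := Subgroup.center Q with hZ
  have hZtop : Z ≠ ⊤ := by
    intro h
    apply hnc
    intro a b
    have : b ∈ Z := h ▸ Subgroup.mem_top b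
    exact (Subgroup.mem_center_iff.mp this a)
  have hQZ : IsPGroup p (Q ⧸ Z) := hQ.to_quotient Z
  haveI : Nontrivial (Q ⧸ Z) := by
    by_contra hnt
    rw [not_nontrivial_iff_subsingleton] at hnt
    apply hZtop
    rw [eq_top_iff]
    intro g _
    have : (QuotientGroup.mk g : Q ⧸ Z) = 1 := Subsingleton.elim _ _
    exact (QuotientGroup.eq_one_iff g).mp this
  have hcn := hQZ.center_nontrivial
  obtain ⟨⟨abar, habar⟩, hne⟩ := exists_ne (1 : Subgroup.center (Q ⧸ Z))
  obtain ⟨a0, rfl⟩ := QuotientGroup.mk_surjective abar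
  have ha0Z : a0 ∉ Z := by
    intro h
    apply hne
    apply Subtype.ext
    exact (QuotientGroup.eq_one_iff a0).mpr h
  have hcomm : ∀ g : Q, a0 * g * a0⁻¹ * g⁻¹ ∈ Z := by
    intro g
    rw [← QuotientGroup.eq_one_iff]
    have h1 := Subgroup.mem_center_iff.mp habar (QuotientGroup.mk g)
    have : ((a0 * g * a0⁻¹ * g⁻¹ : Q) : Q ⧸ Z) =
        (QuotientGroup.mk a0 : Q ⧸ Z) * QuotientGroup.mk g * (QuotientGroup.mk a0)⁻¹ * (QuotientGroup.mk g)⁻¹ := rfl
    rw [this, ← h1]; group
  obtain ⟨b0, hb0⟩ : ∃ b0 : Q, b0 * a0 ≠ a0 * b0 := by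
    by_contra h
    push Not at h
    exact ha0Z (Subgroup.mem_center_iff.mpr h)
  set c := a0 * b0 * a0⁻¹ * b0⁻¹ with hc
  have hcZ : c ∈ Z := hcomm b0
  have hca : Commute c a0 := (Subgroup.mem_center_iff.mp hcZ a0).symm
  have hcb : Commute c b0 := (Subgroup.mem_center_iff.mp hcZ b0).symm
  have hHle := heis_card_le p hp.out.pos a0 b0 c (hexp a0) (hexp b0) hc hca hcb (hexp c)
  set H := Subgroup.closure ({a0, b0} : Set Q) with hH
  have hHnc : ¬ ∀ x y : H, x * y = y * x := by
    intro h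
    have ha : a0 ∈ H := Subgroup.subset_closure (Set.mem_insert _ _)
    have hb : b0 ∈ H := Subgroup.subset_closure (Set.mem_insert_of_mem _ (Set.mem_singleton _))
    have := h ⟨b0, hb⟩ ⟨a0, ha⟩
    exact hb0 (congrArg Subtype.val this)
  obtain ⟨j, hj⟩ := IsPGroup.iff_card.mp (hQ.to_subgroup H)
  have hj3 : 3 ≤ j := by
    by_contra hlt
    exact hHnc (comm_of_card_pow_le_two p j (by omega) hj)
  have hHcard : Nat.card H = p ^ 3 := by
    apply le_antisymm hHle
    rw [hj]; exact Nat.pow_le_pow_right hp.out.pos hj3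
  -- now suppose the order is at least p^4
  by_contra hne3
  have hk4 : 4 ≤ k := by
    rcases Nat.lt_or_ge k 4 with h | h
    · exfalso; apply hne3; rw [hk]; congr 1; omega
    · exact h
  -- a maximal normal abelian subgroup
  obtain ⟨A, ⟨hAn, hAc⟩, hAmax⟩ := Set.exists_max_image
    {A : Subgroup Q | A.Normal ∧ ∀ x ∈ A, ∀ y ∈ A, x * y = y * x} (fun A => Nat.card A)
    (Set.toFinite _) ⟨⊥, ⟨inferInstance, by
      intro x hx y hy
      rw [Subgroup.mem_bot] at hx hy
      rw [hx, hy]⟩⟩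
  haveI := hAn
  have hAcomm : IsMulCommutative A := ⟨⟨fun x y => Subtype.ext (hAc x x.2 y y.2)⟩⟩
  have hmax : ∀ B : Subgroup Q, B.Normal → IsMulCommutative B → A ≤ B → B = A := by
    intro B hBn hBc hAB
    have h1 : Nat.card B ≤ Nat.card A := hAmax B ⟨hBn, fun x hx y hy =>
      congrArg Subtype.val (hBc.is_comm.comm ⟨x, hx⟩ ⟨y, hy⟩)⟩
    exact (Subgroup.eq_of_le_of_card_ge hAB h1).symm
  obtain ⟨a, ha⟩ := IsPGroup.iff_card.mp (hQ.to_subgroup A)
  have hbound := Cfsg.Agent.S0129.result hQ A hAcomm hmax a ha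
  have ha3 : 3 ≤ a := by
    by_contra hlt
    have h2 : a * (a + 1) / 2 ≤ 3 := by
      have : a ≤ 2 := by omega
      interval_cases a <;> norm_num
    have h3 : p ^ (a * (a + 1) / 2) ≤ p ^ 3 := Nat.pow_le_pow_right hp.out.pos h2
    have h4 : p ^ 4 ≤ p ^ k := Nat.pow_le_pow_right hp.out.pos hk4
    have h5 : p ^ 3 < p ^ 4 := Nat.pow_lt_pow_right hp.out.one_lt (by norm_num)
    rw [hk] at hbound
    omega
  have hdvd : p ^ 3 ∣ Nat.card A := by rw [ha]; exact pow_dvd_pow p ha3
  obtain ⟨A0, hA0⟩ := Sylow.exists_subgroup_card_pow_prime p hdvd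
  set A3 : Subgroup Q := A0.map A.subtype with hA3
  have hA3card : Nat.card A3 = p ^ 3 := by
    rw [hA3, Subgroup.card_map_of_injective A.subtype_injective, hA0]
  have hA3c : ∀ x ∈ A3, ∀ y ∈ A3, x * y = y * x := by
    rintro _ ⟨x, -, rfl⟩ _ ⟨y, -, rfl⟩
    exact hAc _ x.2 _ y.2
  obtain ⟨e⟩ := hiso H A3 (by rw [hHcard, hA3card])
  apply hHnc
  intro x y
  apply e.injective
  rw [map_mul, map_mul]
  exact Subtype.ext (hA3c _ (e x).2 _ (e y).2)

end pg2
section pg3

theorem comm_of_mulEquiv {A B : Type*} [Mul A] [Mul B] (f : A ≃* B) (h : ∀ a b : A, a * b = b * a) :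
    ∀ a b : B, a * b = b * a := fun a b =>
  f.symm.injective (by rw [map_mul, map_mul, h])

theorem quat_two_subgroups' (m k : ℕ) (hm : m = 2 * k) (hk : 2 ≤ k) :
    ∃ H K : Subgroup (QuaternionGroup m), Nat.card H = Nat.card K ∧
      (∀ x ∈ H, ∀ y ∈ H, x * y = y * x) ∧ ¬ (∀ x ∈ K, ∀ y ∈ K, x * y = y * x) := by
  subst hm
  exact quat_two_subgroups k hk

/-- a finite group isomorphic to a generalized quaternion group of order at least 16 has two
non-isomorphic subgroups of the same order -/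
theorem not_iso_quat {Q : Type*} [Group Q] [Finite Q] (m k : ℕ) (hm : m = 2 * k) (hk : 2 ≤ k)
    (e : Q ≃* QuaternionGroup m)
    (hiso : ∀ H K : Subgroup Q, Nat.card H = Nat.card K → Nonempty (H ≃* K)) : False := by
  obtain ⟨H, K, hcard, hHc, hKnc⟩ := quat_two_subgroups' m k hm hk
  have hinj : Function.Injective e.symm.toMonoidHom := e.symm.injective
  set H' := H.map e.symm.toMonoidHom with hH'
  set K' := K.map e.symm.toMonoidHom with hK'
  have eH : H ≃* H' := Subgroup.equivMapOfInjective H _ hinj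
  have eK : K ≃* K' := Subgroup.equivMapOfInjective K _ hinj
  have hc' : Nat.card H' = Nat.card K' := by
    rw [hH', hK', Subgroup.card_map_of_injective hinj, Subgroup.card_map_of_injective hinj, hcard]
  obtain ⟨f⟩ := hiso H' K' hc'
  have h1 : ∀ a b : H, a * b = b * a := fun a b => Subtype.ext (hHc _ a.2 _ b.2)
  have h2 : ∀ a b : K, a * b = b * a :=
    comm_of_mulEquiv ((eH.trans f).trans eK.symm) h1
  exact hKnc fun x hx y hy => congrArg Subtype.val (h2 ⟨x, hx⟩ ⟨y, hy⟩)

/-- Structure of a finite `p`-group in which subgroups of the same order are isomorphic. -/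
theorem pg_cases {Q : Type*} [Group Q] [Finite Q] (p : ℕ) [hp : Fact p.Prime] (hQ : IsPGroup p Q)
    (hiso : ∀ H K : Subgroup Q, Nat.card H = Nat.card K → Nonempty (H ≃* K)) :
    IsCyclic Q ∨ ((∀ a b : Q, a * b = b * a) ∧ ∀ a : Q, a ^ p = 1) ∨
      Nonempty (Q ≃* QuaternionGroup 2) ∨
      (p ≠ 2 ∧ Nat.card Q = p ^ 3 ∧ (∀ a : Q, a ^ p = 1) ∧ ¬ (∀ a b : Q, a * b = b * a)) := by
  by_cases huniq : ∀ H K : Subgroup Q, Nat.card H = p → Nat.card K = p → H = K
  · rcases Cfsg.Agent.S0016.result p hQ huniq with h | ⟨_, n, ⟨e⟩⟩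
    · left; exact h
    · rcases n with _ | _ | n
      · left
        have e' : Q ≃* QuaternionGroup 1 := e
        have := QuaternionGroup.quaternionGroup_one_isCyclic
        exact isCyclic_of_surjective e'.symm e'.symm.surjective
      · right; right; left
        have e' : Q ≃* QuaternionGroup 2 := e
        exact ⟨e'⟩
      · exfalso
        refine not_iso_quat (2 ^ (n + 1 + 1)) (2 ^ (n + 1)) (by ring) ?_ e hiso
        calc 2 = 2 ^ 1 := (pow_one 2).symm
          _ ≤ 2 ^ (n + 1) := Nat.pow_le_pow_right (by norm_num) (by omega)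
  · push Not at huniq
    obtain ⟨H, K, hH, hK, hne⟩ := huniq
    have hexp := exp_p_of_two_subgroups p hQ hiso H K hH hK hne
    by_cases hc : ∀ a b : Q, a * b = b * a
    · right; left; exact ⟨hc, hexp⟩
    · by_cases h2 : p = 2
      · exfalso
        apply hc
        intro a b
        have hinv : ∀ x : Q, x⁻¹ = x := fun x =>
          inv_eq_of_mul_eq_one_left (by rw [← sq, ← h2]; exact hexp x)
        calc a * b = (a * b)⁻¹ := (hinv _).symm
          _ = b⁻¹ * a⁻¹ := mul_inv_rev a b
          _ = b * a := by rw [hinv a, hinv b]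
      · right; right; right
        exact ⟨h2, card_cube_of_noncomm p hQ hiso hexp hc, hexp, hc⟩

end pg3

end Cfsg.Agent.Helper3.EOC
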