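import Mathlib
import Cfsg.Agent.Helper3.EOC_PG
import Cfsg.Agent.S0215

/-!
# S4020 (helper3): Sylow structure when `p`-subgroups of equal order are conjugate

Main results: `heis_false` (a Sylow `p`-subgroup, `p` odd, cannot be non-abelian of order `p^3` and
exponent `p`) and `two_part_false` (the 2-local part, using the Z*-theorem S0215 for quaternion
Sylow 2-subgroups and Burnside's transfer theorem for cyclic ones).

Sketch.  Let `Z = ⟨z⟩` be the centre of `P` and `x ∈ P` non-central with `g z g⁻¹ = x`.  Sylow's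
theorem in `C_G(x)` gives `s` with `s z s⁻¹ = x` and `z = s v s⁻¹`, `v ∈ P` non-central.  Elements
`y ∈ P` and `y' = s y₀ s⁻¹` then act on `⟨z, x⟩` as two different transvection groups, and a product
`c = y^i y'^j y^i` satisfies `c x c⁻¹ = z`, `c z c⁻¹ = x⁻¹`; so `c²` inverts `x` and `c` has even
order.  The 2-part of `c` shows that a Sylow 2-subgroup is cyclic or quaternion of order 8, and
either way there is a normal subgroup of odd order containing `x`, hence all of `P` and `c`.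
-/

set_option linter.style.haveILetI false
set_option linter.unusedSectionVars false

namespace Cfsg.Agent.Helper3.EOC

/-- the hypothesis of S4020: `p`-subgroups of the same order are conjugate -/
def EqOrdConj (G : Type*) [Group G] : Prop :=
  ∀ p : ℕ, p.Prime → ∀ H K : Subgroup G, IsPGroup p H → IsPGroup p K → Nat.card H = Nat.card K →
      ∃ g : G, K = H.map (MulAut.conj g).toMonoidHom

/-- structure of a non-abelian group of order `p^3`: the centre has order `p` and contains all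
commutators -/
theorem heis_struct {Q : Type*} [Group Q] [Finite Q] (p : ℕ) [hp : Fact p.Prime]
    (hcard : Nat.card Q = p ^ 3) (hnc : ¬ ∀ a b : Q, a * b = b * a) :
    ∃ z : Q, z ≠ 1 ∧ orderOf z = p ∧ Subgroup.center Q = Subgroup.zpowers z ∧
      ∀ a b : Q, a * b * a⁻¹ * b⁻¹ ∈ Subgroup.zpowers z := by
  have hQ : IsPGroup p Q := IsPGroup.of_card hcard
  set Z := Subgroup.center Q with hZ
  obtain ⟨k, hk0, hk⟩ := IsPGroup.card_center_eq_prime_pow hcard (by norm_num)
  have hk3 : k ≤ 3 := by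
    have h1 : Nat.card Z ∣ Nat.card Q := Subgroup.card_subgroup_dvd_card Z
    rw [hk, hcard] at h1
    exact (Nat.pow_dvd_pow_iff_le_right hp.out.one_lt).mp h1
  have hidx : Nat.card Z * Z.index = Nat.card Q := Subgroup.card_mul_index Z
  have hZtop : Z ≠ ⊤ := by
    intro h
    apply hnc
    intro a b
    have : b ∈ Z := h ▸ Subgroup.mem_top b
    exact (Subgroup.mem_center_iff.mp this a)
  have hk1 : k = 1 := by
    have hk3' : k ≠ 3 := by
      rintro rfl
      exact hZtop (Subgroup.eq_top_of_card_eq Z (by rw [hk, hcard]))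
    have hk2' : k ≠ 2 := by
      rintro rfl
      apply hnc
      have hi : Z.index = p := by
        rw [hk, hcard] at hidx
        have hpos : 0 < p ^ 2 := pow_pos hp.out.pos 2
        have : p ^ 2 * Z.index = p ^ 2 * p := by rw [hidx]; ring
        exact Nat.eq_of_mul_eq_mul_left hpos this
      have hq : Nat.card (Q ⧸ Z) = p := by rw [← Subgroup.index_eq_card]; exact hi
      haveI : IsCyclic (Q ⧸ Subgroup.center Q) := isCyclic_of_prime_card hq
      exact fun a b => (isMulCommutative_of_isCyclic_quotient_center_self Q).is_comm.comm a b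
    omega
  subst hk1
  rw [pow_one] at hk
  -- quotient of order p^2 is commutative
  have hi : Z.index = p ^ 2 := by
    rw [hk, hcard] at hidx
    have : p * Z.index = p * p ^ 2 := by rw [hidx]; ring
    exact Nat.eq_of_mul_eq_mul_left hp.out.pos this
  have hq : Nat.card (Q ⧸ Z) = p ^ 2 := by rw [← Subgroup.index_eq_card]; exact hi
  have hqc := comm_of_card_pow_le_two p 2 le_rfl hq
  have hne : Z ≠ ⊥ := by
    rw [← Subgroup.one_lt_card_iff_ne_bot, hk]; exact hp.out.one_lt
  obtain ⟨⟨z, hzZ⟩, hz1⟩ := (Subgroup.ne_bot_iff_exists_ne_one).mp hne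
  have hz1' : z ≠ 1 := fun h => hz1 (Subtype.ext h)
  have hZz : Subgroup.zpowers z = Z := zpowers_eq_of_card_prime Z hk hzZ hz1'
  refine ⟨z, hz1', ?_, hZz.symm, ?_⟩
  · rw [← Nat.card_zpowers, hZz, hk]
  · intro a b
    rw [hZz, ← QuotientGroup.eq_one_iff]
    have : ((a * b * a⁻¹ * b⁻¹ : Q) : Q ⧸ Z) =
        (QuotientGroup.mk a : Q ⧸ Z) * QuotientGroup.mk b * (QuotientGroup.mk a)⁻¹ * (QuotientGroup.mk b)⁻¹ := rfl
    rw [this, hqc (QuotientGroup.mk a) (QuotientGroup.mk b)]; group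


section main
variable {G : Type*} [Group G] [Finite G]

/-- subgroups of equal order of a `p`-subgroup are isomorphic -/
theorem hiso_of_eqOrdConj (hD : EqOrdConj G) {p : ℕ} [hp : Fact p.Prime] (P : Subgroup G)
    (hP : IsPGroup p P) (H K : Subgroup P) (hc : Nat.card H = Nat.card K) : Nonempty (H ≃* K) := by
  have hinj : Function.Injective P.subtype := P.subtype_injective
  have hH1 : IsPGroup p (H.map P.subtype) := hP.to_le (Subgroup.map_subtype_le H)
  have hK1 : IsPGroup p (K.map P.subtype) := hP.to_le (Subgroup.map_subtype_le K)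
  have hc1 : Nat.card (H.map P.subtype) = Nat.card (K.map P.subtype) := by
    rw [Subgroup.card_map_of_injective hinj, Subgroup.card_map_of_injective hinj, hc]
  obtain ⟨g, hg⟩ := hD p hp.out _ _ hH1 hK1 hc1
  have e1 : H ≃* H.map P.subtype := Subgroup.equivMapOfInjective H _ hinj
  have e2 : K ≃* K.map P.subtype := Subgroup.equivMapOfInjective K _ hinj
  have e3 : H.map P.subtype ≃* (H.map P.subtype).map (MulAut.conj g).toMonoidHom :=
    Subgroup.equivMapOfInjective _ _ (MulAut.conj g).injective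
  exact ⟨(e1.trans e3).trans ((MulEquiv.subgroupCongr hg.symm).trans e2.symm)⟩

theorem conj_pow_fix (Y Z : G) (h : MulAut.conj Y Z = Z) (i : ℕ) : MulAut.conj (Y ^ i) Z = Z := by
  induction i with
  | zero => simp
  | succ i ih => rw [pow_succ, map_mul, MulAut.mul_apply, h, ih]

theorem conj_pow_transv (Y X Z1 : G) (h1 : MulAut.conj Y Z1 = Z1) (h2 : MulAut.conj Y X = Z1 * X)
    (i : ℕ) : MulAut.conj (Y ^ i) X = Z1 ^ i * X := by
  induction i with
  | zero => simp
  | succ i ih =>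
    rw [pow_succ', map_mul, MulAut.mul_apply, ih, map_mul, map_pow, h1, h2, pow_succ, mul_assoc]

theorem tv_conj (X Z Y Y' : G) (hXZ : Commute X Z)
    (h1 : MulAut.conj Y Z = Z) (h2 : MulAut.conj Y X = Z * X)
    (h3 : MulAut.conj Y' X = X) (h4 : MulAut.conj Y' Z = X⁻¹ * Z) :
    MulAut.conj (Y * Y' * Y) X = Z ∧ MulAut.conj (Y * Y' * Y) Z = X⁻¹ := by
  constructor
  · rw [map_mul, map_mul, MulAut.mul_apply, MulAut.mul_apply, h2, map_mul (MulAut.conj Y'), h4, h3]
    have : X⁻¹ * Z * X = Z := by rw [mul_assoc, ← hXZ.eq]; group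
    rw [this, h1]
  · rw [map_mul, map_mul, MulAut.mul_apply, MulAut.mul_apply, h1, h4, map_mul, map_inv, h2, h1]
    group

theorem conj_sq_pow_odd (c X : G) (h : MulAut.conj (c ^ 2) X = X⁻¹) (n : ℕ) :
    MulAut.conj ((c ^ 2) ^ n) X = X ^ ((-1 : ℤ) ^ n) := by
  induction n with
  | zero => simp
  | succ n ih =>
    rw [pow_succ', map_mul, MulAut.mul_apply, ih, map_zpow, h, inv_zpow', pow_succ]
    congr 1; ring


/-- an element that is inverted by `c ^ 2` forces `c` to have even order -/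
theorem odd_order_false (p : ℕ) [hp : Fact p.Prime] (hp2 : p ≠ 2) (c X : G) (hX1 : X ≠ 1)
    (hXp : X ^ p = 1) (h : MulAut.conj (c ^ 2) X = X⁻¹) (m : ℕ) (hm : Odd m) (hcm : c ^ m = 1) :
    False := by
  have h1 := conj_sq_pow_odd c X h m
  rw [← pow_mul, mul_comm, pow_mul, hcm, one_pow, map_one, MulAut.one_apply, hm.neg_one_pow,
    zpow_neg_one] at h1
  -- X = X⁻¹, so X^2 = 1
  have h2 : X ^ 2 = 1 := by
    rw [sq]; nth_rewrite 1 [h1]; exact inv_mul_cancel X
  have h3 : orderOf X ∣ 2 := orderOf_dvd_of_pow_eq_one h2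
  have h4 : orderOf X ∣ p := orderOf_dvd_of_pow_eq_one hXp
  have h5 : orderOf X ∣ Nat.gcd 2 p := Nat.dvd_gcd h3 h4
  have h6 : Nat.gcd 2 p = 1 := by
    rw [Nat.coprime_primes Nat.prime_two hp.out |>.mpr (Ne.symm hp2)]
  rw [h6, Nat.dvd_one, orderOf_eq_one_iff] at h5
  exact hX1 h5

theorem quat8_facts : (∀ u : QuaternionGroup 2, u ^ 4 = 1) ∧
    (∀ u v : QuaternionGroup 2, u ^ 2 = 1 → u ≠ 1 → v ^ 2 = 1 → v ≠ 1 → u = v) := by
  constructor
  · decide
  · decide

/-- The 2-local part of the argument. -/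
theorem two_part_false (hD : EqOrdConj G) (p : ℕ) [hp : Fact p.Prime] (hp2 : p ≠ 2)
    (X Z c : G) (hX1 : X ≠ 1) (hXp : X ^ p = 1)
    (hcX : MulAut.conj c X = Z) (hcZ : MulAut.conj c Z = X⁻¹)
    (hN : ∀ N : Subgroup G, N.Normal → Odd (Nat.card N) → X ∈ N → c ∈ N) : False := by
  have hc2 : MulAut.conj (c ^ 2) X = X⁻¹ := by
    rw [sq, map_mul, MulAut.mul_apply, hcX, hcZ]
  -- any normal subgroup of odd order containing X gives a contradiction
  have hkey : ∀ N : Subgroup G, N.Normal → Odd (Nat.card N) → X ∈ N → False := by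
    intro N hNn hNo hXN
    have hcN := hN N hNn hNo hXN
    have hord : orderOf c ∣ Nat.card N := Subgroup.orderOf_dvd_natCard N hcN
    have hodd : Odd (orderOf c) := Odd.of_dvd_nat hNo hord
    exact odd_order_false p hp2 c X hX1 hXp hc2 (orderOf c) hodd (pow_orderOf_eq_one c)
  -- the 2-part of c
  have hm0 : orderOf c ≠ 0 := (orderOf_pos c).ne'
  obtain ⟨k, m', hm', hm⟩ := Nat.exists_eq_two_pow_mul_odd hm0
  set d := c ^ m' with hd
  have hd2k : d ^ (2 ^ k) = 1 := by
    rw [hd, ← pow_mul, mul_comm, ← hm, pow_orderOf_eq_one]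
  set t := d ^ 2 with ht
  have htX : MulAut.conj t X = X⁻¹ := by
    have := conj_sq_pow_odd c X hc2 m'
    rw [hm'.neg_one_pow, zpow_neg_one] at this
    rw [ht, hd, ← pow_mul, mul_comm, pow_mul]; exact this
  have hXne : X⁻¹ ≠ X := by
    intro h
    have h2 : X ^ 2 = 1 := by
      rw [sq]; nth_rewrite 1 [← h]; exact inv_mul_cancel X
    have h3 : orderOf X ∣ 2 := orderOf_dvd_of_pow_eq_one h2
    have h4 : orderOf X ∣ p := orderOf_dvd_of_pow_eq_one hXp
    have h5 : orderOf X ∣ Nat.gcd 2 p := Nat.dvd_gcd h3 h4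
    have h6 : Nat.gcd 2 p = 1 := by
      rw [Nat.coprime_primes Nat.prime_two hp.out |>.mpr (Ne.symm hp2)]
    rw [h6, Nat.dvd_one, orderOf_eq_one_iff] at h5
    exact hX1 h5
  have ht1 : t ≠ 1 := by
    intro h
    rw [h, map_one, MulAut.one_apply] at htX
    exact hXne htX.symm
  -- a Sylow 2-subgroup containing d
  haveI : Fact (Nat.Prime 2) := ⟨Nat.prime_two⟩
  have hdp : IsPGroup 2 (Subgroup.zpowers d) := by
    rintro ⟨g, hg⟩
    obtain ⟨n, rfl⟩ := Subgroup.mem_zpowers_iff.mp hg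
    refine ⟨k, Subtype.ext ?_⟩
    rw [Subgroup.coe_pow, Subgroup.coe_one]
    show (d ^ n) ^ 2 ^ k = 1
    rw [← zpow_natCast, ← zpow_mul, mul_comm, zpow_mul, zpow_natCast, hd2k, one_zpow]
  obtain ⟨S, hS⟩ := hdp.exists_le_sylow
  have hdS : d ∈ (S : Subgroup G) := hS (Subgroup.mem_zpowers d)
  have htS : t ∈ (S : Subgroup G) := Subgroup.pow_mem _ hdS 2
  rcases pg_cases 2 S.isPGroup' (hiso_of_eqOrdConj hD (S : Subgroup G) S.isPGroup') with
    hcyc | ⟨-, hexp⟩ | ⟨⟨e⟩⟩ | ⟨h22, -⟩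
  · -- cyclic Sylow 2-subgroup: normal 2-complement
    have h2dvd : 2 ∣ Nat.card G := by
      have h1 : orderOf t ∣ Nat.card G := orderOf_dvd_natCard t
      have h2 : orderOf t ∣ 2 ^ k := by
        apply orderOf_dvd_of_pow_eq_one
        rw [ht, ← pow_mul, mul_comm, pow_mul, hd2k, one_pow]
      obtain ⟨j, -, hj⟩ := (Nat.dvd_prime_pow Nat.prime_two).mp h2
      have hj0 : j ≠ 0 := by
        rintro rfl
        rw [pow_zero, orderOf_eq_one_iff] at hj
        exact ht1 hj
      exact dvd_trans (hj ▸ dvd_pow_self 2 hj0) h1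
    have hmin : (Nat.card G).minFac = 2 := (Nat.minFac_eq_two_iff _).mpr h2dvd
    have hnc := hcyc.normalizer_le_centralizer hmin
    set f := MonoidHom.transferSylow S hnc with hf
    have hodd : Odd (Nat.card f.ker) := by
      rw [← Nat.not_even_iff_odd, even_iff_two_dvd]
      exact MonoidHom.not_dvd_card_ker_transferSylow S hnc
    refine hkey f.ker inferInstance hodd ?_
    rw [MonoidHom.mem_ker]
    have h1 : orderOf (f X) ∣ p := (orderOf_map_dvd f X).trans (orderOf_dvd_of_pow_eq_one hXp)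
    obtain ⟨j, hj⟩ := (IsPGroup.iff_orderOf.mp S.isPGroup') (f X)
    rw [hj] at h1
    have : j = 0 := by
      by_contra hj0
      have : 2 ∣ p := dvd_trans (dvd_pow_self 2 hj0) h1
      exact hp2 ((Nat.prime_dvd_prime_iff_eq Nat.prime_two hp.out).mp this).symm
    rw [this, pow_zero, orderOf_eq_one_iff] at hj
    exact hj
  · -- exponent 2
    have := hexp ⟨d, hdS⟩
    exact ht1 (congrArg Subtype.val this)
  · -- quaternion of order 8
    obtain ⟨hq4, hquniq⟩ := quat8_facts
    have hd4 : d ^ 4 = 1 := by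
      have h1 := hq4 (e ⟨d, hdS⟩)
      rw [← map_pow] at h1
      have h2 := e.injective (h1.trans (map_one e).symm)
      exact congrArg Subtype.val h2
    have ht2 : t ^ 2 = 1 := by rw [ht, ← pow_mul]; exact hd4
    have hto : orderOf t = 2 := orderOf_eq_prime ht2 ht1
    have hisol : ∀ g : G, g * t * g⁻¹ ∈ S → g * t * g⁻¹ = t := by
      intro g hg
      have h1 : (g * t * g⁻¹) ^ 2 = 1 := by
        rw [← MulAut.conj_apply, ← map_pow, ht2, map_one]
      have h2 : g * t * g⁻¹ ≠ 1 := by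
        intro h
        apply ht1
        have : MulAut.conj g t = 1 := h
        rwa [MulEquiv.map_eq_one_iff] at this
      have h3 := hquniq (e ⟨g * t * g⁻¹, hg⟩) (e ⟨t, htS⟩)
        (by rw [← map_pow, ← map_one e]; congr 1; exact Subtype.ext h1)
        (by rw [Ne, MulEquiv.map_eq_one_iff]; exact fun h => h2 (congrArg Subtype.val h))
        (by rw [← map_pow, ← map_one e]; congr 1; exact Subtype.ext ht2)
        (by rw [Ne, MulEquiv.map_eq_one_iff]; exact fun h => ht1 (congrArg Subtype.val h))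
      exact congrArg Subtype.val (e.injective h3)
    obtain ⟨N, hNn, hNo, hNc⟩ := Cfsg.Agent.S0215.result S t hto htS hisol
    refine hkey N hNn hNo ?_
    have h1 := hNc X
    have h2 : t * X * t⁻¹ = X⁻¹ := htX
    rw [h2] at h1
    -- X⁻¹ * X⁻¹ ∈ N, hence X ∈ N
    have h3 : X ^ 2 ∈ N := by
      have : (X⁻¹ * X⁻¹)⁻¹ = X ^ 2 := by rw [mul_inv_rev, inv_inv, sq]
      rw [← this]; exact N.inv_mem h1
    obtain ⟨r, hr⟩ : ∃ r, p + 1 = 2 * r := by
      rcases Nat.Prime.eq_two_or_odd' hp.out with h | h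
      · exact absurd h hp2
      · obtain ⟨s, hs⟩ := h
        exact ⟨s + 1, by omega⟩
    have h4 : X = (X ^ 2) ^ r := by
      rw [← pow_mul, ← hr, pow_succ, hXp, one_mul]
    rw [h4]; exact N.pow_mem h3 r
  · exact h22 rfl


/-- an element of prime order `p` generates, in `G`, the subgroup of order `p` -/
theorem pow_mem_of_prime {X W : G} {p : ℕ} [hp : Fact p.Prime] (hX : orderOf X = p)
    (hW : W ∈ Subgroup.zpowers X) (hW1 : W ≠ 1) : X ∈ Subgroup.zpowers W := by
  have hc : Nat.card (Subgroup.zpowers X) = p := by rw [Nat.card_zpowers, hX]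
  rw [zpowers_eq_of_card_prime (Subgroup.zpowers X) hc hW hW1]
  exact Subgroup.mem_zpowers X

/-- The Heisenberg case is impossible. -/
theorem heis_false (hD : EqOrdConj G) (p : ℕ) [hp : Fact p.Prime] (hp2 : p ≠ 2) (P : Sylow p G)
    (hcard : Nat.card (P : Subgroup G) = p ^ 3) (hexp : ∀ a : (P : Subgroup G), a ^ p = 1)
    (hnc : ¬ ∀ a b : (P : Subgroup G), a * b = b * a) : False := by
  obtain ⟨z, hz1, hzo, hZ, hcomm⟩ := heis_struct p hcard hnc
  have hzc : ∀ u : (P : Subgroup G), u * z = z * u := fun u =>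
    Subgroup.mem_center_iff.mp (hZ ▸ Subgroup.mem_zpowers z) u
  -- an element outside the centre
  obtain ⟨x, hx⟩ : ∃ x : (P : Subgroup G), x ∉ Subgroup.center (P : Subgroup G) := by
    by_contra h
    push Not at h
    exact hnc fun a b => Subgroup.mem_center_iff.mp (h b) a
  have hx1 : x ≠ 1 := fun h => hx (h ▸ Subgroup.one_mem _)
  have hxo : orderOf x = p := orderOf_eq_prime (hexp x) hx1
  -- conjugate ⟨z⟩ to ⟨x⟩
  have hzGo : orderOf (z : G) = p := by rw [Subgroup.orderOf_coe]; exact hzo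
  have hxGo : orderOf (x : G) = p := by rw [Subgroup.orderOf_coe]; exact hxo
  have hpz : IsPGroup p (Subgroup.zpowers (z : G)) :=
    IsPGroup.of_card (n := 1) (by rw [Nat.card_zpowers, hzGo, pow_one])
  have hpx : IsPGroup p (Subgroup.zpowers (x : G)) :=
    IsPGroup.of_card (n := 1) (by rw [Nat.card_zpowers, hxGo, pow_one])
  obtain ⟨g, hg⟩ := hD p hp.out _ _ hpz hpx (by rw [Nat.card_zpowers, Nat.card_zpowers, hzGo, hxGo])
  have hgz : g * (z : G) * g⁻¹ ∈ Subgroup.zpowers (x : G) := by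
    rw [hg]; exact ⟨z, Subgroup.mem_zpowers _, rfl⟩
  obtain ⟨n, hn⟩ := Subgroup.mem_zpowers_iff.mp hgz
  set x1 : (P : Subgroup G) := x ^ n with hx1def
  have hx1G : (x1 : G) = g * (z : G) * g⁻¹ := by
    rw [hx1def, Subgroup.coe_zpow]; exact hn
  have hx1ne : x1 ≠ 1 := by
    intro h
    have h2 : g * (z : G) * g⁻¹ = 1 := by rw [← hx1G, h, Subgroup.coe_one]
    have h3 : MulAut.conj g (z : G) = 1 := h2
    rw [MulEquiv.map_eq_one_iff] at h3
    exact hz1 (Subtype.ext h3)
  have hx1o : orderOf x1 = p := orderOf_eq_prime (hexp x1) hx1ne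
  have hx1nc : x1 ∉ Subgroup.center (P : Subgroup G) := by
    intro h
    apply hx
    have h1 : x ∈ Subgroup.zpowers x1 :=
      pow_mem_of_prime hxo (Subgroup.zpow_mem_zpowers x n) hx1ne
    obtain ⟨m, hm⟩ := Subgroup.mem_zpowers_iff.mp h1
    rw [← hm]
    exact Subgroup.zpow_mem _ h m
  -- the centralizer of x1 and Sylow's theorem inside it
  set X : G := (x1 : G) with hX
  set Z : G := (z : G) with hZG
  have hXo : orderOf X = p := by rw [hX, Subgroup.orderOf_coe]; exact hx1o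
  set C := Subgroup.centralizer ({X} : Set G) with hC
  have hXZ : Commute X Z := by
    have := hzc x1
    exact (congrArg Subtype.val this)
  have hzC : Z ∈ C := by
    rw [hC, Subgroup.mem_centralizer_iff]
    intro h hh
    rw [Set.mem_singleton_iff] at hh
    rw [hh]; exact hXZ.eq
  have hle : ((g • P : Sylow p G) : Subgroup G) ≤ C := by
    intro m hm
    rw [Sylow.coe_subgroup_smul, Subgroup.mem_smul_pointwise_iff_exists] at hm
    obtain ⟨u, hu, rfl⟩ := hm
    rw [hC, Subgroup.mem_centralizer_iff]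
    intro h hh
    rw [Set.mem_singleton_iff] at hh
    rw [hh, MulAut.smul_def, MulAut.conj_apply, hx1G]
    have h1 : u * Z = Z * u := congrArg Subtype.val (hzc ⟨u, hu⟩)
    calc g * Z * g⁻¹ * (g * u * g⁻¹) = g * (Z * u) * g⁻¹ := by group
      _ = g * (u * Z) * g⁻¹ := by rw [h1]
      _ = g * u * g⁻¹ * (g * Z * g⁻¹) := by group
  set PC : Sylow p C := (g • P).subtype hle with hPC
  set zC : C := ⟨Z, hzC⟩ with hzCdef
  have hzCp : IsPGroup p (Subgroup.zpowers zC) :=
    IsPGroup.of_card (n := 1) (by rw [Nat.card_zpowers, hzCdef, Subgroup.orderOf_mk, hzGo, pow_one])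
  obtain ⟨QC, hQC⟩ := hzCp.exists_le_sylow
  obtain ⟨c, hc⟩ := MulAction.exists_smul_eq C PC QC
  have hzQC : zC ∈ (QC : Subgroup C) := hQC (Subgroup.mem_zpowers zC)
  rw [← hc, Sylow.coe_subgroup_smul, Subgroup.mem_smul_pointwise_iff_exists] at hzQC
  obtain ⟨w, hw, hwz⟩ := hzQC
  rw [hPC, Sylow.coe_subtype, Subgroup.mem_subgroupOf, Sylow.coe_subgroup_smul,
    Subgroup.mem_smul_pointwise_iff_exists] at hw
  obtain ⟨v0, hv0, hv0w⟩ := hw
  set s : G := (c : G) * g with hs
  have hsv : MulAut.conj s v0 = Z := by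
    have h1 : (MulAut.conj c • w : C) = zC := hwz
    have h2 : (c : G) * (w : G) * (c : G)⁻¹ = Z := by
      have := congrArg Subtype.val h1
      simpa [MulAut.smul_def, MulAut.conj_apply] using this
    have h3 : g * v0 * g⁻¹ = (w : G) := by
      simpa [MulAut.smul_def, MulAut.conj_apply] using hv0w
    rw [hs, MulAut.conj_apply, ← h2, ← h3]; group
  have hsZ : MulAut.conj s Z = X := by
    have hcC : (c : G) ∈ Subgroup.centralizer ({X} : Set G) := c.2
    rw [Subgroup.mem_centralizer_iff] at hcC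
    have h1 : X * (c : G) = (c : G) * X := hcC X (Set.mem_singleton X)
    rw [hs, MulAut.conj_apply]
    calc (c : G) * g * Z * ((c : G) * g)⁻¹ = (c : G) * (g * Z * g⁻¹) * (c : G)⁻¹ := by group
      _ = (c : G) * X * (c : G)⁻¹ := by rw [← hx1G]
      _ = X := by rw [← h1]; group
  set v : (P : Subgroup G) := ⟨v0, hv0⟩ with hv
  -- v is not central
  have hvnc : v ∉ Subgroup.center (P : Subgroup G) := by
    intro h
    rw [hZ] at h
    obtain ⟨m, hm⟩ := Subgroup.mem_zpowers_iff.mp h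
    have h1 : Z = X ^ m := by
      have h2 : v0 = Z ^ m := by
        have := congrArg Subtype.val hm
        rw [Subgroup.coe_zpow] at this
        exact this.symm
      rw [← hsv, h2, map_zpow, hsZ]
    have h3 : (z : (P : Subgroup G)) = x1 ^ m := by
      apply Subtype.ext
      rw [Subgroup.coe_zpow]; exact h1
    have h4 : x1 ∈ Subgroup.zpowers z :=
      pow_mem_of_prime hx1o (h3 ▸ Subgroup.zpow_mem_zpowers x1 m) hz1
    rw [← hZ] at h4
    exact hx1nc h4
  -- the two transvections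
  obtain ⟨y, hy⟩ : ∃ y : (P : Subgroup G), y * x1 ≠ x1 * y := by
    by_contra h
    push Not at h
    exact hx1nc (Subgroup.mem_center_iff.mpr h)
  obtain ⟨y0, hy0⟩ : ∃ y0 : (P : Subgroup G), y0 * v ≠ v * y0 := by
    by_contra h
    push Not at h
    exact hvnc (Subgroup.mem_center_iff.mpr h)
  set z1 := y * x1 * y⁻¹ * x1⁻¹ with hz1def
  set z2 := y0 * v * y0⁻¹ * v⁻¹ with hz2def
  have hz1Z : z1 ∈ Subgroup.zpowers z := hcomm y x1
  have hz2Z : z2 ∈ Subgroup.zpowers z := hcomm y0 v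
  have hz1ne : z1 ≠ 1 := by
    intro h
    apply hy
    have : y * x1 * y⁻¹ * x1⁻¹ = 1 := h
    calc y * x1 = (y * x1 * y⁻¹ * x1⁻¹) * (x1 * y) := by group
      _ = x1 * y := by rw [this, one_mul]
  have hz2ne : z2 ≠ 1 := by
    intro h
    apply hy0
    have : y0 * v * y0⁻¹ * v⁻¹ = 1 := h
    calc y0 * v = (y0 * v * y0⁻¹ * v⁻¹) * (v * y0) := by group
      _ = v * y0 := by rw [this, one_mul]
  have hz1c : ∀ u : (P : Subgroup G), u * z1 = z1 * u := fun u =>
    Subgroup.mem_center_iff.mp (hZ ▸ hz1Z) u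
  have hz2c : ∀ u : (P : Subgroup G), u * z2 = z2 * u := fun u =>
    Subgroup.mem_center_iff.mp (hZ ▸ hz2Z) u
  -- exponents
  obtain ⟨i, hi⟩ : ∃ i : ℕ, z1 ^ i = z := by
    have h1 : z ∈ Subgroup.zpowers z1 := pow_mem_of_prime hzo hz1Z hz1ne
    rw [← mem_powers_iff_mem_zpowers] at h1
    exact (Submonoid.mem_powers_iff _ _).mp h1
  set Y : G := (y : G) with hY
  set Y0 : G := (y0 : G) with hY0
  set Z1 : G := (z1 : G) with hZ1
  set Z2 : G := (z2 : G) with hZ2
  set Y' : G := s * Y0 * s⁻¹ with hY'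
  set X2 : G := MulAut.conj s Z2 with hX2
  -- action of Y
  have hY_Z1 : MulAut.conj Y Z1 = Z1 := by
    rw [MulAut.conj_apply]
    have := congrArg Subtype.val (hz1c y)
    have h1 : Y * Z1 = Z1 * Y := this
    rw [h1]; group
  have hY_X : MulAut.conj Y X = Z1 * X := by
    rw [MulAut.conj_apply]
    have h1 : Z1 = Y * X * Y⁻¹ * X⁻¹ := by
      rw [hZ1, hz1def]; rfl
    rw [h1]; group
  have hY_Z : MulAut.conj Y Z = Z := by
    rw [MulAut.conj_apply]
    have h1 : Y * Z = Z * Y := congrArg Subtype.val (hzc y)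
    rw [h1]; group
  have hYi_X : MulAut.conj (Y ^ i) X = Z * X := by
    rw [conj_pow_transv Y X Z1 hY_Z1 hY_X i]
    congr 1
    have := congrArg Subtype.val hi
    rw [Subgroup.coe_pow] at this
    exact this
  have hYi_Z : MulAut.conj (Y ^ i) Z = Z := conj_pow_fix Y Z hY_Z i
  -- action of Y'
  have hsinvZ : MulAut.conj s⁻¹ Z = v0 := by
    rw [← hsv, ← MulAut.mul_apply, ← map_mul, inv_mul_cancel, map_one, MulAut.one_apply]
  have hsinvX : MulAut.conj s⁻¹ X = Z := by
    rw [← hsZ, ← MulAut.mul_apply, ← map_mul, inv_mul_cancel, map_one, MulAut.one_apply]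
  have hY'conj : ∀ W : G, MulAut.conj Y' W = MulAut.conj s (MulAut.conj Y0 (MulAut.conj s⁻¹ W)) := by
    intro W
    rw [hY', map_mul, map_mul, MulAut.mul_apply, MulAut.mul_apply, map_inv]
  have hY0_v : MulAut.conj Y0 v0 = Z2 * v0 := by
    rw [MulAut.conj_apply]
    have h1 : Z2 = Y0 * v0 * Y0⁻¹ * v0⁻¹ := by
      rw [hZ2, hz2def]; rfl
    rw [h1]; group
  have hY0_Z : MulAut.conj Y0 Z = Z := by
    rw [MulAut.conj_apply]
    have h1 : Y0 * Z = Z * Y0 := congrArg Subtype.val (hzc y0)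
    rw [h1]; group
  have hY0_Z2 : MulAut.conj Y0 Z2 = Z2 := by
    rw [MulAut.conj_apply]
    have h1 : Y0 * Z2 = Z2 * Y0 := congrArg Subtype.val (hz2c y0)
    rw [h1]; group
  have hY'_Z : MulAut.conj Y' Z = X2 * Z := by
    rw [hY'conj, hsinvZ, hY0_v, map_mul, hsv]
  have hY'_X : MulAut.conj Y' X = X := by
    rw [hY'conj, hsinvX, hY0_Z, hsZ]
  have hsinv : ∀ W : G, MulAut.conj s⁻¹ (MulAut.conj s W) = W := by
    intro W
    rw [MulAut.conj_apply, MulAut.conj_apply]; group
  have hY'_X2 : MulAut.conj Y' X2 = X2 := by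
    rw [hY'conj, hX2, hsinv, hY0_Z2]
  -- X2 is a non-trivial power of X
  have hX2X : X2 ∈ Subgroup.zpowers X := by
    obtain ⟨m, hm⟩ := Subgroup.mem_zpowers_iff.mp hz2Z
    have h1 : Z2 = Z ^ m := by
      have := congrArg Subtype.val hm
      rw [Subgroup.coe_zpow] at this
      exact this.symm
    rw [hX2, h1, map_zpow, hsZ]
    exact Subgroup.zpow_mem_zpowers X m
  have hX2ne : X2 ≠ 1 := by
    intro h
    rw [hX2, MulEquiv.map_eq_one_iff] at h
    exact hz2ne (Subtype.ext h)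
  obtain ⟨j, hj⟩ : ∃ j : ℕ, X2 ^ j = X⁻¹ := by
    have h1 : X ∈ Subgroup.zpowers X2 := pow_mem_of_prime hXo hX2X hX2ne
    have h2 : X⁻¹ ∈ Subgroup.zpowers X2 := Subgroup.inv_mem _ h1
    rw [← mem_powers_iff_mem_zpowers] at h2
    exact (Submonoid.mem_powers_iff _ _).mp h2
  have hY'j_Z : MulAut.conj (Y' ^ j) Z = X⁻¹ * Z := by
    rw [conj_pow_transv Y' Z X2 hY'_X2 hY'_Z j, hj]
  have hY'j_X : MulAut.conj (Y' ^ j) X = X := conj_pow_fix Y' X hY'_X j
  -- the element of order divisible by 4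
  obtain ⟨hcX, hcZ⟩ := tv_conj X Z (Y ^ i) (Y' ^ j) hXZ hYi_Z hYi_X hY'j_X hY'j_Z
  have hX1 : X ≠ 1 := fun h => hx1ne (Subtype.ext h)
  have hXp : X ^ p = 1 := by rw [← hXo]; exact pow_orderOf_eq_one X
  refine two_part_false hD p hp2 X Z (Y ^ i * Y' ^ j * Y ^ i) hX1 hXp hcX hcZ ?_
  intro N hNn hNo hXN
  have hZN : Z ∈ N := by
    rw [← hcX, MulAut.conj_apply]; exact hNn.conj_mem X hXN _
  have hPN : ∀ u : (P : Subgroup G), (u : G) ∈ N := by
    intro u
    by_cases hu1 : u = 1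
    · rw [hu1]; exact N.one_mem
    have huo : orderOf (u : G) = p := by
      rw [Subgroup.orderOf_coe]; exact orderOf_eq_prime (hexp u) hu1
    have hpu : IsPGroup p (Subgroup.zpowers (u : G)) :=
      IsPGroup.of_card (n := 1) (by rw [Nat.card_zpowers, huo, pow_one])
    obtain ⟨h, hh⟩ := hD p hp.out _ _ hpz hpu (by rw [Nat.card_zpowers, Nat.card_zpowers, hzGo, huo])
    have hu : (u : G) ∈ (Subgroup.zpowers Z).map (MulAut.conj h).toMonoidHom := by
      rw [← hh]; exact Subgroup.mem_zpowers _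
    obtain ⟨w, hw, hwu⟩ := hu
    obtain ⟨m, rfl⟩ := Subgroup.mem_zpowers_iff.mp hw
    rw [← hwu]
    show MulAut.conj h (Z ^ m) ∈ N
    rw [MulAut.conj_apply]
    exact hNn.conj_mem _ (N.zpow_mem hZN m) h
  have hYN : Y ∈ N := hPN y
  have hY'N : Y' ∈ N := hNn.conj_mem _ (hPN y0) s
  exact N.mul_mem (N.mul_mem (N.pow_mem hYN i) (N.pow_mem hY'N j)) (N.pow_mem hYN i)

end main

end Cfsg.Agent.Helper3.EOC
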