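import Mathlib
import Cfsg.Prelude.Def_EvenType
import Cfsg.Agent.Lead.GexA
import Cfsg.Agent.Helper5.SPE

set_option autoImplicit false

/-!
Helper lemmas (helper3) for fusion systems on `p`-groups with an extraspecial subgroup of index `p`:
strongly `p`-embedded subgroups versus pairs of `p`-elements generating a `p`-group, and pairs of
automorphisms stabilizing a common chain.
-/

namespace Cfsg.Agent.Helper3.ExIdx

open Cfsg Cfsg.Agent.Lead.Gex

/-- If `M` is strongly `p`-embedded in `G` and `T` is a Sylow `p`-subgroup, then for some `g` no nontrivial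
elements `a ∈ T`, `b ∈ g T g⁻¹` lie in a common `p`-subgroup. -/
theorem spe_gen {G : Type*} [Group G] [Finite G] {p : ℕ} [Fact p.Prime] (M : Subgroup G)
    (hM : Cfsg.IsStronglyPEmbedded p M) (T : Sylow p G) :
    ∃ g : G, ∀ a ∈ (T : Subgroup G), a ≠ 1 → ∀ b : G, g⁻¹ * b * g ∈ (T : Subgroup G) → b ≠ 1 →
      ∀ K : Subgroup G, a ∈ K → b ∈ K → ¬ IsPGroup p K := by
  by_contra hcon
  push Not at hcon
  obtain ⟨hdvd, hMtop, P, hP⟩ := (Cfsg.Agent.Helper5.isStronglyPEmbedded_iff M).mp hM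
  obtain ⟨h, hh⟩ := MulAction.exists_smul_eq G T P
  apply hMtop
  rw [eq_top_iff]
  intro m _
  obtain ⟨a, haT, ha1, b, hbT, hb1, K, haK, hbK, hKp⟩ := hcon (h⁻¹ * m * h)
  have ha'P : h * a * h⁻¹ ∈ (P : Subgroup G) := by
    rw [← hh, Cfsg.Agent.Helper5.sylow_mem_smul_iff]
    have : h⁻¹ * (h * a * h⁻¹) * h = a := by group
    rw [this]
    exact haT
  have ha'1 : h * a * h⁻¹ ≠ 1 := by
    intro h1
    apply ha1
    have : a = h⁻¹ * (h * a * h⁻¹) * h := by group
    rw [this, h1]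
    group
  have hb'1 : h * b * h⁻¹ ≠ 1 := by
    intro h1
    apply hb1
    have : b = h⁻¹ * (h * b * h⁻¹) * h := by group
    rw [this, h1]
    group
  have hD1 : Subgroup.zpowers (h * a * h⁻¹) ≠ ⊥ := by
    rw [Ne, Subgroup.zpowers_eq_bot]
    exact ha'1
  have hK'p : IsPGroup p (K.map (MulAut.conj h).toMonoidHom) := hKp.map _
  have hK'M : K.map (MulAut.conj h).toMonoidHom ≤ M := by
    apply hP.le_of_le (Subgroup.zpowers (h * a * h⁻¹)) _ _ hD1 _ hK'p
    · rw [Subgroup.zpowers_le]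
      exact hP.1 ha'P
    · rw [Subgroup.zpowers_le]
      exact Cfsg.Agent.Helper5.conj_mem_map_conj K h a haK
  have hb'M : h * b * h⁻¹ ∈ M := hK'M (Cfsg.Agent.Helper5.conj_mem_map_conj K h b hbK)
  have hb'Mm : h * b * h⁻¹ ∈ M.map (MulAut.conj m).toMonoidHom := by
    rw [Cfsg.Agent.Helper5.mem_map_conj_iff]
    apply hP.1
    rw [← hh, Cfsg.Agent.Helper5.sylow_mem_smul_iff]
    have : h⁻¹ * (m⁻¹ * (h * b * h⁻¹) * m) * h = (h⁻¹ * m * h)⁻¹ * b * (h⁻¹ * m * h) := by group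
    rw [this]
    exact hbT
  have hE1 : Subgroup.zpowers (h * b * h⁻¹) ≠ ⊥ := by
    rw [Ne, Subgroup.zpowers_eq_bot]
    exact hb'1
  refine hP.mem_of_inter m (Subgroup.zpowers (h * b * h⁻¹)) ?_ ?_ ?_ hE1
  · rw [Subgroup.zpowers_le]
    exact hb'M
  · rw [Subgroup.zpowers_le]
    exact hb'Mm
  · apply hK'p.to_le
    rw [Subgroup.zpowers_le]
    exact Cfsg.Agent.Helper5.conj_mem_map_conj K h b hbK

/-- The same in a quotient: `M` strongly `p`-embedded in `G ⧸ N`. -/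
theorem spe_quot {G : Type*} [Group G] [Finite G] {p : ℕ} [Fact p.Prime] (N : Subgroup G) [N.Normal]
    (M : Subgroup (G ⧸ N)) (hM : Cfsg.IsStronglyPEmbedded p M) (T : Sylow p G) :
    ∃ g : G, ∀ a ∈ (T : Subgroup G), a ∉ N → ∀ b : G, g⁻¹ * b * g ∈ (T : Subgroup G) → b ∉ N →
      ∀ K : Subgroup G, a ∈ K → b ∈ K → ¬ IsPGroup p K := by
  have hsurj := QuotientGroup.mk'_surjective N
  obtain ⟨g', hg'⟩ := spe_gen M hM (T.mapSurjective hsurj)
  obtain ⟨g, rfl⟩ := hsurj g'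
  refine ⟨g, fun a haT haN b hbT hbN K haK hbK hKp => ?_⟩
  refine hg' (QuotientGroup.mk' N a) ⟨a, haT, rfl⟩ ?_ (QuotientGroup.mk' N b) ?_ ?_
    (K.map (QuotientGroup.mk' N)) ⟨a, haK, rfl⟩ ⟨b, hbK, rfl⟩ (hKp.map _)
  · intro h1
    exact haN ((QuotientGroup.eq_one_iff a).mp h1)
  · refine ⟨g⁻¹ * b * g, hbT, ?_⟩
    simp
  · intro h1
    exact hbN ((QuotientGroup.eq_one_iff b).mp h1)

/-- Two automorphisms of a finite `p`-group each fixing all the "commutators" `e⁻¹ α(e)` of both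
generate a `p`-group. -/
theorem isPGroup_closure_pair {E : Type*} [Group E] [Finite E] {p : ℕ} [Fact p.Prime]
    (hE : IsPGroup p E) (a b : MulAut E)
    (haa : ∀ e, a (e⁻¹ * a e) = e⁻¹ * a e) (hba : ∀ e, b (e⁻¹ * a e) = e⁻¹ * a e)
    (hab : ∀ e, a (e⁻¹ * b e) = e⁻¹ * b e) (hbb : ∀ e, b (e⁻¹ * b e) = e⁻¹ * b e) :
    IsPGroup p (Subgroup.closure ({a, b} : Set (MulAut E))) := by
  obtain ⟨Y, hY⟩ : ∃ Y : Subgroup E, ∀ e, e ∈ Y ↔ (a e = e ∧ b e = e) := by
    refine ⟨{ carrier := {e | a e = e ∧ b e = e}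
              mul_mem' := ?_
              one_mem' := ?_
              inv_mem' := ?_ }, fun e => Iff.rfl⟩
    · intro x y hx hy
      exact ⟨by rw [map_mul, hx.1, hy.1], by rw [map_mul, hx.2, hy.2]⟩
    · exact ⟨map_one a, map_one b⟩
    · intro x hx
      exact ⟨by rw [map_inv, hx.1], by rw [map_inv, hx.2]⟩
  apply isPGroup_of_chainStab hE (chain4_anti (M := Y) (W := ⊥) (Z₁ := ⊥) bot_le bot_le)
    (chain4_zero _ _ _) (chain4_four _ _ _)
  intro α hα
  apply ChainStab.of_mem_closure (chain4_anti (M := Y) (W := ⊥) (Z₁ := ⊥) bot_le bot_le) _ hα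
  intro β hβ
  rcases hβ with rfl | hβ
  · apply chainStab_chain4
    · intro x
      exact (hY _).mpr ⟨haa x, hba x⟩
    · intro x hx
      rw [((hY x).mp hx).1, inv_mul_cancel]
      exact Subgroup.one_mem _
    · intro x hx
      rw [Subgroup.mem_bot] at hx
      rw [hx, map_one, inv_one, one_mul]
      exact Subgroup.one_mem _
    · intro x hx
      rw [Subgroup.mem_bot] at hx
      rw [hx, map_one]
  · rw [Set.mem_singleton_iff] at hβ
    subst hβ
    apply chainStab_chain4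
    · intro x
      exact (hY _).mpr ⟨hab x, hbb x⟩
    · intro x hx
      rw [((hY x).mp hx).2, inv_mul_cancel]
      exact Subgroup.one_mem _
    · intro x hx
      rw [Subgroup.mem_bot] at hx
      rw [hx, map_one, inv_one, one_mul]
      exact Subgroup.one_mem _
    · intro x hx
      rw [Subgroup.mem_bot] at hx
      rw [hx, map_one]

/-- Transport to a subgroup of `MulAut E`. -/
theorem isPGroup_closure_pair_sub {E : Type*} [Group E] [Finite E] {p : ℕ} [Fact p.Prime]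
    (hE : IsPGroup p E) (A : Subgroup (MulAut E)) (a b : A)
    (haa : ∀ e, a.1 (e⁻¹ * a.1 e) = e⁻¹ * a.1 e) (hba : ∀ e, b.1 (e⁻¹ * a.1 e) = e⁻¹ * a.1 e)
    (hab : ∀ e, a.1 (e⁻¹ * b.1 e) = e⁻¹ * b.1 e) (hbb : ∀ e, b.1 (e⁻¹ * b.1 e) = e⁻¹ * b.1 e) :
    IsPGroup p (Subgroup.closure ({a, b} : Set A)) := by
  have h1 := isPGroup_closure_pair hE a.1 b.1 haa hba hab hbb
  have h2 : (Subgroup.closure ({a, b} : Set A)).map A.subtype =
      Subgroup.closure ({a.1, b.1} : Set (MulAut E)) := by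
    rw [MonoidHom.map_closure]
    congr 1
    ext x
    simp only [Set.mem_image, Set.mem_insert_iff, Set.mem_singleton_iff]
    constructor
    · rintro ⟨y, rfl | rfl, rfl⟩
      · left; rfl
      · right; rfl
    · rintro (rfl | rfl)
      · exact ⟨a, Or.inl rfl, rfl⟩
      · exact ⟨b, Or.inr rfl, rfl⟩
  rw [← h2] at h1
  exact h1.of_equiv
    ((Subgroup.closure ({a, b} : Set A)).equivMapOfInjective A.subtype A.subtype_injective).symm

end Cfsg.Agent.Helper3.ExIdx
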