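import Mathlib
import Cfsg.Agent.Helper3.ExtraCore

/-!
# The Heisenberg group of dimension `2n+1` over `ZMod p`, and a faithful linear representation
-/

set_option autoImplicit false

namespace Cfsg.Agent.Helper3

open Matrix

/-- Heisenberg group elements `(a, b, c)` with `a, b ∈ (ZMod p)^n`, `c ∈ ZMod p`. -/
@[ext]
structure Heis (n p : ℕ) where
  a : Fin n → ZMod p
  b : Fin n → ZMod p
  c : ZMod p

namespace Heis

variable {n p : ℕ}

instance : Mul (Heis n p) := ⟨fun x y => ⟨x.a + y.a, x.b + y.b, x.c + y.c + x.a ⬝ᵥ y.b⟩⟩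
instance : One (Heis n p) := ⟨⟨0, 0, 0⟩⟩
instance : Inv (Heis n p) := ⟨fun x => ⟨-x.a, -x.b, -x.c + x.a ⬝ᵥ x.b⟩⟩

@[simp] theorem mul_a (x y : Heis n p) : (x * y).a = x.a + y.a := rfl
@[simp] theorem mul_b (x y : Heis n p) : (x * y).b = x.b + y.b := rfl
@[simp] theorem mul_c (x y : Heis n p) : (x * y).c = x.c + y.c + x.a ⬝ᵥ y.b := rfl
@[simp] theorem one_a : (1 : Heis n p).a = 0 := rfl
@[simp] theorem one_b : (1 : Heis n p).b = 0 := rfl
@[simp] theorem one_c : (1 : Heis n p).c = 0 := rfl
@[simp] theorem inv_a (x : Heis n p) : x⁻¹.a = -x.a := rfl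
@[simp] theorem inv_b (x : Heis n p) : x⁻¹.b = -x.b := rfl
@[simp] theorem inv_c (x : Heis n p) : x⁻¹.c = -x.c + x.a ⬝ᵥ x.b := rfl

instance : Group (Heis n p) where
  mul_assoc x y z := by
    ext
    · simp [add_assoc]
    · simp [add_assoc]
    · simp only [mul_c, mul_a, mul_b, add_dotProduct, dotProduct_add]
      ring
  one_mul x := by ext <;> simp
  mul_one x := by ext <;> simp
  inv_mul_cancel x := by
    ext <;> simp

theorem pow_a (x : Heis n p) (k : ℕ) : (x ^ k).a = (k : ZMod p) • x.a := by
  induction k with
  | zero => simp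
  | succ k ih => rw [pow_succ, mul_a, ih]; push_cast; rw [add_smul, one_smul]

theorem pow_b (x : Heis n p) (k : ℕ) : (x ^ k).b = (k : ZMod p) • x.b := by
  induction k with
  | zero => simp
  | succ k ih => rw [pow_succ, mul_b, ih]; push_cast; rw [add_smul, one_smul]

theorem pow_c (x : Heis n p) (k : ℕ) :
    (x ^ k).c = (k : ZMod p) * x.c + ((k.choose 2 : ℕ) : ZMod p) * (x.a ⬝ᵥ x.b) := by
  induction k with
  | zero => simp
  | succ k ih =>
    rw [pow_succ, mul_c, ih, pow_a, smul_dotProduct, Nat.choose_succ_succ, Nat.choose_one_right]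
    push_cast
    rw [smul_eq_mul]
    ring

theorem pow_prime [hp : Fact p.Prime] (hp2 : p ≠ 2) (x : Heis n p) : x ^ p = 1 := by
  have h0 : ((p : ℕ) : ZMod p) = 0 := ZMod.natCast_self p
  have h1 : ((p.choose 2 : ℕ) : ZMod p) = 0 := by
    rw [ZMod.natCast_eq_zero_iff]
    have h2 := hp.out.two_le
    exact hp.out.dvd_choose_self (by norm_num) (by omega)
  ext
  · rw [pow_a, h0, zero_smul, one_a]
  · rw [pow_b, h0, zero_smul, one_b]
  · rw [pow_c, h0, h1, zero_mul, zero_mul, add_zero, one_c]

theorem commute_iff (x y : Heis n p) : x * y = y * x ↔ x.a ⬝ᵥ y.b = y.a ⬝ᵥ x.b := by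
  constructor
  · intro h
    have := congrArg Heis.c h
    simp only [mul_c] at this
    have e : x.c + y.c = y.c + x.c := add_comm _ _
    rw [e] at this
    exact add_left_cancel this
  · intro h
    ext
    · simp [add_comm]
    · simp [add_comm]
    · simp only [mul_c, h]; ring

theorem mem_center_iff (x : Heis n p) : x ∈ Subgroup.center (Heis n p) ↔ x.a = 0 ∧ x.b = 0 := by
  rw [Subgroup.mem_center_iff]
  constructor
  · intro h
    constructor
    · funext i
      have h1 := (commute_iff (⟨0, Pi.single i 1, 0⟩ : Heis n p) x).1 (h _)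
      simp only [zero_dotProduct, dotProduct_single, mul_one] at h1
      simpa using h1.symm
    · funext i
      have h1 := (commute_iff (⟨Pi.single i 1, 0, 0⟩ : Heis n p) x).1 (h _)
      simp only [dotProduct_zero, single_dotProduct, one_mul] at h1
      simpa using h1
  · rintro ⟨ha, hb⟩ g
    rw [commute_iff, ha, hb]
    simp

theorem card_center [NeZero p] : Nat.card (Subgroup.center (Heis n p)) = p := by
  let f : Subgroup.center (Heis n p) ≃ ZMod p :=
    { toFun := fun x => x.1.c
      invFun := fun c => ⟨⟨0, 0, c⟩, (mem_center_iff _).2 ⟨rfl, rfl⟩⟩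
      left_inv := fun x => by
        obtain ⟨ha, hb⟩ := (mem_center_iff x.1).1 x.2
        apply Subtype.ext
        ext
        · simp [ha]
        · simp [hb]
        · rfl
      right_inv := fun c => rfl }
  rw [Nat.card_congr f, Nat.card_zmod]

theorem card [NeZero p] : Nat.card (Heis n p) = p ^ (1 + 2 * n) := by
  let f : Heis n p ≃ (Fin n → ZMod p) × (Fin n → ZMod p) × ZMod p :=
    { toFun := fun x => (x.a, x.b, x.c)
      invFun := fun v => ⟨v.1, v.2.1, v.2.2⟩
      left_inv := fun x => rfl
      right_inv := fun v => rfl }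
  rw [Nat.card_congr f, Nat.card_prod, Nat.card_prod, Nat.card_fun, Nat.card_zmod, Nat.card_fin]
  ring

theorem inClass [hp : Fact p.Prime] (hp2 : p ≠ 2) : Extra.InClass p (Heis n p) where
  card_center := by
    have : NeZero p := ⟨hp.out.ne_zero⟩
    exact card_center
  comm_mem x y := by
    rw [mem_center_iff, commutatorElement_def]
    constructor
    · simp
    · simp
  pow_mem x := by
    rw [pow_prime hp2 x]
    exact Subgroup.one_mem _

/-- The module on which the Heisenberg group acts. -/
abbrev V (n p : ℕ) := ZMod p × ZMod p × (Fin n → ZMod p)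

/-- The action of a Heisenberg group element, as a plain function. -/
def actFun (x : Heis n p) (v : V n p) : V n p :=
  (v.1 + x.a ⬝ᵥ v.2.2 + x.c * v.2.1, v.2.1, v.2.2 + v.2.1 • x.b)

theorem actFun_one (v : V n p) : actFun (1 : Heis n p) v = v := by
  simp [actFun]

theorem actFun_mul (x y : Heis n p) (v : V n p) : actFun (x * y) v = actFun x (actFun y v) := by
  simp only [actFun, mul_a, mul_b, mul_c, add_dotProduct, dotProduct_add, dotProduct_smul,
    smul_add, smul_eq_mul]
  refine Prod.ext ?_ (Prod.ext rfl ?_)
  · simp only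
    ring
  · simp only
    abel

/-- The action as linear equivalences. -/
def act (x : Heis n p) : V n p ≃ₗ[ZMod p] V n p where
  toFun := actFun x
  invFun := actFun x⁻¹
  map_add' v w := by
    simp only [actFun, Prod.fst_add, Prod.snd_add, dotProduct_add, add_smul, Prod.mk_add_mk]
    refine Prod.ext ?_ (Prod.ext rfl ?_)
    · simp only
      ring
    · simp only
      abel
  map_smul' r v := by
    simp only [actFun, Prod.smul_fst, Prod.smul_snd, dotProduct_smul, smul_eq_mul,
      RingHom.id_apply, Prod.smul_mk, smul_add, mul_smul]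
    refine Prod.ext ?_ (Prod.ext rfl rfl)
    simp only
    ring
  left_inv v := by rw [← actFun_mul, inv_mul_cancel, actFun_one]
  right_inv v := by rw [← actFun_mul, mul_inv_cancel, actFun_one]

/-- The action as a group homomorphism. -/
def actHom : Heis n p →* (V n p ≃ₗ[ZMod p] V n p) where
  toFun := act
  map_one' := by
    ext v : 1
    exact actFun_one v
  map_mul' x y := by
    ext v : 1
    exact actFun_mul x y v

theorem actHom_injective [NeZero p] [Fact (1 < p)] :
    Function.Injective (actHom : Heis n p →* (V n p ≃ₗ[ZMod p] V n p)) := by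
  intro x y hxy
  have h : ∀ v : V n p, actFun x v = actFun y v := fun v => by
    have := congrArg (fun f : V n p ≃ₗ[ZMod p] V n p => f v) hxy
    exact this
  have h1 := h (0, 1, 0)
  have h2 : ∀ i : Fin n, actFun x (0, 0, Pi.single i 1) = actFun y (0, 0, Pi.single i 1) :=
    fun i => h _
  simp only [actFun, dotProduct_zero, add_zero, zero_add, mul_one, one_smul, Prod.mk.injEq,
    true_and] at h1
  ext i
  · have := (Prod.mk.inj (h2 i)).1
    simpa [dotProduct_single] using this
  · exact congrFun h1.2 i
  · exact h1.1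

/-- The coordinate isomorphism of `V` with `Fin (n + 2) → ZMod p`. -/
def coordEquiv (n p : ℕ) : V n p ≃ₗ[ZMod p] (Fin (n + 2) → ZMod p) :=
  (LinearEquiv.prodCongr (LinearEquiv.refl (ZMod p) (ZMod p))
    (Fin.consLinearEquiv (ZMod p) (fun _ : Fin (n + 1) => ZMod p))).trans
    (Fin.consLinearEquiv (ZMod p) (fun _ : Fin (n + 2) => ZMod p))

/-- The Heisenberg group as a matrix group of degree `n + 2`. -/
noncomputable def matHom (n p : ℕ) : Heis n p →* Matrix.GeneralLinearGroup (Fin (n + 2)) (ZMod p) :=
  (((Matrix.GeneralLinearGroup.toLin' (Module.Basis.ofEquivFun (coordEquiv n p))).trans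
    (LinearMap.GeneralLinearGroup.generalLinearEquiv (ZMod p) (V n p))).symm.toMonoidHom).comp actHom

theorem matHom_injective [NeZero p] [Fact (1 < p)] : Function.Injective (matHom n p) := by
  unfold matHom
  rw [MonoidHom.coe_comp]
  exact (MulEquiv.injective _).comp actHom_injective

end Heis

namespace Extra

/-- Transport of the class along an isomorphism. -/
theorem InClass.of_mulEquiv {p : ℕ} {E F : Type*} [Group E] [Group F] (e : E ≃* F)
    (h : InClass p E) : InClass p F where
  card_center := by
    rw [← h.card_center]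
    refine Nat.card_congr (e.symm.toEquiv.subtypeEquiv (fun z => ?_))
    simp only [Subgroup.mem_center_iff, MulEquiv.toEquiv_eq_coe, MulEquiv.coe_toEquiv]
    constructor
    · intro hz g
      have := hz (e g)
      apply e.injective
      simpa using this
    · intro hz g
      have := hz (e.symm g)
      have := congrArg e this
      simpa using this
  comm_mem x y := by
    have := h.comm_mem (e.symm x) (e.symm y)
    rw [Subgroup.mem_center_iff] at this ⊢
    intro g
    have h1 := congrArg e (this (e.symm g))
    simpa [commutatorElement_def] using h1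
  pow_mem x := by
    have := h.pow_mem (e.symm x)
    rw [Subgroup.mem_center_iff] at this ⊢
    intro g
    have h1 := congrArg e (this (e.symm g))
    simpa using h1

end Extra

end Cfsg.Agent.Helper3
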