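import Mathlib
import Cfsg.Prelude.Def_Transfer
import Cfsg.Agent.Lead.GexH
import Cfsg.Agent.Helper3.ExIdxA

set_option autoImplicit false

/-!
Helper lemmas (helper3): the basic data of an extraspecial subgroup `Q` of index `p` in a `p`-group `S`.
-/

namespace Cfsg.Agent.Helper3.ExIdx

open Cfsg Cfsg.FusionSystem Cfsg.Agent.Lead Cfsg.Agent.Lead.Meta Cfsg.Agent.Lead.Gex

open scoped commutatorElement

variable {Ω : Type*} [Group Ω] {S : Subgroup Ω}

/-- `Q ≤ S` extraspecial of index `p`, `Z = Z(Q)`. -/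
structure XS (p : ℕ) (S Q Z : Subgroup Ω) : Prop where
  hQS : Q ≤ S
  hZQ : Z ≤ Q
  hZcard : Nat.card Z = p
  hcomm : ∀ a ∈ Q, ∀ b ∈ Q, a * b * a⁻¹ * b⁻¹ ∈ Z
  hpow : ∀ a ∈ Q, a ^ p ∈ Z
  hZc : ∀ s ∈ S, ∀ z ∈ Z, s * z = z * s
  hcen : ∀ c ∈ Q, (∀ q ∈ Q, c * q = q * c) → c ∈ Z
  hcard : Nat.card S = p * Nat.card Q
  hnorm : ∀ s ∈ S, ∀ q ∈ Q, s * q * s⁻¹ ∈ Q

theorem xs_of [Finite S] (p : ℕ) [hp : Fact p.Prime] (hS : IsPGroup p S) (Q : Subgroup Ω)
    (hQS : Q ≤ S) (hQ : Cfsg.IsExtraspecial p ↥Q) (hQi : (Q.subgroupOf S).index = p) :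
    XS p S Q ((Subgroup.center ↥Q).map Q.subtype) := by
  haveI : Finite Q := Fusion.finite_of_le hQS
  have hQp : IsPGroup p Q := hS.to_le hQS
  have hZcard : Nat.card ((Subgroup.center ↥Q).map Q.subtype) = p := by
    rw [Subgroup.card_map_of_injective Q.subtype_injective]
    exact hQ.2
  have hZQ : (Subgroup.center ↥Q).map Q.subtype ≤ Q := by
    rintro _ ⟨w, _, rfl⟩
    exact w.2
  have hcomm : ∀ a ∈ Q, ∀ b ∈ Q, a * b * a⁻¹ * b⁻¹ ∈ (Subgroup.center ↥Q).map Q.subtype := by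
    intro a ha b hb
    refine ⟨⁅(⟨a, ha⟩ : Q), (⟨b, hb⟩ : Q)⁆, ?_, rfl⟩
    rw [SetLike.mem_coe, ← hQ.1.2.2, commutator_def]
    exact Subgroup.commutator_mem_commutator (Subgroup.mem_top _) (Subgroup.mem_top _)
  have hpow : ∀ a ∈ Q, a ^ p ∈ (Subgroup.center ↥Q).map Q.subtype := by
    intro a ha
    refine ⟨(⟨a, ha⟩ : Q) ^ p, ?_, rfl⟩
    rw [SetLike.mem_coe, ← hQ.1.2.1]
    exact Cfsg.Agent.Helper1.IsPGroup.pow_mem_frattini hQp _
  have hcard : Nat.card S = p * Nat.card Q := by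
    have h1 := Subgroup.card_mul_index (Q.subgroupOf S)
    rw [hQi] at h1
    have h2 : Nat.card (Q.subgroupOf S) = Nat.card Q :=
      Nat.card_congr (Subgroup.subgroupOfEquivOfLe hQS).toEquiv
    rw [h2] at h1
    rw [← h1, mul_comm]
  -- normality of `Q` in `S`
  haveI hQn : (Q.subgroupOf S).Normal := by
    apply Subgroup.normal_of_index_eq_minFac_card
    rw [hQi]
    obtain ⟨n, hn⟩ := hS.exists_card_eq
    have hn0 : n ≠ 0 := by
      rintro rfl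
      rw [pow_zero] at hn
      rw [hn] at hcard
      have h2 : p ∣ 1 := ⟨Nat.card Q, hcard⟩
      exact hp.out.one_lt.ne' (Nat.dvd_one.mp h2)
    rw [hn, Nat.Prime.pow_minFac hp.out hn0]
  have hnorm : ∀ s ∈ S, ∀ q ∈ Q, s * q * s⁻¹ ∈ Q := by
    intro s hs q hq
    have h1 := hQn.conj_mem ⟨q, hQS hq⟩ (Subgroup.mem_subgroupOf.mpr hq) ⟨s, hs⟩
    rw [Subgroup.mem_subgroupOf] at h1
    exact h1
  set Z : Subgroup Ω := (Subgroup.center ↥Q).map Q.subtype with hZdef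
  have hmemZ : ∀ c ∈ Q, (∀ q ∈ Q, c * q = q * c) → c ∈ Z := by
    intro c hc hcq
    refine ⟨⟨c, hc⟩, ?_, rfl⟩
    rw [SetLike.mem_coe, Subgroup.mem_center_iff]
    intro g
    apply Subtype.ext
    exact (hcq g.1 g.2).symm
  have hZcomm : ∀ z ∈ Z, ∀ q ∈ Q, z * q = q * z := by
    rintro _ ⟨w, hw, rfl⟩ q hq
    rw [SetLike.mem_coe, Subgroup.mem_center_iff] at hw
    have := congrArg Subtype.val (hw ⟨q, hq⟩)
    exact this.symm
  have hZconj : ∀ s ∈ S, ∀ z ∈ Z, s * z * s⁻¹ ∈ Z := by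
    intro s hs z hz
    apply hmemZ _ (hnorm s hs z (hZQ hz))
    intro q hq
    have h1 : s⁻¹ * q * s ∈ Q := by
      have := hnorm s⁻¹ (S.inv_mem hs) q hq
      rwa [inv_inv] at this
    have h2 := hZcomm z hz _ h1
    calc s * z * s⁻¹ * q = s * (z * (s⁻¹ * q * s)) * s⁻¹ := by group
      _ = s * ((s⁻¹ * q * s) * z) * s⁻¹ := by rw [h2]
      _ = q * (s * z * s⁻¹) := by group
  have hZS : Z ≤ S := hZQ.trans hQS
  haveI hZn : (Z.subgroupOf S).Normal := by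
    constructor
    intro n hn g
    rw [Subgroup.mem_subgroupOf] at hn ⊢
    exact hZconj g.1 g.2 n.1 hn
  have hZne : Z.subgroupOf S ≠ ⊥ := by
    intro h1
    have h2 : Nat.card (Z.subgroupOf S) = 1 := by rw [h1]; exact Subgroup.card_bot
    have h3 : Nat.card (Z.subgroupOf S) = Nat.card Z :=
      Nat.card_congr (Subgroup.subgroupOfEquivOfLe hZS).toEquiv
    rw [h3, hZcard] at h2
    exact hp.out.one_lt.ne' h2
  obtain ⟨b, hbZ, hb1, hbc⟩ := normal_inf_center_ne_bot' hS (Z.subgroupOf S) hZne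
  rw [Subgroup.mem_subgroupOf] at hbZ
  have hb1' : (b : Ω) ≠ 1 := fun h1 => hb1 (Subtype.ext h1)
  have hZc : ∀ s ∈ S, ∀ z ∈ Z, s * z = z * s := by
    intro s hs z hz
    have hb' : (⟨(b : Ω), hbZ⟩ : Z) ≠ 1 := fun h1 => hb1' (congrArg Subtype.val h1)
    have htop := zpowers_eq_top_of_prime_card hZcard hb'
    have hz' : (⟨z, hz⟩ : Z) ∈ Subgroup.zpowers (⟨(b : Ω), hbZ⟩ : Z) := by
      rw [htop]; exact Subgroup.mem_top _
    obtain ⟨k, hk⟩ := Subgroup.mem_zpowers_iff.mp hz'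
    have hk' : (b : Ω) ^ k = z := by
      have := congrArg Subtype.val hk
      simpa using this
    have h1 : s * (b : Ω) = (b : Ω) * s := congrArg Subtype.val (hbc ⟨s, hs⟩)
    have h2 : Commute s (b : Ω) := h1
    rw [← hk']
    exact (h2.zpow_right k).eq
  exact
    { hQS := hQS
      hZQ := hZQ
      hZcard := hZcard
      hcomm := hcomm
      hpow := hpow
      hZc := hZc
      hcen := hmemZ
      hcard := hcard
      hnorm := hnorm }

namespace XS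

variable {p : ℕ} {Q Z : Subgroup Ω}

theorem gen [hp : Fact p.Prime] (h : XS p S Q Z) {u : Ω} (hu : u ∈ Z) (hu1 : u ≠ 1) {v : Ω}
    (hv : v ∈ Z) : ∃ k : ℕ, v = u ^ k := by
  have hu' : (⟨u, hu⟩ : Z) ≠ 1 := fun h1 => hu1 (congrArg Subtype.val h1)
  have htop := zpowers_eq_top_of_prime_card h.hZcard hu'
  have hv' : (⟨v, hv⟩ : Z) ∈ Subgroup.zpowers (⟨u, hu⟩ : Z) := by rw [htop]; exact Subgroup.mem_top _
  have : Finite Z := Nat.finite_of_card_ne_zero (by rw [h.hZcard]; exact hp.out.ne_zero)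
  obtain ⟨k, hk⟩ := mem_powers_iff_mem_zpowers.mpr hv'
  refine ⟨k, ?_⟩
  have := congrArg Subtype.val hk
  rw [Subgroup.coe_pow] at this
  exact this.symm

theorem pow_p [hp : Fact p.Prime] (h : XS p S Q Z) {u : Ω} (hu : u ∈ Z) : u ^ p = 1 := by
  have h1 : (⟨u, hu⟩ : Z) ^ Nat.card Z = 1 := pow_card_eq_one'
  rw [h.hZcard] at h1
  have h2 := congrArg Subtype.val h1
  rw [Subgroup.coe_pow] at h2
  exact h2

theorem exists_ne_one [hp : Fact p.Prime] (h : XS p S Q Z) : ∃ z ∈ Z, z ≠ 1 := by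
  by_contra hcon
  push Not at hcon
  have h1 : Z = ⊥ := by
    rw [eq_bot_iff]
    intro z hz
    rw [Subgroup.mem_bot]
    exact hcon z hz
  have h2 := h.hZcard
  rw [h1, Subgroup.card_bot] at h2
  exact hp.out.one_lt.ne' h2.symm

theorem hZS (h : XS p S Q Z) : Z ≤ S := h.hZQ.trans h.hQS

end XS

/-- An element of `N_S(E)` whose conjugation stabilizes an `Aut_F(E)`-invariant chain of the centric radical
subgroup `E` lies in `E`. -/
theorem mem_of_chainStab' [Finite S] (p : ℕ) [hp : Fact p.Prime] (hS : IsPGroup p S)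
    (F : FusionSystem S) {E : Subgroup Ω} (hcE : F.IsCentric E) (hr : F.IsRadical p E)
    {c : ℕ → Subgroup E} (hc : ∀ i, c (i + 1) ≤ c i) (h0 : c 0 = ⊤) {k : ℕ} (hk : c k = ⊥)
    (hinv : ∀ a ∈ F.autGroup E, ∀ i x, x ∈ c i → a x ∈ c i) {d : Ω} (hdS : d ∈ S)
    (hdN : d ∈ Subgroup.normalizer (E : Set Ω)) (hδ : ChainStab c (conjAutHom E ⟨d, hdN⟩)) :
    d ∈ E := by
  have hES := hcE.1
  haveI : Finite E := Fusion.finite_of_le hES
  have hEp : IsPGroup p E := hS.to_le hES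
  have hδA : conjAutHom E ⟨d, hdN⟩ ∈ F.autGroup E :=
    Fusion.autInducedBy_le_autGroup F hES (Fusion.conjAutHom_mem_autInducedBy E _ hdS)
  set K : Subgroup (MulAut E) :=
    { carrier := {α | α ∈ F.autGroup E ∧ ChainStab c α}
      mul_mem' := fun ha hb => ⟨(F.autGroup E).mul_mem ha.1 hb.1, ChainStab.mul hc ha.2 hb.2⟩
      one_mem' := ⟨(F.autGroup E).one_mem, ChainStab.one c⟩
      inv_mem' := fun ha => ⟨(F.autGroup E).inv_mem ha.1, ChainStab.inv hc ha.2⟩ } with hKdef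
  have hKA : K ≤ F.autGroup E := fun α hα => hα.1
  have hKn : ∀ a ∈ F.autGroup E, ∀ n ∈ K, a * n * a⁻¹ ∈ K := by
    intro a ha n hn
    refine ⟨(F.autGroup E).mul_mem ((F.autGroup E).mul_mem ha hn.1) ((F.autGroup E).inv_mem ha), ?_⟩
    exact ChainStab.conj (hinv a ha) (hinv a⁻¹ ((F.autGroup E).inv_mem ha)) hn.2
  have hKp : IsPGroup p K := isPGroup_of_chainStab hEp hc h0 hk K (fun α hα => hα.2)
  exact Fusion.mem_of_conjAutHom_mem_inn F hcE d hdS hdN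
    (hrad_of_isRadical p F hr K hKA hKn hKp ⟨hδA, hδ⟩)

end Cfsg.Agent.Helper3.ExIdx
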