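import Mathlib
import Cfsg.Agent.Lead.FusionSat3
import Cfsg.Agent.Helper3.ExIdxB

set_option autoImplicit false

/-!
Helper lemmas (helper3): an essential subgroup inside an extraspecial subgroup `Q` of index `p` is `Q`
itself, once `|S| ≥ p ^ 6`.
-/

namespace Cfsg.Agent.Helper3.ExIdx

open Cfsg Cfsg.FusionSystem Cfsg.Agent.Lead Cfsg.Agent.Lead.Meta Cfsg.Agent.Lead.Gex

variable {Ω : Type*} [Group Ω] {S : Subgroup Ω}

/-- Under `XS`, if `E ≤ Q` is abelian, contains `Z`, and `Q = E ⟨x₀⟩`, then `|S| ≤ p ^ 5`. -/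
theorem card_le_of_surj [Finite S] (p : ℕ) [hp : Fact p.Prime] {Q Z : Subgroup Ω}
    (hx : XS p S Q Z) {E : Subgroup Ω} (hEQ : E ≤ Q) (hZE : Z ≤ E)
    (hab : ∀ a ∈ E, ∀ b ∈ E, a * b = b * a) {x₀ : Ω} (hx₀Q : x₀ ∈ Q)
    (hsurj : ∀ q ∈ Q, ∃ e ∈ E, ∃ g ∈ Subgroup.zpowers x₀, q = e * g) :
    Nat.card S ≤ p ^ 5 := by
  have hES : E ≤ S := hEQ.trans hx.hQS
  haveI : Finite E := Fusion.finite_of_le hES
  haveI : Finite Q := Fusion.finite_of_le hx.hQS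
  have hx₀S : x₀ ∈ S := hx.hQS hx₀Q
  have hzS : Subgroup.zpowers x₀ ≤ S := by
    rw [Subgroup.zpowers_le]
    exact hx₀S
  haveI : Finite (Subgroup.zpowers x₀) := Fusion.finite_of_le hzS
  have hC : ∀ c ∈ E, c * x₀ = x₀ * c → c ∈ Z := by
    intro c hc hcx
    apply hx.hcen c (hEQ hc)
    intro q hq
    obtain ⟨e, he, g, hg, rfl⟩ := hsurj q hq
    obtain ⟨k, rfl⟩ := Subgroup.mem_zpowers_iff.mp hg
    have h1 : Commute c e := hab c hc e he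
    have h2 : Commute c (x₀ ^ k) := Commute.zpow_right hcx k
    exact (h1.mul_right h2).eq
  let f : E →* Z :=
    { toFun := fun e => ⟨(e : Ω) * x₀ * (e : Ω)⁻¹ * x₀⁻¹, hx.hcomm e (hEQ e.2) x₀ hx₀Q⟩
      map_one' := by
        apply Subtype.ext
        simp
      map_mul' := fun e₁ e₂ => by
        apply Subtype.ext
        show ((e₁ * e₂ : E) : Ω) * x₀ * ((e₁ * e₂ : E) : Ω)⁻¹ * x₀⁻¹ =
          ((e₁ : Ω) * x₀ * (e₁ : Ω)⁻¹ * x₀⁻¹) * ((e₂ : Ω) * x₀ * (e₂ : Ω)⁻¹ * x₀⁻¹)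
        have hz1 := hx.hcomm e₁ (hEQ e₁.2) x₀ hx₀Q
        have hz2 := hx.hcomm e₂ (hEQ e₂.2) x₀ hx₀Q
        have hc := hx.hZc (e₁ : Ω) (hES e₁.2) _ hz2
        have hc2 := hx.hZc _ (hx.hZS hz1) _ hz2
        rw [Subgroup.coe_mul]
        calc (e₁ : Ω) * (e₂ : Ω) * x₀ * ((e₁ : Ω) * (e₂ : Ω))⁻¹ * x₀⁻¹
            = ((e₁ : Ω) * ((e₂ : Ω) * x₀ * (e₂ : Ω)⁻¹ * x₀⁻¹)) * x₀ * (e₁ : Ω)⁻¹ * x₀⁻¹ := by group
          _ = (((e₂ : Ω) * x₀ * (e₂ : Ω)⁻¹ * x₀⁻¹) * (e₁ : Ω)) * x₀ * (e₁ : Ω)⁻¹ * x₀⁻¹ := by rw [hc]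
          _ = ((e₂ : Ω) * x₀ * (e₂ : Ω)⁻¹ * x₀⁻¹) * ((e₁ : Ω) * x₀ * (e₁ : Ω)⁻¹ * x₀⁻¹) := by group
          _ = ((e₁ : Ω) * x₀ * (e₁ : Ω)⁻¹ * x₀⁻¹) * ((e₂ : Ω) * x₀ * (e₂ : Ω)⁻¹ * x₀⁻¹) := hc2.symm }
  have hker : f.ker ≤ Z.subgroupOf E := by
    intro e he
    rw [MonoidHom.mem_ker] at he
    have h1 : (e : Ω) * x₀ * (e : Ω)⁻¹ * x₀⁻¹ = 1 := congrArg Subtype.val he
    rw [Subgroup.mem_subgroupOf]
    apply hC e e.2
    calc (e : Ω) * x₀ = ((e : Ω) * x₀ * (e : Ω)⁻¹ * x₀⁻¹) * (x₀ * (e : Ω)) := by group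
      _ = x₀ * (e : Ω) := by rw [h1, one_mul]
  have hcardE : Nat.card E ≤ p * p := by
    have h1 := Subgroup.card_mul_index f.ker
    rw [Subgroup.index_ker] at h1
    have h2 : Nat.card f.ker ≤ p := by
      have h3 := Subgroup.card_le_of_le hker
      have h4 : Nat.card (Z.subgroupOf E) = Nat.card Z :=
        Nat.card_congr (Subgroup.subgroupOfEquivOfLe hZE).toEquiv
      rw [h4, hx.hZcard] at h3
      exact h3
    have h5 : Nat.card f.range ≤ p := by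
      haveI : Finite Z := Nat.finite_of_card_ne_zero (by rw [hx.hZcard]; exact hp.out.ne_zero)
      have h6 := Nat.card_le_card_of_injective f.range.subtype f.range.subtype_injective
      rw [hx.hZcard] at h6
      exact h6
    rw [← h1]
    exact Nat.mul_le_mul h2 h5
  have hord : Nat.card (Subgroup.zpowers x₀) ≤ p * p := by
    rw [Nat.card_zpowers]
    apply Nat.le_of_dvd (Nat.mul_pos hp.out.pos hp.out.pos)
    apply orderOf_dvd_of_pow_eq_one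
    rw [pow_mul]
    exact hx.pow_p (hx.hpow x₀ hx₀Q)
  have hcardQ : Nat.card Q ≤ Nat.card E * Nat.card (Subgroup.zpowers x₀) := by
    rw [← Nat.card_prod]
    let φ : E × Subgroup.zpowers x₀ → Q := fun eg =>
      ⟨(eg.1 : Ω) * (eg.2 : Ω), Q.mul_mem (hEQ eg.1.2) ((Subgroup.zpowers_le.mpr hx₀Q) eg.2.2)⟩
    apply Nat.card_le_card_of_surjective φ
    intro q
    obtain ⟨e, he, g, hg, hq⟩ := hsurj q.1 q.2
    exact ⟨(⟨e, he⟩, ⟨g, hg⟩), Subtype.ext hq.symm⟩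
  rw [hx.hcard]
  calc p * Nat.card Q ≤ p * (Nat.card E * Nat.card (Subgroup.zpowers x₀)) :=
        Nat.mul_le_mul_left _ hcardQ
    _ ≤ p * ((p * p) * (p * p)) := Nat.mul_le_mul_left _ (Nat.mul_le_mul hcardE hord)
    _ = p ^ 5 := by ring

/-- Under `XS` with `|S| ≥ p ^ 6`: if `E < Q` is abelian and contains `Z`, every element of `E` commutes with
some element of `Q` outside `E`. -/
theorem exists_comm_outside [Finite S] (p : ℕ) [hp : Fact p.Prime] {Q Z : Subgroup Ω}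
    (hx : XS p S Q Z) (h6 : p ^ 6 ≤ Nat.card S) {E : Subgroup Ω} (hEQ : E ≤ Q) (hZE : Z ≤ E)
    (hab : ∀ a ∈ E, ∀ b ∈ E, a * b = b * a) {x₀ : Ω} (hx₀Q : x₀ ∈ Q) (hx₀E : x₀ ∉ E) :
    ∀ w ∈ E, ∃ x ∈ Q, x ∉ E ∧ x * w = w * x := by
  by_cases hsurj : ∀ q ∈ Q, ∃ e ∈ E, ∃ g ∈ Subgroup.zpowers x₀, q = e * g
  · exfalso
    have h1 := card_le_of_surj p hx hEQ hZE hab hx₀Q hsurj
    have h2 : p ^ 5 < p ^ 6 := Nat.pow_lt_pow_right hp.out.one_lt (by norm_num)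
    omega
  · push Not at hsurj
    obtain ⟨y, hyQ, hy⟩ := hsurj
    intro w hw
    by_cases hcw : x₀ * w = w * x₀
    · exact ⟨x₀, hx₀Q, hx₀E, hcw⟩
    · have hz₀ : w * x₀ * w⁻¹ * x₀⁻¹ ∈ Z := hx.hcomm w (hEQ hw) x₀ hx₀Q
      have hz₀1 : w * x₀ * w⁻¹ * x₀⁻¹ ≠ 1 := by
        intro h1
        apply hcw
        calc x₀ * w = (w * x₀ * w⁻¹ * x₀⁻¹)⁻¹ * (w * x₀) := by group
          _ = w * x₀ := by rw [h1, inv_one, one_mul]
      have hzy : w * y * w⁻¹ * y⁻¹ ∈ Z := hx.hcomm w (hEQ hw) y hyQ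
      obtain ⟨k, hk⟩ := hx.gen hz₀ hz₀1 hzy
      obtain ⟨z₀, hz₀def⟩ : ∃ z₀, z₀ = w * x₀ * w⁻¹ * x₀⁻¹ := ⟨_, rfl⟩
      rw [← hz₀def] at hz₀ hz₀1 hk
      have h1 : w * x₀ * w⁻¹ = z₀ * x₀ := by rw [hz₀def]; group
      have h2 : w * y * w⁻¹ = z₀ ^ k * y := by rw [← hk]; group
      have hzx : Commute z₀ x₀ := (hx.hZc x₀ (hx.hQS hx₀Q) z₀ hz₀).symm
      have h3 : ∀ j : ℕ, w * x₀ ^ j * w⁻¹ = z₀ ^ j * x₀ ^ j := by
        intro j
        rw [← conj_pow, h1, hzx.mul_pow]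
      obtain ⟨j, hjdef⟩ : ∃ j, j = (p - 1) * k := ⟨_, rfl⟩
      have hkj : k + j = p * k := by
        rw [hjdef]
        have := hp.out.one_le
        have h4 : p = (p - 1) + 1 := by omega
        nth_rewrite 2 [h4]
        ring
      refine ⟨y * x₀ ^ j, Q.mul_mem hyQ (Q.pow_mem hx₀Q _), ?_, ?_⟩
      · intro hmem
        apply hy _ hmem ((x₀ ^ j)⁻¹)
          (Subgroup.inv_mem _ (Subgroup.pow_mem _ (Subgroup.mem_zpowers x₀) _))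
        group
      · have hzy' : Commute y (z₀ ^ j) := by
          have := hx.hZc y (hx.hQS hyQ) _ (Z.pow_mem hz₀ j)
          exact this
        have h4 : w * (y * x₀ ^ j) * w⁻¹ = y * x₀ ^ j := by
          calc w * (y * x₀ ^ j) * w⁻¹ = (w * y * w⁻¹) * (w * x₀ ^ j * w⁻¹) := by group
            _ = z₀ ^ k * y * (z₀ ^ j * x₀ ^ j) := by rw [h2, h3]
            _ = z₀ ^ k * (y * z₀ ^ j) * x₀ ^ j := by group
            _ = z₀ ^ k * (z₀ ^ j * y) * x₀ ^ j := by rw [hzy'.eq]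
            _ = z₀ ^ (k + j) * y * x₀ ^ j := by rw [pow_add]; group
            _ = y * x₀ ^ j := by
              rw [hkj, pow_mul, hx.pow_p hz₀, one_pow, one_mul]
        calc y * x₀ ^ j * w = (w * (y * x₀ ^ j) * w⁻¹) * w := by rw [h4]
          _ = w * (y * x₀ ^ j) := by group

end Cfsg.Agent.Helper3.ExIdx
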