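import Mathlib
import Cfsg.Agent.Lead.GexF
import Cfsg.Agent.Lead.FusionSat3

set_option autoImplicit false

/-!
Helper lemmas (helper3): a group `G` of automorphisms of a finite abelian `p`-group `R` whose Sylow
`p`-subgroup is generated by one "transvection" `t` with centre `Zr` of order `p`: if `⟨t⟩` is not normal
in `G` then `R = W × U` with `U` a `G`-invariant subgroup of the axis of `t`, and `G` contains an
element inverting `Zr`, centralizing `U` and commuting with `t`.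
-/

namespace Cfsg.Agent.Helper3.ExIdx

open Cfsg.Agent.Lead Cfsg.Agent.Lead.Gex

/-- Three-step version: `a` and `b` generate a `p`-group when the commutators of `a` are fixed by both, and
those of `b` are fixed by `b` (abelian case). -/
theorem isPGroup_closure_pair3 {E : Type*} [Group E] [Finite E] {p : ℕ} [Fact p.Prime]
    (hE : IsPGroup p E) (hcomm : ∀ x y : E, x * y = y * x) (a b : MulAut E)
    (haa : ∀ e, a (e⁻¹ * a e) = e⁻¹ * a e) (hba : ∀ e, b (e⁻¹ * a e) = e⁻¹ * a e)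
    (hbb : ∀ e, b (e⁻¹ * b e) = e⁻¹ * b e) :
    IsPGroup p (Subgroup.closure ({a, b} : Set (MulAut E))) := by
  obtain ⟨W, hW⟩ : ∃ W : Subgroup E, ∀ e, e ∈ W ↔ (a e = e ∧ b e = e) := by
    refine ⟨{ carrier := {e | a e = e ∧ b e = e}
              mul_mem' := ?_
              one_mem' := ?_
              inv_mem' := ?_ }, fun e => Iff.rfl⟩
    · intro x y hx hy
      exact ⟨by rw [map_mul, hx.1, hy.1], by rw [map_mul, hx.2, hy.2]⟩
    · exact ⟨map_one a, map_one b⟩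
    · intro x hx
      exact ⟨by rw [map_inv, hx.1], by rw [map_inv, hx.2]⟩
  have hmv : ∀ (c : MulAut E) (x y : E), (x * y)⁻¹ * c (x * y) = (x⁻¹ * c x) * (y⁻¹ * c y) := by
    intro c x y
    rw [map_mul, mul_inv_rev, hcomm y⁻¹ x⁻¹]
    calc x⁻¹ * y⁻¹ * (c x * c y) = x⁻¹ * (y⁻¹ * c x) * c y := by group
      _ = x⁻¹ * (c x * y⁻¹) * c y := by rw [hcomm y⁻¹ (c x)]
      _ = x⁻¹ * c x * (y⁻¹ * c y) := by group
  obtain ⟨M, hM⟩ : ∃ M : Subgroup E, ∀ e, e ∈ M ↔ (e⁻¹ * a e ∈ W ∧ e⁻¹ * b e ∈ W) := by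
    refine ⟨{ carrier := {e | e⁻¹ * a e ∈ W ∧ e⁻¹ * b e ∈ W}
              mul_mem' := ?_
              one_mem' := ?_
              inv_mem' := ?_ }, fun e => Iff.rfl⟩
    · intro x y hx hy
      refine ⟨?_, ?_⟩
      · show (x * y)⁻¹ * a (x * y) ∈ W
        rw [hmv]
        exact W.mul_mem hx.1 hy.1
      · show (x * y)⁻¹ * b (x * y) ∈ W
        rw [hmv]
        exact W.mul_mem hx.2 hy.2
    · refine ⟨?_, ?_⟩
      · show (1 : E)⁻¹ * a 1 ∈ W
        rw [map_one, inv_one, one_mul]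
        exact W.one_mem
      · show (1 : E)⁻¹ * b 1 ∈ W
        rw [map_one, inv_one, one_mul]
        exact W.one_mem
    · intro x hx
      refine ⟨?_, ?_⟩
      · show (x⁻¹)⁻¹ * a x⁻¹ ∈ W
        have h1 : (x⁻¹)⁻¹ * a x⁻¹ = (x⁻¹ * a x)⁻¹ := by
          rw [map_inv, mul_inv_rev, inv_inv, hcomm]
        rw [h1]
        exact W.inv_mem hx.1
      · show (x⁻¹)⁻¹ * b x⁻¹ ∈ W
        have h1 : (x⁻¹)⁻¹ * b x⁻¹ = (x⁻¹ * b x)⁻¹ := by
          rw [map_inv, mul_inv_rev, inv_inv, hcomm]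
        rw [h1]
        exact W.inv_mem hx.2
  have hWM : W ≤ M := by
    intro x hx
    rw [hM]
    rw [hW] at hx
    rw [hx.1, hx.2, inv_mul_cancel]
    exact ⟨W.one_mem, W.one_mem⟩
  have hanti := chain4_anti (M := M) (W := W) (Z₁ := ⊥) hWM bot_le
  apply isPGroup_of_chainStab hE hanti (chain4_zero _ _ _) (chain4_four _ _ _)
  intro α hα
  apply ChainStab.of_mem_closure hanti _ hα
  intro β hβ
  rcases hβ with rfl | hβ
  · apply chainStab_chain4
    · intro x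
      rw [hM, haa x, hba x, inv_mul_cancel]
      exact ⟨W.one_mem, W.one_mem⟩
    · intro x hx
      exact ((hM x).mp hx).1
    · intro x hx
      rw [((hW x).mp hx).1, inv_mul_cancel]
      exact Subgroup.one_mem _
    · intro x hx
      rw [Subgroup.mem_bot] at hx
      rw [hx, map_one]
  · rw [Set.mem_singleton_iff] at hβ
    subst hβ
    apply chainStab_chain4
    · intro x
      rw [hM, hbb x, inv_mul_cancel]
      refine ⟨?_, W.one_mem⟩
      rw [hW]
      exact ⟨haa _, hba _⟩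
    · intro x hx
      exact ((hM x).mp hx).2
    · intro x hx
      rw [((hW x).mp hx).2, inv_mul_cancel]
      exact Subgroup.one_mem _
    · intro x hx
      rw [Subgroup.mem_bot] at hx
      rw [hx, map_one]

/-- Abstract transvection data. -/
structure TV {R : Type*} [Group R] (p : ℕ) (G : Subgroup (MulAut R)) (Zr : Subgroup R)
    (t : MulAut R) : Prop where
  comm : ∀ a b : R, a * b = b * a
  hZcard : Nat.card Zr = p
  htG : t ∈ G
  htZ : ∀ z ∈ Zr, t z = z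
  htm : ∀ r : R, r⁻¹ * t r ∈ Zr
  hsy : ∀ K : Subgroup (MulAut R), K ≤ G → IsPGroup p K → t ∈ K → K ≤ Subgroup.zpowers t

namespace TV

variable {R : Type*} [Group R] {p : ℕ} {G : Subgroup (MulAut R)} {Zr : Subgroup R} {t : MulAut R}

theorem gen [hp : Fact p.Prime] (h : TV p G Zr t) {u : R} (hu : u ∈ Zr) (hu1 : u ≠ 1) {v : R}
    (hv : v ∈ Zr) : ∃ k : ℕ, v = u ^ k := by
  have hu' : (⟨u, hu⟩ : Zr) ≠ 1 := fun h1 => hu1 (congrArg Subtype.val h1)
  have htop := zpowers_eq_top_of_prime_card h.hZcard hu'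
  have hv' : (⟨v, hv⟩ : Zr) ∈ Subgroup.zpowers (⟨u, hu⟩ : Zr) := by
    rw [htop]; exact Subgroup.mem_top _
  have : Finite Zr := Nat.finite_of_card_ne_zero (by rw [h.hZcard]; exact hp.out.ne_zero)
  obtain ⟨k, hk⟩ := mem_powers_iff_mem_zpowers.mpr hv'
  refine ⟨k, ?_⟩
  have := congrArg Subtype.val hk
  rw [Subgroup.coe_pow] at this
  exact this.symm

theorem exists_ne_one [hp : Fact p.Prime] (h : TV p G Zr t) : ∃ z ∈ Zr, z ≠ 1 := by
  by_contra hcon
  push Not at hcon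
  have h1 : Zr = ⊥ := by
    rw [eq_bot_iff]
    intro z hz
    rw [Subgroup.mem_bot]
    exact hcon z hz
  have h2 := h.hZcard
  rw [h1, Subgroup.card_bot] at h2
  exact hp.out.one_lt.ne' h2.symm

theorem mv_mul (h : TV p G Zr t) (c : MulAut R) (x y : R) :
    (x * y)⁻¹ * c (x * y) = (x⁻¹ * c x) * (y⁻¹ * c y) := by
  rw [map_mul, mul_inv_rev, h.comm y⁻¹ x⁻¹]
  calc x⁻¹ * y⁻¹ * (c x * c y) = x⁻¹ * (y⁻¹ * c x) * c y := by group
    _ = x⁻¹ * (c x * y⁻¹) * c y := by rw [h.comm y⁻¹ (c x)]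
    _ = x⁻¹ * c x * (y⁻¹ * c y) := by group

theorem mv_pow (h : TV p G Zr t) (c : MulAut R) (x : R) (k : ℕ) :
    (x ^ k)⁻¹ * c (x ^ k) = (x⁻¹ * c x) ^ k := by
  induction k with
  | zero => simp
  | succ k ih => rw [pow_succ, h.mv_mul, ih, pow_succ]

/-- Elements of `⟨t⟩` fix the fixed points of `t`. -/
theorem fix_of_mem_zpowers {u : R} (hu : t u = u) {τ : MulAut R}
    (hτ : τ ∈ Subgroup.zpowers t) : τ u = u := by
  have h1 : Subgroup.zpowers t ≤ MulAction.stabilizer (MulAut R) u := by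
    rw [Subgroup.zpowers_le, MulAction.mem_stabilizer_iff]
    exact hu
  have h2 := h1 hτ
  rw [MulAction.mem_stabilizer_iff] at h2
  exact h2

theorem fixNT {δ : MulAut R} (hδ : δ * t * δ⁻¹ ∈ Subgroup.zpowers t) {u : R} (hu : t u = u) :
    t (δ⁻¹ u) = δ⁻¹ u := by
  have h1 := fix_of_mem_zpowers hu hδ
  have h2 : δ (t (δ⁻¹ u)) = u := h1
  have h3 : δ⁻¹ (δ (t (δ⁻¹ u))) = δ⁻¹ u := by rw [h2]
  rw [MulAut.inv_apply_self] at h3
  exact h3

theorem conj_apply (δ : MulAut R) (e : R) : (δ * t * δ⁻¹) e = δ (t (δ⁻¹ e)) := rfl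

theorem conj_mv (δ : MulAut R) (e : R) :
    e⁻¹ * (δ * t * δ⁻¹) e = δ ((δ⁻¹ e)⁻¹ * t (δ⁻¹ e)) := by
  rw [conj_apply, map_mul, map_inv, MulAut.apply_inv_self]

/-- If the centre of `t` meets the axis of `δ t δ⁻¹` then `δ` normalizes `⟨t⟩`. -/
theorem pp [Finite R] [hp : Fact p.Prime] (hR : IsPGroup p R) (h : TV p G Zr t) {δ : MulAut R}
    (hδ : δ ∈ G) {z : R} (hz : z ∈ Zr) (hz1 : z ≠ 1) (hfix : t (δ⁻¹ z) = δ⁻¹ z) :
    δ * t * δ⁻¹ ∈ Subgroup.zpowers t := by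
  have hbz : (δ * t * δ⁻¹) z = z := by
    rw [conj_apply, hfix, MulAut.apply_inv_self]
  have hbZ : ∀ v ∈ Zr, (δ * t * δ⁻¹) v = v := by
    intro v hv
    obtain ⟨k, rfl⟩ := h.gen hz hz1 hv
    rw [map_pow, hbz]
  have hK := isPGroup_closure_pair3 hR h.comm t (δ * t * δ⁻¹)
    (fun e => h.htZ _ (h.htm e)) (fun e => hbZ _ (h.htm e)) (by
      intro e
      rw [conj_mv, conj_apply, MulAut.inv_apply_self, h.htZ _ (h.htm _)])
  have hbG : δ * t * δ⁻¹ ∈ G := G.mul_mem (G.mul_mem hδ h.htG) (G.inv_mem hδ)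
  have hKG : Subgroup.closure ({t, δ * t * δ⁻¹} : Set (MulAut R)) ≤ G := by
    rw [Subgroup.closure_le]
    rintro x (rfl | hx)
    · exact h.htG
    · rw [Set.mem_singleton_iff] at hx
      rw [hx]
      exact hbG
  exact h.hsy _ hKG hK (Subgroup.subset_closure (by simp)) (Subgroup.subset_closure (by simp))

theorem pp' [Finite R] [hp : Fact p.Prime] (hR : IsPGroup p R) (h : TV p G Zr t) {δ : MulAut R}
    (hδ : δ ∈ G) (hn : δ * t * δ⁻¹ ∉ Subgroup.zpowers t) {z : R} (hz : z ∈ Zr) (hz1 : z ≠ 1) :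
    t (δ⁻¹ z) ≠ δ⁻¹ z := fun hfix => hn (h.pp hR hδ hz hz1 hfix)

/-- If `δ` does not normalize `⟨t⟩`, neither does `δ⁻¹`. -/
theorem inv_not_norm [Finite R] {δ : MulAut R} (hn : δ * t * δ⁻¹ ∉ Subgroup.zpowers t) :
    δ⁻¹ * t * δ ∉ Subgroup.zpowers t := by
  intro hmem
  apply hn
  have h1 : δ⁻¹ ∈ Subgroup.normalizer ((Subgroup.zpowers t : Subgroup (MulAut R)) : Set (MulAut R)) := by
    apply mem_normalizer_of_conj_mem_of_finite
    intro y hy
    obtain ⟨k, rfl⟩ := Subgroup.mem_zpowers_iff.mp hy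
    have h2 : δ⁻¹ * t ^ k * δ⁻¹⁻¹ = (δ⁻¹ * t * δ) ^ k := by
      rw [inv_inv]
      have := (MulAut.conj δ⁻¹).toMonoidHom.map_zpow t k
      simp only [MulEquiv.coe_toMonoidHom, MulAut.conj_apply, inv_inv] at this
      exact this
    rw [h2]
    exact Subgroup.zpow_mem _ hmem k
  have h3 := Subgroup.inv_mem _ h1
  rw [inv_inv] at h3
  exact (Subgroup.mem_normalizer_iff.mp h3 t).mp (Subgroup.mem_zpowers t)

end TV

end Cfsg.Agent.Helper3.ExIdx
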