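import Mathlib
import Cfsg.Agent.Helper3.ExIdxD

set_option autoImplicit false

/-!
Helper lemmas (helper3): the main structure theorem for the abstract transvection data `TV`.
-/

namespace Cfsg.Agent.Helper3.ExIdx

open Cfsg.Agent.Lead Cfsg.Agent.Lead.Gex

namespace TV

variable {R : Type*} [Group R] {p : ℕ} {G : Subgroup (MulAut R)} {Zr : Subgroup R} {t : MulAut R}

theorem zpow_fix {u : R} (hu : t u = u) (k : ℕ) : (t ^ k) u = u :=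
  fix_of_mem_zpowers hu (Subgroup.pow_mem _ (Subgroup.mem_zpowers t) k)

theorem inv_fix {c : MulAut R} {u : R} (hu : c u = u) : c⁻¹ u = u := by
  have h1 : c⁻¹ (c u) = c⁻¹ u := by rw [hu]
  rw [MulAut.inv_apply_self] at h1
  exact h1.symm

theorem pow_fix' {c : MulAut R} {u : R} (hu : c u = u) (k : ℕ) : (c ^ k) u = u := by
  induction k with
  | zero => rfl
  | succ n ih => rw [pow_succ, MulAut.mul_apply, hu, ih]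

/-- The common axis `U` is contained in every conjugate axis. -/
theorem axis_le [Finite R] [hp : Fact p.Prime] (hR : IsPGroup p R) (h : TV p G Zr t) {γ : MulAut R}
    (hγG : γ ∈ G) (hγ : γ * t * γ⁻¹ ∉ Subgroup.zpowers t) {β : MulAut R} (hβ : β ∈ G) {u : R}
    (hu1 : t u = u) (hu2 : t (γ⁻¹ u) = γ⁻¹ u) : t (β⁻¹ u) = β⁻¹ u := by
  have hγ' : γ⁻¹ * t * γ⁻¹⁻¹ ∉ Subgroup.zpowers t := by
    rw [inv_inv]
    exact inv_not_norm hγ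
  have hγiG : γ⁻¹ ∈ G := G.inv_mem hγG
  by_cases h1 : β * t * β⁻¹ ∈ Subgroup.zpowers t
  · exact fixNT h1 hu1
  by_cases h2 : (γ⁻¹ * β) * t * (γ⁻¹ * β)⁻¹ ∈ Subgroup.zpowers t
  · have h3 := fixNT h2 hu2
    have h4 : (γ⁻¹ * β)⁻¹ (γ⁻¹ u) = β⁻¹ u := by
      rw [mul_inv_rev, inv_inv, MulAut.mul_apply, MulAut.apply_inv_self]
    rw [h4] at h3
    exact h3
  obtain ⟨ζ, hζ, hζ1⟩ := h.exists_ne_one
  have hv₂ : t (γ ζ) ≠ γ ζ := by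
    have := h.pp' hR hγiG hγ' hζ hζ1
    rwa [inv_inv] at this
  obtain ⟨v₂, hv₂def⟩ : ∃ v₂, v₂ = γ ζ := ⟨_, rfl⟩
  rw [← hv₂def] at hv₂
  obtain ⟨g₀, hg₀def⟩ : ∃ g₀, g₀ = v₂⁻¹ * t v₂ := ⟨_, rfl⟩
  have hg₀Z : g₀ ∈ Zr := hg₀def ▸ h.htm v₂
  have hg₀1 : g₀ ≠ 1 := by
    intro h0
    apply hv₂
    rw [hg₀def] at h0
    exact (inv_mul_eq_one.mp h0).symm
  have hv₂B : t (β⁻¹ v₂) ≠ β⁻¹ v₂ := by
    have := h.pp' hR (G.mul_mem hγiG hβ) h2 hζ hζ1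
    have h4 : (γ⁻¹ * β)⁻¹ ζ = β⁻¹ v₂ := by
      rw [mul_inv_rev, inv_inv, MulAut.mul_apply, hv₂def]
    rwa [h4] at this
  have hg₀B : t (β⁻¹ g₀) ≠ β⁻¹ g₀ := h.pp' hR hβ h1 hg₀Z hg₀1
  obtain ⟨ma, hmadef⟩ : ∃ ma, ma = (β⁻¹ v₂)⁻¹ * t (β⁻¹ v₂) := ⟨_, rfl⟩
  obtain ⟨mb, hmbdef⟩ : ∃ mb, mb = (β⁻¹ g₀)⁻¹ * t (β⁻¹ g₀) := ⟨_, rfl⟩
  have hmaZ : ma ∈ Zr := hmadef ▸ h.htm _
  have hmbZ : mb ∈ Zr := hmbdef ▸ h.htm _
  have hmb1 : mb ≠ 1 := by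
    intro h0
    apply hg₀B
    rw [hmbdef] at h0
    exact (inv_mul_eq_one.mp h0).symm
  obtain ⟨k, hk⟩ := h.gen hmbZ hmb1 (Zr.inv_mem hmaZ)
  have hfixk : t (β⁻¹ (v₂ * g₀ ^ k)) = β⁻¹ (v₂ * g₀ ^ k) := by
    have h5 := h.mv_mul t (β⁻¹ v₂) ((β⁻¹ g₀) ^ k)
    rw [h.mv_pow, ← hmadef, ← hmbdef, ← hk, mul_inv_cancel] at h5
    rw [map_mul, map_pow]
    exact (inv_mul_eq_one.mp h5).symm
  have hpow : (t ^ k) v₂ = v₂ * g₀ ^ k := by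
    rw [hg₀def]
    exact pow_apply_of_fix t v₂ (h.htZ _ (h.htm v₂)) k
  have hεG : t ^ k * γ ∈ G := G.mul_mem (G.pow_mem h.htG k) hγG
  have hδ'G : (t ^ k * γ)⁻¹ * β ∈ G := G.mul_mem (G.inv_mem hεG) hβ
  have hfix' : t (((t ^ k * γ)⁻¹ * β)⁻¹ ζ) = ((t ^ k * γ)⁻¹ * β)⁻¹ ζ := by
    have h6 : ((t ^ k * γ)⁻¹ * β)⁻¹ ζ = β⁻¹ (v₂ * g₀ ^ k) := by
      rw [mul_inv_rev, inv_inv, MulAut.mul_apply, MulAut.mul_apply, ← hv₂def, hpow]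
    rw [h6]
    exact hfixk
  have h7 := h.pp hR hδ'G hζ hζ1 hfix'
  have h8 := fixNT h7 hu2
  have h9 : ((t ^ k * γ)⁻¹ * β)⁻¹ (γ⁻¹ u) = β⁻¹ u := by
    rw [mul_inv_rev, inv_inv, MulAut.mul_apply, MulAut.mul_apply, MulAut.apply_inv_self,
      zpow_fix hu1]
  rw [h9] at h8
  exact h8

set_option maxHeartbeats 1000000 in
theorem main [Finite R] [hp : Fact p.Prime] (hR : IsPGroup p R) (h : TV p G Zr t) {γ : MulAut R}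
    (hγG : γ ∈ G) (hγ : γ * t * γ⁻¹ ∉ Subgroup.zpowers t) :
    ∃ U : Subgroup R, ∃ η ∈ G,
      (∀ β ∈ G, ∀ u ∈ U, β u ∈ U) ∧ (∀ u ∈ U, t u = u) ∧ (∀ u ∈ U, u ∈ Zr → u = 1) ∧
      (∀ a, t a = a → ∃ z ∈ Zr, ∃ u ∈ U, a = z * u) ∧ (∀ z ∈ Zr, η z = z⁻¹) ∧
      (∀ u ∈ U, η u = u) ∧ η * t = t * η := by
  have hγ' : γ⁻¹ * t * γ⁻¹⁻¹ ∉ Subgroup.zpowers t := by
    rw [inv_inv]
    exact inv_not_norm hγ
  have hγiG : γ⁻¹ ∈ G := G.inv_mem hγG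
  obtain ⟨U, hU⟩ : ∃ U : Subgroup R, ∀ r, r ∈ U ↔ (t r = r ∧ t (γ⁻¹ r) = γ⁻¹ r) := by
    refine ⟨{ carrier := {r | t r = r ∧ t (γ⁻¹ r) = γ⁻¹ r}
              mul_mem' := ?_
              one_mem' := ?_
              inv_mem' := ?_ }, fun e => Iff.rfl⟩
    · intro x y hx hy
      exact ⟨by rw [map_mul, hx.1, hy.1], by rw [map_mul, map_mul, hx.2, hy.2]⟩
    · exact ⟨map_one t, by rw [map_one, map_one]⟩
    · intro x hx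
      exact ⟨by rw [map_inv, hx.1], by rw [map_inv, map_inv, hx.2]⟩
  have hC : ∀ β ∈ G, ∀ u ∈ U, t (β⁻¹ u) = β⁻¹ u := by
    intro β hβ u hu
    rw [hU] at hu
    exact h.axis_le hR hγG hγ hβ hu.1 hu.2
  have hinv : ∀ β ∈ G, ∀ u ∈ U, β u ∈ U := by
    intro β hβ u hu
    rw [hU]
    constructor
    · have := hC β⁻¹ (G.inv_mem hβ) u hu
      rwa [inv_inv] at this
    · have := hC (β⁻¹ * γ) (G.mul_mem (G.inv_mem hβ) hγG) u hu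
      rw [mul_inv_rev, inv_inv, MulAut.mul_apply] at this
      exact this
  obtain ⟨ζ, hζ, hζ1⟩ := h.exists_ne_one
  have ha₁ : t (γ⁻¹ ζ) ≠ γ⁻¹ ζ := h.pp' hR hγG hγ hζ hζ1
  obtain ⟨g₁, hg₁def⟩ : ∃ g₁, g₁ = (γ⁻¹ ζ)⁻¹ * t (γ⁻¹ ζ) := ⟨_, rfl⟩
  have hg₁Z : g₁ ∈ Zr := hg₁def ▸ h.htm _
  have hg₁1 : g₁ ≠ 1 := by
    intro h0
    apply ha₁
    rw [hg₁def] at h0
    exact (inv_mul_eq_one.mp h0).symm
  obtain ⟨z₂, hz₂def⟩ : ∃ z₂, z₂ = γ g₁ := ⟨_, rfl⟩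
  obtain ⟨t', ht'def⟩ : ∃ t', t' = γ * t * γ⁻¹ := ⟨_, rfl⟩
  have ht'app : ∀ e, t' e = γ (t (γ⁻¹ e)) := fun e => by rw [ht'def]; rfl
  have ht'G : t' ∈ G := by
    rw [ht'def]
    exact G.mul_mem (G.mul_mem hγG h.htG) hγiG
  have ht'mv : ∀ e, e⁻¹ * t' e = γ ((γ⁻¹ e)⁻¹ * t (γ⁻¹ e)) := by
    intro e
    rw [ht'def]
    exact conj_mv γ e
  have ht'ζ : t' ζ = ζ * z₂ := by
    have h1 := ht'mv ζ
    rw [← hg₁def, ← hz₂def] at h1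
    rw [← h1, mul_inv_cancel_left]
  have ht'z₂ : t' z₂ = z₂ := by
    rw [ht'app, hz₂def, MulAut.inv_apply_self, h.htZ _ hg₁Z]
  have htζ : t ζ = ζ := h.htZ ζ hζ
  have htz₂ : t z₂ ≠ z₂ := by
    have := h.pp' hR hγiG hγ' hg₁Z hg₁1
    rw [inv_inv] at this
    rw [hz₂def]
    exact this
  obtain ⟨y₁, hy₁def⟩ : ∃ y₁, y₁ = z₂⁻¹ * t z₂ := ⟨_, rfl⟩
  have hy₁Z : y₁ ∈ Zr := hy₁def ▸ h.htm _
  have hy₁1 : y₁ ≠ 1 := by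
    intro h0
    apply htz₂
    rw [hy₁def] at h0
    exact (inv_mul_eq_one.mp h0).symm
  have htz₂' : t z₂ = z₂ * y₁ := by rw [hy₁def, mul_inv_cancel_left]
  obtain ⟨l, hl⟩ := h.gen hy₁Z hy₁1 hζ
  have H1 : t ζ = ζ := htζ
  have hcy : Commute z₂ y₁ := h.comm _ _
  have H2 : t (z₂ ^ l) = z₂ ^ l * ζ := by
    rw [map_pow, htz₂', hcy.mul_pow, ← hl]
  have H3 : (t' ^ l) ζ = ζ * z₂ ^ l := by
    have hfix : t' (ζ⁻¹ * t' ζ) = ζ⁻¹ * t' ζ := by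
      rw [ht'ζ, inv_mul_cancel_left, ht'z₂]
    have h1 := pow_apply_of_fix t' ζ hfix l
    rw [ht'ζ, inv_mul_cancel_left] at h1
    exact h1
  have H4 : (t' ^ l) (z₂ ^ l) = z₂ ^ l := by rw [map_pow, pow_fix' ht'z₂]
  have H5 : ζ * z₂ ^ l = z₂ ^ l * ζ := h.comm _ _
  obtain ⟨hη1, hη2⟩ := inverting_word H1 H2 H3 H4 H5
  obtain ⟨η, hηdef⟩ : ∃ η, η = (t⁻¹ * t' ^ l * t⁻¹) * (t⁻¹ * t' ^ l * t⁻¹) := ⟨_, rfl⟩
  rw [← hηdef] at hη1 hη2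
  have hηG : η ∈ G := by
    have hw : t⁻¹ * t' ^ l * t⁻¹ ∈ G :=
      G.mul_mem (G.mul_mem (G.inv_mem h.htG) (G.pow_mem ht'G l)) (G.inv_mem h.htG)
    rw [hηdef]
    exact G.mul_mem hw hw
  have ht'fixU : ∀ u ∈ U, t' u = u := by
    intro u hu
    rw [hU] at hu
    rw [ht'app, hu.2, MulAut.apply_inv_self]
  have hηfix : ∀ x : R, t x = x → t' x = x → η x = x := by
    intro x hx hx'
    have hxi : t⁻¹ x = x := inv_fix hx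
    have hxU : (t' ^ l) x = x := pow_fix' hx' l
    rw [hηdef]
    simp only [MulAut.mul_apply, hxi, hxU]
  have hηU : ∀ u ∈ U, η u = u := fun u hu => hηfix u ((hU u).mp hu).1 (ht'fixU u hu)
  have hηZ : ∀ z ∈ Zr, η z = z⁻¹ := by
    intro z hz
    obtain ⟨k, rfl⟩ := h.gen hζ hζ1 hz
    rw [map_pow, hη1, inv_pow]
  -- decomposition of fixed points of `t`
  have hdec : ∀ m, t m = m → ∃ a : ℕ, t' m = m * z₂ ^ a ∧ m * (ζ ^ a)⁻¹ ∈ U := by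
    intro m hm
    obtain ⟨a, ha⟩ := h.gen hg₁Z hg₁1 (h.htm (γ⁻¹ m))
    have ht'm : t' m = m * z₂ ^ a := by
      have h1 := ht'mv m
      rw [ha, map_pow, ← hz₂def] at h1
      rw [← h1, mul_inv_cancel_left]
    refine ⟨a, ht'm, ?_⟩
    have hc2 : Commute ζ z₂ := h.comm _ _
    have h2 : t' (m * (ζ ^ a)⁻¹) = m * (ζ ^ a)⁻¹ := by
      rw [map_mul, map_inv, map_pow, ht'ζ, ht'm, hc2.mul_pow, mul_inv_rev, mul_assoc,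
        mul_inv_cancel_left]
    have h3 : t (m * (ζ ^ a)⁻¹) = m * (ζ ^ a)⁻¹ := by
      rw [map_mul, map_inv, map_pow, htζ, hm]
    rw [hU]
    refine ⟨h3, ?_⟩
    rw [ht'app] at h2
    have h4 : γ⁻¹ (γ (t (γ⁻¹ (m * (ζ ^ a)⁻¹)))) = γ⁻¹ (m * (ζ ^ a)⁻¹) := by rw [h2]
    rw [MulAut.inv_apply_self] at h4
    exact h4
  have hA : ∀ a, t a = a → ∃ z ∈ Zr, ∃ u ∈ U, a = z * u := by
    intro m hm
    obtain ⟨a, -, hmem⟩ := hdec m hm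
    refine ⟨ζ ^ a, Zr.pow_mem hζ a, _, hmem, ?_⟩
    rw [h.comm (ζ ^ a), inv_mul_cancel_right]
  have hUZ : ∀ u ∈ U, u ∈ Zr → u = 1 := by
    intro u hu huZ
    by_contra hu1
    exact h.pp' hR hγG hγ huZ hu1 ((hU u).mp hu).2
  -- `η` commutes with `t`
  obtain ⟨hτ1, hτ2⟩ := comm_fix H1 H2 hη1 hη2 H5
  have hτfix : ∀ x : R, t x = x → t' x = x → (η * t * η⁻¹ * t⁻¹) x = x := by
    intro x hx hx'
    have hxi : t⁻¹ x = x := inv_fix hx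
    have hxη : η x = x := hηfix x hx hx'
    have hxηi : η⁻¹ x = x := inv_fix hxη
    simp only [MulAut.mul_apply, hxi, hxηi, hx, hxη]
  have hτall : ∀ m : R, (η * t * η⁻¹ * t⁻¹) m = m := by
    intro m
    obtain ⟨b, hb⟩ := h.gen hζ hζ1 (h.htm m)
    obtain ⟨m₁, hm₁def⟩ : ∃ m₁, m₁ = m * ((z₂ ^ l) ^ b)⁻¹ := ⟨_, rfl⟩
    have htm₁ : t m₁ = m₁ := by
      have hc1 : Commute (z₂ ^ l) ζ := h.comm _ _
      have htm : t m = m * ζ ^ b := by rw [← hb, mul_inv_cancel_left]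
      rw [hm₁def, map_mul, map_inv, map_pow, H2, hc1.mul_pow, htm, mul_inv_rev, mul_assoc,
        mul_inv_cancel_left]
    obtain ⟨a, ht'm₁, hmem⟩ := hdec m₁ htm₁
    obtain ⟨m₀, hm₀def⟩ : ∃ m₀, m₀ = m₁ * (ζ ^ a)⁻¹ := ⟨_, rfl⟩
    rw [← hm₀def] at hmem
    have hmeq : m = m₀ * ζ ^ a * (z₂ ^ l) ^ b := by
      rw [hm₀def, hm₁def]
      group
    have hm₀fix : (η * t * η⁻¹ * t⁻¹) m₀ = m₀ :=
      hτfix m₀ ((hU m₀).mp hmem).1 (ht'fixU m₀ hmem)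
    rw [hmeq, map_mul, map_mul, map_pow, map_pow, hτ1, hτ2, hm₀fix]
  have hcomm : η * t = t * η := by
    have h1 : η * t * η⁻¹ * t⁻¹ = 1 := by
      ext m
      rw [hτall, MulAut.one_apply]
    calc η * t = (η * t * η⁻¹ * t⁻¹) * (t * η) := by group
      _ = t * η := by rw [h1, one_mul]
  exact ⟨U, η, hηG, hinv, fun u hu => ((hU u).mp hu).1, hUZ, hA, hηZ, hηU, hcomm⟩

end TV

end Cfsg.Agent.Helper3.ExIdx
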