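import Mathlib
import Cfsg.Agent.Lead.FusionSat3
import Cfsg.Agent.Helper3.ExIdxB

set_option autoImplicit false

/-!
Helper lemmas (helper3): essential subgroups `E < Q` when `[Q, Q] ≤ Z`, `Z` central of order `p`:
`E` is abelian, normalized by `Q`, and `Q = E ⟨x₀⟩` for every `x₀ ∈ Q \ E`.
-/

namespace Cfsg.Agent.Helper3.ExIdx

open Cfsg Cfsg.FusionSystem Cfsg.Agent.Lead Cfsg.Agent.Lead.Meta Cfsg.Agent.Lead.Gex

variable {Ω : Type*} [Group Ω] {S : Subgroup Ω}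

/-- `Q ≤ S` with `[Q, Q] ≤ Z`, `Z` of order `p` central in `S`. -/
structure CS (p : ℕ) (S Q Z : Subgroup Ω) : Prop where
  hQS : Q ≤ S
  hZQ : Z ≤ Q
  hZcard : Nat.card Z = p
  hcomm : ∀ a ∈ Q, ∀ b ∈ Q, a * b * a⁻¹ * b⁻¹ ∈ Z
  hZc : ∀ s ∈ S, ∀ z ∈ Z, s * z = z * s

namespace CS

variable {p : ℕ} {Q Z : Subgroup Ω}

theorem gen [hp : Fact p.Prime] (h : CS p S Q Z) {u : Ω} (hu : u ∈ Z) (hu1 : u ≠ 1) {v : Ω}
    (hv : v ∈ Z) : ∃ k : ℕ, v = u ^ k := by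
  have hu' : (⟨u, hu⟩ : Z) ≠ 1 := fun h1 => hu1 (congrArg Subtype.val h1)
  have htop := zpowers_eq_top_of_prime_card h.hZcard hu'
  have hv' : (⟨v, hv⟩ : Z) ∈ Subgroup.zpowers (⟨u, hu⟩ : Z) := by rw [htop]; exact Subgroup.mem_top _
  have : Finite Z := Nat.finite_of_card_ne_zero (by rw [h.hZcard]; exact hp.out.ne_zero)
  obtain ⟨k, hk⟩ := mem_powers_iff_mem_zpowers.mpr hv'
  refine ⟨k, ?_⟩
  have := congrArg Subtype.val hk
  rw [Subgroup.coe_pow] at this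
  exact this.symm

theorem pow_p [hp : Fact p.Prime] (h : CS p S Q Z) {u : Ω} (hu : u ∈ Z) : u ^ p = 1 := by
  have h1 : (⟨u, hu⟩ : Z) ^ Nat.card Z = 1 := pow_card_eq_one'
  rw [h.hZcard] at h1
  have h2 := congrArg Subtype.val h1
  rw [Subgroup.coe_pow] at h2
  exact h2

theorem exists_ne_one [hp : Fact p.Prime] (h : CS p S Q Z) : ∃ z ∈ Z, z ≠ 1 := by
  by_contra hcon
  push Not at hcon
  have h1 : Z = ⊥ := by
    rw [eq_bot_iff]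
    intro z hz
    rw [Subgroup.mem_bot]
    exact hcon z hz
  have h2 := h.hZcard
  rw [h1, Subgroup.card_bot] at h2
  exact hp.out.one_lt.ne' h2.symm

theorem hZS (h : CS p S Q Z) : Z ≤ S := h.hZQ.trans h.hQS

theorem exists_comm_outside' [hp : Fact p.Prime] (hx : CS p S Q Z) {E : Subgroup Ω} (hEQ : E ≤ Q)
    {x₀ y : Ω} (hx₀Q : x₀ ∈ Q) (hx₀E : x₀ ∉ E) (hyQ : y ∈ Q)
    (hy : ∀ e ∈ E, ∀ g ∈ Subgroup.zpowers x₀, y ≠ e * g) :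
    ∀ w ∈ E, ∃ x ∈ Q, x ∉ E ∧ x * w = w * x := by
  intro w hw
  by_cases hcw : x₀ * w = w * x₀
  · exact ⟨x₀, hx₀Q, hx₀E, hcw⟩
  · have hz₀ : w * x₀ * w⁻¹ * x₀⁻¹ ∈ Z := hx.hcomm w (hEQ hw) x₀ hx₀Q
    have hz₀1 : w * x₀ * w⁻¹ * x₀⁻¹ ≠ 1 := by
      intro h1
      apply hcw
      calc x₀ * w = (w * x₀ * w⁻¹ * x₀⁻¹)⁻¹ * (w * x₀) := by group
        _ = w * x₀ := by rw [h1, inv_one, one_mul]
    have hzy : w * y * w⁻¹ * y⁻¹ ∈ Z := hx.hcomm w (hEQ hw) y hyQ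
    obtain ⟨k, hk⟩ := hx.gen hz₀ hz₀1 hzy
    obtain ⟨z₀, hz₀def⟩ : ∃ z₀, z₀ = w * x₀ * w⁻¹ * x₀⁻¹ := ⟨_, rfl⟩
    rw [← hz₀def] at hz₀ hz₀1 hk
    have h1 : w * x₀ * w⁻¹ = z₀ * x₀ := by rw [hz₀def]; group
    have h2 : w * y * w⁻¹ = z₀ ^ k * y := by rw [← hk]; group
    have hzx : Commute z₀ x₀ := (hx.hZc x₀ (hx.hQS hx₀Q) z₀ hz₀).symm
    have h3 : ∀ j : ℕ, w * x₀ ^ j * w⁻¹ = z₀ ^ j * x₀ ^ j := by
      intro j
      rw [← conj_pow, h1, hzx.mul_pow]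
    obtain ⟨j, hjdef⟩ : ∃ j, j = (p - 1) * k := ⟨_, rfl⟩
    have hkj : k + j = p * k := by
      rw [hjdef]
      have := hp.out.one_le
      have h4 : p = (p - 1) + 1 := by omega
      nth_rewrite 2 [h4]
      ring
    refine ⟨y * x₀ ^ j, Q.mul_mem hyQ (Q.pow_mem hx₀Q _), ?_, ?_⟩
    · intro hmem
      apply hy _ hmem ((x₀ ^ j)⁻¹)
        (Subgroup.inv_mem _ (Subgroup.pow_mem _ (Subgroup.mem_zpowers x₀) _))
      group
    · have hzy' : Commute y (z₀ ^ j) := by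
        have := hx.hZc y (hx.hQS hyQ) _ (Z.pow_mem hz₀ j)
        exact this
      have h4 : w * (y * x₀ ^ j) * w⁻¹ = y * x₀ ^ j := by
        calc w * (y * x₀ ^ j) * w⁻¹ = (w * y * w⁻¹) * (w * x₀ ^ j * w⁻¹) := by group
          _ = z₀ ^ k * y * (z₀ ^ j * x₀ ^ j) := by rw [h2, h3]
          _ = z₀ ^ k * (y * z₀ ^ j) * x₀ ^ j := by group
          _ = z₀ ^ k * (z₀ ^ j * y) * x₀ ^ j := by rw [hzy'.eq]
          _ = z₀ ^ (k + j) * y * x₀ ^ j := by rw [pow_add]; group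
          _ = y * x₀ ^ j := by
            rw [hkj, pow_mul, hx.pow_p hz₀, one_pow, one_mul]
      calc y * x₀ ^ j * w = (w * (y * x₀ ^ j) * w⁻¹) * w := by rw [h4]
        _ = w * (y * x₀ ^ j) := by group

set_option maxHeartbeats 1000000 in
theorem ess_struct [Finite S] (p : ℕ) [hp : Fact p.Prime] (hS : IsPGroup p S) (hx : CS p S Q Z)
    (F : FusionSystem S) (hF : F.IsSaturated p) (E : Subgroup Ω) (hEQ : E ≤ Q)
    (hE : F.IsEssential p E) {x₀ : Ω} (hx₀Q : x₀ ∈ Q) (hx₀E : x₀ ∉ E) :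
    Z ≤ E ∧ (∀ x ∈ Q, x ∈ Subgroup.normalizer (E : Set Ω)) ∧ (∀ a ∈ E, ∀ b ∈ E, a * b = b * a) ∧
      (∀ q ∈ Q, ∃ e ∈ E, ∃ g ∈ Subgroup.zpowers x₀, q = e * g) := by
  have hr : F.IsRadical p E := Fusion.isRadical_of_isEssential p hS F hE
  obtain ⟨hcE, hfnE, hN, M, hM⟩ := hE
  have hES : E ≤ S := hcE.1
  haveI : Finite E := Fusion.finite_of_le hES
  have hEp : IsPGroup p E := hS.to_le hES
  obtain ⟨-, R, hR⟩ := (Fusion.fullyCentralized_fullyAutomized_of_fullyNormalized p hS F hF hfnE).2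
  have hZE : Z ≤ E := by
    intro z hz
    apply hcE.2 E (Fusion.isConj_refl F hES)
    refine Subgroup.mem_inf.mpr ⟨hx.hZS hz, ?_⟩
    rw [Subgroup.mem_centralizer_iff]
    intro e he
    exact hx.hZc e (hES he) z hz
  have hQN : ∀ x ∈ Q, x ∈ Subgroup.normalizer (E : Set Ω) := by
    intro x hxQ
    apply mem_normalizer_of_conj_mem_of_finite
    intro e he
    have h1 : x * e * x⁻¹ = (x * e * x⁻¹ * e⁻¹) * e := by group
    rw [h1]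
    exact E.mul_mem (hZE (hx.hcomm x hxQ e (hEQ he))) he
  have hcU : ∀ x (hxQ : x ∈ Q), conjAutHom E ⟨x, hQN x hxQ⟩ ∈ autInducedBy S E := fun x hxQ =>
    Fusion.conjAutHom_mem_autInducedBy E _ (hx.hQS hxQ)
  have hcA : ∀ x (hxQ : x ∈ Q), conjAutHom E ⟨x, hQN x hxQ⟩ ∈ F.autGroup E := fun x hxQ =>
    Fusion.autInducedBy_le_autGroup F hES (hcU x hxQ)
  -- conjugation by `x ∈ Q` moves elements of `E` by elements of `Z` and fixes `Z`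
  have hcZ : ∀ x (hxQ : x ∈ Q) (e : E), ((e⁻¹ * conjAutHom E ⟨x, hQN x hxQ⟩ e : E) : Ω) ∈ Z := by
    intro x hxQ e
    show (e : Ω)⁻¹ * (x * e * x⁻¹) ∈ Z
    have h1 := hx.hcomm (e : Ω)⁻¹ (Q.inv_mem (hEQ e.2)) x hxQ
    rw [inv_inv] at h1
    have h2 : (e : Ω)⁻¹ * (x * e * x⁻¹) = (e : Ω)⁻¹ * x * (e : Ω) * x⁻¹ := by group
    rw [h2]
    exact h1
  have hcfix : ∀ x (hxQ : x ∈ Q) (e : E), (e : Ω) ∈ Z → conjAutHom E ⟨x, hQN x hxQ⟩ e = e := by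
    intro x hxQ e he
    apply Subtype.ext
    show x * (e : Ω) * x⁻¹ = (e : Ω)
    rw [hx.hZc x (hx.hQS hxQ) e he, mul_inv_cancel_right]
  -- some automorphism moves `Z`
  have hmove : ∃ α ∈ F.autGroup E, ∃ z : E, (z : Ω) ∈ Z ∧ ((α z : E) : Ω) ∉ Z := by
    by_contra hcon
    push Not at hcon
    apply hx₀E
    refine mem_of_chainStab' p hS F hcE hr
      (chain4_anti (M := Z.subgroupOf E) (W := ⊥) (Z₁ := ⊥) bot_le bot_le)
      (chain4_zero _ _ _) (chain4_four _ _ _) ?_ (hx.hQS hx₀Q) (hQN x₀ hx₀Q) ?_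
    · intro a ha
      apply chain4_inv
      · intro x hxm
        rw [Subgroup.mem_subgroupOf] at hxm ⊢
        exact hcon a ha x hxm
      · intro x hxm
        rw [Subgroup.mem_bot] at hxm ⊢
        rw [hxm, map_one]
      · intro x hxm
        rw [Subgroup.mem_bot] at hxm ⊢
        rw [hxm, map_one]
    · apply chainStab_chain4
      · intro e
        rw [Subgroup.mem_subgroupOf]
        exact hcZ x₀ hx₀Q e
      · intro e he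
        rw [Subgroup.mem_subgroupOf] at he
        rw [hcfix x₀ hx₀Q e he, inv_mul_cancel]
        exact Subgroup.one_mem _
      · intro e he
        rw [Subgroup.mem_bot] at he
        rw [he, map_one, inv_one, one_mul]
        exact Subgroup.one_mem _
      · intro e he
        rw [Subgroup.mem_bot] at he
        rw [he, map_one]
  obtain ⟨α₀, hα₀, ζ₀, hζ₀Z, hζ₀⟩ := hmove
  -- `E` is abelian
  have hab : ∀ a ∈ E, ∀ b ∈ E, a * b = b * a := by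
    intro a ha b hb
    by_contra hnc
    apply hζ₀
    have hw : a * b * a⁻¹ * b⁻¹ ∈ Z := hx.hcomm a (hEQ ha) b (hEQ hb)
    have hw1 : a * b * a⁻¹ * b⁻¹ ≠ 1 := by
      intro h1
      apply hnc
      calc a * b = (a * b * a⁻¹ * b⁻¹) * (b * a) := by group
        _ = b * a := by rw [h1, one_mul]
    obtain ⟨k, hk⟩ := hx.gen hw hw1 hζ₀Z
    have hζ : ζ₀ = ((⟨a, ha⟩ : E) * ⟨b, hb⟩ * (⟨a, ha⟩ : E)⁻¹ * (⟨b, hb⟩ : E)⁻¹) ^ k := by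
      apply Subtype.ext
      rw [Subgroup.coe_pow]
      exact hk
    rw [hζ, map_pow, map_mul, map_mul, map_mul, map_inv, map_inv, Subgroup.coe_pow]
    apply Z.pow_mem
    exact hx.hcomm _ (hEQ (α₀ ⟨a, ha⟩).2) _ (hEQ (α₀ ⟨b, hb⟩).2)
  refine ⟨hZE, hQN, hab, ?_⟩
  by_contra hsurj
  push Not at hsurj
  obtain ⟨y, hyQ, hy⟩ := hsurj
  have hE' := hx.exists_comm_outside' hEQ hx₀Q hx₀E hyQ hy
  -- the contradiction
  haveI := hN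
  obtain ⟨g, hg⟩ := spe_quot ((Inn E).subgroupOf (F.autGroup E)) M hM R
  obtain ⟨z₁, hz₁Z, hz₁1⟩ := hx.exists_ne_one
  obtain ⟨ζ, hζdef⟩ : ∃ ζ : E, ζ = ⟨z₁, hZE hz₁Z⟩ := ⟨_, rfl⟩
  have hζZ : (ζ : Ω) ∈ Z := by rw [hζdef]; exact hz₁Z
  have hζ1 : (ζ : Ω) ≠ 1 := by rw [hζdef]; exact hz₁1
  obtain ⟨α, hαdef⟩ : ∃ α : MulAut E, α = g.1 := ⟨_, rfl⟩
  have hgen : ∀ e : E, (e : Ω) ∈ Z → ∃ k : ℕ, e = ζ ^ k := by
    intro e he
    obtain ⟨k, hk⟩ := hx.gen hζZ hζ1 he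
    refine ⟨k, Subtype.ext ?_⟩
    rw [Subgroup.coe_pow]
    exact hk
  obtain ⟨x, hxQ, hxE, hxw⟩ := hE' ((α ζ : E) : Ω) (α ζ).2
  obtain ⟨x', hx'Q, hx'E, hx'w⟩ := hE' ((α⁻¹ ζ : E) : Ω) (α⁻¹ ζ).2
  obtain ⟨ca, hcadef⟩ : ∃ ca : MulAut E, ca = conjAutHom E ⟨x, hQN x hxQ⟩ := ⟨_, rfl⟩
  obtain ⟨cb, hcbdef⟩ : ∃ cb : MulAut E, cb = conjAutHom E ⟨x', hQN x' hx'Q⟩ := ⟨_, rfl⟩
  have hcaA : ca ∈ F.autGroup E := hcadef ▸ hcA x hxQ
  have hcbA : cb ∈ F.autGroup E := hcbdef ▸ hcA x' hx'Q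
  have hcaZ : ∀ e : E, ((e⁻¹ * ca e : E) : Ω) ∈ Z := fun e => hcadef ▸ hcZ x hxQ e
  have hcbZ : ∀ e : E, ((e⁻¹ * cb e : E) : Ω) ∈ Z := fun e => hcbdef ▸ hcZ x' hx'Q e
  have hcafix : ∀ e : E, (e : Ω) ∈ Z → ca e = e := fun e he => hcadef ▸ hcfix x hxQ e he
  have hcbfix : ∀ e : E, (e : Ω) ∈ Z → cb e = e := fun e he => hcbdef ▸ hcfix x' hx'Q e he
  have hcaw : ca (α ζ) = α ζ := by
    rw [hcadef]
    apply Subtype.ext
    show x * ((α ζ : E) : Ω) * x⁻¹ = ((α ζ : E) : Ω)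
    rw [hxw, mul_inv_cancel_right]
  have hcbw : cb (α⁻¹ ζ) = α⁻¹ ζ := by
    rw [hcbdef]
    apply Subtype.ext
    show x' * ((α⁻¹ ζ : E) : Ω) * x'⁻¹ = ((α⁻¹ ζ : E) : Ω)
    rw [hx'w, mul_inv_cancel_right]
  obtain ⟨bb, hbbdef⟩ : ∃ bb : MulAut E, bb = α * cb * α⁻¹ := ⟨_, rfl⟩
  have hbbapp : ∀ e, bb e = α (cb (α⁻¹ e)) := fun e => by rw [hbbdef]; rfl
  have hbbcm : ∀ e : E, e⁻¹ * bb e = α ((α⁻¹ e)⁻¹ * cb (α⁻¹ e)) := by
    intro e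
    rw [hbbapp, map_mul, map_inv, MulAut.apply_inv_self]
  have hbbζ : bb ζ = ζ := by
    rw [hbbapp, hcbw, MulAut.apply_inv_self]
  have hbbfixZ : ∀ e : E, (e : Ω) ∈ Z → bb e = e := by
    intro e he
    obtain ⟨k, rfl⟩ := hgen e he
    rw [map_pow, hbbζ]
  have hbbmove : ∀ e : E, ∃ k : ℕ, e⁻¹ * bb e = (α ζ) ^ k := by
    intro e
    obtain ⟨k, hk⟩ := hgen _ (hcbZ (α⁻¹ e))
    refine ⟨k, ?_⟩
    rw [hbbcm, hk, map_pow]
  have hαA : α ∈ F.autGroup E := hαdef ▸ g.2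
  obtain ⟨a, hadef⟩ : ∃ a : F.autGroup E, a = ⟨ca, hcaA⟩ := ⟨_, rfl⟩
  obtain ⟨c', hc'def⟩ : ∃ c' : F.autGroup E, c' = ⟨cb, hcbA⟩ := ⟨_, rfl⟩
  obtain ⟨b, hbdef⟩ : ∃ b : F.autGroup E, b = g * c' * g⁻¹ := ⟨_, rfl⟩
  have ha1 : a.1 = ca := by rw [hadef]
  have hb1 : b.1 = bb := by
    rw [hbdef, hbbdef, hc'def, hαdef]
    rfl
  have hnotinn : ∀ (y : Ω) (hyQ : y ∈ Q), y ∉ E →
      conjAutHom E ⟨y, hQN y hyQ⟩ ∉ Inn E := by
    intro y hyQ hyE hmem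
    exact hyE (Fusion.mem_of_conjAutHom_mem_inn F hcE y (hx.hQS hyQ) (hQN y hyQ) hmem)
  apply hg a ?_ ?_ b ?_ ?_ (Subgroup.closure {a, b}) (Subgroup.subset_closure (by simp))
    (Subgroup.subset_closure (by simp)) ?_
  · rw [hR, Subgroup.mem_subgroupOf, ha1, hcadef]
    exact hcU x hxQ
  · intro hmem
    rw [Subgroup.mem_subgroupOf, ha1, hcadef] at hmem
    exact hnotinn x hxQ hxE hmem
  · have h1 : g⁻¹ * b * g = c' := by rw [hbdef]; group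
    rw [h1, hR, Subgroup.mem_subgroupOf, hc'def]
    show cb ∈ autInducedBy S E
    rw [hcbdef]
    exact hcU x' hx'Q
  · intro hmem
    have h1 : g⁻¹ * b * g = c' := by rw [hbdef]; group
    have h2 : c' ∈ (Inn E).subgroupOf (F.autGroup E) := by
      rw [← h1]
      have h3 := hN.conj_mem b hmem g⁻¹
      rwa [inv_inv] at h3
    rw [Subgroup.mem_subgroupOf, hc'def] at h2
    have h4 : cb ∈ Inn E := h2
    rw [hcbdef] at h4
    exact hnotinn x' hx'Q hx'E h4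
  · apply isPGroup_closure_pair_sub hEp (F.autGroup E) a b
    · intro e
      rw [ha1]
      exact hcafix _ (hcaZ e)
    · intro e
      rw [ha1, hb1]
      exact hbbfixZ _ (hcaZ e)
    · intro e
      rw [ha1, hb1]
      obtain ⟨k, hk⟩ := hbbmove e
      rw [hk, map_pow, hcaw]
    · intro e
      rw [hb1]
      obtain ⟨k, hk⟩ := hbbmove e
      rw [hk, map_pow]
      congr 1
      rw [hbbapp, MulAut.inv_apply_self, hcbfix ζ hζZ]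

end CS

end Cfsg.Agent.Helper3.ExIdx
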