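import Mathlib
import Cfsg.Agent.Lead.FusionExt
import Cfsg.Agent.Lead.FusionInvariant
import Cfsg.Agent.Lead.AutInduced
import Cfsg.Agent.Helper3.ExIdxE
import Cfsg.Agent.Helper3.ExIdxF

set_option autoImplicit false

/-!
Helper lemmas (helper3): for `[S, S] ≤ Z` of order `p`, an essential subgroup `R ≠ S` yields a "reflection"
`ρ ∈ Aut_F(S)` inverting `Z` and centralizing a complement `V` of `Z` in `Z(S)`, with `V` invariant under
`Aut_F(R)`.
-/

namespace Cfsg.Agent.Helper3.ExIdx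

open Cfsg Cfsg.FusionSystem Cfsg.Agent.Lead Cfsg.Agent.Lead.Meta Cfsg.Agent.Lead.Gex

variable {Ω : Type*} [Group Ω] {S : Subgroup Ω}

theorem range_eq_of_top_le' [Finite S] (F : FusionSystem S) {U : Subgroup Ω} (hU : S ≤ U)
    {ψ : U →* Ω} (hψ : ψ ∈ F.Hom U) : ψ.range = U := by
  have hUS : U ≤ S := Fusion.src_le F hψ
  haveI : Finite U := Fusion.finite_of_le hUS
  apply Subgroup.eq_of_le_of_card_ge
  · exact (Fusion.range_le F hψ).trans hU
  · exact (Nat.card_congr (MonoidHom.ofInjective (F.injective_of_mem hψ)).toEquiv).le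

/-- Extension of an automorphism of a fully normalized `R` commuting with conjugation by `x₀`, when
`S = R ⟨x₀⟩`. -/
theorem exists_ext_aut [Finite S] (p : ℕ) [Fact p.Prime] (hS : IsPGroup p S) (F : FusionSystem S)
    (hF : F.IsSaturated p) {R : Subgroup Ω} (hfn : F.IsFullyNormalized R) {η : MulAut R}
    (hη : η ∈ F.autGroup R) {x₀ : Ω} (hx₀S : x₀ ∈ S)
    (hx₀N : x₀ ∈ Subgroup.normalizer (R : Set Ω))
    (hcomm : η * conjAutHom R ⟨x₀, hx₀N⟩ = conjAutHom R ⟨x₀, hx₀N⟩ * η)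
    (hsurj : ∀ s ∈ S, ∃ r ∈ R, ∃ g ∈ Subgroup.zpowers x₀, s = r * g) :
    ∃ ρ ∈ F.autGroup S, ∀ (r : R) (hr : (r : Ω) ∈ S), ((ρ ⟨r, hr⟩ : S) : Ω) = ((η r : R) : Ω) := by
  have hRS : R ≤ S := hfn.1
  have hrec : F.IsReceptive R := Fusion.receptive_of_fullyCentralized p hS F hF
    (Fusion.fullyCentralized_fullyAutomized_of_fullyNormalized p hS F hF hfn).1
  obtain ⟨φ, hφdef⟩ : ∃ φ : R →* Ω, φ = R.subtype.comp η.toMonoidHom := ⟨_, rfl⟩
  have hφapp : ∀ x : R, φ x = ((η x : R) : Ω) := fun x => by rw [hφdef]; rfl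
  have hφ : φ ∈ F.Hom R := hφdef ▸ (Fusion.mem_autGroup_iff F hRS η).mp hη
  have hφr : φ.range = R := by
    ext y
    constructor
    · rintro ⟨x, rfl⟩
      rw [hφapp]
      exact (η x).2
    · intro hy
      refine ⟨η.symm ⟨y, hy⟩, ?_⟩
      rw [hφapp]
      show ((η (η.symm ⟨y, hy⟩) : R) : Ω) = y
      simp
  obtain ⟨ψ, hψ, hψext⟩ := hrec.2 R φ hφ hφr
  have hφS : ∀ x, φ x ∈ S := fun x => by rw [hφapp]; exact hRS (η x).2
  have hRE : R ≤ extender S R φ := Fusion.le_extender R hRS φ hφS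
  have hx₀E : x₀ ∈ extender S R φ := by
    apply Subgroup.subset_closure
    refine ⟨hx₀S, hx₀N, x₀, hx₀S, fun x hx => ?_⟩
    have h1 : (⟨x₀ * (x : Ω) * x₀⁻¹, hx⟩ : R) = conjAutHom R ⟨x₀, hx₀N⟩ x := Subtype.ext rfl
    rw [h1, hφapp, hφapp]
    have h2 : η (conjAutHom R ⟨x₀, hx₀N⟩ x) = conjAutHom R ⟨x₀, hx₀N⟩ (η x) := by
      have := congrArg (fun β : MulAut R => β x) hcomm
      exact this
    rw [h2]
    rfl
  have hSE : S ≤ extender S R φ := by
    intro s hs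
    obtain ⟨r, hr, g, hg, rfl⟩ := hsurj s hs
    exact Subgroup.mul_mem _ (hRE hr) ((Subgroup.zpowers_le.mpr hx₀E) hg)
  have hES : extender S R φ ≤ S := Fusion.src_le F hψ
  have hEq : extender S R φ = S := le_antisymm hES hSE
  obtain ⟨χ, hχ, hχx⟩ := Fusion.exists_hom_of_eq F hEq hψ
  have hχr : χ.range = S := range_eq_of_top_le' F le_rfl hχ
  obtain ⟨ρ, hρ, hρx⟩ := Fusion.exists_aut_of_range_eq F hχ hχr
  refine ⟨ρ, hρ, fun r hr => ?_⟩
  rw [hρx, hχx (r : Ω) (hSE hr) hr, hψext (r : Ω) r.2 (hSE hr), hφapp]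

/-- A "reflection" of `Z(S)`: `ρ ∈ Aut_F(S)` inverts `Z` and fixes `V` pointwise, `Z(S) = Z V`. -/
structure Refl (F : FusionSystem S) (Z V : Subgroup Ω) (ρ : MulAut S) : Prop where
  hρ : ρ ∈ F.autGroup S
  hinvZ : ∀ z : S, (z : Ω) ∈ Z → ρ z = z⁻¹
  hfixV : ∀ v : S, (v : Ω) ∈ V → ρ v = v
  hVZ : V ≤ centralizerIn S S
  hdec : ∀ a ∈ centralizerIn S S, ∃ z ∈ Z, ∃ v ∈ V, a = z * v

set_option maxHeartbeats 1000000 in
theorem ess_refl [Finite S] (p : ℕ) [hp : Fact p.Prime] (hS : IsPGroup p S) {Z : Subgroup Ω}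
    (hx : CS p S S Z) (F : FusionSystem S) (hF : F.IsSaturated p) (R : Subgroup Ω)
    (hR : F.IsEssential p R) (hne : R ≠ S) :
    ∃ (V : Subgroup Ω) (ρ : MulAut S), Refl F Z V ρ ∧ V ≤ R ∧
      ∀ α ∈ F.autGroup R, ∀ v : R, (v : Ω) ∈ V → ((α v : R) : Ω) ∈ V := by
  have hRS : R ≤ S := hR.1.1
  obtain ⟨x₀, hx₀S, hx₀R⟩ := SetLike.exists_of_lt (lt_of_le_of_ne hRS hne)
  obtain ⟨hZR, hSN, hab, hsurj⟩ := hx.ess_struct p hS F hF R hRS hR hx₀S hx₀R
  obtain ⟨hcR, hfn, hN, M, hM⟩ := hR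
  haveI : Finite R := Fusion.finite_of_le hRS
  have hRp : IsPGroup p R := hS.to_le hRS
  obtain ⟨-, Rsyl, hRsyl⟩ :=
    (Fusion.fullyCentralized_fullyAutomized_of_fullyNormalized p hS F hF hfn).2
  obtain ⟨t, htdef⟩ : ∃ t : MulAut R, t = conjAutHom R ⟨x₀, hSN x₀ hx₀S⟩ := ⟨_, rfl⟩
  have htU : t ∈ autInducedBy S R := htdef ▸ Fusion.conjAutHom_mem_autInducedBy R _ hx₀S
  have htG : t ∈ F.autGroup R := Fusion.autInducedBy_le_autGroup F hRS htU
  have htapp : ∀ e : R, ((t e : R) : Ω) = x₀ * (e : Ω) * x₀⁻¹ := fun e => by rw [htdef]; rfl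
  have htZ : ∀ z ∈ Z.subgroupOf R, t z = z := by
    intro z hz
    rw [Subgroup.mem_subgroupOf] at hz
    apply Subtype.ext
    rw [htapp, hx.hZc x₀ hx₀S z hz, mul_inv_cancel_right]
  have htm : ∀ r : R, r⁻¹ * t r ∈ Z.subgroupOf R := by
    intro e
    rw [Subgroup.mem_subgroupOf]
    show (e : Ω)⁻¹ * ((t e : R) : Ω) ∈ Z
    rw [htapp]
    have h1 := hx.hcomm (e : Ω)⁻¹ (S.inv_mem (hRS e.2)) x₀ hx₀S
    rw [inv_inv] at h1
    have h2 : (e : Ω)⁻¹ * (x₀ * e * x₀⁻¹) = (e : Ω)⁻¹ * x₀ * (e : Ω) * x₀⁻¹ := by group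
    rw [h2]
    exact h1
  -- conjugation by any element of `S` is a power of `t`
  have hpowt : ∀ k : ℤ, ∀ e : R, (((t ^ k) e : R) : Ω) = x₀ ^ k * (e : Ω) * (x₀ ^ k)⁻¹ := by
    intro k e
    rw [htdef, ← map_zpow]
    rfl
  have hcs : ∀ s (hs : s ∈ S), conjAutHom R ⟨s, hSN s hs⟩ ∈ Subgroup.zpowers t := by
    intro s hs
    obtain ⟨r, hr, g, hg, hsrg⟩ := hsurj s hs
    obtain ⟨k, hk⟩ := Subgroup.mem_zpowers_iff.mp hg
    rw [Subgroup.mem_zpowers_iff]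
    refine ⟨k, ?_⟩
    apply MulEquiv.ext
    intro e
    apply Subtype.ext
    rw [hpowt]
    show x₀ ^ k * (e : Ω) * (x₀ ^ k)⁻¹ = s * (e : Ω) * s⁻¹
    rw [hsrg, hk]
    have hgN : g ∈ Subgroup.normalizer (R : Set Ω) := by
      have hgS : g ∈ S := by
        rw [← hk]
        exact S.zpow_mem hx₀S k
      exact hSN g hgS
    have hge : g * (e : Ω) * g⁻¹ ∈ R := (Subgroup.mem_normalizer_iff.mp hgN _).mp e.2
    have hc := hab r hr _ hge
    calc g * (e : Ω) * g⁻¹ = (r * (g * (e : Ω) * g⁻¹)) * r⁻¹ := by rw [hc]; group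
      _ = r * g * (e : Ω) * (r * g)⁻¹ := by group
  have hUle : autInducedBy S R ≤ Subgroup.zpowers t := by
    rw [autInducedBy_eq_map]
    rintro _ ⟨n, hn, rfl⟩
    rw [SetLike.mem_coe, Subgroup.mem_subgroupOf] at hn
    exact hcs n.1 hn.1
  obtain ⟨tG, htGdef⟩ : ∃ tG : F.autGroup R, tG = ⟨t, htG⟩ := ⟨_, rfl⟩
  have htG1 : tG.1 = t := by rw [htGdef]
  have htGsyl : tG ∈ (Rsyl : Subgroup (F.autGroup R)) := by
    rw [hRsyl, Subgroup.mem_subgroupOf, htG1]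
    exact htU
  have hTle : (Rsyl : Subgroup (F.autGroup R)) ≤ Subgroup.zpowers tG := by
    intro y hy
    rw [hRsyl, Subgroup.mem_subgroupOf] at hy
    obtain ⟨k, hk⟩ := Subgroup.mem_zpowers_iff.mp (hUle hy)
    rw [Subgroup.mem_zpowers_iff]
    refine ⟨k, Subtype.ext ?_⟩
    rw [Subgroup.coe_zpow, htG1]
    exact hk
  have hzsyl : Subgroup.zpowers tG ≤ (Rsyl : Subgroup (F.autGroup R)) := by
    rw [Subgroup.zpowers_le]
    exact htGsyl
  have htv : TV p (F.autGroup R) (Z.subgroupOf R) t :=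
    { comm := fun a b => Subtype.ext (hab a a.2 b b.2)
      hZcard := by
        rw [Nat.card_congr (Subgroup.subgroupOfEquivOfLe hZR).toEquiv]
        exact hx.hZcard
      htG := htG
      htZ := htZ
      htm := htm
      hsy := by
        intro K hKG hKp htK
        have hK'p : IsPGroup p (K.subgroupOf (F.autGroup R)) := hKp.comap_subtype
        obtain ⟨P, hP⟩ := hK'p.exists_le_sylow
        have hcard : Nat.card P = Nat.card Rsyl := by
          rw [Sylow.card_eq_multiplicity, Sylow.card_eq_multiplicity]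
        have hzK : Subgroup.zpowers tG ≤ K.subgroupOf (F.autGroup R) := by
          rw [Subgroup.zpowers_le, Subgroup.mem_subgroupOf, htG1]
          exact htK
        have hzP : Subgroup.zpowers tG ≤ (P : Subgroup (F.autGroup R)) := hzK.trans hP
        have heq : Subgroup.zpowers tG = (P : Subgroup (F.autGroup R)) := by
          apply Subgroup.eq_of_le_of_card_ge hzP
          have h1 : Nat.card (P : Subgroup (F.autGroup R)) = Nat.card (Rsyl : Subgroup (F.autGroup R)) :=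
            hcard
          rw [h1]
          exact Subgroup.card_le_of_le hTle
        intro k hk
        have h1 : (⟨k, hKG hk⟩ : F.autGroup R) ∈ Subgroup.zpowers tG := by
          rw [heq]
          apply hP
          rw [Subgroup.mem_subgroupOf]
          exact hk
        obtain ⟨n, hn⟩ := Subgroup.mem_zpowers_iff.mp h1
        rw [Subgroup.mem_zpowers_iff]
        refine ⟨n, ?_⟩
        have := congrArg Subtype.val hn
        rw [Subgroup.coe_zpow, htG1] at this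
        exact this }
  -- a conjugate of `⟨t⟩` different from `⟨t⟩`
  haveI := hN
  obtain ⟨g, hg⟩ := spe_quot ((Inn R).subgroupOf (F.autGroup R)) M hM Rsyl
  have htnotinn : tG ∉ (Inn R).subgroupOf (F.autGroup R) := by
    intro hmem
    rw [Subgroup.mem_subgroupOf, htG1, htdef] at hmem
    exact hx₀R (Fusion.mem_of_conjAutHom_mem_inn F hcR x₀ hx₀S (hSN x₀ hx₀S) hmem)
  have hγ : g.1 * t * g.1⁻¹ ∉ Subgroup.zpowers t := by
    intro hmem
    obtain ⟨n, hn⟩ := Subgroup.mem_zpowers_iff.mp hmem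
    have h1 : g⁻¹ * (g * tG * g⁻¹) * g = tG := by group
    apply hg tG htGsyl htnotinn (g * tG * g⁻¹) ?_ ?_ (Subgroup.zpowers tG)
      (Subgroup.mem_zpowers tG) ?_ (Rsyl.isPGroup'.to_le hzsyl)
    · rw [h1]
      exact htGsyl
    · intro hmem2
      apply htnotinn
      rw [← h1]
      have h3 := hN.conj_mem _ hmem2 g⁻¹
      rwa [inv_inv] at h3
    · rw [Subgroup.mem_zpowers_iff]
      refine ⟨n, Subtype.ext ?_⟩
      rw [Subgroup.coe_zpow, htG1, hn, Subgroup.coe_mul, Subgroup.coe_mul, Subgroup.coe_inv, htG1]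
  obtain ⟨U, η, hηG, hinv, hUt, hUZ, hA, hηZ, hηU, hcomm⟩ := htv.main hRp g.2 hγ
  have hcomm' : η * conjAutHom R ⟨x₀, hSN x₀ hx₀S⟩ = conjAutHom R ⟨x₀, hSN x₀ hx₀S⟩ * η := by
    rw [← htdef]
    exact hcomm
  obtain ⟨ρ, hρ, hρx⟩ := exists_ext_aut p hS F hF hfn hηG hx₀S (hSN x₀ hx₀S) hcomm' hsurj
  -- fixed points of `t` are central in `S`
  have hfixc : ∀ e : R, t e = e → (e : Ω) ∈ centralizerIn S S := by
    intro e he
    refine Subgroup.mem_inf.mpr ⟨hRS e.2, ?_⟩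
    rw [Subgroup.mem_centralizer_iff]
    intro s hs
    obtain ⟨r, hr, g', hg', rfl⟩ := hsurj s hs
    obtain ⟨k, rfl⟩ := Subgroup.mem_zpowers_iff.mp hg'
    have h1 : x₀ * (e : Ω) * x₀⁻¹ = (e : Ω) := by
      rw [← htapp, he]
    have h2 : Commute x₀ (e : Ω) := by
      show x₀ * (e : Ω) = (e : Ω) * x₀
      calc x₀ * (e : Ω) = (x₀ * (e : Ω) * x₀⁻¹) * x₀ := by group
        _ = (e : Ω) * x₀ := by rw [h1]
    have h3 : Commute r (e : Ω) := hab r hr e e.2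
    exact (h3.mul_left (h2.zpow_left k)).eq
  have hcenR : centralizerIn S S ≤ R := by
    intro a ha
    apply hcR.2 R (Fusion.isConj_refl F hRS)
    refine Subgroup.mem_inf.mpr ⟨ha.1, ?_⟩
    have h1 : a ∈ Subgroup.centralizer (S : Set Ω) := ha.2
    rw [Subgroup.mem_centralizer_iff] at h1 ⊢
    intro r hr
    exact h1 r (hRS hr)
  refine ⟨U.map R.subtype, ρ, ⟨hρ, ?_, ?_, ?_, ?_⟩, ?_, ?_⟩
  · intro z hz
    have hzR : (z : Ω) ∈ R := hZR hz
    apply Subtype.ext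
    have h1 := hρx ⟨z, hzR⟩ z.2
    have h2 : ρ z = ρ ⟨((⟨(z : Ω), hzR⟩ : R) : Ω), z.2⟩ := rfl
    rw [h2, h1, hηZ ⟨z, hzR⟩ (Subgroup.mem_subgroupOf.mpr hz)]
    rfl
  · intro v hv
    obtain ⟨u, hu, huv⟩ := hv
    apply Subtype.ext
    have huS : (u : Ω) ∈ S := hRS u.2
    have hv' : v = ⟨(u : Ω), huS⟩ := Subtype.ext huv.symm
    rw [hv', hρx u huS, hηU u hu]
  · rintro _ ⟨u, hu, rfl⟩
    exact hfixc u (hUt u hu)
  · intro a ha
    have haR : a ∈ R := hcenR ha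
    have hta : t ⟨a, haR⟩ = ⟨a, haR⟩ := by
      apply Subtype.ext
      rw [htapp]
      have h1 : a ∈ Subgroup.centralizer (S : Set Ω) := ha.2
      rw [Subgroup.mem_centralizer_iff] at h1
      show x₀ * a * x₀⁻¹ = a
      rw [h1 x₀ hx₀S, mul_inv_cancel_right]
    obtain ⟨z, hz, u, hu, hzu⟩ := hA ⟨a, haR⟩ hta
    refine ⟨(z : Ω), Subgroup.mem_subgroupOf.mp hz, (u : Ω), ⟨u, hu, rfl⟩, ?_⟩
    have := congrArg Subtype.val hzu
    exact this
  · rintro _ ⟨u, _, rfl⟩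
    exact u.2
  · intro α hα v hv
    obtain ⟨u, hu, huv⟩ := hv
    have hvu : v = u := Subtype.ext huv.symm
    rw [hvu]
    exact ⟨α u, hinv α hα u hu, rfl⟩

end Cfsg.Agent.Helper3.ExIdx
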