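import Mathlib
import Cfsg.Agent.Lead.FusionInner
import Cfsg.Agent.Lead.FusionNormalCrit
import Cfsg.Agent.Helper3.ExIdxG

set_option autoImplicit false

/-!
Helper lemmas (helper3): uniqueness of the reflection complement, and the resulting nontrivial subgroup
normal in the fusion system when `[S, S] ≤ Z` has order `p` and `Z(S) ≠ Z`.
-/

namespace Cfsg.Agent.Helper3.ExIdx

open Cfsg Cfsg.FusionSystem Cfsg.Agent.Lead Cfsg.Agent.Lead.Meta Cfsg.Agent.Lead.Gex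

variable {Ω : Type*} [Group Ω] {S : Subgroup Ω}

/-- In a saturated fusion system, some `p'`-power of an element of `Aut_F(S)` is induced by `S`. -/
theorem pow_mem_autInducedBy [Finite S] (p : ℕ) [hp : Fact p.Prime] (F : FusionSystem S)
    (hF : F.IsSaturated p) {σ : MulAut S} (hσ : σ ∈ F.autGroup S) :
    ∃ m : ℕ, ¬ p ∣ m ∧ σ ^ m ∈ autInducedBy S S := by
  obtain ⟨-, P₀, hP₀⟩ := Fusion.top_fullyAutomized p F hF
  haveI : Finite (MulAut S) := inferInstance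
  haveI hn : (P₀ : Subgroup (F.autGroup S)).Normal := by
    constructor
    intro n hn a
    rw [hP₀, Subgroup.mem_subgroupOf] at hn ⊢
    obtain ⟨g, hg, hgx⟩ := (mem_autInducedBy_iff S S n.1).mp hn
    rw [mem_autInducedBy_iff]
    refine ⟨((a.1 ⟨g, hg⟩ : S) : Ω), (a.1 ⟨g, hg⟩).2, fun x => ?_⟩
    have h1 : n.1 (a.1⁻¹ x) = ⟨g, hg⟩ * (a.1⁻¹ x) * (⟨g, hg⟩ : S)⁻¹ := Subtype.ext (hgx _)
    have h2 : ((a * n * a⁻¹ : F.autGroup S) : MulAut S) x = a.1 (n.1 (a.1⁻¹ x)) := rfl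
    rw [h2, h1, map_mul, map_mul, map_inv, MulAut.apply_inv_self]
    rfl
  obtain ⟨m, hm⟩ : ∃ m, m = (P₀ : Subgroup (F.autGroup S)).index := ⟨_, rfl⟩
  have hnd : ¬ p ∣ m := hm ▸ P₀.not_dvd_index
  refine ⟨m, hnd, ?_⟩
  have h3 := Subgroup.pow_index_mem (P₀ : Subgroup (F.autGroup S)) ⟨σ, hσ⟩
  rw [← hm, hP₀, Subgroup.mem_subgroupOf] at h3
  exact h3

/-- Every automorphism of `S` preserves `Z`. -/
theorem CS.aut_mem {p : ℕ} [hp : Fact p.Prime] {Z : Subgroup Ω} (hx : CS p S S Z)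
    (hnc : ∃ a ∈ S, ∃ b ∈ S, a * b * a⁻¹ * b⁻¹ ≠ 1) (α : MulAut S) {z : S} (hz : (z : Ω) ∈ Z) :
    ((α z : S) : Ω) ∈ Z := by
  obtain ⟨a, ha, b, hb, hw1⟩ := hnc
  have hw := hx.hcomm a ha b hb
  obtain ⟨k, hk⟩ := hx.gen hw hw1 hz
  have hζ : z = ((⟨a, ha⟩ : S) * ⟨b, hb⟩ * (⟨a, ha⟩ : S)⁻¹ * (⟨b, hb⟩ : S)⁻¹) ^ k := by
    apply Subtype.ext
    rw [Subgroup.coe_pow]
    exact hk
  rw [hζ, map_pow, map_mul, map_mul, map_mul, map_inv, map_inv, Subgroup.coe_pow]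
  apply Z.pow_mem
  exact hx.hcomm _ (α ⟨a, ha⟩).2 _ (α ⟨b, hb⟩).2

/-- The complement in a reflection is unique. -/
theorem Refl.le [Finite S] (p : ℕ) [hp : Fact p.Prime] (hp2 : p ≠ 2) {Z : Subgroup Ω}
    (hx : CS p S S Z) (F : FusionSystem S) (hF : F.IsSaturated p) {V V' : Subgroup Ω}
    {ρ ρ' : MulAut S} (h : Refl F Z V ρ) (h' : Refl F Z V' ρ') : V ≤ V' := by
  intro v hv
  have hvc := h.hVZ hv
  obtain ⟨z₀, hz₀, v', hv', hvz⟩ := h'.hdec v hvc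
  have hvS : v ∈ S := hvc.1
  have hz₀S : z₀ ∈ S := hx.hZS hz₀
  have hv'S : v' ∈ S := (h'.hVZ hv').1
  obtain ⟨vS, hvSdef⟩ : ∃ vS : S, vS = ⟨v, hvS⟩ := ⟨_, rfl⟩
  obtain ⟨zS, hzSdef⟩ : ∃ zS : S, zS = ⟨z₀, hz₀S⟩ := ⟨_, rfl⟩
  obtain ⟨v'S, hv'Sdef⟩ : ∃ v'S : S, v'S = ⟨v', hv'S⟩ := ⟨_, rfl⟩
  have hvSV : (vS : Ω) ∈ V := by rw [hvSdef]; exact hv
  have hzSZ : (zS : Ω) ∈ Z := by rw [hzSdef]; exact hz₀
  have hv'SV : (v'S : Ω) ∈ V' := by rw [hv'Sdef]; exact hv'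
  have hvz' : vS = zS * v'S := by
    rw [hvSdef, hzSdef, hv'Sdef]
    exact Subtype.ext hvz
  have hzc : ∀ s : S, zS * s = s * zS := fun s =>
    Subtype.ext (hx.hZc s s.2 (zS : Ω) hzSZ).symm
  have hρ'v : ρ' vS = zS⁻¹ * v'S := by
    rw [hvz', map_mul, h'.hinvZ zS hzSZ, h'.hfixV v'S hv'SV]
  have hv'eq : v'S = zS⁻¹ * vS := by rw [hvz', inv_mul_cancel_left]
  have hρz : ρ zS = zS⁻¹ := h.hinvZ zS hzSZ
  have hσv : (ρ * ρ') vS = zS * zS * vS := by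
    rw [MulAut.mul_apply, hρ'v, hv'eq, map_mul, map_mul, map_inv, hρz, inv_inv, h.hfixV vS hvSV,
      mul_assoc]
  have hσz : (ρ * ρ') zS = zS := by
    rw [MulAut.mul_apply, h'.hinvZ zS hzSZ, map_inv, hρz, inv_inv]
  have hmv : vS⁻¹ * (ρ * ρ') vS = zS * zS := by
    rw [hσv]
    have h1 : zS * zS * vS = vS * (zS * zS) := by
      rw [mul_assoc, hzc vS, ← mul_assoc, hzc vS, mul_assoc]
    rw [h1, inv_mul_cancel_left]
  have hfix : (ρ * ρ') (vS⁻¹ * (ρ * ρ') vS) = vS⁻¹ * (ρ * ρ') vS := by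
    rw [hmv, map_mul, hσz]
  obtain ⟨m, hm, hmem⟩ := pow_mem_autInducedBy p F hF (Subgroup.mul_mem _ h.hρ h'.hρ)
  have hpow := pow_apply_of_fix (ρ * ρ') vS hfix m
  obtain ⟨g, hg, hgx⟩ := (mem_autInducedBy_iff S S _).mp hmem
  have hfixv : ((ρ * ρ') ^ m) vS = vS := by
    apply Subtype.ext
    rw [hgx]
    have h1 : (vS : Ω) ∈ Subgroup.centralizer (S : Set Ω) := by
      rw [hvSdef]
      exact hvc.2
    rw [Subgroup.mem_centralizer_iff] at h1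
    rw [h1 g hg, mul_inv_cancel_right]
  rw [hfixv, hmv] at hpow
  have h1 : (zS * zS) ^ m = 1 := by
    have h2 : vS * (zS * zS) ^ m = vS * 1 := by rw [mul_one]; exact hpow.symm
    exact mul_left_cancel h2
  have h2 : zS ^ (2 * m) = 1 := by
    rw [pow_mul, pow_two]
    exact h1
  have h3 : zS ^ p = 1 := by
    apply Subtype.ext
    rw [Subgroup.coe_pow]
    exact hx.pow_p hzSZ
  have h4 : orderOf zS ∣ Nat.gcd (2 * m) p :=
    Nat.dvd_gcd (orderOf_dvd_of_pow_eq_one h2) (orderOf_dvd_of_pow_eq_one h3)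
  have h5 : Nat.gcd (2 * m) p = 1 := by
    rw [Nat.gcd_comm]
    refine (Nat.Prime.coprime_iff_not_dvd hp.out).mpr (fun hd => ?_)
    rcases (Nat.Prime.dvd_mul hp.out).mp hd with h6 | h6
    · exact hp2 ((Nat.prime_dvd_prime_iff_eq hp.out Nat.prime_two).mp h6)
    · exact hm h6
  rw [h5, Nat.dvd_one, orderOf_eq_one_iff] at h4
  have h6 : z₀ = 1 := by
    have := congrArg Subtype.val h4
    rw [hzSdef] at this
    exact this
  rw [hvz, h6, one_mul]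
  exact hv'

/-- Transport of a reflection by an element of `Aut_F(S)`. -/
theorem Refl.conj [Finite S] {p : ℕ} [hp : Fact p.Prime] {Z : Subgroup Ω} (hx : CS p S S Z)
    (hnc : ∃ a ∈ S, ∃ b ∈ S, a * b * a⁻¹ * b⁻¹ ≠ 1) (F : FusionSystem S) {V : Subgroup Ω}
    {ρ : MulAut S} (h : Refl F Z V ρ) {α : MulAut S} (hα : α ∈ F.autGroup S) :
    Refl F Z (((V.subgroupOf S).map α.toMonoidHom).map S.subtype) (α * ρ * α⁻¹) := by
  have hcen : ∀ (β : MulAut S) (u : S), (u : Ω) ∈ centralizerIn S S →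
      ((β u : S) : Ω) ∈ centralizerIn S S := by
    intro β u hu
    refine Subgroup.mem_inf.mpr ⟨(β u).2, ?_⟩
    have h1 : (u : Ω) ∈ Subgroup.centralizer (S : Set Ω) := hu.2
    rw [Subgroup.mem_centralizer_iff] at h1 ⊢
    intro s hs
    have h2 := h1 _ (β⁻¹ ⟨s, hs⟩).2
    have h3 : β⁻¹ ⟨s, hs⟩ * u = u * β⁻¹ ⟨s, hs⟩ := Subtype.ext h2
    have h4 := congrArg β h3
    rw [map_mul, map_mul, MulAut.apply_inv_self] at h4
    exact congrArg Subtype.val h4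
  refine ⟨?_, ?_, ?_, ?_, ?_⟩
  · exact Subgroup.mul_mem _ (Subgroup.mul_mem _ hα h.hρ) (Subgroup.inv_mem _ hα)
  · intro z hz
    have h1 : (α * ρ * α⁻¹) z = α (ρ (α⁻¹ z)) := rfl
    rw [h1, h.hinvZ _ (hx.aut_mem hnc α⁻¹ hz), map_inv, MulAut.apply_inv_self]
  · intro v hv
    obtain ⟨w, ⟨u, hu, rfl⟩, hwv⟩ := hv
    rw [SetLike.mem_coe, Subgroup.mem_subgroupOf] at hu
    have hvu : v = α u := Subtype.ext hwv.symm
    have h1 : (α * ρ * α⁻¹) v = α (ρ (α⁻¹ v)) := rfl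
    rw [h1, hvu, MulAut.inv_apply_self, h.hfixV u hu]
  · rintro _ ⟨w, ⟨u, hu, rfl⟩, rfl⟩
    rw [SetLike.mem_coe, Subgroup.mem_subgroupOf] at hu
    exact hcen α u (h.hVZ hu)
  · intro a ha
    have haS : a ∈ S := ha.1
    have h1 := hcen α⁻¹ ⟨a, haS⟩ ha
    obtain ⟨z, hz, v, hv, hzv⟩ := h.hdec _ h1
    have hzS : z ∈ S := hx.hZS hz
    have hvS : v ∈ S := (h.hVZ hv).1
    have h2 : α⁻¹ ⟨a, haS⟩ = (⟨z, hzS⟩ : S) * ⟨v, hvS⟩ := Subtype.ext hzv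
    have h3 : (⟨a, haS⟩ : S) = α ⟨z, hzS⟩ * α ⟨v, hvS⟩ := by
      rw [← map_mul, ← h2, MulAut.apply_inv_self]
    refine ⟨((α ⟨z, hzS⟩ : S) : Ω), hx.aut_mem hnc α hz, ((α ⟨v, hvS⟩ : S) : Ω), ?_, ?_⟩
    · exact ⟨α ⟨v, hvS⟩, ⟨⟨v, hvS⟩, Subgroup.mem_subgroupOf.mpr hv, rfl⟩, rfl⟩
    · exact congrArg Subtype.val h3

/-- If `[S, S] ≤ Z` has order `p` (odd), `S` is nonabelian and `Z(S) ≠ Z`, then some nontrivial subgroup
is normal in any saturated fusion system over `S`. -/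
theorem exists_normal_of_center_gt [Finite S] (p : ℕ) [hp : Fact p.Prime] (hp2 : p ≠ 2)
    (hS : IsPGroup p S) {Z : Subgroup Ω} (hx : CS p S S Z)
    (hnc : ∃ a ∈ S, ∃ b ∈ S, a * b * a⁻¹ * b⁻¹ ≠ 1) (F : FusionSystem S) (hF : F.IsSaturated p)
    (hZS : ∃ c ∈ centralizerIn S S, c ∉ Z) (hS1 : S ≠ ⊥) :
    ∃ U : Subgroup Ω, U ≠ ⊥ ∧ F.IsNormal U := by
  by_cases hex : ∃ R, F.IsEssential p R ∧ R ≠ S
  · obtain ⟨R₀, hR₀, hR₀S⟩ := hex
    obtain ⟨V₀, ρ₀, hrefl₀, -, -⟩ := ess_refl p hS hx F hF R₀ hR₀ hR₀S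
    refine ⟨V₀, ?_, ?_⟩
    · intro hbot
      obtain ⟨c, hc, hcZ⟩ := hZS
      obtain ⟨z, hz, v, hv, hzv⟩ := hrefl₀.hdec c hc
      rw [hbot, Subgroup.mem_bot] at hv
      rw [hv, mul_one] at hzv
      exact hcZ (hzv ▸ hz)
    · apply Fusion.isNormal_of_forall_essential p hS F hF V₀
      have hcaseS : V₀ ≤ S ∧ ∀ α ∈ F.autGroup S,
          (V₀.subgroupOf S).map α.toMonoidHom = V₀.subgroupOf S := by
        refine ⟨fun v hv => (hrefl₀.hVZ hv).1, fun α hα => ?_⟩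
        apply Fusion.map_aut_eq_of_le
        have h1 := Refl.le p hp2 hx F hF (hrefl₀.conj hx hnc F hα) hrefl₀
        rintro _ ⟨u, hu, rfl⟩
        rw [Subgroup.mem_subgroupOf]
        exact h1 ⟨α u, ⟨u, hu, rfl⟩, rfl⟩
      intro P hP
      by_cases hPS : P = S
      · subst hPS
        exact hcaseS
      · have hess : F.IsEssential p P := by
          rcases hP with h | h
          · exact absurd h hPS
          · exact h
        obtain ⟨V, ρ, hrefl, hVP, hVinv⟩ := ess_refl p hS hx F hF P hess hPS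
        have hVV : V = V₀ := le_antisymm (Refl.le p hp2 hx F hF hrefl hrefl₀)
          (Refl.le p hp2 hx F hF hrefl₀ hrefl)
        rw [← hVV]
        refine ⟨hVP, fun α hα => ?_⟩
        haveI : Finite P := Fusion.finite_of_le hess.1.1
        apply Fusion.map_aut_eq_of_le
        rintro _ ⟨u, hu, rfl⟩
        rw [SetLike.mem_coe, Subgroup.mem_subgroupOf] at hu
        rw [Subgroup.mem_subgroupOf]
        exact hVinv α hα u hu
  · push Not at hex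
    refine ⟨S, hS1, ?_⟩
    apply Fusion.isNormal_of_forall_essential p hS F hF S
    intro P hP
    have hPS : P = S := by
      rcases hP with h | h
      · exact h
      · exact hex P h
    subst hPS
    refine ⟨le_rfl, fun α _ => ?_⟩
    apply Fusion.map_aut_eq_of_le
    intro x _
    rw [Subgroup.mem_subgroupOf]
    exact x.2

end Cfsg.Agent.Helper3.ExIdx
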