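import Mathlib
import Cfsg.Prelude.Def_Transfer
import Cfsg.Agent.Helper3.ExtraRank

/-!
Helper library (helper3): the twisted product `(ZMod 2)² × C` (central product of a group of order 8
with `C` over a central element of order 2), and models of both types of extraspecial 2-groups.
-/

set_option autoImplicit false

namespace Cfsg.Agent.Helper3.Extra

open scoped commutatorElement

universe u

/-- data for the twisted product -/
structure TwData (C : Type u) [Group C] where
  z : C
  hz : ∀ c : C, z * c = c * z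
  hz2 : z * z = 1
  α : ZMod 2
  β : ZMod 2

/-- the twisted product as a type -/
@[ext]
structure Tw {C : Type u} [Group C] (D : TwData C) : Type u where
  u : ZMod 2 × ZMod 2
  c : C

namespace Tw

variable {C : Type u} [Group C] (D : TwData C)

/-- `a ↦ z ^ a` -/
def zeta (a : ZMod 2) : C := if a = 0 then 1 else D.z

theorem zeta_zero : zeta D 0 = 1 := by simp [zeta]

theorem zeta_one : zeta D 1 = D.z := by simp [zeta]

theorem zeta_add (a b : ZMod 2) : zeta D (a + b) = zeta D a * zeta D b := by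
  have h := D.hz2
  fin_cases a <;> fin_cases b <;> simp [zeta, h] <;> rfl

theorem zeta_comm (a : ZMod 2) (c : C) : zeta D a * c = c * zeta D a := by
  unfold zeta
  split_ifs
  · simp
  · exact D.hz c

/-- the cocycle -/
def f (u v : ZMod 2 × ZMod 2) : ZMod 2 := D.α * u.1 * v.1 + u.2 * v.1 + D.β * u.2 * v.2

theorem f_add_left (u u' v : ZMod 2 × ZMod 2) : f D (u + u') v = f D u v + f D u' v := by
  simp only [f, Prod.fst_add, Prod.snd_add]; ring

theorem f_add_right (u v v' : ZMod 2 × ZMod 2) : f D u (v + v') = f D u v + f D u v' := by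
  simp only [f, Prod.fst_add, Prod.snd_add]; ring

theorem f_zero_left (v : ZMod 2 × ZMod 2) : f D 0 v = 0 := by simp [f]

theorem f_zero_right (u : ZMod 2 × ZMod 2) : f D u 0 = 0 := by simp [f]

instance : Mul (Tw D) := ⟨fun p q => ⟨p.u + q.u, zeta D (f D p.u q.u) * p.c * q.c⟩⟩
instance : One (Tw D) := ⟨⟨0, 1⟩⟩
instance : Inv (Tw D) := ⟨fun p => ⟨-p.u, (zeta D (f D p.u (-p.u)) * p.c)⁻¹⟩⟩

theorem mul_def (p q : Tw D) :
    p * q = ⟨p.u + q.u, zeta D (f D p.u q.u) * p.c * q.c⟩ := rfl

theorem one_def : (1 : Tw D) = ⟨0, 1⟩ := rfl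

theorem inv_def (p : Tw D) : p⁻¹ = ⟨-p.u, (zeta D (f D p.u (-p.u)) * p.c)⁻¹⟩ := rfl

instance : Group (Tw D) :=
  Group.ofLeftAxioms
    (by
      rintro ⟨u, c⟩ ⟨v, d⟩ ⟨w, e⟩
      simp only [mul_def]
      refine Tw.ext (add_assoc _ _ _) ?_
      simp only
      have h1 : f D (u + v) w + f D u v = f D u (v + w) + f D v w := by
        rw [f_add_left, f_add_right]; ring
      calc zeta D (f D (u + v) w) * (zeta D (f D u v) * c * d) * e
          = (zeta D (f D (u + v) w) * zeta D (f D u v)) * c * d * e := by group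
        _ = (zeta D (f D u (v + w)) * zeta D (f D v w)) * c * d * e := by
            rw [← zeta_add, ← zeta_add, h1]
        _ = zeta D (f D u (v + w)) * (zeta D (f D v w) * c) * d * e := by group
        _ = zeta D (f D u (v + w)) * (c * zeta D (f D v w)) * d * e := by
            rw [zeta_comm D (f D v w) c]
        _ = zeta D (f D u (v + w)) * c * (zeta D (f D v w) * d * e) := by group)
    (by
      rintro ⟨u, c⟩
      simp only [mul_def, one_def]
      refine Tw.ext (zero_add _) ?_
      simp [f_zero_left, zeta_zero])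
    (by
      rintro ⟨u, c⟩
      simp only [mul_def, one_def, inv_def]
      refine Tw.ext (neg_add_cancel _) ?_
      simp only
      have h1 : f D (-u) u = f D u (-u) := by
        simp only [f, Prod.fst_neg, Prod.snd_neg]; ring
      rw [h1]
      have h2 : (zeta D (f D u (-u)) * c)⁻¹ * c = (zeta D (f D u (-u)))⁻¹ := by
        rw [zeta_comm, mul_inv_rev, inv_mul_cancel_right]
      rw [mul_assoc, h2, mul_inv_cancel])

/-- the underlying product -/
def equivProd : Tw D ≃ (ZMod 2 × ZMod 2) × C where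
  toFun p := (p.u, p.c)
  invFun q := ⟨q.1, q.2⟩
  left_inv _ := rfl
  right_inv _ := rfl

instance [Finite C] : Finite (Tw D) := Finite.of_equiv _ (equivProd D).symm

theorem card_eq : Nat.card (Tw D) = 4 * Nat.card C := by
  rw [Nat.card_congr (equivProd D), Nat.card_prod, Nat.card_prod, Nat.card_zmod]

/-- the embedding of `C` -/
def iota : C →* Tw D where
  toFun c := ⟨0, c⟩
  map_one' := rfl
  map_mul' a b := by
    rw [mul_def]
    refine Tw.ext (by simp) ?_
    simp [f_zero_left, zeta_zero]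

theorem iota_injective : Function.Injective (iota D) := by
  intro a b h
  exact congrArg Tw.c h

theorem iota_mul (k : C) (p : Tw D) : iota D k * p = ⟨p.u, k * p.c⟩ := by
  rw [mul_def]
  refine Tw.ext (by simp [iota]) ?_
  simp [iota, f_zero_left, zeta_zero]

theorem mul_iota (k : C) (p : Tw D) : p * iota D k = ⟨p.u, p.c * k⟩ := by
  rw [mul_def]
  refine Tw.ext (by simp [iota]) ?_
  simp [iota, f_zero_right, zeta_zero]

/-- `p * q = ι(k) * (q * p)` -/
theorem mul_comm_formula (p q : Tw D) :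
    p * q = iota D (zeta D (f D p.u q.u) * (zeta D (f D q.u p.u))⁻¹ * ⁅p.c, q.c⁆) * (q * p) := by
  rw [iota_mul, mul_def, mul_def]
  refine Tw.ext (add_comm _ _) ?_
  simp only
  have h1 := zeta_comm D (f D q.u p.u) ⁅p.c, q.c⁆
  calc zeta D (f D p.u q.u) * p.c * q.c
      = zeta D (f D p.u q.u) * (⁅p.c, q.c⁆ * q.c * p.c) := by rw [commutatorElement_def]; group
    _ = zeta D (f D p.u q.u) * (zeta D (f D q.u p.u))⁻¹ * (zeta D (f D q.u p.u) * ⁅p.c, q.c⁆) *
          q.c * p.c := by group
    _ = zeta D (f D p.u q.u) * (zeta D (f D q.u p.u))⁻¹ * (⁅p.c, q.c⁆ * zeta D (f D q.u p.u)) *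
          q.c * p.c := by rw [h1]
    _ = _ := by group

theorem commutator_eq (p q : Tw D) :
    ⁅p, q⁆ = iota D (zeta D (f D p.u q.u) * (zeta D (f D q.u p.u))⁻¹ * ⁅p.c, q.c⁆) := by
  have h := mul_comm_formula D p q
  rw [commutatorElement_def]
  calc p * q * p⁻¹ * q⁻¹ = (p * q) * (q * p)⁻¹ := by group
    _ = _ := by rw [h]; group

theorem sq_eq (p : Tw D) : p ^ 2 = iota D (zeta D (f D p.u p.u) * p.c ^ 2) := by
  rw [pow_two, mul_def]
  refine Tw.ext ?_ ?_
  · show p.u + p.u = 0
    exact CharTwo.add_self_eq_zero _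
  · show zeta D (f D p.u p.u) * p.c * p.c = zeta D (f D p.u p.u) * p.c ^ 2
    rw [pow_two]; group

theorem zeta_mem_center (a : ZMod 2) : zeta D a ∈ Subgroup.center C := by
  rw [Subgroup.mem_center_iff]
  intro g
  exact (zeta_comm D a g).symm

theorem zeta_injective (hz : D.z ≠ 1) {a b : ZMod 2} (h : zeta D a = zeta D b) : a = b := by
  have key : ∀ a b : ZMod 2, a ≠ 0 → b ≠ 0 → a = b := by decide
  unfold zeta at h
  by_cases ha : a = 0 <;> by_cases hb : b = 0
  · rw [ha, hb]
  · rw [if_pos ha, if_neg hb] at h; exact absurd h.symm hz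
  · rw [if_neg ha, if_pos hb] at h; exact absurd h hz
  · exact key a b ha hb

/-- the two standard generators -/
def X : Tw D := ⟨(1, 0), 1⟩
def Y : Tw D := ⟨(0, 1), 1⟩

theorem u_eq_zero_of_comm (hz : D.z ≠ 1) (p : Tw D) (hX : X D * p = p * X D)
    (hY : Y D * p = p * Y D) : p.u = 0 := by
  have h1 := congrArg Tw.c hX
  have h2 := congrArg Tw.c hY
  simp only [mul_def, X, Y, mul_one] at h1 h2
  have h1' := zeta_injective D hz (mul_right_cancel h1)
  have h2' := zeta_injective D hz (mul_right_cancel h2)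
  simp only [f, mul_one, mul_zero, add_zero, zero_add, zero_mul, one_mul] at h1' h2'
  have e1 : p.u.2 = 0 := by
    have : D.α * p.u.1 = D.α * p.u.1 + p.u.2 := h1'
    simpa using this.symm
  have e2 : p.u.1 = 0 := by
    have : p.u.1 + D.β * p.u.2 = D.β * p.u.2 := h2'
    simpa using this
  exact Prod.ext e2 e1

theorem mem_center_iff (hz : D.z ≠ 1) (p : Tw D) :
    p ∈ Subgroup.center (Tw D) ↔ p.u = 0 ∧ p.c ∈ Subgroup.center C := by
  constructor
  · intro hp
    rw [Subgroup.mem_center_iff] at hp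
    have hu : p.u = 0 := u_eq_zero_of_comm D hz p (hp _) (hp _)
    refine ⟨hu, ?_⟩
    rw [Subgroup.mem_center_iff]
    intro g
    have h := congrArg Tw.c (hp ⟨0, g⟩)
    simp only [mul_def, hu, f_zero_left, f_zero_right, zeta_zero, one_mul] at h
    exact h
  · rintro ⟨hu, hc⟩
    rw [Subgroup.mem_center_iff]
    intro q
    have hp : p = iota D p.c := Tw.ext hu rfl
    rw [hp, iota_mul, mul_iota]
    refine Tw.ext rfl ?_
    exact Subgroup.mem_center_iff.mp hc q.c

theorem inClass (hC : InClass 2 C) (hz : D.z ≠ 1) : InClass 2 (Tw D) where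
  card_center := by
    rw [← hC.card_center]
    apply Nat.card_congr
    refine ⟨fun p => ⟨p.1.c, ((mem_center_iff D hz p.1).1 p.2).2⟩,
      fun k => ⟨iota D k.1, (mem_center_iff D hz _).2 ⟨rfl, k.2⟩⟩, ?_, ?_⟩
    · intro p
      apply Subtype.ext
      exact Tw.ext ((mem_center_iff D hz p.1).1 p.2).1.symm rfl
    · intro k
      rfl
  comm_mem := by
    intro p q
    rw [commutator_eq, mem_center_iff D hz]
    refine ⟨rfl, ?_⟩
    exact Subgroup.mul_mem _ (Subgroup.mul_mem _ (zeta_mem_center D _)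
      (Subgroup.inv_mem _ (zeta_mem_center D _))) (hC.comm_mem _ _)
  pow_mem := by
    intro p
    rw [sq_eq, mem_center_iff D hz]
    exact ⟨rfl, Subgroup.mul_mem _ (zeta_mem_center D _) (hC.pow_mem _)⟩

theorem comm_YX : ⁅Y D, X D⁆ = iota D D.z := by
  rw [commutator_eq]
  congr 1
  simp [X, Y, f, zeta_zero, zeta_one]

theorem X_sq : X D ^ 2 = iota D (zeta D D.α) := by
  rw [sq_eq]; simp [X, f]

theorem Y_sq : Y D ^ 2 = iota D (zeta D D.β) := by
  rw [sq_eq]; simp [Y, f]

theorem centralizer_eq (hz : D.z ≠ 1) :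
    Subgroup.centralizer ({X D, Y D} : Set (Tw D)) = (iota D).range := by
  ext p
  rw [Subgroup.mem_centralizer_iff, MonoidHom.mem_range]
  constructor
  · intro h
    have hu := u_eq_zero_of_comm D hz p (h _ (by simp)) (h _ (by simp))
    exact ⟨p.c, Tw.ext hu.symm rfl⟩
  · rintro ⟨k, rfl⟩ g hg
    rw [iota_mul, mul_iota]
    rcases hg with rfl | rfl
    · exact Tw.ext rfl (by simp [X])
    · exact Tw.ext rfl (by simp [Y])

theorem comm_YX_ne (hz : D.z ≠ 1) : ⁅Y D, X D⁆ ≠ 1 := by
  rw [comm_YX]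
  intro h
  apply hz
  apply iota_injective D
  rw [h, map_one]

/-- the centraliser of the standard pair is a copy of `C` -/
noncomputable def centralizerEquiv (hz : D.z ≠ 1) :
    C ≃* Subgroup.centralizer ({X D, Y D} : Set (Tw D)) :=
  (MonoidHom.ofInjective (iota_injective D)).trans
    (MulEquiv.subgroupCongr (centralizer_eq D hz).symm)

theorem inv2_of_zero [Finite C] (hC : InClass 2 C) (hz : D.z ≠ 1) (hα : D.α = 0) :
    inv2 (Tw D) = 2 * inv2 C + Nat.card C := by
  have hT := inClass D hC hz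
  have hxy := comm_YX_ne D hz
  have h := (hT.inv2_formula (X D) (Y D) hxy).1 (by
    rintro ⟨h1, -⟩
    rw [X_sq, hα, zeta_zero, map_one] at h1
    exact hxy h1.symm)
  rw [h, inv2_congr (centralizerEquiv D hz), Nat.card_congr (centralizerEquiv D hz).toEquiv]

theorem inv2_of_one [Finite C] (hC : InClass 2 C) (hz : D.z ≠ 1) (hα : D.α = 1) (hβ : D.β = 1) :
    inv2 (Tw D) + 2 * inv2 C = 3 * Nat.card C := by
  have hT := inClass D hC hz
  have hxy := comm_YX_ne D hz
  have h := (hT.inv2_formula (X D) (Y D) hxy).2 (by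
    rw [X_sq, Y_sq, hα, hβ, zeta_one, comm_YX]
    exact ⟨rfl, rfl⟩)
  rw [← inv2_congr (centralizerEquiv D hz), ← Nat.card_congr (centralizerEquiv D hz).toEquiv] at h
  exact h

end Tw

/-- a nontrivial central involution packaged as twisting data -/
theorem exists_twData {C : Type u} [Group C] (hC : InClass 2 C) (a b : ZMod 2) :
    ∃ D : TwData C, D.z ≠ 1 ∧ D.α = a ∧ D.β = b := by
  obtain ⟨z, hz1, -⟩ := (Nat.card_eq_two_iff' (1 : Subgroup.center C)).1 hC.card_center
  have hz2 : (z : C) ^ 2 = 1 := sq_eq_one_of_mem_center hC z.2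
  refine ⟨⟨z, fun c => (Subgroup.mem_center_iff.mp z.2 c).symm, by rw [← pow_two]; exact hz2, a, b⟩,
    ?_, rfl, rfl⟩
  intro h
  apply hz1
  exact Subtype.ext h

/-- models of plus type -/
theorem exists_plus_model : ∀ n : ℕ, ∃ (E : Type) (_ : Group E) (_ : Finite E),
    InClass 2 E ∧ Nat.card E = 2 ^ (2 * n + 1) ∧ inv2 E = 2 ^ (2 * n) + 2 ^ n := by
  intro n
  induction n with
  | zero =>
    refine ⟨Multiplicative (ZMod 2), inferInstance, inferInstance, ?_, ?_, ?_⟩
    · have htop : Subgroup.center (Multiplicative (ZMod 2)) = ⊤ := by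
        rw [eq_top_iff]
        intro x _
        rw [Subgroup.mem_center_iff]
        intro g
        exact mul_comm g x
      refine ⟨?_, ?_, ?_⟩
      · rw [htop, Subgroup.card_top]
        simp [Nat.card_zmod]
      · intro x y
        rw [htop]; exact Subgroup.mem_top _
      · intro x
        rw [htop]; exact Subgroup.mem_top _
    · simp [Nat.card_zmod]
    · rw [InClass.inv2_of_card_two (by simp [Nat.card_zmod])]; norm_num
  | succ n ih =>
    obtain ⟨C, _, _, hC, hcard, hinv⟩ := ih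
    obtain ⟨D, hz, hα, -⟩ := exists_twData hC 0 0
    refine ⟨Tw D, inferInstance, inferInstance, Tw.inClass D hC hz, ?_, ?_⟩
    · rw [Tw.card_eq, hcard]; ring
    · rw [Tw.inv2_of_zero D hC hz hα, hcard, hinv]; ring

/-- models of minus type -/
theorem exists_minus_model (n : ℕ) (hn : 1 ≤ n) : ∃ (E : Type) (_ : Group E) (_ : Finite E),
    InClass 2 E ∧ Nat.card E = 2 ^ (2 * n + 1) ∧ inv2 E + 2 ^ n = 2 ^ (2 * n) := by
  obtain ⟨m, rfl⟩ : ∃ m, n = m + 1 := ⟨n - 1, by omega⟩
  obtain ⟨C, _, _, hC, hcard, hinv⟩ := exists_plus_model m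
  obtain ⟨D, hz, hα, hβ⟩ := exists_twData hC 1 1
  refine ⟨Tw D, inferInstance, inferInstance, Tw.inClass D hC hz, ?_, ?_⟩
  · rw [Tw.card_eq, hcard]; ring
  · have h := Tw.inv2_of_one D hC hz hα hβ
    rw [hcard, hinv] at h
    have e1 : 2 ^ (2 * (m + 1)) = 4 * 2 ^ (2 * m) := by ring
    have e2 : 2 ^ (m + 1) = 2 * 2 ^ m := by ring
    have e3 : 2 ^ (2 * m + 1) = 2 * 2 ^ (2 * m) := by ring
    rw [e1, e2]; rw [e3] at h
    generalize 2 ^ (2 * m) = A at *
    generalize 2 ^ m = a at *
    omega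

end Cfsg.Agent.Helper3.Extra
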