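import Mathlib
import Cfsg.Prelude.Def_Solvable
import Cfsg.Agent.Lead.FCDefs
import Cfsg.Agent.S0035
import Cfsg.Agent.S0039
import Cfsg.Agent.S0040

/-!
# S4291, PIECE FC-0a: Sylow subgroups of a group isomorphic to a Frobenius complement
-/

set_option autoImplicit false
set_option linter.style.haveILetI false

namespace Cfsg.Agent.Helper3.FC

open Cfsg.Agent.Lead.FC

/-- PIECE FC-0a: Sylow subgroups of (a group isomorphic to) a Frobenius complement. -/
theorem sylQ_of_frobenius_complement {G : Type*} [Group G] [Finite G]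
    (hFC : ∃ (L : Type) (_ : Group L) (_ : Finite L) (H : Subgroup L),
      Cfsg.IsFrobeniusComplement H ∧ Nonempty (G ≃* H)) : SylQ G := by
  obtain ⟨L, _, _, H, hH, ⟨e⟩⟩ := hFC
  obtain ⟨N, -, hNn, hc⟩ := Cfsg.Agent.S0035.result H hH
  haveI := hNn
  have hNne : N ≠ ⊥ := by
    intro hbot
    apply hH.2.1
    have h1 := hc.card_mul_card
    rw [hbot, Subgroup.card_bot, one_mul] at h1
    exact Subgroup.eq_top_of_card_eq H h1
  have hfpf := (Cfsg.Agent.S0039.result N H hc hNne hH.1).1 hH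
  intro p _ P
  obtain ⟨P', hP'⟩ : ∃ P' : Sylow p ↥H, (P' : Subgroup ↥H) = (P : Subgroup G).map e.toMonoidHom :=
    ⟨P.mapSurjective (f := e.toMonoidHom) e.surjective, Sylow.coe_mapSurjective _ P⟩
  have eP : ↥(P : Subgroup G) ≃* ↥(P' : Subgroup ↥H) :=
    (e.subgroupMap (P : Subgroup G)).trans (MulEquiv.subgroupCongr hP'.symm)
  rcases Cfsg.Agent.S0040.result N H hc hNne hfpf p P' with hcyc | ⟨n, ⟨f⟩⟩
  · left
    haveI := hcyc
    exact isCyclic_of_surjective eP.symm eP.symm.surjective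
  · right
    exact ⟨n, ⟨eP.trans f⟩⟩

end Cfsg.Agent.Helper3.FC
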