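import Mathlib
import Cfsg.Agent.Helper3.ZasOut
import Cfsg.Agent.Helper3.ZasG3c
import Cfsg.Agent.Helper4.L2pPSL
import Cfsg.Agent.Helper7.SL2Sylow

/-!
# S4291, PIECE FC-III, part A: a group `Λ ≃* SL(2,5)` and its action on its five Sylow 2-subgroups
-/

set_option autoImplicit false
set_option linter.style.haveILetI false

namespace Cfsg.Agent.Helper3.FC

/-- `SL(2,5)` -/
abbrev Sig := Matrix.SpecialLinearGroup (Fin 2) (ZMod 5)

instance fact5 : Fact (Nat.Prime 5) := ⟨by norm_num⟩

/-- the central involution of `SL(2,5)` -/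
def negOne : Sig := ⟨!![4, 0; 0, 4], by decide +kernel⟩

set_option maxRecDepth 100000 in
theorem sig_invol : ∀ A : Sig, A * A = 1 → A = 1 ∨ A = negOne := by
  decide +kernel

set_option maxRecDepth 100000 in
theorem sig_central : ∀ A : Sig, A * negOne = negOne * A := by
  decide +kernel

theorem negOne_sq : negOne * negOne = 1 := by decide +kernel

theorem negOne_ne_one : negOne ≠ 1 := by decide +kernel

theorem sig_card : Nat.card Sig = 120 := by
  show Nat.card (Matrix.SpecialLinearGroup (Fin 2) (ZMod 5)) = 120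
  rw [Cfsg.Agent.Helper7.SL2.card_SL2, ZMod.card]
  norm_num

theorem sig_perfect : commutator Sig = ⊤ :=
  Cfsg.Agent.Helper4.L2p.commutator_SL2_eq_top ⟨2, by decide, by decide⟩

section Lam

universe u

variable {Λ : Type u} [Group Λ] (e : Λ ≃* Sig)
include e

omit e in
/-- the central involution of `Λ` -/
def zL (e : Λ ≃* Sig) : Λ := e.symm negOne

theorem zL_sq : zL e * zL e = 1 := by
  unfold zL
  rw [← map_mul, negOne_sq, map_one]

theorem zL_ne_one : zL e ≠ 1 := by
  unfold zL
  intro h
  apply negOne_ne_one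
  have := congrArg e h
  rwa [e.apply_symm_apply, map_one] at this

theorem zL_central (x : Λ) : x * zL e = zL e * x := by
  apply e.injective
  unfold zL
  rw [map_mul, map_mul, e.apply_symm_apply]
  exact sig_central (e x)

theorem lam_invol {x : Λ} (hx : x * x = 1) : x = 1 ∨ x = zL e := by
  have h1 : e x * e x = 1 := by rw [← map_mul, hx, map_one]
  rcases sig_invol (e x) h1 with h | h
  · left
    apply e.injective
    rw [h, map_one]
  · right
    apply e.injective
    unfold zL
    rw [h, e.apply_symm_apply]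

theorem orderOf_zL : orderOf (zL e) = 2 :=
  orderOf_eq_prime (by rw [pow_two]; exact zL_sq e) (zL_ne_one e)

theorem lam_invol_unique (s t : Λ) (hs : orderOf s = 2) (ht : orderOf t = 2) : s = t := by
  have key : ∀ x : Λ, orderOf x = 2 → x = zL e := by
    intro x hx
    have h2 : x * x = 1 := by
      have := pow_orderOf_eq_one x
      rwa [hx, pow_two] at this
    rcases lam_invol e h2 with h | h
    · rw [h, orderOf_one] at hx
      omega
    · exact h
  rw [key s hs, key t ht]

theorem lam_card : Nat.card Λ = 120 := by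
  rw [Nat.card_congr e.toEquiv, sig_card]

theorem lam_finite : Finite Λ :=
  Nat.finite_of_card_ne_zero (by rw [lam_card e]; norm_num)

theorem lam_perfect : commutator Λ = ⊤ := by
  have h1 : (commutator Sig).map e.symm.toMonoidHom = commutator Λ := by
    rw [commutator_def, commutator_def, Subgroup.map_commutator,
      Subgroup.map_top_of_surjective _ e.symm.surjective]
  rw [← h1, sig_perfect, Subgroup.map_top_of_surjective _ e.symm.surjective]

theorem lam_card_sylow : Nat.card (Sylow 2 Λ) = 5 := by
  haveI := lam_finite e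
  exact Cfsg.Agent.Helper3.ZasOut.card_sylow_two (lam_card e) (lam_perfect e)

/-- the kernel of the action of `Λ` on its Sylow 2-subgroups is `{1, z}` -/
theorem lam_mem_ker (x : Λ) :
    x ∈ (MulAction.toPermHom Λ (Sylow 2 Λ)).ker ↔ x = 1 ∨ x = zL e := by
  haveI := lam_finite e
  haveI : Fact (Nat.Prime 2) := ⟨Nat.prime_two⟩
  have hz : zL e ∈ (MulAction.toPermHom Λ (Sylow 2 Λ)).ker := by
    rw [MonoidHom.mem_ker]
    ext P : 1
    show zL e • P = P
    rw [Sylow.smul_def]
    have : MulAut.conj (zL e) = 1 := by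
      ext y
      rw [MulAut.conj_apply, ← zL_central e y, mul_inv_cancel_right, MulAut.one_apply]
    rw [this, one_smul]
  have hne_top := Cfsg.Agent.Helper3.ZasOut.ker_toPermHom_ne_top (Λ := Λ)
    (by rw [lam_card_sylow e]; norm_num)
  have hne_bot : (MulAction.toPermHom Λ (Sylow 2 Λ)).ker ≠ ⊥ := by
    intro h
    rw [h, Subgroup.mem_bot] at hz
    exact zL_ne_one e hz
  have hcard := Cfsg.Agent.Helper3.ZasOut.card_normal_eq_two (lam_card e) (lam_perfect e)
    (MulAction.toPermHom Λ (Sylow 2 Λ)).ker hne_bot hne_top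
  exact Cfsg.Agent.Helper3.ZasG.mem_iff_of_card_two (lam_invol_unique e) (orderOf_zL e) _ hcard x

end Lam

set_option maxRecDepth 100000 in
/-- an element of order 4 of `S₅` is odd -/
theorem perm5_sign_of_order_four : ∀ σ : Equiv.Perm (Fin 5), σ ^ 4 = 1 → σ ^ 2 ≠ 1 →
    Equiv.Perm.sign σ ≠ 1 := by
  decide +kernel

theorem perm5_odd_of_order_four (σ : Equiv.Perm (Fin 5)) (h4 : σ ^ 4 = 1) (h2 : σ ^ 2 ≠ 1) :
    σ ∉ alternatingGroup (Fin 5) := by
  rw [Equiv.Perm.mem_alternatingGroup]
  exact perm5_sign_of_order_four σ h4 h2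

theorem card_alt5' : Nat.card (alternatingGroup (Fin 5)) = 60 := by
  have h := two_mul_card_alternatingGroup (α := Fin 5)
  rw [Fintype.card_perm, Fintype.card_fin] at h
  rw [Nat.card_eq_fintype_card]
  have : Nat.factorial 5 = 120 := rfl
  omega

end Cfsg.Agent.Helper3.FC
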