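import Mathlib
import Cfsg.Agent.Helper3.FC3A
import Cfsg.Agent.Helper1.Card

/-!
# S4291, PIECE FC-III, part B: the structure `G₀ = S × M ⊴ G`, `S ≃ SL(2,5)`, `|M|` prime to 30
-/

set_option autoImplicit false
set_option linter.style.haveILetI false
set_option linter.unusedSectionVars false

namespace Cfsg.Agent.Helper3.FC

universe u

variable {G : Type u} [Group G] [Finite G]

/-- the structural hypotheses -/
structure Str (G₀ S M : Subgroup G) (e : ↥S ≃* Sig) : Prop where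
  hn : G₀.Normal
  hsup : S ⊔ M = G₀
  hinf : S ⊓ M = ⊥
  hcomm : ∀ s ∈ S, ∀ x ∈ M, s * x = x * s
  hcop : (Nat.card M).Coprime 30

namespace Str

variable {G₀ S M : Subgroup G} {e : ↥S ≃* Sig}

theorem card_S (_h : Str G₀ S M e) : Nat.card ↥S = 120 := lam_card e

theorem cop120 (h : Str G₀ S M e) : (Nat.card M).Coprime 120 := by
  have h30 := h.hcop
  have h2 : (Nat.card M).Coprime 2 := Nat.Coprime.coprime_dvd_right (by norm_num) h30
  have : (120 : ℕ) = 2 * (2 * 30) := by norm_num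
  rw [this]
  exact Nat.Coprime.mul_right h2 (Nat.Coprime.mul_right h2 h30)

theorem odd_M (h : Str G₀ S M e) : ¬ 2 ∣ Nat.card M := by
  intro h2
  have h1 : (Nat.card M).Coprime 2 := Nat.Coprime.coprime_dvd_right (by norm_num) h.hcop
  have := Nat.Coprime.eq_one_of_dvd h1.symm h2
  omega

theorem S_le (h : Str G₀ S M e) : S ≤ G₀ := h.hsup ▸ le_sup_left

theorem M_le (h : Str G₀ S M e) : M ≤ G₀ := h.hsup ▸ le_sup_right

theorem exists_mul (h : Str G₀ S M e) {x : G} (hx : x ∈ G₀) : ∃ s ∈ S, ∃ m ∈ M, x = s * m := by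
  rw [← h.hsup, Subgroup.sup_eq_closure] at hx
  refine Subgroup.closure_induction (p := fun x _ => ∃ s ∈ S, ∃ m ∈ M, x = s * m) ?_ ?_ ?_ ?_ hx
  · intro y hy
    rcases hy with hy | hy
    · exact ⟨y, hy, 1, M.one_mem, (mul_one y).symm⟩
    · exact ⟨1, S.one_mem, y, hy, (one_mul y).symm⟩
  · exact ⟨1, S.one_mem, 1, M.one_mem, (mul_one 1).symm⟩
  · rintro _ _ _ _ ⟨s, hs, m, hm, rfl⟩ ⟨s', hs', m', hm', rfl⟩
    refine ⟨s * s', S.mul_mem hs hs', m * m', M.mul_mem hm hm', ?_⟩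
    have := h.hcomm s' hs' m hm
    calc s * m * (s' * m') = s * (m * s') * m' := by group
      _ = s * (s' * m) * m' := by rw [this]
      _ = s * s' * (m * m') := by group
  · rintro _ _ ⟨s, hs, m, hm, rfl⟩
    refine ⟨s⁻¹, S.inv_mem hs, m⁻¹, M.inv_mem hm, ?_⟩
    have := h.hcomm s hs m hm
    rw [mul_inv_rev]
    have h2 : Commute s⁻¹ m⁻¹ := (show Commute s m from this).inv_inv
    exact h2.eq.symm

theorem pow_card_M {m : G} (hm : m ∈ M) : m ^ Nat.card M = 1 := by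
  have h1 := pow_card_eq_one' (G := ↥M) (x := ⟨m, hm⟩)
  have h2 := congrArg Subtype.val h1
  rwa [Subgroup.coe_pow, Subgroup.coe_one] at h2

theorem pow_S (h : Str G₀ S M e) {s : G} (hs : s ∈ S) : s ^ 120 = 1 := by
  have h1 := pow_card_eq_one' (G := ↥S) (x := ⟨s, hs⟩)
  rw [h.card_S] at h1
  have h2 := congrArg Subtype.val h1
  rwa [Subgroup.coe_pow, Subgroup.coe_one] at h2

theorem mul_pow' (h : Str G₀ S M e) {s m : G} (hs : s ∈ S) (hm : m ∈ M) (k : ℕ) :
    (s * m) ^ k = s ^ k * m ^ k :=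
  (show Commute s m from h.hcomm s hs m hm).mul_pow k

theorem eq_one_of_mem_inf (h : Str G₀ S M e) {x : G} (hs : x ∈ S) (hm : x ∈ M) : x = 1 := by
  have : x ∈ S ⊓ M := Subgroup.mem_inf.mpr ⟨hs, hm⟩
  rwa [h.hinf, Subgroup.mem_bot] at this

theorem eq_one_of_pow_S (h : Str G₀ S M e) {s : G} (hs : s ∈ S) (hp : s ^ Nat.card M = 1) :
    s = 1 := by
  have h1 : orderOf s ∣ Nat.card M := orderOf_dvd_of_pow_eq_one hp
  have h2 : orderOf s ∣ 120 := orderOf_dvd_of_pow_eq_one (h.pow_S hs)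
  have h3 : orderOf s ∣ Nat.gcd (Nat.card M) 120 := Nat.dvd_gcd h1 h2
  rw [h.cop120] at h3
  exact orderOf_eq_one_iff.1 (Nat.dvd_one.1 h3)

theorem eq_one_of_pow_M (h : Str G₀ S M e) {m : G} (hm : m ∈ M) (hp : m ^ 120 = 1) : m = 1 := by
  have h1 : orderOf m ∣ Nat.card M := orderOf_dvd_of_pow_eq_one (pow_card_M hm)
  have h2 : orderOf m ∣ 120 := orderOf_dvd_of_pow_eq_one hp
  have h3 : orderOf m ∣ Nat.gcd (Nat.card M) 120 := Nat.dvd_gcd h1 h2
  rw [h.cop120] at h3
  exact orderOf_eq_one_iff.1 (Nat.dvd_one.1 h3)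

theorem mem_M_of_pow (h : Str G₀ S M e) {x : G} (hx : x ∈ G₀) (hp : x ^ Nat.card M = 1) :
    x ∈ M := by
  obtain ⟨s, hs, m, hm, rfl⟩ := h.exists_mul hx
  rw [h.mul_pow' hs hm, pow_card_M hm, mul_one] at hp
  rw [h.eq_one_of_pow_S hs hp, one_mul]
  exact hm

theorem mem_S_of_pow (h : Str G₀ S M e) {x : G} (hx : x ∈ G₀) (hp : x ^ 120 = 1) : x ∈ S := by
  obtain ⟨s, hs, m, hm, rfl⟩ := h.exists_mul hx
  rw [h.mul_pow' hs hm, h.pow_S hs, one_mul] at hp
  rw [h.eq_one_of_pow_M hm hp, mul_one]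
  exact hs

theorem M_normal (h : Str G₀ S M e) : M.Normal := by
  constructor
  intro m hm g
  apply h.mem_M_of_pow (h.hn.conj_mem m (h.M_le hm) g)
  rw [conj_pow, pow_card_M hm, mul_one, mul_inv_cancel]

theorem S_normal (h : Str G₀ S M e) : S.Normal := by
  constructor
  intro s hs g
  apply h.mem_S_of_pow (h.hn.conj_mem s (h.S_le hs) g)
  rw [conj_pow, h.pow_S hs, mul_one, mul_inv_cancel]

/-- the involution -/
def z (_h : Str G₀ S M e) : G := ((zL e : ↥S) : G)

theorem z_mem (h : Str G₀ S M e) : h.z ∈ S := (zL e : ↥S).2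

theorem z_sq (h : Str G₀ S M e) : h.z * h.z = 1 := by
  have := congrArg Subtype.val (zL_sq e)
  simpa [z] using this

theorem z_ne_one (h : Str G₀ S M e) : h.z ≠ 1 := by
  intro h1
  apply zL_ne_one e
  exact Subtype.ext h1

theorem orderOf_z (h : Str G₀ S M e) : orderOf h.z = 2 :=
  orderOf_eq_prime (by rw [pow_two]; exact h.z_sq) h.z_ne_one

/-- `z` is the only involution of `G₀` -/
theorem invol (h : Str G₀ S M e) {x : G} (hx : x ∈ G₀) (hxx : x * x = 1) : x = 1 ∨ x = h.z := by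
  have hp : x ^ 120 = 1 := by
    have : x ^ 120 = (x * x) ^ 60 := by rw [← pow_two, ← pow_mul]
    rw [this, hxx, one_pow]
  have hs := h.mem_S_of_pow hx hp
  have h1 : (⟨x, hs⟩ : ↥S) * ⟨x, hs⟩ = 1 := Subtype.ext hxx
  rcases lam_invol e h1 with h2 | h2
  · left
    exact congrArg Subtype.val h2
  · right
    exact congrArg Subtype.val h2

theorem z_central (h : Str G₀ S M e) (g : G) : g * h.z = h.z * g := by
  have h1 : g * h.z * g⁻¹ ∈ G₀ := h.hn.conj_mem _ (h.S_le h.z_mem) g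
  have h2 : (g * h.z * g⁻¹) * (g * h.z * g⁻¹) = 1 := by
    calc (g * h.z * g⁻¹) * (g * h.z * g⁻¹) = g * (h.z * h.z) * g⁻¹ := by group
      _ = 1 := by rw [h.z_sq]; group
  rcases h.invol h1 h2 with h3 | h3
  · exfalso
    apply h.z_ne_one
    calc h.z = g⁻¹ * (g * h.z * g⁻¹) * g := by group
      _ = 1 := by rw [h3]; group
  · calc g * h.z = (g * h.z * g⁻¹) * g := by group
      _ = h.z * g := by rw [h3]

/-- the normal subgroup `N = ⟨z⟩ M` -/
def N (h : Str G₀ S M e) : Subgroup G := Subgroup.zpowers h.z ⊔ M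

theorem zpowers_normal (h : Str G₀ S M e) : (Subgroup.zpowers h.z).Normal := by
  constructor
  intro x hx g
  obtain ⟨k, rfl⟩ := Subgroup.mem_zpowers_iff.1 hx
  have hc : Commute g h.z := h.z_central g
  have : g * h.z ^ k * g⁻¹ = h.z ^ k := by
    rw [(hc.zpow_right k).eq, mul_inv_cancel_right]
  rw [this]
  exact Subgroup.zpow_mem_zpowers _ _

theorem N_normal (h : Str G₀ S M e) : h.N.Normal := by
  haveI := h.zpowers_normal
  haveI := h.M_normal
  unfold N
  infer_instance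

theorem zpowers_le_S (h : Str G₀ S M e) : Subgroup.zpowers h.z ≤ S := by
  rw [Subgroup.zpowers_le]; exact h.z_mem

theorem N_le (h : Str G₀ S M e) : h.N ≤ G₀ :=
  sup_le (h.zpowers_le_S.trans h.S_le) h.M_le

theorem M_le_N (h : Str G₀ S M e) : M ≤ h.N := le_sup_right

theorem z_mem_N (h : Str G₀ S M e) : h.z ∈ h.N :=
  (le_sup_left : Subgroup.zpowers h.z ≤ h.N) (Subgroup.mem_zpowers _)

theorem card_N (h : Str G₀ S M e) : Nat.card h.N = 2 * Nat.card M := by
  haveI := h.M_normal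
  have h1 := Cfsg.Agent.Helper1.card_sup_mul_card_inf (N := M) (A := Subgroup.zpowers h.z)
    (by rw [Subgroup.normalizer_eq_top]; exact le_top)
  have h2 : M ⊓ Subgroup.zpowers h.z = ⊥ := by
    rw [eq_bot_iff, ← h.hinf]
    exact le_inf (inf_le_right.trans h.zpowers_le_S) inf_le_left
  rw [h2, Subgroup.card_bot, mul_one, Nat.card_zpowers, h.orderOf_z, sup_comm] at h1
  unfold N
  rw [h1, mul_comm]

theorem card_G₀ (h : Str G₀ S M e) : Nat.card G₀ = 120 * Nat.card M := by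
  haveI := h.M_normal
  have h1 := Cfsg.Agent.Helper1.card_sup_mul_card_inf (N := M) (A := S)
    (by rw [Subgroup.normalizer_eq_top]; exact le_top)
  rw [inf_comm, h.hinf, Subgroup.card_bot, mul_one, sup_comm, h.hsup, h.card_S] at h1
  rw [h1, mul_comm]

/-- elements of `N` -/
theorem mem_N_of (h : Str G₀ S M e) {s m : G} (hs : s = 1 ∨ s = h.z) (hm : m ∈ M) :
    s * m ∈ h.N := by
  rcases hs with rfl | rfl
  · rw [one_mul]; exact h.M_le_N hm
  · exact h.N.mul_mem h.z_mem_N (h.M_le_N hm)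

end Str

end Cfsg.Agent.Helper3.FC
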