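import Mathlib
import Cfsg.Agent.Lead.FCDefs
import Cfsg.Agent.Helper3.FC3B

/-!
# S4291, PIECE FC-III, part C: the action of `G` on the five Sylow 2-subgroups of `S`, and the result
-/

set_option autoImplicit false
set_option linter.style.haveILetI false
set_option linter.unusedSectionVars false

namespace Cfsg.Agent.Helper3.FC

open Cfsg.Agent.Lead.FC

universe u

variable {G : Type u} [Group G] [Finite G]

namespace Str

variable {G₀ S M : Subgroup G} {e : ↥S ≃* Sig}

/-- the action of `G` on the Sylow 2-subgroups of `S` -/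
noncomputable def phi (h : Str G₀ S M e) : G →* Equiv.Perm (Sylow 2 ↥S) :=
  (MulAction.toPermHom (MulAut ↥S) (Sylow 2 ↥S)).comp
    (@MulAut.conjNormal G _ S h.S_normal)

theorem phi_apply (h : Str G₀ S M e) (g : G) (P : Sylow 2 ↥S) :
    h.phi g P = (@MulAut.conjNormal G _ S h.S_normal g) • P := rfl

theorem phi_of_mem_S (h : Str G₀ S M e) {s : G} (hs : s ∈ S) :
    h.phi s = MulAction.toPermHom ↥S (Sylow 2 ↥S) ⟨s, hs⟩ := by
  haveI := h.S_normal
  ext P : 1
  rw [phi_apply]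
  have h1 : (MulAut.conjNormal (H := S) s) = MulAut.conj (⟨s, hs⟩ : ↥S) :=
    MulAut.conjNormal_val (h := (⟨s, hs⟩ : ↥S))
  rw [h1]
  rfl

theorem phi_of_mem_M (h : Str G₀ S M e) {m : G} (hm : m ∈ M) : h.phi m = 1 := by
  haveI := h.S_normal
  ext P : 1
  rw [phi_apply]
  have h1 : (MulAut.conjNormal (H := S) m) = 1 := by
    ext y
    rw [MulAut.conjNormal_apply, MulAut.one_apply]
    have := h.hcomm y y.2 m hm
    rw [← this, mul_inv_cancel_right]
  rw [h1, one_smul]
  rfl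

theorem phi_z (h : Str G₀ S M e) : h.phi h.z = 1 := by
  rw [h.phi_of_mem_S h.z_mem, ← MonoidHom.mem_ker]
  have : (⟨h.z, h.z_mem⟩ : ↥S) = zL e := rfl
  rw [this, lam_mem_ker e]
  right; rfl

theorem N_le_ker (h : Str G₀ S M e) : h.N ≤ h.phi.ker := by
  apply sup_le
  · rw [Subgroup.zpowers_le, MonoidHom.mem_ker]
    exact h.phi_z
  · intro m hm
    rw [MonoidHom.mem_ker]
    exact h.phi_of_mem_M hm

theorem mem_N_of_phi_eq_one (h : Str G₀ S M e) {x : G} (hx : x ∈ G₀) (hphi : h.phi x = 1) :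
    x ∈ h.N := by
  obtain ⟨s, hs, m, hm, rfl⟩ := h.exists_mul hx
  rw [map_mul, h.phi_of_mem_M hm, mul_one, h.phi_of_mem_S hs, ← MonoidHom.mem_ker,
    lam_mem_ker e] at hphi
  apply h.mem_N_of _ hm
  rcases hphi with h1 | h1
  · left
    exact congrArg Subtype.val h1
  · right
    exact congrArg Subtype.val h1

/-- the action on `Fin 5` -/
noncomputable def phi5 (h : Str G₀ S M e) : G →* Equiv.Perm (Fin 5) :=
  (Finite.equivFinOfCardEq (lam_card_sylow e)).permCongrHom.toMonoidHom.comp h.phi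

theorem phi5_eq_one_iff (h : Str G₀ S M e) (x : G) : h.phi5 x = 1 ↔ h.phi x = 1 := by
  unfold phi5
  rw [MonoidHom.comp_apply]
  constructor
  · intro h1
    apply (Finite.equivFinOfCardEq (lam_card_sylow e)).permCongrHom.injective
    rw [map_one]
    exact h1
  · intro h1
    rw [h1, map_one]

theorem ker_phi5 (h : Str G₀ S M e) : h.phi5.ker = h.phi.ker := by
  ext x
  rw [MonoidHom.mem_ker, MonoidHom.mem_ker, h.phi5_eq_one_iff]

theorem phi5_mem_alt (h : Str G₀ S M e) {x : G} (hx : x ∈ G₀) :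
    h.phi5 x ∈ alternatingGroup (Fin 5) := by
  obtain ⟨s, hs, m, hm, rfl⟩ := h.exists_mul hx
  have hm1 : h.phi5 m = 1 := (h.phi5_eq_one_iff m).2 (h.phi_of_mem_M hm)
  rw [map_mul, hm1, mul_one, Equiv.Perm.mem_alternatingGroup]
  have h1 : commutator ↥S ≤ ((Equiv.Perm.sign).comp (h.phi5.comp S.subtype)).ker :=
    Abelianization.commutator_subset_ker _
  rw [lam_perfect e] at h1
  have h2 := h1 (Subgroup.mem_top (⟨s, hs⟩ : ↥S))
  rw [MonoidHom.mem_ker] at h2
  exact h2

end Str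

/-- Sylow subgroups of `N` -/
theorem sylow_cyclic_of_str (hQ : SylQ G) {G₀ S M : Subgroup G} {e : ↥S ≃* Sig}
    (h : Str G₀ S M e) (p : ℕ) [hp : Fact p.Prime] (P : Sylow p ↥h.N) :
    IsCyclic ↥(P : Subgroup ↥h.N) := by
  by_cases hp2 : p = 2
  · subst hp2
    have h1 := P.card_eq_multiplicity
    have hM0 : Nat.card ↥M ≠ 0 := Nat.card_pos.ne'
    rw [h.card_N, Nat.factorization_mul two_ne_zero hM0, Finsupp.add_apply,
      Nat.Prime.factorization_self Nat.prime_two,
      Nat.factorization_eq_zero_of_not_dvd h.odd_M, add_zero, pow_one] at h1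
    exact isCyclic_of_prime_card h1
  · have hP₁ : IsPGroup p ↥((P : Subgroup ↥h.N).map h.N.subtype) := P.isPGroup'.map _
    obtain ⟨Q, hQle⟩ := hP₁.exists_le_sylow
    have e1 : ↥(P : Subgroup ↥h.N) ≃* ↥((P : Subgroup ↥h.N).map h.N.subtype) :=
      Subgroup.equivMapOfInjective _ _ (Subgroup.subtype_injective _)
    have e2 : ↥(((P : Subgroup ↥h.N).map h.N.subtype).subgroupOf (Q : Subgroup G)) ≃*
        ↥((P : Subgroup ↥h.N).map h.N.subtype) := Subgroup.subgroupOfEquivOfLe hQle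
    rcases hQ p Q with hc | ⟨n, ⟨f⟩⟩
    · haveI := hc
      haveI : IsCyclic ↥(((P : Subgroup ↥h.N).map h.N.subtype).subgroupOf (Q : Subgroup G)) :=
        Subgroup.isCyclic _
      exact isCyclic_of_surjective (e2.trans e1.symm) (e2.trans e1.symm).surjective
    · exfalso
      obtain ⟨k, hk⟩ := IsPGroup.iff_card.1 Q.isPGroup'
      have h1 : Nat.card ↥(Q : Subgroup G) = 4 * 2 ^ n := by
        rw [Nat.card_congr f.toEquiv, Nat.card_eq_fintype_card, QuaternionGroup.card]
      rw [h1] at hk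
      have h2 : 2 ∣ p ^ k := by rw [← hk]; exact ⟨2 * 2 ^ n, by ring⟩
      have h3 := Nat.Prime.dvd_of_dvd_pow Nat.prime_two h2
      exact hp2 ((Nat.prime_dvd_prime_iff_eq Nat.prime_two hp.out).1 h3).symm

end Cfsg.Agent.Helper3.FC
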