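import Mathlib
import Cfsg.Agent.Lead.FCDefs
import Cfsg.Agent.Helper3.FC3C

/-!
# S4291, PIECE FC-III: the non-solvable case, from the conclusion of S3359
-/

set_option autoImplicit false
set_option linter.style.haveILetI false
set_option linter.unusedSectionVars false

namespace Cfsg.Agent.Helper3.FC

open Cfsg.Agent.Lead.FC

universe u

variable {G : Type u} [Group G] [Finite G]

/-- an element of order 8 in a group whose order is divisible by 16 and whose Sylow 2-subgroups are
cyclic or generalized quaternion -/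
theorem exists_orderOf_eight (hQ : SylQ G) (h16 : 2 ^ 4 ∣ Nat.card G) : ∃ t : G, orderOf t = 8 := by
  haveI : Fact (Nat.Prime 2) := ⟨Nat.prime_two⟩
  obtain ⟨P⟩ : Nonempty (Sylow 2 G) := inferInstance
  have h16P : 2 ^ 4 ∣ Nat.card ↥(P : Subgroup G) := P.pow_dvd_card_of_pow_dvd_card h16
  have key : ∃ g : G, 8 ∣ orderOf g := by
    rcases hQ 2 P with hc | ⟨n, ⟨f⟩⟩
    · obtain ⟨g, hg⟩ := hc.exists_generator
      have h1 : orderOf g = Nat.card ↥(P : Subgroup G) := orderOf_eq_card_of_forall_mem_zpowers hg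
      refine ⟨(g : G), ?_⟩
      rw [Subgroup.orderOf_coe, h1]
      exact Dvd.dvd.trans ⟨2, by norm_num⟩ h16P
    · have h1 : Nat.card ↥(P : Subgroup G) = 4 * 2 ^ n := by
        rw [Nat.card_congr f.toEquiv, Nat.card_eq_fintype_card, QuaternionGroup.card]
      rw [h1] at h16P
      have h4 : 4 ∣ 2 ^ n := by
        obtain ⟨c, hc⟩ := h16P
        exact ⟨c, by omega⟩
      refine ⟨((f.symm (QuaternionGroup.a 1) : ↥(P : Subgroup G)) : G), ?_⟩
      rw [Subgroup.orderOf_coe, MulEquiv.orderOf_eq, QuaternionGroup.orderOf_a_one]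
      obtain ⟨c, hc⟩ := h4
      exact ⟨c, by omega⟩
  obtain ⟨g, hg⟩ := key
  have hpos : 0 < orderOf g := orderOf_pos g
  have h8 : 8 ≤ orderOf g := Nat.le_of_dvd hpos hg
  refine ⟨g ^ (orderOf g / 8), ?_⟩
  rw [orderOf_pow_of_dvd (by omega) (Nat.div_dvd_of_dvd hg)]
  exact Nat.div_div_self hg (by omega)

/-- PIECE FC-III: the non-solvable case, from the conclusion of S3359. -/
theorem exists_good_of_structure {G : Type*} [Group G] [Finite G] (hQ : SylQ G)
    (h : ∃ G₀ : Subgroup G, G₀.Normal ∧ (G₀.index = 1 ∨ G₀.index = 2) ∧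
      ∃ S M : Subgroup G, S ⊔ M = G₀ ∧ S ⊓ M = ⊥ ∧ (∀ s ∈ S, ∀ x ∈ M, s * x = x * s) ∧
        Nonempty (S ≃* Matrix.SpecialLinearGroup (Fin 2) (ZMod 5)) ∧
        (∀ (p : ℕ) [Fact p.Prime] (P : Sylow p M), IsCyclic P) ∧ (Nat.card M).Coprime 30) :
    ∃ N : Subgroup G, Good N := by
  obtain ⟨G₀, hn, hidx, S, M, hsup, hinf, hcomm, ⟨e⟩, -, hcop⟩ := h
  have hs : Str G₀ S M e := ⟨hn, hsup, hinf, hcomm, hcop⟩
  refine ⟨hs.N, hs.N_normal, fun p _ P => sylow_cyclic_of_str hQ hs p P, ?_⟩
  have hker_iff : ∀ x ∈ G₀, (hs.phi5 x = 1 ↔ x ∈ hs.N) := by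
    intro x hx
    rw [hs.phi5_eq_one_iff]
    constructor
    · exact hs.mem_N_of_phi_eq_one hx
    · intro hxN
      exact MonoidHom.mem_ker.1 (hs.N_le_ker hxN)
  have hNker : hs.N ≤ hs.phi5.ker := by rw [hs.ker_phi5]; exact hs.N_le_ker
  have hNpos : 0 < Nat.card ↥hs.N := Nat.card_pos
  have hcardG₀ : Nat.card ↥G₀ = 60 * Nat.card ↥hs.N := by
    rw [hs.card_G₀, hs.card_N]; ring
  rcases hidx with h1 | h2
  · -- `G = G₀`
    have htop : G₀ = ⊤ := Subgroup.index_eq_one.1 h1
    have hall : ∀ g : G, g ∈ G₀ := fun g => htop ▸ Subgroup.mem_top g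
    right; right; right; right; left
    obtain ⟨f, hf⟩ : ∃ f : G →* alternatingGroup (Fin 5), ∀ g, ((f g : alternatingGroup (Fin 5)) :
        Equiv.Perm (Fin 5)) = hs.phi5 g :=
      ⟨hs.phi5.codRestrict (alternatingGroup (Fin 5)) (fun g => hs.phi5_mem_alt (hall g)),
        fun g => rfl⟩
    have hkerf : f.ker = hs.N := by
      ext x
      rw [MonoidHom.mem_ker, ← hker_iff x (hall x), ← hf x]
      constructor
      · intro hx; rw [hx]; rfl
      · intro hx; exact Subtype.ext hx
    refine ⟨f, ?_, hkerf⟩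
    rw [← MonoidHom.range_eq_top]
    apply Subgroup.eq_top_of_card_eq
    have h3 := Subgroup.card_mul_index f.ker
    rw [Subgroup.index_ker, hkerf] at h3
    have h4 : Nat.card G = Nat.card ↥G₀ := by rw [htop, Subgroup.card_top]
    rw [h4, hcardG₀] at h3
    rw [Cfsg.Agent.Helper3.FC.card_alt5']
    have : Nat.card ↥hs.N * Nat.card ↥f.range = Nat.card ↥hs.N * 60 := by rw [h3]; ring
    exact Nat.eq_of_mul_eq_mul_left hNpos this
  · -- `|G : G₀| = 2`
    right; right; right; right; right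
    have hcardG : Nat.card G = 120 * Nat.card ↥hs.N := by
      have := Subgroup.index_mul_card G₀
      rw [h2, hcardG₀] at this
      rw [← this]; ring
    have h16 : 2 ^ 4 ∣ Nat.card G := by
      rw [hcardG, hs.card_N]
      exact ⟨15 * Nat.card ↥M, by ring⟩
    obtain ⟨t, ht⟩ := exists_orderOf_eight hQ h16
    have ht2 : t * t ∈ G₀ := (Subgroup.mul_mem_iff_of_index_two h2).2 Iff.rfl
    have hnot : hs.phi5 t ∉ alternatingGroup (Fin 5) := by
      apply perm5_odd_of_order_four
      · -- `σ ^ 4 = 1`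
        rw [← map_pow]
        have h4G₀ : t ^ 4 ∈ G₀ := by
          have : t ^ 4 = (t * t) * (t * t) := by
            rw [← pow_two, ← pow_two, ← pow_mul]
          rw [this]; exact G₀.mul_mem ht2 ht2
        have h4sq : t ^ 4 * t ^ 4 = 1 := by
          rw [← pow_add]
          have : (4 + 4 : ℕ) = orderOf t := by rw [ht]
          rw [this]; exact pow_orderOf_eq_one t
        have h4ne : t ^ 4 ≠ 1 := pow_ne_one_of_lt_orderOf (by norm_num) (by rw [ht]; norm_num)
        rcases hs.invol h4G₀ h4sq with h5 | h5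
        · exact absurd h5 h4ne
        · rw [h5]
          exact MonoidHom.mem_ker.1 (hNker hs.z_mem_N)
      · -- `σ ^ 2 ≠ 1`
        rw [← map_pow, pow_two]
        intro h5
        have h6 : t * t ∈ hs.N := (hker_iff _ ht2).1 h5
        have h7 : orderOf (t * t) = 4 := by
          rw [← pow_two, orderOf_pow_of_dvd (by norm_num) (by rw [ht]; norm_num), ht]
        have h8 : orderOf (t * t) ∣ Nat.card ↥hs.N := by
          have := orderOf_dvd_natCard (⟨t * t, h6⟩ : ↥hs.N)
          rwa [Subgroup.orderOf_mk] at this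
        rw [h7, hs.card_N] at h8
        apply hs.odd_M
        obtain ⟨c, hc⟩ := h8
        exact ⟨c, by omega⟩
    have hKle : hs.phi5.ker ≤ G₀ := by
      intro k hk
      by_contra hkG
      apply hnot
      by_cases htG : t ∈ G₀
      · exact hs.phi5_mem_alt htG
      · have h5 : t * k ∈ G₀ :=
          (Subgroup.mul_mem_iff_of_index_two h2).2 ⟨fun h => absurd h htG, fun h => absurd h hkG⟩
        have h6 := hs.phi5_mem_alt h5
        rwa [map_mul, MonoidHom.mem_ker.1 hk, mul_one] at h6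
    have hker : hs.phi5.ker = hs.N := by
      apply le_antisymm _ hNker
      intro x hx
      exact (hker_iff x (hKle hx)).1 (MonoidHom.mem_ker.1 hx)
    refine ⟨hs.phi5, ?_, hker⟩
    rw [← MonoidHom.range_eq_top]
    apply Subgroup.eq_top_of_card_eq
    have h3 := Subgroup.card_mul_index hs.phi5.ker
    rw [Subgroup.index_ker, hker, hcardG] at h3
    have h5 : Nat.card (Equiv.Perm (Fin 5)) = 120 := by
      rw [Nat.card_perm, Nat.card_fin]; rfl
    rw [h5]
    have : Nat.card ↥hs.N * Nat.card ↥hs.phi5.range = Nat.card ↥hs.N * 120 := by rw [h3]; ring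
    exact Nat.eq_of_mul_eq_mul_left hNpos this

end Cfsg.Agent.Helper3.FC
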