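import Mathlib
import Cfsg.Agent.Helper3.CycBound

/-! Helper data (helper3): explicit large Zsigmondy primes for the finitely many small cases of Feit's theorem. -/

set_option autoImplicit false

namespace Cfsg.Agent.Helper3.CycBound

/-- `(q, n)` has a large Zsigmondy prime. -/
def FeitOK (q n : ℕ) : Prop :=
  ∃ p : ℕ, p.Prime ∧ p ∣ q ^ n - 1 ∧ (∀ i : ℕ, 1 ≤ i → i < n → ¬ p ∣ q ^ i - 1) ∧
    (n + 1 < p ∨ p ^ 2 ∣ q ^ n - 1)

theorem feit_check (q n p : ℕ) (hp : p.Prime)
    (h : (q ^ n - 1) % p = 0 ∧ (∀ i < n, 1 ≤ i → (q ^ i - 1) % p ≠ 0) ∧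
      (n + 1 < p ∨ (q ^ n - 1) % p ^ 2 = 0)) : FeitOK q n := by
  obtain ⟨h1, h2, h3⟩ := h
  refine ⟨p, hp, Nat.dvd_of_mod_eq_zero h1, ?_, ?_⟩
  · intro i hi1 hin hdvd
    exact h2 i hin hi1 (Nat.mod_eq_zero_of_dvd hdvd)
  · rcases h3 with h3 | h3
    · exact Or.inl h3
    · exact Or.inr (Nat.dvd_of_mod_eq_zero h3)

theorem feit_2_3 : FeitOK 2 3 := feit_check 2 3 7 (by norm_num) (by decide +kernel)
theorem feit_2_5 : FeitOK 2 5 := feit_check 2 5 31 (by norm_num) (by decide +kernel)
theorem feit_2_7 : FeitOK 2 7 := feit_check 2 7 127 (by norm_num) (by decide +kernel)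
theorem feit_2_8 : FeitOK 2 8 := feit_check 2 8 17 (by norm_num) (by decide +kernel)
theorem feit_2_9 : FeitOK 2 9 := feit_check 2 9 73 (by norm_num) (by decide +kernel)
theorem feit_2_11 : FeitOK 2 11 := feit_check 2 11 23 (by norm_num) (by decide +kernel)
theorem feit_2_13 : FeitOK 2 13 := feit_check 2 13 8191 (by norm_num) (by decide +kernel)
theorem feit_2_14 : FeitOK 2 14 := feit_check 2 14 43 (by norm_num) (by decide +kernel)
theorem feit_2_15 : FeitOK 2 15 := feit_check 2 15 151 (by norm_num) (by decide +kernel)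
theorem feit_2_16 : FeitOK 2 16 := feit_check 2 16 257 (by norm_num) (by decide +kernel)
theorem feit_2_17 : FeitOK 2 17 := feit_check 2 17 131071 (by norm_num) (by decide +kernel)
theorem feit_2_19 : FeitOK 2 19 := feit_check 2 19 524287 (by norm_num) (by decide +kernel)
theorem feit_2_20 : FeitOK 2 20 := feit_check 2 20 41 (by norm_num) (by decide +kernel)
theorem feit_2_21 : FeitOK 2 21 := feit_check 2 21 337 (by norm_num) (by decide +kernel)
theorem feit_2_22 : FeitOK 2 22 := feit_check 2 22 683 (by norm_num) (by decide +kernel)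
theorem feit_2_24 : FeitOK 2 24 := feit_check 2 24 241 (by norm_num) (by decide +kernel)
theorem feit_2_25 : FeitOK 2 25 := feit_check 2 25 601 (by norm_num) (by decide +kernel)
theorem feit_2_26 : FeitOK 2 26 := feit_check 2 26 2731 (by norm_num) (by decide +kernel)
theorem feit_2_27 : FeitOK 2 27 := feit_check 2 27 262657 (by norm_num) (by decide +kernel)
theorem feit_2_28 : FeitOK 2 28 := feit_check 2 28 113 (by norm_num) (by decide +kernel)
theorem feit_2_30 : FeitOK 2 30 := feit_check 2 30 331 (by norm_num) (by decide +kernel)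
theorem feit_2_32 : FeitOK 2 32 := feit_check 2 32 65537 (by norm_num) (by decide +kernel)
theorem feit_2_33 : FeitOK 2 33 := feit_check 2 33 599479 (by norm_num) (by decide +kernel)
theorem feit_2_34 : FeitOK 2 34 := feit_check 2 34 43691 (by norm_num) (by decide +kernel)
theorem feit_2_36 : FeitOK 2 36 := feit_check 2 36 109 (by norm_num) (by decide +kernel)
theorem feit_2_38 : FeitOK 2 38 := feit_check 2 38 174763 (by norm_num) (by decide +kernel)
theorem feit_2_39 : FeitOK 2 39 := feit_check 2 39 79 (by norm_num) (by decide +kernel)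
theorem feit_2_40 : FeitOK 2 40 := feit_check 2 40 61681 (by norm_num) (by decide +kernel)
theorem feit_2_42 : FeitOK 2 42 := feit_check 2 42 5419 (by norm_num) (by decide +kernel)
theorem feit_2_44 : FeitOK 2 44 := feit_check 2 44 397 (by norm_num) (by decide +kernel)
theorem feit_2_45 : FeitOK 2 45 := feit_check 2 45 631 (by norm_num) (by decide +kernel)
theorem feit_2_46 : FeitOK 2 46 := feit_check 2 46 2796203 (by norm_num) (by decide +kernel)
theorem feit_2_48 : FeitOK 2 48 := feit_check 2 48 97 (by norm_num) (by decide +kernel)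
theorem feit_2_50 : FeitOK 2 50 := feit_check 2 50 251 (by norm_num) (by decide +kernel)
theorem feit_2_52 : FeitOK 2 52 := feit_check 2 52 157 (by norm_num) (by decide +kernel)
theorem feit_2_54 : FeitOK 2 54 := feit_check 2 54 87211 (by norm_num) (by decide +kernel)
theorem feit_2_56 : FeitOK 2 56 := feit_check 2 56 15790321 (by norm_num) (by decide +kernel)
theorem feit_2_60 : FeitOK 2 60 := feit_check 2 60 1321 (by norm_num) (by decide +kernel)
theorem feit_2_66 : FeitOK 2 66 := feit_check 2 66 20857 (by norm_num) (by decide +kernel)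
theorem feit_2_70 : FeitOK 2 70 := feit_check 2 70 281 (by norm_num) (by decide +kernel)
theorem feit_2_72 : FeitOK 2 72 := feit_check 2 72 433 (by norm_num) (by decide +kernel)
theorem feit_2_78 : FeitOK 2 78 := feit_check 2 78 22366891 (by norm_num) (by decide +kernel)
theorem feit_2_84 : FeitOK 2 84 := feit_check 2 84 1429 (by norm_num) (by decide +kernel)
theorem feit_2_90 : FeitOK 2 90 := feit_check 2 90 18837001 (by norm_num) (by decide +kernel)
theorem feit_3_3 : FeitOK 3 3 := feit_check 3 3 13 (by norm_num) (by decide +kernel)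
theorem feit_4_3 : FeitOK 4 3 := feit_check 4 3 7 (by norm_num) (by decide +kernel)
theorem feit_5_3 : FeitOK 5 3 := feit_check 5 3 31 (by norm_num) (by decide +kernel)
theorem feit_6_3 : FeitOK 6 3 := feit_check 6 3 43 (by norm_num) (by decide +kernel)
theorem feit_4_4 : FeitOK 4 4 := feit_check 4 4 17 (by norm_num) (by decide +kernel)
theorem feit_5_4 : FeitOK 5 4 := feit_check 5 4 13 (by norm_num) (by decide +kernel)
theorem feit_6_4 : FeitOK 6 4 := feit_check 6 4 37 (by norm_num) (by decide +kernel)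
theorem feit_7_4 : FeitOK 7 4 := feit_check 7 4 5 (by norm_num) (by decide +kernel)
theorem feit_3_5 : FeitOK 3 5 := feit_check 3 5 11 (by norm_num) (by decide +kernel)
theorem feit_4_6 : FeitOK 4 6 := feit_check 4 6 13 (by norm_num) (by decide +kernel)
theorem feit_6_6 : FeitOK 6 6 := feit_check 6 6 31 (by norm_num) (by decide +kernel)
theorem feit_7_6 : FeitOK 7 6 := feit_check 7 6 43 (by norm_num) (by decide +kernel)
theorem feit_8_6 : FeitOK 8 6 := feit_check 8 6 19 (by norm_num) (by decide +kernel)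
theorem feit_9_6 : FeitOK 9 6 := feit_check 9 6 73 (by norm_num) (by decide +kernel)
theorem feit_10_6 : FeitOK 10 6 := feit_check 10 6 13 (by norm_num) (by decide +kernel)
theorem feit_11_6 : FeitOK 11 6 := feit_check 11 6 37 (by norm_num) (by decide +kernel)
theorem feit_3_7 : FeitOK 3 7 := feit_check 3 7 1093 (by norm_num) (by decide +kernel)
theorem feit_3_8 : FeitOK 3 8 := feit_check 3 8 41 (by norm_num) (by decide +kernel)
theorem feit_4_8 : FeitOK 4 8 := feit_check 4 8 257 (by norm_num) (by decide +kernel)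
theorem feit_3_9 : FeitOK 3 9 := feit_check 3 9 757 (by norm_num) (by decide +kernel)
theorem feit_3_10 : FeitOK 3 10 := feit_check 3 10 61 (by norm_num) (by decide +kernel)
theorem feit_4_10 : FeitOK 4 10 := feit_check 4 10 41 (by norm_num) (by decide +kernel)
theorem feit_5_10 : FeitOK 5 10 := feit_check 5 10 521 (by norm_num) (by decide +kernel)
theorem feit_3_12 : FeitOK 3 12 := feit_check 3 12 73 (by norm_num) (by decide +kernel)
theorem feit_4_12 : FeitOK 4 12 := feit_check 4 12 241 (by norm_num) (by decide +kernel)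
theorem feit_5_12 : FeitOK 5 12 := feit_check 5 12 601 (by norm_num) (by decide +kernel)
theorem feit_3_14 : FeitOK 3 14 := feit_check 3 14 547 (by norm_num) (by decide +kernel)
theorem feit_3_15 : FeitOK 3 15 := feit_check 3 15 4561 (by norm_num) (by decide +kernel)
theorem feit_3_16 : FeitOK 3 16 := feit_check 3 16 193 (by norm_num) (by decide +kernel)
theorem feit_3_18 : FeitOK 3 18 := feit_check 3 18 37 (by norm_num) (by decide +kernel)
theorem feit_4_18 : FeitOK 4 18 := feit_check 4 18 37 (by norm_num) (by decide +kernel)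
theorem feit_3_20 : FeitOK 3 20 := feit_check 3 20 1181 (by norm_num) (by decide +kernel)
theorem feit_3_22 : FeitOK 3 22 := feit_check 3 22 67 (by norm_num) (by decide +kernel)
theorem feit_3_24 : FeitOK 3 24 := feit_check 3 24 6481 (by norm_num) (by decide +kernel)
theorem feit_3_30 : FeitOK 3 30 := feit_check 3 30 271 (by norm_num) (by decide +kernel)
theorem feit_3_42 : FeitOK 3 42 := feit_check 3 42 2269 (by norm_num) (by decide +kernel)

theorem feit_table_two : ∀ n ∈ S2, (n = 4 ∨ n = 6 ∨ n = 10 ∨ n = 12 ∨ n = 18) ∨ FeitOK 2 n := by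
  intro n hn
  simp only [S2, List.mem_cons, List.mem_nil_iff, or_false] at hn
  rcases hn with rfl | rfl | rfl | rfl | rfl | rfl | rfl | rfl | rfl | rfl | rfl | rfl | rfl | rfl | rfl | rfl | rfl | rfl | rfl | rfl | rfl | rfl | rfl | rfl | rfl | rfl | rfl | rfl | rfl | rfl | rfl | rfl | rfl | rfl | rfl | rfl | rfl | rfl | rfl | rfl | rfl | rfl | rfl | rfl | rfl | rfl | rfl | rfl | rfl
  · exact Or.inr feit_2_3
  · exact Or.inl (by decide)
  · exact Or.inr feit_2_5
  · exact Or.inl (by decide)
  · exact Or.inr feit_2_7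
  · exact Or.inr feit_2_8
  · exact Or.inr feit_2_9
  · exact Or.inl (by decide)
  · exact Or.inr feit_2_11
  · exact Or.inl (by decide)
  · exact Or.inr feit_2_13
  · exact Or.inr feit_2_14
  · exact Or.inr feit_2_15
  · exact Or.inr feit_2_16
  · exact Or.inr feit_2_17
  · exact Or.inl (by decide)
  · exact Or.inr feit_2_19
  · exact Or.inr feit_2_20
  · exact Or.inr feit_2_21
  · exact Or.inr feit_2_22
  · exact Or.inr feit_2_24
  · exact Or.inr feit_2_25
  · exact Or.inr feit_2_26
  · exact Or.inr feit_2_27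
  · exact Or.inr feit_2_28
  · exact Or.inr feit_2_30
  · exact Or.inr feit_2_32
  · exact Or.inr feit_2_33
  · exact Or.inr feit_2_34
  · exact Or.inr feit_2_36
  · exact Or.inr feit_2_38
  · exact Or.inr feit_2_39
  · exact Or.inr feit_2_40
  · exact Or.inr feit_2_42
  · exact Or.inr feit_2_44
  · exact Or.inr feit_2_45
  · exact Or.inr feit_2_46
  · exact Or.inr feit_2_48
  · exact Or.inr feit_2_50
  · exact Or.inr feit_2_52
  · exact Or.inr feit_2_54
  · exact Or.inr feit_2_56
  · exact Or.inr feit_2_60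
  · exact Or.inr feit_2_66
  · exact Or.inr feit_2_70
  · exact Or.inr feit_2_72
  · exact Or.inr feit_2_78
  · exact Or.inr feit_2_84
  · exact Or.inr feit_2_90

theorem feit_table_three : ∀ x ∈ L3, (x = (3, 4) ∨ x = (3, 6) ∨ x = (5, 6)) ∨ FeitOK x.1 x.2 := by
  intro x hx
  simp only [L3, List.mem_cons, List.mem_nil_iff, or_false] at hx
  rcases hx with rfl | rfl | rfl | rfl | rfl | rfl | rfl | rfl | rfl | rfl | rfl | rfl | rfl | rfl | rfl | rfl | rfl | rfl | rfl | rfl | rfl | rfl | rfl | rfl | rfl | rfl | rfl | rfl | rfl | rfl | rfl | rfl | rfl | rfl | rfl | rfl | rfl | rfl | rfl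
  · exact Or.inr feit_3_3
  · exact Or.inr feit_4_3
  · exact Or.inr feit_5_3
  · exact Or.inr feit_6_3
  · exact Or.inl (by decide)
  · exact Or.inr feit_4_4
  · exact Or.inr feit_5_4
  · exact Or.inr feit_6_4
  · exact Or.inr feit_7_4
  · exact Or.inr feit_3_5
  · exact Or.inl (by decide)
  · exact Or.inr feit_4_6
  · exact Or.inl (by decide)
  · exact Or.inr feit_6_6
  · exact Or.inr feit_7_6
  · exact Or.inr feit_8_6
  · exact Or.inr feit_9_6
  · exact Or.inr feit_10_6
  · exact Or.inr feit_11_6
  · exact Or.inr feit_3_7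
  · exact Or.inr feit_3_8
  · exact Or.inr feit_4_8
  · exact Or.inr feit_3_9
  · exact Or.inr feit_3_10
  · exact Or.inr feit_4_10
  · exact Or.inr feit_5_10
  · exact Or.inr feit_3_12
  · exact Or.inr feit_4_12
  · exact Or.inr feit_5_12
  · exact Or.inr feit_3_14
  · exact Or.inr feit_3_15
  · exact Or.inr feit_3_16
  · exact Or.inr feit_3_18
  · exact Or.inr feit_4_18
  · exact Or.inr feit_3_20
  · exact Or.inr feit_3_22
  · exact Or.inr feit_3_24
  · exact Or.inr feit_3_30
  · exact Or.inr feit_3_42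

end Cfsg.Agent.Helper3.CycBound
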