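import Mathlib
import Cfsg.Agent.Helper7.FHDefs
import Cfsg.Agent.Helper9.Fh_G7

/-!
# S1142, piece G8: the quadratic relation `T² = q + (q - 1) T` and `q ≥ 2`
-/

set_option autoImplicit false
set_option linter.unusedVariables false
set_option linter.unusedSectionVars false

namespace Cfsg.Agent.Helper7.FH

open Matrix Finset

section h3G8

variable {G : Type*} [Group G] (B : Subgroup G)

theorem h3_dc_inv_mem {s u : G} (hinv : s⁻¹ ∈ dc B s) (hu : u ∈ dc B s) : u⁻¹ ∈ dc B s := by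
  obtain ⟨b₁, hb₁, b₂, hb₂, rfl⟩ := mem_dc.1 hu
  obtain ⟨c₁, hc₁, c₂, hc₂, e⟩ := mem_dc.1 hinv
  refine mem_dc.2 ⟨b₂⁻¹ * c₁, B.mul_mem (B.inv_mem hb₂) hc₁, c₂ * b₁⁻¹,
    B.mul_mem hc₂ (B.inv_mem hb₁), ?_⟩
  have : (b₁ * s * b₂)⁻¹ = b₂⁻¹ * s⁻¹ * b₁⁻¹ := by group
  rw [this, e]
  group

theorem h3_dc_mul_mem {s u v : G} (hs : ∀ b ∈ B, s * b * s ∈ (B : Set G) ∪ dc B s)
    (hu : u ∈ dc B s) (hv : v ∈ dc B s) : u * v ∈ (B : Set G) ∪ dc B s := by
  obtain ⟨b₁, hb₁, b₂, hb₂, rfl⟩ := mem_dc.1 hu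
  obtain ⟨b₃, hb₃, b₄, hb₄, rfl⟩ := mem_dc.1 hv
  have e : b₁ * s * b₂ * (b₃ * s * b₄) = b₁ * (s * (b₂ * b₃) * s) * b₄ := by group
  rw [e]
  rcases hs (b₂ * b₃) (B.mul_mem hb₂ hb₃) with h | h
  · left
    exact B.mul_mem (B.mul_mem hb₁ h) hb₄
  · right
    exact h9_dc_mul_right B (h9_dc_mul_left B h hb₁) hb₄

theorem h3_not_mem_B_of_mem_dc {s u : G} (hsB : s ∉ B) (hu : u ∈ dc B s) : u ∉ B := by
  intro h
  obtain ⟨b₁, hb₁, b₂, hb₂, rfl⟩ := mem_dc.1 hu
  apply hsB
  have : s = b₁⁻¹ * (b₁ * s * b₂) * b₂⁻¹ := by group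
  rw [this]
  exact B.mul_mem (B.mul_mem (B.inv_mem hb₁) h) (B.inv_mem hb₂)

end h3G8

section relM

variable {G : Type*} [Group G] [Finite G] (B : Subgroup G) [Fintype (G ⧸ B)] [DecidableEq (G ⧸ B)]

/-- G8 -/
theorem relM_sq (s : G) (hs : ∀ b ∈ B, s * b * s ∈ (B : Set G) ∪ dc B s)
    (hinv : s⁻¹ ∈ dc B s) (hsB : s ∉ B) :
    relM B s * relM B s = (qd B s : ℝ) • (1 : Matrix (G ⧸ B) (G ⧸ B) ℝ) +
      ((qd B s : ℝ) - 1) • relM B s := by
  classical
  ext x y
  induction x using QuotientGroup.induction_on with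
  | H gx =>
  induction y using QuotientGroup.induction_on with
  | H gy =>
  rw [Matrix.mul_apply, Matrix.add_apply, Matrix.smul_apply, Matrix.smul_apply, Matrix.one_apply,
    smul_eq_mul, smul_eq_mul]
  -- symmetric form of the entries
  have hsymm : ∀ g₁ g₂ : G, g₁⁻¹ * g₂ ∈ dc B s ↔ g₂⁻¹ * g₁ ∈ dc B s := by
    intro g₁ g₂
    constructor
    · intro h
      have := h3_dc_inv_mem B hinv h
      have e : (g₁⁻¹ * g₂)⁻¹ = g₂⁻¹ * g₁ := by group
      rwa [e] at this
    · intro h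
      have := h3_dc_inv_mem B hinv h
      have e : (g₂⁻¹ * g₁)⁻¹ = g₁⁻¹ * g₂ := by group
      rwa [e] at this
  by_cases hxy : (QuotientGroup.mk gx : G ⧸ B) = QuotientGroup.mk gy
  · -- diagonal entry
    rw [if_pos hxy]
    have hmem : gx⁻¹ * gy ∈ B := QuotientGroup.eq.1 hxy
    have h0 : relM B s (QuotientGroup.mk gx) (QuotientGroup.mk gy) = 0 := by
      rw [h9_relM_mk, if_neg]
      intro h
      exact h3_not_mem_B_of_mem_dc B hsB h hmem
    rw [h0, mul_zero, add_zero, mul_one, ← h9_row_sum B s (QuotientGroup.mk gx)]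
    apply Finset.sum_congr rfl
    intro z _
    induction z using QuotientGroup.induction_on with
    | H gz =>
    rw [← hxy]
    rw [h9_relM_mk, h9_relM_mk]
    by_cases h1 : gx⁻¹ * gz ∈ dc B s
    · rw [if_pos h1, if_pos ((hsymm gx gz).1 h1)]
      norm_num
    · rw [if_neg h1]
      norm_num
  · rw [if_neg hxy, mul_zero, zero_add]
    have hnB : gx⁻¹ * gy ∉ B := fun h => hxy (QuotientGroup.eq.2 h)
    by_cases hrel : gx⁻¹ * gy ∈ dc B s
    · -- off-diagonal entry inside the relation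
      have h1 : relM B s (QuotientGroup.mk gx) (QuotientGroup.mk gy) = 1 := by
        rw [h9_relM_mk, if_pos hrel]
      rw [h1, mul_one]
      have key : ∀ z : G ⧸ B, relM B s (QuotientGroup.mk gx) z * relM B s z (QuotientGroup.mk gy) =
          relM B s (QuotientGroup.mk gx) z - (if z = QuotientGroup.mk gy then (1 : ℝ) else 0) := by
        intro z
        induction z using QuotientGroup.induction_on with
        | H gz =>
        rw [h9_relM_mk, h9_relM_mk]
        by_cases hzy : (QuotientGroup.mk gz : G ⧸ B) = QuotientGroup.mk gy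
        · rw [if_pos hzy]
          have hzyB : gz⁻¹ * gy ∈ B := QuotientGroup.eq.1 hzy
          have h2 : gz⁻¹ * gy ∉ dc B s := fun h => h3_not_mem_B_of_mem_dc B hsB h hzyB
          rw [if_neg h2, mul_zero]
          -- gx⁻¹ gz ∈ dc since gz = gy * b
          have h3 : gx⁻¹ * gz ∈ dc B s := by
            have e : gx⁻¹ * gz = gx⁻¹ * gy * (gz⁻¹ * gy)⁻¹ := by group
            rw [e]
            exact h9_dc_mul_right B hrel (B.inv_mem hzyB)
          rw [if_pos h3]
          norm_num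
        · rw [if_neg hzy, sub_zero]
          by_cases h3 : gx⁻¹ * gz ∈ dc B s
          · rw [if_pos h3, one_mul]
            have hzyB : gz⁻¹ * gy ∉ B := fun h => hzy (QuotientGroup.eq.2 h)
            have h4 : gz⁻¹ * gy ∈ (B : Set G) ∪ dc B s := by
              have e : gz⁻¹ * gy = (gz⁻¹ * gx) * (gx⁻¹ * gy) := by group
              rw [e]
              exact h3_dc_mul_mem B hs ((hsymm gx gz).1 h3) hrel
            rcases h4 with h4 | h4
            · exact absurd h4 hzyB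
            · rw [if_pos h4]
          · rw [if_neg h3, zero_mul]
      simp_rw [key]
      rw [Finset.sum_sub_distrib, h9_row_sum B s (QuotientGroup.mk gx)]
      rw [Finset.sum_ite_eq' Finset.univ (QuotientGroup.mk gy : G ⧸ B) (fun _ => (1 : ℝ))]
      simp
    · -- outside the relation: all terms vanish
      have h1 : relM B s (QuotientGroup.mk gx) (QuotientGroup.mk gy) = 0 := by
        rw [h9_relM_mk, if_neg hrel]
      rw [h1, mul_zero]
      apply Finset.sum_eq_zero
      intro z _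
      induction z using QuotientGroup.induction_on with
      | H gz =>
      rw [h9_relM_mk, h9_relM_mk]
      by_cases h3 : gx⁻¹ * gz ∈ dc B s
      · by_cases h4 : gz⁻¹ * gy ∈ dc B s
        · exfalso
          have h5 : gx⁻¹ * gy ∈ (B : Set G) ∪ dc B s := by
            have e : gx⁻¹ * gy = (gx⁻¹ * gz) * (gz⁻¹ * gy) := by group
            rw [e]
            exact h3_dc_mul_mem B hs h3 h4
          rcases h5 with h5 | h5
          · exact hnB h5
          · exact hrel h5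
        · rw [if_neg h4, mul_zero]
      · rw [if_neg h3, zero_mul]

/-- G8 -/
theorem qd_ge_two (s : G) (hss : s * s ∈ B) (hne : (fun b : G => s * b * s) '' (B : Set G) ≠ B) :
    2 ≤ qd B s := by
  classical
  -- some `b ∈ B` has `s b s ∉ B`
  have hex : ∃ b ∈ B, s * b * s ∉ B := by
    by_contra hcon
    simp only [not_exists, not_and, not_not] at hcon
    apply hne
    ext c
    constructor
    · rintro ⟨b, hb, rfl⟩
      exact hcon b hb
    · intro hc
      refine ⟨(s * s)⁻¹ * (s * c * s) * (s * s)⁻¹, ?_, ?_⟩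
      · exact B.mul_mem (B.mul_mem (B.inv_mem hss) (hcon c hc)) (B.inv_mem hss)
      · show s * ((s * s)⁻¹ * (s * c * s) * (s * s)⁻¹) * s = c
        group
  obtain ⟨b, hb, hbs⟩ := hex
  -- the two cosets `sB` and `b s B`... use `s⁻¹`-free description
  have hs_mem : Quotient.out (QuotientGroup.mk s : G ⧸ B) ∈ dc B s := by
    obtain ⟨c, hc⟩ := QuotientGroup.mk_out_eq_mul B s
    rw [hc]
    exact h9_dc_mul_right B (h9_self_mem_dc B s) c.2
  have hbs_mem : Quotient.out (QuotientGroup.mk (b⁻¹ * s) : G ⧸ B) ∈ dc B s := by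
    obtain ⟨c, hc⟩ := QuotientGroup.mk_out_eq_mul B (b⁻¹ * s)
    rw [hc]
    exact h9_dc_mul_right B (h9_dc_mul_left B (h9_self_mem_dc B s) (B.inv_mem hb)) c.2
  have hneq : (QuotientGroup.mk s : G ⧸ B) ≠ QuotientGroup.mk (b⁻¹ * s) := by
    intro h
    have h1 : s⁻¹ * (b⁻¹ * s) ∈ B := QuotientGroup.eq.1 h
    -- then s b s ∈ B
    apply hbs
    have e : s * b * s = (s * s) * (s⁻¹ * (b⁻¹ * s))⁻¹ := by group
    rw [e]
    exact B.mul_mem hss (B.inv_mem h1)
  unfold qd
  have : Nontrivial {x : G ⧸ B // Quotient.out x ∈ dc B s} :=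
    ⟨⟨⟨_, hs_mem⟩, ⟨_, hbs_mem⟩, fun h => hneq (congrArg Subtype.val h)⟩⟩
  have h1 := Finite.one_lt_card_iff_nontrivial.2 this
  omega

end relM

end Cfsg.Agent.Helper7.FH
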