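import Mathlib
import Cfsg.Agent.Helper7.FHDefs

/-!
# S1142, piece L8b: Parseval identity for the orthogonal system of alternating words
-/

set_option autoImplicit false
set_option linter.unusedVariables false
set_option linter.unusedSectionVars false

namespace Cfsg.Agent.Helper7.FH

open Matrix Finset

section partII

variable {F : Type*} [Fintype F] [DecidableEq F] (D : FHData F)

theorem h3_trace_mul_transpose_eq (X Y : Matrix F F ℝ) :
    Matrix.trace (X * Y.transpose) = Matrix.trace (Y.transpose * X) :=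
  Matrix.trace_mul_comm X Y.transpose

theorem h3_trace_mul_transpose_symm (X Y : Matrix F F ℝ) :
    Matrix.trace (X * Y.transpose) = Matrix.trace (Y * X.transpose) := by
  rw [← Matrix.trace_transpose (X * Y.transpose), Matrix.transpose_mul, Matrix.transpose_transpose]

theorem h3_n_pos : 0 < D.n := by
  have := D.hF
  unfold FHData.n
  exact_mod_cast Fintype.card_pos

theorem h3_qA_pos (k : ℕ) : 0 < D.qA k := by
  unfold FHData.qA
  have ha : (0 : ℝ) < D.a := by
    have := D.ha
    exact_mod_cast (by omega : 0 < D.a)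
  have hb : (0 : ℝ) < D.b := by
    have := D.hb
    exact_mod_cast (by omega : 0 < D.b)
  positivity

theorem h3_qB_pos (k : ℕ) : 0 < D.qB k := by
  unfold FHData.qB
  have ha : (0 : ℝ) < D.a := by
    have := D.ha
    exact_mod_cast (by omega : 0 < D.a)
  have hb : (0 : ℝ) < D.b := by
    have := D.hb
    exact_mod_cast (by omega : 0 < D.b)
  positivity

theorem h3_A_zero : D.A 0 = 1 := rfl

theorem h3_B_zero : D.B 0 = 1 := rfl

theorem h3_A_m : D.A D.m = D.B D.m := D.braid

/-- `tr (A_l A_kᵀ)` for `k, l ≤ m` -/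
theorem h3_gAA (k l : ℕ) (hk : k ≤ D.m) (hl : l ≤ D.m) :
    Matrix.trace (D.A l * (D.A k).transpose) = if k = l then D.n * D.qA k else 0 := by
  rw [h3_trace_mul_transpose_eq]
  exact D.gramAA k l hk hl

/-- `tr (B_l B_kᵀ)` for `k, l ≤ m` -/
theorem h3_gBB (k l : ℕ) (hk : k ≤ D.m) (hl : l ≤ D.m) :
    Matrix.trace (D.B l * (D.B k).transpose) = if k = l then D.n * D.qB k else 0 := by
  rw [h3_trace_mul_transpose_eq]
  exact D.gramBB k l hk hl

/-- `tr (B_l A_kᵀ) = 0` for `1 ≤ l < m`, `k ≤ m` -/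
theorem h3_gBA (k l : ℕ) (hk : k ≤ D.m) (hl1 : 1 ≤ l) (hl : l < D.m) :
    Matrix.trace (D.B l * (D.A k).transpose) = 0 := by
  rcases Nat.eq_zero_or_pos k with h0 | h0
  · subst h0
    rw [h3_A_zero, ← h3_B_zero D, h3_gBB D 0 l (Nat.zero_le _) hl.le]
    rw [if_neg (by omega)]
  · rcases Nat.lt_or_ge k D.m with hkm | hkm
    · rw [h3_trace_mul_transpose_eq]
      exact D.gramAB k l h0 hkm hl.le
    · have : k = D.m := le_antisymm hk hkm
      subst this
      rw [h3_A_m, h3_gBB D D.m l le_rfl hl.le, if_neg (by omega)]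

/-- `tr (A_l B_kᵀ) = 0` for `1 ≤ k < m`, `l ≤ m` -/
theorem h3_gAB (k l : ℕ) (hl : l ≤ D.m) (hk1 : 1 ≤ k) (hk : k < D.m) :
    Matrix.trace (D.A l * (D.B k).transpose) = 0 := by
  rw [h3_trace_mul_transpose_symm]
  exact h3_gBA D l k hl hk1 hk

/-- Parseval for `Y = A_l` -/
theorem h3_par_A (X : Matrix F F ℝ) (l : ℕ) (hl : l ≤ D.m) :
    Matrix.trace (X * (D.A l).transpose) =
    ∑ k ∈ Finset.range (D.m + 1),
      (Matrix.trace (X * (D.A k).transpose)) * (Matrix.trace (D.A l * (D.A k).transpose)) / (D.n * D.qA k) +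
    ∑ k ∈ Finset.Ico 1 D.m,
      (Matrix.trace (X * (D.B k).transpose)) * (Matrix.trace (D.A l * (D.B k).transpose)) / (D.n * D.qB k) := by
  have h2 : ∑ k ∈ Finset.Ico 1 D.m,
      (Matrix.trace (X * (D.B k).transpose)) * (Matrix.trace (D.A l * (D.B k).transpose)) / (D.n * D.qB k) = 0 := by
    apply Finset.sum_eq_zero
    intro k hk
    rw [Finset.mem_Ico] at hk
    rw [h3_gAB D k l hl hk.1 hk.2]
    simp
  have h1 : ∑ k ∈ Finset.range (D.m + 1),
      (Matrix.trace (X * (D.A k).transpose)) * (Matrix.trace (D.A l * (D.A k).transpose)) / (D.n * D.qA k)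
      = Matrix.trace (X * (D.A l).transpose) := by
    rw [Finset.sum_eq_single l]
    · rw [h3_gAA D l l hl hl, if_pos rfl]
      have : D.n * D.qA l ≠ 0 := (mul_pos (h3_n_pos D) (h3_qA_pos D l)).ne'
      exact mul_div_cancel_right₀ _ this
    · intro k hk hkl
      rw [Finset.mem_range] at hk
      rw [h3_gAA D k l (by omega) hl, if_neg hkl]
      simp
    · intro h
      exact absurd (Finset.mem_range.mpr (by omega)) h
  rw [h1, h2, add_zero]

/-- Parseval for `Y = B_l`, `1 ≤ l < m` -/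
theorem h3_par_B (X : Matrix F F ℝ) (l : ℕ) (hl1 : 1 ≤ l) (hl : l < D.m) :
    Matrix.trace (X * (D.B l).transpose) =
    ∑ k ∈ Finset.range (D.m + 1),
      (Matrix.trace (X * (D.A k).transpose)) * (Matrix.trace (D.B l * (D.A k).transpose)) / (D.n * D.qA k) +
    ∑ k ∈ Finset.Ico 1 D.m,
      (Matrix.trace (X * (D.B k).transpose)) * (Matrix.trace (D.B l * (D.B k).transpose)) / (D.n * D.qB k) := by
  have h1 : ∑ k ∈ Finset.range (D.m + 1),
      (Matrix.trace (X * (D.A k).transpose)) * (Matrix.trace (D.B l * (D.A k).transpose)) / (D.n * D.qA k) = 0 := by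
    apply Finset.sum_eq_zero
    intro k hk
    rw [Finset.mem_range] at hk
    rw [h3_gBA D k l (by omega) hl1 hl]
    simp
  have h2 : ∑ k ∈ Finset.Ico 1 D.m,
      (Matrix.trace (X * (D.B k).transpose)) * (Matrix.trace (D.B l * (D.B k).transpose)) / (D.n * D.qB k)
      = Matrix.trace (X * (D.B l).transpose) := by
    rw [Finset.sum_eq_single l]
    · rw [h3_gBB D l l hl.le hl.le, if_pos rfl]
      have : D.n * D.qB l ≠ 0 := (mul_pos (h3_n_pos D) (h3_qB_pos D l)).ne'
      exact mul_div_cancel_right₀ _ this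
    · intro k hk hkl
      rw [Finset.mem_Ico] at hk
      rw [h3_gBB D k l (by omega) hl.le, if_neg hkl]
      simp
    · intro h
      exact absurd (Finset.mem_Ico.mpr ⟨hl1, hl⟩) h
  rw [h1, h2, zero_add]

/-- bilinear Parseval: for `Y` in the span of the words and arbitrary `X` -/
theorem h3_par_bilin (Y : Matrix F F ℝ)
    (hY : Y ∈ Submodule.span ℝ
      ({X | ∃ k, k ≤ D.m ∧ X = D.A k} ∪ {X | ∃ k, k ≤ D.m ∧ X = D.B k})) :
    ∀ X : Matrix F F ℝ, Matrix.trace (X * Y.transpose) =
    ∑ k ∈ Finset.range (D.m + 1),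
      (Matrix.trace (X * (D.A k).transpose)) * (Matrix.trace (Y * (D.A k).transpose)) / (D.n * D.qA k) +
    ∑ k ∈ Finset.Ico 1 D.m,
      (Matrix.trace (X * (D.B k).transpose)) * (Matrix.trace (Y * (D.B k).transpose)) / (D.n * D.qB k) := by
  induction hY using Submodule.span_induction with
  | mem Y hY =>
    intro X
    rcases hY with ⟨l, hl, rfl⟩ | ⟨l, hl, rfl⟩
    · exact h3_par_A D X l hl
    · rcases Nat.eq_zero_or_pos l with h0 | h0
      · subst h0
        rw [h3_B_zero, ← h3_A_zero D]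
        exact h3_par_A D X 0 (Nat.zero_le _)
      · rcases Nat.lt_or_ge l D.m with hlm | hlm
        · exact h3_par_B D X l h0 hlm
        · have : l = D.m := le_antisymm hl hlm
          subst this
          rw [← h3_A_m]
          exact h3_par_A D X D.m le_rfl
  | zero =>
    intro X
    simp
  | add Y Z _ _ hY hZ =>
    intro X
    rw [Matrix.transpose_add, mul_add, Matrix.trace_add, hY X, hZ X]
    simp only [add_mul, Matrix.trace_add, mul_add, add_div, Finset.sum_add_distrib]
    ring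
  | smul c Y _ hY =>
    intro X
    rw [Matrix.transpose_smul, Matrix.mul_smul, Matrix.trace_smul, hY X]
    simp only [Matrix.smul_mul, Matrix.trace_smul, smul_eq_mul, mul_add, Finset.mul_sum]
    congr 1 <;> refine Finset.sum_congr rfl (fun k _ => ?_) <;> ring

theorem parseval_of
    (hspan : (Subalgebra.toSubmodule D.Alg) ≤
      Submodule.span ℝ ({X | ∃ k, k ≤ D.m ∧ X = D.A k} ∪ {X | ∃ k, k ≤ D.m ∧ X = D.B k}))
    (X : Matrix F F ℝ) (hX : X ∈ D.Alg) :
    Matrix.trace (X * X.transpose) =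
      ∑ k ∈ Finset.range (D.m + 1), (Matrix.trace (X * (D.A k).transpose)) ^ 2 / (D.n * D.qA k) +
      ∑ k ∈ Finset.Ico 1 D.m, (Matrix.trace (X * (D.B k).transpose)) ^ 2 / (D.n * D.qB k) := by
  have hXs : X ∈ Submodule.span ℝ
      ({X | ∃ k, k ≤ D.m ∧ X = D.A k} ∪ {X | ∃ k, k ≤ D.m ∧ X = D.B k}) := hspan hX
  rw [h3_par_bilin D X hXs X]
  congr 1 <;> refine Finset.sum_congr rfl (fun k _ => ?_) <;> ring

end partII

end Cfsg.Agent.Helper7.FH
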