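import Mathlib

/-!
# A Coxeter element of `E₇` among involutions

Seven involutions `a, b, c, d, e, f, h` commuting as the non-adjacent nodes of the Coxeter graph `E₇`
(the chain `a - b - c - d - e - f` with `h` joined to `d`): the product `a b c d e f h` is conjugate to
`(a e h c) (d b f)`, a product of two involutions; so it is conjugate to its inverse, and a central power
of it has order at most two.
-/

set_option autoImplicit false
set_option linter.unusedSimpArgs false

namespace Cfsg.Agent.Helper3.Fi23E7

theorem e7_word_conj {Γ : Type*} [Group Γ] (a b c d e f h : Γ)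
    (ha : a * a = 1) (hb : b * b = 1) (hc : c * c = 1) (hd : d * d = 1) (he : e * e = 1)
    (hf : f * f = 1) (hh : h * h = 1)
    (hac : a * c = c * a) (had : a * d = d * a) (hae : a * e = e * a) (haf : a * f = f * a)
    (hah : a * h = h * a) (hbd : b * d = d * b) (hbe : b * e = e * b) (hbf : b * f = f * b)
    (hbh : b * h = h * b) (hce : c * e = e * c) (hcf : c * f = f * c) (hch : c * h = h * c)
    (hdf : d * f = f * d) (heh : e * h = h * e) (hfh : f * h = h * f) :
    (b * a * e * f * h) * (a * b * c * d * e * f * h) * (h * f * e * a * b) =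
      (a * e * h * c) * (d * b * f) := by
  have ha' : ∀ t, a * (a * t) = t := fun t => by rw [← mul_assoc, ha, one_mul]
  have hb' : ∀ t, b * (b * t) = t := fun t => by rw [← mul_assoc, hb, one_mul]
  have hc' : ∀ t, c * (c * t) = t := fun t => by rw [← mul_assoc, hc, one_mul]
  have hd' : ∀ t, d * (d * t) = t := fun t => by rw [← mul_assoc, hd, one_mul]
  have he' : ∀ t, e * (e * t) = t := fun t => by rw [← mul_assoc, he, one_mul]
  have hf' : ∀ t, f * (f * t) = t := fun t => by rw [← mul_assoc, hf, one_mul]
  have hh' : ∀ t, h * (h * t) = t := fun t => by rw [← mul_assoc, hh, one_mul]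
  -- commutations, oriented: move later letters right? use left_comm forms
  have cac : ∀ t, c * (a * t) = a * (c * t) := fun t => by rw [← mul_assoc, ← hac, mul_assoc]
  have cad : ∀ t, d * (a * t) = a * (d * t) := fun t => by rw [← mul_assoc, ← had, mul_assoc]
  have cae : ∀ t, e * (a * t) = a * (e * t) := fun t => by rw [← mul_assoc, ← hae, mul_assoc]
  have caf : ∀ t, f * (a * t) = a * (f * t) := fun t => by rw [← mul_assoc, ← haf, mul_assoc]
  have cah : ∀ t, h * (a * t) = a * (h * t) := fun t => by rw [← mul_assoc, ← hah, mul_assoc]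
  have cbd : ∀ t, d * (b * t) = b * (d * t) := fun t => by rw [← mul_assoc, ← hbd, mul_assoc]
  have cbe : ∀ t, e * (b * t) = b * (e * t) := fun t => by rw [← mul_assoc, ← hbe, mul_assoc]
  have cbf : ∀ t, f * (b * t) = b * (f * t) := fun t => by rw [← mul_assoc, ← hbf, mul_assoc]
  have cbh : ∀ t, h * (b * t) = b * (h * t) := fun t => by rw [← mul_assoc, ← hbh, mul_assoc]
  have cce : ∀ t, e * (c * t) = c * (e * t) := fun t => by rw [← mul_assoc, ← hce, mul_assoc]
  have ccf : ∀ t, f * (c * t) = c * (f * t) := fun t => by rw [← mul_assoc, ← hcf, mul_assoc]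
  have cch : ∀ t, h * (c * t) = c * (h * t) := fun t => by rw [← mul_assoc, ← hch, mul_assoc]
  have cdf : ∀ t, f * (d * t) = d * (f * t) := fun t => by rw [← mul_assoc, ← hdf, mul_assoc]
  have ceh : ∀ t, h * (e * t) = e * (h * t) := fun t => by rw [← mul_assoc, ← heh, mul_assoc]
  have cfh : ∀ t, h * (f * t) = f * (h * t) := fun t => by rw [← mul_assoc, ← hfh, mul_assoc]
  simp only [mul_assoc, ha', hb', hd', he', hf', hh', ha, hb, hc, hd, he, hf, hh, mul_one,
    cac, cad, cae, caf, cah, cbd, cbe, cbf, cbh, cce, ccf, cch, cdf, ceh, cfh,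
    ← hac, ← had, ← hae, ← haf, ← hah, ← hbd, ← hbe, ← hbf, ← hbh, ← hce, ← hcf, ← hch, ← hdf,
    ← heh, ← hfh]
  rw [hdf, cfh]

/-- a central power of the Coxeter element is an involution. -/
theorem e7_central_pow_sq {Γ : Type*} [Group Γ] (a b c d e f h : Γ)
    (ha : a * a = 1) (hb : b * b = 1) (hc : c * c = 1) (hd : d * d = 1) (he : e * e = 1)
    (hf : f * f = 1) (hh : h * h = 1)
    (hac : a * c = c * a) (had : a * d = d * a) (hae : a * e = e * a) (haf : a * f = f * a)
    (hah : a * h = h * a) (hbd : b * d = d * b) (hbe : b * e = e * b) (hbf : b * f = f * b)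
    (hbh : b * h = h * b) (hce : c * e = e * c) (hcf : c * f = f * c) (hch : c * h = h * c)
    (hdf : d * f = f * d) (heh : e * h = h * e) (hfh : f * h = h * f) (n : ℕ)
    (hz : (a * b * c * d * e * f * h) ^ n ∈ Subgroup.center Γ) :
    (a * b * c * d * e * f * h) ^ n * (a * b * c * d * e * f * h) ^ n = 1 := by
  have hconj := e7_word_conj a b c d e f h ha hb hc hd he hf hh hac had hae haf hah hbd hbe hbf hbh
    hce hcf hch hdf heh hfh
  -- the conjugating element and its inverse
  have hg : (h * f * e * a * b) = (b * a * e * f * h)⁻¹ := by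
    rw [eq_inv_iff_mul_eq_one]
    have ha' : ∀ t, a * (a * t) = t := fun t => by rw [← mul_assoc, ha, one_mul]
    have hb' : ∀ t, b * (b * t) = t := fun t => by rw [← mul_assoc, hb, one_mul]
    have he' : ∀ t, e * (e * t) = t := fun t => by rw [← mul_assoc, he, one_mul]
    have hf' : ∀ t, f * (f * t) = t := fun t => by rw [← mul_assoc, hf, one_mul]
    simp only [mul_assoc, ha', hb', he', hf', hh]
  rw [hg] at hconj
  -- the two involutions
  have hu : (a * e * h * c) * (a * e * h * c) = 1 := by
    have ha' : ∀ t, a * (a * t) = t := fun t => by rw [← mul_assoc, ha, one_mul]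
    have he' : ∀ t, e * (e * t) = t := fun t => by rw [← mul_assoc, he, one_mul]
    have hh' : ∀ t, h * (h * t) = t := fun t => by rw [← mul_assoc, hh, one_mul]
    have cae : ∀ t, e * (a * t) = a * (e * t) := fun t => by rw [← mul_assoc, ← hae, mul_assoc]
    have cah : ∀ t, h * (a * t) = a * (h * t) := fun t => by rw [← mul_assoc, ← hah, mul_assoc]
    have cac : ∀ t, c * (a * t) = a * (c * t) := fun t => by rw [← mul_assoc, ← hac, mul_assoc]
    have ceh : ∀ t, h * (e * t) = e * (h * t) := fun t => by rw [← mul_assoc, ← heh, mul_assoc]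
    have cce : ∀ t, c * (e * t) = e * (c * t) := fun t => by rw [← mul_assoc, hce, mul_assoc]
    have cch : ∀ t, c * (h * t) = h * (c * t) := fun t => by rw [← mul_assoc, hch, mul_assoc]
    simp only [mul_assoc, cac, cah, cae, ha', cce, ceh, he', cch, hh', hc]
  have hv : (d * b * f) * (d * b * f) = 1 := by
    have hd' : ∀ t, d * (d * t) = t := fun t => by rw [← mul_assoc, hd, one_mul]
    have hb' : ∀ t, b * (b * t) = t := fun t => by rw [← mul_assoc, hb, one_mul]
    have cdb : ∀ t, b * (d * t) = d * (b * t) := fun t => by rw [← mul_assoc, hbd, mul_assoc]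
    have cdf : ∀ t, f * (d * t) = d * (f * t) := fun t => by rw [← mul_assoc, ← hdf, mul_assoc]
    have cbf : ∀ t, f * (b * t) = b * (f * t) := fun t => by rw [← mul_assoc, ← hbf, mul_assoc]
    simp only [mul_assoc, cdf, cdb, hd', cbf, hb', hf]
  -- the power of the conjugate
  set w := a * b * c * d * e * f * h with hw
  set g := b * a * e * f * h with hgdef
  set u := a * e * h * c with hudef
  set v := d * b * f with hvdef
  have h1 : (u * v) ^ n = w ^ n := by
    rw [← hconj, conj_pow]
    rw [Subgroup.mem_center_iff.mp hz g, mul_inv_cancel_right]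
  have huinv : u⁻¹ = u := inv_eq_of_mul_eq_one_right hu
  have hvinv : v⁻¹ = v := inv_eq_of_mul_eq_one_right hv
  have h2 : (u * v)⁻¹ = u * (u * v) * u⁻¹ := by
    rw [mul_inv_rev, huinv, hvinv, ← mul_assoc u u v, hu, one_mul]
  have h3 : (w ^ n)⁻¹ = w ^ n := by
    rw [← h1, ← inv_pow, h2, conj_pow, h1, Subgroup.mem_center_iff.mp hz u, mul_inv_cancel_right]
  calc w ^ n * w ^ n = w ^ n * (w ^ n)⁻¹ := by rw [h3]
    _ = 1 := mul_inv_cancel _

end Cfsg.Agent.Helper3.Fi23E7
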