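import Cfsg.Agent.Helper3.Fi23QDat

/-! generated permutation model, checks: Fi23Q -/

set_option autoImplicit false
set_option Elab.async false
set_option maxRecDepth 1000000

namespace Cfsg.Agent.Helper3.Fi23Q
open Cfsg.Agent.Helper5.LP Cfsg.Agent.Helper5.LTC Cfsg.Agent.Helper3.CovModel

theorem inv_2 : invAllK mT 2160 720 1440 18 = true := by decide +kernel

theorem pw_2 : fixAll mT (powRels 9 Cfsg.Agent.Helper3.Fi23Y.mm) 720 1440 = true := by decide +kernel

theorem sh_2 : shAll mT 2160 1 LL 720 1440 = true := by decide +kernel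

end Cfsg.Agent.Helper3.Fi23Q
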