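import Cfsg.Agent.Helper3.Fi23QCk0
import Cfsg.Agent.Helper3.Fi23QCk1
import Cfsg.Agent.Helper3.Fi23QCk2
import Cfsg.Agent.Helper5.LPS

/-! generated permutation model, summary: Fi23Q -/

set_option autoImplicit false
set_option maxRecDepth 1000000

namespace Cfsg.Agent.Helper3.Fi23Q
open Cfsg.Agent.Helper5.LP Cfsg.Agent.Helper5.LTC Cfsg.Agent.Helper5.StemP Cfsg.Agent.Helper3.CovModel

theorem tok_0 : ∀ x, x < 18 → ∀ v, v < 0 → mT x v < 2160 ∧ mT (linv x) (mT x v) = v :=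
  fun x _ v hv => absurd hv (by omega)

theorem pf_0 : ∀ l ∈ powRels 9 Cfsg.Agent.Helper3.Fi23Y.mm, ∀ v, v < 0 → actL mT l v = v :=
  fun l _ v hv => absurd hv (by omega)

theorem sf_0 : ∀ p ∈ LL, ∀ v, v < 0 → actL mT p.1 v = shK 2160 1 p.2 v :=
  fun p _ v hv => absurd hv (by omega)

theorem tok_1 : ∀ x, x < 18 → ∀ v, v < 720 → mT x v < 2160 ∧ mT (linv x) (mT x v) = v :=
  tableOKI_step mT 2160 18 tok_0 720 inv_0

theorem pf_1 : ∀ l ∈ powRels 9 Cfsg.Agent.Helper3.Fi23Y.mm, ∀ v, v < 720 → actL mT l v = v :=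
  relsFix_step mT _ pf_0 720 pw_0

theorem sf_1 : ∀ p ∈ LL, ∀ v, v < 720 → actL mT p.1 v = shK 2160 1 p.2 v :=
  sh_step mT 2160 1 LL sf_0 720 sh_0

theorem tok_2 : ∀ x, x < 18 → ∀ v, v < 1440 → mT x v < 2160 ∧ mT (linv x) (mT x v) = v :=
  tableOKI_step mT 2160 18 tok_1 720 inv_1

theorem pf_2 : ∀ l ∈ powRels 9 Cfsg.Agent.Helper3.Fi23Y.mm, ∀ v, v < 1440 → actL mT l v = v :=
  relsFix_step mT _ pf_1 720 pw_1

theorem sf_2 : ∀ p ∈ LL, ∀ v, v < 1440 → actL mT p.1 v = shK 2160 1 p.2 v :=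
  sh_step mT 2160 1 LL sf_1 720 sh_1

theorem tok_3 : ∀ x, x < 18 → ∀ v, v < 2160 → mT x v < 2160 ∧ mT (linv x) (mT x v) = v :=
  tableOKI_step mT 2160 18 tok_2 720 inv_2

theorem pf_3 : ∀ l ∈ powRels 9 Cfsg.Agent.Helper3.Fi23Y.mm, ∀ v, v < 2160 → actL mT l v = v :=
  relsFix_step mT _ pf_2 720 pw_2

theorem sf_3 : ∀ p ∈ LL, ∀ v, v < 2160 → actL mT p.1 v = shK 2160 1 p.2 v :=
  sh_step mT 2160 1 LL sf_2 720 sh_2

theorem mT_shift : ShiftEquivariant mT 2160 1 := shiftEquivariant_covTK tAll (by norm_num) 1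

theorem tableOK : TableOKI (2 * 9) (2160 * 1) linv mT :=
  tableOKI_of_base mT_shift (by norm_num) (by norm_num) (2 * 9) fun x hx v hv => (tok_3 x hx v hv).2

theorem relsFix : RelsFix (coverRels 9 Cfsg.Agent.Helper3.Fi23Y.mm Cfsg.Agent.Helper3.Fi23Y.CC9 Cfsg.Agent.Helper3.Fi23Y.CC9 15) (2160 * 1) mT := by
  have h := relsFix_coverRels_of_base mT_shift (by norm_num) (by norm_num) 9 Cfsg.Agent.Helper3.Fi23Y.mm LL Cfsg.Agent.Helper3.Fi23Y.CC9 15 tableOK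
    (fun i hi v hv => pf_3 _ (mem_powRels _ hi) v hv) sf_3 (by decide) (by decide)
  rwa [LL_fst] at h

theorem chainQ_ok : chainOK mT (2 * 9) 2160 [] levelQs = true := chainOK_of_F (by decide +kernel)

theorem chainQ_prod : chainProd levelQs = 19808719257600 := by decide +kernel

end Cfsg.Agent.Helper3.Fi23Q
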