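import Cfsg.Agent.Helper3.Fi23Y4Ju0
import Cfsg.Agent.Helper3.Fi23Y4Tb0

/-! generated labelled Todd-Coxeter certificate, summary: Fi23Y4 -/

set_option autoImplicit false
set_option maxRecDepth 1000000

namespace Cfsg.Agent.Helper3.Fi23Y4
open Cfsg.Agent.Helper5.LTC Cfsg.Agent.Helper3.LTCW

theorem upto_0 : ∀ j, j < 0 → ∃ r, checkFactW cert j r = true := fun j hj => absurd hj (by omega)

theorem upto_1 : ∀ j, j < 20 → ∃ r, checkFactW cert j r = true :=
  upto_stepW cert upto_0 ju_0 20 len_0 chk_0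

theorem hchk : ∀ j, j < cert.nf → ∃ r, checkFactW cert j r = true := upto_1

theorem rowsto_0 : ∀ n, n < 0 → ∀ x, x < cert.k → tabEntryOKW cert tab n x = true :=
  fun n hn => absurd hn (by omega)

theorem rowsto_1 : ∀ n, n < 5 → ∀ x, x < cert.k → tabEntryOKW cert tab n x = true :=
  rows_stepW cert tab rowsto_0 5 rows_0

theorem hT : ∀ n, n < tab.N → ∀ x, x < cert.k → tabEntryOKW cert tab n x = true := rowsto_1

end Cfsg.Agent.Helper3.Fi23Y4
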