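import Cfsg.Agent.Helper3.Fi23Y9Dat

/-! generated labelled Todd-Coxeter certificate: Fi23Y9 -/

set_option autoImplicit false
set_option Elab.async false
set_option maxRecDepth 1000000

namespace Cfsg.Agent.Helper3.Fi23Y9
open Cfsg.Agent.Helper5.LTC Cfsg.Agent.Helper3.LTCW

theorem rows_1 : tabRowsOKW cert tab 1024 1024 = true := by decide +kernel

end Cfsg.Agent.Helper3.Fi23Y9
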