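import Cfsg.Agent.Helper3.Fi23Y9Ju0
import Cfsg.Agent.Helper3.Fi23Y9Ju1
import Cfsg.Agent.Helper3.Fi23Y9Ju2
import Cfsg.Agent.Helper3.Fi23Y9Ju3
import Cfsg.Agent.Helper3.Fi23Y9Ju4
import Cfsg.Agent.Helper3.Fi23Y9Ju5
import Cfsg.Agent.Helper3.Fi23Y9Ju6
import Cfsg.Agent.Helper3.Fi23Y9Ju7
import Cfsg.Agent.Helper3.Fi23Y9Ju8
import Cfsg.Agent.Helper3.Fi23Y9Ju9
import Cfsg.Agent.Helper3.Fi23Y9Ju10
import Cfsg.Agent.Helper3.Fi23Y9Ju11
import Cfsg.Agent.Helper3.Fi23Y9Ju12
import Cfsg.Agent.Helper3.Fi23Y9Ju13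
import Cfsg.Agent.Helper3.Fi23Y9Ju14
import Cfsg.Agent.Helper3.Fi23Y9Ju15
import Cfsg.Agent.Helper3.Fi23Y9Ju16
import Cfsg.Agent.Helper3.Fi23Y9Ju17
import Cfsg.Agent.Helper3.Fi23Y9Ju18
import Cfsg.Agent.Helper3.Fi23Y9Ju19
import Cfsg.Agent.Helper3.Fi23Y9Ju20
import Cfsg.Agent.Helper3.Fi23Y9Ju21
import Cfsg.Agent.Helper3.Fi23Y9Ju22
import Cfsg.Agent.Helper3.Fi23Y9Ju23
import Cfsg.Agent.Helper3.Fi23Y9Ju24
import Cfsg.Agent.Helper3.Fi23Y9Ju25
import Cfsg.Agent.Helper3.Fi23Y9Ju26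
import Cfsg.Agent.Helper3.Fi23Y9Ju27
import Cfsg.Agent.Helper3.Fi23Y9Ju28
import Cfsg.Agent.Helper3.Fi23Y9Ju29
import Cfsg.Agent.Helper3.Fi23Y9Ju30
import Cfsg.Agent.Helper3.Fi23Y9Ju31
import Cfsg.Agent.Helper3.Fi23Y9Ju32
import Cfsg.Agent.Helper3.Fi23Y9Ju33
import Cfsg.Agent.Helper3.Fi23Y9Ju34
import Cfsg.Agent.Helper3.Fi23Y9Ju35
import Cfsg.Agent.Helper3.Fi23Y9Ju36
import Cfsg.Agent.Helper3.Fi23Y9Ju37
import Cfsg.Agent.Helper3.Fi23Y9Ju38
import Cfsg.Agent.Helper3.Fi23Y9Ju39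
import Cfsg.Agent.Helper3.Fi23Y9Ju40
import Cfsg.Agent.Helper3.Fi23Y9Ju41
import Cfsg.Agent.Helper3.Fi23Y9Ju42
import Cfsg.Agent.Helper3.Fi23Y9Ju43
import Cfsg.Agent.Helper3.Fi23Y9Ju44
import Cfsg.Agent.Helper3.Fi23Y9Ju45
import Cfsg.Agent.Helper3.Fi23Y9Ju46
import Cfsg.Agent.Helper3.Fi23Y9Ju47
import Cfsg.Agent.Helper3.Fi23Y9Ju48
import Cfsg.Agent.Helper3.Fi23Y9Ju49
import Cfsg.Agent.Helper3.Fi23Y9Ju50
import Cfsg.Agent.Helper3.Fi23Y9Ju51
import Cfsg.Agent.Helper3.Fi23Y9Ju52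
import Cfsg.Agent.Helper3.Fi23Y9Ju53
import Cfsg.Agent.Helper3.Fi23Y9Ju54
import Cfsg.Agent.Helper3.Fi23Y9Ju55
import Cfsg.Agent.Helper3.Fi23Y9Ju56
import Cfsg.Agent.Helper3.Fi23Y9Ju57
import Cfsg.Agent.Helper3.Fi23Y9Ju58
import Cfsg.Agent.Helper3.Fi23Y9Ju59
import Cfsg.Agent.Helper3.Fi23Y9Ju60
import Cfsg.Agent.Helper3.Fi23Y9Ju61
import Cfsg.Agent.Helper3.Fi23Y9Ju62
import Cfsg.Agent.Helper3.Fi23Y9Ju63
import Cfsg.Agent.Helper3.Fi23Y9Ju64
import Cfsg.Agent.Helper3.Fi23Y9Ju65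
import Cfsg.Agent.Helper3.Fi23Y9Ju66
import Cfsg.Agent.Helper3.Fi23Y9Ju67
import Cfsg.Agent.Helper3.Fi23Y9Ju68
import Cfsg.Agent.Helper3.Fi23Y9Ju69
import Cfsg.Agent.Helper3.Fi23Y9Ju70
import Cfsg.Agent.Helper3.Fi23Y9Ju71
import Cfsg.Agent.Helper3.Fi23Y9Ju72
import Cfsg.Agent.Helper3.Fi23Y9Ju73
import Cfsg.Agent.Helper3.Fi23Y9Ju74
import Cfsg.Agent.Helper3.Fi23Y9Ju75
import Cfsg.Agent.Helper3.Fi23Y9Ju76
import Cfsg.Agent.Helper3.Fi23Y9Ju77
import Cfsg.Agent.Helper3.Fi23Y9Ju78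
import Cfsg.Agent.Helper3.Fi23Y9Ju79
import Cfsg.Agent.Helper3.Fi23Y9Ju80
import Cfsg.Agent.Helper3.Fi23Y9Ju81
import Cfsg.Agent.Helper3.Fi23Y9Ju82
import Cfsg.Agent.Helper3.Fi23Y9Ju83
import Cfsg.Agent.Helper3.Fi23Y9Ju84
import Cfsg.Agent.Helper3.Fi23Y9Ju85
import Cfsg.Agent.Helper3.Fi23Y9Ju86
import Cfsg.Agent.Helper3.Fi23Y9Ju87
import Cfsg.Agent.Helper3.Fi23Y9Ju88
import Cfsg.Agent.Helper3.Fi23Y9Ju89
import Cfsg.Agent.Helper3.Fi23Y9Ju90
import Cfsg.Agent.Helper3.Fi23Y9Ju91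
import Cfsg.Agent.Helper3.Fi23Y9Ju92
import Cfsg.Agent.Helper3.Fi23Y9Ju93
import Cfsg.Agent.Helper3.Fi23Y9Ju94
import Cfsg.Agent.Helper3.Fi23Y9Ju95
import Cfsg.Agent.Helper3.Fi23Y9Ju96
import Cfsg.Agent.Helper3.Fi23Y9Ju97
import Cfsg.Agent.Helper3.Fi23Y9Ju98
import Cfsg.Agent.Helper3.Fi23Y9Ju99
import Cfsg.Agent.Helper3.Fi23Y9Ju100
import Cfsg.Agent.Helper3.Fi23Y9Ju101
import Cfsg.Agent.Helper3.Fi23Y9Ju102
import Cfsg.Agent.Helper3.Fi23Y9Ju103
import Cfsg.Agent.Helper3.Fi23Y9Ju104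
import Cfsg.Agent.Helper3.Fi23Y9Ju105
import Cfsg.Agent.Helper3.Fi23Y9Ju106
import Cfsg.Agent.Helper3.Fi23Y9Ju107
import Cfsg.Agent.Helper3.Fi23Y9Ju108
import Cfsg.Agent.Helper3.Fi23Y9Tb0
import Cfsg.Agent.Helper3.Fi23Y9Tb1
import Cfsg.Agent.Helper3.Fi23Y9Tb2
import Cfsg.Agent.Helper3.Fi23Y9Tb3
import Cfsg.Agent.Helper3.Fi23Y9Tb4
import Cfsg.Agent.Helper3.Fi23Y9Tb5
import Cfsg.Agent.Helper3.Fi23Y9Tb6
import Cfsg.Agent.Helper3.Fi23Y9Tb7
import Cfsg.Agent.Helper3.Fi23Y9Tb8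
import Cfsg.Agent.Helper3.Fi23Y9Tb9
import Cfsg.Agent.Helper3.Fi23Y9Tb10
import Cfsg.Agent.Helper3.Fi23Y9Tb11
import Cfsg.Agent.Helper3.Fi23Y9Tb12
import Cfsg.Agent.Helper3.Fi23Y9Tb13
import Cfsg.Agent.Helper3.Fi23Y9Tb14
import Cfsg.Agent.Helper3.Fi23Y9Tb15
import Cfsg.Agent.Helper3.Fi23Y9Tb16
import Cfsg.Agent.Helper3.Fi23Y9Tb17
import Cfsg.Agent.Helper3.Fi23Y9Tb18
import Cfsg.Agent.Helper3.Fi23Y9Tb19
import Cfsg.Agent.Helper3.Fi23Y9Tb20
import Cfsg.Agent.Helper3.Fi23Y9Tb21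
import Cfsg.Agent.Helper3.Fi23Y9Tb22
import Cfsg.Agent.Helper3.Fi23Y9Tb23
import Cfsg.Agent.Helper3.Fi23Y9Tb24
import Cfsg.Agent.Helper3.Fi23Y9Tb25
import Cfsg.Agent.Helper3.Fi23Y9Tb26
import Cfsg.Agent.Helper3.Fi23Y9Tb27

/-! generated labelled Todd-Coxeter certificate, summary: Fi23Y9 -/

set_option autoImplicit false
set_option maxRecDepth 1000000

namespace Cfsg.Agent.Helper3.Fi23Y9
open Cfsg.Agent.Helper5.LTC Cfsg.Agent.Helper3.LTCW

theorem upto_0 : ∀ j, j < 0 → ∃ r, checkFactW cert j r = true := fun j hj => absurd hj (by omega)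

theorem upto_1 : ∀ j, j < 4000 → ∃ r, checkFactW cert j r = true :=
  upto_stepW cert upto_0 ju_0 4000 len_0 chk_0

theorem upto_2 : ∀ j, j < 8000 → ∃ r, checkFactW cert j r = true :=
  upto_stepW cert upto_1 ju_1 4000 len_1 chk_1

theorem upto_3 : ∀ j, j < 12000 → ∃ r, checkFactW cert j r = true :=
  upto_stepW cert upto_2 ju_2 4000 len_2 chk_2

theorem upto_4 : ∀ j, j < 16000 → ∃ r, checkFactW cert j r = true :=
  upto_stepW cert upto_3 ju_3 4000 len_3 chk_3

theorem upto_5 : ∀ j, j < 20000 → ∃ r, checkFactW cert j r = true :=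
  upto_stepW cert upto_4 ju_4 4000 len_4 chk_4

theorem upto_6 : ∀ j, j < 24000 → ∃ r, checkFactW cert j r = true :=
  upto_stepW cert upto_5 ju_5 4000 len_5 chk_5

theorem upto_7 : ∀ j, j < 28000 → ∃ r, checkFactW cert j r = true :=
  upto_stepW cert upto_6 ju_6 4000 len_6 chk_6

theorem upto_8 : ∀ j, j < 32000 → ∃ r, checkFactW cert j r = true :=
  upto_stepW cert upto_7 ju_7 4000 len_7 chk_7

theorem upto_9 : ∀ j, j < 36000 → ∃ r, checkFactW cert j r = true :=
  upto_stepW cert upto_8 ju_8 4000 len_8 chk_8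

theorem upto_10 : ∀ j, j < 40000 → ∃ r, checkFactW cert j r = true :=
  upto_stepW cert upto_9 ju_9 4000 len_9 chk_9

theorem upto_11 : ∀ j, j < 44000 → ∃ r, checkFactW cert j r = true :=
  upto_stepW cert upto_10 ju_10 4000 len_10 chk_10

theorem upto_12 : ∀ j, j < 48000 → ∃ r, checkFactW cert j r = true :=
  upto_stepW cert upto_11 ju_11 4000 len_11 chk_11

theorem upto_13 : ∀ j, j < 52000 → ∃ r, checkFactW cert j r = true :=
  upto_stepW cert upto_12 ju_12 4000 len_12 chk_12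

theorem upto_14 : ∀ j, j < 56000 → ∃ r, checkFactW cert j r = true :=
  upto_stepW cert upto_13 ju_13 4000 len_13 chk_13

theorem upto_15 : ∀ j, j < 60000 → ∃ r, checkFactW cert j r = true :=
  upto_stepW cert upto_14 ju_14 4000 len_14 chk_14

theorem upto_16 : ∀ j, j < 64000 → ∃ r, checkFactW cert j r = true :=
  upto_stepW cert upto_15 ju_15 4000 len_15 chk_15

theorem upto_17 : ∀ j, j < 68000 → ∃ r, checkFactW cert j r = true :=
  upto_stepW cert upto_16 ju_16 4000 len_16 chk_16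

theorem upto_18 : ∀ j, j < 72000 → ∃ r, checkFactW cert j r = true :=
  upto_stepW cert upto_17 ju_17 4000 len_17 chk_17

theorem upto_19 : ∀ j, j < 76000 → ∃ r, checkFactW cert j r = true :=
  upto_stepW cert upto_18 ju_18 4000 len_18 chk_18

theorem upto_20 : ∀ j, j < 80000 → ∃ r, checkFactW cert j r = true :=
  upto_stepW cert upto_19 ju_19 4000 len_19 chk_19

theorem upto_21 : ∀ j, j < 84000 → ∃ r, checkFactW cert j r = true :=
  upto_stepW cert upto_20 ju_20 4000 len_20 chk_20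

theorem upto_22 : ∀ j, j < 88000 → ∃ r, checkFactW cert j r = true :=
  upto_stepW cert upto_21 ju_21 4000 len_21 chk_21

theorem upto_23 : ∀ j, j < 92000 → ∃ r, checkFactW cert j r = true :=
  upto_stepW cert upto_22 ju_22 4000 len_22 chk_22

theorem upto_24 : ∀ j, j < 96000 → ∃ r, checkFactW cert j r = true :=
  upto_stepW cert upto_23 ju_23 4000 len_23 chk_23

theorem upto_25 : ∀ j, j < 100000 → ∃ r, checkFactW cert j r = true :=
  upto_stepW cert upto_24 ju_24 4000 len_24 chk_24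

theorem upto_26 : ∀ j, j < 104000 → ∃ r, checkFactW cert j r = true :=
  upto_stepW cert upto_25 ju_25 4000 len_25 chk_25

theorem upto_27 : ∀ j, j < 108000 → ∃ r, checkFactW cert j r = true :=
  upto_stepW cert upto_26 ju_26 4000 len_26 chk_26

theorem upto_28 : ∀ j, j < 112000 → ∃ r, checkFactW cert j r = true :=
  upto_stepW cert upto_27 ju_27 4000 len_27 chk_27

theorem upto_29 : ∀ j, j < 116000 → ∃ r, checkFactW cert j r = true :=
  upto_stepW cert upto_28 ju_28 4000 len_28 chk_28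

theorem upto_30 : ∀ j, j < 120000 → ∃ r, checkFactW cert j r = true :=
  upto_stepW cert upto_29 ju_29 4000 len_29 chk_29

theorem upto_31 : ∀ j, j < 124000 → ∃ r, checkFactW cert j r = true :=
  upto_stepW cert upto_30 ju_30 4000 len_30 chk_30

theorem upto_32 : ∀ j, j < 128000 → ∃ r, checkFactW cert j r = true :=
  upto_stepW cert upto_31 ju_31 4000 len_31 chk_31

theorem upto_33 : ∀ j, j < 132000 → ∃ r, checkFactW cert j r = true :=
  upto_stepW cert upto_32 ju_32 4000 len_32 chk_32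

theorem upto_34 : ∀ j, j < 136000 → ∃ r, checkFactW cert j r = true :=
  upto_stepW cert upto_33 ju_33 4000 len_33 chk_33

theorem upto_35 : ∀ j, j < 140000 → ∃ r, checkFactW cert j r = true :=
  upto_stepW cert upto_34 ju_34 4000 len_34 chk_34

theorem upto_36 : ∀ j, j < 144000 → ∃ r, checkFactW cert j r = true :=
  upto_stepW cert upto_35 ju_35 4000 len_35 chk_35

theorem upto_37 : ∀ j, j < 148000 → ∃ r, checkFactW cert j r = true :=
  upto_stepW cert upto_36 ju_36 4000 len_36 chk_36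

theorem upto_38 : ∀ j, j < 152000 → ∃ r, checkFactW cert j r = true :=
  upto_stepW cert upto_37 ju_37 4000 len_37 chk_37

theorem upto_39 : ∀ j, j < 156000 → ∃ r, checkFactW cert j r = true :=
  upto_stepW cert upto_38 ju_38 4000 len_38 chk_38

theorem upto_40 : ∀ j, j < 160000 → ∃ r, checkFactW cert j r = true :=
  upto_stepW cert upto_39 ju_39 4000 len_39 chk_39

theorem upto_41 : ∀ j, j < 164000 → ∃ r, checkFactW cert j r = true :=
  upto_stepW cert upto_40 ju_40 4000 len_40 chk_40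

theorem upto_42 : ∀ j, j < 168000 → ∃ r, checkFactW cert j r = true :=
  upto_stepW cert upto_41 ju_41 4000 len_41 chk_41

theorem upto_43 : ∀ j, j < 172000 → ∃ r, checkFactW cert j r = true :=
  upto_stepW cert upto_42 ju_42 4000 len_42 chk_42

theorem upto_44 : ∀ j, j < 176000 → ∃ r, checkFactW cert j r = true :=
  upto_stepW cert upto_43 ju_43 4000 len_43 chk_43

theorem upto_45 : ∀ j, j < 180000 → ∃ r, checkFactW cert j r = true :=
  upto_stepW cert upto_44 ju_44 4000 len_44 chk_44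

theorem upto_46 : ∀ j, j < 184000 → ∃ r, checkFactW cert j r = true :=
  upto_stepW cert upto_45 ju_45 4000 len_45 chk_45

theorem upto_47 : ∀ j, j < 188000 → ∃ r, checkFactW cert j r = true :=
  upto_stepW cert upto_46 ju_46 4000 len_46 chk_46

theorem upto_48 : ∀ j, j < 192000 → ∃ r, checkFactW cert j r = true :=
  upto_stepW cert upto_47 ju_47 4000 len_47 chk_47

theorem upto_49 : ∀ j, j < 196000 → ∃ r, checkFactW cert j r = true :=
  upto_stepW cert upto_48 ju_48 4000 len_48 chk_48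

theorem upto_50 : ∀ j, j < 200000 → ∃ r, checkFactW cert j r = true :=
  upto_stepW cert upto_49 ju_49 4000 len_49 chk_49

theorem upto_51 : ∀ j, j < 204000 → ∃ r, checkFactW cert j r = true :=
  upto_stepW cert upto_50 ju_50 4000 len_50 chk_50

theorem upto_52 : ∀ j, j < 208000 → ∃ r, checkFactW cert j r = true :=
  upto_stepW cert upto_51 ju_51 4000 len_51 chk_51

theorem upto_53 : ∀ j, j < 212000 → ∃ r, checkFactW cert j r = true :=
  upto_stepW cert upto_52 ju_52 4000 len_52 chk_52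

theorem upto_54 : ∀ j, j < 216000 → ∃ r, checkFactW cert j r = true :=
  upto_stepW cert upto_53 ju_53 4000 len_53 chk_53

theorem upto_55 : ∀ j, j < 220000 → ∃ r, checkFactW cert j r = true :=
  upto_stepW cert upto_54 ju_54 4000 len_54 chk_54

theorem upto_56 : ∀ j, j < 224000 → ∃ r, checkFactW cert j r = true :=
  upto_stepW cert upto_55 ju_55 4000 len_55 chk_55

theorem upto_57 : ∀ j, j < 228000 → ∃ r, checkFactW cert j r = true :=
  upto_stepW cert upto_56 ju_56 4000 len_56 chk_56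

theorem upto_58 : ∀ j, j < 232000 → ∃ r, checkFactW cert j r = true :=
  upto_stepW cert upto_57 ju_57 4000 len_57 chk_57

theorem upto_59 : ∀ j, j < 236000 → ∃ r, checkFactW cert j r = true :=
  upto_stepW cert upto_58 ju_58 4000 len_58 chk_58

theorem upto_60 : ∀ j, j < 240000 → ∃ r, checkFactW cert j r = true :=
  upto_stepW cert upto_59 ju_59 4000 len_59 chk_59

theorem upto_61 : ∀ j, j < 244000 → ∃ r, checkFactW cert j r = true :=
  upto_stepW cert upto_60 ju_60 4000 len_60 chk_60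

theorem upto_62 : ∀ j, j < 248000 → ∃ r, checkFactW cert j r = true :=
  upto_stepW cert upto_61 ju_61 4000 len_61 chk_61

theorem upto_63 : ∀ j, j < 252000 → ∃ r, checkFactW cert j r = true :=
  upto_stepW cert upto_62 ju_62 4000 len_62 chk_62

theorem upto_64 : ∀ j, j < 256000 → ∃ r, checkFactW cert j r = true :=
  upto_stepW cert upto_63 ju_63 4000 len_63 chk_63

theorem upto_65 : ∀ j, j < 260000 → ∃ r, checkFactW cert j r = true :=
  upto_stepW cert upto_64 ju_64 4000 len_64 chk_64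

theorem upto_66 : ∀ j, j < 264000 → ∃ r, checkFactW cert j r = true :=
  upto_stepW cert upto_65 ju_65 4000 len_65 chk_65

theorem upto_67 : ∀ j, j < 268000 → ∃ r, checkFactW cert j r = true :=
  upto_stepW cert upto_66 ju_66 4000 len_66 chk_66

theorem upto_68 : ∀ j, j < 272000 → ∃ r, checkFactW cert j r = true :=
  upto_stepW cert upto_67 ju_67 4000 len_67 chk_67

theorem upto_69 : ∀ j, j < 276000 → ∃ r, checkFactW cert j r = true :=
  upto_stepW cert upto_68 ju_68 4000 len_68 chk_68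

theorem upto_70 : ∀ j, j < 280000 → ∃ r, checkFactW cert j r = true :=
  upto_stepW cert upto_69 ju_69 4000 len_69 chk_69

theorem upto_71 : ∀ j, j < 284000 → ∃ r, checkFactW cert j r = true :=
  upto_stepW cert upto_70 ju_70 4000 len_70 chk_70

theorem upto_72 : ∀ j, j < 288000 → ∃ r, checkFactW cert j r = true :=
  upto_stepW cert upto_71 ju_71 4000 len_71 chk_71

theorem upto_73 : ∀ j, j < 292000 → ∃ r, checkFactW cert j r = true :=
  upto_stepW cert upto_72 ju_72 4000 len_72 chk_72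

theorem upto_74 : ∀ j, j < 296000 → ∃ r, checkFactW cert j r = true :=
  upto_stepW cert upto_73 ju_73 4000 len_73 chk_73

theorem upto_75 : ∀ j, j < 300000 → ∃ r, checkFactW cert j r = true :=
  upto_stepW cert upto_74 ju_74 4000 len_74 chk_74

theorem upto_76 : ∀ j, j < 304000 → ∃ r, checkFactW cert j r = true :=
  upto_stepW cert upto_75 ju_75 4000 len_75 chk_75

theorem upto_77 : ∀ j, j < 308000 → ∃ r, checkFactW cert j r = true :=
  upto_stepW cert upto_76 ju_76 4000 len_76 chk_76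

theorem upto_78 : ∀ j, j < 312000 → ∃ r, checkFactW cert j r = true :=
  upto_stepW cert upto_77 ju_77 4000 len_77 chk_77

theorem upto_79 : ∀ j, j < 316000 → ∃ r, checkFactW cert j r = true :=
  upto_stepW cert upto_78 ju_78 4000 len_78 chk_78

theorem upto_80 : ∀ j, j < 320000 → ∃ r, checkFactW cert j r = true :=
  upto_stepW cert upto_79 ju_79 4000 len_79 chk_79

theorem upto_81 : ∀ j, j < 324000 → ∃ r, checkFactW cert j r = true :=
  upto_stepW cert upto_80 ju_80 4000 len_80 chk_80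

theorem upto_82 : ∀ j, j < 328000 → ∃ r, checkFactW cert j r = true :=
  upto_stepW cert upto_81 ju_81 4000 len_81 chk_81

theorem upto_83 : ∀ j, j < 332000 → ∃ r, checkFactW cert j r = true :=
  upto_stepW cert upto_82 ju_82 4000 len_82 chk_82

theorem upto_84 : ∀ j, j < 336000 → ∃ r, checkFactW cert j r = true :=
  upto_stepW cert upto_83 ju_83 4000 len_83 chk_83

theorem upto_85 : ∀ j, j < 340000 → ∃ r, checkFactW cert j r = true :=
  upto_stepW cert upto_84 ju_84 4000 len_84 chk_84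

theorem upto_86 : ∀ j, j < 344000 → ∃ r, checkFactW cert j r = true :=
  upto_stepW cert upto_85 ju_85 4000 len_85 chk_85

theorem upto_87 : ∀ j, j < 348000 → ∃ r, checkFactW cert j r = true :=
  upto_stepW cert upto_86 ju_86 4000 len_86 chk_86

theorem upto_88 : ∀ j, j < 352000 → ∃ r, checkFactW cert j r = true :=
  upto_stepW cert upto_87 ju_87 4000 len_87 chk_87

theorem upto_89 : ∀ j, j < 356000 → ∃ r, checkFactW cert j r = true :=
  upto_stepW cert upto_88 ju_88 4000 len_88 chk_88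

theorem upto_90 : ∀ j, j < 360000 → ∃ r, checkFactW cert j r = true :=
  upto_stepW cert upto_89 ju_89 4000 len_89 chk_89

theorem upto_91 : ∀ j, j < 364000 → ∃ r, checkFactW cert j r = true :=
  upto_stepW cert upto_90 ju_90 4000 len_90 chk_90

theorem upto_92 : ∀ j, j < 368000 → ∃ r, checkFactW cert j r = true :=
  upto_stepW cert upto_91 ju_91 4000 len_91 chk_91

theorem upto_93 : ∀ j, j < 372000 → ∃ r, checkFactW cert j r = true :=
  upto_stepW cert upto_92 ju_92 4000 len_92 chk_92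

theorem upto_94 : ∀ j, j < 376000 → ∃ r, checkFactW cert j r = true :=
  upto_stepW cert upto_93 ju_93 4000 len_93 chk_93

theorem upto_95 : ∀ j, j < 380000 → ∃ r, checkFactW cert j r = true :=
  upto_stepW cert upto_94 ju_94 4000 len_94 chk_94

theorem upto_96 : ∀ j, j < 384000 → ∃ r, checkFactW cert j r = true :=
  upto_stepW cert upto_95 ju_95 4000 len_95 chk_95

theorem upto_97 : ∀ j, j < 388000 → ∃ r, checkFactW cert j r = true :=
  upto_stepW cert upto_96 ju_96 4000 len_96 chk_96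

theorem upto_98 : ∀ j, j < 392000 → ∃ r, checkFactW cert j r = true :=
  upto_stepW cert upto_97 ju_97 4000 len_97 chk_97

theorem upto_99 : ∀ j, j < 396000 → ∃ r, checkFactW cert j r = true :=
  upto_stepW cert upto_98 ju_98 4000 len_98 chk_98

theorem upto_100 : ∀ j, j < 400000 → ∃ r, checkFactW cert j r = true :=
  upto_stepW cert upto_99 ju_99 4000 len_99 chk_99

theorem upto_101 : ∀ j, j < 404000 → ∃ r, checkFactW cert j r = true :=
  upto_stepW cert upto_100 ju_100 4000 len_100 chk_100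

theorem upto_102 : ∀ j, j < 408000 → ∃ r, checkFactW cert j r = true :=
  upto_stepW cert upto_101 ju_101 4000 len_101 chk_101

theorem upto_103 : ∀ j, j < 412000 → ∃ r, checkFactW cert j r = true :=
  upto_stepW cert upto_102 ju_102 4000 len_102 chk_102

theorem upto_104 : ∀ j, j < 416000 → ∃ r, checkFactW cert j r = true :=
  upto_stepW cert upto_103 ju_103 4000 len_103 chk_103

theorem upto_105 : ∀ j, j < 420000 → ∃ r, checkFactW cert j r = true :=
  upto_stepW cert upto_104 ju_104 4000 len_104 chk_104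

theorem upto_106 : ∀ j, j < 424000 → ∃ r, checkFactW cert j r = true :=
  upto_stepW cert upto_105 ju_105 4000 len_105 chk_105

theorem upto_107 : ∀ j, j < 428000 → ∃ r, checkFactW cert j r = true :=
  upto_stepW cert upto_106 ju_106 4000 len_106 chk_106

theorem upto_108 : ∀ j, j < 432000 → ∃ r, checkFactW cert j r = true :=
  upto_stepW cert upto_107 ju_107 4000 len_107 chk_107

theorem upto_109 : ∀ j, j < 432151 → ∃ r, checkFactW cert j r = true :=
  upto_stepW cert upto_108 ju_108 151 len_108 chk_108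

theorem hchk : ∀ j, j < cert.nf → ∃ r, checkFactW cert j r = true := upto_109

theorem rowsto_0 : ∀ n, n < 0 → ∀ x, x < cert.k → tabEntryOKW cert tab n x = true :=
  fun n hn => absurd hn (by omega)

theorem rowsto_1 : ∀ n, n < 1024 → ∀ x, x < cert.k → tabEntryOKW cert tab n x = true :=
  rows_stepW cert tab rowsto_0 1024 rows_0

theorem rowsto_2 : ∀ n, n < 2048 → ∀ x, x < cert.k → tabEntryOKW cert tab n x = true :=
  rows_stepW cert tab rowsto_1 1024 rows_1

theorem rowsto_3 : ∀ n, n < 3072 → ∀ x, x < cert.k → tabEntryOKW cert tab n x = true :=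
  rows_stepW cert tab rowsto_2 1024 rows_2

theorem rowsto_4 : ∀ n, n < 4096 → ∀ x, x < cert.k → tabEntryOKW cert tab n x = true :=
  rows_stepW cert tab rowsto_3 1024 rows_3

theorem rowsto_5 : ∀ n, n < 5120 → ∀ x, x < cert.k → tabEntryOKW cert tab n x = true :=
  rows_stepW cert tab rowsto_4 1024 rows_4

theorem rowsto_6 : ∀ n, n < 6144 → ∀ x, x < cert.k → tabEntryOKW cert tab n x = true :=
  rows_stepW cert tab rowsto_5 1024 rows_5

theorem rowsto_7 : ∀ n, n < 7168 → ∀ x, x < cert.k → tabEntryOKW cert tab n x = true :=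
  rows_stepW cert tab rowsto_6 1024 rows_6

theorem rowsto_8 : ∀ n, n < 8192 → ∀ x, x < cert.k → tabEntryOKW cert tab n x = true :=
  rows_stepW cert tab rowsto_7 1024 rows_7

theorem rowsto_9 : ∀ n, n < 9216 → ∀ x, x < cert.k → tabEntryOKW cert tab n x = true :=
  rows_stepW cert tab rowsto_8 1024 rows_8

theorem rowsto_10 : ∀ n, n < 10240 → ∀ x, x < cert.k → tabEntryOKW cert tab n x = true :=
  rows_stepW cert tab rowsto_9 1024 rows_9

theorem rowsto_11 : ∀ n, n < 11264 → ∀ x, x < cert.k → tabEntryOKW cert tab n x = true :=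
  rows_stepW cert tab rowsto_10 1024 rows_10

theorem rowsto_12 : ∀ n, n < 12288 → ∀ x, x < cert.k → tabEntryOKW cert tab n x = true :=
  rows_stepW cert tab rowsto_11 1024 rows_11

theorem rowsto_13 : ∀ n, n < 13312 → ∀ x, x < cert.k → tabEntryOKW cert tab n x = true :=
  rows_stepW cert tab rowsto_12 1024 rows_12

theorem rowsto_14 : ∀ n, n < 14336 → ∀ x, x < cert.k → tabEntryOKW cert tab n x = true :=
  rows_stepW cert tab rowsto_13 1024 rows_13

theorem rowsto_15 : ∀ n, n < 15360 → ∀ x, x < cert.k → tabEntryOKW cert tab n x = true :=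
  rows_stepW cert tab rowsto_14 1024 rows_14

theorem rowsto_16 : ∀ n, n < 16384 → ∀ x, x < cert.k → tabEntryOKW cert tab n x = true :=
  rows_stepW cert tab rowsto_15 1024 rows_15

theorem rowsto_17 : ∀ n, n < 17408 → ∀ x, x < cert.k → tabEntryOKW cert tab n x = true :=
  rows_stepW cert tab rowsto_16 1024 rows_16

theorem rowsto_18 : ∀ n, n < 18432 → ∀ x, x < cert.k → tabEntryOKW cert tab n x = true :=
  rows_stepW cert tab rowsto_17 1024 rows_17

theorem rowsto_19 : ∀ n, n < 19456 → ∀ x, x < cert.k → tabEntryOKW cert tab n x = true :=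
  rows_stepW cert tab rowsto_18 1024 rows_18

theorem rowsto_20 : ∀ n, n < 20480 → ∀ x, x < cert.k → tabEntryOKW cert tab n x = true :=
  rows_stepW cert tab rowsto_19 1024 rows_19

theorem rowsto_21 : ∀ n, n < 21504 → ∀ x, x < cert.k → tabEntryOKW cert tab n x = true :=
  rows_stepW cert tab rowsto_20 1024 rows_20

theorem rowsto_22 : ∀ n, n < 22528 → ∀ x, x < cert.k → tabEntryOKW cert tab n x = true :=
  rows_stepW cert tab rowsto_21 1024 rows_21

theorem rowsto_23 : ∀ n, n < 23552 → ∀ x, x < cert.k → tabEntryOKW cert tab n x = true :=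
  rows_stepW cert tab rowsto_22 1024 rows_22

theorem rowsto_24 : ∀ n, n < 24576 → ∀ x, x < cert.k → tabEntryOKW cert tab n x = true :=
  rows_stepW cert tab rowsto_23 1024 rows_23

theorem rowsto_25 : ∀ n, n < 25600 → ∀ x, x < cert.k → tabEntryOKW cert tab n x = true :=
  rows_stepW cert tab rowsto_24 1024 rows_24

theorem rowsto_26 : ∀ n, n < 26624 → ∀ x, x < cert.k → tabEntryOKW cert tab n x = true :=
  rows_stepW cert tab rowsto_25 1024 rows_25

theorem rowsto_27 : ∀ n, n < 27648 → ∀ x, x < cert.k → tabEntryOKW cert tab n x = true :=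
  rows_stepW cert tab rowsto_26 1024 rows_26

theorem rowsto_28 : ∀ n, n < 28431 → ∀ x, x < cert.k → tabEntryOKW cert tab n x = true :=
  rows_stepW cert tab rowsto_27 783 rows_27

theorem hT : ∀ n, n < tab.N → ∀ x, x < cert.k → tabEntryOKW cert tab n x = true := rowsto_28

theorem hjs : ∀ j ∈ js, relFactOKW cert j = true := by decide +kernel

theorem h0 : ordOKW cert js cs0 0 1 = true := by decide +kernel

theorem hgs : ∀ i, i < 1 → genOKW cert js (css.getD i []) i 0 (as_.getD i 0) = true := by decide +kernel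

end Cfsg.Agent.Helper3.Fi23Y9
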