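import Mathlib

/-!
# The covering presentations for the odd part of the Schur multiplier of `Fi₂₃`: the words

Generators (involutions) in the order `d, e, f, h, c, i, g, j, b, a` of the nodes of the Coxeter graph `Y₃₄₂`
(letter `2 i` is the `i`-th of them).  `EXn` lists the relators involving the `n`-th generator and earlier
ones: the Coxeter relators, preceded for `n = 9` by the tenth power of the spider word and for `n = 10` by the
ninth power of the Coxeter element of `E₇`; `CCn` lists all the relators on the first `n` generators.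
-/

set_option autoImplicit false

namespace Cfsg.Agent.Helper3.Fi23Y

/-- all generators are involutions. -/
def mm : ℕ → ℕ := fun _ => 2

/-- no relators on one generator. -/
def CC1 : List (List ℕ) := []

/-- the relators involving the generator number 1 and earlier ones. -/
def EX2 : List (List ℕ) := [[0, 2, 0, 2, 0, 2]]

/-- the relators on the first 2 generators. -/
def CC2 : List (List ℕ) := EX2 ++ CC1

/-- the relators involving the generator number 2 and earlier ones. -/
def EX3 : List (List ℕ) := [[0, 4, 0, 4], [2, 4, 2, 4, 2, 4]]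

/-- the relators on the first 3 generators. -/
def CC3 : List (List ℕ) := EX3 ++ CC2

/-- the relators involving the generator number 3 and earlier ones. -/
def EX4 : List (List ℕ) := [[0, 6, 0, 6, 0, 6], [2, 6, 2, 6], [6, 4, 6, 4]]

/-- the relators on the first 4 generators. -/
def CC4 : List (List ℕ) := EX4 ++ CC3

/-- the relators involving the generator number 4 and earlier ones. -/
def EX5 : List (List ℕ) := [[8, 0, 8, 0, 8, 0], [8, 2, 8, 2], [8, 6, 8, 6], [8, 4, 8, 4]]

/-- the relators on the first 5 generators. -/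
def CC5 : List (List ℕ) := EX5 ++ CC4

/-- the relators involving the generator number 5 and earlier ones. -/
def EX6 : List (List ℕ) := [[8, 10, 8, 10], [0, 10, 0, 10], [2, 10, 2, 10], [6, 10, 6, 10, 6, 10], [10, 4, 10, 4]]

/-- the relators on the first 6 generators. -/
def CC6 : List (List ℕ) := EX6 ++ CC5

/-- the relators involving the generator number 6 and earlier ones. -/
def EX7 : List (List ℕ) := [[8, 12, 8, 12], [0, 12, 0, 12], [2, 12, 2, 12], [6, 12, 6, 12], [10, 12, 10, 12], [4, 12, 4, 12, 4, 12]]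

/-- the relators on the first 7 generators. -/
def CC7 : List (List ℕ) := EX7 ++ CC6

/-- the relators involving the generator number 7 and earlier ones. -/
def EX8 : List (List ℕ) := [[8, 14, 8, 14], [0, 14, 0, 14], [2, 14, 2, 14], [6, 14, 6, 14], [10, 14, 10, 14], [4, 14, 4, 14], [12, 14, 12, 14, 12, 14]]

/-- the relators on the first 8 generators. -/
def CC8 : List (List ℕ) := EX8 ++ CC7

/-- the relators involving the generator number 8 and earlier ones. -/
def EX9 : List (List ℕ) := [[0, 8, 16, 0, 2, 4, 0, 6, 10, 0, 8, 16, 0, 2, 4, 0, 6, 10, 0, 8, 16, 0, 2, 4, 0, 6, 10, 0, 8, 16, 0, 2, 4, 0, 6, 10, 0, 8, 16, 0, 2, 4, 0, 6, 10, 0, 8, 16, 0, 2, 4, 0, 6, 10, 0, 8, 16, 0, 2, 4, 0, 6, 10, 0, 8, 16, 0, 2, 4, 0, 6, 10, 0, 8, 16, 0, 2, 4, 0, 6, 10, 0, 8, 16, 0, 2, 4, 0, 6, 10], [16, 8, 16, 8, 16, 8], [16, 0, 16, 0], [16, 2, 16, 2], [16, 6, 16, 6], [16, 10, 16, 10], [16, 4, 16, 4], [16, 12, 16, 12], [16, 14, 16, 14]]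

/-- the relators on the first 9 generators. -/
def CC9 : List (List ℕ) := EX9 ++ CC8

/-- the relators involving the generator number 9 and earlier ones. -/
def EX10 : List (List ℕ) := [[18, 16, 8, 0, 2, 4, 6, 18, 16, 8, 0, 2, 4, 6, 18, 16, 8, 0, 2, 4, 6, 18, 16, 8, 0, 2, 4, 6, 18, 16, 8, 0, 2, 4, 6, 18, 16, 8, 0, 2, 4, 6, 18, 16, 8, 0, 2, 4, 6, 18, 16, 8, 0, 2, 4, 6, 18, 16, 8, 0, 2, 4, 6], [16, 18, 16, 18, 16, 18], [8, 18, 8, 18], [0, 18, 0, 18], [2, 18, 2, 18], [6, 18, 6, 18], [10, 18, 10, 18], [4, 18, 4, 18], [12, 18, 12, 18], [18, 14, 18, 14]]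

/-- the relators on the first 10 generators. -/
def CC10 : List (List ℕ) := EX10 ++ CC9

end Cfsg.Agent.Helper3.Fi23Y
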