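import Mathlib
import Cfsg.Agent.Helper3.Fi23YDefs
import Cfsg.Agent.Helper3.Fi23Y2Sum
import Cfsg.Agent.Helper3.Fi23Y3Sum
import Cfsg.Agent.Helper3.Fi23Y4Sum
import Cfsg.Agent.Helper3.Fi23Y5Sum
import Cfsg.Agent.Helper3.Fi23Y6Sum
import Cfsg.Agent.Helper3.Fi23Y7Sum
import Cfsg.Agent.Helper3.Fi23Y8Sum
import Cfsg.Agent.Helper3.Fi23Y9Sum
import Cfsg.Agent.Helper3.TowerW
import Cfsg.Agent.Helper3.CoxCov

/-!
# The covering group of odd exponent of the group `Y₄₂₂`: the order bound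

The group `Y₄₂₂` is generated by nine involutions `d, e, f, h, c, i, g, j, b` forming the Coxeter graph with
centre `d` and arms `d – c – b`, `d – e – f – g – j`, `d – h – i`, subject to the Coxeter relations and the spider
relation `(d c b d e f d h i)^10 = 1`.  Its covering group of exponent `15` (the relators central, of order
dividing `15`) is bounded by labelled Todd–Coxeter certificates over the tower of Coxeter groups
`A₁ < A₂ < A₃ < A₄ < D₅ < E₆ < E₇ < E₈ < Y₄₂₂` (`3, 4, 5, 16, 27, 56, 240, 28431` cosets): it has order at most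
`2 * 3 * 4 * 5 * 16 * 27 * 56 * 240 * 28431 = 19808719257600`.  The Coxeter relators are trivial in the covering
groups (`CoxCov.zC_cox_eq_one`), so only the spider word carries a label.
-/

set_option autoImplicit false

namespace Cfsg.Agent.Helper3.Fi23Y

open Cfsg Cfsg.Agent.Helper5.StemP Cfsg.Agent.Helper5.LP Cfsg.Agent.Helper5.LTC
  Cfsg.Agent.Helper3.TowerW Cfsg.Agent.Helper3.LTC64 Cfsg.Agent.Helper3.LTCW Cfsg.Agent.Helper3.CoxCov
  Cfsg.Agent.Helper4.Tower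

theorem EX2_lt : ∀ r ∈ EX2, ∀ c ∈ r, c < 2 * 2 := by decide

theorem EX3_lt : ∀ r ∈ EX3, ∀ c ∈ r, c < 2 * 3 := by decide

theorem EX4_lt : ∀ r ∈ EX4, ∀ c ∈ r, c < 2 * 4 := by decide

theorem EX5_lt : ∀ r ∈ EX5, ∀ c ∈ r, c < 2 * 5 := by decide

theorem EX6_lt : ∀ r ∈ EX6, ∀ c ∈ r, c < 2 * 6 := by decide

theorem EX7_lt : ∀ r ∈ EX7, ∀ c ∈ r, c < 2 * 7 := by decide

theorem EX8_lt : ∀ r ∈ EX8, ∀ c ∈ r, c < 2 * 8 := by decide

theorem EX9_lt : ∀ r ∈ EX9, ∀ c ∈ r, c < 2 * 9 := by decide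

theorem EX10_lt : ∀ r ∈ EX10, ∀ c ∈ r, c < 2 * 10 := by decide

theorem CC1_lt : ∀ r ∈ CC1, ∀ c ∈ r, c < 2 * 1 := by simp [CC1]

theorem CC2_lt : ∀ r ∈ CC2, ∀ c ∈ r, c < 2 * 2 := by
  intro r hr c hc
  rcases List.mem_append.mp hr with h | h
  · exact EX2_lt r h c hc
  · have := CC1_lt r h c hc
    omega

theorem CC3_lt : ∀ r ∈ CC3, ∀ c ∈ r, c < 2 * 3 := by
  intro r hr c hc
  rcases List.mem_append.mp hr with h | h
  · exact EX3_lt r h c hc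
  · have := CC2_lt r h c hc
    omega

theorem CC4_lt : ∀ r ∈ CC4, ∀ c ∈ r, c < 2 * 4 := by
  intro r hr c hc
  rcases List.mem_append.mp hr with h | h
  · exact EX4_lt r h c hc
  · have := CC3_lt r h c hc
    omega

theorem CC5_lt : ∀ r ∈ CC5, ∀ c ∈ r, c < 2 * 5 := by
  intro r hr c hc
  rcases List.mem_append.mp hr with h | h
  · exact EX5_lt r h c hc
  · have := CC4_lt r h c hc
    omega

theorem CC6_lt : ∀ r ∈ CC6, ∀ c ∈ r, c < 2 * 6 := by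
  intro r hr c hc
  rcases List.mem_append.mp hr with h | h
  · exact EX6_lt r h c hc
  · have := CC5_lt r h c hc
    omega

theorem CC7_lt : ∀ r ∈ CC7, ∀ c ∈ r, c < 2 * 7 := by
  intro r hr c hc
  rcases List.mem_append.mp hr with h | h
  · exact EX7_lt r h c hc
  · have := CC6_lt r h c hc
    omega

theorem CC8_lt : ∀ r ∈ CC8, ∀ c ∈ r, c < 2 * 8 := by
  intro r hr c hc
  rcases List.mem_append.mp hr with h | h
  · exact EX8_lt r h c hc
  · have := CC7_lt r h c hc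
    omega

theorem CC9_lt : ∀ r ∈ CC9, ∀ c ∈ r, c < 2 * 9 := by
  intro r hr c hc
  rcases List.mem_append.mp hr with h | h
  · exact EX9_lt r h c hc
  · have := CC8_lt r h c hc
    omega

theorem CC10_lt : ∀ r ∈ CC10, ∀ c ∈ r, c < 2 * 10 := by
  intro r hr c hc
  rcases List.mem_append.mp hr with h | h
  · exact EX10_lt r h c hc
  · have := CC9_lt r h c hc
    omega

/-! ### level 2 -/

theorem triv_2 : ∀ i, 0 ≤ i → i < EX2.length →
    zC 2 mm (EX2 ++ CC1) (EX2 ++ CC1) 15 i = 1 := by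
  intro i h1 h2
  have h2' : i < 1 := h2
  interval_cases i
  · exact zC_cox_eq_one 2 mm (EX2 ++ CC1) 15 CC2_lt (by rfl) 0 1 3 0 (by norm_num) (by norm_num) rfl rfl (by rfl)

theorem words_lt_2 : ∀ wi, ∀ c ∈ Fi23Y2.cert.W wi, c < 2 * 2 := by
  intro wi c hc
  have h : ∀ w ∈ Fi23Y2.words, ∀ c ∈ w, c < 4 := by decide +kernel
  change c ∈ Fi23Y2.words.getD wi [] at hc
  by_cases hwi : wi < Fi23Y2.words.length
  · rw [List.getD_eq_getElem _ _ hwi] at hc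
    exact h _ (List.getElem_mem hwi) c hc
  · rw [List.getD_eq_default _ _ (by omega)] at hc
    simp at hc

set_option maxRecDepth 1000000 in
theorem wordOK_2 : ∀ wi, wi < Fi23Y2.cert.nrel →
    wordOK3 (coverRels 2 mm (EX2 ++ CC1) (EX2 ++ CC1) 15) (EX2 ++ CC1) 0
      (Fi23Y2.cert.W wi) (Fi23Y2.cert.δ wi) (Fi23Y2.origs.getD wi 0) = true := by decide +kernel

theorem subW_2 : ∀ wi, Fi23Y2.cert.nrel ≤ wi → wi < Fi23Y2.cert.nw →
    ∃ c, c < 2 * 1 ∧ Fi23Y2.cert.W wi = [c] := by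
  intro wi h1 h2
  have h1' : 9 ≤ wi := h1
  have h2' : wi < 10 := h2
  interval_cases wi
  · exact ⟨0, by norm_num, by decide +kernel⟩

theorem card_2 : Finite (CovG 2 mm CC2 CC2 15) ∧ Nat.card (CovG 2 mm CC2 CC2 15) ≤ 6 := by
  have h := stepW0 1 2 mm CC1 EX2 15 (by norm_num) CC1_lt EX2_lt (by norm_num) (fun i hi => triv_2 i (Nat.zero_le _) hi) 2 (base mm 15 (by decide))
    Fi23Y2.cert rfl rfl rfl words_lt_2 (fun wi => Fi23Y2.origs.getD wi 0) wordOK_2 subW_2 Fi23Y2.hchk Fi23Y2.tab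
    (by decide +kernel) (by decide) Fi23Y2.hT
  have hN : Fi23Y2.tab.N = 3 := rfl
  rw [hN] at h
  refine ⟨h.1, h.2.trans ?_⟩
  norm_num

/-! ### level 3 -/

theorem triv_3 : ∀ i, 0 ≤ i → i < EX3.length →
    zC 3 mm (EX3 ++ CC2) (EX3 ++ CC2) 15 i = 1 := by
  intro i h1 h2
  have h2' : i < 2 := h2
  interval_cases i
  · exact zC_cox_eq_one 3 mm (EX3 ++ CC2) 15 CC3_lt (by rfl) 0 2 2 0 (by norm_num) (by norm_num) rfl rfl (by rfl)
  · exact zC_cox_eq_one 3 mm (EX3 ++ CC2) 15 CC3_lt (by rfl) 1 2 3 1 (by norm_num) (by norm_num) rfl rfl (by rfl)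

theorem words_lt_3 : ∀ wi, ∀ c ∈ Fi23Y3.cert.W wi, c < 2 * 3 := by
  intro wi c hc
  have h : ∀ w ∈ Fi23Y3.words, ∀ c ∈ w, c < 6 := by decide +kernel
  change c ∈ Fi23Y3.words.getD wi [] at hc
  by_cases hwi : wi < Fi23Y3.words.length
  · rw [List.getD_eq_getElem _ _ hwi] at hc
    exact h _ (List.getElem_mem hwi) c hc
  · rw [List.getD_eq_default _ _ (by omega)] at hc
    simp at hc

set_option maxRecDepth 1000000 in
theorem wordOK_3 : ∀ wi, wi < Fi23Y3.cert.nrel →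
    wordOK3 (coverRels 3 mm (EX3 ++ CC2) (EX3 ++ CC2) 15) (EX3 ++ CC2) 0
      (Fi23Y3.cert.W wi) (Fi23Y3.cert.δ wi) (Fi23Y3.origs.getD wi 0) = true := by decide +kernel

theorem subW_3 : ∀ wi, Fi23Y3.cert.nrel ≤ wi → wi < Fi23Y3.cert.nw →
    ∃ c, c < 2 * 2 ∧ Fi23Y3.cert.W wi = [c] := by
  intro wi h1 h2
  have h1' : 16 ≤ wi := h1
  have h2' : wi < 18 := h2
  interval_cases wi
  · exact ⟨0, by norm_num, by decide +kernel⟩
  · exact ⟨2, by norm_num, by decide +kernel⟩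

theorem card_3 : Finite (CovG 3 mm CC3 CC3 15) ∧ Nat.card (CovG 3 mm CC3 CC3 15) ≤ 24 := by
  have h := stepW0 2 3 mm CC2 EX3 15 (by norm_num) CC2_lt EX3_lt (by norm_num) (fun i hi => triv_3 i (Nat.zero_le _) hi) 6 card_2
    Fi23Y3.cert rfl rfl rfl words_lt_3 (fun wi => Fi23Y3.origs.getD wi 0) wordOK_3 subW_3 Fi23Y3.hchk Fi23Y3.tab
    (by decide +kernel) (by decide) Fi23Y3.hT
  have hN : Fi23Y3.tab.N = 4 := rfl
  rw [hN] at h
  refine ⟨h.1, h.2.trans ?_⟩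
  norm_num

/-! ### level 4 -/

theorem triv_4 : ∀ i, 0 ≤ i → i < EX4.length →
    zC 4 mm (EX4 ++ CC3) (EX4 ++ CC3) 15 i = 1 := by
  intro i h1 h2
  have h2' : i < 3 := h2
  interval_cases i
  · exact zC_cox_eq_one 4 mm (EX4 ++ CC3) 15 CC4_lt (by rfl) 0 3 3 0 (by norm_num) (by norm_num) rfl rfl (by rfl)
  · exact zC_cox_eq_one 4 mm (EX4 ++ CC3) 15 CC4_lt (by rfl) 1 3 2 1 (by norm_num) (by norm_num) rfl rfl (by rfl)
  · exact zC_cox_eq_one 4 mm (EX4 ++ CC3) 15 CC4_lt (by rfl) 3 2 2 2 (by norm_num) (by norm_num) rfl rfl (by rfl)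

theorem words_lt_4 : ∀ wi, ∀ c ∈ Fi23Y4.cert.W wi, c < 2 * 4 := by
  intro wi c hc
  have h : ∀ w ∈ Fi23Y4.words, ∀ c ∈ w, c < 8 := by decide +kernel
  change c ∈ Fi23Y4.words.getD wi [] at hc
  by_cases hwi : wi < Fi23Y4.words.length
  · rw [List.getD_eq_getElem _ _ hwi] at hc
    exact h _ (List.getElem_mem hwi) c hc
  · rw [List.getD_eq_default _ _ (by omega)] at hc
    simp at hc

set_option maxRecDepth 1000000 in
theorem wordOK_4 : ∀ wi, wi < Fi23Y4.cert.nrel →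
    wordOK3 (coverRels 4 mm (EX4 ++ CC3) (EX4 ++ CC3) 15) (EX4 ++ CC3) 0
      (Fi23Y4.cert.W wi) (Fi23Y4.cert.δ wi) (Fi23Y4.origs.getD wi 0) = true := by decide +kernel

theorem subW_4 : ∀ wi, Fi23Y4.cert.nrel ≤ wi → wi < Fi23Y4.cert.nw →
    ∃ c, c < 2 * 3 ∧ Fi23Y4.cert.W wi = [c] := by
  intro wi h1 h2
  have h1' : 25 ≤ wi := h1
  have h2' : wi < 28 := h2
  interval_cases wi
  · exact ⟨0, by norm_num, by decide +kernel⟩
  · exact ⟨2, by norm_num, by decide +kernel⟩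
  · exact ⟨4, by norm_num, by decide +kernel⟩

theorem card_4 : Finite (CovG 4 mm CC4 CC4 15) ∧ Nat.card (CovG 4 mm CC4 CC4 15) ≤ 120 := by
  have h := stepW0 3 4 mm CC3 EX4 15 (by norm_num) CC3_lt EX4_lt (by norm_num) (fun i hi => triv_4 i (Nat.zero_le _) hi) 24 card_3
    Fi23Y4.cert rfl rfl rfl words_lt_4 (fun wi => Fi23Y4.origs.getD wi 0) wordOK_4 subW_4 Fi23Y4.hchk Fi23Y4.tab
    (by decide +kernel) (by decide) Fi23Y4.hT
  have hN : Fi23Y4.tab.N = 5 := rfl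
  rw [hN] at h
  refine ⟨h.1, h.2.trans ?_⟩
  norm_num

/-! ### level 5 -/

theorem triv_5 : ∀ i, 0 ≤ i → i < EX5.length →
    zC 5 mm (EX5 ++ CC4) (EX5 ++ CC4) 15 i = 1 := by
  intro i h1 h2
  have h2' : i < 4 := h2
  interval_cases i
  · exact zC_cox_eq_one 5 mm (EX5 ++ CC4) 15 CC5_lt (by rfl) 4 0 3 0 (by norm_num) (by norm_num) rfl rfl (by rfl)
  · exact zC_cox_eq_one 5 mm (EX5 ++ CC4) 15 CC5_lt (by rfl) 4 1 2 1 (by norm_num) (by norm_num) rfl rfl (by rfl)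
  · exact zC_cox_eq_one 5 mm (EX5 ++ CC4) 15 CC5_lt (by rfl) 4 3 2 2 (by norm_num) (by norm_num) rfl rfl (by rfl)
  · exact zC_cox_eq_one 5 mm (EX5 ++ CC4) 15 CC5_lt (by rfl) 4 2 2 3 (by norm_num) (by norm_num) rfl rfl (by rfl)

theorem words_lt_5 : ∀ wi, ∀ c ∈ Fi23Y5.cert.W wi, c < 2 * 5 := by
  intro wi c hc
  have h : ∀ w ∈ Fi23Y5.words, ∀ c ∈ w, c < 10 := by decide +kernel
  change c ∈ Fi23Y5.words.getD wi [] at hc
  by_cases hwi : wi < Fi23Y5.words.length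
  · rw [List.getD_eq_getElem _ _ hwi] at hc
    exact h _ (List.getElem_mem hwi) c hc
  · rw [List.getD_eq_default _ _ (by omega)] at hc
    simp at hc

set_option maxRecDepth 1000000 in
theorem wordOK_5 : ∀ wi, wi < Fi23Y5.cert.nrel →
    wordOK3 (coverRels 5 mm (EX5 ++ CC4) (EX5 ++ CC4) 15) (EX5 ++ CC4) 0
      (Fi23Y5.cert.W wi) (Fi23Y5.cert.δ wi) (Fi23Y5.origs.getD wi 0) = true := by decide +kernel

theorem subW_5 : ∀ wi, Fi23Y5.cert.nrel ≤ wi → wi < Fi23Y5.cert.nw →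
    ∃ c, c < 2 * 4 ∧ Fi23Y5.cert.W wi = [c] := by
  intro wi h1 h2
  have h1' : 36 ≤ wi := h1
  have h2' : wi < 40 := h2
  interval_cases wi
  · exact ⟨0, by norm_num, by decide +kernel⟩
  · exact ⟨2, by norm_num, by decide +kernel⟩
  · exact ⟨4, by norm_num, by decide +kernel⟩
  · exact ⟨6, by norm_num, by decide +kernel⟩

theorem card_5 : Finite (CovG 5 mm CC5 CC5 15) ∧ Nat.card (CovG 5 mm CC5 CC5 15) ≤ 1920 := by
  have h := stepW0 4 5 mm CC4 EX5 15 (by norm_num) CC4_lt EX5_lt (by norm_num) (fun i hi => triv_5 i (Nat.zero_le _) hi) 120 card_4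
    Fi23Y5.cert rfl rfl rfl words_lt_5 (fun wi => Fi23Y5.origs.getD wi 0) wordOK_5 subW_5 Fi23Y5.hchk Fi23Y5.tab
    (by decide +kernel) (by decide) Fi23Y5.hT
  have hN : Fi23Y5.tab.N = 16 := rfl
  rw [hN] at h
  refine ⟨h.1, h.2.trans ?_⟩
  norm_num

/-! ### level 6 -/

theorem triv_6 : ∀ i, 0 ≤ i → i < EX6.length →
    zC 6 mm (EX6 ++ CC5) (EX6 ++ CC5) 15 i = 1 := by
  intro i h1 h2
  have h2' : i < 5 := h2
  interval_cases i
  · exact zC_cox_eq_one 6 mm (EX6 ++ CC5) 15 CC6_lt (by rfl) 4 5 2 0 (by norm_num) (by norm_num) rfl rfl (by rfl)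
  · exact zC_cox_eq_one 6 mm (EX6 ++ CC5) 15 CC6_lt (by rfl) 0 5 2 1 (by norm_num) (by norm_num) rfl rfl (by rfl)
  · exact zC_cox_eq_one 6 mm (EX6 ++ CC5) 15 CC6_lt (by rfl) 1 5 2 2 (by norm_num) (by norm_num) rfl rfl (by rfl)
  · exact zC_cox_eq_one 6 mm (EX6 ++ CC5) 15 CC6_lt (by rfl) 3 5 3 3 (by norm_num) (by norm_num) rfl rfl (by rfl)
  · exact zC_cox_eq_one 6 mm (EX6 ++ CC5) 15 CC6_lt (by rfl) 5 2 2 4 (by norm_num) (by norm_num) rfl rfl (by rfl)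

theorem words_lt_6 : ∀ wi, ∀ c ∈ Fi23Y6.cert.W wi, c < 2 * 6 := by
  intro wi c hc
  have h : ∀ w ∈ Fi23Y6.words, ∀ c ∈ w, c < 12 := by decide +kernel
  change c ∈ Fi23Y6.words.getD wi [] at hc
  by_cases hwi : wi < Fi23Y6.words.length
  · rw [List.getD_eq_getElem _ _ hwi] at hc
    exact h _ (List.getElem_mem hwi) c hc
  · rw [List.getD_eq_default _ _ (by omega)] at hc
    simp at hc

set_option maxRecDepth 1000000 in
theorem wordOK_6 : ∀ wi, wi < Fi23Y6.cert.nrel →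
    wordOK3 (coverRels 6 mm (EX6 ++ CC5) (EX6 ++ CC5) 15) (EX6 ++ CC5) 0
      (Fi23Y6.cert.W wi) (Fi23Y6.cert.δ wi) (Fi23Y6.origs.getD wi 0) = true := by decide +kernel

theorem subW_6 : ∀ wi, Fi23Y6.cert.nrel ≤ wi → wi < Fi23Y6.cert.nw →
    ∃ c, c < 2 * 5 ∧ Fi23Y6.cert.W wi = [c] := by
  intro wi h1 h2
  have h1' : 49 ≤ wi := h1
  have h2' : wi < 54 := h2
  interval_cases wi
  · exact ⟨0, by norm_num, by decide +kernel⟩
  · exact ⟨2, by norm_num, by decide +kernel⟩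
  · exact ⟨4, by norm_num, by decide +kernel⟩
  · exact ⟨6, by norm_num, by decide +kernel⟩
  · exact ⟨8, by norm_num, by decide +kernel⟩

theorem card_6 : Finite (CovG 6 mm CC6 CC6 15) ∧ Nat.card (CovG 6 mm CC6 CC6 15) ≤ 51840 := by
  have h := stepW0 5 6 mm CC5 EX6 15 (by norm_num) CC5_lt EX6_lt (by norm_num) (fun i hi => triv_6 i (Nat.zero_le _) hi) 1920 card_5
    Fi23Y6.cert rfl rfl rfl words_lt_6 (fun wi => Fi23Y6.origs.getD wi 0) wordOK_6 subW_6 Fi23Y6.hchk Fi23Y6.tab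
    (by decide +kernel) (by decide) Fi23Y6.hT
  have hN : Fi23Y6.tab.N = 27 := rfl
  rw [hN] at h
  refine ⟨h.1, h.2.trans ?_⟩
  norm_num

/-! ### level 7 -/

theorem triv_7 : ∀ i, 0 ≤ i → i < EX7.length →
    zC 7 mm (EX7 ++ CC6) (EX7 ++ CC6) 15 i = 1 := by
  intro i h1 h2
  have h2' : i < 6 := h2
  interval_cases i
  · exact zC_cox_eq_one 7 mm (EX7 ++ CC6) 15 CC7_lt (by rfl) 4 6 2 0 (by norm_num) (by norm_num) rfl rfl (by rfl)
  · exact zC_cox_eq_one 7 mm (EX7 ++ CC6) 15 CC7_lt (by rfl) 0 6 2 1 (by norm_num) (by norm_num) rfl rfl (by rfl)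
  · exact zC_cox_eq_one 7 mm (EX7 ++ CC6) 15 CC7_lt (by rfl) 1 6 2 2 (by norm_num) (by norm_num) rfl rfl (by rfl)
  · exact zC_cox_eq_one 7 mm (EX7 ++ CC6) 15 CC7_lt (by rfl) 3 6 2 3 (by norm_num) (by norm_num) rfl rfl (by rfl)
  · exact zC_cox_eq_one 7 mm (EX7 ++ CC6) 15 CC7_lt (by rfl) 5 6 2 4 (by norm_num) (by norm_num) rfl rfl (by rfl)
  · exact zC_cox_eq_one 7 mm (EX7 ++ CC6) 15 CC7_lt (by rfl) 2 6 3 5 (by norm_num) (by norm_num) rfl rfl (by rfl)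

theorem words_lt_7 : ∀ wi, ∀ c ∈ Fi23Y7.cert.W wi, c < 2 * 7 := by
  intro wi c hc
  have h : ∀ w ∈ Fi23Y7.words, ∀ c ∈ w, c < 14 := by decide +kernel
  change c ∈ Fi23Y7.words.getD wi [] at hc
  by_cases hwi : wi < Fi23Y7.words.length
  · rw [List.getD_eq_getElem _ _ hwi] at hc
    exact h _ (List.getElem_mem hwi) c hc
  · rw [List.getD_eq_default _ _ (by omega)] at hc
    simp at hc

set_option maxRecDepth 1000000 in
theorem wordOK_7 : ∀ wi, wi < Fi23Y7.cert.nrel →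
    wordOK3 (coverRels 7 mm (EX7 ++ CC6) (EX7 ++ CC6) 15) (EX7 ++ CC6) 0
      (Fi23Y7.cert.W wi) (Fi23Y7.cert.δ wi) (Fi23Y7.origs.getD wi 0) = true := by decide +kernel

theorem subW_7 : ∀ wi, Fi23Y7.cert.nrel ≤ wi → wi < Fi23Y7.cert.nw →
    ∃ c, c < 2 * 6 ∧ Fi23Y7.cert.W wi = [c] := by
  intro wi h1 h2
  have h1' : 64 ≤ wi := h1
  have h2' : wi < 70 := h2
  interval_cases wi
  · exact ⟨0, by norm_num, by decide +kernel⟩
  · exact ⟨2, by norm_num, by decide +kernel⟩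
  · exact ⟨4, by norm_num, by decide +kernel⟩
  · exact ⟨6, by norm_num, by decide +kernel⟩
  · exact ⟨8, by norm_num, by decide +kernel⟩
  · exact ⟨10, by norm_num, by decide +kernel⟩

theorem card_7 : Finite (CovG 7 mm CC7 CC7 15) ∧ Nat.card (CovG 7 mm CC7 CC7 15) ≤ 2903040 := by
  have h := stepW0 6 7 mm CC6 EX7 15 (by norm_num) CC6_lt EX7_lt (by norm_num) (fun i hi => triv_7 i (Nat.zero_le _) hi) 51840 card_6
    Fi23Y7.cert rfl rfl rfl words_lt_7 (fun wi => Fi23Y7.origs.getD wi 0) wordOK_7 subW_7 Fi23Y7.hchk Fi23Y7.tab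
    (by decide +kernel) (by decide) Fi23Y7.hT
  have hN : Fi23Y7.tab.N = 56 := rfl
  rw [hN] at h
  refine ⟨h.1, h.2.trans ?_⟩
  norm_num

/-! ### level 8 -/

theorem triv_8 : ∀ i, 0 ≤ i → i < EX8.length →
    zC 8 mm (EX8 ++ CC7) (EX8 ++ CC7) 15 i = 1 := by
  intro i h1 h2
  have h2' : i < 7 := h2
  interval_cases i
  · exact zC_cox_eq_one 8 mm (EX8 ++ CC7) 15 CC8_lt (by rfl) 4 7 2 0 (by norm_num) (by norm_num) rfl rfl (by rfl)
  · exact zC_cox_eq_one 8 mm (EX8 ++ CC7) 15 CC8_lt (by rfl) 0 7 2 1 (by norm_num) (by norm_num) rfl rfl (by rfl)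
  · exact zC_cox_eq_one 8 mm (EX8 ++ CC7) 15 CC8_lt (by rfl) 1 7 2 2 (by norm_num) (by norm_num) rfl rfl (by rfl)
  · exact zC_cox_eq_one 8 mm (EX8 ++ CC7) 15 CC8_lt (by rfl) 3 7 2 3 (by norm_num) (by norm_num) rfl rfl (by rfl)
  · exact zC_cox_eq_one 8 mm (EX8 ++ CC7) 15 CC8_lt (by rfl) 5 7 2 4 (by norm_num) (by norm_num) rfl rfl (by rfl)
  · exact zC_cox_eq_one 8 mm (EX8 ++ CC7) 15 CC8_lt (by rfl) 2 7 2 5 (by norm_num) (by norm_num) rfl rfl (by rfl)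
  · exact zC_cox_eq_one 8 mm (EX8 ++ CC7) 15 CC8_lt (by rfl) 6 7 3 6 (by norm_num) (by norm_num) rfl rfl (by rfl)

theorem words_lt_8 : ∀ wi, ∀ c ∈ Fi23Y8.cert.W wi, c < 2 * 8 := by
  intro wi c hc
  have h : ∀ w ∈ Fi23Y8.words, ∀ c ∈ w, c < 16 := by decide +kernel
  change c ∈ Fi23Y8.words.getD wi [] at hc
  by_cases hwi : wi < Fi23Y8.words.length
  · rw [List.getD_eq_getElem _ _ hwi] at hc
    exact h _ (List.getElem_mem hwi) c hc
  · rw [List.getD_eq_default _ _ (by omega)] at hc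
    simp at hc

set_option maxRecDepth 1000000 in
theorem wordOK_8 : ∀ wi, wi < Fi23Y8.cert.nrel →
    wordOK3 (coverRels 8 mm (EX8 ++ CC7) (EX8 ++ CC7) 15) (EX8 ++ CC7) 0
      (Fi23Y8.cert.W wi) (Fi23Y8.cert.δ wi) (Fi23Y8.origs.getD wi 0) = true := by decide +kernel

theorem subW_8 : ∀ wi, Fi23Y8.cert.nrel ≤ wi → wi < Fi23Y8.cert.nw →
    ∃ c, c < 2 * 7 ∧ Fi23Y8.cert.W wi = [c] := by
  intro wi h1 h2
  have h1' : 81 ≤ wi := h1
  have h2' : wi < 88 := h2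
  interval_cases wi
  · exact ⟨0, by norm_num, by decide +kernel⟩
  · exact ⟨2, by norm_num, by decide +kernel⟩
  · exact ⟨4, by norm_num, by decide +kernel⟩
  · exact ⟨6, by norm_num, by decide +kernel⟩
  · exact ⟨8, by norm_num, by decide +kernel⟩
  · exact ⟨10, by norm_num, by decide +kernel⟩
  · exact ⟨12, by norm_num, by decide +kernel⟩

theorem card_8 : Finite (CovG 8 mm CC8 CC8 15) ∧ Nat.card (CovG 8 mm CC8 CC8 15) ≤ 696729600 := by
  have h := stepW0 7 8 mm CC7 EX8 15 (by norm_num) CC7_lt EX8_lt (by norm_num) (fun i hi => triv_8 i (Nat.zero_le _) hi) 2903040 card_7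
    Fi23Y8.cert rfl rfl rfl words_lt_8 (fun wi => Fi23Y8.origs.getD wi 0) wordOK_8 subW_8 Fi23Y8.hchk Fi23Y8.tab
    (by decide +kernel) (by decide) Fi23Y8.hT
  have hN : Fi23Y8.tab.N = 240 := rfl
  rw [hN] at h
  refine ⟨h.1, h.2.trans ?_⟩
  norm_num

/-! ### level 9 -/

theorem triv_9 : ∀ i, 1 ≤ i → i < EX9.length →
    zC 9 mm (EX9 ++ CC8) (EX9 ++ CC8) 15 i = 1 := by
  intro i h1 h2
  have h2' : i < 9 := h2
  interval_cases i
  · exact zC_cox_eq_one 9 mm (EX9 ++ CC8) 15 CC9_lt (by rfl) 8 4 3 1 (by norm_num) (by norm_num) rfl rfl (by rfl)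
  · exact zC_cox_eq_one 9 mm (EX9 ++ CC8) 15 CC9_lt (by rfl) 8 0 2 2 (by norm_num) (by norm_num) rfl rfl (by rfl)
  · exact zC_cox_eq_one 9 mm (EX9 ++ CC8) 15 CC9_lt (by rfl) 8 1 2 3 (by norm_num) (by norm_num) rfl rfl (by rfl)
  · exact zC_cox_eq_one 9 mm (EX9 ++ CC8) 15 CC9_lt (by rfl) 8 3 2 4 (by norm_num) (by norm_num) rfl rfl (by rfl)
  · exact zC_cox_eq_one 9 mm (EX9 ++ CC8) 15 CC9_lt (by rfl) 8 5 2 5 (by norm_num) (by norm_num) rfl rfl (by rfl)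
  · exact zC_cox_eq_one 9 mm (EX9 ++ CC8) 15 CC9_lt (by rfl) 8 2 2 6 (by norm_num) (by norm_num) rfl rfl (by rfl)
  · exact zC_cox_eq_one 9 mm (EX9 ++ CC8) 15 CC9_lt (by rfl) 8 6 2 7 (by norm_num) (by norm_num) rfl rfl (by rfl)
  · exact zC_cox_eq_one 9 mm (EX9 ++ CC8) 15 CC9_lt (by rfl) 8 7 2 8 (by norm_num) (by norm_num) rfl rfl (by rfl)

theorem words_lt_9 : ∀ wi, ∀ c ∈ Fi23Y9.cert.W wi, c < 2 * 9 := by
  intro wi c hc
  have h : ∀ w ∈ Fi23Y9.words, ∀ c ∈ w, c < 18 := by decide +kernel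
  change c ∈ Fi23Y9.words.getD wi [] at hc
  by_cases hwi : wi < Fi23Y9.words.length
  · rw [List.getD_eq_getElem _ _ hwi] at hc
    exact h _ (List.getElem_mem hwi) c hc
  · rw [List.getD_eq_default _ _ (by omega)] at hc
    simp at hc

set_option maxRecDepth 1000000 in
theorem wordOK_9 : ∀ wi, wi < Fi23Y9.cert.nrel →
    wordOK3 (coverRels 9 mm (EX9 ++ CC8) (EX9 ++ CC8) 15) (EX9 ++ CC8) 1
      (Fi23Y9.cert.W wi) (Fi23Y9.cert.δ wi) (Fi23Y9.origs.getD wi 0) = true := by decide +kernel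

theorem subW_9 : ∀ wi, Fi23Y9.cert.nrel ≤ wi → wi < Fi23Y9.cert.nw →
    ∃ c, c < 2 * 8 ∧ Fi23Y9.cert.W wi = [c] := by
  intro wi h1 h2
  have h1' : 109 ≤ wi := h1
  have h2' : wi < 117 := h2
  interval_cases wi
  · exact ⟨0, by norm_num, by decide +kernel⟩
  · exact ⟨2, by norm_num, by decide +kernel⟩
  · exact ⟨4, by norm_num, by decide +kernel⟩
  · exact ⟨6, by norm_num, by decide +kernel⟩
  · exact ⟨8, by norm_num, by decide +kernel⟩
  · exact ⟨10, by norm_num, by decide +kernel⟩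
  · exact ⟨12, by norm_num, by decide +kernel⟩
  · exact ⟨14, by norm_num, by decide +kernel⟩

theorem card_9 : Finite (CovG 9 mm CC9 CC9 15) ∧ Nat.card (CovG 9 mm CC9 CC9 15) ≤ 19808719257600 := by
  have h := stepW 8 9 mm CC8 EX9 15 (by norm_num) CC8_lt EX9_lt (by norm_num) 1 (by norm_num) triv_9 696729600 card_8
    Fi23Y9.cert rfl rfl rfl words_lt_9 (fun wi => Fi23Y9.origs.getD wi 0) wordOK_9 subW_9 Fi23Y9.hchk Fi23Y9.tab
    (by decide +kernel) (by decide) Fi23Y9.hT Fi23Y9.js Fi23Y9.hjs 0 1 (by norm_num) (by norm_num) Fi23Y9.cs0 Fi23Y9.h0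
    (fun i => Fi23Y9.as_.getD i 0) (fun i => Fi23Y9.css.getD i []) Fi23Y9.hgs
  have hN : Fi23Y9.tab.N = 28431 := rfl
  rw [hN] at h
  refine ⟨h.1, h.2.trans ?_⟩
  norm_num

end Cfsg.Agent.Helper3.Fi23Y
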