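import Mathlib
import Cfsg.Agent.Helper3.Fi23YCov
import Cfsg.Agent.Helper3.Fi23QSum
import Cfsg.Agent.Helper5.LPE
import Cfsg.Agent.Helper5.LPI
import Cfsg.Agent.Helper5.LTCM

/-!
# The spider relator in the covering group of `Y₄₂₂`

The covering group of exponent 15 on the nine generators `d, e, f, h, c, i, g, j, b` (Coxeter graph
`Y₄₂₂`, with the tenth power of the spider word) has order at most `19808719257600` (`Fi23Y.card_9`)
and acts on the 2160 root vectors of the orthogonal space of dimension 8 over the field with three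
elements, the image having this order (a stabiliser chain): the action is faithful, and the spider
relator, which fixes all the points, is trivial in the covering group.
-/

set_option autoImplicit false

namespace Cfsg.Agent.Helper3.Fi23Y

open Cfsg Cfsg.Agent.Helper5 Cfsg.Agent.Helper5.StemP Cfsg.Agent.Helper5.LP Cfsg.Agent.Helper5.LTC

theorem CC9_2lt : ∀ r ∈ CC9 ++ CC9, ∀ c ∈ r, c < 2 * 9 := by
  intro r hr
  rcases List.mem_append.mp hr with h | h <;> exact CC9_lt r h

theorem letters_Q : LettersLt (2 * 9) (coverRels 9 mm CC9 CC9 15) :=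
  coverRels_lt 9 mm CC9 CC9 15 CC9_2lt

set_option maxRecDepth 1000000 in
theorem spider_fix : fixRange Fi23Q.mT (CC9.getD 0 []) 2160 0 = true := by decide +kernel

/-- **the spider relator is trivial in the covering group of `Y₄₂₂`.** -/
theorem spider_P9 : zC 9 mm CC9 CC9 15 0 = 1 := by
  haveI : Finite (CovG 9 mm CC9 CC9 15) := card_9.1
  have hA := actsOn_tableHomI LTC.linv_linv (fun x hx => linv_lt hx) letters_Q Fi23Q.tableOK
    Fi23Q.relsFix
  have hinj := injective_of_chain hA Fi23Q.levelQs Fi23Q.chainQ_ok
    (by rw [Fi23Q.chainQ_prod]; exact card_9.2)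
  exact eq_one_of_fix hA hinj _ (CC9_lt _ (by decide)) spider_fix

end Cfsg.Agent.Helper3.Fi23Y
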