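import Mathlib
import Cfsg.Agent.Helper3.Fi23QCov
import Cfsg.Agent.Helper3.Fi23E7
import Cfsg.Agent.Helper5.Fi23Iso
import Cfsg.Agent.Helper5.StemPL
import Cfsg.Agent.Helper5.StemPM
import Cfsg.Agent.Helper5.StemPC
import Cfsg.Agent.Helper5.StemPH
import Cfsg.Agent.Helper4.Tower
import Cfsg.Agent.Helper3.Schur

/-!
# The odd part of the Schur multiplier of `Fi₂₃` is trivial

In the covering group of exponent 15 of the presentation of `Fi₂₃` on the Coxeter generators of `Y₃₄₂` all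
the central words are trivial: the Coxeter relators because the generators are involutions
(`CoxCov.zC_cox_eq_one`), the relator of `E₇` because a Coxeter element is conjugate to its inverse
(`Fi23E7.e7_central_pow_sq`), the spider relator by the covering group of `Y₄₂₂` (`spider_P9`).  So the
covering group is a quotient of the presented group, the kernels of the stem extensions have no elements
of order 3 or 5, and the Sylow subgroups for the larger primes are cyclic.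
-/

set_option autoImplicit false

namespace Cfsg.Agent.Helper3.Fi23Y

open Cfsg Cfsg.Agent.Helper5 Cfsg.Agent.Helper5.StemP Cfsg.Agent.Helper5.LP Cfsg.Agent.Helper5.LTC
  Cfsg.Agent.Helper3.CoxCov Cfsg.Agent.Helper4.Tower
open Cfsg.Agent.Helper5.Fi23LP (R10)

theorem CC10_2lt : ∀ r ∈ CC10 ++ CC10, ∀ c ∈ r, c < 2 * 10 := by
  intro r hr
  rcases List.mem_append.mp hr with h | h <;> exact CC10_lt r h

/-- the generators of the covering group. -/
noncomputable def x (i : ℕ) : CovG 10 mm CC10 CC10 15 := cgen 10 mm CC10 CC10 15 i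

theorem x_eq (i : ℕ) : x i = ev (2 * 10) (coverRels 10 mm CC10 CC10 15) [2 * i] := rfl

theorem x_sq (i : ℕ) (hi : i < 10) : x i * x i = 1 := by
  have h := cgen_pow 10 mm CC10 CC10 15 (i := i) hi
  have h2 : mm i = 2 := rfl
  rw [h2, pow_two] at h
  exact h

/-! ### the Coxeter relators -/

theorem zc_1 : zC 10 mm CC10 CC10 15 1 = 1 :=
  zC_cox_eq_one 10 mm CC10 15 CC10_lt (by rfl) 8 9 3 1 (by norm_num) (by norm_num) rfl rfl (by rfl)

theorem zc_2 : zC 10 mm CC10 CC10 15 2 = 1 :=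
  zC_cox_eq_one 10 mm CC10 15 CC10_lt (by rfl) 4 9 2 2 (by norm_num) (by norm_num) rfl rfl (by rfl)

theorem zc_3 : zC 10 mm CC10 CC10 15 3 = 1 :=
  zC_cox_eq_one 10 mm CC10 15 CC10_lt (by rfl) 0 9 2 3 (by norm_num) (by norm_num) rfl rfl (by rfl)

theorem zc_4 : zC 10 mm CC10 CC10 15 4 = 1 :=
  zC_cox_eq_one 10 mm CC10 15 CC10_lt (by rfl) 1 9 2 4 (by norm_num) (by norm_num) rfl rfl (by rfl)

theorem zc_5 : zC 10 mm CC10 CC10 15 5 = 1 :=
  zC_cox_eq_one 10 mm CC10 15 CC10_lt (by rfl) 3 9 2 5 (by norm_num) (by norm_num) rfl rfl (by rfl)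

theorem zc_6 : zC 10 mm CC10 CC10 15 6 = 1 :=
  zC_cox_eq_one 10 mm CC10 15 CC10_lt (by rfl) 5 9 2 6 (by norm_num) (by norm_num) rfl rfl (by rfl)

theorem zc_7 : zC 10 mm CC10 CC10 15 7 = 1 :=
  zC_cox_eq_one 10 mm CC10 15 CC10_lt (by rfl) 2 9 2 7 (by norm_num) (by norm_num) rfl rfl (by rfl)

theorem zc_8 : zC 10 mm CC10 CC10 15 8 = 1 :=
  zC_cox_eq_one 10 mm CC10 15 CC10_lt (by rfl) 6 9 2 8 (by norm_num) (by norm_num) rfl rfl (by rfl)

theorem zc_9 : zC 10 mm CC10 CC10 15 9 = 1 :=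
  zC_cox_eq_one 10 mm CC10 15 CC10_lt (by rfl) 9 7 2 9 (by norm_num) (by norm_num) rfl rfl (by rfl)

theorem zc_11 : zC 10 mm CC10 CC10 15 11 = 1 :=
  zC_cox_eq_one 10 mm CC10 15 CC10_lt (by rfl) 8 4 3 11 (by norm_num) (by norm_num) rfl rfl (by rfl)

theorem zc_12 : zC 10 mm CC10 CC10 15 12 = 1 :=
  zC_cox_eq_one 10 mm CC10 15 CC10_lt (by rfl) 8 0 2 12 (by norm_num) (by norm_num) rfl rfl (by rfl)

theorem zc_13 : zC 10 mm CC10 CC10 15 13 = 1 :=
  zC_cox_eq_one 10 mm CC10 15 CC10_lt (by rfl) 8 1 2 13 (by norm_num) (by norm_num) rfl rfl (by rfl)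

theorem zc_14 : zC 10 mm CC10 CC10 15 14 = 1 :=
  zC_cox_eq_one 10 mm CC10 15 CC10_lt (by rfl) 8 3 2 14 (by norm_num) (by norm_num) rfl rfl (by rfl)

theorem zc_15 : zC 10 mm CC10 CC10 15 15 = 1 :=
  zC_cox_eq_one 10 mm CC10 15 CC10_lt (by rfl) 8 5 2 15 (by norm_num) (by norm_num) rfl rfl (by rfl)

theorem zc_16 : zC 10 mm CC10 CC10 15 16 = 1 :=
  zC_cox_eq_one 10 mm CC10 15 CC10_lt (by rfl) 8 2 2 16 (by norm_num) (by norm_num) rfl rfl (by rfl)

theorem zc_17 : zC 10 mm CC10 CC10 15 17 = 1 :=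
  zC_cox_eq_one 10 mm CC10 15 CC10_lt (by rfl) 8 6 2 17 (by norm_num) (by norm_num) rfl rfl (by rfl)

theorem zc_18 : zC 10 mm CC10 CC10 15 18 = 1 :=
  zC_cox_eq_one 10 mm CC10 15 CC10_lt (by rfl) 8 7 2 18 (by norm_num) (by norm_num) rfl rfl (by rfl)

theorem zc_19 : zC 10 mm CC10 CC10 15 19 = 1 :=
  zC_cox_eq_one 10 mm CC10 15 CC10_lt (by rfl) 4 7 2 19 (by norm_num) (by norm_num) rfl rfl (by rfl)

theorem zc_20 : zC 10 mm CC10 CC10 15 20 = 1 :=
  zC_cox_eq_one 10 mm CC10 15 CC10_lt (by rfl) 0 7 2 20 (by norm_num) (by norm_num) rfl rfl (by rfl)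

theorem zc_21 : zC 10 mm CC10 CC10 15 21 = 1 :=
  zC_cox_eq_one 10 mm CC10 15 CC10_lt (by rfl) 1 7 2 21 (by norm_num) (by norm_num) rfl rfl (by rfl)

theorem zc_22 : zC 10 mm CC10 CC10 15 22 = 1 :=
  zC_cox_eq_one 10 mm CC10 15 CC10_lt (by rfl) 3 7 2 22 (by norm_num) (by norm_num) rfl rfl (by rfl)

theorem zc_23 : zC 10 mm CC10 CC10 15 23 = 1 :=
  zC_cox_eq_one 10 mm CC10 15 CC10_lt (by rfl) 5 7 2 23 (by norm_num) (by norm_num) rfl rfl (by rfl)

theorem zc_24 : zC 10 mm CC10 CC10 15 24 = 1 :=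
  zC_cox_eq_one 10 mm CC10 15 CC10_lt (by rfl) 2 7 2 24 (by norm_num) (by norm_num) rfl rfl (by rfl)

theorem zc_25 : zC 10 mm CC10 CC10 15 25 = 1 :=
  zC_cox_eq_one 10 mm CC10 15 CC10_lt (by rfl) 6 7 3 25 (by norm_num) (by norm_num) rfl rfl (by rfl)

theorem zc_26 : zC 10 mm CC10 CC10 15 26 = 1 :=
  zC_cox_eq_one 10 mm CC10 15 CC10_lt (by rfl) 4 6 2 26 (by norm_num) (by norm_num) rfl rfl (by rfl)

theorem zc_27 : zC 10 mm CC10 CC10 15 27 = 1 :=
  zC_cox_eq_one 10 mm CC10 15 CC10_lt (by rfl) 0 6 2 27 (by norm_num) (by norm_num) rfl rfl (by rfl)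

theorem zc_28 : zC 10 mm CC10 CC10 15 28 = 1 :=
  zC_cox_eq_one 10 mm CC10 15 CC10_lt (by rfl) 1 6 2 28 (by norm_num) (by norm_num) rfl rfl (by rfl)

theorem zc_29 : zC 10 mm CC10 CC10 15 29 = 1 :=
  zC_cox_eq_one 10 mm CC10 15 CC10_lt (by rfl) 3 6 2 29 (by norm_num) (by norm_num) rfl rfl (by rfl)

theorem zc_30 : zC 10 mm CC10 CC10 15 30 = 1 :=
  zC_cox_eq_one 10 mm CC10 15 CC10_lt (by rfl) 5 6 2 30 (by norm_num) (by norm_num) rfl rfl (by rfl)

theorem zc_31 : zC 10 mm CC10 CC10 15 31 = 1 :=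
  zC_cox_eq_one 10 mm CC10 15 CC10_lt (by rfl) 2 6 3 31 (by norm_num) (by norm_num) rfl rfl (by rfl)

theorem zc_32 : zC 10 mm CC10 CC10 15 32 = 1 :=
  zC_cox_eq_one 10 mm CC10 15 CC10_lt (by rfl) 4 5 2 32 (by norm_num) (by norm_num) rfl rfl (by rfl)

theorem zc_33 : zC 10 mm CC10 CC10 15 33 = 1 :=
  zC_cox_eq_one 10 mm CC10 15 CC10_lt (by rfl) 0 5 2 33 (by norm_num) (by norm_num) rfl rfl (by rfl)

theorem zc_34 : zC 10 mm CC10 CC10 15 34 = 1 :=
  zC_cox_eq_one 10 mm CC10 15 CC10_lt (by rfl) 1 5 2 34 (by norm_num) (by norm_num) rfl rfl (by rfl)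

theorem zc_35 : zC 10 mm CC10 CC10 15 35 = 1 :=
  zC_cox_eq_one 10 mm CC10 15 CC10_lt (by rfl) 3 5 3 35 (by norm_num) (by norm_num) rfl rfl (by rfl)

theorem zc_36 : zC 10 mm CC10 CC10 15 36 = 1 :=
  zC_cox_eq_one 10 mm CC10 15 CC10_lt (by rfl) 5 2 2 36 (by norm_num) (by norm_num) rfl rfl (by rfl)

theorem zc_37 : zC 10 mm CC10 CC10 15 37 = 1 :=
  zC_cox_eq_one 10 mm CC10 15 CC10_lt (by rfl) 4 0 3 37 (by norm_num) (by norm_num) rfl rfl (by rfl)

theorem zc_38 : zC 10 mm CC10 CC10 15 38 = 1 :=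
  zC_cox_eq_one 10 mm CC10 15 CC10_lt (by rfl) 4 1 2 38 (by norm_num) (by norm_num) rfl rfl (by rfl)

theorem zc_39 : zC 10 mm CC10 CC10 15 39 = 1 :=
  zC_cox_eq_one 10 mm CC10 15 CC10_lt (by rfl) 4 3 2 39 (by norm_num) (by norm_num) rfl rfl (by rfl)

theorem zc_40 : zC 10 mm CC10 CC10 15 40 = 1 :=
  zC_cox_eq_one 10 mm CC10 15 CC10_lt (by rfl) 4 2 2 40 (by norm_num) (by norm_num) rfl rfl (by rfl)

theorem zc_41 : zC 10 mm CC10 CC10 15 41 = 1 :=
  zC_cox_eq_one 10 mm CC10 15 CC10_lt (by rfl) 0 3 3 41 (by norm_num) (by norm_num) rfl rfl (by rfl)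

theorem zc_42 : zC 10 mm CC10 CC10 15 42 = 1 :=
  zC_cox_eq_one 10 mm CC10 15 CC10_lt (by rfl) 1 3 2 42 (by norm_num) (by norm_num) rfl rfl (by rfl)

theorem zc_43 : zC 10 mm CC10 CC10 15 43 = 1 :=
  zC_cox_eq_one 10 mm CC10 15 CC10_lt (by rfl) 3 2 2 43 (by norm_num) (by norm_num) rfl rfl (by rfl)

theorem zc_44 : zC 10 mm CC10 CC10 15 44 = 1 :=
  zC_cox_eq_one 10 mm CC10 15 CC10_lt (by rfl) 0 2 2 44 (by norm_num) (by norm_num) rfl rfl (by rfl)

theorem zc_45 : zC 10 mm CC10 CC10 15 45 = 1 :=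
  zC_cox_eq_one 10 mm CC10 15 CC10_lt (by rfl) 1 2 3 45 (by norm_num) (by norm_num) rfl rfl (by rfl)

theorem zc_46 : zC 10 mm CC10 CC10 15 46 = 1 :=
  zC_cox_eq_one 10 mm CC10 15 CC10_lt (by rfl) 0 1 3 46 (by norm_num) (by norm_num) rfl rfl (by rfl)

theorem comm_of_sq {G : Type*} [Group G] {a b : G} (ha : a * a = 1) (hb : b * b = 1)
    (h : (a * b) ^ 2 = 1) : a * b = b * a := by
  have h1 : a * b = (a * b)⁻¹ := by
    rw [eq_inv_iff_mul_eq_one, ← pow_two]
    exact h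
  rw [h1, mul_inv_rev, inv_eq_of_mul_eq_one_right ha, inv_eq_of_mul_eq_one_right hb]

theorem comm_of_zC (n i j : ℕ) (hi : i < 10) (hj : j < 10)
    (hw : CC10.getD n [] = coxWord (2 * i) (2 * j) 2) (hz : zC 10 mm CC10 CC10 15 n = 1) :
    x i * x j = x j * x i := by
  unfold zC at hz
  rw [hw, ev_coxWord] at hz
  exact comm_of_sq (x_sq i hi) (x_sq j hj) hz

/-! ### the relator of `E₇` -/

theorem cm_9_4 : x 9 * x 4 = x 4 * x 9 := (comm_of_zC 2 4 9 (by norm_num) (by norm_num) (by rfl) zc_2).symm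

theorem cm_9_0 : x 9 * x 0 = x 0 * x 9 := (comm_of_zC 3 0 9 (by norm_num) (by norm_num) (by rfl) zc_3).symm

theorem cm_9_1 : x 9 * x 1 = x 1 * x 9 := (comm_of_zC 4 1 9 (by norm_num) (by norm_num) (by rfl) zc_4).symm

theorem cm_9_2 : x 9 * x 2 = x 2 * x 9 := (comm_of_zC 7 2 9 (by norm_num) (by norm_num) (by rfl) zc_7).symm

theorem cm_9_3 : x 9 * x 3 = x 3 * x 9 := (comm_of_zC 5 3 9 (by norm_num) (by norm_num) (by rfl) zc_5).symm

theorem cm_8_0 : x 8 * x 0 = x 0 * x 8 := comm_of_zC 12 8 0 (by norm_num) (by norm_num) (by rfl) zc_12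

theorem cm_8_1 : x 8 * x 1 = x 1 * x 8 := comm_of_zC 13 8 1 (by norm_num) (by norm_num) (by rfl) zc_13

theorem cm_8_2 : x 8 * x 2 = x 2 * x 8 := comm_of_zC 16 8 2 (by norm_num) (by norm_num) (by rfl) zc_16

theorem cm_8_3 : x 8 * x 3 = x 3 * x 8 := comm_of_zC 14 8 3 (by norm_num) (by norm_num) (by rfl) zc_14

theorem cm_4_1 : x 4 * x 1 = x 1 * x 4 := comm_of_zC 38 4 1 (by norm_num) (by norm_num) (by rfl) zc_38

theorem cm_4_2 : x 4 * x 2 = x 2 * x 4 := comm_of_zC 40 4 2 (by norm_num) (by norm_num) (by rfl) zc_40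

theorem cm_4_3 : x 4 * x 3 = x 3 * x 4 := comm_of_zC 39 4 3 (by norm_num) (by norm_num) (by rfl) zc_39

theorem cm_0_2 : x 0 * x 2 = x 2 * x 0 := comm_of_zC 44 0 2 (by norm_num) (by norm_num) (by rfl) zc_44

theorem cm_1_3 : x 1 * x 3 = x 3 * x 1 := comm_of_zC 42 1 3 (by norm_num) (by norm_num) (by rfl) zc_42

theorem cm_2_3 : x 2 * x 3 = x 3 * x 2 := (comm_of_zC 43 3 2 (by norm_num) (by norm_num) (by rfl) zc_43).symm

theorem zE_eq : zC 10 mm CC10 CC10 15 0 = (x 9 * x 8 * x 4 * x 0 * x 1 * x 2 * x 3) ^ 9 := by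
  unfold zC
  have hw : CC10.getD 0 [] = (List.replicate 9 [18, 16, 8, 0, 2, 4, 6]).flatten := by rfl
  rw [hw, ← ev_pow]
  congr 1

theorem zc_0 : zC 10 mm CC10 CC10 15 0 = 1 := by
  have hc := zC_center 10 mm CC10 CC10 15 CC10_lt 0
  have hp := zC_pow 10 mm CC10 CC10 15 (fun r hr => hr) 0
  rw [zE_eq] at hc hp ⊢
  have hsq := Fi23E7.e7_central_pow_sq (x 9) (x 8) (x 4) (x 0) (x 1) (x 2) (x 3)
    (x_sq 9 (by norm_num)) (x_sq 8 (by norm_num)) (x_sq 4 (by norm_num)) (x_sq 0 (by norm_num))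
    (x_sq 1 (by norm_num)) (x_sq 2 (by norm_num)) (x_sq 3 (by norm_num))
    cm_9_4 cm_9_0 cm_9_1 cm_9_2 cm_9_3 cm_8_0 cm_8_1 cm_8_2 cm_8_3 cm_4_1 cm_4_2 cm_4_3 cm_0_2 cm_1_3 cm_2_3 9 hc
  generalize (x 9 * x 8 * x 4 * x 0 * x 1 * x 2 * x 3) ^ 9 = z at hc hp hsq ⊢
  have h14 : z ^ 14 = 1 := by
    have h : z ^ 14 = (z * z) ^ 7 := by rw [← pow_two, ← pow_mul]
    rw [h, hsq, one_pow]
  have h15 : z ^ 15 = z := by
    calc z ^ 15 = z ^ 14 * z := pow_succ z 14
      _ = z := by rw [h14, one_mul]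
  rw [← h15]
  exact hp

/-! ### the spider relator -/

theorem zc_10 : zC 10 mm CC10 CC10 15 10 = 1 := by
  have h1 := spider_P9
  unfold zC at h1 ⊢
  have hw : CC10.getD 10 [] = CC9.getD 0 [] := by rfl
  have hl : ∀ c ∈ CC9.getD 0 [], c < 2 * 9 := CC9_lt _ (by decide)
  have h2 := phiT_ev 9 10 mm CC9 EX10 15 (by norm_num) CC9_lt (CC9.getD 0 []) hl
  rw [h1, map_one] at h2
  rw [hw]
  exact h2.symm

/-! ### all central words are trivial -/

theorem zC_all : ∀ i, i < 47 → zC 10 mm CC10 CC10 15 i = 1 := by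
  intro i hi
  interval_cases i
  · exact zc_0
  · exact zc_1
  · exact zc_2
  · exact zc_3
  · exact zc_4
  · exact zc_5
  · exact zc_6
  · exact zc_7
  · exact zc_8
  · exact zc_9
  · exact zc_10
  · exact zc_11
  · exact zc_12
  · exact zc_13
  · exact zc_14
  · exact zc_15
  · exact zc_16
  · exact zc_17
  · exact zc_18
  · exact zc_19
  · exact zc_20
  · exact zc_21
  · exact zc_22
  · exact zc_23
  · exact zc_24
  · exact zc_25
  · exact zc_26
  · exact zc_27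
  · exact zc_28
  · exact zc_29
  · exact zc_30
  · exact zc_31
  · exact zc_32
  · exact zc_33
  · exact zc_34
  · exact zc_35
  · exact zc_36
  · exact zc_37
  · exact zc_38
  · exact zc_39
  · exact zc_40
  · exact zc_41
  · exact zc_42
  · exact zc_43
  · exact zc_44
  · exact zc_45
  · exact zc_46

theorem all_ev : ∀ r ∈ CC10, ev (2 * 10) (coverRels 10 mm CC10 CC10 15) r = 1 := by
  intro r hr
  obtain ⟨i, hi, rfl⟩ := List.mem_iff_getElem.mp hr
  have hlen : CC10.length = 47 := by rfl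
  have h := zC_all i (by omega)
  unfold zC at h
  rwa [List.getD_eq_getElem CC10 [] hi] at h

/-! ### the covering group is a quotient of the presented group -/

/-- my numbering of the letters of the list presentation. -/
def sg (c : ℕ) : ℕ := [8, 4, 0, 1, 3, 5, 2, 6, 9, 7].getD c 0

/-- the letters of the list presentation for my generators. -/
def tu (i : ℕ) : ℕ := [2, 3, 6, 4, 1, 5, 7, 9, 0, 8].getD i 0

theorem sg_tu : ∀ i, i < 10 → sg (tu i) = i := by decide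

theorem tu_sg : ∀ c, c < 10 → tu (sg c) = c := by decide

theorem sg_lt : ∀ c, c < 10 → sg c < 10 := by decide

theorem tu_lt : ∀ i, i < 10 → tu i < 10 := by decide

theorem lettersA : LettersLt 10 R10 := Fi23LP.lettersA

theorem inv10 : Invol 10 R10 := by decide +kernel

set_option maxRecDepth 1000000 in
theorem R10_map : ∀ l ∈ R10, l.map (fun c => 2 * sg c) ∈ CC10 ∨
    ∃ i, i < 10 ∧ l.map (fun c => 2 * sg c) = [2 * i, 2 * i] := by decide +kernel

theorem psi_rel : ∀ l ∈ R10, (l.map (fun c => x (sg c))).prod = 1 := by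
  intro l hl
  have h1 : (l.map (fun c => x (sg c))).prod =
      ev (2 * 10) (coverRels 10 mm CC10 CC10 15) (l.map (fun c => 2 * sg c)) := by
    rw [← prod_map_ev, List.map_map]
    rfl
  rw [h1]
  rcases R10_map l hl with h | ⟨i, hi, h⟩
  · exact all_ev _ h
  · rw [h, ev_cons]
    exact x_sq i hi

/-- the homomorphism from the presented group onto the covering group. -/
noncomputable def psi : LPG 10 R10 →* CovG 10 mm CC10 CC10 15 :=
  lift (fun c => x (sg c)) lettersA psi_rel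

theorem psi_surj : Function.Surjective psi := by
  rw [← MonoidHom.range_eq_top, eq_top_iff, ← closure_cgen 10 mm CC10 CC10 15, Subgroup.closure_le]
  rintro y ⟨i, hi, rfl⟩
  refine ⟨ev 10 R10 [tu i], ?_⟩
  unfold psi
  rw [lift_ev _ _ _ [tu i] (by
    intro c hc
    rw [List.mem_singleton] at hc
    rw [hc]
    exact tu_lt i hi)]
  rw [List.map_cons, List.map_nil, List.prod_cons, List.prod_nil, mul_one, sg_tu i hi]
  rfl

theorem card_G : Nat.card (LPG 10 R10) = 4089470473293004800 := Fi23LP.simple_card.2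

instance fin_G : Finite (LPG 10 R10) :=
  Nat.finite_of_card_ne_zero (by rw [card_G]; norm_num)

instance fin_P : Finite (LPG (2 * 10) (coverRels 10 mm CC10 CC10 15)) :=
  Finite.of_surjective psi psi_surj

theorem card_P_dvd : Nat.card (LPG (2 * 10) (coverRels 10 mm CC10 CC10 15)) ∣
    Nat.card (LPG 10 R10) * 1 := by
  rw [mul_one]
  exact card_dvd_of_surjective psi psi_surj

/-! ### the generators of the presented group -/

/-- the generators in my order. -/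
noncomputable def g (i : ℕ) : LPG 10 R10 := ev 10 R10 [tu i]

theorem g_closure : Subgroup.closure {y | ∃ i, i < 10 ∧ y = g i} = ⊤ := by
  rw [eq_top_iff, ← closure_gens (k := 10) (R := R10), Subgroup.closure_le]
  rintro y ⟨c, hc, rfl⟩
  apply Subgroup.subset_closure
  refine ⟨sg c, sg_lt c hc, ?_⟩
  unfold g
  rw [tu_sg c hc]

theorem g_sq (i : ℕ) : g i ^ mm i = 1 := by
  have h2 : mm i = 2 := rfl
  rw [h2, pow_two]
  exact ev_sq inv10 (tu i)

set_option maxRecDepth 1000000 in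
theorem CC10_map : ∀ r ∈ CC10, (∀ c ∈ r, c % 2 = 0) ∧ r.map (fun c => tu (c / 2)) ∈ R10 := by
  decide +kernel

theorem CC2_rel : ∀ r ∈ CC10 ++ CC10, (r.map (lval g)).prod = 1 := by
  intro r hr
  have hr' : r ∈ CC10 := (List.mem_append.mp hr).elim id id
  obtain ⟨hev, hmem⟩ := CC10_map r hr'
  have h1 : r.map (lval g) = (r.map (fun c => tu (c / 2))).map (fun c => ev 10 R10 [c]) := by
    rw [List.map_map]
    apply List.map_congr_left
    intro c hc
    unfold lval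
    rw [if_pos (hev c hc)]
    rfl
  rw [h1, prod_map_ev]
  exact ev_rel hmem

theorem mm_cop3 : ∀ i, i < 10 → g i ^ mm i = 1 ∧ (mm i).Coprime (3 ^ 13) := by
  intro i _
  exact ⟨g_sq i, by show Nat.Coprime 2 (3 ^ 13); decide⟩

theorem mm_cop5 : ∀ i, i < 10 → g i ^ mm i = 1 ∧ (mm i).Coprime (5 ^ 2) := by
  intro i _
  exact ⟨g_sq i, by show Nat.Coprime 2 (5 ^ 2); decide⟩

/-! ### the bound -/

/-- **the kernel of a finite stem extension is trivial as soon as its 2-part is.** -/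
theorem bound (Γ : Type) [Group Γ] [Finite Γ] (σ : Γ →* LPG 10 R10)
    (hσ : Cfsg.IsStemExtension σ)
    (h2 : Nat.card (qmap σ hσ.2.1 15600091832325).ker ≤ 1) : Nat.card σ.ker ≤ 1 := by
  have hc := hσ.2.1
  have h3 : Nat.card (qmap σ hc 2565020057600).ker ∣ 1 :=
    card_qmap_ker_dvd_of_pow_dvd σ hσ hc 3 Nat.prime_three 13 1 2565020057600 15 (by norm_num)
      (by rw [card_G]; norm_num)
      10 mm CC10 CC10 CC10_2lt g g_closure mm_cop3 CC2_rel 1 card_P_dvd (by decide)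
  have h5 : Nat.card (qmap σ hc 163578818931720192).ker ∣ 1 :=
    card_qmap_ker_dvd_of_pow_dvd σ hσ hc 5 Nat.prime_five 2 1 163578818931720192 15 (by norm_num)
      (by rw [card_G]; norm_num)
      10 mm CC10 CC10 CC10_2lt g g_closure mm_cop5 CC2_rel 1 card_P_dvd (by decide)
  have h7 : ∀ z ∈ σ.ker,
      z ^ Nat.gcd (Nat.gcd 15600091832325 2565020057600) 163578818931720192 = 1 → z = 1 := by
    intro z hz hz1
    have e1 : Nat.gcd (Nat.gcd 15600091832325 2565020057600) 163578818931720192 =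
        7 * (11 * (13 * (17 * 23))) := by decide
    rw [e1] at hz1
    refine eq_one_of_pow_eq_one σ hσ (7 * (11 * (13 * (17 * 23)))) ?_ z hz hz1
    intro q hq hqd
    rw [card_G]
    rcases (Nat.Prime.dvd_mul hq).mp hqd with h | h
    · rw [(Nat.prime_dvd_prime_iff_eq hq (by norm_num)).mp h]
      decide
    · rcases (Nat.Prime.dvd_mul hq).mp h with h | h
      · rw [(Nat.prime_dvd_prime_iff_eq hq (by norm_num)).mp h]
        decide
      · rcases (Nat.Prime.dvd_mul hq).mp h with h | h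
        · rw [(Nat.prime_dvd_prime_iff_eq hq (by norm_num)).mp h]
          decide
        · rcases (Nat.Prime.dvd_mul hq).mp h with h | h
          · rw [(Nat.prime_dvd_prime_iff_eq hq (by norm_num)).mp h]
            decide
          · rw [(Nat.prime_dvd_prime_iff_eq hq (by norm_num)).mp h]
            decide
  have h8 := card_ker_le_mul3 σ hc 15600091832325 2565020057600 163578818931720192 h7
  calc Nat.card σ.ker ≤ Nat.card (qmap σ hc 15600091832325).ker *
        Nat.card (qmap σ hc 2565020057600).ker * Nat.card (qmap σ hc 163578818931720192).ker := h8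
    _ ≤ 1 * 1 * 1 :=
        Nat.mul_le_mul (Nat.mul_le_mul h2
          (Nat.le_of_dvd (by norm_num) h3)) (Nat.le_of_dvd (by norm_num) h5)
    _ = 1 := by norm_num

end Cfsg.Agent.Helper3.Fi23Y
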