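import Mathlib
import Cfsg.Agent.Helper3.StemTransfer
import Cfsg.Agent.Helper5.Fi23DCB
import Cfsg.Agent.S1689

/-!
# The finite stem extensions of `Fi₂₃` have kernels of odd order

The subgroup `⟨a, …, i⟩ = 2·Fi₂₂` of the presented group `Fi₂₃` is perfect, of odd index 31671, with
centre of order 2 and central quotient `Fi₂₂`; by transfer (`StemTransfer.not_two_dvd_card_ker`) the
2-part of the kernel of a stem extension of `Fi₂₃` is controlled by the stem extensions of `Fi₂₂`.
-/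

set_option autoImplicit false

namespace Cfsg.Agent.Helper3.Fi23Two

open Cfsg Cfsg.Spor Cfsg.Agent.Helper5.LP Cfsg.Agent.Helper5.Fi23DC
open Cfsg.Agent.Helper5.Fi23LP (R9 R10)

theorem Hs_perfect : commutator Hs = ⊤ := by
  obtain ⟨f, -, hr⟩ := hs_transfer
  have hmem : ∀ x, f x ∈ Hs := fun x => by
    rw [← hr]
    exact ⟨x, rfl⟩
  have hg : Function.Surjective (f.codRestrict Hs hmem) := by
    rintro ⟨y, hy⟩
    rw [← hr] at hy
    obtain ⟨x, rfl⟩ := hy
    exact ⟨x, rfl⟩
  rw [← StemTransfer.map_commutator_top _ hg, perfect9, Subgroup.map_top_of_surjective _ hg]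

theorem Hs_index : Hs.index = 31671 := Cfsg.Agent.S1689.result.1

/-- **the kernels of the finite stem extensions of `Fi₂₃` have odd order**, if those of `Fi₂₂` have
order dividing 6. -/
theorem not_two_dvd
    (hFi22 : ∀ (Δ : Type) [Group Δ] [Finite Δ] (ρ : Δ →* Fi22), Cfsg.IsStemExtension ρ →
      Nat.card ρ.ker ∣ 6)
    {Γ : Type} [Group Γ] [Finite Γ] (σ : Γ →* Fi23) (hσ : Cfsg.IsStemExtension σ) :
    ¬ 2 ∣ Nat.card σ.ker := by
  obtain ⟨hZ, ⟨e⟩, -⟩ := dc
  exact StemTransfer.not_two_dvd_card_ker Hs (by rw [Hs_index]; decide) hZ e Hs_perfect hFi22 σ hσ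

end Cfsg.Agent.Helper3.Fi23Two
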