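import Mathlib
import Cfsg.Agent.Helper3.Fi23Odd
import Cfsg.Agent.Helper3.Fi23Two

/-!
# The Schur multiplier of `Fi₂₃` is trivial

Assembly: the odd part (`Fi23Y.bound`, on the list presentation) and the 2-part (`Fi23Two.not_two_dvd`,
on the presented group, from the stem extensions of `Fi₂₂`).
-/

set_option autoImplicit false

namespace Cfsg.Agent.Helper3.Fi23Y

open Cfsg Cfsg.Spor Cfsg.Agent.Helper5 Cfsg.Agent.Helper5.StemP Cfsg.Agent.Helper5.LP
open Cfsg.Agent.Helper5.Fi23LP (R10)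

/-- the kernels of the finite stem extensions of a group with cyclic Schur multiplier of order `n`
have orders dividing `n`. -/
theorem card_ker_dvd_of_hasCyclic {G : Type} [Group G] (n : ℕ) [NeZero n]
    (h : Cfsg.HasCyclicSchurMultiplier G n) (Δ : Type) [Group Δ] [Finite Δ] (ρ : Δ →* G)
    (hρ : Cfsg.IsStemExtension ρ) : Nat.card ρ.ker ∣ n := by
  obtain ⟨π, hπ⟩ := h.2 Δ ρ hρ
  have h1 := card_dvd_of_surjective π hπ
  have h2 : Nat.card (Multiplicative (ZMod n)) = n := by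
    rw [Nat.card_congr Multiplicative.toAdd, Nat.card_zmod]
  rwa [h2] at h1

/-- **the Schur multiplier of `Fi₂₃` is trivial**, if the kernels of the finite stem extensions of
`Fi₂₂` have orders dividing 6. -/
theorem main
    (hFi22 : ∀ (Δ : Type) [Group Δ] [Finite Δ] (ρ : Δ →* Fi22), Cfsg.IsStemExtension ρ →
      Nat.card ρ.ker ∣ 6) :
    Cfsg.HasCyclicSchurMultiplier Fi23 1 := by
  obtain ⟨e⟩ := Fi23LP.spor_equiv
  have : Finite Fi23 := Finite.of_equiv _ e.symm.toEquiv
  apply Cfsg.Agent.Helper3.hasCyclicSchurMultiplier_one_of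
  intro Γ _ _ σ hσ
  obtain ⟨hσ', hk⟩ := isStem_comp_equiv σ hσ e
  have h2 : Nat.card (qmap (e.toMonoidHom.comp σ) hσ'.2.1 15600091832325).ker ≤ 1 := by
    have hq := qmap_stem (e.toMonoidHom.comp σ) hσ' hσ'.2.1 15600091832325
    have hpow : ∀ y ∈ (qmap (e.toMonoidHom.comp σ) hσ'.2.1 15600091832325).ker,
        y ^ 2 ^ 18 = 1 :=
      qmap_ker_pow (e.toMonoidHom.comp σ) hσ' hσ'.2.1 (s := 2 ^ 18) (t := 15600091832325)
        (by rw [card_G]; norm_num)
    obtain ⟨hq', hk'⟩ := isStem_comp_equiv _ hq e.symm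
    have hodd := Fi23Two.not_two_dvd hFi22 _ hq'
    rw [hk'] at hodd
    have hpg : IsPGroup 2 (qmap (e.toMonoidHom.comp σ) hσ'.2.1 15600091832325).ker := by
      intro z
      refine ⟨18, ?_⟩
      apply Subtype.ext
      rw [Subgroup.coe_pow, Subgroup.coe_one]
      exact hpow z.1 z.2
    obtain ⟨n, hn⟩ := IsPGroup.iff_card.mp hpg
    rw [hn] at hodd ⊢
    cases n with
    | zero => norm_num
    | succ n => exact absurd (dvd_pow_self 2 (Nat.succ_ne_zero n)) hodd
  have hb := bound Γ (e.toMonoidHom.comp σ) hσ' h2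
  rw [hk] at hb
  rw [Subgroup.eq_bot_iff_card]
  have hpos : 0 < Nat.card σ.ker := Nat.card_pos
  omega

end Cfsg.Agent.Helper3.Fi23Y
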