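import Mathlib

/-! generated labelled Todd-Coxeter certificate data (facts): Fi23Y2 -/

set_option autoImplicit false
set_option Elab.async false

namespace Cfsg.Agent.Helper3.Fi23Y2

def fa_0 : ℕ := 0x20300000200000001010000020000000201000001000000000300000100000001030000000000000001000000

end Cfsg.Agent.Helper3.Fi23Y2
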