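import Mathlib

/-! generated labelled Todd-Coxeter certificate data (table): Fi23Y2 -/

set_option autoImplicit false
set_option Elab.async false

namespace Cfsg.Agent.Helper3.Fi23Y2

def tb_0 : ℕ := 0x2000000b00002000000a000010000007000010000008000000000003000000000004000020000009000020000006000010000005000010000002000000000001000000000000

end Cfsg.Agent.Helper3.Fi23Y2
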