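import Cfsg.Agent.Helper3.LTCW
import Cfsg.Agent.Helper3.Fi23Y2F0
import Cfsg.Agent.Helper3.Fi23Y2T0

/-! generated labelled Todd-Coxeter certificate data: Fi23Y2 -/

set_option autoImplicit false
set_option Elab.async false

namespace Cfsg.Agent.Helper3.Fi23Y2
open Cfsg.Agent.Helper5.LTC Cfsg.Agent.Helper3.LTCW

def words : List (List ℕ) := [[0, 1], [1, 0], [2, 3], [3, 2], [], [0, 0], [2, 2], [0, 2, 0, 2, 0, 2], [2, 0, 2, 0, 2, 0], [0]]

def deltas : List ℕ := [0, 0, 0, 0, 0, 0, 0, 0, 0, 0]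

def origs : List ℕ := [0, 0, 0, 0, 0, 0, 0, 1, 129, 0]

def par_0 : ℕ := 0x1000000000000

def parC : List ℕ := [par_0]

def gen_0 : ℕ := 0x200

def genC : List ℕ := [gen_0]

def lv_0 : ℕ := 0x2000001000000

def lvC : List ℕ := [lv_0]

def faCC : List (List ℕ) := [[fa_0]]

def tbCC : List (List ℕ) := [[tb_0]]

def cert : Cert where
  k := 4
  ι := Cfsg.Agent.Helper5.StemP.linv
  E := 15
  W := fun wi => words.getD wi []
  nrel := 9
  nw := 10
  δ := fun wi => L8.dec (deltas.getD wi 0)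
  par := fun v => lkw 24 (parC.getD (Nat.div v 4096) 0) (Nat.mod v 4096)
  gen := fun v => lkw 8 (genC.getD (Nat.div v 4096) 0) (Nat.mod v 4096)
  fa := fun j => lkw 64 ((faCC.getD (Nat.div j 32768) []).getD (Nat.mod (Nat.div j 1024) 32) 0) (Nat.mod j 1024)
  nf := 6

def tab : Tab where
  N := 3
  LV := fun n => lkw 24 (lvC.getD (Nat.div n 4096) 0) (Nat.mod n 4096)
  TB := fun n x => lkw 48 ((tbCC.getD (Nat.div n 8192) []).getD (Nat.mod (Nat.div n 256) 32) 0) (Nat.add (Nat.mul 4 (Nat.mod n 256)) x)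

def js : List ℕ := []

def cs0 : List ℕ := []

def as_ : List ℕ := []

def css : List (List ℕ) := []

end Cfsg.Agent.Helper3.Fi23Y2
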