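import Cfsg.Agent.Helper3.Fi23Y2Dat

/-! generated labelled Todd-Coxeter certificate: Fi23Y2 -/

set_option autoImplicit false
set_option Elab.async false
set_option maxRecDepth 1000000

namespace Cfsg.Agent.Helper3.Fi23Y2
open Cfsg.Agent.Helper5.LTC Cfsg.Agent.Helper3.LTCW

def ju_0 : List ℕ := [0x27, 0x0, 0xc00400000000400001b, 0x0, 0x1c004000000008000017, 0x18000000800000000000010000002000001400000801401f]

theorem len_0 : ju_0.length = 6 := by decide +kernel

theorem chk_0 : checkListW cert 0 ju_0 = true := by decide +kernel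

end Cfsg.Agent.Helper3.Fi23Y2
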