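import Mathlib

/-! generated labelled Todd-Coxeter certificate data (facts): Fi23Y3 -/

set_option autoImplicit false
set_option Elab.async false

namespace Cfsg.Agent.Helper3.Fi23Y3

def fa_0 : ℕ := 0x30300000300000003050000030000000201000003000000030100000200000002050000020000000103000002000000020300000100000001010000010000000005000001000000010500000000000000030000000000000001000000

end Cfsg.Agent.Helper3.Fi23Y3
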