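import Mathlib

/-! generated labelled Todd-Coxeter certificate data (table): Fi23Y3 -/

set_option autoImplicit false
set_option Elab.async false

namespace Cfsg.Agent.Helper3.Fi23Y3

def tb_0 : ℕ := 0x3000001500003000001400003000001700003000001600002000001100002000001200002000000f00002000000e00001000000b00001000000c00003000001300003000001000000000000500000000000600002000000d00002000000a000010000009000010000008000010000007000010000004000000000003000000000002000000000001000000000000

end Cfsg.Agent.Helper3.Fi23Y3
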