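import Cfsg.Agent.Helper3.Fi23Y3Dat

/-! generated labelled Todd-Coxeter certificate: Fi23Y3 -/

set_option autoImplicit false
set_option Elab.async false
set_option maxRecDepth 1000000

namespace Cfsg.Agent.Helper3.Fi23Y3
open Cfsg.Agent.Helper5.LTC Cfsg.Agent.Helper3.LTCW

def ju_0 : List ℕ := [0x43, 0x47, 0x0, 0x14004000000004000027, 0x100000000000001800000c00000400c02f, 0x0, 0x2c004000000008000023, 0x280000010000000800000180000030000014000008014033, 0x0, 0x4400400000000c00001f, 0x400000038000004800000c00000c00c02b, 0x40000002800000200000030000004800001400000c01403b]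

theorem len_0 : ju_0.length = 12 := by decide +kernel

theorem chk_0 : checkListW cert 0 ju_0 = true := by decide +kernel

end Cfsg.Agent.Helper3.Fi23Y3
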