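import Mathlib

/-! generated labelled Todd-Coxeter certificate data (facts): Fi23Y4 -/

set_option autoImplicit false
set_option Elab.async false

namespace Cfsg.Agent.Helper3.Fi23Y4

def fa_0 : ℕ := 0x4030000040000000401000004000000040700000400000003050000040000000405000003000000030100000300000003070000030000000203000003000000030300000200000002050000020000000207000002000000010100000200000002010000010000000105000001000000010300000100000000070000010000000107000000000000000500000000000000030000000000000001000000

end Cfsg.Agent.Helper3.Fi23Y4
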