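import Mathlib

/-! generated labelled Todd-Coxeter certificate data (table): Fi23Y4 -/

set_option autoImplicit false
set_option Elab.async false

namespace Cfsg.Agent.Helper3.Fi23Y4

def tb_0 : ℕ := 0x4000002300004000002200003000001f00003000002000004000002700004000002600004000002500004000002400003000001b00003000001a00004000002100004000001e00002000001700002000001800003000001d00003000001c00002000001300002000001200002000001500002000001400003000001900003000001600001000000f00001000001000000000000700000000000800001000000d00001000000c00001000000b00001000000a00002000001100002000000e000010000009000010000006000000000005000000000004000000000003000000000002000000000001000000000000

end Cfsg.Agent.Helper3.Fi23Y4
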