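import Cfsg.Agent.Helper3.Fi23Y4Dat

/-! generated labelled Todd-Coxeter certificate: Fi23Y4 -/

set_option autoImplicit false
set_option Elab.async false
set_option maxRecDepth 1000000

namespace Cfsg.Agent.Helper3.Fi23Y4
open Cfsg.Agent.Helper5.LTC Cfsg.Agent.Helper3.LTCW

def ju_0 : List ℕ := [0x67, 0x6b, 0x6f, 0x0, 0x1c004000000004000033, 0x180000008000002000000c00000400c043, 0x180000010000002000000c00000400c047, 0x0, 0x3c004000000008000027, 0x380000018000000000000200000040000014000008014037, 0x380000030000004000000c00000800c04f, 0x0, 0x5c00400000000c00002b, 0x580000048000006000000c00000c00c03f, 0x58000003800000280000040000006000001400000c014063, 0x0, 0x7c00400000001000002f, 0x780000068000008000000c00001000c04b, 0x780000070000008000000c00001000c053, 0x78000005800000500000060000008000001400001001405b]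

theorem len_0 : ju_0.length = 20 := by decide +kernel

theorem chk_0 : checkListW cert 0 ju_0 = true := by decide +kernel

end Cfsg.Agent.Helper3.Fi23Y4
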