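import Mathlib

/-! generated labelled Todd-Coxeter certificate data (facts): Fi23Y5 -/

set_option autoImplicit false
set_option Elab.async false

namespace Cfsg.Agent.Helper3.Fi23Y5

def fa_0 : ℕ := 0xf0500000f0000000f0300000f0000000f0100000f0000000f0900000f0000000e0700000f0000000f0700000e0000000e0300000e0000000e0500000e0000000e0900000e0000000d0100000e0000000e0100000d0000000c0300000d0000000d0500000d0000000d0700000d0000000d0300000c0000000b0900000d0000000d0900000b0000000a0500000c0000000c0500000a0000000c0700000c0000000c0100000c000000090900000c0000000c090000090000000b0100000b0000000b0500000b0000000b0700000b000000090300000b0000000b030000090000000a0700000a0000000a0300000a0000000a0100000a000000080900000a0000000a0900000800000008050000090000000905000008000000090700000900000007010000090000000901000007000000080300000800000008070000080000000601000008000000080100000600000006050000070000000705000006000000070300000700000007090000070000000507000007000000070700000500000004030000060000000603000004000000060900000600000003070000060000000607000003000000050300000500000005010000050000000509000005000000030500000500000005050000030000000405000004000000040100000400000004090000040000000207000004000000040700000200000003010000030000000309000003000000020300000300000003030000020000000205000002000000020900000200000001010000020000000201000001000000010500000100000001070000010000000103000001000000000900000100000001090000000000000007000000000000000500000000000000030000000000000001000000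

end Cfsg.Agent.Helper3.Fi23Y5
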