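import Mathlib

/-! generated labelled Todd-Coxeter certificate data (table): Fi23Y5 -/

set_option autoImplicit false
set_option Elab.async false

namespace Cfsg.Agent.Helper3.Fi23Y5

def tb_0 : ℕ := 0xf00000990000f00000980000e00000950000e00000960000f000009f0000f000009e0000f000009d0000f000009c0000f000009b0000f000009a0000e000008f0000e000008e0000f00000970000f00000940000e00000910000e00000900000e00000930000e00000920000d000008b0000d000008c0000b000007f0000b00000800000d00000850000d00000840000d00000870000d00000860000c00000830000c00000880000e000008d0000e000008a0000900000730000900000740000c00000790000c00000780000a000007b0000a000007c0000d00000890000d00000820000c00000770000c00000760000d00000810000d000007e0000b000006d0000b000006c0000b000006f0000b000006e00009000006900009000006a0000b00000710000b000007000008000005f0000800000600000a00000670000a00000660000c000007d0000c000007a0000a00000650000a00000640000a00000630000a00000620000c00000750000c000007200009000005900009000005800008000005b00008000005c0000b000006b0000b00000680000700000550000700000560000a00000610000a000005e00008000005100008000005000009000005d00009000005a00008000005300008000005200006000004d00006000004e00007000004500007000004400005000004100005000004200006000004900006000004a00007000004700007000004600009000005700009000005400006000003b00006000003a00003000003700003000003800007000004b00007000004800004000003d00004000003e00008000004f00008000004c00005000003100005000003000007000004300007000004000003000002d00003000002e00005000003500005000003400005000003300005000003200004000002700004000002600002000002300002000002400004000002b00004000002a00006000003f00006000003c00004000002900004000002800003000001f00003000001e00006000003900006000003600005000002f00005000002c00002000001b00002000001c00003000002100003000002000002000001700002000001600004000002500004000002200002000001900002000001800003000001d00003000001a00001000001300001000001400000000000900000000000a00001000000f00001000000e00001000001100001000001000001000000d00001000000c00002000001500002000001200001000000b000010000008000000000007000000000006000000000005000000000004000000000003000000000002000000000001000000000000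

end Cfsg.Agent.Helper3.Fi23Y5
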