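import Cfsg.Agent.Helper3.LTCW
import Cfsg.Agent.Helper3.Fi23Y5F0
import Cfsg.Agent.Helper3.Fi23Y5T0

/-! generated labelled Todd-Coxeter certificate data: Fi23Y5 -/

set_option autoImplicit false
set_option Elab.async false

namespace Cfsg.Agent.Helper3.Fi23Y5
open Cfsg.Agent.Helper5.LTC Cfsg.Agent.Helper3.LTCW

def words : List (List ℕ) := [[0, 1], [1, 0], [2, 3], [3, 2], [4, 5], [5, 4], [6, 7], [7, 6], [8, 9], [9, 8], [], [0, 0], [2, 2], [4, 4], [6, 6], [8, 8], [8, 0, 8, 0, 8, 0], [0, 8, 0, 8, 0, 8], [8, 2, 8, 2], [2, 8, 2, 8], [8, 6, 8, 6], [6, 8, 6, 8], [8, 4, 8, 4], [4, 8, 4, 8], [0, 6, 0, 6, 0, 6], [6, 0, 6, 0, 6, 0], [2, 6, 2, 6], [6, 2, 6, 2], [6, 4, 6, 4], [4, 6, 4, 6], [0, 4, 0, 4], [4, 0, 4, 0], [2, 4, 2, 4, 2, 4], [4, 2, 4, 2, 4, 2], [0, 2, 0, 2, 0, 2], [2, 0, 2, 0, 2, 0], [0], [2], [4], [6]]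

def deltas : List ℕ := [0, 0, 0, 0, 0, 0, 0, 0, 0, 0, 0, 0, 0, 0, 0, 0, 0, 0, 0, 0, 0, 0, 0, 0, 0, 0, 0, 0, 0, 0, 0, 0, 0, 0, 0, 0, 0, 0, 0, 0]

def origs : List ℕ := [0, 0, 0, 0, 0, 0, 0, 0, 0, 0, 0, 0, 0, 0, 0, 0, 1, 129, 3, 131, 5, 133, 7, 135, 9, 137, 11, 139, 13, 141, 15, 143, 17, 145, 19, 147, 0, 0, 0, 0]

def par_0 : ℕ := 0xe00000d00000b000009000009000008000007000006000005000003000003000002000002000001000000000000

def parC : List ℕ := [par_0]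

def gen_0 : ℕ := 0x6000808020800000606040602000800

def genC : List ℕ := [gen_0]

def lv_0 : ℕ := 0xf00000e00000d00000c00000b00000a000009000008000007000006000005000004000003000002000001000000

def lvC : List ℕ := [lv_0]

def faCC : List (List ℕ) := [[fa_0]]

def tbCC : List (List ℕ) := [[tb_0]]

def cert : Cert where
  k := 10
  ι := Cfsg.Agent.Helper5.StemP.linv
  E := 15
  W := fun wi => words.getD wi []
  nrel := 36
  nw := 40
  δ := fun wi => L8.dec (deltas.getD wi 0)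
  par := fun v => lkw 24 (parC.getD (Nat.div v 4096) 0) (Nat.mod v 4096)
  gen := fun v => lkw 8 (genC.getD (Nat.div v 4096) 0) (Nat.mod v 4096)
  fa := fun j => lkw 64 ((faCC.getD (Nat.div j 32768) []).getD (Nat.mod (Nat.div j 1024) 32) 0) (Nat.mod j 1024)
  nf := 80

def tab : Tab where
  N := 16
  LV := fun n => lkw 24 (lvC.getD (Nat.div n 4096) 0) (Nat.mod n 4096)
  TB := fun n x => lkw 48 ((tbCC.getD (Nat.div n 8192) []).getD (Nat.mod (Nat.div n 256) 32) 0) (Nat.add (Nat.mul 10 (Nat.mod n 256)) x)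

def js : List ℕ := []

def cs0 : List ℕ := []

def as_ : List ℕ := []

def css : List (List ℕ) := []

end Cfsg.Agent.Helper3.Fi23Y5
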