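import Cfsg.Agent.Helper3.Fi23Y5Dat

/-! generated labelled Todd-Coxeter certificate: Fi23Y5 -/

set_option autoImplicit false
set_option Elab.async false
set_option maxRecDepth 1000000

namespace Cfsg.Agent.Helper3.Fi23Y5
open Cfsg.Agent.Helper5.LTC Cfsg.Agent.Helper3.LTCW

def ju_0 : List ℕ := [0x93, 0x97, 0x9b, 0x9f, 0x0, 0x2400400000000400003f, 0x200000008000002800000c00000400c04b, 0x200000018000002800000c00000400c053, 0x200000010000002800000c00000400c05b, 0x0, 0x4c00400000000800002f, 0x480000020000000000000280000050000014000008014047, 0x480000040000005000000c00000800c07b, 0x0, 0x6c00400000000c000033, 0x680000058000007000000c00000c00c04f, 0x68000004800000300000050000007000001400000c01408f, 0x0, 0x8c00400000001000003b, 0x880000058000009000000c00001000c057, 0x880000048000003800000500000090000014000010014067, 0x880000060000009000000c00001000c073, 0x0, 0xb4004000000014000037, 0xb0000007800000b800000c00001400c05f, 0xb0000008000000b800000c00001400c07f, 0xb000000680000060000007000000b8000014000014014087, 0x0, 0xdc00400000001800003b, 0xd8000007800000e000000c00001800c057, 0x88000007000000e000000c00001800c06f, 0xf4004000000018000033, 0x0, 0x10400400000001c00003b, 0x10000000c0000010800000c00001c00c057,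 0x10000000d0000010800000c00001c00c06f, 0xd800000b8000010800000c00001c00c073, 0x12400400000001c000037, 0x0, 0x13400400000002000002f, 0x13000000d8000008000000e00000138000014000020014063, 0x13000000f000000a000000f8000013800001400002001408b, 0x0, 0x15400400000002400002f, 0x150000010000000c800001080000158000014000024014063, 0x1300000128000015800000c00002400c07b, 0x16c004000000024000037, 0x0, 0x17c00400000002800003f, 0x178000013000000e800001380000180000014000028014043, 0x1780000148000018000000c00002800c04b, 0x1780000140000018000000c00002800c053, 0x0, 0x1a400400000002c000033, 0x1a0000016000001a800000c00002c00c06b, 0x1a000001680000148000017000001a800001400002c014083, 0x1a000001500000118000015800001a800001400002c01408f, 0x0, 0x1cc00400000003000003f, 0x1c800001500000110000015800001d0000014000030014043, 0x1c8000016000001d000000c00003000c053, 0x178000017000001d000000c00003000c05b, 0x1ec004000000030000037, 0x0, 0x1fc00400000003400003f, 0x1c800001a8000020000000c00003400c04b, 0x1f800001b0000020000000c00003400c053, 0x1f800001b8000020000000c00003400c05b, 0x1f4000019400001ec000020c0000218010004000034004087, 0x0, 0x22c00400000003800002f, 0x22800001f800001c000002000000230000014000038014047,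 0x2280000218000023000000c00003800c07b, 0x228000020800001d80000220000023000001400003801408b, 0x0, 0x25400400000003c00003b, 0x2500000238000025800000c00003c00c057, 0x250000022800002100000230000025800001400003c014067, 0x2500000248000025800000c00003c00c06f, 0x2500000240000025800000c00003c00c073]

theorem len_0 : ju_0.length = 80 := by decide +kernel

theorem chk_0 : checkListW cert 0 ju_0 = true := by decide +kernel

end Cfsg.Agent.Helper3.Fi23Y5
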