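import Mathlib

/-! generated labelled Todd-Coxeter certificate data (facts): Fi23Y6 -/

set_option autoImplicit false
set_option Elab.async false

namespace Cfsg.Agent.Helper3.Fi23Y6

def fa_0 : ℕ := 0x1a0300001a0000001a0100001a0000001a0700001a0000001a0900001a0000001a0b00001a000000190500001a0000001a05000019000000190100001900000019070000190000001909000019000000190b00001900000018030000190000001903000018000000180500001800000018070000180000001809000018000000180b000018000000170100001800000018010000170000001609000017000000170500001700000017030000170000001709000016000000170b00001700000015070000170000001707000015000000160500001600000016030000160000001601000016000000160b0000160000001407000016000000160700001400000014090000150000001505000015000000150300001500000015010000150000001509000014000000130b000015000000150b0000130000001201000014000000140500001400000014030000140000001401000012000000110b000014000000140b000011000000130500001300000013070000130000001303000013000000130100001300000011090000130000001309000011000000100300001200000012050000120000001207000012000000120300001000000012090000120000000f0b000012000000120b00000f0000001103000011000000110500001100000011070000110000000f01000011000000110100000f0000000e05000010000000100500000e0000001007000010000000100100001000000010090000100000000d0b000010000000100b00000d0000000d0300000f0000000f0500000f0000000f0300000d0000000f0900000f0000000c0700000f0000000f0700000c0000000e0700000e0000000e0300000e0000000e0100000e0000000e0900000e0000000b0b00000e0000000e0b0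0000b0000000b0500000d0000000d0500000b0000000d0100000d0000000d0900000d0000000a0700000d0000000d0700000a0000000c0100000c0000000c0500000c0000000c0900000c0000000c0b00000c0000000a0300000c0000000c0300000a0000000b0300000b0000000b0100000b0000000b0900000b000000090700000b0000000b07000009000000090500000a0000000a050000090000000a0900000a0000000a0b00000a000000080100000a0000000a0100000800000009030000090000000909000009000000090b000009000000070100000900000009010000070000000705000008000000080500000700000008070000080000000803000008000000080b00000800000006090000080000000809000006000000050300000700000007070000070000000703000005000000070b00000700000004090000070000000709000004000000060300000600000006010000060000000607000006000000060b00000600000004050000060000000605000004000000050500000500000005070000050000000501000005000000050b0000050000000309000005000000050900000300000004010000040000000407000004000000040b0000040000000303000004000000040300000300000003050000030000000307000003000000030b00000300000002010000030000000301000002000000020500000200000002030000020000000209000002000000020b000002000000010700000200000002070000010000000105000001000000010300000100000001010000010000000109000001000000000b000001000000010b00000000000000090000000000000007000000000000000500000000000000030000000000000001000000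

end Cfsg.Agent.Helper3.Fi23Y6
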