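import Cfsg.Agent.Helper3.LTCW
import Cfsg.Agent.Helper3.Fi23Y7F0
import Cfsg.Agent.Helper3.Fi23Y7T0

/-! generated labelled Todd-Coxeter certificate data: Fi23Y7 -/

set_option autoImplicit false
set_option Elab.async false

namespace Cfsg.Agent.Helper3.Fi23Y7
open Cfsg.Agent.Helper5.LTC Cfsg.Agent.Helper3.LTCW

def words : List (List ℕ) := [[0, 1], [1, 0], [2, 3], [3, 2], [4, 5], [5, 4], [6, 7], [7, 6], [8, 9], [9, 8], [10, 11], [11, 10], [12, 13], [13, 12], [], [0, 0], [2, 2], [4, 4], [6, 6], [8, 8], [10, 10], [12, 12], [8, 12, 8, 12], [12, 8, 12, 8], [0, 12, 0, 12], [12, 0, 12, 0], [2, 12, 2, 12], [12, 2, 12, 2], [6, 12, 6, 12], [12, 6, 12, 6], [10, 12, 10, 12], [12, 10, 12, 10], [4, 12, 4, 12, 4, 12], [12, 4, 12, 4, 12, 4], [8, 10, 8, 10], [10, 8, 10, 8], [0, 10, 0, 10], [10, 0, 10, 0], [2, 10, 2, 10], [10, 2, 10, 2], [6, 10, 6, 10, 6, 10], [10, 6, 10, 6, 10, 6], [10, 4, 10, 4], [4, 10, 4, 10], [8, 0, 8, 0, 8, 0],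 [0, 8, 0, 8, 0, 8], [8, 2, 8, 2], [2, 8, 2, 8], [8, 6, 8, 6], [6, 8, 6, 8], [8, 4, 8, 4], [4, 8, 4, 8], [0, 6, 0, 6, 0, 6], [6, 0, 6, 0, 6, 0], [2, 6, 2, 6], [6, 2, 6, 2], [6, 4, 6, 4], [4, 6, 4, 6], [0, 4, 0, 4], [4, 0, 4, 0], [2, 4, 2, 4, 2, 4], [4, 2, 4, 2, 4, 2], [0, 2, 0, 2, 0, 2], [2, 0, 2, 0, 2, 0], [0], [2], [4], [6], [8], [10]]

def deltas : List ℕ := [0, 0, 0, 0, 0, 0, 0, 0, 0, 0, 0, 0, 0, 0, 0, 0, 0, 0, 0, 0, 0, 0, 0, 0, 0, 0, 0, 0, 0, 0, 0, 0, 0, 0, 0, 0, 0, 0, 0, 0, 0, 0, 0, 0, 0, 0, 0, 0, 0, 0, 0, 0, 0, 0, 0, 0, 0, 0, 0, 0, 0, 0, 0, 0, 0, 0, 0, 0, 0, 0]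

def origs : List ℕ := [0, 0, 0, 0, 0, 0, 0, 0, 0, 0, 0, 0, 0, 0, 0, 0, 0, 0, 0, 0, 0, 0, 1, 129, 3, 131, 5, 133, 7, 135, 9, 137, 11, 139, 13, 141, 15, 143, 17, 145, 19, 147, 21, 149, 23, 151, 25, 153, 27, 155, 29, 157, 31, 159, 33, 161, 35, 163, 37, 165, 39, 167, 41, 169, 0, 0, 0, 0, 0, 0]

def par_0 : ℕ := 0x3600003500003400003300003100002f00002f00002e00002d00002c00002b00002900002800002700002600002500002300002200002200002000001f00001f00001d00001c00001c00001a00001900001900001600001600001600001500001300001300001200001000001000000e00000d00000d00000c00000b00000b000009000009000007000007000005000005000004000004000003000002000001000000000000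

def parC : List ℕ := [par_0]

def gen_0 : ℕ := 0xc04020008080608000002020402040c040c0a040c06040c000c0c080c0802080c00000c06060c0a060a040a020a000a0808060002040c00

def genC : List ℕ := [gen_0]

def lv_0 : ℕ := 0x3700003600003500003400003300003200003100003000002f00002e00002d00002c00002b00002a00002900002800002700002600002500002400002300002200002100002000001f00001e00001d00001c00001b00001a00001900001800001700001600001500001400001300001200001100001000000f00000e00000d00000c00000b00000a000009000008000007000006000005000004000003000002000001000000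

def lvC : List ℕ := [lv_0]

def faCC : List (List ℕ) := [[fa_0]]

def tbCC : List (List ℕ) := [[tb_0]]

def cert : Cert where
  k := 14
  ι := Cfsg.Agent.Helper5.StemP.linv
  E := 15
  W := fun wi => words.getD wi []
  nrel := 64
  nw := 70
  δ := fun wi => L8.dec (deltas.getD wi 0)
  par := fun v => lkw 24 (parC.getD (Nat.div v 4096) 0) (Nat.mod v 4096)
  gen := fun v => lkw 8 (genC.getD (Nat.div v 4096) 0) (Nat.mod v 4096)
  fa := fun j => lkw 64 ((faCC.getD (Nat.div j 32768) []).getD (Nat.mod (Nat.div j 1024) 32) 0) (Nat.mod j 1024)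
  nf := 392

def tab : Tab where
  N := 56
  LV := fun n => lkw 24 (lvC.getD (Nat.div n 4096) 0) (Nat.mod n 4096)
  TB := fun n x => lkw 48 ((tbCC.getD (Nat.div n 8192) []).getD (Nat.mod (Nat.div n 256) 32) 0) (Nat.add (Nat.mul 14 (Nat.mod n 256)) x)

def js : List ℕ := []

def cs0 : List ℕ := []

def as_ : List ℕ := []

def css : List (List ℕ) := []

end Cfsg.Agent.Helper3.Fi23Y7
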