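import Mathlib
import Cfsg.Agent.Helper5.LPT
import Cfsg.Agent.Helper5.LPF
import Cfsg.Agent.Helper5.LPCox
import Cfsg.Agent.Helper5.LPV

/-!
# Tools for the `Y₅₃₂` computation

* `ext2`: a coset table extended by two further points interchanged by every letter (this makes the
  action of a group with a central involution of odd length faithful);
* `ev_eq_one_of_base`: a word fixing all base points of a tight stabiliser chain is trivial;
* `letter_eq_word`: if a list-presented group on `k + 1` letters is generated by its first `k`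
  letters, and the sub-presentation on `k` letters satisfies the relators with the last letter
  replaced by a word `z`, then the last letter equals `z`.
-/

set_option autoImplicit false

namespace Cfsg.Agent.Helper3.Y5

open Cfsg.Agent.Helper5.TC Cfsg.Agent.Helper5.TCI Cfsg.Agent.Helper5.LP

/-! ### two extra points -/

/-- the table extended by the points `N`, `N + 1`, interchanged by every letter. -/
def ext2 (T : ℕ → ℕ → ℕ) (N : ℕ) (x v : ℕ) : ℕ :=
  bif Nat.blt v N then T x v else bif Nat.beq v N then N + 1 else bif Nat.beq v (N + 1) then N else v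

theorem blt_true' {a b : ℕ} (h : a < b) : Nat.blt a b = true := by rw [Nat.blt_eq]; exact h

theorem blt_false' {a b : ℕ} (h : ¬ a < b) : Nat.blt a b = false := by
  cases hb : Nat.blt a b with
  | false => rfl
  | true => rw [Nat.blt_eq] at hb; exact absurd hb h

theorem beq_false' {a b : ℕ} (h : a ≠ b) : Nat.beq a b = false := by
  cases hb : Nat.beq a b with
  | false => rfl
  | true => exact absurd (Nat.eq_of_beq_eq_true hb) h

section ext
variable {T : ℕ → ℕ → ℕ} {N k : ℕ}

theorem ext2_of_lt {x v : ℕ} (h : v < N) : ext2 T N x v = T x v := by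
  have h1 : Nat.blt v N = true := blt_true' h
  unfold ext2
  rw [h1]
  rfl

theorem ext2_N (x : ℕ) : ext2 T N x N = N + 1 := by
  have h1 : Nat.blt N N = false := blt_false' (by omega)
  have h2 : Nat.beq N N = true := Nat.beq_refl N
  unfold ext2
  rw [h1, h2]
  rfl

theorem ext2_N1 (x : ℕ) : ext2 T N x (N + 1) = N := by
  have h1 : Nat.blt (N + 1) N = false := blt_false' (by omega)
  have h2 : Nat.beq (N + 1) N = false := beq_false' (by omega)
  have h3 : Nat.beq (N + 1) (N + 1) = true := Nat.beq_refl _
  unfold ext2
  rw [h1, h2, h3]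
  rfl

theorem tableOK_ext2 (hT : TableOK k N T) : TableOK k (N + 2) (ext2 T N) := by
  intro x hx v hv
  rcases Nat.lt_or_ge v N with h | h
  · have h1 := hT x hx v h
    rw [ext2_of_lt h, ext2_of_lt h1.1]
    exact ⟨by omega, h1.2⟩
  · rcases Nat.eq_or_lt_of_le h with h | h
    · subst h
      rw [ext2_N, ext2_N1]
      exact ⟨by omega, rfl⟩
    · have h2 : v = N + 1 := by omega
      subst h2
      rw [ext2_N1, ext2_N]
      exact ⟨by omega, rfl⟩

theorem actL_ext2_lt (hT : TableOK k N T) : ∀ (l : List ℕ), (∀ c ∈ l, c < k) → ∀ v, v < N →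
    actL (ext2 T N) l v = actL T l v
  | [], _, _, _ => rfl
  | c :: l, hl, v, hv => by
    have hl' : ∀ c ∈ l, c < k := fun c hc => hl c (List.mem_cons_of_mem _ hc)
    show ext2 T N c (actL (ext2 T N) l v) = T c (actL T l v)
    rw [actL_ext2_lt hT l hl' v hv, ext2_of_lt (actL_lt hT l hl' v hv)]

theorem actL_ext2_hi : ∀ (l : List ℕ),
    (actL (ext2 T N) l N = if l.length % 2 = 0 then N else N + 1) ∧
    (actL (ext2 T N) l (N + 1) = if l.length % 2 = 0 then N + 1 else N)
  | [] => ⟨rfl, rfl⟩
  | c :: l => by
    obtain ⟨h1, h2⟩ := actL_ext2_hi l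
    have e1 : actL (ext2 T N) (c :: l) N = ext2 T N c (actL (ext2 T N) l N) := rfl
    have e2 : actL (ext2 T N) (c :: l) (N + 1) = ext2 T N c (actL (ext2 T N) l (N + 1)) := rfl
    rw [e1, e2, h1, h2, List.length_cons]
    rcases Nat.mod_two_eq_zero_or_one l.length with h | h
    · have h' : (l.length + 1) % 2 = 1 := by omega
      rw [if_pos h, if_pos h, if_neg (show ¬ (l.length + 1) % 2 = 0 by omega),
        if_neg (show ¬ (l.length + 1) % 2 = 0 by omega), ext2_N, ext2_N1]
      exact ⟨rfl, rfl⟩
    · have h' : (l.length + 1) % 2 = 0 := by omega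
      rw [if_neg (show ¬ l.length % 2 = 0 by omega), if_neg (show ¬ l.length % 2 = 0 by omega),
        if_pos h', if_pos h', ext2_N, ext2_N1]
      exact ⟨rfl, rfl⟩

theorem relsFix_ext2 {R : List (List ℕ)} (hT : TableOK k N T) (hlt : LettersLt k R)
    (hR : RelsFix R N T) (hev : ∀ l ∈ R, l.length % 2 = 0) : RelsFix R (N + 2) (ext2 T N) := by
  intro l hl v hv
  rcases Nat.lt_or_ge v N with h | h
  · rw [actL_ext2_lt hT l (hlt l hl) v h]
    exact hR l hl v h
  · rcases Nat.eq_or_lt_of_le h with h | h
    · subst h
      rw [(actL_ext2_hi l).1, if_pos (hev l hl)]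
    · have h2 : v = N + 1 := by omega
      subst h2
      rw [(actL_ext2_hi l).2, if_pos (hev l hl)]

end ext

/-! ### words fixing the base of a tight chain -/

section base
variable {G : Type*} [Group G] {k N : ℕ} {T : ℕ → ℕ → ℕ}

/-- the word fixes all points of the list. -/
def fixList (T : ℕ → ℕ → ℕ) (w : List ℕ) (base : List ℕ) : Bool :=
  base.all (fun b => Nat.beq (actL T w b) b)

theorem fixList_spec {w base : List ℕ} (h : fixList T w base = true) :
    ∀ b ∈ base, actL T w b = b := by
  intro b hb
  exact Nat.eq_of_beq_eq_true (List.all_eq_true.mp h b hb)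

theorem ev_eq_one_of_base [Finite G] {ρ : G →* Equiv.Perm (Fin N)} {e : List ℕ → G}
    (hA : ActsOn ρ e k T) (levels : List Level) (h : chainOK T k N [] levels = true)
    (hle : Nat.card G ≤ chainProd levels) (w : List ℕ) (hw : ∀ c ∈ w, c < k)
    (hfix : fixList T w (chainBase levels []) = true) : e w = 1 := by
  apply eq_one_of_fix_base hA levels h hle
  intro b hb hbN
  apply Fin.ext
  rw [hA.act w hw]
  exact fixList_spec hfix b hb

end base

/-! ### a redundant last generator -/

/-- replace the letter `k` by the word `z`. -/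
def subst (k : ℕ) (z : List ℕ) : List ℕ → List ℕ
  | [] => []
  | c :: l => (bif Nat.beq c k then z else [c]) ++ subst k z l

theorem subst_lt {k : ℕ} {z : List ℕ} (hz : ∀ c ∈ z, c < k) : ∀ (l : List ℕ),
    (∀ c ∈ l, c < k + 1) → ∀ c ∈ subst k z l, c < k
  | [], _, c, hc => by simp [subst] at hc
  | d :: l, hl, c, hc => by
    rw [subst, List.mem_append] at hc
    rcases hc with hc | hc
    · cases hb : Nat.beq d k with
      | true =>
        rw [hb] at hc
        exact hz c hc
      | false =>
        rw [hb] at hc
        have hcd : c = d := by simpa using hc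
        have hdk : d ≠ k := by
          intro hdk
          rw [hdk, Nat.beq_refl] at hb
          exact Bool.noConfusion hb
        have := hl d List.mem_cons_self
        omega
    · exact subst_lt hz l (fun c hc => hl c (List.mem_cons_of_mem _ hc)) c hc

section collapse
variable {k : ℕ} {R R' : List (List ℕ)}

theorem prod_map_subst (z : List ℕ) : ∀ l : List ℕ,
    (l.map (fun c => bif Nat.beq c k then ev k R z else ev k R [c])).prod = ev k R (subst k z l)
  | [] => by simp [subst, ev_nil]
  | c :: l => by
    rw [List.map_cons, List.prod_cons, prod_map_subst z l, subst, ev_append]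
    congr 1
    cases Nat.beq c k <;> rfl

/-- **A redundant last generator.**  If the first `k` letters generate the group on `k + 1` letters
and the group on `k` letters satisfies all relators with the last letter replaced by `z`, then the
last letter is `z`. -/
theorem letter_eq_word (hlt : LettersLt k R) (hlt' : LettersLt (k + 1) R')
    (hsub : ∀ l ∈ R, l ∈ R') (hidx : (para (k + 1) R' k).index = 1)
    (z : List ℕ) (hz : ∀ c ∈ z, c < k)
    (hrel : ∀ l ∈ R', ev k R (subst k z l) = 1) :
    ev (k + 1) R' [k] = ev (k + 1) R' z := by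
  let f : ℕ → LPG k R := fun c => bif Nat.beq c k then ev k R z else ev k R [c]
  have hf : ∀ l ∈ R', (l.map f).prod = 1 := by
    intro l hl
    rw [prod_map_subst]
    exact hrel l hl
  let π : LPG (k + 1) R' →* LPG k R := lift f hlt' hf
  let ι : LPG k R →* LPG (k + 1) R' := subHom (k + 1) R' hlt hsub
  have hkk : Nat.beq k k = true := Nat.beq_refl k
  have hπk : π (ev (k + 1) R' [k]) = ev k R z := by
    show lift f hlt' hf (ev (k + 1) R' [k]) = _
    rw [lift_ev f hlt' hf [k] (by intro c hc; simp at hc; omega)]
    simp only [List.map_cons, List.map_nil, List.prod_cons, List.prod_nil, mul_one]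
    show (bif Nat.beq k k then ev k R z else ev k R [k]) = _
    rw [hkk]
    rfl
  have hπι : ∀ q, π (ι q) = q := by
    have hcomp : π.comp ι = MonoidHom.id _ := by
      apply PresentedGroup.ext
      intro c
      show π (ι (PresentedGroup.of c)) = PresentedGroup.of c
      rw [of_eq_ev]
      show π (subHom (k + 1) R' hlt hsub (ev k R [c.val])) = _
      rw [subHom_ev hlt hsub [c.val] (by intro d hd; simp at hd; rw [hd]; exact c.isLt)]
      show lift f hlt' hf (ev (k + 1) R' [c.val]) = _
      rw [lift_ev f hlt' hf [c.val] (by intro d hd; simp at hd; rw [hd]; have := c.isLt; omega)]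
      simp only [List.map_cons, List.map_nil, List.prod_cons, List.prod_nil, mul_one]
      have hck : Nat.beq c.val k = false := beq_false' (by have := c.isLt; omega)
      show (bif Nat.beq c.val k then ev k R z else ev k R [c.val]) = _
      rw [hck]
      rfl
    intro q
    have := congrArg (fun g => g q) hcomp
    exact this
  have htop : ι.range = ⊤ := by
    rw [range_subHom hlt hsub]
    exact Subgroup.index_eq_one.mp hidx
  have hmem : ev (k + 1) R' [k] ∈ ι.range := by rw [htop]; exact Subgroup.mem_top _
  obtain ⟨q, hq⟩ := hmem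
  have hq2 : q = ev k R z := by
    rw [← hπι q, hq, hπk]
  rw [← hq, hq2]
  exact subHom_ev hlt hsub z hz

end collapse

/-! ### strict evaluation of the base check, and all relators at once -/

/-- `fixList` with forced evaluation of the intermediate points. -/
def fixListF (T : ℕ → ℕ → ℕ) (w : List ℕ) (base : List ℕ) : Bool :=
  base.all (fun b => Nat.beq (actLF T w b) b)

theorem fixListF_eq (T : ℕ → ℕ → ℕ) (w base : List ℕ) : fixListF T w base = fixList T w base := by
  unfold fixListF fixList
  congr 1
  funext b
  rw [actLF_eq]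

/-- all relators, with the letter `k` replaced by `z`, fix the points of the list. -/
def substFixF (T : ℕ → ℕ → ℕ) (k : ℕ) (z : List ℕ) (base : List ℕ) (R' : List (List ℕ)) : Bool :=
  R'.all (fun l => fixListF T (subst k z l) base)

theorem substFixF_spec {T : ℕ → ℕ → ℕ} {k : ℕ} {z base : List ℕ} {R' : List (List ℕ)}
    (h : substFixF T k z base R' = true) : ∀ l ∈ R', fixList T (subst k z l) base = true := by
  intro l hl
  rw [← fixListF_eq]
  exact List.all_eq_true.mp h l hl

/-! ### transfer of relations along a map of letters, up to rotation and reversal -/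

section transfer
variable {k : ℕ} {R : List (List ℕ)}

theorem ev_rotate {u v : List ℕ} (h : ev k R (u ++ v) = 1) : ev k R (v ++ u) = 1 := by
  rw [ev_append] at h ⊢
  exact mul_eq_one_comm.mp h

/-- the word is a relator, the reverse of a relator, or a rotation of a relator. -/
def relOK (R : List (List ℕ)) (w : List ℕ) : Bool :=
  R.any (fun r => listBeq w r || listBeq w.reverse r ||
    (List.range r.length).any (fun i => listBeq w (r.drop i ++ r.take i)))

theorem relOK_spec (hinv : Invol k R) {w : List ℕ} (h : relOK R w = true) : ev k R w = 1 := by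
  unfold relOK at h
  obtain ⟨r, hr, h1⟩ := List.any_eq_true.mp h
  rw [Bool.or_eq_true, Bool.or_eq_true] at h1
  rcases h1 with (h1 | h1) | h1
  · rw [listBeq_spec _ _ h1]
    exact ev_rel hr
  · have h2 := ev_rel (k := k) hr
    rw [← listBeq_spec _ _ h1, ev_reverse hinv] at h2
    exact inv_eq_one.mp h2
  · obtain ⟨i, _, h2⟩ := List.any_eq_true.mp h1
    rw [listBeq_spec _ _ h2]
    apply ev_rotate
    rw [List.take_append_drop]
    exact ev_rel hr

/-- **Transfer of equations along a map of letters.** -/
theorem ev_map_eq {k' : ℕ} {R' : List (List ℕ)} (hinv : Invol k R) (φ : ℕ → ℕ)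
    (hlt' : LettersLt k' R') (hrel : R'.all (fun l => relOK R (l.map φ)) = true)
    (w w' : List ℕ) (hw : ∀ c ∈ w, c < k') (hw' : ∀ c ∈ w', c < k')
    (h : ev k' R' w = ev k' R' w') : ev k R (w.map φ) = ev k R (w'.map φ) := by
  have hf : ∀ l ∈ R', (l.map (fun c => ev k R [φ c])).prod = 1 := by
    intro l hl
    have h1 : (l.map (fun c => ev k R [φ c])).prod = ev k R (l.map φ) := by
      rw [← prod_map_ev (l.map φ), List.map_map]
      rfl
    rw [h1]
    exact relOK_spec hinv (List.all_eq_true.mp hrel l hl)
  have hp : ∀ u : List ℕ, (u.map (fun c => ev k R [φ c])).prod = ev k R (u.map φ) := by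
    intro u
    rw [← prod_map_ev (u.map φ), List.map_map]
    rfl
  have h1 := lift_ev (fun c => ev k R [φ c]) hlt' hf w hw
  have h2 := lift_ev (fun c => ev k R [φ c]) hlt' hf w' hw'
  rw [hp] at h1 h2
  rw [← h1, ← h2, h]

end transfer

end Cfsg.Agent.Helper3.Y5
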