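import Mathlib
import Cfsg.Agent.Helper5.Fi24LPD
import Cfsg.Agent.Helper3.Y5Lib

/-!
# Words in the list-presented group `Fi₂₄`: triviality on a base, and homomorphisms given by words

The group `G12 = LPG 12 R12` of helper5 (letters `b, c, d, e, h, i, f, g, a, j, l, k`) acts faithfully
on `306936` points with a tight stabiliser chain (`Fi24LP.levels`); a word fixing the twelve base
points is trivial.  This gives homomorphisms from other list-presented groups into `G12`, the
letters being sent to words, all relators being checked on the base.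
-/

set_option autoImplicit false

namespace Cfsg.Agent.Helper3.Fi24

open Cfsg.Agent.Helper5.TC Cfsg.Agent.Helper5.TCI Cfsg.Agent.Helper5.LP
open Cfsg.Agent.Helper5.Fi24LP Cfsg.Agent.Helper5
open Cfsg.Agent.Helper3.Y5

/-- the list-presented group `Fi₂₄`. -/
abbrev G12 : Type := LPG 12 R12

/-- the base points of the stabiliser chain. -/
def base12 : List ℕ := [1, 8, 15, 32, 16, 75, 516, 359, 706, 1307, 88677, 0]

theorem chainBase_eq : chainBase levels [] = base12 := by decide +kernel

theorem card_le : Nat.card G12 ≤ chainProd levels := by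
  rw [chain_prod, cardG]

/-- **A word fixing the base points is trivial.** -/
theorem word_eq_one (w : List ℕ) (hw : ∀ c ∈ w, c < 12)
    (h : fixListF FiZATC.ctF w base12 = true) : ev 12 R12 w = 1 := by
  apply ev_eq_one_of_base actsA levels chain_ok card_le w hw
  rw [chainBase_eq, ← fixListF_eq]
  exact h

/-! ### substitution of words for letters -/

/-- replace every letter `c` by the word `W c`. -/
def subW (W : ℕ → List ℕ) : List ℕ → List ℕ
  | [] => []
  | c :: l => W c ++ subW W l

theorem subW_lt {W : ℕ → List ℕ} (hW : ∀ c, ∀ x ∈ W c, x < 12) :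
    ∀ l : List ℕ, ∀ x ∈ subW W l, x < 12
  | [], x, hx => by simp [subW] at hx
  | c :: l, x, hx => by
    rw [subW, List.mem_append] at hx
    rcases hx with hx | hx
    · exact hW c x hx
    · exact subW_lt hW l x hx

theorem prod_subW (W : ℕ → List ℕ) :
    ∀ l : List ℕ, (l.map (fun c => ev 12 R12 (W c))).prod = ev 12 R12 (subW W l)
  | [] => by simp [subW, ev_nil]
  | c :: l => by
    rw [List.map_cons, List.prod_cons, prod_subW W l, subW, ev_append]

theorem length_subW_even {W : ℕ → List ℕ} (hW : ∀ c, (W c).length % 2 = 0) :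
    ∀ l : List ℕ, (subW W l).length % 2 = 0
  | [] => by simp [subW]
  | c :: l => by
    rw [subW, List.length_append, Nat.add_mod, hW c, length_subW_even hW l]

/-- all relators, with the letters replaced by words, fix the base points. -/
def relsCheck (W : ℕ → List ℕ) (R : List (List ℕ)) : Bool :=
  R.all (fun r => fixListF FiZATC.ctF (subW W r) base12)

section hom
variable {k : ℕ} {R : List (List ℕ)}

/-- **The homomorphism sending the letters to words.** -/
noncomputable def homW (hlt : LettersLt k R) (W : ℕ → List ℕ)
    (hW : ∀ c, ∀ x ∈ W c, x < 12) (h : relsCheck W R = true) : LPG k R →* G12 :=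
  lift (fun c => ev 12 R12 (W c)) hlt (by
    intro r hr
    rw [prod_subW]
    exact word_eq_one _ (subW_lt hW r) (List.all_eq_true.mp h r hr))

theorem homW_ev (hlt : LettersLt k R) (W : ℕ → List ℕ)
    (hW : ∀ c, ∀ x ∈ W c, x < 12) (h : relsCheck W R = true) (l : List ℕ)
    (hl : ∀ c ∈ l, c < k) : homW hlt W hW h (ev k R l) = ev 12 R12 (subW W l) := by
  unfold homW
  rw [lift_ev _ _ _ l hl, prod_subW]

/-- the homomorphism is injective when the source is simple and some letter goes to a word moving
a point. -/
theorem homW_injective (hlt : LettersLt k R) (W : ℕ → List ℕ)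
    (hW : ∀ c, ∀ x ∈ W c, x < 12) (h : relsCheck W R = true) [IsSimpleGroup (LPG k R)]
    (c : ℕ) (hc : c < k) (v : ℕ) (hv : v < 306936) (hmove : actL FiZATC.ctF (W c) v ≠ v) :
    Function.Injective (homW hlt W hW h) := by
  rw [← MonoidHom.ker_eq_bot_iff]
  rcases Subgroup.Normal.eq_bot_or_eq_top
    (inferInstance : (homW hlt W hW h).ker.Normal) with hb | ht
  · exact hb
  · exfalso
    have hmem : ev k R [c] ∈ (homW hlt W hW h).ker := by rw [ht]; exact Subgroup.mem_top _
    rw [MonoidHom.mem_ker, homW_ev hlt W hW h [c] (by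
      intro c' hc'; rw [List.mem_singleton.mp hc']; exact hc)] at hmem
    have hsub : subW W [c] = W c := by simp [subW]
    rw [hsub] at hmem
    exact ne_one_of_move actsA (W c) (hW c) v hv hmove hmem

/-- the image lies in the kernel of the sign when all the words have even length. -/
theorem sgn_homW (hlt : LettersLt k R) (W : ℕ → List ℕ)
    (hW : ∀ c, ∀ x ∈ W c, x < 12) (h : relsCheck W R = true)
    (heven : ∀ c, (W c).length % 2 = 0) (y : LPG k R) : sgn (homW hlt W hW h y) = 1 := by
  have hy : y ∈ Subgroup.closure {x : LPG k R | ∃ c, c < k ∧ x = ev k R [c]} := by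
    rw [closure_gens]; exact Subgroup.mem_top y
  induction hy using Subgroup.closure_induction with
  | mem x hx =>
    obtain ⟨c, hc, rfl⟩ := hx
    rw [homW_ev hlt W hW h [c] (by
      intro c' hc'; rw [List.mem_singleton.mp hc']; exact hc), sgn_ev _ (subW_lt hW [c])]
    exact Even.neg_one_pow (Nat.even_iff.mpr (length_subW_even heven [c]))
  | one => rw [map_one, map_one]
  | mul x y _ _ hx hy => rw [map_mul, map_mul, hx, hy, one_mul]
  | inv x _ hx => rw [map_inv, map_inv, hx, inv_one]

theorem range_le_ker (hlt : LettersLt k R) (W : ℕ → List ℕ)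
    (hW : ∀ c, ∀ x ∈ W c, x < 12) (h : relsCheck W R = true)
    (heven : ∀ c, (W c).length % 2 = 0) : (homW hlt W hW h).range ≤ sgn.ker := by
  rintro _ ⟨y, rfl⟩
  rw [MonoidHom.mem_ker]
  exact sgn_homW hlt W hW h heven y

end hom

/-- a subgroup of the kernel of the sign isomorphic to a given simple group. -/
theorem exists_subgroup_ker {S : Type*} [Group S] [IsSimpleGroup S] (f : S →* G12)
    (hf : Function.Injective f) (hle : f.range ≤ sgn.ker) :
    ∃ K : Subgroup sgn.ker, IsSimpleGroup K ∧ Nat.card K = Nat.card S := by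
  refine ⟨f.range.subgroupOf sgn.ker, ?_, ?_⟩
  · have e1 : f.range.subgroupOf sgn.ker ≃* f.range := Subgroup.subgroupOfEquivOfLe hle
    have e2 : S ≃* f.range := MonoidHom.ofInjective hf
    exact (e1.trans e2.symm).isSimpleGroup
  · have e1 : f.range.subgroupOf sgn.ker ≃* f.range := Subgroup.subgroupOfEquivOfLe hle
    have e2 : S ≃* f.range := MonoidHom.ofInjective hf
    exact Nat.card_congr (e1.trans e2.symm).toEquiv

end Cfsg.Agent.Helper3.Fi24
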