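import Mathlib
import Cfsg.Prelude.Def_Sporadic
import Cfsg.Agent.Helper5.HeLPD
import Cfsg.Agent.Helper3.Fi24Lib

/-!
# The Held group inside `Fi₂₄'`

Seven words in the twelve letters of the list-presented `Fi₂₄` (helper5's `LPG 12 R12`) satisfying the
relators of the presented Held group (`HeLP.R7`; checked on the twelve base points).  The Held group
being simple, this embeds it into `Fi₂₄`; the words have even length, so the image lies in the
kernel of the sign, the simple group `Fi₂₄'`.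

How the words were found (python, not needed for the proof): an element `z` of order 17 of the point
stabiliser `2 × Fi₂₃` commutes with exactly one transposition `t`; the `D`-subgroups generated by the
`z`-orbits of transpositions commuting with `t` show two subgroups `Sp₈(2)` containing `z`; in one of
them the subfield `𝔽₄` of `𝔽₂[z]` gives `Sp₄(4)`, generated by products of two commuting
transpositions; its orbits of lengths `1, 136, 136, 425, 1360` on the `306936` transpositions form the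
orbit of `He:2` containing `t` (the union on which the commuting graph has valency `425`); a graph
isomorphism with the orbital graph of valency `425` of the presented Held group on the `2058` cosets of
`Sp₄(4):2` gives the action of the seven generators on these `2058` transpositions, which extends
uniquely to all transpositions (closure under conjugation); the permutations were then sifted through
the stabiliser chain into words.
-/

set_option autoImplicit false

namespace Cfsg.Agent.Helper3.Fi24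

open Cfsg.Agent.Helper5.TC Cfsg.Agent.Helper5.TCI Cfsg.Agent.Helper5.LP
open Cfsg.Agent.Helper5.Fi24LP Cfsg.Agent.Helper5
open Cfsg.Agent.Helper3.Y5

/-- the word of the generator `a` of the Held group. -/
def he_a : List ℕ := [0, 2, 1, 2, 3, 6, 3, 2, 1, 0]

/-- the word of the generator `b` of the Held group. -/
def he_b : List ℕ := [0, 2, 5, 8, 4, 2, 1, 0, 2, 1, 3, 2, 1, 0, 4, 2, 1, 3, 2, 4, 8, 0, 1, 2, 6, 3, 2, 1, 0, 4, 2, 1, 3, 2, 5, 4, 2, 1, 3, 6, 3, 2, 4, 8, 0, 1, 2, 3, 4, 2, 5, 6, 7, 6, 3, 2, 1, 0, 4, 2, 1, 3, 2, 4, 5, 4, 2, 1, 0, 3, 6, 3, 7, 6, 8, 0, 1, 2, 3, 4, 2, 1, 0, 5, 4, 2, 3, 9, 7, 6, 3, 2, 1, 0, 4, 2, 1, 3, 2, 4, 5, 4, 2, 1, 6, 3, 2, 1, 7, 6, 8, 0, 1, 2, 3, 4, 2, 5, 4, 6, 3, 2, 11, 8, 0, 1, 2, 3, 4, 2, 1, 0, 5, 4, 2, 6, 3, 2, 1, 0, 4, 5, 7, 6, 3, 2, 1, 0, 8, 0, 1, 9, 7, 6]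

/-- the word of the generator `c` of the Held group. -/
def he_c : List ℕ := [8, 4, 2, 1, 2, 4, 3, 2, 1, 4, 2, 3, 6, 3, 2, 1, 0, 7, 6, 3, 2, 1, 4, 2, 3, 6, 7, 9, 7, 6, 3, 2, 1, 0, 4, 2, 1, 3, 2, 4, 6, 3, 2, 1, 7, 6, 3, 2, 4, 8]

/-- the word of the generator `d` of the Held group. -/
def he_d : List ℕ := [2, 1, 0, 2, 1, 3, 2, 1, 0, 4, 2, 1, 3, 2, 4, 6, 3, 2, 1, 0, 4, 2, 3, 6, 7, 6, 3, 2, 1, 0, 4, 2, 1, 3, 2, 6, 3, 7, 9, 7, 6, 3, 2, 1, 0, 4, 2, 1, 3, 2, 4, 6, 3, 2, 1, 0, 7, 6, 3, 2, 1, 4, 2, 3]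

/-- the word of the generator `e` of the Held group. -/
def he_e : List ℕ := [0, 8, 0, 1, 2, 3, 2, 1, 0, 4, 2, 1, 3, 2, 4, 6, 3, 2, 1, 4, 7, 6, 3, 2, 1, 4, 2, 3, 6, 7, 9, 7, 6, 3, 2, 1, 0, 4, 2, 1, 3, 2, 6, 3, 7, 8, 0, 9]

/-- the word of the generator `f` of the Held group. -/
def he_f : List ℕ := [2, 8, 0, 4, 2, 1, 0, 2, 1, 4, 2, 8, 0, 1, 3, 2, 1, 0, 4, 2, 1, 3, 2, 4, 8, 0, 6, 3, 2, 1, 0, 4, 2, 1, 3, 6, 7, 6, 3, 2, 1, 4, 2, 3, 6, 7, 9, 7, 6, 3, 2, 1, 0, 4, 2, 1, 3, 2, 4, 6, 3, 2, 1, 7, 6, 3, 2, 4, 8, 9]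

/-- the word of the generator `g` of the Held group. -/
def he_g : List ℕ := [0, 2, 5, 8, 0, 4, 2, 1, 0, 8, 3, 2, 1, 0, 4, 2, 1, 3, 2, 4, 8, 0, 1, 2, 6, 3, 2, 1, 0, 4, 2, 1, 3, 2, 5, 4, 2, 1, 6, 3, 2, 1, 4, 8, 0, 1, 2, 3, 4, 2, 1, 7, 6, 3, 2, 1, 0, 4, 2, 1, 3, 2, 4, 6, 3, 2, 1, 7, 6, 3, 2, 4, 9, 7, 6, 3, 2, 1, 0, 4, 2, 8, 11, 8, 0, 1, 2, 3, 4, 2, 1, 0, 5, 4, 6, 3, 2, 1, 0, 4, 2, 7, 6, 3, 2, 1, 4, 9, 7, 6, 3, 2, 1, 4, 5, 10, 11, 8]

/-- the words of the seven generators. -/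
def heW (c : ℕ) : List ℕ := [he_a, he_b, he_c, he_d, he_e, he_f, he_g].getD c []

theorem heW_lt : ∀ c, ∀ x ∈ heW c, x < 12 := by
  intro c
  rcases Nat.lt_or_ge c 7 with hc | hc
  · interval_cases c <;> decide +kernel
  · intro x hx
    have : heW c = [] := by
      unfold heW
      rw [List.getD_eq_default _ _ (by simpa using hc)]
    rw [this] at hx
    simp at hx

theorem heW_even : ∀ c, (heW c).length % 2 = 0 := by
  intro c
  rcases Nat.lt_or_ge c 7 with hc | hc
  · interval_cases c <;> decide +kernel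
  · have : heW c = [] := by
      unfold heW
      rw [List.getD_eq_default _ _ (by simpa using hc)]
    rw [this]; rfl

set_option maxRecDepth 1000000 in
/-- the relators of the Held group hold for the seven words. -/
theorem he_check : relsCheck heW HeLP.R7 = true := by decide +kernel

theorem he_move : actL FiZATC.ctF (heW 1) 0 ≠ 0 := by decide +kernel

instance : IsSimpleGroup (LPG 7 HeLP.R7) := HeLP.simple_card.1

/-- the embedding of the presented Held group. -/
noncomputable def heHom : LPG 7 HeLP.R7 →* G12 := homW HeLP.lettersA heW heW_lt he_check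

theorem heHom_injective : Function.Injective heHom :=
  homW_injective HeLP.lettersA heW heW_lt he_check 1 (by norm_num) 0 (by norm_num) he_move

theorem heHom_range_le : heHom.range ≤ sgn.ker :=
  range_le_ker HeLP.lettersA heW heW_lt he_check heW_even

/-- **`Fi₂₄'` has a simple subgroup of the order of the Held group.** -/
theorem exists_He : ∃ K : Subgroup sgn.ker, Cfsg.IsHe K := by
  obtain ⟨K, h1, h2⟩ := exists_subgroup_ker heHom heHom_injective heHom_range_le
  exact ⟨K, h1, by rw [h2]; exact HeLP.simple_card.2⟩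

end Cfsg.Agent.Helper3.Fi24
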