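import Mathlib
import Cfsg.Prelude.Def_Sporadic
import Cfsg.Prelude.Def_SporadicB
import Cfsg.Agent.Helper5.LPO
import Cfsg.Agent.Helper3.Fi24Lib

/-!
# The class of 306936 3-transpositions of the list-presented group `Fi₂₄`

The letter `l` (number 10) of helper5's `LPG 12 R12` is a 3-transposition: its centraliser is the
point stabiliser `2 × Fi₂₃` of the primitive action on `306936` points, its conjugates are in
bijection with the points, and the product of `l` with a representative of each of the two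
non-trivial orbits of the stabiliser has order 3 resp. 2.  All letters are conjugate to `l`.
The centraliser contains a simple subgroup of the order of `Fi₂₃` (the image of the presented `Fi₂₃`
under `c ↦ c·l`), which lies in the kernel of the sign.
-/

set_option autoImplicit false

namespace Cfsg.Agent.Helper3.Fi24

open Cfsg.Agent.Helper5.TC Cfsg.Agent.Helper5.TCI Cfsg.Agent.Helper5.LP
open Cfsg.Agent.Helper5.Fi24LP Cfsg.Agent.Helper5
open Cfsg.Agent.Helper3.Y5

/-! ### a class of 3-transpositions from a primitive coset table (the group need not be simple) -/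

section general
variable {G : Type*} [Group G] {k N : ℕ} {T : ℕ → ℕ → ℕ}

theorem three_transposition_class' {ρ : G →* Equiv.Perm (Fin N)} {e : List ℕ → G}
    (hA : ActsOn ρ e k T) {Hgens : List (List ℕ)} {prim : PrimData}
    (h : primOK T k N Hgens prim = true) (h0 : 0 < N) (d : G)
    (hd2 : orderOf d = 2)
    (hcent : ∀ g : G, g * d = d * g ↔ ρ g ⟨0, h0⟩ = ⟨0, h0⟩)
    (h3 : ∀ p ∈ prim, (d * (e p.2.1 * d * (e p.2.1)⁻¹)) ^ 2 = 1 ∨
      (d * (e p.2.1 * d * (e p.2.1)⁻¹)) ^ 3 = 1)
    (hgen : Subgroup.closure (conjugatesOf d) = ⊤) :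
    Cfsg.IsThreeTranspositionClass (conjugatesOf d) ∧ Nat.card (conjugatesOf d) = N := by
  set z : Fin N := ⟨0, h0⟩ with hz
  have hdd : d * d = 1 := by
    have := pow_orderOf_eq_one d
    rwa [hd2, pow_two] at this
  have hbase : ∀ a : G, (d * (a * d * a⁻¹)) ^ 2 = 1 ∨ (d * (a * d * a⁻¹)) ^ 3 = 1 := by
    intro a
    obtain ⟨s, hs, hu | ⟨p, hp, -, hu⟩⟩ := prim_points hA h h0 (ρ a z)
    · have ha : a * d = d * a := (hcent a).mpr (hu.symm.trans hs)
      left
      have : a * d * a⁻¹ = d := by rw [ha, mul_inv_cancel_right]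
      rw [this, hdd, one_pow]
    · have hsc : s * d = d * s := (hcent s).mpr hs
      set t := e p.2.1 with ht
      have hc : ((s * t)⁻¹ * a) * d = d * ((s * t)⁻¹ * a) := by
        apply (hcent _).mpr
        rw [map_mul, Equiv.Perm.mul_apply, ← hu, ← Equiv.Perm.mul_apply, ← map_mul,
          inv_mul_cancel, map_one, Equiv.Perm.one_apply]
      have hconj : a * d * a⁻¹ = s * (t * d * t⁻¹) * s⁻¹ := by
        have h1 : ((s * t)⁻¹ * a) * d * ((s * t)⁻¹ * a)⁻¹ = d := by
          rw [hc, mul_inv_cancel_right]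
        calc a * d * a⁻¹
            = (s * t) * (((s * t)⁻¹ * a) * d * ((s * t)⁻¹ * a)⁻¹) * (s * t)⁻¹ := by group
          _ = (s * t) * d * (s * t)⁻¹ := by rw [h1]
          _ = s * (t * d * t⁻¹) * s⁻¹ := by group
      rw [hconj, conj_mul_conj hsc]
      rcases h3 p hp with h2 | h2
      · left; exact conj_pow_eq_one h2
      · right; exact conj_pow_eq_one h2
  refine ⟨⟨⟨?_, ?_⟩, ⟨d, mem_conjugatesOf_self, rfl⟩, hgen⟩, ?_⟩
  · intro x hx
    obtain ⟨c, rfl⟩ := isConj_iff.mp hx
    have := (MulAut.conj c).orderOf_eq d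
    rw [MulAut.conj_apply] at this
    rw [this, hd2]
  · intro x hx y hy
    obtain ⟨c, rfl⟩ := isConj_iff.mp hx
    obtain ⟨c', rfl⟩ := isConj_iff.mp hy
    have : c * d * c⁻¹ * (c' * d * c'⁻¹) = c * (d * ((c⁻¹ * c') * d * (c⁻¹ * c')⁻¹)) * c⁻¹ := by
      group
    rw [this]
    rcases hbase (c⁻¹ * c') with h2 | h2
    · left; exact conj_pow_eq_one h2
    · right; exact conj_pow_eq_one h2
  · have hex : ∀ u : Fin N, ∃ a : G, ρ a z = u := prim_transitive hA h h0
    choose a ha using hex
    let f : Fin N → conjugatesOf d := fun u => ⟨a u * d * (a u)⁻¹, isConj_iff.mpr ⟨a u, rfl⟩⟩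
    have hconj_eq : ∀ g g' : G, g * d * g⁻¹ = g' * d * g'⁻¹ ↔ ρ g z = ρ g' z := by
      intro g g'
      have h1 : g * d * g⁻¹ = g' * d * g'⁻¹ ↔ (g'⁻¹ * g) * d = d * (g'⁻¹ * g) := by
        constructor
        · intro hh
          have : g'⁻¹ * (g * d * g⁻¹) * g = g'⁻¹ * (g' * d * g'⁻¹) * g := by rw [hh]
          calc g'⁻¹ * g * d = g'⁻¹ * (g * d * g⁻¹) * g := by group
            _ = g'⁻¹ * (g' * d * g'⁻¹) * g := this
            _ = d * (g'⁻¹ * g) := by group
        · intro hh
          calc g * d * g⁻¹ = g' * ((g'⁻¹ * g) * d) * g⁻¹ := by group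
            _ = g' * (d * (g'⁻¹ * g)) * g⁻¹ := by rw [hh]
            _ = g' * d * g'⁻¹ := by group
      rw [h1, hcent, map_mul, Equiv.Perm.mul_apply, map_inv, Equiv.Perm.inv_eq_iff_eq]
    have hbij : Function.Bijective f := by
      constructor
      · intro u u' huu
        have := (hconj_eq (a u) (a u')).mp (congrArg Subtype.val huu)
        rw [ha, ha] at this
        exact this
      · rintro ⟨x, hx⟩
        obtain ⟨c, rfl⟩ := isConj_iff.mp hx
        refine ⟨ρ c z, Subtype.ext ?_⟩
        exact (hconj_eq _ _).mpr (ha _)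
    rw [← Nat.card_congr (Equiv.ofBijective f hbij), Nat.card_fin]

end general

/-! ### the transposition `l` -/

/-- the transposition `l`. -/
noncomputable def d0 : G12 := ev 12 R12 [10]

theorem d0_sq : d0 * d0 = 1 := ev_sq invol12 10

theorem d0_ne : d0 ≠ 1 :=
  ne_one_of_move actsA [10] (by decide) 1 (by norm_num) (by decide +kernel)

theorem d0_order : orderOf d0 = 2 := by
  have : Fact (Nat.Prime 2) := ⟨Nat.prime_two⟩
  exact orderOf_eq_prime (by rw [pow_two]; exact d0_sq) d0_ne

theorem d0_inv : d0⁻¹ = d0 := inv_eq_of_mul_eq_one_left d0_sq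

theorem h0 : 0 < 306936 := by norm_num

theorem para_fix : ∀ g ∈ para 12 R12 11, rho g ⟨0, h0⟩ = ⟨0, h0⟩ := by
  intro g hg
  unfold para at hg
  induction hg using Subgroup.closure_induction with
  | mem x hx =>
    obtain ⟨s, hs, rfl⟩ := hx
    obtain ⟨c, hc, rfl⟩ := mem_letterWords.mp hs
    apply Fin.ext
    rw [actsA.act [c] (by intro c' hc'; rw [List.mem_singleton.mp hc']; omega)]
    exact letters_fix c hc
  | one => rw [map_one]; rfl
  | mul x y _ _ hx hy => rw [map_mul, Equiv.Perm.mul_apply, hy, hx]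
  | inv x _ hx =>
    rw [map_inv, Equiv.Perm.inv_eq_iff_eq]
    exact hx.symm

theorem stab_mem : ∀ g : G12, rho g ⟨0, h0⟩ = ⟨0, h0⟩ → g ∈ para 12 R12 11 :=
  mem_of_fix_zero actsA prim_ok h0 (para 12 R12 11) para_fix idxA

theorem phi_zl : phi zl = d0 := subHom_ev letters11 sub11 [10] (by decide)

theorem para_comm : ∀ g ∈ para 12 R12 11, g * d0 = d0 * g := by
  intro g hg
  rw [← range_phi] at hg
  obtain ⟨y, rfl⟩ := hg
  rw [← phi_zl, ← map_mul, ← map_mul, zl_central y]

theorem d0_noncentral : ev 12 R12 [11] * d0 ≠ d0 * ev 12 R12 [11] := by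
  intro h
  have h1 : ev 12 R12 [11, 10, 11, 10] = 1 := by
    have e1 : ev 12 R12 [11, 10, 11, 10] = ev 12 R12 [11] * d0 * (ev 12 R12 [11] * d0) := by
      rw [show [11, 10, 11, 10] = [11] ++ [10] ++ ([11] ++ [10]) from rfl, ev_append, ev_append]
      rfl
    rw [e1]
    calc ev 12 R12 [11] * d0 * (ev 12 R12 [11] * d0)
        = ev 12 R12 [11] * d0 * (d0 * ev 12 R12 [11]) := by rw [h]
      _ = ev 12 R12 [11] * (d0 * d0) * ev 12 R12 [11] := by group
      _ = 1 := by rw [d0_sq, mul_one, ev_sq invol12 11]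
  exact ne_one_of_move actsA [11, 10, 11, 10] (by decide) 0 (by norm_num) (by decide +kernel) h1

theorem d0_cent (g : G12) : g * d0 = d0 * g ↔ rho g ⟨0, h0⟩ = ⟨0, h0⟩ := by
  constructor
  · intro hg
    by_contra hmv
    have htop : Subgroup.centralizer ({d0} : Set G12) = ⊤ := by
      apply prim_maximal actsA prim_ok h0
      · intro g' hg'
        rw [Subgroup.mem_centralizer_iff]
        intro y hy
        rw [Set.mem_singleton_iff.mp hy]
        exact (para_comm g' (stab_mem g' hg')).symm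
      · refine ⟨g, ?_, hmv⟩
        rw [Subgroup.mem_centralizer_iff]
        intro y hy
        rw [Set.mem_singleton_iff.mp hy]
        exact hg.symm
    have hk : ev 12 R12 [11] ∈ Subgroup.centralizer ({d0} : Set G12) := by
      rw [htop]; exact Subgroup.mem_top _
    rw [Subgroup.mem_centralizer_iff] at hk
    exact d0_noncentral (hk d0 (Set.mem_singleton d0)).symm
  · intro hg
    exact para_comm g (stab_mem g hg)

/-! ### products of two transpositions -/

theorem conj_word (t : List ℕ) :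
    d0 * (ev 12 R12 t * d0 * (ev 12 R12 t)⁻¹) = ev 12 R12 ([10] ++ (t ++ [10] ++ t.reverse)) := by
  rw [ev_append, ev_append, ev_append, ev_reverse invol12]
  rfl

theorem prod_pow (t : List ℕ) (ht : ∀ c ∈ t, c < 12) (n : ℕ)
    (hchk : fixListF FiZATC.ctF (List.replicate n ([10] ++ (t ++ [10] ++ t.reverse))).flatten base12
      = true) :
    (d0 * (ev 12 R12 t * d0 * (ev 12 R12 t)⁻¹)) ^ n = 1 := by
  rw [conj_word, ev_pow]
  apply word_eq_one _ _ hchk
  intro c hc
  obtain ⟨l, hl, hcl⟩ := List.mem_flatten.mp hc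
  rw [List.eq_of_mem_replicate hl] at hcl
  simp only [List.mem_append, List.mem_singleton, List.mem_reverse] at hcl
  rcases hcl with rfl | (hcl | rfl) | hcl
  · norm_num
  · exact ht c hcl
  · norm_num
  · exact ht c hcl

theorem tt_prim : ∀ p ∈ prim, (d0 * (ev 12 R12 p.2.1 * d0 * (ev 12 R12 p.2.1)⁻¹)) ^ 2 = 1 ∨
    (d0 * (ev 12 R12 p.2.1 * d0 * (ev 12 R12 p.2.1)⁻¹)) ^ 3 = 1 := by
  intro p hp
  simp only [prim, List.mem_cons, List.not_mem_nil, or_false] at hp
  rcases hp with rfl | rfl
  · right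
    exact prod_pow [11] (by decide) 3 (by decide +kernel)
  · left
    exact prod_pow [11, 10, 8, 11] (by decide) 2 (by decide +kernel)

/-! ### all letters are conjugate to `l` -/

/-- conjugating words: the letter `c` is the conjugate of `l` by the word. -/
def conjW (c : ℕ) : List ℕ := [[8, 0, 11, 8, 10, 11], [0, 1, 8, 0, 11, 8, 10, 11], [1, 2, 0, 1, 8, 0, 11, 8, 10, 11], [2, 3, 1, 2, 0, 1, 8, 0, 11, 8, 10, 11], [2, 4, 1, 2, 0, 1, 8, 0, 11, 8, 10, 11], [4, 5, 2, 4, 1, 2, 0, 1, 8, 0, 11, 8, 10, 11], [3, 6, 2, 3, 1, 2, 0, 1, 8, 0, 11, 8, 10, 11], [6, 7, 3, 6, 2, 3, 1, 2, 0, 1, 8, 0, 11, 8, 10, 11], [11, 8, 10, 11], [7, 9, 6, 7, 3, 6, 2, 3, 1, 2, 0, 1, 8, 0, 11, 8, 10, 11], [], [10, 11]].getD c []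

theorem conjW_lt : ∀ c, ∀ x ∈ conjW c, x < 12 := by
  intro c
  rcases Nat.lt_or_ge c 12 with hc | hc
  · interval_cases c <;> decide +kernel
  · intro x hx
    have : conjW c = [] := by
      unfold conjW
      rw [List.getD_eq_default _ _ (by simpa using hc)]
    rw [this] at hx
    simp at hx

theorem conj_check : ∀ c, c < 12 →
    fixListF FiZATC.ctF ([c] ++ (conjW c ++ [10] ++ (conjW c).reverse)) base12 = true := by
  decide +kernel

theorem letter_conj (c : ℕ) (hc : c < 12) :
    ev 12 R12 [c] = ev 12 R12 (conjW c) * d0 * (ev 12 R12 (conjW c))⁻¹ := by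
  have h1 : ev 12 R12 ([c] ++ (conjW c ++ [10] ++ (conjW c).reverse)) = 1 := by
    apply word_eq_one _ _ (conj_check c hc)
    intro x hx
    simp only [List.mem_append, List.mem_singleton, List.mem_reverse] at hx
    rcases hx with rfl | (hx | rfl) | hx
    · exact hc
    · exact conjW_lt c x hx
    · norm_num
    · exact conjW_lt c x hx
  rw [ev_append, ev_append, ev_append, ev_reverse invol12] at h1
  have h2 : ev 12 R12 [c] = (ev 12 R12 (conjW c) * ev 12 R12 [10] * (ev 12 R12 (conjW c))⁻¹)⁻¹ :=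
    eq_inv_of_mul_eq_one_left h1
  rw [h2]
  show (ev 12 R12 (conjW c) * d0 * (ev 12 R12 (conjW c))⁻¹)⁻¹ = _
  rw [mul_inv_rev, mul_inv_rev, inv_inv, d0_inv, mul_assoc]

theorem closure_conj : Subgroup.closure (conjugatesOf d0) = ⊤ := by
  rw [eq_top_iff, ← closure_gens (k := 12) (R := R12)]
  apply Subgroup.closure_mono
  rintro x ⟨c, hc, rfl⟩
  exact isConj_iff.mpr ⟨ev 12 R12 (conjW c), (letter_conj c hc).symm⟩

/-- **The class of 3-transpositions.** -/
theorem tt_class : Cfsg.IsThreeTranspositionClass (conjugatesOf d0) ∧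
    Nat.card (conjugatesOf d0) = 306936 :=
  three_transposition_class' actsA prim_ok h0 d0 d0_order d0_cent tt_prim closure_conj

/-! ### the centraliser -/

theorem cent_d0 : Subgroup.centralizer ({d0} : Set G12) = para 12 R12 11 := by
  ext g
  rw [Subgroup.mem_centralizer_iff]
  constructor
  · intro hg
    apply stab_mem
    apply (d0_cent g).mp
    exact (hg d0 (Set.mem_singleton d0)).symm
  · intro hg y hy
    rw [Set.mem_singleton_iff.mp hy]
    exact (para_comm g hg).symm

theorem card_cent_d0 : Nat.card (Subgroup.centralizer ({d0} : Set G12)) = 2 * 4089470473293004800 := by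
  rw [cent_d0, ← range_phi, card_range]

/-! ### the subgroup `Fi₂₃` -/

/-- the letter `c` of `Fi₂₃` goes to `c·l`. -/
def w23 (c : ℕ) : List ℕ := bif Nat.blt c 10 then [c, 10] else []

theorem w23_lt : ∀ c, ∀ x ∈ w23 c, x < 12 := by
  intro c x hx
  unfold w23 at hx
  rcases Nat.lt_or_ge c 10 with hc | hc
  · rw [Nat.blt_eq.mpr hc, cond_true] at hx
    simp only [List.mem_cons, List.not_mem_nil, or_false] at hx
    rcases hx with rfl | rfl <;> omega
  · have : Nat.blt c 10 = false := by
      rw [Bool.eq_false_iff]; intro h; rw [Nat.blt_eq] at h; omega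
    rw [this, cond_false] at hx
    simp at hx

theorem w23_even : ∀ c, (w23 c).length % 2 = 0 := by
  intro c
  unfold w23
  rcases Nat.lt_or_ge c 10 with hc | hc
  · rw [Nat.blt_eq.mpr hc, cond_true]; simp
  · have : Nat.blt c 10 = false := by
      rw [Bool.eq_false_iff]; intro h; rw [Nat.blt_eq] at h; omega
    rw [this, cond_false]; simp

set_option maxRecDepth 1000000 in
theorem fi23_check : relsCheck w23 Fi23LP.R10 = true := by decide +kernel

theorem fi23_move : actL FiZATC.ctF (w23 0) 1 ≠ 1 := by decide +kernel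

instance : IsSimpleGroup (LPG 10 Fi23LP.R10) := Fi23LP.simple_card.1

/-- the embedding of the presented `Fi₂₃`. -/
noncomputable def fi23Hom : LPG 10 Fi23LP.R10 →* G12 := homW letters23 w23 w23_lt fi23_check

theorem fi23Hom_injective : Function.Injective fi23Hom :=
  homW_injective letters23 w23 w23_lt fi23_check 0 (by norm_num) 1 (by norm_num) fi23_move

theorem fi23Hom_range_le : fi23Hom.range ≤ sgn.ker :=
  range_le_ker letters23 w23 w23_lt fi23_check w23_even

theorem w23_fix : ∀ c, c < 10 → actL FiZATC.ctF (subW w23 [c]) 0 = 0 := by decide +kernel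

theorem fi23Hom_range_cent : fi23Hom.range ≤ Subgroup.centralizer ({d0} : Set G12) := by
  rw [MonoidHom.range_eq_map, ← closure_gens (k := 10) (R := Fi23LP.R10), MonoidHom.map_closure,
    Subgroup.closure_le]
  rintro _ ⟨_, ⟨c, hc, rfl⟩, rfl⟩
  rw [SetLike.mem_coe, Subgroup.mem_centralizer_iff]
  intro y hy
  rw [Set.mem_singleton_iff.mp hy]
  have hev : fi23Hom (ev 10 Fi23LP.R10 [c]) = ev 12 R12 (subW w23 [c]) :=
    homW_ev letters23 w23 w23_lt fi23_check [c] (by
      intro c' hc'; rw [List.mem_singleton.mp hc']; exact hc)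
  rw [hev]
  apply Eq.symm
  apply (d0_cent _).mpr
  apply Fin.ext
  rw [actsA.act _ (subW_lt w23_lt [c])]
  exact w23_fix c hc

theorem fi23_range_is : Cfsg.IsFi23 fi23Hom.range := by
  have e : LPG 10 Fi23LP.R10 ≃* fi23Hom.range := MonoidHom.ofInjective fi23Hom_injective
  exact ⟨e.symm.isSimpleGroup, by rw [← Nat.card_congr e.toEquiv]; exact Fi23LP.simple_card.2⟩

/-- the kernel of the sign contains a simple subgroup of the order of `Fi₂₃`. -/
theorem exists_Fi23 : ∃ K : Subgroup sgn.ker, Cfsg.IsFi23 K := by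
  obtain ⟨K, h1, h2⟩ := exists_subgroup_ker fi23Hom fi23Hom_injective fi23Hom_range_le
  exact ⟨K, h1, by rw [h2]; exact Fi23LP.simple_card.2⟩

/-! ### all transpositions -/

theorem tt_all (d : G12) (hd : d ∈ conjugatesOf d0) :
    Nat.card (Subgroup.centralizer ({d} : Set G12)) = 2 * 4089470473293004800 ∧
      ∃ K : Subgroup G12, K ≤ Subgroup.centralizer ({d} : Set G12) ∧ Cfsg.IsFi23 K := by
  obtain ⟨c, rfl⟩ := isConj_iff.mp hd
  constructor
  · obtain ⟨e⟩ := centralizer_conj_equiv d0 c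
    rw [← Nat.card_congr e.toEquiv, card_cent_d0]
  · refine ⟨fi23Hom.range.map (MulAut.conj c).toMonoidHom, ?_, ?_⟩
    · rintro _ ⟨y, hy, rfl⟩
      have hy' := fi23Hom_range_cent hy
      rw [Subgroup.mem_centralizer_iff] at hy' ⊢
      intro w hw
      rw [Set.mem_singleton_iff.mp hw]
      have h1 := hy' d0 (Set.mem_singleton d0)
      show c * d0 * c⁻¹ * (c * y * c⁻¹) = c * y * c⁻¹ * (c * d0 * c⁻¹)
      calc c * d0 * c⁻¹ * (c * y * c⁻¹) = c * (d0 * y) * c⁻¹ := by group
        _ = c * (y * d0) * c⁻¹ := by rw [h1]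
        _ = c * y * c⁻¹ * (c * d0 * c⁻¹) := by group
    · have e : fi23Hom.range ≃* fi23Hom.range.map (MulAut.conj c).toMonoidHom :=
        Subgroup.equivMapOfInjective _ _ (MulAut.conj c).injective
      obtain ⟨h1, h2⟩ := fi23_range_is
      exact ⟨e.symm.isSimpleGroup, by rw [← Nat.card_congr e.toEquiv]; exact h2⟩

end Cfsg.Agent.Helper3.Fi24
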