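import Mathlib
import Cfsg.Prelude.Def_Solvable

set_option autoImplicit false

/-!
Fixed-point-free automorphisms `φ` with `φ ^ 4 = 1` of finite groups: basic facts.
-/

namespace Cfsg.Agent.Helper3.Fpf4

variable {G : Type*} [Group G]

/-- fixed-point-free automorphism with fourth power one -/
structure IsFpf4 (φ : MulAut G) : Prop where
  pow4 : φ ^ 4 = 1
  fpf : ∀ g : G, φ g = g → g = 1

theorem IsFpf4.four {φ : MulAut G} (h : IsFpf4 φ) (g : G) : φ (φ (φ (φ g))) = g := by
  have := congrArg (fun f : MulAut G => f g) h.pow4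
  simpa [pow_succ, MulAut.mul_apply] using this

/-- for a fixed-point-free automorphism leaving the finite subgroup `K` invariant, every element of
`K` has the form `y * (φ y)⁻¹`. -/
theorem exists_mul_inv [Finite G] {φ : MulAut G} (hf : ∀ g : G, φ g = g → g = 1)
    (K : Subgroup G) (hK : ∀ k ∈ K, φ k ∈ K) (a : G) (ha : a ∈ K) :
    ∃ y ∈ K, a = y * (φ y)⁻¹ := by
  let f : K → K := fun y => ⟨(y : G) * (φ (y : G))⁻¹, K.mul_mem y.2 (K.inv_mem (hK _ y.2))⟩
  have hinj : Function.Injective f := by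
    intro y z hyz
    have h1 : (y : G) * (φ (y : G))⁻¹ = (z : G) * (φ (z : G))⁻¹ := congrArg Subtype.val hyz
    have h2 : φ ((z : G)⁻¹ * y) = (z : G)⁻¹ * y := by
      rw [map_mul, map_inv]
      have h3 : (z : G)⁻¹ * (y : G) = (φ (z : G))⁻¹ * φ (y : G) := by
        have h4 : (y : G) = (z : G) * (φ (z : G))⁻¹ * φ (y : G) := by
          rw [← h1]; group
        calc (z : G)⁻¹ * (y : G) = (z : G)⁻¹ * ((z : G) * (φ (z : G))⁻¹ * φ (y : G)) := by
              rw [← h4]
          _ = (φ (z : G))⁻¹ * φ (y : G) := by group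
      exact h3.symm
    have h5 := hf _ h2
    apply Subtype.ext
    have h6 : (y : G) = (z : G) * ((z : G)⁻¹ * y) := by group
    rw [h6, h5, mul_one]
  have hsurj := Finite.surjective_of_injective hinj
  obtain ⟨y, hy⟩ := hsurj ⟨a, ha⟩
  exact ⟨y, y.2, (congrArg Subtype.val hy).symm⟩

/-- the subgroup of fixed points of `φ²`. -/
def fixSq (φ : MulAut G) : Subgroup G where
  carrier := {g | φ (φ g) = g}
  one_mem' := by simp
  mul_mem' := by
    intro a b ha hb
    simp only [Set.mem_ofPred_eq] at ha hb ⊢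
    rw [map_mul, map_mul, ha, hb]
  inv_mem' := by
    intro a ha
    simp only [Set.mem_ofPred_eq] at ha ⊢
    rw [map_inv, map_inv, ha]

theorem mem_fixSq {φ : MulAut G} {g : G} : g ∈ fixSq φ ↔ φ (φ g) = g := Iff.rfl

/-- `φ` inverts the fixed points of `φ²`. -/
theorem IsFpf4.inverted [Finite G] {φ : MulAut G} (h : IsFpf4 φ) {a : G} (ha : φ (φ a) = a) :
    φ a = a⁻¹ := by
  have hK : ∀ k ∈ fixSq φ, φ k ∈ fixSq φ := by
    intro k hk
    rw [mem_fixSq] at hk ⊢
    rw [hk]
  obtain ⟨y, hy, hay⟩ := exists_mul_inv h.fpf (fixSq φ) hK a ha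
  rw [mem_fixSq] at hy
  rw [hay, map_mul, map_inv, hy]
  group

/-- the fixed points of `φ²` commute. -/
theorem IsFpf4.comm_of_fixed [Finite G] {φ : MulAut G} (h : IsFpf4 φ) {a b : G}
    (ha : φ (φ a) = a) (hb : φ (φ b) = b) : a * b = b * a := by
  have hab : φ (φ (a * b)) = a * b := by rw [map_mul, map_mul, ha, hb]
  have h1 := h.inverted hab
  rw [map_mul, h.inverted ha, h.inverted hb] at h1
  have h2 : (a⁻¹ * b⁻¹)⁻¹ = ((a * b)⁻¹)⁻¹ := by rw [h1]
  rw [inv_inv, mul_inv_rev, inv_inv, inv_inv] at h2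
  exact h2.symm

/-- the order of the group is odd. -/
theorem IsFpf4.odd_card [Finite G] {φ : MulAut G} (h : IsFpf4 φ) : Odd (Nat.card G) := by
  classical
  have : Fintype G := Fintype.ofFinite G
  have : Fact (Nat.Prime 2) := ⟨Nat.prime_two⟩
  let f : Function.End G := fun g => φ g
  have hf : f ^ 2 ^ 2 = 1 := by
    have h4 : (2 : ℕ) ^ 2 = 4 := by norm_num
    rw [h4]
    funext g
    have : (f ^ 4) g = f (f (f (f g))) := by
      rw [pow_succ, pow_succ, pow_succ, pow_one]
      rfl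
    rw [this]
    exact h.four g
  have h1 := Equiv.Perm.card_fixedPoints_modEq (f := f) hf
  have h2 : Fintype.card (Function.fixedPoints f) = 1 := by
    rw [Fintype.card_eq_one_iff]
    refine ⟨⟨1, ?_⟩, ?_⟩
    · show φ 1 = 1
      exact map_one φ
    · rintro ⟨g, hg⟩
      apply Subtype.ext
      exact h.fpf g hg
  rw [h2] at h1
  rw [Nat.card_eq_fintype_card, Nat.odd_iff]
  exact h1

theorem IsFpf4.orderOf_odd [Finite G] {φ : MulAut G} (h : IsFpf4 φ) (g : G) : Odd (orderOf g) := by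
  have h1 := h.odd_card
  have h2 : orderOf g ∣ Nat.card G := orderOf_dvd_natCard g
  exact Odd.of_dvd_nat h1 h2

/-- decomposition of an element of a `φ`-invariant subgroup as a `φ²`-fixed element times a
`φ²`-inverted element. -/
theorem IsFpf4.decomp [Finite G] {φ : MulAut G} (h : IsFpf4 φ) (K : Subgroup G)
    (hK : ∀ k ∈ K, φ k ∈ K) (k : G) (hk : k ∈ K) :
    ∃ c ∈ K, ∃ i ∈ K, φ (φ c) = c ∧ φ (φ i) = i⁻¹ ∧ k = c * i := by
  set y : G := k⁻¹ * φ (φ k) with hy
  have hyK : y ∈ K := K.mul_mem (K.inv_mem hk) (hK _ (hK _ hk))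
  have hψy : φ (φ y) = y⁻¹ := by
    rw [hy, map_mul, map_mul, map_inv, map_inv, h.four]
    group
  obtain ⟨m, hm⟩ := h.orderOf_odd y
  set z : G := y ^ (m + 1) with hz
  have hzK : z ∈ K := K.pow_mem hyK _
  have hzz : z * z = y := by
    rw [hz, ← pow_add]
    have : m + 1 + (m + 1) = orderOf y + 1 := by omega
    rw [this, pow_succ, pow_orderOf_eq_one, one_mul]
  have hψz : φ (φ z) = z⁻¹ := by
    rw [hz, map_pow, map_pow, hψy, inv_pow]
  have hψk : φ (φ k) = k * y := by rw [hy]; group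
  refine ⟨k * z, K.mul_mem hk hzK, z⁻¹, K.inv_mem hzK, ?_, ?_, ?_⟩
  · rw [map_mul, map_mul, hψz, hψk, ← hzz]; group
  · rw [map_inv, map_inv, hψz]
  · group

/-- restriction of an automorphism to an invariant subgroup of a finite group. -/
noncomputable def restr [Finite G] (φ : MulAut G) (K : Subgroup G) (hK : ∀ k ∈ K, φ k ∈ K) :
    MulAut ↥K :=
  MulEquiv.ofBijective
    ((φ.toMonoidHom.comp K.subtype).codRestrict K (fun k => hK k k.2))
    (by
      have hinj : Function.Injective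
          ((φ.toMonoidHom.comp K.subtype).codRestrict K (fun k => hK k k.2)) := by
        intro a b hab
        have h1 : φ (a : G) = φ (b : G) := congrArg Subtype.val hab
        exact Subtype.ext (φ.injective h1)
      exact ⟨hinj, Finite.surjective_of_injective hinj⟩)

@[simp] theorem restr_apply [Finite G] (φ : MulAut G) (K : Subgroup G) (hK : ∀ k ∈ K, φ k ∈ K)
    (k : ↥K) : ((restr φ K hK k : ↥K) : G) = φ (k : G) := rfl

theorem isFpf4_restr [Finite G] {φ : MulAut G} (h : IsFpf4 φ) (K : Subgroup G)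
    (hK : ∀ k ∈ K, φ k ∈ K) : IsFpf4 (restr φ K hK) := by
  constructor
  · ext k
    have : ((restr φ K hK) ^ 4) k
        = restr φ K hK (restr φ K hK (restr φ K hK (restr φ K hK k))) := by
      rw [pow_succ, pow_succ, pow_succ, pow_one]
      rfl
    rw [this]
    simp only [restr_apply, MulAut.one_apply]
    exact h.four _
  · intro k hk
    have h1 : φ (k : G) = k := congrArg Subtype.val hk
    exact Subtype.ext (h.fpf _ h1)

theorem map_eq_of_invariant [Finite G] (φ : MulAut G) (N : Subgroup G) (hN : ∀ n ∈ N, φ n ∈ N) :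
    N.map φ.toMonoidHom = N := by
  have hle : N.map φ.toMonoidHom ≤ N := by
    rintro _ ⟨n, hn, rfl⟩
    exact hN n hn
  apply Subgroup.eq_of_le_of_card_ge hle
  rw [Subgroup.card_map_of_injective φ.injective]

/-- the automorphism induced on the quotient by an invariant normal subgroup. -/
noncomputable def quot [Finite G] (φ : MulAut G) (N : Subgroup G) [N.Normal]
    (hN : ∀ n ∈ N, φ n ∈ N) : MulAut (G ⧸ N) :=
  QuotientGroup.congr N N φ (map_eq_of_invariant φ N hN)

@[simp] theorem quot_mk [Finite G] (φ : MulAut G) (N : Subgroup G) [N.Normal]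
    (hN : ∀ n ∈ N, φ n ∈ N) (g : G) :
    quot φ N hN (QuotientGroup.mk g : G ⧸ N) = (QuotientGroup.mk (φ g) : G ⧸ N) := rfl

theorem isFpf4_quot [Finite G] {φ : MulAut G} (h : IsFpf4 φ) (N : Subgroup G) [N.Normal]
    (hN : ∀ n ∈ N, φ n ∈ N) : IsFpf4 (quot φ N hN) := by
  constructor
  · ext k
    obtain ⟨g, rfl⟩ := QuotientGroup.mk_surjective k
    have : ((quot φ N hN) ^ 4) (QuotientGroup.mk g : G ⧸ N)
        = quot φ N hN (quot φ N hN (quot φ N hN (quot φ N hN
            (QuotientGroup.mk g : G ⧸ N)))) := by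
      rw [pow_succ, pow_succ, pow_succ, pow_one]
      rfl
    rw [this]
    simp only [quot_mk, MulAut.one_apply]
    rw [h.four]
  · intro k hk
    obtain ⟨g, rfl⟩ := QuotientGroup.mk_surjective k
    rw [quot_mk, QuotientGroup.eq] at hk
    -- hk : (φ g)⁻¹ * g ∈ N
    obtain ⟨y, hy, hay⟩ := exists_mul_inv h.fpf N hN _ (N.inv_mem hk)
    -- ((φ g)⁻¹ * g)⁻¹ = y * (φ y)⁻¹
    have h1 : φ (g * y) = g * y := by
      rw [map_mul]
      have h2 : g⁻¹ * φ g = y * (φ y)⁻¹ := by
        rw [← hay]; group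
      have h3 : φ g = g * (y * (φ y)⁻¹) := by rw [← h2]; group
      rw [h3]; group
    have h4 := h.fpf _ h1
    have h5 : g = y⁻¹ := eq_inv_of_mul_eq_one_left h4
    rw [h5]
    exact (QuotientGroup.eq_one_iff _).2 (N.inv_mem hy)

end Cfsg.Agent.Helper3.Fpf4
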