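import Mathlib
import Cfsg.Agent.Helper3.Fpf4A

set_option autoImplicit false

/-!
The Frobenius-type lemma: an abelian group `K` inverted by `φ²` and normalising an abelian
`φ`-invariant group `V` of coprime order (with `φ` fixed-point-free of order dividing 4)
centralises `V`.
-/

namespace Cfsg.Agent.Helper3.Fpf4

section abstract

variable {V K : Type*} [CommGroup V] [Group K] [Fintype K]

/-- reindexing along the bijection `k ↦ k * (θK k)⁻¹`. -/
theorem reindex (c : K → V →* V) (hc_mul : ∀ k k' v, c (k * k') v = c k (c k' v))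
    (θV : V →* V) (θK : K →* K)
    (hcomp : ∀ k v, θV (c k v) = c (θK k) (θV v))
    (hB : Function.Bijective (fun k : K => k * (θK k)⁻¹)) (v : V) :
    ∏ k : K, c k (θV v) = ∏ k : K, c k (θV (c k⁻¹ v)) := by
  have h1 : ∀ k : K, c k (θV (c k⁻¹ v)) = c (k * (θK k)⁻¹) (θV v) := by
    intro k
    rw [hcomp, hc_mul, map_inv]
  simp_rw [h1]
  exact (Equiv.prod_comp (Equiv.ofBijective _ hB) (fun k => c k (θV v))).symm

theorem abstractF (c : K → V →* V) (hc_mul : ∀ k k' v, c (k * k') v = c k (c k' v))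
    (hc_one : ∀ v, c 1 v = v)
    (f : V →* V) (g : K →* K)
    (hcomp : ∀ k v, f (c k v) = c (g k) (f v))
    (hT : ∀ v, v * f v * f (f v) * f (f (f v)) = 1)
    (hB1 : Function.Bijective (fun k : K => k * (g k)⁻¹))
    (hB2 : Function.Bijective (fun k : K => k * (g (g k))⁻¹))
    (hB3 : Function.Bijective (fun k : K => k * (g (g (g k)))⁻¹))
    (v : V) : ∏ k : K, c k v = v ^ Fintype.card K := by
  have hcinv : ∀ k v, c k (c k⁻¹ v) = v := by
    intro k v
    rw [← hc_mul, mul_inv_cancel, hc_one]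
  have hA : (∏ k : K, c k v) * ((∏ k : K, c k (f v)) * (∏ k : K, c k (f (f v))) *
      (∏ k : K, c k (f (f (f v))))) = 1 := by
    rw [← Finset.prod_mul_distrib, ← Finset.prod_mul_distrib, ← Finset.prod_mul_distrib]
    apply Finset.prod_eq_one
    intro k _
    rw [← map_mul, ← map_mul, ← map_mul, ← mul_assoc, ← mul_assoc, hT, map_one]
  have e1 := reindex c hc_mul f g hcomp hB1 v
  have e2 := reindex c hc_mul (f.comp f) (g.comp g)
    (by intro k v; simp only [MonoidHom.comp_apply]; rw [hcomp, hcomp]) hB2 v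
  have e3 := reindex c hc_mul (f.comp (f.comp f)) (g.comp (g.comp g))
    (by intro k v; simp only [MonoidHom.comp_apply]; rw [hcomp, hcomp, hcomp]) hB3 v
  simp only [MonoidHom.comp_apply] at e2 e3
  have hB : (∏ k : K, c k (f v)) * (∏ k : K, c k (f (f v))) *
      (∏ k : K, c k (f (f (f v)))) = (v⁻¹) ^ Fintype.card K := by
    rw [e1, e2, e3, ← Finset.prod_mul_distrib, ← Finset.prod_mul_distrib]
    have : ∀ k : K, c k (f (c k⁻¹ v)) * c k (f (f (c k⁻¹ v))) * c k (f (f (f (c k⁻¹ v))))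
        = v⁻¹ := by
      intro k
      rw [← map_mul, ← map_mul]
      have h2 : f (c k⁻¹ v) * f (f (c k⁻¹ v)) * f (f (f (c k⁻¹ v))) = (c k⁻¹ v)⁻¹ := by
        apply eq_inv_of_mul_eq_one_right
        rw [← mul_assoc, ← mul_assoc]
        exact hT _
      rw [h2, map_inv, hcinv]
    simp_rw [this]
    rw [Finset.prod_const, Finset.card_univ]
  rw [hB] at hA
  rw [inv_pow] at hA
  exact mul_inv_eq_one.1 hA

theorem abstractF_fixed [Finite V] (c : K → V →* V)
    (hc_mul : ∀ k k' v, c (k * k') v = c k (c k' v))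
    (hc_one : ∀ v, c 1 v = v)
    (f : V →* V) (g : K →* K)
    (hcomp : ∀ k v, f (c k v) = c (g k) (f v))
    (hT : ∀ v, v * f v * f (f v) * f (f (f v)) = 1)
    (hB1 : Function.Bijective (fun k : K => k * (g k)⁻¹))
    (hB2 : Function.Bijective (fun k : K => k * (g (g k))⁻¹))
    (hB3 : Function.Bijective (fun k : K => k * (g (g (g k)))⁻¹))
    (hcop : (Fintype.card K).Coprime (Nat.card V))
    (k₀ : K) (v : V) : c k₀ v = v := by
  have h1 := abstractF c hc_mul hc_one f g hcomp hT hB1 hB2 hB3 v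
  have h2 : c k₀ (∏ k : K, c k v) = ∏ k : K, c k v := by
    rw [map_prod]
    simp_rw [← hc_mul]
    exact Equiv.prod_comp (Equiv.mulLeft k₀) (fun k => c k v)
  rw [h1, map_pow] at h2
  have h3 : (c k₀ v * v⁻¹) ^ Fintype.card K = 1 := by
    rw [mul_pow, h2, inv_pow, mul_inv_cancel]
  have h4 : orderOf (c k₀ v * v⁻¹) ∣ Fintype.card K := orderOf_dvd_of_pow_eq_one h3
  have h5 : orderOf (c k₀ v * v⁻¹) ∣ Nat.card V := orderOf_dvd_natCard _
  have h6 : orderOf (c k₀ v * v⁻¹) = 1 := Nat.eq_one_of_dvd_coprimes hcop h4 h5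
  rw [orderOf_eq_one_iff] at h6
  exact mul_inv_eq_one.1 h6

end abstract

theorem bijective_mul_inv {K : Type*} [Group K] [Finite K] (θ : K →* K)
    (hθ : ∀ k, θ k = k → k = 1) : Function.Bijective (fun k : K => k * (θ k)⁻¹) := by
  have hinj : Function.Injective (fun k : K => k * (θ k)⁻¹) := by
    intro y z hyz
    have h1 : y * (θ y)⁻¹ = z * (θ z)⁻¹ := hyz
    have h2 : θ (z⁻¹ * y) = z⁻¹ * y := by
      rw [map_mul, map_inv]
      have h4 : y = z * (θ z)⁻¹ * θ y := by
        rw [← h1]; group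
      calc (θ z)⁻¹ * θ y = z⁻¹ * (z * (θ z)⁻¹ * θ y) := by group
        _ = z⁻¹ * y := by rw [← h4]
    have h5 := hθ _ h2
    have h6 : y = z * (z⁻¹ * y) := by group
    rw [h6, h5, mul_one]
  exact ⟨hinj, Finite.surjective_of_injective hinj⟩

variable {G : Type*} [Group G]

/-- **Frobenius-type lemma.** -/
theorem frobenius_centralizes [Finite G] {φ : MulAut G} (h : IsFpf4 φ) (V K : Subgroup G)
    (hVφ : ∀ v ∈ V, φ v ∈ V) (hKφ : ∀ k ∈ K, φ k ∈ K)
    (hVc : ∀ a ∈ V, ∀ b ∈ V, a * b = b * a)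
    (hKinv : ∀ k ∈ K, φ (φ k) = k⁻¹)
    (hKV : ∀ k ∈ K, ∀ v ∈ V, k * v * k⁻¹ ∈ V)
    (hcop : (Nat.card K).Coprime (Nat.card V)) :
    ∀ k ∈ K, ∀ v ∈ V, k * v * k⁻¹ = v := by
  classical
  let _ : CommGroup ↥V :=
    { (inferInstance : Group ↥V) with mul_comm := fun a b => Subtype.ext (hVc a a.2 b b.2) }
  have : Fintype ↥K := Fintype.ofFinite _
  let c : ↥K → ↥V →* ↥V := fun k =>
    { toFun := fun v => ⟨(k : G) * v * (k : G)⁻¹, hKV k k.2 v v.2⟩
      map_one' := by apply Subtype.ext; simp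
      map_mul' := by intro a b; apply Subtype.ext; simp }
  have hc_apply : ∀ (k : ↥K) (v : ↥V), ((c k v : ↥V) : G) = (k : G) * v * (k : G)⁻¹ :=
    fun _ _ => rfl
  let f : ↥V →* ↥V := (restr φ V hVφ).toMonoidHom
  let g : ↥K →* ↥K := (restr φ K hKφ).toMonoidHom
  have hf_apply : ∀ v : ↥V, ((f v : ↥V) : G) = φ (v : G) := fun _ => rfl
  have hg_apply : ∀ k : ↥K, ((g k : ↥K) : G) = φ (k : G) := fun _ => rfl
  have hc_mul : ∀ k k' v, c (k * k') v = c k (c k' v) := by
    intro k k' v
    apply Subtype.ext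
    simp only [hc_apply, Subgroup.coe_mul, mul_inv_rev]
    group
  have hc_one : ∀ v, c 1 v = v := by
    intro v
    apply Subtype.ext
    simp [hc_apply]
  have hcomp : ∀ k v, f (c k v) = c (g k) (f v) := by
    intro k v
    apply Subtype.ext
    simp only [hc_apply, hf_apply, hg_apply, map_mul, map_inv]
  have hT : ∀ v, v * f v * f (f v) * f (f (f v)) = 1 := by
    intro v
    apply Subtype.ext
    have hcoe : ((v * f v * f (f v) * f (f (f v)) : ↥V) : G)
        = (v : G) * φ v * φ (φ v) * φ (φ (φ v)) := rfl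
    rw [hcoe, Subgroup.coe_one]
    apply h.fpf
    rw [map_mul, map_mul, map_mul, h.four]
    have hb : φ (v : G) * φ (φ v) * φ (φ (φ v)) ∈ V :=
      V.mul_mem (V.mul_mem (hVφ _ v.2) (hVφ _ (hVφ _ v.2))) (hVφ _ (hVφ _ (hVφ _ v.2)))
    rw [hVc _ hb _ v.2]
    group
  have hB1 : Function.Bijective (fun k : ↥K => k * (g k)⁻¹) := by
    apply bijective_mul_inv g
    intro k hk
    apply Subtype.ext
    have : φ (k : G) = k := congrArg Subtype.val hk
    exact h.fpf _ this
  have hB2 : Function.Bijective (fun k : ↥K => k * (g (g k))⁻¹) := by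
    apply bijective_mul_inv (g.comp g)
    intro k hk
    apply Subtype.ext
    have h1 : φ (φ (k : G)) = k := congrArg Subtype.val hk
    rw [hKinv _ k.2] at h1
    have h2 : (k : G) * k = 1 := by
      nth_rewrite 1 [← h1]
      exact inv_mul_cancel _
    have h3 : orderOf (k : G) ∣ 2 := by
      apply orderOf_dvd_of_pow_eq_one
      rw [pow_two]; exact h2
    have h4 := h.orderOf_odd (k : G)
    have h5 : orderOf (k : G) = 1 := by
      rcases (Nat.dvd_prime Nat.prime_two).1 h3 with h6 | h6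
      · exact h6
      · rw [h6] at h4; exact absurd h4 (by decide)
    exact orderOf_eq_one_iff.1 h5
  have hB3 : Function.Bijective (fun k : ↥K => k * (g (g (g k)))⁻¹) := by
    apply bijective_mul_inv (g.comp (g.comp g))
    intro k hk
    apply Subtype.ext
    have h1 : φ (φ (φ (k : G))) = k := congrArg Subtype.val hk
    have h2 : φ (k : G) = k := by
      have := h.four (k : G)
      rw [h1] at this
      exact this
    exact h.fpf _ h2
  have hcop' : (Fintype.card ↥K).Coprime (Nat.card ↥V) := by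
    rw [← Nat.card_eq_fintype_card]; exact hcop
  intro k hk v hv
  have := abstractF_fixed c hc_mul hc_one f g hcomp hT hB1 hB2 hB3 hcop' ⟨k, hk⟩ ⟨v, hv⟩
  exact congrArg Subtype.val this

end Cfsg.Agent.Helper3.Fpf4
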