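import Mathlib
import Cfsg.Agent.Helper3.Fpf4B
import Cfsg.Agent.Helper1.Fitting
import Cfsg.Agent.Helper1.Fitting2
import Cfsg.Agent.Helper4.SubnormalPRad
import Cfsg.Agent.Helper4.FittingChar

set_option autoImplicit false

/-!
Main lemma on fixed-point-free automorphisms `φ` with `φ⁴ = 1` of finite solvable groups:
a `φ²`-inverted element of a `φ`-invariant `q`-subgroup lies in `O_q(G)`.
-/

namespace Cfsg.Agent.Helper3.Fpf4

universe u

section general

variable {G : Type*} [Group G]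

theorem pCore_map_le (q : ℕ) [Fact q.Prime] (L : Subgroup G) [L.Normal] :
    (Cfsg.pCore q ↥L).map L.subtype ≤ Cfsg.pCore q G := by
  have hchar : (Cfsg.pCore q ↥L).Characteristic := Helper4.SubnormalPRad.pCore_char q ↥L
  have hn : ((Cfsg.pCore q ↥L).map L.subtype).Normal :=
    ConjAct.normal_of_characteristic_of_normal
  exact Helper1.le_pCore hn ((Helper1.pCore_isPGroup q).map _)

theorem char_inv (N : Subgroup G) [hN : N.Characteristic] (φ : MulAut G) :
    ∀ n ∈ N, φ n ∈ N := by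
  intro n hn
  have h1 := hN.fixed φ
  rw [← h1] at hn
  exact hn

theorem sup_inv (φ : MulAut G) (A B : Subgroup G) (hA : ∀ a ∈ A, φ a ∈ A)
    (hB : ∀ b ∈ B, φ b ∈ B) : ∀ g ∈ A ⊔ B, φ g ∈ A ⊔ B := by
  intro g hg
  have h1 : A ⊔ B ≤ (A ⊔ B).comap φ.toMonoidHom := by
    apply sup_le
    · intro a ha
      exact Subgroup.mem_sup_left (hA a ha)
    · intro b hb
      exact Subgroup.mem_sup_right (hB b hb)
  exact h1 hg

theorem commutator_inv [Finite G] (φ : MulAut G) (D : Subgroup G) (hD : ∀ d ∈ D, φ d ∈ D) :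
    ∀ g ∈ ⁅D, D⁆, φ g ∈ ⁅D, D⁆ := by
  intro g hg
  have h1 : (⁅D, D⁆).map φ.toMonoidHom = ⁅D, D⁆ := by
    rw [Subgroup.map_commutator, map_eq_of_invariant φ D hD]
  rw [← h1]
  exact Subgroup.mem_map_of_mem _ hg

theorem centralizer_inv {φ : MulAut G} (h : IsFpf4 φ) (N : Subgroup G)
    (hN : ∀ n ∈ N, φ n ∈ N) :
    ∀ g ∈ Subgroup.centralizer (N : Set G), φ g ∈ Subgroup.centralizer (N : Set G) := by
  intro g hg
  rw [Subgroup.mem_centralizer_iff] at hg ⊢
  intro y hy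
  have hy' : φ (φ (φ y)) ∈ N := hN _ (hN _ (hN _ hy))
  have h1 := hg _ hy'
  have h2 := congrArg φ h1
  rw [map_mul, map_mul, h.four] at h2
  exact h2

theorem exists_pCore_ne_bot {G : Type u} [Group G] [Finite G] [Group.IsSolvable G]
    [Nontrivial G] : ∃ p : ℕ, p.Prime ∧ Cfsg.pCore p G ≠ ⊥ := by
  have hcent := Helper1.centralizer_fittingSubgroup_le (G := G)
  have hF1 : Cfsg.fittingSubgroup G ≠ ⊥ := by
    intro h
    rw [h] at hcent
    have h2 : ∀ x : G, x = 1 := by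
      intro x
      have hx : x ∈ Subgroup.centralizer (((⊥ : Subgroup G) : Subgroup G) : Set G) := by
        rw [Subgroup.mem_centralizer_iff]
        intro y hy
        rw [SetLike.mem_coe, Subgroup.mem_bot] at hy
        rw [hy, one_mul, mul_one]
      exact Subgroup.mem_bot.1 (hcent hx)
    obtain ⟨a, b, hab⟩ := exists_pair_ne G
    exact hab (by rw [h2 a, h2 b])
  rw [Helper1.fittingSubgroup_eq_fitJoin] at hF1
  by_contra hcon
  push Not at hcon
  apply hF1
  unfold Helper1.fitJoin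
  rw [iSup_eq_bot]
  intro p
  exact hcon p p.2

end general

/-- the property proved by induction. -/
def MainProp (G : Type u) [Group G] : Prop :=
  ∀ (φ : MulAut G), IsFpf4 φ → ∀ (q : ℕ) [Fact q.Prime] (Q : Subgroup G), IsPGroup q Q →
    (∀ y ∈ Q, φ y ∈ Q) → ∀ x ∈ Q, φ (φ x) = x⁻¹ → x ∈ Cfsg.pCore q G

/-- the induction hypothesis. -/
def IHyp (G : Type u) [Group G] : Prop :=
  ∀ (G' : Type u) [Group G'] [Finite G'], Nat.card G' < Nat.card G → Group.IsSolvable G' →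
    MainProp G'

section steps

variable {G : Type u} [Group G] [Finite G]

theorem card_lt_of_ne_top (M : Subgroup G) (hM : M ≠ ⊤) : Nat.card ↥M < Nat.card G := by
  apply lt_of_le_of_ne (Subgroup.card_le_card_group M)
  intro h
  exact hM ((Subgroup.card_eq_iff_eq_top M).1 h)

/-- induction in an invariant proper subgroup. -/
theorem step_sub (ih : IHyp G) (hsol : Group.IsSolvable G) {φ : MulAut G} (h : IsFpf4 φ)
    (M : Subgroup G) (hM : M ≠ ⊤) (hMφ : ∀ m ∈ M, φ m ∈ M) (q : ℕ) [Fact q.Prime]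
    (D : Subgroup G) (hD : IsPGroup q D) (hDφ : ∀ d ∈ D, φ d ∈ D) (i : G) (hiD : i ∈ D)
    (hiM : i ∈ M) (hi : φ (φ i) = i⁻¹) : (⟨i, hiM⟩ : ↥M) ∈ Cfsg.pCore q ↥M := by
  have := hsol
  have hsolM : Group.IsSolvable ↥M := inferInstance
  refine ih ↥M (card_lt_of_ne_top M hM) hsolM (restr φ M hMφ) (isFpf4_restr h M hMφ) q
    (D.comap M.subtype) hD.comap_subtype ?_ ⟨i, hiM⟩ ?_ ?_
  · intro y hy
    rw [Subgroup.mem_comap] at hy ⊢
    exact hDφ _ hy
  · rw [Subgroup.mem_comap]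
    exact hiD
  · apply Subtype.ext
    simp only [restr_apply, Subgroup.coe_inv]
    exact hi

/-- induction in an invariant proper normal subgroup. -/
theorem step_normal (ih : IHyp G) (hsol : Group.IsSolvable G) {φ : MulAut G} (h : IsFpf4 φ)
    (L : Subgroup G) [L.Normal] (hL : L ≠ ⊤) (hLφ : ∀ m ∈ L, φ m ∈ L) (q : ℕ) [Fact q.Prime]
    (D : Subgroup G) (hD : IsPGroup q D) (hDφ : ∀ d ∈ D, φ d ∈ D) (i : G) (hiD : i ∈ D)
    (hiL : i ∈ L) (hi : φ (φ i) = i⁻¹) : i ∈ Cfsg.pCore q G := by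
  have h1 := step_sub ih hsol h L hL hLφ q D hD hDφ i hiD hiL hi
  apply pCore_map_le q L
  exact ⟨⟨i, hiL⟩, h1, rfl⟩

/-- induction in the quotient by an invariant nontrivial normal subgroup. -/
theorem step_quot (ih : IHyp G) (hsol : Group.IsSolvable G) {φ : MulAut G} (h : IsFpf4 φ)
    (N : Subgroup G) [N.Normal] (hN : N ≠ ⊥) (hNφ : ∀ m ∈ N, φ m ∈ N) (q : ℕ) [Fact q.Prime]
    (D : Subgroup G) (hD : IsPGroup q D) (hDφ : ∀ d ∈ D, φ d ∈ D) (i : G) (hiD : i ∈ D)
    (hi : φ (φ i) = i⁻¹) : (QuotientGroup.mk i : G ⧸ N) ∈ Cfsg.pCore q (G ⧸ N) := by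
  have := hsol
  have hsolQ : Group.IsSolvable (G ⧸ N) := inferInstance
  have hcard : Nat.card (G ⧸ N) < Nat.card G := by
    rw [Subgroup.card_eq_card_quotient_mul_card_subgroup N]
    have h1 : 1 < Nat.card N := (Subgroup.one_lt_card_iff_ne_bot N).2 hN
    have h2 : 0 < Nat.card (G ⧸ N) := Nat.card_pos
    nlinarith
  refine ih (G ⧸ N) hcard hsolQ (quot φ N hNφ) (isFpf4_quot h N hNφ) q
    (D.map (QuotientGroup.mk' N)) (hD.map _) ?_ _ ?_ ?_
  · rintro _ ⟨y, hy, rfl⟩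
    exact ⟨φ y, hDφ y hy, rfl⟩
  · exact ⟨i, hiD, rfl⟩
  · rw [quot_mk, quot_mk, hi]
    rfl

/-- Case A: `O_q(G) ≠ 1`. -/
theorem case_A (ih : IHyp G) (hsol : Group.IsSolvable G) {φ : MulAut G} (h : IsFpf4 φ)
    (q : ℕ) [Fact q.Prime] (hA : Cfsg.pCore q G ≠ ⊥)
    (Q : Subgroup G) (hQ : IsPGroup q Q) (hQφ : ∀ d ∈ Q, φ d ∈ Q) (x : G) (hxQ : x ∈ Q)
    (hx : φ (φ x) = x⁻¹) : x ∈ Cfsg.pCore q G := by
  have hchar : (Cfsg.pCore q G).Characteristic := Helper4.SubnormalPRad.pCore_char q G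
  have hNφ := char_inv (Cfsg.pCore q G) φ
  have h1 := step_quot ih hsol h (Cfsg.pCore q G) hA hNφ q Q hQ hQφ x hxQ hx
  have hLn : ((Cfsg.pCore q (G ⧸ Cfsg.pCore q G)).comap
      (QuotientGroup.mk' (Cfsg.pCore q G))).Normal := Subgroup.Normal.comap inferInstance _
  have hLq : IsPGroup q ((Cfsg.pCore q (G ⧸ Cfsg.pCore q G)).comap
      (QuotientGroup.mk' (Cfsg.pCore q G))) := by
    apply IsPGroup.comap_of_ker_isPGroup (Helper1.pCore_isPGroup q)
    rw [QuotientGroup.ker_mk']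
    exact Helper1.pCore_isPGroup q
  exact Helper1.le_pCore hLn hLq h1

/-- an element of a `q`-subgroup centralising `N` and inverted by `φ²` is trivial (Case B). -/
theorem caseB_cent (ih : IHyp G) (hsol : Group.IsSolvable G) {φ : MulAut G} (h : IsFpf4 φ)
    (q : ℕ) [Fact q.Prime] (hB : Cfsg.pCore q G = ⊥)
    (N : Subgroup G) [N.Normal] (hNφ : ∀ m ∈ N, φ m ∈ N)
    (hGN : IsPGroup q (G ⧸ N))
    (D : Subgroup G) (hD : IsPGroup q D) (hDφ : ∀ d ∈ D, φ d ∈ D) (i : G) (hiD : i ∈ D)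
    (hi : φ (φ i) = i⁻¹) (hiN : ∀ n ∈ N, i * n = n * i) : i = 1 := by
  have hiC : i ∈ Subgroup.centralizer (N : Set G) := by
    rw [Subgroup.mem_centralizer_iff]
    intro n hn
    exact (hiN n hn).symm
  by_cases hC : Subgroup.centralizer (N : Set G) = ⊤
  · have hNZ : N ≤ Subgroup.center G := by
      intro n hn
      rw [Subgroup.mem_center_iff]
      intro g
      have hg : g ∈ Subgroup.centralizer (N : Set G) := by rw [hC]; trivial
      rw [Subgroup.mem_centralizer_iff] at hg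
      exact (hg n hn).symm
    have hnilQ : Group.IsNilpotent (G ⧸ N) := hGN.isNilpotent
    have hnil : Group.IsNilpotent G :=
      Subgroup.isNilpotent_of_ker_le_center (QuotientGroup.mk' N)
        (by rw [QuotientGroup.ker_mk']; exact hNZ)
    obtain ⟨S, hDS⟩ := hD.exists_le_sylow
    have hSn : (S : Subgroup G).Normal := inferInstance
    have hS : (S : Subgroup G) ≤ Cfsg.pCore q G := Helper1.le_pCore hSn S.isPGroup'
    rw [hB] at hS
    exact Subgroup.mem_bot.1 (hS (hDS hiD))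
  · have hCφ := centralizer_inv h N hNφ
    have h1 := step_normal ih hsol h (Subgroup.centralizer (N : Set G)) hC hCφ q D hD hDφ i hiD
      hiC hi
    rw [hB] at h1
    exact Subgroup.mem_bot.1 h1

/-- `φ²`-inverted elements of `q`-subgroups `D` with `N D < G` centralise `N` (Case B). -/
theorem caseB_sub (ih : IHyp G) (hsol : Group.IsSolvable G) {φ : MulAut G} (h : IsFpf4 φ)
    (p q : ℕ) [Fact p.Prime] [Fact q.Prime] (hpq : p ≠ q)
    (N : Subgroup G) [hNn : N.Normal] (hNφ : ∀ m ∈ N, φ m ∈ N) (hNp : IsPGroup p N)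
    (D : Subgroup G) (hD : IsPGroup q D) (hDφ : ∀ d ∈ D, φ d ∈ D) (hND : N ⊔ D ≠ ⊤)
    (i : G) (hiD : i ∈ D) (hi : φ (φ i) = i⁻¹) : ∀ n ∈ N, i * n = n * i := by
  intro n hn
  have hMφ := sup_inv φ N D hNφ hDφ
  have hiM : i ∈ N ⊔ D := Subgroup.mem_sup_right hiD
  have hnM : n ∈ N ⊔ D := Subgroup.mem_sup_left hn
  have h1 := step_sub ih hsol h (N ⊔ D) hND hMφ q D hD hDφ i hiD hiM hi
  have hRn : (Cfsg.pCore q ↥(N ⊔ D)).Normal := inferInstance
  have hRq : IsPGroup q (Cfsg.pCore q ↥(N ⊔ D)) := Helper1.pCore_isPGroup q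
  have hNq : IsPGroup p (N.comap (N ⊔ D).subtype) := hNp.comap_subtype
  have hdis := IsPGroup.disjoint_of_ne q p (Ne.symm hpq) _ _ hRq hNq
  set i' : ↥(N ⊔ D) := ⟨i, hiM⟩ with hi'
  set n' : ↥(N ⊔ D) := ⟨n, hnM⟩ with hn'
  have hc1 : i' * n' * i'⁻¹ * n'⁻¹ ∈ Cfsg.pCore q ↥(N ⊔ D) := by
    have h2 : n' * i'⁻¹ * n'⁻¹ ∈ Cfsg.pCore q ↥(N ⊔ D) :=
      hRn.conj_mem _ (Subgroup.inv_mem _ h1) n'
    have h3 := Subgroup.mul_mem _ h1 h2
    have h4 : i' * (n' * i'⁻¹ * n'⁻¹) = i' * n' * i'⁻¹ * n'⁻¹ := by group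
    rw [h4] at h3
    exact h3
  have hc2 : i' * n' * i'⁻¹ * n'⁻¹ ∈ N.comap (N ⊔ D).subtype := by
    rw [Subgroup.mem_comap]
    show i * n * i⁻¹ * n⁻¹ ∈ N
    exact N.mul_mem (hNn.conj_mem n hn i) (N.inv_mem hn)
  have hc3 : i' * n' * i'⁻¹ * n'⁻¹ = 1 := by
    have := (Subgroup.disjoint_def.1 hdis) hc1 hc2
    exact this
  have hc4 : i * n * i⁻¹ * n⁻¹ = 1 := congrArg Subtype.val hc3
  calc i * n = (i * n * i⁻¹ * n⁻¹) * (n * i) := by group
    _ = n * i := by rw [hc4, one_mul]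

/-- Case B: `O_q(G) = 1`. -/
theorem case_B (ih : IHyp G) (hsol : Group.IsSolvable G) {φ : MulAut G} (h : IsFpf4 φ)
    (p q : ℕ) [Fact p.Prime] [Fact q.Prime] (hpq : p ≠ q) (hB : Cfsg.pCore q G = ⊥)
    (N : Subgroup G) [hNn : N.Normal] (hN : N ≠ ⊥) (hNφ : ∀ m ∈ N, φ m ∈ N)
    (hNp : IsPGroup p N) (hNc : ∀ a ∈ N, ∀ b ∈ N, a * b = b * a)
    (Q : Subgroup G) (hQ : IsPGroup q Q) (hQφ : ∀ d ∈ Q, φ d ∈ Q) (x : G) (hxQ : x ∈ Q)
    (hx : φ (φ x) = x⁻¹) : x = 1 := by
  by_contra hx1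
  have := hsol
  -- the quotient step
  have hquot := step_quot ih hsol h N hN hNφ q Q hQ hQφ x hxQ hx
  set L : Subgroup G := (Cfsg.pCore q (G ⧸ N)).comap (QuotientGroup.mk' N) with hLdef
  have hLn : L.Normal := Subgroup.Normal.comap inferInstance _
  have hcharQ : (Cfsg.pCore q (G ⧸ N)).Characteristic :=
    Helper4.SubnormalPRad.pCore_char q (G ⧸ N)
  have hLφ : ∀ m ∈ L, φ m ∈ L := by
    intro m hm
    rw [hLdef, Subgroup.mem_comap] at hm ⊢
    have := char_inv (Cfsg.pCore q (G ⧸ N)) (quot φ N hNφ) _ hm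
    exact this
  have hxL : x ∈ L := hquot
  by_cases hLtop : L = ⊤
  swap
  · have h1 := step_normal ih hsol h L hLtop hLφ q Q hQ hQφ x hxQ hxL hx
    rw [hB] at h1
    exact hx1 (Subgroup.mem_bot.1 h1)
  -- now `G / N` is a `q`-group
  have hGN : IsPGroup q (G ⧸ N) := by
    intro y
    obtain ⟨g, rfl⟩ := QuotientGroup.mk_surjective y
    have hg : g ∈ L := by rw [hLtop]; trivial
    rw [hLdef, Subgroup.mem_comap] at hg
    obtain ⟨k, hk⟩ := (Helper1.pCore_isPGroup q (G := G ⧸ N)) ⟨_, hg⟩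
    exact ⟨k, congrArg Subtype.val hk⟩
  have hcent := caseB_cent ih hsol h q hB N hNφ hGN
  have hsub := caseB_sub ih hsol h p q hpq N hNφ hNp
  -- proper invariant `q`-subgroups are fixed by `φ²`
  have hfix : ∀ D : Subgroup G, IsPGroup q D → (∀ d ∈ D, φ d ∈ D) → N ⊔ D ≠ ⊤ →
      ∀ d ∈ D, φ (φ d) = d := by
    intro D hD hDφ hND d hd
    obtain ⟨c, hc, i, hiD, hc2, hi2, rfl⟩ := h.decomp D hDφ d hd
    have hi1 : i = 1 := hcent D hD hDφ i hiD hi2 (hsub D hD hDφ hND i hiD hi2)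
    rw [hi1, mul_one]
    exact hc2
  -- the subgroup generated by `x` and `φ x`
  set y : G := φ x with hy
  have hφy : φ y = x⁻¹ := hx
  set D : Subgroup G := Subgroup.closure {x, y} with hDdef
  have hxD : x ∈ D := Subgroup.subset_closure (by simp)
  have hyD : y ∈ D := Subgroup.subset_closure (by simp)
  have hDQ : D ≤ Q := by
    rw [hDdef, Subgroup.closure_le]
    intro z hz
    rcases hz with rfl | rfl
    · exact hxQ
    · exact hQφ _ hxQ
  have hDq : IsPGroup q D := hQ.to_le hDQ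
  have hDφ : ∀ d ∈ D, φ d ∈ D := by
    have h1 : D ≤ D.comap φ.toMonoidHom := by
      rw [hDdef, Subgroup.closure_le]
      intro z hz
      rcases hz with rfl | rfl
      · exact hyD
      · show φ y ∈ D
        rw [hφy]
        exact D.inv_mem hxD
    intro d hd
    exact h1 hd
  have hDne : D ≠ ⊥ := by
    intro hD
    rw [hD] at hxD
    exact hx1 (Subgroup.mem_bot.1 hxD)
  have hD'lt : ⁅D, D⁆ < D := Group.IsSolvable.commutator_lt_of_ne_bot hDne
  have hD'φ := commutator_inv φ D hDφ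
  have hD'q : IsPGroup q ↥(⁅D, D⁆ : Subgroup G) := hDq.to_le hD'lt.le
  have hdisND : Disjoint N D := IsPGroup.disjoint_of_ne p q hpq _ _ hNp hDq
  have hND' : N ⊔ ⁅D, D⁆ ≠ ⊤ := by
    intro htop
    apply hD'lt.not_ge
    intro d hd
    have hd2 : d ∈ ((N ⊔ ⁅D, D⁆ : Subgroup G) : Set G) := by rw [htop]; trivial
    rw [Subgroup.normal_mul] at hd2
    obtain ⟨n, hn, d', hd', rfl⟩ := hd2
    have hn2 : n ∈ D := by
      have h1 : n = (n * d') * d'⁻¹ := by group
      rw [h1]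
      exact D.mul_mem hd (D.inv_mem (hD'lt.le hd'))
    have hn1 : n = 1 := (Subgroup.disjoint_def.1 hdisND) hn hn2
    simp only [hn1, one_mul]
    exact hd'
  have hfixD' := hfix ⁅D, D⁆ hD'q hD'φ hND'
  -- `x` and `y` commute
  have hd0 : y * x * y⁻¹ * x⁻¹ ∈ ⁅D, D⁆ := by
    have := Subgroup.commutator_mem_commutator hyD hxD
    rwa [commutatorElement_def] at this
  have hinv0 := h.inverted (hfixD' _ hd0)
  rw [map_mul, map_mul, map_mul, map_inv, map_inv, hφy, inv_inv] at hinv0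
  -- hinv0 : x⁻¹ * y * x * y⁻¹ = (y * x * y⁻¹ * x⁻¹)⁻¹
  have hsq : (x * x) * y = y * (x * x) := by
    have h1 : x⁻¹ * y * x = x * y * x⁻¹ := by
      calc x⁻¹ * y * x = (x⁻¹ * y * x * y⁻¹) * y := by group
        _ = (y * x * y⁻¹ * x⁻¹)⁻¹ * y := by rw [hinv0]
        _ = x * y * x⁻¹ := by group
    calc (x * x) * y = x * (x * y * x⁻¹) * x := by group
      _ = x * (x⁻¹ * y * x) * x := by rw [h1]
      _ = y * (x * x) := by group
  have hxy : x * y = y * x := by
    obtain ⟨m, hm⟩ := h.orderOf_odd x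
    have hxm : (x * x) ^ (m + 1) = x := by
      rw [← pow_two, ← pow_mul]
      have : 2 * (m + 1) = orderOf x + 1 := by omega
      rw [this, pow_succ, pow_orderOf_eq_one, one_mul]
    have hc : Commute (x * x) y := hsq
    have hc2 : Commute ((x * x) ^ (m + 1)) y := hc.pow_left _
    rw [hxm] at hc2
    exact hc2
  -- `D` is abelian
  have hDcent : D ≤ Subgroup.centralizer ({x, y} : Set G) := by
    rw [hDdef, Subgroup.closure_le]
    intro z hz
    rw [SetLike.mem_coe, Subgroup.mem_centralizer_iff]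
    intro w hw
    rcases hz with rfl | rfl <;> rcases hw with rfl | rfl
    · rfl
    · exact hxy.symm
    · exact hxy
    · rfl
  have hDcomm : ∀ a ∈ D, ∀ b ∈ D, a * b = b * a := by
    intro a ha
    have h1 : D ≤ Subgroup.centralizer ({a} : Set G) := by
      rw [hDdef, Subgroup.closure_le]
      intro z hz
      rw [SetLike.mem_coe, Subgroup.mem_centralizer_iff]
      intro w hw
      rw [Set.mem_singleton_iff] at hw
      subst hw
      have h2 := hDcent ha
      rw [Subgroup.mem_centralizer_iff] at h2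
      exact (h2 z hz).symm
    intro b hb
    have h3 := h1 hb
    rw [Subgroup.mem_centralizer_iff] at h3
    exact h3 a rfl
  -- `φ²` inverts `D`
  have hDinv : ∀ d ∈ D, φ (φ d) = d⁻¹ := by
    intro d hd
    rw [hDdef] at hd
    induction hd using Subgroup.closure_induction with
    | mem z hz =>
      rcases hz with rfl | rfl
      · exact hx
      · rw [hφy, map_inv]
    | one => simp
    | mul a b ha hb iha ihb =>
      rw [map_mul, map_mul, iha, ihb, mul_inv_rev]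
      rw [← hDdef] at ha hb
      exact hDcomm _ (D.inv_mem ha) _ (D.inv_mem hb)
    | inv a ha iha =>
      rw [map_inv, map_inv, iha]
  -- the Frobenius lemma
  have hcop : (Nat.card D).Coprime (Nat.card N) := by
    obtain ⟨a, ha⟩ := hDq.exists_card_eq
    obtain ⟨b, hb⟩ := hNp.exists_card_eq
    rw [ha, hb]
    apply Nat.Coprime.pow
    exact (Nat.coprime_primes (Fact.out) (Fact.out)).2 (Ne.symm hpq)
  have hF := frobenius_centralizes h N D hNφ hDφ hNc hDinv
    (fun k _ v hv => hNn.conj_mem v hv k) hcop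
  have hxN : ∀ n ∈ N, x * n = n * x := by
    intro n hn
    have h1 := hF x hxD n hn
    calc x * n = (x * n * x⁻¹) * x := by group
      _ = n * x := by rw [h1]
  exact hx1 (hcent D hDq hDφ x hxD hx hxN)

/-- the nontrivial abelian normal characteristic `p`-subgroup `Z(O_p(G))`. -/
theorem exists_abelian_normal (hsol : Group.IsSolvable G) [Nontrivial G] (φ : MulAut G)
    (h : IsFpf4 φ) :
    ∃ (p : ℕ) (_ : Fact p.Prime) (N : Subgroup G), N.Normal ∧ N ≠ ⊥ ∧ (∀ m ∈ N, φ m ∈ N) ∧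
      IsPGroup p N ∧ (∀ a ∈ N, ∀ b ∈ N, a * b = b * a) ∧ N ≤ Cfsg.pCore p G := by
  have := hsol
  obtain ⟨p, hp, hP⟩ := exists_pCore_ne_bot (G := G)
  have hpF : Fact p.Prime := ⟨hp⟩
  have hchar : (Cfsg.pCore p G).Characteristic := Helper4.SubnormalPRad.pCore_char p G
  have hPφ := char_inv (Cfsg.pCore p G) φ
  have hPq : IsPGroup p (Cfsg.pCore p G) := Helper1.pCore_isPGroup p
  refine ⟨p, hpF, Cfsg.pCore p G ⊓ Subgroup.centralizer (Cfsg.pCore p G : Set G), inferInstance,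
    ?_, ?_, hPq.to_le inf_le_left, ?_, inf_le_left⟩
  · have hnt : Nontrivial ↥(Cfsg.pCore p G) := (Subgroup.nontrivial_iff_ne_bot _).2 hP
    have hcn : Nontrivial (Subgroup.center ↥(Cfsg.pCore p G)) := hPq.center_nontrivial
    obtain ⟨z, hz⟩ := exists_ne (1 : Subgroup.center ↥(Cfsg.pCore p G))
    intro hbot
    apply hz
    have hzc := z.2
    rw [Subgroup.mem_center_iff] at hzc
    have hmem : ((z : ↥(Cfsg.pCore p G)) : G) ∈
        Cfsg.pCore p G ⊓ Subgroup.centralizer (Cfsg.pCore p G : Set G) := by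
      refine Subgroup.mem_inf.2 ⟨(z : ↥(Cfsg.pCore p G)).2, ?_⟩
      rw [Subgroup.mem_centralizer_iff]
      intro g hg
      have := hzc ⟨g, hg⟩
      exact congrArg Subtype.val this
    rw [hbot, Subgroup.mem_bot] at hmem
    apply Subtype.ext
    apply Subtype.ext
    exact hmem
  · intro m hm
    rw [Subgroup.mem_inf] at hm ⊢
    exact ⟨hPφ m hm.1, centralizer_inv h _ hPφ m hm.2⟩
  · intro a ha b hb
    rw [Subgroup.mem_inf] at ha hb
    have h1 := hb.2
    rw [Subgroup.mem_centralizer_iff] at h1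
    exact h1 a ha.1

theorem main_aux : ∀ (n : ℕ) (G : Type u) [Group G] [Finite G], Nat.card G = n →
    Group.IsSolvable G → MainProp G := by
  intro n
  induction n using Nat.strong_induction_on with
  | _ n ih =>
  intro G _ _ hcard hsol
  have ih' : IHyp G := by
    intro G' _ _ hlt hsol'
    exact ih (Nat.card G') (hcard ▸ hlt) G' rfl hsol'
  intro φ h q _ Q hQ hQφ x hxQ hx
  by_cases hA : Cfsg.pCore q G = ⊥
  swap
  · exact case_A ih' hsol h q hA Q hQ hQφ x hxQ hx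
  by_cases hx1 : x = 1
  · rw [hx1]; exact Subgroup.one_mem _
  have hnt : Nontrivial G := ⟨x, 1, hx1⟩
  obtain ⟨p, hpF, N, hNn, hN, hNφ, hNp, hNc, hNle⟩ := exists_abelian_normal hsol φ h
  have hpq : p ≠ q := by
    rintro rfl
    rw [hA] at hNle
    exact hN (le_bot_iff.1 hNle)
  exact absurd (case_B ih' hsol h p q hpq hA N hN hNφ hNp hNc Q hQ hQφ x hxQ hx) hx1

/-- **Main lemma.** -/
theorem main_lemma (hsol : Group.IsSolvable G) {φ : MulAut G} (h : IsFpf4 φ) (q : ℕ)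
    [Fact q.Prime] (Q : Subgroup G) (hQ : IsPGroup q Q) (hQφ : ∀ y ∈ Q, φ y ∈ Q) (x : G)
    (hxQ : x ∈ Q) (hx : φ (φ x) = x⁻¹) : x ∈ Cfsg.pCore q G :=
  main_aux (Nat.card G) G rfl hsol φ h q Q hQ hQφ x hxQ hx

end steps

end Cfsg.Agent.Helper3.Fpf4
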