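import Mathlib

set_option autoImplicit false

/-!
Element orders in a semidirect product `N ⋊ K` with `N` abelian on which `K` acts without fixed
points: the set of element orders is the union of the sets of element orders of `N` and of `K`.
-/

namespace Cfsg.Agent.Helper3.FpfSemidirect

variable {N K : Type*} [CommGroup N] [Group K] (φ : K →* MulAut N)

theorem orderOf_eq_right (hfpf : ∀ k : K, k ≠ 1 → ∀ n : N, φ k n = n → n = 1)
    (g : N ⋊[φ] K) (hg : g.right ≠ 1) : orderOf g = orderOf g.right := by
  apply Nat.dvd_antisymm
  · apply orderOf_dvd_of_pow_eq_one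
    set m := orderOf g.right with hm
    have h1 : (g ^ m).right = 1 := by
      have : (g ^ m).right = g.right ^ m := map_pow SemidirectProduct.rightHom g m
      rw [this, hm, pow_orderOf_eq_one]
    have hc : g ^ m * g = g * g ^ m := ((Commute.refl g).pow_left m).eq
    have hl := congrArg SemidirectProduct.left hc
    rw [SemidirectProduct.mul_left, SemidirectProduct.mul_left, h1, map_one, MulAut.one_apply,
      mul_comm g.left, mul_left_inj] at hl
    have hx : (g ^ m).left = 1 := hfpf g.right hg _ hl.symm
    apply SemidirectProduct.ext
    · rw [hx]; rfl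
    · rw [h1]; rfl
  · have : g.right = SemidirectProduct.rightHom g := rfl
    rw [this]
    exact orderOf_map_dvd _ g

theorem range_orderOf (hfpf : ∀ k : K, k ≠ 1 → ∀ n : N, φ k n = n → n = 1) :
    Set.range (orderOf : N ⋊[φ] K → ℕ) =
      Set.range (orderOf : N → ℕ) ∪ Set.range (orderOf : K → ℕ) := by
  apply Set.Subset.antisymm
  · rintro _ ⟨g, rfl⟩
    by_cases hg : g.right = 1
    · left
      have : g = SemidirectProduct.inl g.left := by
        apply SemidirectProduct.ext
        · rfl
        · rw [hg]; rfl
      refine ⟨g.left, ?_⟩
      conv_rhs => rw [this]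
      exact (orderOf_injective _ SemidirectProduct.inl_injective g.left).symm
    · right
      exact ⟨g.right, (orderOf_eq_right φ hfpf g hg).symm⟩
  · rintro n (⟨x, rfl⟩ | ⟨k, rfl⟩)
    · exact ⟨SemidirectProduct.inl x, orderOf_injective _ SemidirectProduct.inl_injective x⟩
    · exact ⟨SemidirectProduct.inr k, orderOf_injective _ SemidirectProduct.inr_injective k⟩

theorem isSolvable [Group.IsSolvable K] : Group.IsSolvable (N ⋊[φ] K) :=
  Group.isSolvable_of_ker_le_range (SemidirectProduct.inl : N →* N ⋊[φ] K) SemidirectProduct.rightHom
    (by rw [SemidirectProduct.range_inl_eq_ker_rightHom])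


/-- left multiplication by a unit, as an automorphism of the additive group of a ring -/
def unitsActFun (R : Type*) [Ring R] (u : Rˣ) : MulAut (Multiplicative R) where
  toFun v := Multiplicative.ofAdd (u.val * v.toAdd)
  invFun v := Multiplicative.ofAdd ((u⁻¹ : Rˣ).val * v.toAdd)
  left_inv v := by simp [← mul_assoc]
  right_inv v := by simp [← mul_assoc]
  map_mul' v w := by simp [mul_add]

/-- the action of the unit group of a ring on its additive group -/
def unitsAct (R : Type*) [Ring R] : Rˣ →* MulAut (Multiplicative R) where
  toFun := unitsActFun R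
  map_one' := by ext v; simp [unitsActFun]
  map_mul' u w := by ext v; simp [unitsActFun, mul_assoc]

theorem unitsAct_apply (R : Type*) [Ring R] (u : Rˣ) (v : Multiplicative R) :
    unitsAct R u v = Multiplicative.ofAdd (u.val * v.toAdd) := rfl

end Cfsg.Agent.Helper3.FpfSemidirect
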