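import Mathlib
import Cfsg.Prelude.Def_FusionSystem
import Cfsg.Agent.Lead.Fusion
import Cfsg.Agent.Lead.FusionAut
import Cfsg.Agent.Lead.FusionConj
import Cfsg.Agent.Lead.FusionSat
import Cfsg.Agent.Lead.FusionSat2
import Cfsg.Agent.Lead.FusionInner
import Cfsg.Agent.Lead.FusionCentral

set_option autoImplicit false

namespace Cfsg.Agent.Helper3.FusCH

open Cfsg Cfsg.FusionSystem Cfsg.Agent.Lead

variable {Ω : Type*} [Group Ω] {S : Subgroup Ω}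

/-- `f`, restricted to `D`, is a map of the system (element-level view of `F.Hom D`). -/
def FMap (F : FusionSystem S) (D : Subgroup Ω) (f : Ω → Ω) : Prop :=
  ∃ φ ∈ F.Hom D, ∀ x : D, φ x = f x.1

namespace FMap

variable {F : FusionSystem S} {D : Subgroup Ω} {f : Ω → Ω}

theorem le (h : FMap F D f) : D ≤ S := by
  obtain ⟨φ, hφ, -⟩ := h
  exact Fusion.src_le F hφ

theorem mem (h : FMap F D f) {x : Ω} (hx : x ∈ D) : f x ∈ S := by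
  obtain ⟨φ, hφ, hf⟩ := h
  rw [← hf ⟨x, hx⟩]
  exact Fusion.map_mem F hφ _

theorem map_mul (h : FMap F D f) {x y : Ω} (hx : x ∈ D) (hy : y ∈ D) :
    f (x * y) = f x * f y := by
  obtain ⟨φ, hφ, hf⟩ := h
  have h1 := φ.map_mul ⟨x, hx⟩ ⟨y, hy⟩
  rw [hf, hf, hf] at h1
  exact h1

theorem map_one (h : FMap F D f) : f 1 = 1 := by
  obtain ⟨φ, hφ, hf⟩ := h
  have h1 := φ.map_one
  rw [hf] at h1
  exact h1

theorem map_pow (h : FMap F D f) {x : Ω} (hx : x ∈ D) (n : ℕ) : f (x ^ n) = f x ^ n := by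
  obtain ⟨φ, hφ, hf⟩ := h
  have h1 := φ.map_pow ⟨x, hx⟩ n
  rw [hf, hf] at h1
  exact h1

theorem map_inv (h : FMap F D f) {x : Ω} (hx : x ∈ D) : f x⁻¹ = (f x)⁻¹ := by
  obtain ⟨φ, hφ, hf⟩ := h
  have h1 := φ.map_inv ⟨x, hx⟩
  rw [hf, hf] at h1
  exact h1

theorem inj (h : FMap F D f) {x y : Ω} (hx : x ∈ D) (hy : y ∈ D) (hxy : f x = f y) : x = y := by
  obtain ⟨φ, hφ, hf⟩ := h
  have h1 : φ ⟨x, hx⟩ = φ ⟨y, hy⟩ := by rw [hf, hf]; exact hxy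
  exact congrArg Subtype.val (F.injective_of_mem hφ h1)

theorem congr (h : FMap F D f) {f' : Ω → Ω} (hff' : ∀ x ∈ D, f x = f' x) : FMap F D f' := by
  obtain ⟨φ, hφ, hf⟩ := h
  exact ⟨φ, hφ, fun x => (hf x).trans (hff' x.1 x.2)⟩

theorem restrict (h : FMap F D f) {R : Subgroup Ω} (hR : R ≤ D) : FMap F R f := by
  obtain ⟨φ, hφ, hf⟩ := h
  exact ⟨_, Fusion.restrict_mem F hφ hR, fun x => hf ⟨x.1, hR x.2⟩⟩

theorem comp (h : FMap F D f) {D' : Subgroup Ω} {g : Ω → Ω} (h' : FMap F D' g)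
    (hm : ∀ x ∈ D, f x ∈ D') : FMap F D (fun x => g (f x)) := by
  obtain ⟨φ, hφ, hf⟩ := h
  obtain ⟨ψ, hψ, hg⟩ := h'
  have hm' : ∀ x : D, φ x ∈ D' := fun x => by rw [hf]; exact hm x.1 x.2
  refine ⟨_, F.comp_mem hφ hψ hm', fun x => ?_⟩
  change ψ ⟨φ x, hm' x⟩ = g (f x.1)
  rw [hg]
  change g (φ x) = _
  rw [hf]

theorem conj (F : FusionSystem S) {D : Subgroup Ω} (hD : D ≤ S) {g : Ω} (hg : g ∈ S) :
    FMap F D (fun x => g * x * g⁻¹) :=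
  ⟨_, F.conj_mem hD hg, fun _ => rfl⟩

theorem of_hom {φ : D →* Ω} (hφ : φ ∈ F.Hom D) : ∃ f : Ω → Ω, FMap F D f ∧ ∀ x : D, f x.1 = φ x := by
  classical
  refine ⟨fun y => if h : y ∈ D then φ ⟨y, h⟩ else 1, ⟨φ, hφ, fun x => ?_⟩, fun x => ?_⟩
  · simp [x.2]
  · simp [x.2]

theorem isConjElt (h : FMap F D f) {x : Ω} (hx : x ∈ D) : F.IsConjElt x (f x) := by
  obtain ⟨φ, hφ, hf⟩ := h
  have := Fusion.isConjElt_map F hφ ⟨x, hx⟩
  rw [hf] at this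
  exact this

theorem of_isConjElt {x z : Ω} (h : F.IsConjElt x z) :
    ∃ f : Ω → Ω, FMap F (Subgroup.zpowers x) f ∧ f x = z := by
  obtain ⟨φ, hφ, hφx⟩ := h
  obtain ⟨f, hf, hfφ⟩ := of_hom hφ
  refine ⟨f, hf, ?_⟩
  rw [← hφx]
  exact hfφ ⟨x, Subgroup.mem_zpowers x⟩

/-- The inverse of a map of the system, on the image. -/
theorem exists_inv (h : FMap F D f) : ∃ (D' : Subgroup Ω) (g : Ω → Ω), FMap F D' g ∧
    (∀ y, y ∈ D' ↔ ∃ x ∈ D, f x = y) ∧ (∀ x ∈ D, g (f x) = x) := by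
  obtain ⟨φ, hφ, hf⟩ := h
  obtain ⟨ψ, hψ, hinv⟩ := F.inv_mem hφ
  obtain ⟨g, hg, hgψ⟩ := of_hom hψ
  refine ⟨φ.range, g, hg, fun y => ?_, fun x hx => ?_⟩
  · constructor
    · rintro ⟨x, rfl⟩
      exact ⟨x.1, x.2, (hf x).symm⟩
    · rintro ⟨x, hx, rfl⟩
      exact ⟨⟨x, hx⟩, hf _⟩
  · have h1 := hgψ ⟨φ ⟨x, hx⟩, ⟨_, rfl⟩⟩
    rw [hinv] at h1
    change g (φ ⟨x, hx⟩) = x at h1
    rw [hf] at h1
    exact h1

end FMap

end Cfsg.Agent.Helper3.FusCH
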