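import Mathlib
import Cfsg.Agent.Helper3.FusCHA
import Cfsg.Agent.Helper3.CamHerA

set_option autoImplicit false

namespace Cfsg.Agent.Helper3.FusCH

open Cfsg Cfsg.FusionSystem Cfsg.Agent.Lead

variable {Ω : Type*} [Group Ω] {S : Subgroup Ω}

theorem centralizerIn_eq_of_le_center {Q : Subgroup Ω}
    (hQ : Q ≤ S ⊓ Subgroup.centralizer (S : Set Ω)) : centralizerIn S Q = S := by
  apply le_antisymm inf_le_left
  intro x hx
  refine Subgroup.mem_inf.mpr ⟨hx, ?_⟩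
  rw [Subgroup.mem_centralizer_iff]
  intro y hy
  have h1 := (Subgroup.mem_inf.mp (hQ hy)).2
  rw [Subgroup.mem_centralizer_iff] at h1
  exact (h1 x hx).symm

theorem fullyCentralized_of_le_center [Finite S] (F : FusionSystem S) {Q : Subgroup Ω}
    (hQ : Q ≤ S ⊓ Subgroup.centralizer (S : Set Ω)) : F.IsFullyCentralized Q := by
  refine ⟨hQ.trans inf_le_left, fun Q' _ => ?_⟩
  rw [centralizerIn_eq_of_le_center hQ]
  exact Subgroup.card_le_of_le inf_le_left

/-- Extension of a map of the system with central image to the centralizer of its source. -/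
theorem exists_extend_centralizerIn [Finite S] (p : ℕ) [Fact p.Prime] (hS : IsPGroup p S)
    {F : FusionSystem S} (hF : F.IsSaturated p) {P : Subgroup Ω} {f : Ω → Ω} (h : FMap F P f)
    (hfP : ∀ x ∈ P, f x ∈ S ⊓ Subgroup.centralizer (S : Set Ω)) :
    ∃ g : Ω → Ω, FMap F (centralizerIn S P ⊔ P) g ∧ ∀ x ∈ P, g x = f x := by
  obtain ⟨φ, hφ, hf⟩ := h
  have hPS := Fusion.src_le F hφ
  have hrange : φ.range ≤ S ⊓ Subgroup.centralizer (S : Set Ω) := by
    rintro _ ⟨x, rfl⟩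
    rw [hf]
    exact hfP x.1 x.2
  have hfc := fullyCentralized_of_le_center F hrange
  have hrec := Fusion.receptive_of_fullyCentralized p hS F hF hfc
  obtain ⟨ψ', hψ', hext⟩ := hrec.2 P φ hφ rfl
  have hle : centralizerIn S P ⊔ P ≤ extender S P φ := by
    apply sup_le
    · exact Fusion.centralizerIn_le_extender (S := S) P φ
    · exact Fusion.le_extender P hPS φ (fun x => Fusion.map_mem F hφ x)
  have hψ := Fusion.restrict_mem F hψ' hle
  obtain ⟨g, hg, hgψ⟩ := FMap.of_hom hψ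
  refine ⟨g, hg, fun x hx => ?_⟩
  have hx' : x ∈ centralizerIn S P ⊔ P := (le_sup_right : P ≤ _) hx
  have h1 := hgψ ⟨x, hx'⟩
  change g x = ψ' ⟨x, hle hx'⟩ at h1
  rw [h1, hext x hx (hle hx'), hf]

/-- Extension of a map of the system between central subgroups to all of `S`. -/
theorem exists_extend_top [Finite S] (p : ℕ) [Fact p.Prime] (hS : IsPGroup p S)
    {F : FusionSystem S} (hF : F.IsSaturated p) {P : Subgroup Ω} {f : Ω → Ω} (h : FMap F P f)
    (hP : P ≤ S ⊓ Subgroup.centralizer (S : Set Ω))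
    (hfP : ∀ x ∈ P, f x ∈ S ⊓ Subgroup.centralizer (S : Set Ω)) :
    ∃ g : Ω → Ω, FMap F S g ∧ ∀ x ∈ P, g x = f x := by
  obtain ⟨g, hg, hgf⟩ := exists_extend_centralizerIn p hS hF h hfP
  have hle : S ≤ centralizerIn S P ⊔ P := by
    rw [centralizerIn_eq_of_le_center hP]
    exact le_sup_left
  exact ⟨g, hg.restrict hle, hgf⟩

theorem mem_centralizerIn_zpowers {x y : Ω} (hy : y ∈ S) (hxy : y * x = x * y) :
    y ∈ centralizerIn S (Subgroup.zpowers x) := by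
  refine Subgroup.mem_inf.mpr ⟨hy, ?_⟩
  rw [Subgroup.mem_centralizer_iff]
  rintro _ ⟨k, rfl⟩
  have : Commute y x := hxy
  exact ((this.zpow_right k).eq).symm

/-- Extension of `x ↦ z` (with `z` central) to the centralizer of `x` in `S`. -/
theorem exists_extend_centralizer [Finite S] (p : ℕ) [Fact p.Prime] (hS : IsPGroup p S)
    {F : FusionSystem S} (hF : F.IsSaturated p) {x z : Ω}
    (hz : z ∈ S ⊓ Subgroup.centralizer (S : Set Ω)) (h : F.IsConjElt x z) :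
    ∃ g : Ω → Ω, FMap F (S ⊓ Subgroup.centralizer {x}) g ∧ g x = z := by
  obtain ⟨f, hf, hfx⟩ := FMap.of_isConjElt h
  have hxS : x ∈ S := hf.le (Subgroup.mem_zpowers x)
  have hfP : ∀ y ∈ Subgroup.zpowers x, f y ∈ S ⊓ Subgroup.centralizer (S : Set Ω) := by
    rintro _ ⟨k, rfl⟩
    have h1 : ∀ n : ℕ, f (x ^ n) ∈ S ⊓ Subgroup.centralizer (S : Set Ω) := by
      intro n
      rw [hf.map_pow (Subgroup.mem_zpowers x), hfx]
      exact Subgroup.pow_mem _ hz n
    rcases Int.eq_nat_or_neg k with ⟨n, rfl | rfl⟩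
    · change f (x ^ (n : ℤ)) ∈ _
      rw [zpow_natCast]
      exact h1 n
    · change f (x ^ (-(n : ℤ))) ∈ _
      rw [zpow_neg, zpow_natCast, hf.map_inv (Subgroup.pow_mem _ (Subgroup.mem_zpowers x) n)]
      exact Subgroup.inv_mem _ (h1 n)
  obtain ⟨g, hg, hgf⟩ := exists_extend_centralizerIn p hS hF hf hfP
  have hle : S ⊓ Subgroup.centralizer {x} ≤ centralizerIn S (Subgroup.zpowers x) ⊔ Subgroup.zpowers x := by
    intro y hy
    obtain ⟨hyS, hyc⟩ := Subgroup.mem_inf.mp hy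
    rw [Subgroup.mem_centralizer_singleton_iff] at hyc
    exact (le_sup_left : centralizerIn S (Subgroup.zpowers x) ≤ _)
      (mem_centralizerIn_zpowers hyS hyc)
  refine ⟨g, hg.restrict hle, ?_⟩
  rw [hgf x (Subgroup.mem_zpowers x), hfx]

/-- A map of the system defined on `S` is onto `S`. -/
theorem FMap.surj_top [Finite S] {F : FusionSystem S} {g : Ω → Ω} (h : FMap F S g) {y : Ω}
    (hy : y ∈ S) : ∃ x ∈ S, g x = y := by
  have hinj : Function.Injective (fun x : S => (⟨g x.1, h.mem x.2⟩ : S)) := by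
    intro a b hab
    exact Subtype.ext (h.inj a.2 b.2 (congrArg Subtype.val hab))
  obtain ⟨x, hx⟩ := (Finite.injective_iff_surjective.mp hinj) ⟨y, hy⟩
  exact ⟨x.1, x.2, congrArg Subtype.val hx⟩

/-- Some odd iterate of a map of a saturated system (for the prime 2) defined on `S` is
conjugation by an element of `S`. -/
theorem FMap.exists_odd_iterate_inner [Finite S] {F : FusionSystem S} (hF : F.IsSaturated 2)
    {g : Ω → Ω} (h : FMap F S g) :
    ∃ m : ℕ, Odd m ∧ ∃ s ∈ S, ∀ x ∈ S, g^[m] x = s * x * s⁻¹ := by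
  obtain ⟨φ, hφ, hf⟩ := h
  have hr : φ.range = S := Fusion.isConj_top_eq F ⟨φ, hφ, rfl⟩
  set α : MulAut S := Fusion.equivOfRange φ (F.injective_of_mem hφ) hr with hα
  have hαmem : α ∈ F.autGroup S := by
    rw [Fusion.mem_autGroup_iff F le_rfl]
    convert hφ using 1
    ext y
    rfl
  have hαx : ∀ x : S, ((α x : S) : Ω) = g x.1 := fun x => hf x
  have hiter : ∀ (j : ℕ) (x : S), (((α ^ j) x : S) : Ω) = g^[j] x.1 := by
    intro j
    induction j with
    | zero => intro x; rfl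
    | succ j ih =>
      intro x
      rw [pow_succ', MulAut.mul_apply, hαx, ih, Function.iterate_succ_apply']
  have : Finite (MulAut S) := inferInstance
  obtain ⟨-, R, hR⟩ := Fusion.top_fullyAutomized 2 F hF
  set a : F.autGroup S := ⟨α, hαmem⟩ with ha
  have hn0 : orderOf a ≠ 0 := (orderOf_pos a).ne'
  obtain ⟨k, m, hm, hkm⟩ := Nat.exists_eq_two_pow_mul_odd hn0
  have hT : CamHer.T2 (a ^ m) := ⟨k, by rw [← pow_mul, mul_comm, ← hkm, pow_orderOf_eq_one]⟩
  obtain ⟨Q, hQ⟩ := hT.isPGroup.exists_le_sylow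
  obtain ⟨c, rfl⟩ := MulAction.exists_smul_eq (F.autGroup S) R Q
  have h1 : a ^ m ∈ c • R := hQ (Subgroup.mem_zpowers _)
  rw [CamHer.mem_smul_iff] at h1
  have h2 : c⁻¹ * a ^ m * c ∈ (R : Subgroup (F.autGroup S)) := h1
  rw [hR, Subgroup.mem_subgroupOf, mem_autInducedBy_iff] at h2
  obtain ⟨u, hu, huc⟩ := h2
  refine ⟨m, hm, ((c : MulAut S) ⟨u, hu⟩ : S).1, ((c : MulAut S) ⟨u, hu⟩ : S).2, fun x hx => ?_⟩
  rw [← hiter m ⟨x, hx⟩]
  have h3 := huc ((c : MulAut S)⁻¹ ⟨x, hx⟩)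
  have h4 : (((c⁻¹ * a ^ m * c : F.autGroup S) : MulAut S)) ((c : MulAut S)⁻¹ ⟨x, hx⟩) =
      (c : MulAut S)⁻¹ ((α ^ m) ⟨x, hx⟩) := by
    simp [ha, MulAut.mul_apply]
  rw [h4] at h3
  have h5 : (α ^ m) ⟨x, hx⟩ = (c : MulAut S) ((c : MulAut S)⁻¹ ((α ^ m) ⟨x, hx⟩)) := by simp
  have h6 : ((c : MulAut S)⁻¹ ((α ^ m) ⟨x, hx⟩)) =
      ⟨u, hu⟩ * ((c : MulAut S)⁻¹ ⟨x, hx⟩) * ⟨u, hu⟩⁻¹ := Subtype.ext h3
  have h7 : (α ^ m) ⟨x, hx⟩ =
      (c : MulAut S) ⟨u, hu⟩ * ⟨x, hx⟩ * ((c : MulAut S) ⟨u, hu⟩)⁻¹ := by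
    calc (α ^ m) ⟨x, hx⟩ = (c : MulAut S) ((c : MulAut S)⁻¹ ((α ^ m) ⟨x, hx⟩)) := h5
      _ = (c : MulAut S) (⟨u, hu⟩ * ((c : MulAut S)⁻¹ ⟨x, hx⟩) * ⟨u, hu⟩⁻¹) := by rw [h6]
      _ = _ := by
        rw [MulEquiv.map_mul, MulEquiv.map_mul, MulEquiv.map_inv]
        simp
  have h8 := congrArg Subtype.val h7
  simpa using h8

end Cfsg.Agent.Helper3.FusCH
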