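import Mathlib
import Cfsg.Agent.Helper3.FusCHB
import Cfsg.Agent.Helper3.CamHerD

set_option autoImplicit false

namespace Cfsg.Agent.Helper3.FusCH

open Cfsg Cfsg.FusionSystem Cfsg.Agent.Lead Cfsg.Agent.Helper3.CamHer

variable {Ω : Type*} [Group Ω] {S : Subgroup Ω}

/-- Standing hypotheses: a saturated fusion system over a finite 2-group of exponent dividing `2^e`
in which every element is conjugate to a central one. -/
structure Hyp (S : Subgroup Ω) (F : FusionSystem S) (e : ℕ) : Prop where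
  fin : Finite S
  pS : IsPGroup 2 S
  sat : F.IsSaturated 2
  conj : ∀ x ∈ S, ∃ z ∈ S ⊓ Subgroup.centralizer (S : Set Ω), F.IsConjElt x z
  he : 1 ≤ e
  exp : ∀ g ∈ S, g ^ (2 ^ e) = 1

theorem mem_ZZ_iff {c : Ω} : c ∈ S ⊓ Subgroup.centralizer (S : Set Ω) ↔ c ∈ ZZ S := Iff.rfl

theorem FMap.zpowers_mem {F : FusionSystem S} {x : Ω} {f : Ω → Ω}
    (hf : FMap F (Subgroup.zpowers x) f) (K : Subgroup Ω) (hK : f x ∈ K) :
    ∀ y ∈ Subgroup.zpowers x, f y ∈ K := by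
  rintro _ ⟨k, rfl⟩
  have h1 : ∀ n : ℕ, f (x ^ n) ∈ K := by
    intro n
    rw [hf.map_pow (Subgroup.mem_zpowers x)]
    exact Subgroup.pow_mem _ hK n
  rcases Int.eq_nat_or_neg k with ⟨n, rfl | rfl⟩
  · change f (x ^ (n : ℤ)) ∈ _
    rw [zpow_natCast]
    exact h1 n
  · change f (x ^ (-(n : ℤ))) ∈ _
    rw [zpow_neg, zpow_natCast, hf.map_inv (Subgroup.pow_mem _ (Subgroup.mem_zpowers x) n)]
    exact Subgroup.inv_mem _ (h1 n)

/-- A map of the system defined on `S` preserves the centre. -/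
theorem FMap.map_ZZ [Finite S] {F : FusionSystem S} {g : Ω → Ω} (h : FMap F S g) {c : Ω}
    (hc : c ∈ ZZ S) : g c ∈ ZZ S := by
  obtain ⟨hcS, hcc⟩ := mem_ZZ.1 hc
  rw [mem_ZZ]
  refine ⟨h.mem hcS, fun s hs => ?_⟩
  obtain ⟨s', hs', rfl⟩ := h.surj_top hs
  rw [← h.map_mul hs' hcS, ← h.map_mul hcS hs', hcc s' hs']

/-- ... and reflects it. -/
theorem FMap.mem_ZZ_of_map [Finite S] {F : FusionSystem S} {g : Ω → Ω} (h : FMap F S g) {c : Ω}
    (hcS : c ∈ S) (hc : g c ∈ ZZ S) : c ∈ ZZ S := by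
  rw [mem_ZZ]
  refine ⟨hcS, fun s hs => ?_⟩
  apply h.inj (S.mul_mem hs hcS) (S.mul_mem hcS hs)
  rw [h.map_mul hs hcS, h.map_mul hcS hs]
  exact (mem_ZZ.1 hc).2 _ (h.mem hs)

theorem FMap.map_We [Finite S] {F : FusionSystem S} {g : Ω → Ω} (h : FMap F S g) (e : ℕ) {w : Ω}
    (hw : w ∈ We e S) : g w ∈ We e S := by
  obtain ⟨c, hc, rfl⟩ := mem_We.1 hw
  rw [h.map_pow (mem_ZZ.1 hc).1]
  exact mem_We.2 ⟨g c, h.map_ZZ hc, rfl⟩

theorem FMap.mem_We_of_map [Finite S] {F : FusionSystem S} {g : Ω → Ω} (h : FMap F S g) (e : ℕ)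
    {w : Ω} (hwS : w ∈ S) (hw : g w ∈ We e S) : w ∈ We e S := by
  obtain ⟨c, hc, hcw⟩ := mem_We.1 hw
  obtain ⟨c', hc'S, rfl⟩ := h.surj_top (mem_ZZ.1 hc).1
  have hc'Z : c' ∈ ZZ S := h.mem_ZZ_of_map hc'S hc
  refine mem_We.2 ⟨c', hc'Z, ?_⟩
  apply h.inj (S.pow_mem hc'S _) hwS
  rw [h.map_pow hc'S, hcw]

variable {F : FusionSystem S} {e : ℕ}

/-- A `2^(e-1)`-th power that is central lies in `We e S`. -/
theorem fact1F (H : Hyp S F e) {g : Ω} (hg : g ∈ S)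
    (hw : g ^ (2 ^ (e - 1)) ∈ ZZ S) : g ^ (2 ^ (e - 1)) ∈ We e S := by
  have := H.fin
  obtain ⟨c, hc, hconj⟩ := H.conj g hg
  obtain ⟨f, hf, hfg⟩ := FMap.of_isConjElt hconj
  set w := g ^ (2 ^ (e - 1)) with hwdef
  have hwg : w ∈ Subgroup.zpowers g := Subgroup.pow_mem _ (Subgroup.mem_zpowers g) _
  have hfw : f w = c ^ (2 ^ (e - 1)) := by
    rw [hwdef, hf.map_pow (Subgroup.mem_zpowers g), hfg]
  have hfwW : f w ∈ We e S := by
    rw [hfw]; exact mem_We.2 ⟨c, hc, rfl⟩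
  have hle : Subgroup.zpowers w ≤ Subgroup.zpowers g := by
    rw [Subgroup.zpowers_le]; exact hwg
  have hf' := hf.restrict hle
  have hP : Subgroup.zpowers w ≤ S ⊓ Subgroup.centralizer (S : Set Ω) := by
    rw [Subgroup.zpowers_le]; exact hw
  have hfP := hf'.zpowers_mem (S ⊓ Subgroup.centralizer (S : Set Ω)) (We_le_ZZ e S hfwW)
  obtain ⟨α, hα, hαf⟩ := exists_extend_top 2 H.pS H.sat hf' hP hfP
  apply hα.mem_We_of_map e (mem_ZZ.1 hw).1
  rw [hαf w (Subgroup.mem_zpowers w)]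
  exact hfwW

/-- If a map of the system, defined on a subgroup containing the centre, sends `2^(e-1)`-th powers
of central elements into `We e S`, then it reflects membership in `We e S`. -/
theorem mem_We_of_map_mem [Finite S] {D : Subgroup Ω} {ψ : Ω → Ω} (hψ : FMap F D ψ)
    (hZD : ZZ S ≤ D) (hpow : ∀ c ∈ ZZ S, ψ c ^ (2 ^ (e - 1)) ∈ We e S) {y : Ω} (hy : y ∈ D)
    (hψy : ψ y ∈ We e S) : y ∈ We e S := by
  have hWS : We e S ≤ S := (We_le_ZZ e S).trans inf_le_left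
  have hWD : We e S ≤ D := (We_le_ZZ e S).trans hZD
  have : Finite (We e S) := Fusion.finite_of_le hWS
  have hmap : ∀ w ∈ We e S, ψ w ∈ We e S := by
    intro w hw
    obtain ⟨c, hc, rfl⟩ := mem_We.1 hw
    rw [hψ.map_pow (hZD hc)]
    exact hpow c hc
  have hinj : Function.Injective (fun w : We e S => (⟨ψ w.1, hmap w.1 w.2⟩ : We e S)) := by
    intro a b hab
    exact Subtype.ext (hψ.inj (hWD a.2) (hWD b.2) (congrArg Subtype.val hab))
  obtain ⟨w', hw'⟩ := (Finite.injective_iff_surjective.mp hinj) ⟨ψ y, hψy⟩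
  have h1 : ψ w'.1 = ψ y := congrArg Subtype.val hw'
  rw [← hψ.inj (hWD w'.2) hy h1]
  exact w'.2

theorem card_image_eq [Finite S] {D D₁ : Subgroup Ω} {ψ : Ω → Ω} (hψ : FMap F D ψ)
    (hD₁ : ∀ y, y ∈ D₁ ↔ ∃ x ∈ D, ψ x = y) : Nat.card D₁ = Nat.card D := by
  symm
  apply Nat.card_eq_of_bijective (fun x : D => (⟨ψ x.1, (hD₁ _).2 ⟨x.1, x.2, rfl⟩⟩ : D₁))
  constructor
  · intro a b hab
    exact Subtype.ext (hψ.inj a.2 b.2 (congrArg Subtype.val hab))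
  · rintro ⟨y, hy⟩
    obtain ⟨x, hx, rfl⟩ := (hD₁ y).1 hy
    exact ⟨⟨x, hx⟩, rfl⟩

end Cfsg.Agent.Helper3.FusCH
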