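import Mathlib
import Cfsg.Agent.Helper3.FusCHC

set_option autoImplicit false

namespace Cfsg.Agent.Helper3.FusCH

open Cfsg Cfsg.FusionSystem Cfsg.Agent.Lead Cfsg.Agent.Helper3.CamHer

variable {Ω : Type*} [Group Ω] {S : Subgroup Ω} {F : FusionSystem S} {e : ℕ}

theorem card_lt_of_lt_of_le [Finite S] {D D' : Subgroup Ω} (hD' : D' ≤ S) (h : D < D') :
    Nat.card D < Nat.card D' := by
  have : Finite D' := Fusion.finite_of_le hD'
  rcases lt_or_ge (Nat.card D) (Nat.card D') with h1 | h1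
  · exact h1
  · exfalso
    have := Subgroup.eq_of_le_of_card_ge h.le h1
    exact h.ne this

/-- Key step: every `2^(e-1)`-th power of an element of `S` is central in `S`. -/
theorem mainEF (H : Hyp S F e) :
    ∀ k : ℕ, ∀ g ∈ S,
      Nat.card S - Nat.card (S ⊓ Subgroup.centralizer {g ^ (2 ^ (e - 1))} : Subgroup Ω) = k →
      g ^ (2 ^ (e - 1)) ∈ ZZ S := by
  have := H.fin
  intro k
  induction k using Nat.strong_induction_on with
  | _ k ih =>
  intro g hg hk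
  set w := g ^ (2 ^ (e - 1)) with hwdef
  have hwS : w ∈ S := S.pow_mem hg _
  set D : Subgroup Ω := S ⊓ Subgroup.centralizer {w} with hD
  have hmemD : ∀ x : Ω, x ∈ D ↔ x ∈ S ∧ x * w = w * x := by
    intro x
    rw [hD, Subgroup.mem_inf, Subgroup.mem_centralizer_singleton_iff]
  by_cases hSD : S ≤ D
  · rw [mem_ZZ]
    exact ⟨hwS, fun s hs => ((hmemD s).1 (hSD hs)).2⟩
  have hDS : D < S := lt_of_le_of_ne inf_le_left (fun h => hSD h.ge)
  obtain ⟨z, hz, hconj⟩ := H.conj w hwS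
  obtain ⟨ψ, hψ, hψw⟩ := exists_extend_centralizer 2 H.pS H.sat hz hconj
  obtain ⟨D₁, ψi, hψi, hD₁, hinv⟩ := hψ.exists_inv
  have hD₁S : D₁ ≤ S := hψi.le
  have hcardD₁ : Nat.card D₁ = Nat.card D := card_image_eq hψ hD₁
  have hcardD : Nat.card D < Nat.card S := card_lt_of_lt_of_le le_rfl hDS
  have hD₁lt : D₁ < S := by
    refine lt_of_le_of_ne hD₁S ?_
    intro h
    rw [h] at hcardD₁
    omega
  obtain ⟨r, hrS, hrN, hrD, hrr⟩ := exists_sq_mem S D₁ H.pS hD₁lt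
  have hZD : ZZ S ≤ D := by
    intro c hc
    obtain ⟨hcS, hcc⟩ := mem_ZZ.1 hc
    exact (hmemD c).2 ⟨hcS, (hcc w hwS).symm⟩
  have hpow : ∀ c ∈ ZZ S, ψ c ^ (2 ^ (e - 1)) ∈ We e S := by
    intro c hc
    obtain ⟨hcS, hcc⟩ := mem_ZZ.1 hc
    have hcD : c ∈ D := hZD hc
    set v := ψ c with hv
    have hvD₁ : v ∈ D₁ := (hD₁ v).2 ⟨c, hcD, rfl⟩
    have hvS : v ∈ S := hD₁S hvD₁
    have hvc : ∀ y ∈ D₁, y * v = v * y := by
      intro y hy
      obtain ⟨x, hx, rfl⟩ := (hD₁ y).1 hy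
      rw [hv, ← hψ.map_mul hx hcD, ← hψ.map_mul hcD hx, hcc x ((hmemD x).1 hx).1]
    have hconjD : r⁻¹ * v * r ∈ D₁ := by
      rw [Subgroup.mem_normalizer_iff] at hrN
      rw [hrN]
      have : r * (r⁻¹ * v * r) * r⁻¹ = v := by group
      rw [this]; exact hvD₁
    have hX := lemX e H.he r v (H.exp _ (S.mul_mem hrS hvS)) (H.exp _ hrS) (H.exp _ hvS)
      (hvc _ hconjD) (hvc _ hrr)
    have hrw : r * v ^ (2 ^ (e - 1)) = v ^ (2 ^ (e - 1)) * r := by
      have : r * (r⁻¹ * v ^ (2 ^ (e - 1)) * r) = r * v ^ (2 ^ (e - 1)) := by rw [hX]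
      rw [← this]; group
    set D' : Subgroup Ω := S ⊓ Subgroup.centralizer {v ^ (2 ^ (e - 1))} with hD'
    have hDD' : D₁ < D' := by
      refine lt_of_le_of_ne ?_ ?_
      · intro x hx
        rw [hD', Subgroup.mem_inf, Subgroup.mem_centralizer_singleton_iff]
        refine ⟨hD₁S hx, ?_⟩
        have : Commute x v := hvc x hx
        exact (this.pow_right _).eq
      · intro h
        apply hrD
        rw [h, hD', Subgroup.mem_inf, Subgroup.mem_centralizer_singleton_iff]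
        exact ⟨hrS, hrw⟩
    have hc1 : Nat.card D₁ < Nat.card D' := card_lt_of_lt_of_le inf_le_left hDD'
    have hc2 : Nat.card D' ≤ Nat.card S := Subgroup.card_le_of_le inf_le_left
    have hlt : Nat.card S - Nat.card D' < k := by
      rw [← hk]
      omega
    have h1 := ih _ hlt v hvS rfl
    exact fact1F H hvS h1
  have hgD : g ∈ D := by
    rw [hmemD]
    refine ⟨hg, ?_⟩
    rw [hwdef, ← pow_succ, ← pow_succ']
  have hzW : z ∈ We e S := by
    have h1 : z = ψ g ^ (2 ^ (e - 1)) := by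
      rw [← hψw, hwdef, hψ.map_pow hgD]
    rw [h1]
    apply fact1F H (hψ.mem hgD)
    rw [← h1]
    exact hz
  have hwD : w ∈ D := (hmemD w).2 ⟨hwS, rfl⟩
  have hwW : w ∈ We e S := mem_We_of_map_mem hψ hZD hpow hwD (by rw [hψw]; exact hzW)
  exact We_le_ZZ e S hwW

theorem pow_mem_We (H : Hyp S F e) {g : Ω} (hg : g ∈ S) : g ^ (2 ^ (e - 1)) ∈ We e S :=
  fact1F H hg (mainEF H _ g hg rfl)

/-- Maps of the system defined on a subgroup containing the centre reflect `We e S`. -/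
theorem mem_We_of_map_mem' (H : Hyp S F e) {D : Subgroup Ω} {ψ : Ω → Ω} (hψ : FMap F D ψ)
    (hZD : ZZ S ≤ D) {y : Ω} (hy : y ∈ D) (hψy : ψ y ∈ We e S) : y ∈ We e S := by
  have := H.fin
  exact mem_We_of_map_mem hψ hZD (fun c hc => pow_mem_We H (hψ.mem (hZD hc))) hy hψy

/-- ... and preserve it. -/
theorem map_mem_We (H : Hyp S F e) {D : Subgroup Ω} {ψ : Ω → Ω} (hψ : FMap F D ψ)
    (hZD : ZZ S ≤ D) {w : Ω} (hw : w ∈ We e S) : ψ w ∈ We e S := by
  obtain ⟨c, hc, rfl⟩ := mem_We.1 hw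
  rw [hψ.map_pow (hZD hc)]
  exact pow_mem_We H (hψ.mem (hZD hc))

/-- `We e S` is strongly closed in the system. -/
theorem We_stronglyClosed (H : Hyp S F e) : F.StronglyClosed (We e S) := by
  have := H.fin
  have hWS : We e S ≤ S := (We_le_ZZ e S).trans inf_le_left
  refine ⟨hWS, fun R hR φ hφ x => ?_⟩
  obtain ⟨f, hf, hfφ⟩ := FMap.of_hom hφ
  rw [← hfφ x]
  obtain ⟨D', gi, hgi, hD', hinv⟩ := hf.exists_inv
  set y := f x.1 with hy
  have hyD' : y ∈ D' := (hD' y).2 ⟨x.1, x.2, rfl⟩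
  have hyS : y ∈ S := hf.mem x.2
  have hconj : F.IsConjElt y x.1 := by
    have := hgi.isConjElt hyD'
    rwa [hinv x.1 x.2] at this
  have hxZ : x.1 ∈ S ⊓ Subgroup.centralizer (S : Set Ω) := We_le_ZZ e S (hR x.2)
  obtain ⟨ψ, hψ, hψy⟩ := exists_extend_centralizer 2 H.pS H.sat hxZ hconj
  have hZD : ZZ S ≤ S ⊓ Subgroup.centralizer {y} := by
    intro c hc
    obtain ⟨hcS, hcc⟩ := mem_ZZ.1 hc
    rw [Subgroup.mem_inf, Subgroup.mem_centralizer_singleton_iff]
    exact ⟨hcS, (hcc y hyS).symm⟩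
  have hyD : y ∈ S ⊓ Subgroup.centralizer {y} := by
    rw [Subgroup.mem_inf, Subgroup.mem_centralizer_singleton_iff]
    exact ⟨hyS, rfl⟩
  exact mem_We_of_map_mem' H hψ hZD hyD (by rw [hψy]; exact hR x.2)

end Cfsg.Agent.Helper3.FusCH
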