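import Mathlib
import Cfsg.Agent.Helper3.FusCHD

set_option autoImplicit false

namespace Cfsg.Agent.Helper3.FusCH

open Cfsg Cfsg.FusionSystem Cfsg.Agent.Lead Cfsg.Agent.Helper3.CamHer

variable {Ω : Type*} [Group Ω] {S : Subgroup Ω} {F : FusionSystem S} {e : ℕ}

/-- Burnside-type step: a commutator lying in `We e S` is trivial. -/
theorem burnside_step (H : Hyp S F e) {a b : Ω} (ha : a ∈ S) (hb : b ∈ S)
    (hz : a⁻¹ * b⁻¹ * a * b ∈ We e S) : a * b = b * a := by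
  have := H.fin
  set z := a⁻¹ * b⁻¹ * a * b with hzdef
  have hzZ : z ∈ ZZ S := We_le_ZZ e S hz
  obtain ⟨hzS, hzc⟩ := mem_ZZ.1 hzZ
  obtain ⟨a', ha', hconj⟩ := H.conj a ha
  obtain ⟨ψ, hψ, hψa⟩ := exists_extend_centralizer 2 H.pS H.sat ha' hconj
  set D : Subgroup Ω := S ⊓ Subgroup.centralizer {a} with hD
  have hmemD : ∀ x : Ω, x ∈ D ↔ x ∈ S ∧ x * a = a * x := by
    intro x
    rw [hD, Subgroup.mem_inf, Subgroup.mem_centralizer_singleton_iff]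
  have hZD : ZZ S ≤ D := by
    intro c hc
    obtain ⟨hcS, hcc⟩ := mem_ZZ.1 hc
    exact (hmemD c).2 ⟨hcS, (hcc a ha).symm⟩
  have haD : a ∈ D := (hmemD a).2 ⟨ha, rfl⟩
  have hzD : z ∈ D := hZD hzZ
  set z'' := ψ z with hz''
  have hz''W : z'' ∈ We e S := map_mem_We H hψ hZD hz
  have hz''Z : z'' ∈ ZZ S := We_le_ZZ e S hz''W
  -- the subgroup generated by `a` and `z`
  set P₀ : Subgroup Ω := Subgroup.closure {a, z} with hP₀
  have haP₀ : a ∈ P₀ := Subgroup.subset_closure (by simp)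
  have hzP₀ : z ∈ P₀ := Subgroup.subset_closure (by simp)
  have hP₀D : P₀ ≤ D := by
    rw [hP₀, Subgroup.closure_le]
    rintro x (rfl | rfl)
    · exact haD
    · exact hzD
  have hP₀S : P₀ ≤ S := hP₀D.trans inf_le_left
  have hbinv : b⁻¹ ∈ S := S.inv_mem hb
  have hba : b⁻¹ * a * b⁻¹⁻¹ = a * z := by rw [hzdef]; group
  have hbz : b⁻¹ * z * b⁻¹⁻¹ = z := by
    have h1 := hzc b⁻¹ hbinv
    rw [h1]; group
  have hconjP₀ : ∀ x ∈ P₀, b⁻¹ * x * b⁻¹⁻¹ ∈ P₀ := by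
    have hle : P₀ ≤ P₀.comap (MulAut.conj b⁻¹).toMonoidHom := by
      rw [hP₀, Subgroup.closure_le]
      rintro x (rfl | rfl)
      · rw [SetLike.mem_coe, Subgroup.mem_comap]
        change b⁻¹ * x * b⁻¹⁻¹ ∈ _
        rw [hba]
        exact Subgroup.mul_mem _ haP₀ hzP₀
      · rw [SetLike.mem_coe, Subgroup.mem_comap]
        change b⁻¹ * z * b⁻¹⁻¹ ∈ _
        rw [hbz]
        exact hzP₀
    intro x hx
    exact hle hx
  have hψP₀ : ∀ x ∈ P₀, ψ x ∈ ZZ S := by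
    intro x hx
    rw [hP₀] at hx
    have key : x ∈ D ∧ ψ x ∈ ZZ S := by
      induction hx using Subgroup.closure_induction with
      | mem x hx =>
        rcases hx with rfl | rfl
        · exact ⟨haD, by rw [hψa]; exact ha'⟩
        · exact ⟨hzD, hz''Z⟩
      | one => exact ⟨D.one_mem, by rw [hψ.map_one]; exact Subgroup.one_mem _⟩
      | mul x y _ _ hx hy =>
        exact ⟨D.mul_mem hx.1 hy.1, by rw [hψ.map_mul hx.1 hy.1]; exact Subgroup.mul_mem _ hx.2 hy.2⟩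
      | inv x _ hx =>
        exact ⟨D.inv_mem hx.1, by rw [hψ.map_inv hx.1]; exact Subgroup.inv_mem _ hx.2⟩
    exact key.2
  have hψ₀ : FMap F P₀ ψ := hψ.restrict hP₀D
  obtain ⟨P, ψi, hψi, hP, hinv⟩ := hψ₀.exists_inv
  have hψiP₀ : ∀ y ∈ P, ψi y ∈ P₀ := by
    intro y hy
    obtain ⟨x, hx, rfl⟩ := (hP y).1 hy
    rw [hinv x hx]; exact hx
  have hβ₁ := hψi.comp (FMap.conj F hP₀S hbinv) hψiP₀
  have hβ := hβ₁.comp hψ₀ (fun y hy => hconjP₀ _ (hψiP₀ y hy))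
  have hPZ : P ≤ S ⊓ Subgroup.centralizer (S : Set Ω) := by
    intro y hy
    obtain ⟨x, hx, rfl⟩ := (hP y).1 hy
    exact hψP₀ x hx
  have hβZ : ∀ y ∈ P, ψ (b⁻¹ * ψi y * b⁻¹⁻¹) ∈ S ⊓ Subgroup.centralizer (S : Set Ω) :=
    fun y hy => hψP₀ _ (hconjP₀ _ (hψiP₀ y hy))
  obtain ⟨α, hα, hαβ⟩ := exists_extend_top 2 H.pS H.sat hβ hPZ hβZ
  have ha'P : a' ∈ P := (hP a').2 ⟨a, haP₀, hψa⟩
  have hz''P : z'' ∈ P := (hP z'').2 ⟨z, hzP₀, rfl⟩
  have hαa' : α a' = a' * z'' := by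
    rw [hαβ a' ha'P]
    change ψ (b⁻¹ * ψi a' * b⁻¹⁻¹) = _
    rw [← hψa, hinv a haP₀, hba, hψ.map_mul haD hzD]
  have hαz'' : α z'' = z'' := by
    rw [hαβ z'' hz''P]
    change ψ (b⁻¹ * ψi z'' * b⁻¹⁻¹) = _
    rw [hz'', hinv z hzP₀, hbz]
  obtain ⟨m, hm, s, hs, hinner⟩ := hα.exists_odd_iterate_inner H.sat
  have ha'S : a' ∈ S := ha'.1
  have hz''S : z'' ∈ S := (mem_ZZ.1 hz''Z).1
  have hiter : ∀ j : ℕ, α^[j] a' = a' * z'' ^ j := by
    intro j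
    induction j with
    | zero => simp
    | succ j ih =>
      rw [Function.iterate_succ_apply', ih, hα.map_mul ha'S (S.pow_mem hz''S j),
        hα.map_pow hz''S, hαa', hαz'', pow_succ, mul_assoc]
      congr 1
      exact (pow_mul_comm' z'' j).symm
  have h1 := hinner a' ha'S
  rw [hiter m] at h1
  have h2 : s * a' * s⁻¹ = a' := by
    have := (mem_ZZ.1 ha').2 s hs
    rw [this]; group
  rw [h2] at h1
  have hzm : z'' ^ m = 1 := by
    have := mul_left_cancel (a := a') (b := z'' ^ m) (c := 1) (by rw [mul_one]; exact h1)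
    exact this
  have hz2 : z'' ^ (2 ^ e) = 1 := H.exp _ hz''S
  have hd1 : orderOf z'' ∣ m := orderOf_dvd_of_pow_eq_one hzm
  have hd2 : orderOf z'' ∣ 2 ^ e := orderOf_dvd_of_pow_eq_one hz2
  have hcop : Nat.Coprime m (2 ^ e) := by
    apply Nat.Coprime.pow_right
    exact Nat.coprime_two_right.2 hm
  have hz1 : z'' = 1 := orderOf_eq_one_iff.1 (Nat.eq_one_of_dvd_coprimes hcop hd1 hd2)
  have hz0 : z = 1 := by
    apply hψ.inj hzD D.one_mem
    rw [hψ.map_one]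
    exact hz1
  have : a * b = b * a * z := by rw [hzdef]; group
  rw [this, hz0, mul_one]

end Cfsg.Agent.Helper3.FusCH
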