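import Mathlib
import Cfsg.Agent.Helper3.FusCHE
import Cfsg.Agent.Lead.FusionFactorSys
import Cfsg.Agent.Lead.FusionFactor
import Cfsg.Agent.Lead.FusionMorph3

set_option autoImplicit false

namespace Cfsg.Agent.Helper3.FusCH

open Cfsg Cfsg.FusionSystem Cfsg.Agent.Lead Cfsg.Agent.Helper3.CamHer

universe u

theorem exists_exp' {Ω : Type*} [Group Ω] (S : Subgroup Ω) [Finite S] (hS : IsPGroup 2 S) :
    ∃ e : ℕ, ∀ g ∈ S, g ^ (2 ^ e) = 1 := by
  obtain ⟨m, hm⟩ := IsPGroup.iff_card.1 hS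
  refine ⟨m, fun g hg => ?_⟩
  have h1 : (⟨g, hg⟩ : S) ^ Nat.card S = 1 := pow_card_eq_one'
  rw [hm] at h1
  have := congrArg Subtype.val h1
  simpa using this

/-- Fusion-system version of the Camina–Herzog theorem: if every element of `S` is conjugate in a
saturated fusion system over the finite 2-group `S` to an element of `Z(S)`, then `S` is abelian. -/
theorem main : ∀ n : ℕ, ∀ (Ω : Type u) [Group Ω] (S : Subgroup Ω) [Finite S], Nat.card S = n →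
    IsPGroup 2 S → ∀ F : FusionSystem S, F.IsSaturated 2 →
    (∀ x ∈ S, ∃ z ∈ S ⊓ Subgroup.centralizer (S : Set Ω), F.IsConjElt x z) →
    ∀ a ∈ S, ∀ b ∈ S, a * b = b * a := by
  intro n
  induction n using Nat.strong_induction_on with
  | _ n ih =>
  intro Ω _ S _ hn hS F hF hyp a ha b hb
  classical
  have hex := exists_exp' S hS
  set e := Nat.find hex with he
  have hespec : ∀ g ∈ S, g ^ (2 ^ e) = 1 := Nat.find_spec hex
  rcases Nat.eq_zero_or_pos e with he0 | hepos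
  · have h1 := hespec a ha
    rw [he0] at h1
    simp at h1
    rw [h1]; simp
  have he1 : 1 ≤ e := hepos
  have H : Hyp S F e := ⟨inferInstance, hS, hF, hyp, he1, hespec⟩
  set W : Subgroup Ω := We e S with hW
  have hSC : F.StronglyClosed W := We_stronglyClosed H
  have hWZ : W ≤ ZZ S := We_le_ZZ e S
  have hWS : W ≤ S := hWZ.trans inf_le_left
  -- `W` is nontrivial
  have hmin : ¬ ∀ g ∈ S, g ^ (2 ^ (e - 1)) = 1 := Nat.find_min hex (by omega)
  push Not at hmin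
  obtain ⟨g₀, hg₀S, hg₀⟩ := hmin
  have hg₀W : g₀ ^ (2 ^ (e - 1)) ∈ W := pow_mem_We H hg₀S
  have hN : (W.subgroupOf S).Normal := by
    constructor
    intro x hx g
    rw [Subgroup.mem_subgroupOf] at hx ⊢
    have h1 := (mem_ZZ.1 (hWZ hx)).2 g.1 g.2
    have h2 : ((g * x * g⁻¹ : S) : Ω) = x.1 := by
      change g.1 * x.1 * g.1⁻¹ = x.1
      rw [h1]; group
    rw [h2]; exact hx
  set θ : S →* S ⧸ W.subgroupOf S := QuotientGroup.mk' (W.subgroupOf S) with hθ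
  have hker : ∀ s : S, θ s = 1 ↔ (s : Ω) ∈ W := by
    intro s
    rw [hθ, QuotientGroup.mk'_apply, QuotientGroup.eq_one_iff, Subgroup.mem_subgroupOf]
  have hr : θ.range = (⊤ : Subgroup (S ⧸ W.subgroupOf S)) :=
    MonoidHom.range_eq_top.mpr (QuotientGroup.mk'_surjective _)
  set E : FusionSystem (⊤ : Subgroup (S ⧸ W.subgroupOf S)) :=
    Fusion.factorSystem F θ hSC hker hr with hEdef
  have hE : F.IsFactorSystem W θ E := Fusion.factorSystem_isFactorSystem F θ hSC hker hr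
  have hsm : F.IsSurjectiveMorphism E θ :=
    Fusion.isSurjectiveMorphism_of_isFactorSystem 2 hS F hF W hSC θ E hE
  have hEsat : E.IsSaturated 2 := Fusion.isSaturated_image 2 hS F hF E θ hsm
  have hS' : IsPGroup 2 (⊤ : Subgroup (S ⧸ W.subgroupOf S)) :=
    (hS.to_quotient (W.subgroupOf S)).to_subgroup ⊤
  have hcardlt : Nat.card (⊤ : Subgroup (S ⧸ W.subgroupOf S)) < n := by
    rw [Subgroup.card_top, ← hn]
    have h1 := Subgroup.card_eq_card_quotient_mul_card_subgroup (W.subgroupOf S)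
    have h2 : 1 < Nat.card (W.subgroupOf S) := by
      rw [Subgroup.one_lt_card_iff_ne_bot]
      intro hbot
      have h3 : (⟨g₀ ^ (2 ^ (e - 1)), hWS hg₀W⟩ : S) ∈ W.subgroupOf S := by
        rw [Subgroup.mem_subgroupOf]; exact hg₀W
      rw [hbot, Subgroup.mem_bot] at h3
      exact hg₀ (congrArg Subtype.val h3)
    have h3 : 0 < Nat.card (S ⧸ W.subgroupOf S) := Nat.card_pos
    rw [h1]
    nlinarith
  have hyp' : ∀ x' ∈ (⊤ : Subgroup (S ⧸ W.subgroupOf S)),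
      ∃ z' ∈ (⊤ : Subgroup (S ⧸ W.subgroupOf S)) ⊓
        Subgroup.centralizer (((⊤ : Subgroup (S ⧸ W.subgroupOf S))) : Set (S ⧸ W.subgroupOf S)),
        E.IsConjElt x' z' := by
    intro x' _
    obtain ⟨s, rfl⟩ := QuotientGroup.mk'_surjective (W.subgroupOf S) x'
    obtain ⟨z, hz, φ, hφ, hφs⟩ := hyp s.1 s.2
    obtain ⟨φ', hφ', hP, hφS, hP', hind⟩ := hsm.1.2 _ φ hφ
    refine ⟨θ ⟨z, hz.1⟩, Subgroup.mem_inf.mpr ⟨Subgroup.mem_top _, ?_⟩, ?_⟩
    · rw [Subgroup.mem_centralizer_iff]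
      intro y' _
      obtain ⟨t, rfl⟩ := QuotientGroup.mk'_surjective (W.subgroupOf S) y'
      change θ t * θ ⟨z, hz.1⟩ = θ ⟨z, hz.1⟩ * θ t
      rw [← map_mul, ← map_mul]
      congr 1
      apply Subtype.ext
      exact (mem_ZZ.1 hz).2 t.1 t.2
    · have h1 := Fusion.isConjElt_map E hφ'
        ⟨θ ⟨s.1, hP (Subgroup.mem_zpowers s.1)⟩, hP' ⟨s.1, Subgroup.mem_zpowers s.1⟩⟩
      have h2 := hind ⟨s.1, Subgroup.mem_zpowers s.1⟩
      rw [h2] at h1
      have h3 : (⟨φ ⟨s.1, Subgroup.mem_zpowers s.1⟩, hφS _⟩ : S) = ⟨z, hz.1⟩ := Subtype.ext hφs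
      rw [h3] at h1
      exact h1
  have hab := ih _ hcardlt (S ⧸ W.subgroupOf S) ⊤ rfl hS' E hEsat hyp'
  have hcomm : a⁻¹ * b⁻¹ * a * b ∈ W := by
    have h1 := hab (θ ⟨a, ha⟩) (Subgroup.mem_top _) (θ ⟨b, hb⟩) (Subgroup.mem_top _)
    have h2 : θ (⟨a, ha⟩⁻¹ * ⟨b, hb⟩⁻¹ * ⟨a, ha⟩ * ⟨b, hb⟩) = 1 := by
      rw [map_mul, map_mul, map_mul, map_inv, map_inv]
      calc (θ ⟨a, ha⟩)⁻¹ * (θ ⟨b, hb⟩)⁻¹ * θ ⟨a, ha⟩ * θ ⟨b, hb⟩
          = (θ ⟨a, ha⟩)⁻¹ * (θ ⟨b, hb⟩)⁻¹ * (θ ⟨a, ha⟩ * θ ⟨b, hb⟩) := by group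
        _ = 1 := by rw [h1]; group
    exact (hker _).1 h2
  exact burnside_step H ha hb hcomm

end Cfsg.Agent.Helper3.FusCH
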