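import Mathlib
import Cfsg.Agent.Lead.SimpleCritE

set_option autoImplicit false

/-!
Transport of the group-theoretic simplicity criterion for fusion systems along an isomorphism of
groups, and a counting lemma for cosets.
-/

namespace Cfsg.Agent.Helper3.FusLib

open Cfsg Cfsg.Agent.Lead.SimpCrit

variable {X G : Type*} [Group X] [Group G]

/-- the criterion is carried along isomorphisms. -/
theorem crit_mapEquiv {p : ℕ} {S : Subgroup X} (h : Crit p S) (β : X ≃* G) :
    Crit p (S.map β.toMonoidHom) := by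
  obtain ⟨ha, hb⟩ := h
  have hβ : ∀ x : G, β (β.symm x) = x := fun x => β.apply_symm_apply x
  have hβ' : ∀ x : X, β.symm (β x) = x := fun x => β.symm_apply_apply x
  have hmem : ∀ (H : Subgroup X) (x : G), x ∈ H.map β.toMonoidHom ↔ β.symm x ∈ H := by
    intro H x
    constructor
    · rintro ⟨y, hy, rfl⟩
      show β.symm (β y) ∈ H
      rw [hβ']; exact hy
    · intro hx
      exact ⟨β.symm x, hx, hβ x⟩
  have hnorm : ∀ H : Subgroup X, Subgroup.normalizer ((H.map β.toMonoidHom : Subgroup G) : Set G) =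
      (Subgroup.normalizer (H : Set X)).map β.toMonoidHom := fun H =>
    (Subgroup.map_equiv_normalizer_eq H β).symm
  constructor
  · intro T' hT'S hcl
    have h1 := ha (T'.map β.symm.toMonoidHom) ?_ ?_
    · rcases h1 with h1 | h1
      · left
        rw [eq_bot_iff]
        intro x hx
        have : β.symm x ∈ T'.map β.symm.toMonoidHom := ⟨x, hx, rfl⟩
        rw [h1, Subgroup.mem_bot] at this
        rw [Subgroup.mem_bot]
        have h2 := congrArg β this
        rwa [hβ, map_one] at h2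
      · right
        apply le_antisymm hT'S
        rintro _ ⟨s, hs, rfl⟩
        rw [← h1] at hs
        obtain ⟨t, ht, rfl⟩ := hs
        show β (β.symm t) ∈ T'
        rw [hβ]; exact ht
    · rintro _ ⟨t, ht, rfl⟩
      exact (hmem S t).mp (hT'S ht)
    · rintro _ ⟨t, ht, rfl⟩ g hg
      refine ⟨β (g * β.symm t * g⁻¹), ?_, hβ' _⟩
      have e : β (g * β.symm t * g⁻¹) = β g * t * (β g)⁻¹ := by
        rw [map_mul, map_mul, map_inv, hβ]
      rw [e]
      apply hcl t ht
      rw [← e]
      exact ⟨_, hg, rfl⟩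
  · rw [hnorm]
    rintro _ ⟨m, hm, rfl⟩
    have h1 := hb hm
    have h2 : β m ∈ (Subgroup.closure {m : X | m ∈ Subgroup.normalizer (S : Set X) ∧
      ∃ R : Subgroup X, R ≤ S ∧ S ≤ Subgroup.normalizer (R : Set X) ∧
        S ⊓ Subgroup.centralizer (R : Set X) ≤ R ∧
        m ∈ Subgroup.closure {g : X | g ∈ Subgroup.normalizer (R : Set X) ∧
          ∃ k : ℕ, orderOf g = p ^ k}}).map β.toMonoidHom := ⟨m, h1, rfl⟩
    rw [MonoidHom.map_closure] at h2
    refine Subgroup.closure_mono ?_ h2
    rintro _ ⟨m₁, ⟨hm₁N, R, hRS, hSR, hC, hm₁⟩, rfl⟩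
    refine ⟨⟨m₁, hm₁N, rfl⟩, R.map β.toMonoidHom, Subgroup.map_mono hRS, ?_, ?_, ?_⟩
    · rw [hnorm]
      exact Subgroup.map_mono hSR
    · rintro x ⟨hxS, hxC⟩
      have hxS' := (hmem S x).mp hxS
      apply (hmem R x).mpr
      apply hC
      refine ⟨hxS', ?_⟩
      apply Subgroup.mem_centralizer_iff.mpr
      intro r hr
      have := Subgroup.mem_centralizer_iff.mp hxC (β r) ⟨r, hr, rfl⟩
      have h3 : β.symm (β r * x) = β.symm (x * β r) := by rw [this]
      rw [map_mul, map_mul, hβ'] at h3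
      exact h3
    · have h3 : β m₁ ∈ (Subgroup.closure {g : X | g ∈ Subgroup.normalizer (R : Set X) ∧
          ∃ k : ℕ, orderOf g = p ^ k}).map β.toMonoidHom := ⟨m₁, hm₁, rfl⟩
      rw [MonoidHom.map_closure] at h3
      refine Subgroup.closure_mono ?_ h3
      rintro _ ⟨g, ⟨hgN, k, hk⟩, rfl⟩
      refine ⟨?_, k, ?_⟩
      · rw [hnorm]
        exact ⟨g, hgN, rfl⟩
      · show orderOf (β g) = p ^ k
        rw [MulEquiv.orderOf_eq]
        exact hk

/-- if the criterion holds for a Sylow subgroup of a group, the fusion system of an isomorphic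
group on every Sylow subgroup is simple. -/
theorem isSimple_of_equiv [Finite X] [Finite G] (p : ℕ) [Fact p.Prime] (S₀ : Sylow p X)
    (hS1 : (S₀ : Subgroup X) ≠ ⊥) (h : Crit p (S₀ : Subgroup X)) (β : X ≃* G) (S : Sylow p G) :
    (groupFusionSystem (S : Subgroup G)).IsSimple p := by
  have hcard : Nat.card ↥((S₀ : Subgroup X).map β.toMonoidHom) =
      p ^ (Nat.card G).factorization p := by
    rw [Subgroup.card_map_of_injective β.injective, ← Nat.card_congr β.toEquiv]
    exact S₀.card_eq_multiplicity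
  let S₁ : Sylow p G := Sylow.ofCard ((S₀ : Subgroup X).map β.toMonoidHom) hcard
  have hS₁ : (S₁ : Subgroup G) = (S₀ : Subgroup X).map β.toMonoidHom := rfl
  apply crit_all p S₁
  · rw [hS₁]
    intro hbot
    apply hS1
    rw [eq_bot_iff]
    intro x hx
    have : β x ∈ (S₀ : Subgroup X).map β.toMonoidHom := ⟨x, hx, rfl⟩
    rw [hbot, Subgroup.mem_bot] at this
    rw [Subgroup.mem_bot]
    exact β.map_eq_one_iff.mp this
  · rw [hS₁]
    exact crit_mapEquiv h β

/-- elements of a subgroup `K` in pairwise different cosets of a subgroup `H ≤ K`. -/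
theorem card_mul_le_of_cosets [Finite X] (H K : Subgroup X) (hHK : H ≤ K) (k : ℕ) (g : ℕ → X)
    (hg : ∀ i, i < k → g i ∈ K)
    (hne : ∀ i j, i < k → j < k → i ≠ j → (g i)⁻¹ * g j ∉ H) :
    k * Nat.card ↥H ≤ Nat.card ↥K := by
  have h1 : Nat.card (Fin k × ↥H) = k * Nat.card ↥H := by
    rw [Nat.card_prod, Nat.card_fin]
  rw [← h1]
  let f : Fin k × ↥H → ↥K := fun q =>
    ⟨g q.1.val * (q.2 : X), K.mul_mem (hg q.1.val q.1.isLt) (hHK q.2.2)⟩
  apply Nat.card_le_card_of_injective f
  rintro ⟨i, a⟩ ⟨j, b⟩ hab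
  have e : g i.val * (a : X) = g j.val * (b : X) := congrArg Subtype.val hab
  have hij : i = j := by
    by_contra hne'
    have hv : i.val ≠ j.val := fun hv => hne' (Fin.ext hv)
    apply hne i.val j.val i.isLt j.isLt hv
    have : (g i.val)⁻¹ * g j.val = (a : X) * (b : X)⁻¹ := by
      rw [inv_mul_eq_iff_eq_mul, ← mul_assoc, e, mul_inv_cancel_right]
    rw [this]
    exact H.mul_mem a.2 (H.inv_mem b.2)
  subst hij
  have : (a : X) = b := mul_left_cancel e
  exact Prod.ext rfl (Subtype.ext this)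

end Cfsg.Agent.Helper3.FusLib
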