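import Mathlib
import Cfsg.Agent.Lead.S3fGp
import Cfsg.Agent.Helper9.Gross2.Defs
import Cfsg.Agent.Helper4.G2Tower

/-!
S3795 (Gross, `p = 2`): the linear theorem (L2) (`Helper9.Gross2.LinHyp2`) from the tower theorem
(T), through the tower extraction of `Helper4.G2Tower`.
-/

set_option autoImplicit false
set_option linter.style.haveILetI false

namespace Cfsg.Agent.Helper3.G2Orb

universe u

/-- **The tower theorem (T)**, as a hypothesis: `Q` an `s`-invariant `q`-group acting faithfully,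
`Q₁` an `s`-invariant `q'`-group normalizing `Q`, `q' ≠ q` both odd, `s` without fixed points on
`Q`, `Q₁` and the module, the characteristic not `2`: then `[Q₁, t]` centralizes `Q`, `t = s ^ (2 ^ (n - 1))`. -/
def TowerHyp (n : ℕ) : Prop :=
  ∀ (k : Type) [Field k] [IsAlgClosed k] (Γ : Type u) [Group Γ] [Finite Γ] (W : Type u)
    [AddCommGroup W] [Module k W] [Module.Finite k W] (ρ : Representation k Γ W) (s : Γ),
    s ^ (2 ^ n) = 1 → (∀ w : W, ρ s w = w → w = 0) →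
    ((2 : ℕ) : k) ≠ 0 →
    ∀ (q q' : ℕ), q.Prime → q'.Prime → q' ≠ q → q ≠ 2 → q' ≠ 2 → (q : k) ≠ 0 →
    ∀ (Q Q₁ : Subgroup Γ), IsPGroup q Q → IsPGroup q' Q₁ →
    (∀ v ∈ Q, s * v * s⁻¹ ∈ Q) → (∀ g ∈ Q₁, s * g * s⁻¹ ∈ Q₁) →
    (∀ g ∈ Q₁, ∀ v ∈ Q, g * v * g⁻¹ ∈ Q) → (∀ v ∈ Q, ρ v = 1 → v = 1) →
    (∀ v ∈ Q, s * v * s⁻¹ = v → v = 1) → (∀ g ∈ Q₁, s * g * s⁻¹ = g → g = 1) →
    ∀ g ∈ Q₁, ∀ v ∈ Q, (s ^ (2 ^ (n - 1)) * g * (s ^ (2 ^ (n - 1)))⁻¹ * g⁻¹) * v =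
      v * (s ^ (2 ^ (n - 1)) * g * (s ^ (2 ^ (n - 1)))⁻¹ * g⁻¹)

/-- a non-trivial `q`-subgroup of a group of odd order has `q ≠ 2`. -/
theorem prime_ne_two_of_le {Γ : Type*} [Group Γ] [Finite Γ] {q : ℕ} {Q H : Subgroup Γ}
    (hQH : Q ≤ H) (hQ : IsPGroup q Q) (hne : Q ≠ ⊥) (hodd : (Nat.card H).Coprime 2)
    (hq : q.Prime) : q ≠ 2 := by
  rintro rfl
  haveI : Fact (2 : ℕ).Prime := ⟨hq⟩
  obtain ⟨m, hm⟩ := IsPGroup.iff_card.1 hQ
  have hm0 : m ≠ 0 := by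
    rintro rfl
    rw [pow_zero] at hm
    exact hne (Subgroup.card_eq_one.1 hm)
  have h2 : 2 ∣ Nat.card Q := by rw [hm]; exact dvd_pow_self 2 hm0
  have h3 : 2 ∣ Nat.card H := dvd_trans h2 (Subgroup.card_dvd_of_le hQH)
  have h4 := Nat.Coprime.eq_one_of_dvd hodd.symm h3
  omega

/-- **(L2) from (T)**. -/
theorem linHyp2_of_tower (n : ℕ) (hT : TowerHyp.{u} n) :
    Cfsg.Agent.Helper9.Gross2.LinHyp2.{u} n := by
  intro k _ _ r hr _ Γ _ _ W _ _ _ ρ s hs hfix H hsH hsol hcop hr2 hfpf hfaith hOr hP2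
  have hF2 := hP2 H le_rfl hsH
  apply Cfsg.Agent.Helper4.G2Tower.tower_extract s (s ^ (2 ^ (n - 1))) n (2 ^ (n - 1)) hs rfl H
    hsH hsol hcop hfpf hF2
  intro q q' hq hq' hqq Q Q' hQH hQ'H hQp hQ'p hQn hsQ hsQ' g hg v hv
  by_cases hQbot : Q = ⊥
  · rw [hQbot, Subgroup.mem_bot] at hv
    rw [hv, mul_one, one_mul]
  by_cases hQ'bot : Q' = ⊥
  · rw [hQ'bot, Subgroup.mem_bot] at hg
    rw [hg]
    simp
  have hq2 : q ≠ 2 := prime_ne_two_of_le hQH hQp hQbot hcop hq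
  have hq'2 : q' ≠ 2 := prime_ne_two_of_le hQ'H hQ'p hQ'bot hcop hq'
  have hqr : q ≠ r := by
    rintro rfl
    exact hQbot (hOr Q hQH hQn (Cfsg.Agent.Lead.S3F.mem_normalizer_of_conj_mem Q s hsQ) hQp)
  have hqk : (q : k) ≠ 0 := by
    intro h0
    have h1 := (CharP.cast_eq_zero_iff k r q).1 h0
    exact hqr ((Nat.prime_dvd_prime_iff_eq hr.out hq).1 h1).symm
  have h2k : ((2 : ℕ) : k) ≠ 0 := by
    intro h0
    have h1 := (CharP.cast_eq_zero_iff k r 2).1 h0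
    exact hr2 ((Nat.prime_dvd_prime_iff_eq hr.out Nat.prime_two).1 h1)
  exact hT k Γ W ρ s hs hfix h2k q q' hq hq' hqq hq2 hq'2 hqk Q Q' hQp hQ'p hsQ hsQ'
    (fun g hg v hv => hQn g (hQ'H hg) v hv) (fun v hv => hfaith v (hQH hv))
    (fun v hv => hfpf v (hQH hv)) (fun g hg => hfpf g (hQ'H hg)) g hg v hv

end Cfsg.Agent.Helper3.G2Orb
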