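import Mathlib
import Cfsg.Agent.Lead.SGOrb
import Cfsg.Agent.Lead.SpecialCoprime
import Cfsg.Agent.Helper9.FpqBr.Rep
import Cfsg.Agent.Helper3.ShHHmin

/-!
S3795 (Gross, `p = 2`), pieces ORB, ORB' and step 3 of `notes/S3795_plan.md`.

* `orb`: `t = s ^ (2 ^ (n - 1))` centralizes every `s`-invariant abelian subgroup acting faithfully
  on a module without `s`-fixed vectors (orbit argument).
* `orb_aut`: the same for abelian groups of automorphisms of an elementary abelian group.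
* `Cfg`, `comT`: the abstract configuration "`t` centralizes every `s`-invariant abelian subgroup
  of the `q`-group `Q`" and the subgroup `Q₀ = [Q, t]`: `Q₀` is special, `Z(Q₀) = C_{Q₀}(t)`,
  `t` inverts `Q₀ / Z(Q₀)`, `Q = C_Q(t) Q₀`, and `[C_Q(t), Q₀] = 1` when `Q` has class at most 2.
-/

set_option autoImplicit false
set_option linter.style.haveILetI false

namespace Cfsg.Agent.Helper3.G2Orb

open Cfsg.Agent.Lead.S3F Cfsg.Agent.Lead.Fpq Cfsg.Agent.Lead.SG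
open Classical
open scoped commutatorElement

universe u

/-! ### ORB -/

/-- **ORB**: the involution `t` of `⟨s⟩` centralizes every `s`-invariant abelian subgroup `B` of
order prime to the characteristic acting faithfully, when `s` has no fixed vectors. -/
theorem orb {k : Type*} [Field k] [IsAlgClosed k] {Γ : Type*} [Group Γ] [Finite Γ]
    {W : Type*} [AddCommGroup W] [Module k W] (ρ : Representation k Γ W)
    (s : Γ) (n : ℕ) (hs : s ^ (2 ^ n) = 1)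
    (hfix : ∀ w : W, ρ s w = w → w = 0)
    (B : Subgroup Γ) (hsB : ∀ b ∈ B, s * b * s⁻¹ ∈ B)
    (hBc : ∀ a ∈ B, ∀ b ∈ B, a * b = b * a)
    (hBk : (Nat.card B : k) ≠ 0)
    (hfaith : ∀ b ∈ B, ρ b = 1 → b = 1) :
    ∀ b ∈ B, s ^ (2 ^ (n - 1)) * b * (s ^ (2 ^ (n - 1)))⁻¹ = b := by
  haveI : Fintype Γ := Fintype.ofFinite Γ
  have hBk' : (Fintype.card B : k) ≠ 0 := by rwa [← Nat.card_eq_fintype_card]
  haveI : HasEnoughRootsOfUnity k (Monoid.exponent B) := by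
    have hdvd : Monoid.exponent B ∣ Nat.card B := Group.exponent_dvd_nat_card
    haveI : NeZero ((Monoid.exponent B : ℕ) : k) := ⟨by
      intro h0
      obtain ⟨c, hc⟩ := hdvd
      apply hBk
      rw [hc, Nat.cast_mul, h0, zero_mul]⟩
    infer_instance
  have hsBn : s ∈ Subgroup.normalizer (B : Set Γ) := mem_normalizer_of_conj_mem B s hsB
  obtain ⟨t, ht⟩ : ∃ t, t = s ^ (2 ^ (n - 1)) := ⟨_, rfl⟩
  rw [← ht]
  have key : ∀ χ : B →* kˣ, IsWt ρ B χ → t ∈ charStab B χ := by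
    rintro χ ⟨u, hu, hu0⟩
    by_contra hnot
    apply hu0
    refine orb_cyc ρ B hBk' s hsBn hfix χ (2 ^ n) (pow_pos two_pos n) ?_ u hu
      (by rw [hs, map_one]; rfl)
    intro i hi0 hin hmem
    obtain ⟨e, he, hemem⟩ :=
      exists_pow_prime_pow_mem Nat.prime_two (charStab B χ) s n hs i hi0 hmem
    have hen : e < n := by
      have h1 : 2 ^ e < 2 ^ n := lt_of_le_of_lt he hin
      exact (Nat.pow_lt_pow_iff_right (by norm_num)).1 h1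
    apply hnot
    have h2 : t = (s ^ (2 ^ e)) ^ (2 ^ (n - 1 - e)) := by
      rw [ht, ← pow_mul, ← pow_add]
      congr 2
      omega
    rw [h2]
    exact Subgroup.pow_mem _ hemem _
  have hcomm := commute_of_forall_mem_charStab ρ B hBc hBk' hfaith key
  intro b hb
  rw [hcomm b hb, mul_inv_cancel_right]

/-! ### ORB' -/

/-- **ORB'**: the same for an abelian group of automorphisms, of order prime to `q`, of an
elementary abelian `q`-group, normalized by an automorphism `s` without fixed points. -/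
theorem orb_aut (q : ℕ) [hq : Fact q.Prime] (V : Type u) [Group V] [Finite V]
    (hcomm : ∀ a b : V, a * b = b * a) (hV : ∀ v : V, v ^ q = 1)
    (s : MulAut V) (n : ℕ) (hs : s ^ (2 ^ n) = 1)
    (hfpf : ∀ v : V, s v = v → v = 1)
    (B : Subgroup (MulAut V)) (hsB : ∀ b ∈ B, s * b * s⁻¹ ∈ B)
    (hBc : ∀ a ∈ B, ∀ b ∈ B, a * b = b * a)
    (hBq : (Nat.card B).Coprime q) :
    ∀ b ∈ B, s ^ (2 ^ (n - 1)) * b * (s ^ (2 ^ (n - 1)))⁻¹ = b := by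
  obtain ⟨W, _, _, _, ρ, hfaith, hnofix⟩ := Cfsg.Agent.Helper9.FpqBr.exists_rep q V hcomm hV
  haveI : CharP (AlgebraicClosure (ZMod q)) q := Cfsg.Agent.Helper9.FpqBr.charP_algClosure q
  have hfix : ∀ w : W, ρ s w = w → w = 0 := by
    intro w hw
    apply hnofix {s} (fun v hv => hfpf v (hv s rfl)) w
    intro x hx
    rw [Set.mem_singleton_iff] at hx
    rw [hx]; exact hw
  have hBk : (Nat.card B : AlgebraicClosure (ZMod q)) ≠ 0 := by
    intro h0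
    rw [CharP.cast_eq_zero_iff (AlgebraicClosure (ZMod q)) q] at h0
    have h1 := Nat.Coprime.eq_one_of_dvd hBq.symm h0
    exact hq.out.one_lt.ne' h1
  exact orb ρ s n hs hfix B hsB hBc hBk (fun b _ hb => hfaith b hb)

/-! ### the subgroup `[Q, t]` -/

section comT

variable {Γ : Type*} [Group Γ]

/-- `[Q, t]`, generated by the elements `t g t⁻¹ g⁻¹`, `g ∈ Q`. -/
def comT (Q : Subgroup Γ) (t : Γ) : Subgroup Γ :=
  Subgroup.closure {y | ∃ g ∈ Q, y = t * g * t⁻¹ * g⁻¹}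

theorem mem_comT {Q : Subgroup Γ} {t g : Γ} (hg : g ∈ Q) : t * g * t⁻¹ * g⁻¹ ∈ comT Q t :=
  Subgroup.subset_closure ⟨g, hg, rfl⟩

theorem comT_le {Q : Subgroup Γ} {t : Γ} (htQ : ∀ g ∈ Q, t * g * t⁻¹ ∈ Q) : comT Q t ≤ Q := by
  unfold comT
  rw [Subgroup.closure_le]
  rintro y ⟨g, hg, rfl⟩
  exact Q.mul_mem (htQ g hg) (Q.inv_mem hg)

theorem comT_mono {Q₁ Q₂ : Subgroup Γ} (h : Q₁ ≤ Q₂) (t : Γ) : comT Q₁ t ≤ comT Q₂ t := by
  apply Subgroup.closure_mono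
  rintro y ⟨g, hg, rfl⟩
  exact ⟨g, h hg, rfl⟩

/-- conjugation maps a closure into a subgroup as soon as it does so on the generators. -/
theorem conj_mem_of_closure {S : Set Γ} (u : Γ) (K : Subgroup Γ)
    (h : ∀ y ∈ S, u * y * u⁻¹ ∈ K) : ∀ x ∈ Subgroup.closure S, u * x * u⁻¹ ∈ K := by
  intro x hx
  induction hx using Subgroup.closure_induction with
  | mem y hy => exact h y hy
  | one => rw [mul_one, mul_inv_cancel]; exact K.one_mem
  | mul a b _ _ ha hb =>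
    have e : u * (a * b) * u⁻¹ = (u * a * u⁻¹) * (u * b * u⁻¹) := by group
    rw [e]; exact K.mul_mem ha hb
  | inv a _ ha =>
    have e : u * a⁻¹ * u⁻¹ = (u * a * u⁻¹)⁻¹ := by group
    rw [e]; exact K.inv_mem ha

/-- `[Q, t]` is normalized by `Q`. -/
theorem conj_mem_comT {Q : Subgroup Γ} {t : Γ} :
    ∀ g ∈ Q, ∀ x ∈ comT Q t, g * x * g⁻¹ ∈ comT Q t := by
  intro g hg
  apply conj_mem_of_closure
  rintro y ⟨h, hh, rfl⟩
  have e : g * (t * h * t⁻¹ * h⁻¹) * g⁻¹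
      = (t * g * t⁻¹ * g⁻¹)⁻¹ * (t * (g * h) * t⁻¹ * (g * h)⁻¹) := by group
  rw [e]
  exact (comT Q t).mul_mem ((comT Q t).inv_mem (mem_comT hg)) (mem_comT (Q.mul_mem hg hh))

/-- `[Q, t]` is normalized by the elements normalizing `Q` and commuting with `t`. -/
theorem conj_mem_comT_of_comm {Q : Subgroup Γ} {t u : Γ} (huQ : ∀ g ∈ Q, u * g * u⁻¹ ∈ Q)
    (hut : u * t = t * u) : ∀ x ∈ comT Q t, u * x * u⁻¹ ∈ comT Q t := by
  apply conj_mem_of_closure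
  rintro y ⟨h, hh, rfl⟩
  have h1 : u⁻¹ * t⁻¹ = t⁻¹ * u⁻¹ := by rw [← mul_inv_rev, ← mul_inv_rev, hut]
  have e : u * (t * h * t⁻¹ * h⁻¹) * u⁻¹ = t * (u * h * u⁻¹) * t⁻¹ * (u * h * u⁻¹)⁻¹ := by
    symm
    calc t * (u * h * u⁻¹) * t⁻¹ * (u * h * u⁻¹)⁻¹
        = (t * u) * h * (u⁻¹ * t⁻¹) * (u * h * u⁻¹)⁻¹ := by group
      _ = (u * t) * h * (t⁻¹ * u⁻¹) * (u * h * u⁻¹)⁻¹ := by rw [hut, h1]
      _ = _ := by group
  rw [e]
  exact mem_comT (huQ h hh)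

/-- conjugation by an element mapping the subgroup `X` of a finite group into itself, as an
automorphism of `X`. -/
noncomputable def conjAutSub [Finite Γ] (X : Subgroup Γ) (g : Γ)
    (hg : ∀ x ∈ X, g * x * g⁻¹ ∈ X) : MulAut ↥X :=
  MulEquiv.ofBijective
    ({ toFun := fun x => ⟨g * x * g⁻¹, hg x x.2⟩
       map_one' := by apply Subtype.ext; simp
       map_mul' := fun a b => by apply Subtype.ext; simp [mul_assoc] } : ↥X →* ↥X)
    (Finite.injective_iff_bijective.1 (by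
      intro a b hab
      have h1 : g * (a : Γ) * g⁻¹ = g * (b : Γ) * g⁻¹ := congrArg Subtype.val hab
      apply Subtype.ext
      calc (a : Γ) = g⁻¹ * (g * (a : Γ) * g⁻¹) * g := by group
        _ = g⁻¹ * (g * (b : Γ) * g⁻¹) * g := by rw [h1]
        _ = (b : Γ) := by group))

theorem conjAutSub_apply [Finite Γ] (X : Subgroup Γ) (g : Γ)
    (hg : ∀ x ∈ X, g * x * g⁻¹ ∈ X) (x : ↥X) :
    ((conjAutSub X g hg x : ↥X) : Γ) = g * (x : Γ) * g⁻¹ := rfl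

/-- **The configuration**: `t` is an involution commuting with `s`, both normalize the `q`-group
`Q`, `q` odd, and `t` centralizes every `s`-invariant abelian subgroup of `Q`. -/
structure Cfg (q : ℕ) (s t : Γ) (Q : Subgroup Γ) : Prop where
  hq : q.Prime
  hq2 : q ≠ 2
  hst : s * t = t * s
  ht : t * t = 1
  hQ : IsPGroup q Q
  hsQ : ∀ g ∈ Q, s * g * s⁻¹ ∈ Q
  htQ : ∀ g ∈ Q, t * g * t⁻¹ ∈ Q
  horb : ∀ B : Subgroup Γ, B ≤ Q → (∀ b ∈ B, s * b * s⁻¹ ∈ B) →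
    (∀ a ∈ B, ∀ b ∈ B, a * b = b * a) → ∀ b ∈ B, t * b * t⁻¹ = b

namespace Cfg

variable {q : ℕ} {s t : Γ} {Q : Subgroup Γ}

theorem t_inv (c : Cfg q s t Q) : t⁻¹ = t := inv_eq_of_mul_eq_one_left c.ht

/-- an element of `Q` of square one is trivial. -/
theorem eq_one_of_sq (c : Cfg q s t Q) {d : Γ} (hd : d ∈ Q) (h2 : d * d = 1) : d = 1 := by
  obtain ⟨k, hk⟩ := c.hQ ⟨d, hd⟩
  have hk' : d ^ (q ^ k) = 1 := by
    have := congrArg Subtype.val hk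
    simpa using this
  have h1 : orderOf d ∣ q ^ k := orderOf_dvd_of_pow_eq_one hk'
  have h2' : orderOf d ∣ 2 := orderOf_dvd_of_pow_eq_one (by rw [pow_two]; exact h2)
  have hcop : Nat.Coprime (q ^ k) 2 :=
    Nat.Coprime.pow_left k ((Nat.coprime_primes c.hq Nat.prime_two).2 c.hq2)
  have h3 : orderOf d ∣ 1 := by
    have := Nat.dvd_gcd h1 h2'
    rwa [hcop] at this
  exact orderOf_eq_one_iff.1 (Nat.dvd_one.1 h3)

/-- subgroups of `Q` have odd order. -/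
theorem not_two_dvd [Finite Γ] (c : Cfg q s t Q) {K : Subgroup Γ} (hK : K ≤ Q) :
    ¬ 2 ∣ Nat.card K := by
  intro h2
  haveI : Fact q.Prime := ⟨c.hq⟩
  obtain ⟨m, hm⟩ := IsPGroup.iff_card.1 (c.hQ.to_le hK)
  rw [hm] at h2
  have := (Nat.prime_dvd_prime_iff_eq Nat.prime_two c.hq).1 (Nat.prime_two.dvd_of_dvd_pow h2)
  exact c.hq2 this.symm

theorem comT_le (c : Cfg q s t Q) : comT Q t ≤ Q := G2Orb.comT_le c.htQ

theorem t_conj_mem (c : Cfg q s t Q) : ∀ x ∈ comT Q t, t * x * t⁻¹ ∈ comT Q t :=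
  conj_mem_comT_of_comm c.htQ rfl

theorem s_conj_mem (c : Cfg q s t Q) : ∀ x ∈ comT Q t, s * x * s⁻¹ ∈ comT Q t :=
  conj_mem_comT_of_comm c.hsQ c.hst

/-- `Q = C_Q(t) [Q, t]`. -/
theorem exists_fix_mul [Finite Γ] (c : Cfg q s t Q) {g : Γ} (hg : g ∈ Q) :
    ∃ c₀ ∈ Q, t * c₀ * t⁻¹ = c₀ ∧ c₀⁻¹ * g ∈ comT Q t := by
  haveI : Fact (2 : ℕ).Prime := ⟨Nat.prime_two⟩
  have ht2 : t ^ 2 = 1 := by rw [pow_two]; exact c.ht
  obtain ⟨z, hz, hfix⟩ := Cfsg.Agent.Helper3.Shult.exists_fixed_in_coset (p := 2) t ht2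
    (comT Q t) c.t_conj_mem (c.not_two_dvd c.comT_le) g (mem_comT hg)
  refine ⟨z * g, Q.mul_mem (c.comT_le hz) hg, hfix, ?_⟩
  have e : (z * g)⁻¹ * g = g⁻¹ * z⁻¹ * g⁻¹⁻¹ := by group
  rw [e]
  exact conj_mem_comT g⁻¹ (Q.inv_mem hg) z⁻¹ ((comT Q t).inv_mem hz)

/-- `[Q, t, t] = [Q, t]`. -/
theorem comT_comT [Finite Γ] (c : Cfg q s t Q) : comT (comT Q t) t = comT Q t := by
  apply le_antisymm (G2Orb.comT_le c.t_conj_mem)
  have hle : Subgroup.closure {y | ∃ g ∈ Q, y = t * g * t⁻¹ * g⁻¹} ≤ comT (comT Q t) t := by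
    rw [Subgroup.closure_le]
    rintro y ⟨g, hg, rfl⟩
    obtain ⟨c₀, hc₀, hfix, hmem⟩ := c.exists_fix_mul hg
    have hc₀t : c₀ * t = t * c₀ := by
      calc c₀ * t = (t * c₀ * t⁻¹) * t := by rw [hfix]
        _ = t * c₀ := by group
    have e : t * g * t⁻¹ * g⁻¹
        = c₀ * (t * (c₀⁻¹ * g) * t⁻¹ * (c₀⁻¹ * g)⁻¹) * c₀⁻¹ := by
      symm
      calc c₀ * (t * (c₀⁻¹ * g) * t⁻¹ * (c₀⁻¹ * g)⁻¹) * c₀⁻¹
          = (c₀ * t) * c₀⁻¹ * g * t⁻¹ * g⁻¹ := by group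
        _ = (t * c₀) * c₀⁻¹ * g * t⁻¹ * g⁻¹ := by rw [hc₀t]
        _ = _ := by group
    rw [SetLike.mem_coe, e]
    exact conj_mem_comT_of_comm (conj_mem_comT c₀ hc₀) hc₀t _ (mem_comT hmem)
  exact hle

set_option maxHeartbeats 800000 in
/-- the structure of `Q₀ = [Q, t]` (S0119): it is special, its centre is the centralizer of `t`,
commutators and `q`-th powers are central. -/
theorem master [Finite Γ] (c : Cfg q s t Q) :
    Cfsg.IsSpecial q ↥(comT Q t) ∧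
    (∀ x ∈ comT Q t, (t * x * t⁻¹ = x ↔ ∀ g ∈ comT Q t, x * g = g * x)) ∧
    (∀ a ∈ comT Q t, ∀ b ∈ comT Q t, ∀ g ∈ comT Q t,
      (a * b * a⁻¹ * b⁻¹) * g = g * (a * b * a⁻¹ * b⁻¹)) ∧
    (∀ x ∈ comT Q t, ∀ g ∈ comT Q t, x ^ q * g = g * x ^ q) := by
  haveI : Fact q.Prime := ⟨c.hq⟩
  obtain ⟨Q₀, hQ₀⟩ : ∃ Q₀ : Subgroup Γ, Q₀ = comT Q t := ⟨_, rfl⟩
  rw [← hQ₀]
  have hQ₀Q : Q₀ ≤ Q := by rw [hQ₀]; exact c.comT_le
  have htQ₀ : ∀ x ∈ Q₀, t * x * t⁻¹ ∈ Q₀ := by rw [hQ₀]; exact c.t_conj_mem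
  have hsQ₀ : ∀ x ∈ Q₀, s * x * s⁻¹ ∈ Q₀ := by rw [hQ₀]; exact c.s_conj_mem
  have hQ₀p : IsPGroup q ↥Q₀ := c.hQ.to_le hQ₀Q
  have hcc : comT Q₀ t = Q₀ := by rw [hQ₀]; exact c.comT_comT
  obtain ⟨τ, hτ⟩ : ∃ τ : MulAut ↥Q₀, τ = conjAutSub Q₀ t htQ₀ := ⟨_, rfl⟩
  obtain ⟨σ₀, hσ₀⟩ : ∃ σ₀ : MulAut ↥Q₀, σ₀ = conjAutSub Q₀ s hsQ₀ := ⟨_, rfl⟩
  have hτapp : ∀ x : ↥Q₀, ((τ x : ↥Q₀) : Γ) = t * (x : Γ) * t⁻¹ := by
    intro x; rw [hτ]; rfl
  have hσapp : ∀ x : ↥Q₀, ((σ₀ x : ↥Q₀) : Γ) = s * (x : Γ) * s⁻¹ := by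
    intro x; rw [hσ₀]; rfl
  have hτ2 : τ ^ 2 = 1 := by
    ext x
    rw [pow_two, MulAut.mul_apply, MulAut.one_apply, hτapp, hτapp]
    calc t * (t * (x : Γ) * t⁻¹) * t⁻¹ = (t * t) * (x : Γ) * (t * t)⁻¹ := by group
      _ = (x : Γ) := by rw [c.ht]; group
  obtain ⟨A, hA⟩ : ∃ A : Subgroup (MulAut ↥Q₀), A = Subgroup.zpowers τ := ⟨_, rfl⟩
  have hτA : τ ∈ A := by rw [hA]; exact Subgroup.mem_zpowers τ
  have hAfix : ∀ x : ↥Q₀, τ x = x → ∀ a ∈ A, a x = x := by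
    intro x hx a ha
    have hle : A ≤ MulAction.stabilizer (MulAut ↥Q₀) x := by
      rw [hA, Subgroup.zpowers_le, MulAction.mem_stabilizer_iff]
      exact hx
    have := hle ha
    rw [MulAction.mem_stabilizer_iff] at this
    exact this
  have hAcard : (Nat.card A).Coprime q := by
    have h1 : orderOf τ ∣ 2 := orderOf_dvd_of_pow_eq_one hτ2
    rw [hA, Nat.card_zpowers]
    exact Nat.Coprime.coprime_dvd_left h1
      ((Nat.coprime_primes Nat.prime_two c.hq).2 (Ne.symm c.hq2))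
  have hGA : Subgroup.closure {x : ↥Q₀ | ∃ g : ↥Q₀, ∃ a ∈ A, x = g⁻¹ * a g} = ⊤ := by
    rw [eq_top_iff]
    intro x _
    have hx : (x : Γ) ∈ comT Q₀ t := by
      rw [hcc]; exact x.2
    have hle : Subgroup.closure {y | ∃ g ∈ Q₀, y = t * g * t⁻¹ * g⁻¹} ≤
        (Subgroup.closure {x : ↥Q₀ | ∃ g : ↥Q₀, ∃ a ∈ A, x = g⁻¹ * a g}).map Q₀.subtype := by
      rw [Subgroup.closure_le]
      rintro y ⟨g, hg, rfl⟩
      obtain ⟨g', hg'⟩ : ∃ g' : ↥Q₀, g' = (⟨g, hg⟩ : ↥Q₀)⁻¹ := ⟨_, rfl⟩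
      refine ⟨(g'⁻¹ * τ g')⁻¹, Subgroup.inv_mem _ (Subgroup.subset_closure ⟨g', τ, hτA, rfl⟩), ?_⟩
      rw [Subgroup.coe_subtype, Subgroup.coe_inv, Subgroup.coe_mul, hτapp, Subgroup.coe_inv, hg',
        Subgroup.coe_inv]
      group
    obtain ⟨y, hy, hyx⟩ := hle hx
    have : y = x := Subtype.ext hyx
    rw [← this]; exact hy
  have hchar : ∀ H : Subgroup ↥Q₀, H.Characteristic → IsMulCommutative H →
      ∀ a ∈ A, ∀ h ∈ H, a h = h := by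
    intro H hHc hHab a ha h hh
    apply hAfix h ?_ a ha
    obtain ⟨B, hB⟩ : ∃ B : Subgroup Γ, B = H.map Q₀.subtype := ⟨_, rfl⟩
    have hBQ : B ≤ Q := by
      rw [hB]
      rintro _ ⟨y, _, rfl⟩
      exact hQ₀Q y.2
    have hBs : ∀ b ∈ B, s * b * s⁻¹ ∈ B := by
      rw [hB]
      rintro _ ⟨y, hy, rfl⟩
      refine ⟨σ₀ y, ?_, ?_⟩
      · have h1 := Subgroup.characteristic_iff_map_le.1 hHc σ₀
        exact h1 ⟨y, hy, rfl⟩
      · rw [Subgroup.coe_subtype, hσapp]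
    have hBc : ∀ a ∈ B, ∀ b ∈ B, a * b = b * a := by
      rw [hB]
      rintro _ ⟨x, hx, rfl⟩ _ ⟨y, hy, rfl⟩
      have h1 : (⟨x, hx⟩ : H) * ⟨y, hy⟩ = ⟨y, hy⟩ * ⟨x, hx⟩ := hHab.is_comm.comm _ _
      have h2 : x * y = y * x := congrArg Subtype.val h1
      rw [← map_mul, ← map_mul, h2]
    have h3 := c.horb B hBQ hBs hBc (h : Γ) (by rw [hB]; exact ⟨h, hh, rfl⟩)
    apply Subtype.ext
    rw [hτapp]; exact h3
  obtain ⟨hsp, hcen⟩ :=
    Cfsg.Agent.Lead.special_of_coprime_char_abelian hQ₀p A hAcard hGA hchar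
  have hcen' : ∀ x (hx : x ∈ Q₀), (t * x * t⁻¹ = x ↔ ∀ g ∈ Q₀, x * g = g * x) := by
    intro x hx
    constructor
    · intro hfix g hg
      have h1 : (⟨x, hx⟩ : ↥Q₀) ∈ Subgroup.center ↥Q₀ := by
        rw [hcen]
        apply hAfix
        apply Subtype.ext
        rw [hτapp]; exact hfix
      have h2 := Subgroup.mem_center_iff.1 h1 ⟨g, hg⟩
      exact (congrArg Subtype.val h2).symm
    · intro hcomm
      have h1 : (⟨x, hx⟩ : ↥Q₀) ∈ Subgroup.center ↥Q₀ := by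
        rw [Subgroup.mem_center_iff]
        intro g
        apply Subtype.ext
        exact (hcomm g g.2).symm
      have h2 := (hcen _).1 h1 τ hτA
      have h3 := congrArg Subtype.val h2
      rw [hτapp] at h3
      exact h3
  have hcenmem : ∀ z : ↥Q₀, z ∈ Subgroup.center ↥Q₀ → ∀ g ∈ Q₀, (z : Γ) * g = g * (z : Γ) := by
    intro z hz g hg
    have h2 := Subgroup.mem_center_iff.1 hz ⟨g, hg⟩
    exact (congrArg Subtype.val h2).symm
  refine ⟨hsp, fun x hx => hcen' x hx, ?_, ?_⟩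
  · intro a ha b hb g hg
    have h1 : ⁅(⟨a, ha⟩ : ↥Q₀), ⟨b, hb⟩⁆ ∈ Subgroup.center ↥Q₀ := by
      rw [← hsp.2.2, commutator_def]
      exact Subgroup.commutator_mem_commutator (Subgroup.mem_top _) (Subgroup.mem_top _)
    exact hcenmem _ h1 g hg
  · intro x hx g hg
    have h1 : (⟨x, hx⟩ : ↥Q₀) ^ q ∈ Subgroup.center ↥Q₀ := by
      rw [← hsp.2.1]
      exact Cfsg.Agent.Helper1.IsPGroup.pow_mem_frattini hQ₀p _
    exact hcenmem _ h1 g hg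

/-- `Q₀ = [Q, t]` is special. -/
theorem isSpecial [Finite Γ] (c : Cfg q s t Q) : Cfsg.IsSpecial q ↥(comT Q t) := c.master.1

/-- `C_{Q₀}(t) = Z(Q₀)`. -/
theorem fix_iff_central [Finite Γ] (c : Cfg q s t Q) {x : Γ} (hx : x ∈ comT Q t) :
    t * x * t⁻¹ = x ↔ ∀ g ∈ comT Q t, x * g = g * x := c.master.2.1 x hx

/-- commutators of `Q₀` are central in `Q₀`. -/
theorem comm_central [Finite Γ] (c : Cfg q s t Q) {a b g : Γ} (ha : a ∈ comT Q t)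
    (hb : b ∈ comT Q t) (hg : g ∈ comT Q t) :
    (a * b * a⁻¹ * b⁻¹) * g = g * (a * b * a⁻¹ * b⁻¹) := c.master.2.2.1 a ha b hb g hg

/-- commutators of `Q₀` are fixed by `t`. -/
theorem comm_fixed [Finite Γ] (c : Cfg q s t Q) {a b : Γ} (ha : a ∈ comT Q t)
    (hb : b ∈ comT Q t) : t * (a * b * a⁻¹ * b⁻¹) * t⁻¹ = a * b * a⁻¹ * b⁻¹ := by
  have hmem : a * b * a⁻¹ * b⁻¹ ∈ comT Q t :=
    (comT Q t).mul_mem ((comT Q t).mul_mem ((comT Q t).mul_mem ha hb) ((comT Q t).inv_mem ha))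
      ((comT Q t).inv_mem hb)
  exact (c.fix_iff_central hmem).2 (fun g hg => c.comm_central ha hb hg)

/-- `q`-th powers of elements of `Q₀` are central in `Q₀`. -/
theorem pow_central [Finite Γ] (c : Cfg q s t Q) {x g : Γ} (hx : x ∈ comT Q t)
    (hg : g ∈ comT Q t) : x ^ q * g = g * x ^ q := c.master.2.2.2 x hx g hg

/-- `t` inverts `Q₀ / Z(Q₀)`: the element `t g t⁻¹ g` is fixed by `t`. -/
theorem inv_fixed [Finite Γ] (c : Cfg q s t Q) {g : Γ} (hg : g ∈ comT Q t) :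
    t * (t * g * t⁻¹ * g) * t⁻¹ = t * g * t⁻¹ * g := by
  obtain ⟨a, ha⟩ : ∃ a, a = t * g * t⁻¹ := ⟨_, rfl⟩
  have haQ : a ∈ comT Q t := by rw [ha]; exact c.t_conj_mem g hg
  have hta : t * a * t⁻¹ = g := by
    rw [ha]
    calc t * (t * g * t⁻¹) * t⁻¹ = (t * t) * g * (t * t)⁻¹ := by group
      _ = g := by rw [c.ht]; group
  rw [← ha]
  obtain ⟨d, hd⟩ : ∃ d, d = g⁻¹ * a⁻¹ * g⁻¹⁻¹ * a⁻¹⁻¹ := ⟨_, rfl⟩
  have hgi : g⁻¹ ∈ comT Q t := (comT Q t).inv_mem hg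
  have hai : a⁻¹ ∈ comT Q t := (comT Q t).inv_mem haQ
  have hdfix : t * d * t⁻¹ = d := by rw [hd]; exact c.comm_fixed hgi hai
  have hdQ : d ∈ Q := by
    rw [hd]
    exact c.comT_le ((comT Q t).mul_mem ((comT Q t).mul_mem ((comT Q t).mul_mem hgi hai)
      ((comT Q t).inv_mem hgi)) ((comT Q t).inv_mem hai))
  -- `t (a g) t⁻¹ = g a = (a g) d`
  have h1 : t * (a * g) * t⁻¹ = a * g * d := by
    calc t * (a * g) * t⁻¹ = (t * a * t⁻¹) * (t * g * t⁻¹) := by group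
      _ = g * a := by rw [hta, ← ha]
      _ = a * g * d := by rw [hd]; group
  have h2 : t * (a * g * d) * t⁻¹ = a * g := by
    rw [← h1]
    calc t * (t * (a * g) * t⁻¹) * t⁻¹ = (t * t) * (a * g) * (t * t)⁻¹ := by group
      _ = a * g := by rw [c.ht]; group
  have h3 : t * (a * g * d) * t⁻¹ = a * g * d * d := by
    calc t * (a * g * d) * t⁻¹ = (t * (a * g) * t⁻¹) * (t * d * t⁻¹) := by group
      _ = a * g * d * d := by rw [h1, hdfix]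
  have h4 : d * d = 1 := by
    have h5 : a * g * (d * d) = a * g * 1 := by
      rw [mul_one]
      calc a * g * (d * d) = a * g * d * d := by group
        _ = a * g := by rw [← h3, h2]
    exact mul_left_cancel h5
  have h6 : d = 1 := c.eq_one_of_sq hdQ h4
  rw [h1, h6, mul_one]

/-- `t g t⁻¹ g` is central in `Q₀`. -/
theorem inv_central [Finite Γ] (c : Cfg q s t Q) {g h : Γ} (hg : g ∈ comT Q t)
    (hh : h ∈ comT Q t) : (t * g * t⁻¹ * g) * h = h * (t * g * t⁻¹ * g) :=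
  (c.fix_iff_central ((comT Q t).mul_mem (c.t_conj_mem g hg) hg)).1 (c.inv_fixed hg) h hh

/-- `[C_Q(t), Q₀] = 1` when `Q` has class at most two. -/
theorem fix_comm [Finite Γ] (c : Cfg q s t Q)
    (hcl : ∀ a ∈ Q, ∀ b ∈ Q, ∀ g ∈ Q, (a * b * a⁻¹ * b⁻¹) * g = g * (a * b * a⁻¹ * b⁻¹))
    {c₀ : Γ} (hc₀ : c₀ ∈ Q) (hfix : t * c₀ * t⁻¹ = c₀) :
    ∀ g ∈ comT Q t, c₀ * g = g * c₀ := by
  -- the centre of `Q` is centralized by `t`
  obtain ⟨Z, hZ⟩ : ∃ Z : Subgroup Γ, Z = Q ⊓ Subgroup.centralizer (Q : Set Γ) := ⟨_, rfl⟩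
  have hZmem : ∀ z, z ∈ Z ↔ z ∈ Q ∧ ∀ g ∈ Q, g * z = z * g := by
    intro z
    rw [hZ, Subgroup.mem_inf, Subgroup.mem_centralizer_iff]
    rfl
  have hsQn : s ∈ Subgroup.normalizer (Q : Set Γ) := mem_normalizer_of_conj_mem Q s c.hsQ
  have hZs : ∀ z ∈ Z, s * z * s⁻¹ ∈ Z := by
    intro z hz
    rw [hZmem] at hz ⊢
    refine ⟨c.hsQ z hz.1, ?_⟩
    intro g hg
    have hg' : s⁻¹ * g * s ∈ Q := conj_mem_of_mem_normalizer hsQn ⟨g, hg⟩
    have h1 := hz.2 _ hg'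
    calc g * (s * z * s⁻¹) = s * ((s⁻¹ * g * s) * z) * s⁻¹ := by group
      _ = s * (z * (s⁻¹ * g * s)) * s⁻¹ := by rw [h1]
      _ = s * z * s⁻¹ * g := by group
  have hZc : ∀ a ∈ Z, ∀ b ∈ Z, a * b = b * a := by
    intro a ha b hb
    exact ((hZmem b).1 hb).2 a ((hZmem a).1 ha).1
  have hZt : ∀ z ∈ Z, t * z * t⁻¹ = z :=
    c.horb Z (by rw [hZ]; exact inf_le_left) hZs hZc
  have hcomZ : ∀ a ∈ Q, ∀ b ∈ Q, a * b * a⁻¹ * b⁻¹ ∈ Z := by
    intro a ha b hb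
    rw [hZmem]
    refine ⟨Q.mul_mem (Q.mul_mem (Q.mul_mem ha hb) (Q.inv_mem ha)) (Q.inv_mem hb), ?_⟩
    intro g hg
    exact (hcl a ha b hb g hg).symm
  have hgen : ∀ y ∈ {y | ∃ g ∈ Q, y = t * g * t⁻¹ * g⁻¹}, c₀ * y = y * c₀ := by
    rintro y ⟨g, hg, rfl⟩
    obtain ⟨y, hy⟩ : ∃ y, y = t * g * t⁻¹ * g⁻¹ := ⟨_, rfl⟩
    rw [← hy]
    have hyQ : y ∈ Q := by rw [hy]; exact Q.mul_mem (c.htQ g hg) (Q.inv_mem hg)
    have hty : t * y * t⁻¹ = y⁻¹ := by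
      rw [hy]
      calc t * (t * g * t⁻¹ * g⁻¹) * t⁻¹ = (t * t) * g * (t * t)⁻¹ * (t * g * t⁻¹)⁻¹ := by
            have e : (t * t)⁻¹ = t⁻¹ * t⁻¹ := by group
            rw [e]; group
        _ = (t * g * t⁻¹ * g⁻¹)⁻¹ := by rw [c.ht]; group
    obtain ⟨d, hd⟩ : ∃ d, d = c₀ * y * c₀⁻¹ * y⁻¹ := ⟨_, rfl⟩
    have hdZ : d ∈ Z := by rw [hd]; exact hcomZ c₀ hc₀ y hyQ
    have hdc : ∀ g ∈ Q, d * g = g * d := by
      intro g hg
      exact (((hZmem d).1 hdZ).2 g hg).symm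
    have hdt : t * d * t⁻¹ = d := hZt d hdZ
    -- `t d t⁻¹ = [c₀, y⁻¹] = d⁻¹`
    have h1 : t * d * t⁻¹ = c₀ * y⁻¹ * c₀⁻¹ * y⁻¹⁻¹ := by
      rw [hd]
      calc t * (c₀ * y * c₀⁻¹ * y⁻¹) * t⁻¹
          = (t * c₀ * t⁻¹) * (t * y * t⁻¹) * (t * c₀ * t⁻¹)⁻¹ * (t * y * t⁻¹)⁻¹ := by group
        _ = _ := by rw [hfix, hty]
    have h2 : c₀ * y⁻¹ * c₀⁻¹ * y⁻¹⁻¹ = d⁻¹ := by
      have e1 : c₀ * y * c₀⁻¹ = d * y := by rw [hd]; group
      have e2 : c₀ * y⁻¹ * c₀⁻¹ = y⁻¹ * d⁻¹ := by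
        calc c₀ * y⁻¹ * c₀⁻¹ = (c₀ * y * c₀⁻¹)⁻¹ := by group
          _ = y⁻¹ * d⁻¹ := by rw [e1]; group
      rw [e2, inv_inv]
      have e3 : d⁻¹ * y = y * d⁻¹ := by
        have := hdc y hyQ
        calc d⁻¹ * y = d⁻¹ * (y * d) * d⁻¹ := by group
          _ = d⁻¹ * (d * y) * d⁻¹ := by rw [this]
          _ = y * d⁻¹ := by group
      calc y⁻¹ * d⁻¹ * y = y⁻¹ * (d⁻¹ * y) := by group
        _ = y⁻¹ * (y * d⁻¹) := by rw [e3]
        _ = d⁻¹ := by group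
    have h3 : d * d = 1 := by
      have : d = d⁻¹ := by rw [← h2, ← h1, hdt]
      calc d * d = d * d⁻¹ := by rw [← this]
        _ = 1 := mul_inv_cancel d
    have h4 : d = 1 := c.eq_one_of_sq ((hZmem d).1 hdZ).1 h3
    calc c₀ * y = (c₀ * y * c₀⁻¹ * y⁻¹) * y * c₀ := by group
      _ = y * c₀ := by rw [← hd, h4, one_mul]
  intro g hg
  have hle : comT Q t ≤ Subgroup.centralizer {c₀} := by
    unfold comT
    rw [Subgroup.closure_le]
    intro y hy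
    rw [SetLike.mem_coe, Subgroup.mem_centralizer_singleton_iff]
    exact (hgen y hy).symm
  have := hle hg
  rw [Subgroup.mem_centralizer_singleton_iff] at this
  exact this.symm

end Cfg

end comT

/-! ### the two instances of the configuration -/

/-- **The linear instance**: a `q`-group acting faithfully on a module on which `s` has no fixed
vectors. -/
theorem cfg_of_linear {k : Type*} [Field k] [IsAlgClosed k] {Γ : Type*} [Group Γ] [Finite Γ]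
    {W : Type*} [AddCommGroup W] [Module k W] (ρ : Representation k Γ W)
    {q : ℕ} (hq : q.Prime) (hq2 : q ≠ 2) (hqk : (q : k) ≠ 0)
    (s : Γ) (n : ℕ) (hn : 1 ≤ n) (hs : s ^ (2 ^ n) = 1)
    (hfix : ∀ w : W, ρ s w = w → w = 0)
    (Q : Subgroup Γ) (hQ : IsPGroup q Q) (hsQ : ∀ g ∈ Q, s * g * s⁻¹ ∈ Q)
    (hfaith : ∀ g ∈ Q, ρ g = 1 → g = 1) :
    Cfg q s (s ^ (2 ^ (n - 1))) Q where
  hq := hq
  hq2 := hq2
  hst := by rw [← pow_succ', ← pow_succ]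
  ht := by rw [← pow_add, ← two_mul, ← pow_succ', Nat.sub_add_cancel hn, hs]
  hQ := hQ
  hsQ := hsQ
  htQ := Cfsg.Agent.Helper3.Shult.conj_pow_mem Q s hsQ _
  horb := by
    intro B hBQ hsB hBc
    haveI : Fact q.Prime := ⟨hq⟩
    have hBk : (Nat.card B : k) ≠ 0 := by
      obtain ⟨m, hm⟩ := IsPGroup.iff_card.1 (hQ.to_le hBQ)
      rw [hm, Nat.cast_pow]
      exact pow_ne_zero _ hqk
    exact orb ρ s n hs hfix B hsB hBc hBk (fun b hb => hfaith b (hBQ hb))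

/-- **The automorphism instance**: a `q'`-group of automorphisms of an elementary abelian
`q`-group, `q' ≠ q`, normalized by an automorphism `s` without fixed points. -/
theorem cfg_of_aut (q q' : ℕ) [hq : Fact q.Prime] (hq' : q'.Prime) (hq'2 : q' ≠ 2)
    (hqq : q' ≠ q) (V : Type u) [Group V] [Finite V]
    (hcomm : ∀ a b : V, a * b = b * a) (hV : ∀ v : V, v ^ q = 1)
    (s : MulAut V) (n : ℕ) (hn : 1 ≤ n) (hs : s ^ (2 ^ n) = 1)
    (hfpf : ∀ v : V, s v = v → v = 1)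
    (Q : Subgroup (MulAut V)) (hQ : IsPGroup q' Q) (hsQ : ∀ g ∈ Q, s * g * s⁻¹ ∈ Q) :
    Cfg q' s (s ^ (2 ^ (n - 1))) Q where
  hq := hq'
  hq2 := hq'2
  hst := by rw [← pow_succ', ← pow_succ]
  ht := by rw [← pow_add, ← two_mul, ← pow_succ', Nat.sub_add_cancel hn, hs]
  hQ := hQ
  hsQ := hsQ
  htQ := Cfsg.Agent.Helper3.Shult.conj_pow_mem Q s hsQ _
  horb := by
    intro B hBQ hsB hBc
    haveI : Fact q'.Prime := ⟨hq'⟩
    have hBq : (Nat.card B).Coprime q := by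
      obtain ⟨m, hm⟩ := IsPGroup.iff_card.1 (hQ.to_le hBQ)
      rw [hm]
      exact Nat.Coprime.pow_left m ((Nat.coprime_primes hq' hq.out).2 hqq)
    exact orb_aut q V hcomm hV s n hs hfpf B hsB hBc hBq

/-! ### sections -/

section sec

variable {Γ : Type*} [Group Γ] (X Y : Subgroup Γ)

/-- the elements normalizing both `X` and `Y`. -/
def secN : Subgroup Γ :=
  Subgroup.normalizer (X : Set Γ) ⊓ Subgroup.normalizer (Y : Set Γ)

theorem mem_secN {g : Γ} : g ∈ secN X Y ↔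
    g ∈ Subgroup.normalizer (X : Set Γ) ∧ g ∈ Subgroup.normalizer (Y : Set Γ) :=
  Subgroup.mem_inf

/-- conjugation by an element of the normalizer of `X`, as an automorphism of `X`. -/
def conjN (g : Γ) (hg : g ∈ Subgroup.normalizer (X : Set Γ)) : ↥X ≃* ↥X where
  toFun x := ⟨g * x * g⁻¹, (Subgroup.mem_normalizer_iff.1 hg x).1 x.2⟩
  invFun x := ⟨g⁻¹ * x * g, conj_mem_of_mem_normalizer hg x⟩
  left_inv x := by apply Subtype.ext; simp [mul_assoc]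
  right_inv x := by apply Subtype.ext; simp [mul_assoc]
  map_mul' a b := by apply Subtype.ext; simp [mul_assoc]

theorem conjN_apply (g : Γ) (hg : g ∈ Subgroup.normalizer (X : Set Γ)) (x : ↥X) :
    ((conjN X g hg x : ↥X) : Γ) = g * (x : Γ) * g⁻¹ := rfl

theorem conjN_map (g : Γ) (hgX : g ∈ Subgroup.normalizer (X : Set Γ))
    (hgY : g ∈ Subgroup.normalizer (Y : Set Γ)) :
    (Y.subgroupOf X).map ((conjN X g hgX : ↥X ≃* ↥X) : ↥X →* ↥X) = Y.subgroupOf X := by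
  ext x
  constructor
  · rintro ⟨y, hy, rfl⟩
    rw [SetLike.mem_coe, Subgroup.mem_subgroupOf] at hy
    rw [Subgroup.mem_subgroupOf]
    exact (Subgroup.mem_normalizer_iff.1 hgY y).1 hy
  · intro hx
    rw [Subgroup.mem_subgroupOf] at hx
    refine ⟨(conjN X g hgX).symm x, ?_, ?_⟩
    · rw [SetLike.mem_coe, Subgroup.mem_subgroupOf]
      exact conj_mem_of_mem_normalizer hgY ⟨(x : Γ), hx⟩
    · exact (conjN X g hgX).apply_symm_apply x

/-- the action of `N(X) ∩ N(Y)` on the section `X / Y`. -/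
noncomputable def secHom [hn : (Y.subgroupOf X).Normal] :
    ↥(secN X Y) →* MulAut (↥X ⧸ Y.subgroupOf X) where
  toFun g := QuotientGroup.congr (Y.subgroupOf X) (Y.subgroupOf X)
    (conjN X g ((mem_secN X Y).1 g.2).1)
    (conjN_map X Y g ((mem_secN X Y).1 g.2).1 ((mem_secN X Y).1 g.2).2)
  map_one' := by
    ext x
    induction x using QuotientGroup.induction_on with
    | H x =>
      rw [QuotientGroup.congr_mk, MulAut.one_apply]
      congr 1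
      apply Subtype.ext
      rw [conjN_apply]
      simp
  map_mul' a b := by
    ext x
    induction x using QuotientGroup.induction_on with
    | H x =>
      rw [MulAut.mul_apply, QuotientGroup.congr_mk, QuotientGroup.congr_mk,
        QuotientGroup.congr_mk]
      congr 1
      apply Subtype.ext
      rw [conjN_apply, conjN_apply, conjN_apply]
      simp [mul_assoc]

theorem secHom_mk [hn : (Y.subgroupOf X).Normal] (g : ↥(secN X Y)) (x : ↥X) :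
    secHom X Y g (QuotientGroup.mk x) =
      QuotientGroup.mk (conjN X g ((mem_secN X Y).1 g.2).1 x) := rfl

/-- the kernel of the action on the section. -/
theorem secHom_eq_one_iff [hn : (Y.subgroupOf X).Normal] (g : ↥(secN X Y)) :
    secHom X Y g = 1 ↔ ∀ x ∈ X, (g : Γ) * x * (g : Γ)⁻¹ * x⁻¹ ∈ Y := by
  constructor
  · intro h x hx
    have h1 := secHom_mk X Y g ⟨x, hx⟩
    rw [h, MulAut.one_apply] at h1
    have h2 := QuotientGroup.eq_iff_div_mem.1 h1.symm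
    rw [Subgroup.mem_subgroupOf] at h2
    simpa [div_eq_mul_inv, conjN_apply] using h2
  · intro h
    ext x
    induction x using QuotientGroup.induction_on with
    | H x =>
      rw [secHom_mk, MulAut.one_apply]
      apply QuotientGroup.eq_iff_div_mem.2
      rw [Subgroup.mem_subgroupOf]
      have := h x x.2
      simpa [div_eq_mul_inv, conjN_apply] using this

end sec

/-! ### ORB' for a section -/

set_option maxHeartbeats 800000 in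
/-- **ORB' for a section** `X / Y` of the ambient group: an `s`-invariant subgroup `B`, of order
prime to `q`, acting on the elementary abelian `q`-section `X / Y` through an abelian group, is
centralized modulo its kernel on `X / Y` by `t = s ^ (2 ^ (n - 1))`, when `s` has no fixed points
on `X / Y`. -/
theorem orb_section {Γ : Type u} [Group Γ] [Finite Γ] (q : ℕ) [hq : Fact q.Prime]
    (X Y : Subgroup Γ) (hYn : ∀ x ∈ X, ∀ y ∈ Y, x * y * x⁻¹ ∈ Y)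
    (hXab : ∀ a ∈ X, ∀ b ∈ X, a * b * a⁻¹ * b⁻¹ ∈ Y) (hXq : ∀ a ∈ X, a ^ q ∈ Y)
    (s : Γ) (n : ℕ) (hs : s ^ (2 ^ n) = 1)
    (hsX : ∀ x ∈ X, s * x * s⁻¹ ∈ X) (hsY : ∀ y ∈ Y, s * y * s⁻¹ ∈ Y)
    (hfpf : ∀ x ∈ X, s * x * s⁻¹ * x⁻¹ ∈ Y → x ∈ Y)
    (B : Subgroup Γ) (hBX : ∀ b ∈ B, ∀ x ∈ X, b * x * b⁻¹ ∈ X)
    (hBY : ∀ b ∈ B, ∀ y ∈ Y, b * y * b⁻¹ ∈ Y)
    (hsB : ∀ b ∈ B, s * b * s⁻¹ ∈ B)
    (hBc : ∀ a ∈ B, ∀ b ∈ B, ∀ x ∈ X,
      (a * b * a⁻¹ * b⁻¹) * x * (a * b * a⁻¹ * b⁻¹)⁻¹ * x⁻¹ ∈ Y)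
    (hBq : (Nat.card B).Coprime q) :
    ∀ b ∈ B, ∀ x ∈ X,
      (s ^ (2 ^ (n - 1)) * b * (s ^ (2 ^ (n - 1)))⁻¹ * b⁻¹) * x *
        (s ^ (2 ^ (n - 1)) * b * (s ^ (2 ^ (n - 1)))⁻¹ * b⁻¹)⁻¹ * x⁻¹ ∈ Y := by
  haveI hnorm : (Y.subgroupOf X).Normal := by
    constructor
    intro y hy x
    rw [Subgroup.mem_subgroupOf] at hy ⊢
    exact hYn x x.2 y hy
  have hsN : s ∈ secN X Y := (mem_secN X Y).2
    ⟨mem_normalizer_of_conj_mem X s hsX, mem_normalizer_of_conj_mem Y s hsY⟩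
  have hBN : B ≤ secN X Y := fun b hb => (mem_secN X Y).2
    ⟨mem_normalizer_of_conj_mem X b (hBX b hb), mem_normalizer_of_conj_mem Y b (hBY b hb)⟩
  obtain ⟨φ, hφ⟩ : ∃ φ : ↥(secN X Y) →* MulAut (↥X ⧸ Y.subgroupOf X), φ = secHom X Y :=
    ⟨_, rfl⟩
  have hφ1 : ∀ g : ↥(secN X Y), φ g = 1 ↔ ∀ x ∈ X, (g : Γ) * x * (g : Γ)⁻¹ * x⁻¹ ∈ Y := by
    intro g; rw [hφ]; exact secHom_eq_one_iff X Y g
  have hφmk : ∀ (g : ↥(secN X Y)) (x : ↥X), φ g (QuotientGroup.mk x) =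
      QuotientGroup.mk (conjN X g ((mem_secN X Y).1 g.2).1 x) := by
    intro g x; rw [hφ]; rfl
  have hcommV : ∀ a b : ↥X ⧸ Y.subgroupOf X, a * b = b * a := by
    intro a b
    induction a using QuotientGroup.induction_on with
    | H a =>
      induction b using QuotientGroup.induction_on with
      | H b =>
        rw [← QuotientGroup.mk_mul, ← QuotientGroup.mk_mul]
        apply QuotientGroup.eq_iff_div_mem.2
        rw [Subgroup.mem_subgroupOf]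
        have h1 := hXab a a.2 b b.2
        have e : ((a * b / (b * a) : ↥X) : Γ) = (a : Γ) * b * (a : Γ)⁻¹ * (b : Γ)⁻¹ := by
          rw [div_eq_mul_inv, Subgroup.coe_mul, Subgroup.coe_inv, Subgroup.coe_mul,
            Subgroup.coe_mul]
          group
        rw [e]; exact h1
  have hVq : ∀ v : ↥X ⧸ Y.subgroupOf X, v ^ q = 1 := by
    intro v
    induction v using QuotientGroup.induction_on with
    | H x =>
      rw [← QuotientGroup.mk_pow, QuotientGroup.eq_one_iff, Subgroup.mem_subgroupOf,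
        Subgroup.coe_pow]
      exact hXq x x.2
  obtain ⟨s', hs'⟩ : ∃ s' : MulAut (↥X ⧸ Y.subgroupOf X), s' = φ ⟨s, hsN⟩ := ⟨_, rfl⟩
  have hs'n : s' ^ (2 ^ n) = 1 := by
    rw [hs', ← map_pow]
    have : (⟨s, hsN⟩ : ↥(secN X Y)) ^ (2 ^ n) = 1 := by
      apply Subtype.ext
      rw [Subgroup.coe_pow]; exact hs
    rw [this, map_one]
  have hfpf' : ∀ v : ↥X ⧸ Y.subgroupOf X, s' v = v → v = 1 := by
    intro v
    induction v using QuotientGroup.induction_on with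
    | H x =>
      intro h
      rw [hs', hφmk] at h
      have h2 := QuotientGroup.eq_iff_div_mem.1 h
      rw [Subgroup.mem_subgroupOf] at h2
      rw [QuotientGroup.eq_one_iff, Subgroup.mem_subgroupOf]
      apply hfpf x x.2
      have e : ((conjN X s ((mem_secN X Y).1 hsN).1 x / x : ↥X) : Γ) = s * x * s⁻¹ * (x : Γ)⁻¹ := by
        rw [div_eq_mul_inv, Subgroup.coe_mul, Subgroup.coe_inv, conjN_apply]
      rw [← e]; exact h2
  obtain ⟨B', hB'⟩ : ∃ B' : Subgroup (MulAut (↥X ⧸ Y.subgroupOf X)),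
      B' = (B.subgroupOf (secN X Y)).map φ := ⟨_, rfl⟩
  have hB'mem : ∀ b (hb : b ∈ B), φ ⟨b, hBN hb⟩ ∈ B' := by
    intro b hb
    rw [hB']
    exact ⟨⟨b, hBN hb⟩, by rw [SetLike.mem_coe, Subgroup.mem_subgroupOf]; exact hb, rfl⟩
  have hsB' : ∀ b' ∈ B', s' * b' * s'⁻¹ ∈ B' := by
    rw [hB']
    rintro _ ⟨b, hb, rfl⟩
    rw [SetLike.mem_coe, Subgroup.mem_subgroupOf] at hb
    refine ⟨⟨s, hsN⟩ * b * ⟨s, hsN⟩⁻¹, ?_, ?_⟩
    · rw [SetLike.mem_coe, Subgroup.mem_subgroupOf]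
      exact hsB _ hb
    · rw [map_mul, map_mul, map_inv, hs']
  have hBc' : ∀ a ∈ B', ∀ b ∈ B', a * b = b * a := by
    rw [hB']
    rintro _ ⟨a, ha, rfl⟩ _ ⟨b, hb, rfl⟩
    rw [SetLike.mem_coe, Subgroup.mem_subgroupOf] at ha hb
    have h1 : φ (a * b * a⁻¹ * b⁻¹) = 1 := by
      rw [hφ1]
      intro x hx
      exact hBc _ ha _ hb x hx
    rw [map_mul, map_mul, map_mul, map_inv, map_inv] at h1
    calc φ a * φ b = (φ a * φ b * (φ a)⁻¹ * (φ b)⁻¹) * φ b * φ a := by group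
      _ = φ b * φ a := by rw [h1, one_mul]
  have hBq' : (Nat.card B').Coprime q := by
    have h1 : Nat.card B' ∣ Nat.card (B.subgroupOf (secN X Y)) := by
      rw [hB']; exact Subgroup.card_map_dvd _ φ
    have h2 : Nat.card (B.subgroupOf (secN X Y)) = Nat.card B :=
      Nat.card_congr (Subgroup.subgroupOfEquivOfLe hBN).toEquiv
    rw [h2] at h1
    exact Nat.Coprime.coprime_dvd_left h1 hBq
  have key := orb_aut q (↥X ⧸ Y.subgroupOf X) hcommV hVq s' n hs'n hfpf' B' hsB' hBc' hBq'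
  intro b hb x hx
  have h1 := key (φ ⟨b, hBN hb⟩) (hB'mem b hb)
  have h2 : φ (⟨s, hsN⟩ ^ (2 ^ (n - 1)) * ⟨b, hBN hb⟩ * (⟨s, hsN⟩ ^ (2 ^ (n - 1)))⁻¹ *
      ⟨b, hBN hb⟩⁻¹) = 1 := by
    rw [map_mul, map_mul, map_mul, map_inv, map_inv, map_pow, ← hs', h1, mul_inv_cancel]
  exact (hφ1 _).1 h2 x hx

/-! ### the statements in the form requested for the assembly of (T) -/

/-- `orb` in the form of `helper2`'s assignment. -/
theorem orb_centralizes {k : Type*} [Field k] [IsAlgClosed k] {Γ : Type*} [Group Γ] [Finite Γ]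
    {W : Type*} [AddCommGroup W] [Module k W] [Module.Finite k W] (ρ : Representation k Γ W)
    (s : Γ) (n : ℕ) (hs : s ^ (2 ^ n) = 1) (hfix : ∀ w : W, ρ s w = w → w = 0)
    (B : Subgroup Γ) (hBab : ∀ a ∈ B, ∀ b ∈ B, a * b = b * a)
    (hsB : ∀ b ∈ B, s * b * s⁻¹ ∈ B) (hBk : ((Nat.card B : ℕ) : k) ≠ 0)
    (_hBodd : (Nat.card B).Coprime 2) (hfaith : ∀ b ∈ B, ρ b = 1 → b = 1) :
    ∀ b ∈ B, s ^ (2 ^ (n - 1)) * b = b * s ^ (2 ^ (n - 1)) := by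
  intro b hb
  have h := orb ρ s n hs hfix B hsB hBab hBk hfaith b hb
  calc s ^ (2 ^ (n - 1)) * b
      = (s ^ (2 ^ (n - 1)) * b * (s ^ (2 ^ (n - 1)))⁻¹) * s ^ (2 ^ (n - 1)) := by group
    _ = b * s ^ (2 ^ (n - 1)) := by rw [h]

/-- `orb_aut` in the form of `helper2`'s assignment. -/
theorem orb_centralizes_aut {q : ℕ} [Fact q.Prime] {V : Type*} [Group V] [Finite V]
    (hcomm : ∀ a b : V, a * b = b * a) (hV : ∀ v : V, v ^ q = 1) (σ : MulAut V) (n : ℕ)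
    (hσ : σ ^ (2 ^ n) = 1) (hfpf : ∀ v : V, σ v = v → v = 1) (B : Subgroup (MulAut V))
    (hBab : ∀ a ∈ B, ∀ b ∈ B, a * b = b * a) (hσB : ∀ b ∈ B, σ * b * σ⁻¹ ∈ B)
    (hBq : (Nat.card B).Coprime q) (_hBodd : (Nat.card B).Coprime 2) :
    ∀ b ∈ B, σ ^ (2 ^ (n - 1)) * b = b * σ ^ (2 ^ (n - 1)) := by
  intro b hb
  have h := orb_aut q V hcomm hV σ n hσ hfpf B hσB hBab hBq b hb
  calc σ ^ (2 ^ (n - 1)) * b
      = (σ ^ (2 ^ (n - 1)) * b * (σ ^ (2 ^ (n - 1)))⁻¹) * σ ^ (2 ^ (n - 1)) := by group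
    _ = b * σ ^ (2 ^ (n - 1)) := by rw [h]

/-- **Step 3** of the tower theorem, packaged: for a `q`-group `Q` of class at most two acting
faithfully, `Q₀ = [Q, t]` satisfies `C_{Q₀}(t) ≤ Z(Q₀)`, `[C_Q(t), Q₀] = 1` and `Q = C_Q(t) Q₀`
(in the shape of the hypotheses of `Helper9.Gross2.tower_final`). -/
theorem step3 {k : Type*} [Field k] [IsAlgClosed k] {Γ : Type*} [Group Γ] [Finite Γ]
    {W : Type*} [AddCommGroup W] [Module k W] (ρ : Representation k Γ W)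
    {q : ℕ} (hq : q.Prime) (hq2 : q ≠ 2) (hqk : (q : k) ≠ 0)
    (s : Γ) (n : ℕ) (hn : 1 ≤ n) (hs : s ^ (2 ^ n) = 1)
    (hfix : ∀ w : W, ρ s w = w → w = 0)
    (Q : Subgroup Γ) (hQ : IsPGroup q Q) (hsQ : ∀ g ∈ Q, s * g * s⁻¹ ∈ Q)
    (hfaith : ∀ g ∈ Q, ρ g = 1 → g = 1)
    (hcl : ∀ a ∈ Q, ∀ b ∈ Q, ∀ g ∈ Q, (a * b * a⁻¹ * b⁻¹) * g = g * (a * b * a⁻¹ * b⁻¹)) :
    comT Q (s ^ (2 ^ (n - 1))) ≤ Q ∧
    (∀ g ∈ Q, s ^ (2 ^ (n - 1)) * g * (s ^ (2 ^ (n - 1)))⁻¹ * g⁻¹ ∈ comT Q (s ^ (2 ^ (n - 1)))) ∧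
    (∀ x ∈ comT Q (s ^ (2 ^ (n - 1))), s * x * s⁻¹ ∈ comT Q (s ^ (2 ^ (n - 1)))) ∧
    (∀ g ∈ Q, ∀ x ∈ comT Q (s ^ (2 ^ (n - 1))), g * x * g⁻¹ ∈ comT Q (s ^ (2 ^ (n - 1)))) ∧
    (∀ c ∈ comT Q (s ^ (2 ^ (n - 1))), s ^ (2 ^ (n - 1)) * c = c * s ^ (2 ^ (n - 1)) →
      ∀ g ∈ comT Q (s ^ (2 ^ (n - 1))), c * g = g * c) ∧
    (∀ c ∈ Q, s ^ (2 ^ (n - 1)) * c = c * s ^ (2 ^ (n - 1)) →
      ∀ g ∈ comT Q (s ^ (2 ^ (n - 1))), c * g = g * c) ∧
    (∀ g ∈ Q, ∃ c ∈ Q, s ^ (2 ^ (n - 1)) * c = c * s ^ (2 ^ (n - 1)) ∧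
      ∃ g₀ ∈ comT Q (s ^ (2 ^ (n - 1))), g = c * g₀) := by
  have c := cfg_of_linear ρ hq hq2 hqk s n hn hs hfix Q hQ hsQ hfaith
  obtain ⟨t, ht⟩ : ∃ t, t = s ^ (2 ^ (n - 1)) := ⟨_, rfl⟩
  rw [← ht] at c ⊢
  have hconv : ∀ x : Γ, t * x = x * t → t * x * t⁻¹ = x := by
    intro x hx
    rw [hx, mul_inv_cancel_right]
  refine ⟨c.comT_le, fun g hg => mem_comT hg, c.s_conj_mem, conj_mem_comT, ?_, ?_, ?_⟩
  · intro x hx hxt
    exact (c.fix_iff_central hx).1 (hconv x hxt)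
  · intro x hx hxt
    exact c.fix_comm hcl hx (hconv x hxt)
  · intro g hg
    obtain ⟨c₀, hc₀, hfix₀, hmem⟩ := c.exists_fix_mul hg
    refine ⟨c₀, hc₀, ?_, c₀⁻¹ * g, hmem, by group⟩
    calc t * c₀ = (t * c₀ * t⁻¹) * t := by group
      _ = c₀ * t := by rw [hfix₀]

end Cfsg.Agent.Helper3.G2Orb
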