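import Mathlib
import Cfsg.Agent.Helper3.G2Orb
import Cfsg.Agent.Helper2.G2Quot

/-!
S3795 (Gross, `p = 2`): step 1 of the tower theorem (T) of `notes/S3795_plan.md`.

* `special_amb`: S0119 (`Lead.special_of_coprime_char_abelian`) in ambient-subgroup form.
* `step_one`: from a counterexample `(Q, Q₁)` to (T), the minimal configuration `(P, Z, Q')`:
  `Q' = [Q', t]`, `P` special with centre `Z = C_P(Q')` centralized by `t`, and `Q'` acting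
  non-trivially on `P / Z`.
-/

set_option autoImplicit false
set_option linter.style.haveILetI false

namespace Cfsg.Agent.Helper3.G2Orb

open Cfsg.Agent.Lead.S3F
open Classical
open scoped commutatorElement

variable {Γ : Type*} [Group Γ]

/-- minimal subgroups with a property, in a finite group. -/
theorem exists_min_sub [Finite Γ] (Pr : Subgroup Γ → Prop) (K₀ : Subgroup Γ) (h₀ : Pr K₀) :
    ∃ K : Subgroup Γ, K ≤ K₀ ∧ Pr K ∧ ∀ H : Subgroup Γ, H ≤ K → Pr H → H = K := by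
  obtain ⟨K, ⟨hK1, hK2⟩, hmin⟩ :=
    wellFounded_lt.has_min {K : Subgroup Γ | K ≤ K₀ ∧ Pr K} ⟨K₀, le_rfl, h₀⟩
  refine ⟨K, hK1, hK2, fun H hHK hH => ?_⟩
  by_contra hne
  exact hmin H ⟨hHK.trans hK1, hH⟩ (lt_of_le_of_ne hHK hne)

/-- `K = C_K(t) [K, t]` for an involution `t` normalizing the subgroup `K` of odd order. -/
theorem exists_fix_mul_of_odd [Finite Γ] {K : Subgroup Γ} {t : Γ} (ht : t * t = 1)
    (htK : ∀ g ∈ K, t * g * t⁻¹ ∈ K) (hodd : (Nat.card K).Coprime 2) {g : Γ} (hg : g ∈ K) :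
    ∃ c₀ ∈ K, t * c₀ * t⁻¹ = c₀ ∧ c₀⁻¹ * g ∈ comT K t := by
  haveI : Fact (2 : ℕ).Prime := ⟨Nat.prime_two⟩
  have ht2 : t ^ 2 = 1 := by rw [pow_two]; exact ht
  have hle : comT K t ≤ K := comT_le htK
  have hcop : ¬ 2 ∣ Nat.card (comT K t) := by
    intro h2
    have h3 : 2 ∣ Nat.card K := dvd_trans h2 (Subgroup.card_dvd_of_le hle)
    have h4 := Nat.Coprime.eq_one_of_dvd hodd.symm h3
    omega
  obtain ⟨z, hz, hfix⟩ := Cfsg.Agent.Helper3.Shult.exists_fixed_in_coset (p := 2) t ht2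
    (comT K t) (conj_mem_comT_of_comm htK rfl) hcop g (mem_comT hg)
  refine ⟨z * g, K.mul_mem (hle hz) hg, hfix, ?_⟩
  have e : (z * g)⁻¹ * g = g⁻¹ * z⁻¹ * g⁻¹⁻¹ := by group
  rw [e]
  exact conj_mem_comT g⁻¹ (K.inv_mem hg) z⁻¹ ((comT K t).inv_mem hz)

/-- `[K, t, t] = [K, t]` for an involution `t` normalizing the subgroup `K` of odd order. -/
theorem comT_comT_of_odd [Finite Γ] {K : Subgroup Γ} {t : Γ} (ht : t * t = 1)
    (htK : ∀ g ∈ K, t * g * t⁻¹ ∈ K) (hodd : (Nat.card K).Coprime 2) :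
    comT (comT K t) t = comT K t := by
  apply le_antisymm (comT_le (conj_mem_comT_of_comm htK rfl))
  have hle : Subgroup.closure {y | ∃ g ∈ K, y = t * g * t⁻¹ * g⁻¹} ≤ comT (comT K t) t := by
    rw [Subgroup.closure_le]
    rintro y ⟨g, hg, rfl⟩
    obtain ⟨c₀, hc₀, hfix, hmem⟩ := exists_fix_mul_of_odd ht htK hodd hg
    have hc₀t : c₀ * t = t * c₀ := by
      calc c₀ * t = (t * c₀ * t⁻¹) * t := by rw [hfix]
        _ = t * c₀ := by group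
    have e : t * g * t⁻¹ * g⁻¹
        = c₀ * (t * (c₀⁻¹ * g) * t⁻¹ * (c₀⁻¹ * g)⁻¹) * c₀⁻¹ := by
      symm
      calc c₀ * (t * (c₀⁻¹ * g) * t⁻¹ * (c₀⁻¹ * g)⁻¹) * c₀⁻¹
          = (c₀ * t) * c₀⁻¹ * g * t⁻¹ * g⁻¹ := by group
        _ = (t * c₀) * c₀⁻¹ * g * t⁻¹ * g⁻¹ := by rw [hc₀t]
        _ = _ := by group
    rw [SetLike.mem_coe, e]
    exact conj_mem_comT_of_comm (conj_mem_comT c₀ hc₀) hc₀t _ (mem_comT hmem)
  exact hle

/-- iterated conjugation of an element moved by a central factor. -/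
theorem conj_iter' (x c g : Γ) (hc : x * c * x⁻¹ = c)
    (hg : x * g * x⁻¹ = c * g) : ∀ k : ℕ, x ^ k * g * (x ^ k)⁻¹ = c ^ k * g := by
  intro k
  induction k with
  | zero => simp
  | succ k ih =>
    have e1 : x ^ (k + 1) * g * (x ^ (k + 1))⁻¹ = x * (x ^ k * g * (x ^ k)⁻¹) * x⁻¹ := by
      rw [pow_succ']; group
    have hck : x * c ^ k * x⁻¹ = c ^ k := by
      have : x * c ^ k * x⁻¹ = (x * c * x⁻¹) ^ k := by rw [conj_pow]
      rw [this, hc]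
    rw [e1, ih]
    have e2 : x * (c ^ k * g) * x⁻¹ = (x * c ^ k * x⁻¹) * (x * g * x⁻¹) := by group
    rw [e2, hck, hg, ← mul_assoc, ← pow_succ]

/-- an element of order prime to `q` centralizing its commutator with an element `v` of a
`q`-group centralizes `v`. -/
theorem comm_of_comm_commutator {q : ℕ} (P : Subgroup Γ) (hP : IsPGroup q P)
    (a : Γ) (m : ℕ) (ham : a ^ m = 1) (hm : m.Coprime q) (v : Γ) (hv : v ∈ P)
    (hav : a * v * a⁻¹ ∈ P)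
    (hc : a * (a * v * a⁻¹ * v⁻¹) = (a * v * a⁻¹ * v⁻¹) * a) : a * v = v * a := by
  obtain ⟨c, hcdef⟩ : ∃ c, c = a * v * a⁻¹ * v⁻¹ := ⟨_, rfl⟩
  rw [← hcdef] at hc
  have hcP : c ∈ P := by rw [hcdef]; exact P.mul_mem hav (P.inv_mem hv)
  have hc' : a * c * a⁻¹ = c := by rw [hc, mul_inv_cancel_right]
  have e3 : a * v * a⁻¹ = c * v := by rw [hcdef]; group
  have hit := conj_iter' a c v hc' e3 m
  rw [ham, one_mul, inv_one, mul_one] at hit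
  have hcm : c ^ m = 1 := mul_eq_right.1 hit.symm
  obtain ⟨j, hj⟩ := hP ⟨c, hcP⟩
  have hj' : c ^ (q ^ j) = 1 := by
    have := congrArg Subtype.val hj
    simpa using this
  have h1 : orderOf c ∣ m := orderOf_dvd_of_pow_eq_one hcm
  have h2 : orderOf c ∣ q ^ j := orderOf_dvd_of_pow_eq_one hj'
  have h3 : Nat.Coprime m (q ^ j) := Nat.Coprime.pow_right j hm
  have h4 : orderOf c = 1 := Nat.eq_one_of_dvd_coprimes h3 h1 h2
  have h5 : c = 1 := orderOf_eq_one_iff.1 h4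
  calc a * v = (a * v * a⁻¹) * a := by group
    _ = v * a := by rw [e3, h5, one_mul]

/-- **S0119 in ambient form**: a `p`-subgroup `P = [P, A]` with `A` of order prime to `p`
centralizing every abelian subgroup of `P` invariant under the normalizer of `P`, is special
(commutators and `p`-th powers are central) and its centre is `C_P(A)`. -/
theorem special_amb [Finite Γ] {p : ℕ} [hp : Fact p.Prime] (P A : Subgroup Γ) (hP : IsPGroup p P)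
    (hAP : ∀ a ∈ A, ∀ v ∈ P, a * v * a⁻¹ ∈ P) (hcop : (Nat.card A).Coprime p)
    (hgen : P ≤ Subgroup.closure {u | ∃ a ∈ A, ∃ v ∈ P, u = a * v * a⁻¹ * v⁻¹})
    (hchar : ∀ H : Subgroup Γ, H ≤ P →
      (∀ y : Γ, (∀ v ∈ P, y * v * y⁻¹ ∈ P) → ∀ h ∈ H, y * h * y⁻¹ ∈ H) →
      (∀ a ∈ H, ∀ b ∈ H, a * b = b * a) → ∀ a ∈ A, ∀ h ∈ H, a * h = h * a) :
    (∀ u ∈ P, ∀ v ∈ P, ∀ w ∈ P, (u * v * u⁻¹ * v⁻¹) * w = w * (u * v * u⁻¹ * v⁻¹)) ∧
    (∀ u ∈ P, ∀ w ∈ P, u ^ p * w = w * u ^ p) ∧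
    (∀ c ∈ P, (∀ w ∈ P, c * w = w * c) ↔ (∀ a ∈ A, a * c = c * a)) := by
  have hAN : A ≤ Subgroup.normalizer (P : Set Γ) :=
    fun a ha => mem_normalizer_of_conj_mem P a (hAP a ha)
  obtain ⟨φ, hφ⟩ : ∃ φ : ↥(Subgroup.normalizer (P : Set Γ)) →* MulAut ↥P,
      φ = Cfsg.Agent.Helper2.G2.conjAct P := ⟨_, rfl⟩
  have hφapp : ∀ (g : ↥(Subgroup.normalizer (P : Set Γ))) (v : ↥P),
      ((φ g v : ↥P) : Γ) = (g : Γ) * (v : Γ) * (g : Γ)⁻¹ := by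
    intro g v; rw [hφ]; rfl
  obtain ⟨A', hA'⟩ : ∃ A' : Subgroup (MulAut ↥P),
      A' = (A.subgroupOf (Subgroup.normalizer (P : Set Γ))).map φ := ⟨_, rfl⟩
  have hA'mem : ∀ a (ha : a ∈ A), φ ⟨a, hAN ha⟩ ∈ A' := by
    intro a ha
    rw [hA']
    exact ⟨⟨a, hAN ha⟩, by rw [SetLike.mem_coe, Subgroup.mem_subgroupOf]; exact ha, rfl⟩
  have hA'elim : ∀ a' ∈ A', ∃ a, ∃ ha : a ∈ A, a' = φ ⟨a, hAN ha⟩ := by
    intro a' ha'
    rw [hA'] at ha'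
    obtain ⟨b, hb, rfl⟩ := ha'
    rw [SetLike.mem_coe, Subgroup.mem_subgroupOf] at hb
    exact ⟨(b : Γ), hb, rfl⟩
  have hA'card : (Nat.card A').Coprime p := by
    have h1 : Nat.card A' ∣ Nat.card (A.subgroupOf (Subgroup.normalizer (P : Set Γ))) := by
      rw [hA']; exact Subgroup.card_map_dvd _ φ
    have h2 : Nat.card (A.subgroupOf (Subgroup.normalizer (P : Set Γ))) = Nat.card A :=
      Nat.card_congr (Subgroup.subgroupOfEquivOfLe hAN).toEquiv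
    rw [h2] at h1
    exact Nat.Coprime.coprime_dvd_left h1 hcop
  have hGA : Subgroup.closure {x : ↥P | ∃ g : ↥P, ∃ a ∈ A', x = g⁻¹ * a g} = ⊤ := by
    rw [eq_top_iff]
    intro x _
    have hle : Subgroup.closure {u | ∃ a ∈ A, ∃ v ∈ P, u = a * v * a⁻¹ * v⁻¹} ≤
        (Subgroup.closure {x : ↥P | ∃ g : ↥P, ∃ a ∈ A', x = g⁻¹ * a g}).map P.subtype := by
      rw [Subgroup.closure_le]
      rintro y ⟨a, ha, v, hv, rfl⟩
      obtain ⟨g', hg'⟩ : ∃ g' : ↥P, g' = (⟨v, hv⟩ : ↥P)⁻¹ := ⟨_, rfl⟩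
      refine ⟨(g'⁻¹ * φ ⟨a, hAN ha⟩ g')⁻¹,
        Subgroup.inv_mem _ (Subgroup.subset_closure ⟨g', _, hA'mem a ha, rfl⟩), ?_⟩
      rw [Subgroup.coe_subtype, Subgroup.coe_inv, Subgroup.coe_mul, hφapp, Subgroup.coe_inv, hg',
        Subgroup.coe_inv]
      group
    obtain ⟨y, hy, hyx⟩ := hle (hgen x.2)
    have : y = x := Subtype.ext hyx
    rw [← this]; exact hy
  have hchar' : ∀ H : Subgroup ↥P, H.Characteristic → IsMulCommutative H →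
      ∀ a ∈ A', ∀ h ∈ H, a h = h := by
    intro H hHc hHab a' ha' h hh
    obtain ⟨a, ha, rfl⟩ := hA'elim a' ha'
    obtain ⟨B, hB⟩ : ∃ B : Subgroup Γ, B = H.map P.subtype := ⟨_, rfl⟩
    have hBP : B ≤ P := by
      rw [hB]
      rintro _ ⟨y, _, rfl⟩
      exact y.2
    have hBinv : ∀ y : Γ, (∀ v ∈ P, y * v * y⁻¹ ∈ P) → ∀ h ∈ B, y * h * y⁻¹ ∈ B := by
      intro y hy
      rw [hB]
      rintro _ ⟨z, hz, rfl⟩
      have hyN : y ∈ Subgroup.normalizer (P : Set Γ) := mem_normalizer_of_conj_mem P y hy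
      refine ⟨φ ⟨y, hyN⟩ z, ?_, ?_⟩
      · exact (Subgroup.characteristic_iff_map_le.1 hHc (φ ⟨y, hyN⟩)) ⟨z, hz, rfl⟩
      · rw [Subgroup.coe_subtype, hφapp]
    have hBc : ∀ a ∈ B, ∀ b ∈ B, a * b = b * a := by
      rw [hB]
      rintro _ ⟨x, hx, rfl⟩ _ ⟨y, hy, rfl⟩
      have h1 : (⟨x, hx⟩ : H) * ⟨y, hy⟩ = ⟨y, hy⟩ * ⟨x, hx⟩ := hHab.is_comm.comm _ _
      have h2 : x * y = y * x := congrArg Subtype.val h1
      rw [← map_mul, ← map_mul, h2]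
    have h3 := hchar B hBP hBinv hBc a ha (h : Γ) (by rw [hB]; exact ⟨h, hh, rfl⟩)
    apply Subtype.ext
    rw [hφapp]
    change a * (h : Γ) * a⁻¹ = h
    rw [h3, mul_inv_cancel_right]
  obtain ⟨hsp, hcen⟩ :=
    Cfsg.Agent.Lead.special_of_coprime_char_abelian hP A' hA'card hGA hchar'
  have hcenmem : ∀ z : ↥P, z ∈ Subgroup.center ↥P → ∀ g ∈ P, (z : Γ) * g = g * (z : Γ) := by
    intro z hz g hg
    have h2 := Subgroup.mem_center_iff.1 hz ⟨g, hg⟩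
    exact (congrArg Subtype.val h2).symm
  refine ⟨?_, ?_, ?_⟩
  · intro a ha b hb g hg
    have h1 : ⁅(⟨a, ha⟩ : ↥P), ⟨b, hb⟩⁆ ∈ Subgroup.center ↥P := by
      rw [← hsp.2.2, commutator_def]
      exact Subgroup.commutator_mem_commutator (Subgroup.mem_top _) (Subgroup.mem_top _)
    exact hcenmem _ h1 g hg
  · intro x hx g hg
    have h1 : (⟨x, hx⟩ : ↥P) ^ p ∈ Subgroup.center ↥P := by
      rw [← hsp.2.1]
      exact Cfsg.Agent.Helper1.IsPGroup.pow_mem_frattini hP _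
    exact hcenmem _ h1 g hg
  · intro c hc
    constructor
    · intro hcomm a ha
      have h1 : (⟨c, hc⟩ : ↥P) ∈ Subgroup.center ↥P := by
        rw [Subgroup.mem_center_iff]
        intro g
        apply Subtype.ext
        exact (hcomm g g.2).symm
      have h2 := (hcen _).1 h1 _ (hA'mem a ha)
      have h3 := congrArg Subtype.val h2
      rw [hφapp] at h3
      change a * c * a⁻¹ = c at h3
      calc a * c = (a * c * a⁻¹) * a := by group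
        _ = c * a := by rw [h3]
    · intro hfix w hw
      have h1 : (⟨c, hc⟩ : ↥P) ∈ Subgroup.center ↥P := by
        rw [hcen]
        intro a' ha'
        obtain ⟨a, ha, rfl⟩ := hA'elim a' ha'
        apply Subtype.ext
        rw [hφapp]
        change a * c * a⁻¹ = c
        rw [hfix a ha, mul_inv_cancel_right]
      exact hcenmem _ h1 w hw

set_option maxHeartbeats 1600000 in
/-- **Step 1 of the tower theorem (T)**: from an `s`-invariant `q'`-group `Q₁` normalizing the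
`s`-invariant faithful `q`-group `Q` with `[Q₁, t] ≰ C(Q)`, the minimal configuration:
`Q' ≤ Q₁` with `Q' = [Q', t]`, and `P ≤ Q` special, `Q'⟨s⟩`-invariant, with centre
`Z = C_P(Q')` centralized by `t`, on which `Q'` acts non-trivially modulo `Z`. -/
theorem step_one {k : Type*} [Field k] [IsAlgClosed k] {Γ : Type*} [Group Γ] [Finite Γ]
    {W : Type*} [AddCommGroup W] [Module k W] (ρ : Representation k Γ W)
    (s : Γ) (n : ℕ) (hn : 1 ≤ n) (hs : s ^ (2 ^ n) = 1) (hfix : ∀ w : W, ρ s w = w → w = 0)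
    {q q' : ℕ} (hq : q.Prime) (hq' : q'.Prime) (hqq : q' ≠ q) (_hq2 : q ≠ 2) (hq'2 : q' ≠ 2)
    (hqk : (q : k) ≠ 0) (Q Q₁ : Subgroup Γ) (hQ : IsPGroup q Q) (hQ₁ : IsPGroup q' Q₁)
    (hsQ : ∀ v ∈ Q, s * v * s⁻¹ ∈ Q) (hsQ₁ : ∀ g ∈ Q₁, s * g * s⁻¹ ∈ Q₁)
    (hQ₁Q : ∀ g ∈ Q₁, ∀ v ∈ Q, g * v * g⁻¹ ∈ Q) (hfaith : ∀ v ∈ Q, ρ v = 1 → v = 1)
    (hnot : ∃ g ∈ Q₁, ∃ v ∈ Q,
      (s ^ (2 ^ (n - 1)) * g * (s ^ (2 ^ (n - 1)))⁻¹ * g⁻¹) * v ≠
        v * (s ^ (2 ^ (n - 1)) * g * (s ^ (2 ^ (n - 1)))⁻¹ * g⁻¹)) :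
    ∃ P Z Q' : Subgroup Γ, P ≤ Q ∧ Q' ≤ Q₁ ∧ (∀ v ∈ P, s * v * s⁻¹ ∈ P) ∧
      (∀ g ∈ Q', s * g * s⁻¹ ∈ Q') ∧ (∀ g ∈ Q', ∀ v ∈ P, g * v * g⁻¹ ∈ P) ∧
      (∀ c, c ∈ Z ↔ c ∈ P ∧ ∀ w ∈ P, c * w = w * c) ∧
      (∀ u ∈ P, ∀ v ∈ P, u * v * u⁻¹ * v⁻¹ ∈ Z) ∧ (∀ u ∈ P, u ^ q ∈ Z) ∧
      (∀ g ∈ Q', ∀ z ∈ Z, g * z = z * g) ∧
      (∀ z ∈ Z, s ^ (2 ^ (n - 1)) * z = z * s ^ (2 ^ (n - 1))) ∧
      (Q' ≤ Subgroup.closure
        {u | ∃ g ∈ Q', u = s ^ (2 ^ (n - 1)) * g * (s ^ (2 ^ (n - 1)))⁻¹ * g⁻¹}) ∧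
      (∃ g ∈ Q', ∃ v ∈ P, g * v * g⁻¹ * v⁻¹ ∉ Z) := by
  haveI : Fact q.Prime := ⟨hq⟩
  haveI : Fact q'.Prime := ⟨hq'⟩
  obtain ⟨t, ht⟩ : ∃ t, t = s ^ (2 ^ (n - 1)) := ⟨_, rfl⟩
  rw [← ht] at hnot ⊢
  have hst : s * t = t * s := by rw [ht, ← pow_succ', ← pow_succ]
  have htt : t * t = 1 := by
    rw [ht, ← pow_add, ← two_mul, ← pow_succ', Nat.sub_add_cancel hn, hs]
  have htinv : ∀ K : Subgroup Γ, (∀ g ∈ K, s * g * s⁻¹ ∈ K) → ∀ g ∈ K, t * g * t⁻¹ ∈ K := by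
    intro K hK
    rw [ht]
    exact Cfsg.Agent.Helper3.Shult.conj_pow_mem K s hK _
  -- (1) the minimal `Q'`
  obtain ⟨Q', hQ'Q₁, ⟨hsQ', hnotQ'⟩, hminQ'⟩ := exists_min_sub
    (fun K : Subgroup Γ => (∀ g ∈ K, s * g * s⁻¹ ∈ K) ∧
      ∃ g ∈ K, ∃ v ∈ Q, (t * g * t⁻¹ * g⁻¹) * v ≠ v * (t * g * t⁻¹ * g⁻¹)) Q₁ ⟨hsQ₁, hnot⟩
  have htQ' := htinv Q' hsQ'
  have hQ'p : IsPGroup q' Q' := hQ₁.to_le hQ'Q₁
  have hQ'odd : (Nat.card Q').Coprime 2 := by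
    obtain ⟨m, hm⟩ := IsPGroup.iff_card.1 hQ'p
    rw [hm]
    exact Nat.Coprime.pow_left m ((Nat.coprime_primes hq' Nat.prime_two).2 hq'2)
  have hQ'gen : comT Q' t = Q' := by
    apply hminQ' (comT Q' t) (comT_le htQ')
    refine ⟨conj_mem_comT_of_comm hsQ' hst, ?_⟩
    by_contra hno
    push Not at hno
    have h1 : comT (comT Q' t) t ≤ Subgroup.centralizer (Q : Set Γ) := by
      have h2 : Subgroup.closure {y | ∃ g ∈ comT Q' t, y = t * g * t⁻¹ * g⁻¹} ≤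
          Subgroup.centralizer (Q : Set Γ) := by
        rw [Subgroup.closure_le]
        rintro y ⟨g, hg, rfl⟩
        rw [SetLike.mem_coe, Subgroup.mem_centralizer_iff]
        intro v hv
        exact (hno g hg v hv).symm
      exact h2
    rw [comT_comT_of_odd htt htQ' hQ'odd] at h1
    obtain ⟨g, hg, v, hv, hne⟩ := hnotQ'
    exact hne ((Subgroup.mem_centralizer_iff.1 (h1 (mem_comT hg)) v hv).symm)
  have hQ'Q : ∀ g ∈ Q', ∀ v ∈ Q, g * v * g⁻¹ ∈ Q := fun g hg => hQ₁Q g (hQ'Q₁ hg)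
  have hncQ : ∃ g ∈ Q', ∃ v ∈ Q, g * v ≠ v * g := by
    obtain ⟨g, hg, v, hv, hne⟩ := hnotQ'
    exact ⟨t * g * t⁻¹ * g⁻¹, Q'.mul_mem (htQ' g hg) (Q'.inv_mem hg), v, hv, hne⟩
  -- (2) the minimal `P`
  obtain ⟨P, hPQ, ⟨hsP, hQ'P, hncP⟩, hminP⟩ := exists_min_sub
    (fun K : Subgroup Γ => (∀ v ∈ K, s * v * s⁻¹ ∈ K) ∧ (∀ g ∈ Q', ∀ v ∈ K, g * v * g⁻¹ ∈ K) ∧
      ∃ g ∈ Q', ∃ v ∈ K, g * v ≠ v * g) Q ⟨hsQ, hQ'Q, hncQ⟩
  have hPp : IsPGroup q P := hQ.to_le hPQ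
  have hprop : ∀ H : Subgroup Γ, H ≤ P → (∀ v ∈ H, s * v * s⁻¹ ∈ H) →
      (∀ g ∈ Q', ∀ v ∈ H, g * v * g⁻¹ ∈ H) → H ≠ P → ∀ g ∈ Q', ∀ v ∈ H, g * v = v * g := by
    intro H hHP h1 h2 hne g hg v hv
    by_contra hcon
    exact hne (hminP H hHP ⟨h1, h2, g, hg, v, hv, hcon⟩)
  -- coprime action, elementwise
  have hcopr : ∀ g ∈ Q', (∀ v ∈ P, g * (g * v * g⁻¹ * v⁻¹) = (g * v * g⁻¹ * v⁻¹) * g) →
      ∀ v ∈ P, g * v = v * g := by
    intro g hg hc v hv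
    obtain ⟨j, hj⟩ := hQ'p ⟨g, hg⟩
    have hj' : g ^ (q' ^ j) = 1 := by
      have := congrArg Subtype.val hj
      simpa using this
    have hm : (q' ^ j).Coprime q := Nat.Coprime.pow_left j ((Nat.coprime_primes hq' hq).2 hqq)
    exact comm_of_comm_commutator P hPp g (q' ^ j) hj' hm v hv (hQ'P g hg v hv) (hc v hv)
  -- (3) `P = [P, Q']`
  obtain ⟨P₁, hP₁⟩ : ∃ P₁ : Subgroup Γ,
      P₁ = Subgroup.closure {u | ∃ a ∈ Q', ∃ v ∈ P, u = a * v * a⁻¹ * v⁻¹} := ⟨_, rfl⟩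
  have hP₁P : P₁ ≤ P := by
    rw [hP₁, Subgroup.closure_le]
    rintro y ⟨a, ha, v, hv, rfl⟩
    exact P.mul_mem (hQ'P a ha v hv) (P.inv_mem hv)
  have hP₁s : ∀ v ∈ P₁, s * v * s⁻¹ ∈ P₁ := by
    rw [hP₁]
    apply conj_mem_of_closure
    rintro y ⟨a, ha, v, hv, rfl⟩
    apply Subgroup.subset_closure
    refine ⟨s * a * s⁻¹, hsQ' a ha, s * v * s⁻¹, hsP v hv, ?_⟩
    group
  have hP₁Q' : ∀ g ∈ Q', ∀ v ∈ P₁, g * v * g⁻¹ ∈ P₁ := by
    intro g hg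
    rw [hP₁]
    apply conj_mem_of_closure
    rintro y ⟨a, ha, v, hv, rfl⟩
    apply Subgroup.subset_closure
    refine ⟨g * a * g⁻¹, Q'.mul_mem (Q'.mul_mem hg ha) (Q'.inv_mem hg), g * v * g⁻¹,
      hQ'P g hg v hv, ?_⟩
    group
  have hP₁eq : P₁ = P := by
    by_contra hne
    have hc := hprop P₁ hP₁P hP₁s hP₁Q' hne
    obtain ⟨g, hg, v, hv, hgv⟩ := hncP
    apply hgv
    apply hcopr g hg ?_ v hv
    intro v hv
    apply hc g hg
    rw [hP₁]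
    exact Subgroup.subset_closure ⟨g, hg, v, hv, rfl⟩
  -- (4) `P` is not abelian
  have hcardk : ∀ K : Subgroup Γ, K ≤ Q → (Nat.card K : k) ≠ 0 := by
    intro K hK
    obtain ⟨m, hm⟩ := IsPGroup.iff_card.1 (hQ.to_le hK)
    rw [hm, Nat.cast_pow]
    exact pow_ne_zero _ hqk
  have hPna : ¬ ∀ a ∈ P, ∀ b ∈ P, a * b = b * a := by
    intro hab
    have htP := orb ρ s n hs hfix P hsP hab (hcardk P hPQ) (fun v hv => hfaith v (hPQ hv))
    rw [← ht] at htP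
    have h1 : ∀ g ∈ Q', ∀ v ∈ P, (t * g * t⁻¹ * g⁻¹) * v = v * (t * g * t⁻¹ * g⁻¹) := by
      intro g hg v hv
      have hv' : g⁻¹ * v * g ∈ P := by
        have := hQ'P g⁻¹ (Q'.inv_mem hg) v hv
        rwa [inv_inv] at this
      have h2 := htP _ hv'
      calc (t * g * t⁻¹ * g⁻¹) * v = t * g * t⁻¹ * (g⁻¹ * v * g) * g⁻¹ := by group
        _ = t * g * t⁻¹ * (t * (g⁻¹ * v * g) * t⁻¹) * g⁻¹ := by rw [h2]
        _ = (t * v * t⁻¹) * (t * g * t⁻¹ * g⁻¹) := by group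
        _ = v * (t * g * t⁻¹ * g⁻¹) := by rw [htP v hv]
    have h2 : Q' ≤ Subgroup.centralizer (P : Set Γ) := by
      have h3 : Subgroup.closure {y | ∃ g ∈ Q', y = t * g * t⁻¹ * g⁻¹} ≤
          Subgroup.centralizer (P : Set Γ) := by
        rw [Subgroup.closure_le]
        rintro y ⟨g, hg, rfl⟩
        rw [SetLike.mem_coe, Subgroup.mem_centralizer_iff]
        intro v hv
        exact (h1 g hg v hv).symm
      intro g hg
      apply h3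
      have : g ∈ comT Q' t := by rw [hQ'gen]; exact hg
      exact this
    obtain ⟨g, hg, v, hv, hgv⟩ := hncP
    exact hgv ((Subgroup.mem_centralizer_iff.1 (h2 hg) v hv).symm)
  -- (5) S0119
  have hcard : (Nat.card Q').Coprime q := by
    obtain ⟨m, hm⟩ := IsPGroup.iff_card.1 hQ'p
    rw [hm]
    exact Nat.Coprime.pow_left m ((Nat.coprime_primes hq' hq).2 hqq)
  obtain ⟨hcl, hpow, hcen⟩ := special_amb P Q' hPp hQ'P hcard
    (by rw [← hP₁]; exact hP₁eq.ge)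
    (by
      intro H hHP hinv hab a ha h hh
      have hne : H ≠ P := by
        rintro rfl
        exact hPna hab
      exact hprop H hHP (hinv s hsP) (fun g hg => hinv g (hQ'P g hg)) hne a ha h hh)
  obtain ⟨Z, hZ⟩ : ∃ Z : Subgroup Γ, ∀ c, c ∈ Z ↔ c ∈ P ∧ ∀ w ∈ P, c * w = w * c := by
    refine ⟨P ⊓ Subgroup.centralizer (P : Set Γ), fun c => ?_⟩
    rw [Subgroup.mem_inf, Subgroup.mem_centralizer_iff]
    constructor
    · rintro ⟨h1, h2⟩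
      exact ⟨h1, fun w hw => (h2 w hw).symm⟩
    · rintro ⟨h1, h2⟩
      exact ⟨h1, fun w hw => (h2 w hw).symm⟩
  have hZP : Z ≤ P := fun z hz => ((hZ z).1 hz).1
  have hQ'Z : ∀ g ∈ Q', ∀ z ∈ Z, g * z = z * g := by
    intro g hg z hz
    exact (hcen z (hZP hz)).1 ((hZ z).1 hz).2 g hg
  -- `t` centralizes `Z`
  have hsPn : s ∈ Subgroup.normalizer (P : Set Γ) := mem_normalizer_of_conj_mem P s hsP
  have hZs : ∀ z ∈ Z, s * z * s⁻¹ ∈ Z := by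
    intro z hz
    rw [hZ] at hz ⊢
    refine ⟨hsP z hz.1, ?_⟩
    intro w hw
    have hw' : s⁻¹ * w * s ∈ P := conj_mem_of_mem_normalizer hsPn ⟨w, hw⟩
    have h1 := hz.2 _ hw'
    calc s * z * s⁻¹ * w = s * (z * (s⁻¹ * w * s)) * s⁻¹ := by group
      _ = s * ((s⁻¹ * w * s) * z) * s⁻¹ := by rw [h1]
      _ = w * (s * z * s⁻¹) := by group
  have hZc : ∀ a ∈ Z, ∀ b ∈ Z, a * b = b * a := by
    intro a ha b hb
    exact ((hZ a).1 ha).2 b (hZP hb)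
  have htZ : ∀ z ∈ Z, t * z = z * t := by
    intro z hz
    have h1 := orb ρ s n hs hfix Z hZs hZc (hcardk Z (hZP.trans hPQ))
      (fun v hv => hfaith v (hPQ (hZP hv))) z hz
    rw [← ht] at h1
    calc t * z = (t * z * t⁻¹) * t := by group
      _ = z * t := by rw [h1]
  refine ⟨P, Z, Q', hPQ, hQ'Q₁, hsP, hsQ', hQ'P, hZ, ?_, ?_, hQ'Z, htZ, ?_, ?_⟩
  · intro u hu v hv
    rw [hZ]
    exact ⟨P.mul_mem (P.mul_mem (P.mul_mem hu hv) (P.inv_mem hu)) (P.inv_mem hv),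
      fun w hw => hcl u hu v hv w hw⟩
  · intro u hu
    rw [hZ]
    exact ⟨P.pow_mem hu q, fun w hw => hpow u hu w hw⟩
  · intro g hg
    have : g ∈ comT Q' t := by rw [hQ'gen]; exact hg
    exact this
  · by_contra hno
    push Not at hno
    obtain ⟨g, hg, v, hv, hgv⟩ := hncP
    apply hgv
    apply hcopr g hg ?_ v hv
    intro v hv
    exact hQ'Z g hg _ (hno g hg v hv)

end Cfsg.Agent.Helper3.G2Orb
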