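import Mathlib
import Cfsg.Agent.Helper3.G2Orb
import Cfsg.Agent.Helper3.G2StepOne
import Cfsg.Agent.Helper3.G2Lin
import Cfsg.Agent.Helper9.Gross2.TowerFin

/-!
S3795 (Gross, `p = 2`): assembly of the tower theorem (T) from step 1 (`step_one`), step 2 (as a
hypothesis `StepTwoHyp`), step 3 (`step3`) and steps 4–6 (`Helper9.Gross2.tower_final`).
-/

set_option autoImplicit false
set_option linter.style.haveILetI false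

namespace Cfsg.Agent.Helper3.G2Orb

universe u

/-- **Step 2 of (T)**, as a hypothesis: in the minimal configuration `(P, Z, Q')` there is
`z ∈ C_{Q'}(t)`, non-trivial on `P / Z`, central in `Q'` modulo the kernel of the action on
`P / Z`. -/
def StepTwoHyp (n : ℕ) : Prop :=
  ∀ (Γ : Type u) [Group Γ] [Finite Γ] (s : Γ), s ^ (2 ^ n) = 1 →
    ∀ (q q' : ℕ), q.Prime → q'.Prime → q' ≠ q → q ≠ 2 → q' ≠ 2 →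
    ∀ (P Z Q' : Subgroup Γ), IsPGroup q P → IsPGroup q' Q' →
    (∀ c, c ∈ Z ↔ c ∈ P ∧ ∀ w ∈ P, c * w = w * c) →
    (∀ u ∈ P, ∀ v ∈ P, u * v * u⁻¹ * v⁻¹ ∈ Z) → (∀ u ∈ P, u ^ q ∈ Z) →
    (∀ g ∈ Q', ∀ v ∈ P, g * v * g⁻¹ ∈ P) → (∀ v ∈ P, s * v * s⁻¹ ∈ P) →
    (∀ g ∈ Q', s * g * s⁻¹ ∈ Q') → (∀ v ∈ P, s * v * s⁻¹ = v → v = 1) →
    (Q' ≤ Subgroup.closure
      {u | ∃ g ∈ Q', u = s ^ (2 ^ (n - 1)) * g * (s ^ (2 ^ (n - 1)))⁻¹ * g⁻¹}) →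
    (∃ g ∈ Q', ∃ v ∈ P, g * v * g⁻¹ * v⁻¹ ∉ Z) →
    ∃ z ∈ Q', s ^ (2 ^ (n - 1)) * z = z * s ^ (2 ^ (n - 1)) ∧
      (∃ v ∈ P, z * v * z⁻¹ * v⁻¹ ∉ Z) ∧
      ∀ g ∈ Q', ∀ v ∈ P, (g * z * g⁻¹ * z⁻¹) * v * (g * z * g⁻¹ * z⁻¹)⁻¹ * v⁻¹ ∈ Z

set_option maxHeartbeats 800000 in
/-- **The tower theorem (T)**, from step 2. -/
theorem tower_of_step_two (n : ℕ) (hn : 1 ≤ n) (h2 : StepTwoHyp.{u} n) : TowerHyp.{u} n := by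
  intro k _ _ Γ _ _ W _ _ _ ρ s hs hfix h2k q q' hq hq' hqq hq2 hq'2 hqk Q Q₁ hQ hQ₁ hsQ hsQ₁
    hQ₁Q hfaith hfpfQ _ g hg v hv
  by_contra hne
  obtain ⟨P, Z, Q', hPQ, hQ'Q₁, hsP, hsQ', hQ'P, hZ, hcl2, hexp, hQ'Z, htZ, hgen, hnt⟩ :=
    step_one ρ s n hn hs hfix hq hq' hqq hq2 hq'2 hqk Q Q₁ hQ hQ₁ hsQ hsQ₁ hQ₁Q hfaith
      ⟨g, hg, v, hv, hne⟩
  have hPp : IsPGroup q P := hQ.to_le hPQ
  have hQ'p : IsPGroup q' Q' := hQ₁.to_le hQ'Q₁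
  obtain ⟨z, hzQ', hzt, ⟨v₀, hv₀, hzv₀⟩, hzc⟩ := h2 Γ s hs q q' hq hq' hqq hq2 hq'2 P Z Q' hPp
    hQ'p hZ hcl2 hexp hQ'P hsP hsQ' (fun v hv => hfpfQ v (hPQ hv)) hgen hnt
  have hcl : ∀ a ∈ P, ∀ b ∈ P, ∀ g ∈ P,
      (a * b * a⁻¹ * b⁻¹) * g = g * (a * b * a⁻¹ * b⁻¹) :=
    fun a ha b hb g hg => ((hZ _).1 (hcl2 a ha b hb)).2 g hg
  obtain ⟨h3a, h3b, _, _, h3e, h3f, h3g⟩ := step3 ρ hq hq2 hqk s n hn hs hfix P hPp hsP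
    (fun g hg => hfaith g (hPQ hg)) hcl
  have hzc' : ∀ h ∈ Q', ∀ g ∈ P, (z * h * z⁻¹ * h⁻¹) * g = g * (z * h * z⁻¹ * h⁻¹) := by
    intro h hh g hg
    obtain ⟨a, ha⟩ : ∃ a, a = h * z * h⁻¹ * z⁻¹ := ⟨_, rfl⟩
    have haQ' : a ∈ Q' := by
      rw [ha]
      exact Q'.mul_mem (Q'.mul_mem (Q'.mul_mem hh hzQ') (Q'.inv_mem hh)) (Q'.inv_mem hzQ')
    have hac : ∀ v ∈ P, a * v = v * a := by
      intro v hv
      have h1 := hzc h hh v hv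
      rw [← ha] at h1
      obtain ⟨j, hj⟩ := hQ'p ⟨a, haQ'⟩
      have hj' : a ^ (q' ^ j) = 1 := by
        have := congrArg Subtype.val hj
        simpa using this
      have hm : (q' ^ j).Coprime q :=
        Nat.Coprime.pow_left j ((Nat.coprime_primes hq' hq).2 hqq)
      exact comm_of_comm_commutator P hPp a (q' ^ j) hj' hm v hv (hQ'P a haQ' v hv)
        (hQ'Z a haQ' _ h1)
    have e : z * h * z⁻¹ * h⁻¹ = a⁻¹ := by rw [ha]; group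
    rw [e]
    have h1 := hac g hg
    calc a⁻¹ * g = a⁻¹ * (g * a) * a⁻¹ := by group
      _ = a⁻¹ * (a * g) * a⁻¹ := by rw [h1]
      _ = g * a⁻¹ := by group
  have hfin := Cfsg.Agent.Helper9.Gross2.tower_final ρ s n hn hs hfix q q' hq hq' hq2 hq'2
    hqq.symm h2k hqk P Z (comT P (s ^ (2 ^ (n - 1)))) Q' hPp hQ'p hsP hsQ' hQ'P
    (fun g hg => hfaith g (hPQ hg)) (fun c hc => ((hZ c).1 hc).1)
    (fun a ha g hg => ((hZ a).1 ha).2 g hg) (fun g hg hc => (hZ g).2 ⟨hg, hc⟩) hcl2 htZ hQ'Z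
    h3a h3b le_rfl h3e h3f h3g hgen z hzQ' hzt hzc'
  exact hzv₀ (hfin v₀ hv₀)

end Cfsg.Agent.Helper3.G2Orb
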