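import Mathlib
import Cfsg.Agent.Helper3.G2Tower3
import Cfsg.Agent.Helper9.Gross2.StepTwo

/-!
S3795 (Gross, `p = 2`): the tower theorem (T) and the linear theorem (L2), unconditionally.
-/

set_option autoImplicit false

namespace Cfsg.Agent.Helper3.G2Orb

universe u

/-- **The tower theorem (T).** -/
theorem tower (n : ℕ) (hn : 1 ≤ n) : TowerHyp.{u} n :=
  tower_of_step_two n hn
    (fun _ _ _ s hs _ _ hq hq' hqq hq2 hq'2 P Z Q' hP hQ' hZ hcl2 hexp hQ'P hsP hsQ' hfpfP hgen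
        hnt =>
      Cfsg.Agent.Helper9.Gross2.step_two s n hs hq hq' hqq hq2 hq'2 P Z Q' hP hQ' hZ hcl2 hexp
        hQ'P hsP hsQ' hfpfP hgen hnt)

/-- **The linear theorem (L2).** -/
theorem linHyp2 (n : ℕ) (hn : 1 ≤ n) : Cfsg.Agent.Helper9.Gross2.LinHyp2.{u} n :=
  linHyp2_of_tower n (tower n hn)

end Cfsg.Agent.Helper3.G2Orb
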