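import Mathlib
import Cfsg.Agent.Helper6.CentralDefectA
import Cfsg.Agent.Helper6.GaloisChar
import Cfsg.Agent.Helper6.DerivedLengthBad
import Cfsg.Agent.Helper6.Codegree
import Cfsg.Agent.Helper6.IrrDegree

/-!
# Characters of groups with derived subgroup of prime order; Galois orbit counting

* `centerHom χ` : the central character `z ↦ χ z / χ 1` as a monoid hom `center G →* ℂ`.
* `vanish_off_center`, `sq_degree_eq_index_center` : if `G'` is central of prime order then every
  non-linear irreducible character vanishes off the centre and has `χ(1)^2 = |G : Z(G)|`.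
* `galois_count` : a family of functions all of the form `g ↦ χ (g ^ k)` (`k` coprime to `E`,
  `g ^ E = 1` for all `g`) has at most `φ(E)` members.
-/

set_option autoImplicit false

namespace Cfsg.Agent.Helper3.GalConj

open Cfsg.Agent.Helper6
open scoped commutatorElement

universe u

variable {G : Type u} [Group G]

/-- value of an irreducible character on `z * g` for central `z`. -/
theorem apply_center_mul [Finite G] (χ : Cfsg.IrrCharacter G) (z : G)
    (hz : z ∈ Subgroup.center G) (g : G) :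
    (χ : G → ℂ) (z * g) = (χ : G → ℂ) z / (χ : G → ℂ) 1 * (χ : G → ℂ) g := by
  obtain ⟨ω, -, hω⟩ := irr_center_mul χ z hz
  have h1 : (χ : G → ℂ) 1 ≠ 0 := IsIrrCharacter.apply_one_ne_zero χ.2
  have h2 : (χ : G → ℂ) z = ω * (χ : G → ℂ) 1 := by
    have := hω 1
    rwa [mul_one] at this
  rw [hω g, h2, mul_div_assoc, div_self h1, mul_one]

/-- the central character as a monoid homomorphism -/
noncomputable def centerHom [Finite G] (χ : Cfsg.IrrCharacter G) : Subgroup.center G →* ℂ where
  toFun z := (χ : G → ℂ) z / (χ : G → ℂ) 1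
  map_one' := by
    have h1 : (χ : G → ℂ) 1 ≠ 0 := IsIrrCharacter.apply_one_ne_zero χ.2
    simp only [Subgroup.coe_one]
    exact div_self h1
  map_mul' a b := by
    have h1 : (χ : G → ℂ) 1 ≠ 0 := IsIrrCharacter.apply_one_ne_zero χ.2
    simp only [Subgroup.coe_mul]
    rw [apply_center_mul χ a a.2 b]
    field_simp

theorem centerHom_apply [Finite G] (χ : Cfsg.IrrCharacter G) (z : Subgroup.center G) :
    centerHom χ z = (χ : G → ℂ) z / (χ : G → ℂ) 1 := rfl

theorem centerHom_eq_one_iff [Finite G] (χ : Cfsg.IrrCharacter G) (z : Subgroup.center G) :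
    centerHom χ z = 1 ↔ (χ : G → ℂ) z = (χ : G → ℂ) 1 := by
  have h1 : (χ : G → ℂ) 1 ≠ 0 := IsIrrCharacter.apply_one_ne_zero χ.2
  rw [centerHom_apply, div_eq_one_iff_eq h1]

theorem apply_center_mul' [Finite G] (χ : Cfsg.IrrCharacter G) (z : Subgroup.center G) (g : G) :
    (χ : G → ℂ) ((z : G) * g) = centerHom χ z * (χ : G → ℂ) g :=
  apply_center_mul χ z z.2 g

/-- the set of elements of `G` on which `χ` takes the value `χ 1` is closed under powers -/
theorem apply_pow_eq_of_apply_eq [Finite G] (χ : Cfsg.IrrCharacter G) (x : G)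
    (hx : (χ : G → ℂ) x = (χ : G → ℂ) 1) (k : ℕ) : (χ : G → ℂ) (x ^ k) = (χ : G → ℂ) 1 := by
  obtain ⟨K, -, hK, -⟩ := exists_kernel_data χ.2
  exact (hK _).1 (K.pow_mem ((hK x).2 hx) k)

theorem apply_zpow_eq_of_apply_eq [Finite G] (χ : Cfsg.IrrCharacter G) (x : G)
    (hx : (χ : G → ℂ) x = (χ : G → ℂ) 1) (k : ℤ) : (χ : G → ℂ) (x ^ k) = (χ : G → ℂ) 1 := by
  obtain ⟨K, -, hK, -⟩ := exists_kernel_data χ.2
  exact (hK _).1 (K.zpow_mem ((hK x).2 hx) k)

/-- a nonlinear irreducible character is non-trivial on the commutator subgroup -/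
theorem exists_mem_commutator_apply_ne [Finite G] (χ : Cfsg.IrrCharacter G)
    (hχ : Cfsg.charDegree (χ : G → ℂ) ≠ 1) :
    ∃ c ∈ commutator G, (χ : G → ℂ) c ≠ (χ : G → ℂ) 1 := by
  by_contra hcon
  push Not at hcon
  apply hχ
  apply linear_of_abelian_quotient (commutator G) χ hcon
  intro a b
  have : ⁅a, b⁆ ∈ commutator G := Subgroup.commutator_mem_commutator (Subgroup.mem_top a)
    (Subgroup.mem_top b)
  rwa [commutatorElement_def] at this

/-- If `G'` is central of prime order, a nonlinear irreducible character vanishes off the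
centre. -/
theorem vanish_off_center [Finite G] {p : ℕ} (hp : p.Prime)
    (hcard : Nat.card (commutator G) = p) (hcen : commutator G ≤ Subgroup.center G)
    (χ : Cfsg.IrrCharacter G) (hχ : Cfsg.charDegree (χ : G → ℂ) ≠ 1) (s : G)
    (hs : s ∉ Subgroup.center G) : (χ : G → ℂ) s = 0 := by
  obtain ⟨c, hc, hcne⟩ := exists_mem_commutator_apply_ne χ hχ
  -- find g not commuting with s
  have hex : ∃ g : G, g * s ≠ s * g := by
    by_contra hcon
    push Not at hcon
    exact hs (Subgroup.mem_center_iff.2 hcon)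
  obtain ⟨g, hg⟩ := hex
  set u : G := g * s * g⁻¹ * s⁻¹ with hu
  have hucomm : u ∈ commutator G := by
    have : ⁅g, s⁆ ∈ commutator G := Subgroup.commutator_mem_commutator (Subgroup.mem_top g)
      (Subgroup.mem_top s)
    rwa [commutatorElement_def] at this
  have hu1 : u ≠ 1 := by
    intro h
    apply hg
    have : g * s * g⁻¹ * s⁻¹ = 1 := h
    have h2 : g * s * g⁻¹ = s := by
      have := mul_inv_eq_one.1 this
      exact this
    calc g * s = g * s * g⁻¹ * g := by group
      _ = s * g := by rw [h2]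
  have hucen : u ∈ Subgroup.center G := hcen hucomm
  -- c is a power of u
  haveI : Fact p.Prime := ⟨hp⟩
  have hcpow : ∃ k : ℤ, u ^ k = c := by
    have hz : Subgroup.zpowers (⟨u, hucomm⟩ : commutator G) = ⊤ := by
      apply zpowers_eq_top_of_prime_card hcard
      intro h
      apply hu1
      exact congrArg Subtype.val h
    have hmem : (⟨c, hc⟩ : commutator G) ∈ Subgroup.zpowers (⟨u, hucomm⟩ : commutator G) := by
      rw [hz]; exact Subgroup.mem_top _
    obtain ⟨k, hk⟩ := Subgroup.mem_zpowers_iff.1 hmem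
    refine ⟨k, ?_⟩
    have := congrArg Subtype.val hk
    simpa using this
  obtain ⟨k, hk⟩ := hcpow
  -- ω_u ≠ 1
  have hωu : (χ : G → ℂ) u ≠ (χ : G → ℂ) 1 := by
    intro h
    apply hcne
    rw [← hk]
    exact apply_zpow_eq_of_apply_eq χ u h k
  have hω1 : centerHom χ ⟨u, hucen⟩ ≠ 1 := by
    intro h
    exact hωu ((centerHom_eq_one_iff χ ⟨u, hucen⟩).1 h)
  -- class function
  have hcl : (χ : G → ℂ) (g * s * g⁻¹) = (χ : G → ℂ) s :=
    (IsCharacter.isClassFunction (IsIrrCharacter.isCharacter χ.2)) s g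
  have hus : g * s * g⁻¹ = u * s := by rw [hu]; group
  rw [hus] at hcl
  have h3 := apply_center_mul' χ ⟨u, hucen⟩ s
  simp only at h3
  rw [h3] at hcl
  have h4 : (centerHom χ ⟨u, hucen⟩ - 1) * (χ : G → ℂ) s = 0 := by
    rw [sub_mul, hcl, one_mul, sub_self]
  rcases mul_eq_zero.1 h4 with h5 | h5
  · exact absurd (sub_eq_zero.1 h5) hω1
  · exact h5

/-- norm of the value of an irreducible character at a central element -/
theorem norm_apply_center [Finite G] (χ : Cfsg.IrrCharacter G) (z : G)
    (hz : z ∈ Subgroup.center G) : ‖(χ : G → ℂ) z‖ = ‖(χ : G → ℂ) 1‖ := by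
  obtain ⟨ω, hω1, hω⟩ := irr_center_mul χ z hz
  have := hω 1
  rw [mul_one] at this
  rw [this, norm_mul, hω1, one_mul]

/-- If `G'` is central of prime order, a nonlinear irreducible character has
`χ(1)^2 = |G : Z(G)|`. -/
theorem sq_degree_eq_index_center [Finite G] {p : ℕ} (hp : p.Prime)
    (hcard : Nat.card (commutator G) = p) (hcen : commutator G ≤ Subgroup.center G)
    (χ : Cfsg.IrrCharacter G) (hχ : Cfsg.charDegree (χ : G → ℂ) ≠ 1) :
    Cfsg.charDegree (χ : G → ℂ) ^ 2 = (Subgroup.center G).index := by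
  classical
  haveI := Fintype.ofFinite G
  have h1 := sum_norm_sq_irr χ.2
  have hd : ‖(χ : G → ℂ) 1‖ = (Cfsg.charDegree (χ : G → ℂ) : ℝ) := by
    rw [← charDegree_cast_of_isCharacter (IsIrrCharacter.isCharacter χ.2), Complex.norm_natCast]
  have h2 : ∑ g : G, ‖(χ : G → ℂ) g‖ ^ 2 =
      ∑ g ∈ Finset.univ.filter (fun g : G => g ∈ Subgroup.center G),
        ((Cfsg.charDegree (χ : G → ℂ) : ℝ)) ^ 2 := by
    rw [Finset.sum_filter]
    apply Finset.sum_congr rfl
    intro g _
    split_ifs with hg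
    · rw [norm_apply_center χ g hg, hd]
    · rw [vanish_off_center hp hcard hcen χ hχ g hg]
      simp
  rw [h2, Finset.sum_const, nsmul_eq_mul] at h1
  have h3 : (Finset.univ.filter (fun g : G => g ∈ Subgroup.center G)).card =
      Nat.card (Subgroup.center G) := by
    rw [Nat.card_eq_fintype_card, Fintype.card_subtype]
  rw [h3] at h1
  have h4 : Nat.card (Subgroup.center G) * Cfsg.charDegree (χ : G → ℂ) ^ 2 = Nat.card G := by
    exact_mod_cast h1
  have h5 := Subgroup.card_mul_index (Subgroup.center G)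
  rw [← h5] at h4
  exact Nat.eq_of_mul_eq_mul_left Nat.card_pos h4

/-- **Galois orbit count.** If every member of the finite set `S` of functions on `G` is of the
form `g ↦ χ (g ^ k)` with `k` coprime to `E`, where `g ^ E = 1` for all `g`, then `S` has at
most `φ(E)` members. -/
theorem galois_count {α : Type*} (χ : G → α) (E : ℕ) (hE0 : 0 < E) (hE : ∀ g : G, g ^ E = 1)
    (S : Finset (G → α))
    (hS : ∀ ψ ∈ S, ∃ k : ℕ, k.Coprime E ∧ ∀ g : G, ψ g = χ (g ^ k)) :
    S.card ≤ Nat.totient E := by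
  classical
  choose! k hk using hS
  rw [Nat.totient_eq_card_coprime]
  apply Finset.card_le_card_of_injOn (fun ψ => k ψ % E)
  · intro ψ hψ
    simp only [Finset.coe_filter, Finset.mem_range, Set.mem_ofPred_eq]
    refine ⟨Nat.mod_lt _ hE0, ?_⟩
    have h1 : Nat.gcd (k ψ) E = 1 := (hk ψ hψ).1
    rw [Nat.gcd_comm, Nat.gcd_rec] at h1
    rw [Nat.Coprime, Nat.gcd_comm]
    exact h1
  · intro ψ hψ ψ' hψ' heq
    simp only at heq
    funext g
    rw [(hk ψ hψ).2 g, (hk ψ' hψ').2 g, pow_eq_pow_mod (k ψ) (hE g), pow_eq_pow_mod (k ψ') (hE g),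
      heq]

end Cfsg.Agent.Helper3.GalConj
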