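import Mathlib
import Cfsg.Agent.Helper6.ColumnOrth
import Cfsg.Agent.Helper6.CentralBound
import Cfsg.Agent.Helper6.CdpB
import Cfsg.Agent.Helper6.BlockPart

/-!
# Group-theoretic part of the Galois-conjugacy theorem for `p`-groups

`P` a finite `p`-group, `M ≤ Z(P)` of order `p` such that `Q = P/M` has cyclic centre and derived
subgroup of order `p`.  With `Z₁` the preimage of `Z(Q)`:
* `exists_gen` : `Z₁ = ⟨t⟩ M` for some `t`;
* `index_centralizer_le` : `|P : C_P(t)| ≤ p`;
* `pow_eq_one` : `x ^ (p * |Z₁|) = 1` for all `x`;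
* `degree_sq_le` : every irreducible character has `χ(1)^2 ≤ p * |P : Z₁|`.
-/

set_option autoImplicit false

namespace Cfsg.Agent.Helper3.GalConj

open Cfsg.Agent.Helper6
open scoped commutatorElement

universe u

variable {P : Type u} [Group P]

/-- the preimage in `P` of the centre of `P ⧸ M` -/
def preCenter (M : Subgroup P) [M.Normal] : Subgroup P :=
  (Subgroup.center (P ⧸ M)).comap (QuotientGroup.mk' M)

theorem mem_preCenter (M : Subgroup P) [M.Normal] (x : P) :
    x ∈ preCenter M ↔ (QuotientGroup.mk' M x) ∈ Subgroup.center (P ⧸ M) := Iff.rfl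

theorem le_preCenter (M : Subgroup P) [M.Normal] : M ≤ preCenter M := by
  intro m hm
  rw [mem_preCenter]
  have : QuotientGroup.mk' M m = 1 := (QuotientGroup.eq_one_iff m).2 hm
  rw [this]
  exact Subgroup.one_mem _

theorem index_preCenter (M : Subgroup P) [M.Normal] :
    (preCenter M).index = (Subgroup.center (P ⧸ M)).index :=
  Subgroup.index_comap_of_surjective _ (QuotientGroup.mk'_surjective M)

/-- a commutator with an element of the preimage of the centre lies in `M` -/
theorem conj_mul_inv_mem (M : Subgroup P) [M.Normal] (t : P) (ht : t ∈ preCenter M) (g : P) :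
    g * t * g⁻¹ * t⁻¹ ∈ M := by
  rw [← QuotientGroup.eq_one_iff]
  have h1 := Subgroup.mem_center_iff.1 ((mem_preCenter M t).1 ht) (QuotientGroup.mk' M g)
  have : ((g * t * g⁻¹ * t⁻¹ : P) : P ⧸ M) =
      QuotientGroup.mk' M g * QuotientGroup.mk' M t * (QuotientGroup.mk' M g)⁻¹ *
        (QuotientGroup.mk' M t)⁻¹ := by
    simp
  rw [this, h1]
  group

/-- generator of the preimage of a cyclic centre modulo `M` -/
theorem exists_gen (M : Subgroup P) [M.Normal] (hcyc : IsCyclic (Subgroup.center (P ⧸ M))) :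
    ∃ t ∈ preCenter M, ∀ x ∈ preCenter M, ∃ (i : ℤ) (m : P), m ∈ M ∧ x = t ^ i * m := by
  obtain ⟨y, hy⟩ := hcyc.exists_generator
  obtain ⟨t, ht⟩ := QuotientGroup.mk'_surjective M (y : P ⧸ M)
  have htZ : t ∈ preCenter M := by
    rw [mem_preCenter, ht]; exact y.2
  refine ⟨t, htZ, ?_⟩
  intro x hx
  have hx' : QuotientGroup.mk' M x ∈ Subgroup.center (P ⧸ M) := (mem_preCenter M x).1 hx
  obtain ⟨i, hi⟩ := Subgroup.mem_zpowers_iff.1 (hy ⟨_, hx'⟩)
  have hi' : (QuotientGroup.mk' M t) ^ i = QuotientGroup.mk' M x := by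
    have := congrArg Subtype.val hi
    rw [Subgroup.coe_zpow, ← ht] at this
    exact this
  refine ⟨i, (t ^ i)⁻¹ * x, ?_, by group⟩
  rw [← QuotientGroup.eq_one_iff]
  have : (((t ^ i)⁻¹ * x : P) : P ⧸ M) =
      ((QuotientGroup.mk' M t) ^ i)⁻¹ * QuotientGroup.mk' M x := by
    simp
  rw [this, hi']
  group

/-- elements of `Z₁ = ⟨t⟩M` commute with the centralizer of `t` when `M` is central -/
theorem commute_of_gen (M : Subgroup P) (hM : M ≤ Subgroup.center P) (t : P)
    (x : P) (hx : ∃ (i : ℤ) (m : P), m ∈ M ∧ x = t ^ i * m) (a : P)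
    (ha : a ∈ Subgroup.centralizer ({t} : Set P)) : x * a = a * x := by
  obtain ⟨i, m, hm, rfl⟩ := hx
  have h1 : a * t = t * a := by
    have := Subgroup.mem_centralizer_iff.1 ha t (Set.mem_singleton t)
    exact this.symm
  have h2 : a * t ^ i = t ^ i * a := by
    have hc : Commute a t := h1
    exact (hc.zpow_right i).eq
  have h3 : ∀ g : P, g * m = m * g := Subgroup.mem_center_iff.1 (hM hm)
  calc t ^ i * m * a = t ^ i * (m * a) := by group
    _ = t ^ i * (a * m) := by rw [h3 a]
    _ = (t ^ i * a) * m := by group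
    _ = (a * t ^ i) * m := by rw [h2]
    _ = a * (t ^ i * m) := by group

/-- the centralizer of `t` has index at most `|M|` when `t` is central mod `M` -/
theorem index_centralizer_le [Finite P] (M : Subgroup P) [M.Normal] (t : P)
    (ht : t ∈ preCenter M) :
    (Subgroup.centralizer ({t} : Set P)).index ≤ Nat.card M := by
  rw [index_centralizer_eq_card_conj]
  let f : {x : P // IsConj t x} → M := fun x => ⟨(x : P) * t⁻¹, by
    obtain ⟨g, hg⟩ := isConj_iff.1 x.2
    rw [← hg]
    exact conj_mul_inv_mem M t ht g⟩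
  apply Nat.card_le_card_of_injective f
  intro x y hxy
  have := congrArg Subtype.val hxy
  simp only [f] at this
  exact Subtype.ext (mul_right_cancel this)

/-- power identity: if `⁅y, w⁆` is central then `y ^ n * w = ⁅y, w⁆ ^ n * w * y ^ n` -/
theorem pow_mul_comm_of_central {Q : Type*} [Group Q] (y w : Q)
    (hc : ∀ g : Q, g * ⁅y, w⁆ = ⁅y, w⁆ * g) (n : ℕ) :
    y ^ n * w = ⁅y, w⁆ ^ n * w * y ^ n := by
  induction n with
  | zero => simp
  | succ n ih =>
    have hyw : y * w = ⁅y, w⁆ * w * y := by rw [commutatorElement_def]; group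
    have hcn : ∀ g : Q, g * ⁅y, w⁆ ^ n = ⁅y, w⁆ ^ n * g := by
      intro g
      have hcomm : Commute g ⁅y, w⁆ := hc g
      exact (hcomm.pow_right n).eq
    calc y ^ (n + 1) * w = y * (y ^ n * w) := by rw [pow_succ']; group
      _ = y * (⁅y, w⁆ ^ n * w * y ^ n) := by rw [ih]
      _ = (y * ⁅y, w⁆ ^ n) * w * y ^ n := by group
      _ = (⁅y, w⁆ ^ n * y) * w * y ^ n := by rw [hcn y]
      _ = ⁅y, w⁆ ^ n * (y * w) * y ^ n := by group
      _ = ⁅y, w⁆ ^ n * (⁅y, w⁆ * w * y) * y ^ n := by rw [hyw]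
      _ = ⁅y, w⁆ ^ (n + 1) * w * y ^ (n + 1) := by rw [pow_succ, pow_succ']; group

/-- if the derived subgroup of `Q` is central of order `p` then `p`-th powers are central -/
theorem pow_mem_center_of_card_commutator {Q : Type*} [Group Q] [Finite Q] {p : ℕ}
    (hcard : Nat.card (commutator Q) = p) (hcen : commutator Q ≤ Subgroup.center Q) (y : Q) :
    y ^ p ∈ Subgroup.center Q := by
  rw [Subgroup.mem_center_iff]
  intro w
  have hmem : ⁅y, w⁆ ∈ commutator Q :=
    Subgroup.commutator_mem_commutator (Subgroup.mem_top y) (Subgroup.mem_top w)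
  have hc : ∀ g : Q, g * ⁅y, w⁆ = ⁅y, w⁆ * g := Subgroup.mem_center_iff.1 (hcen hmem)
  have h1 := pow_mul_comm_of_central y w hc p
  have h2 : ⁅y, w⁆ ^ p = 1 := by
    have := pow_card_eq_one' (G := commutator Q) (x := ⟨⁅y, w⁆, hmem⟩)
    rw [hcard] at this
    have := congrArg Subtype.val this
    simpa using this
  rw [h2, one_mul] at h1
  exact h1.symm

/-- exponent bound -/
theorem pow_eq_one [Finite P] {p : ℕ} [hp : Fact p.Prime] (hP : IsPGroup p P)
    (M : Subgroup P) [M.Normal]
    (hcard : Nat.card (commutator (P ⧸ M)) = p) (x : P) :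
    x ^ (p * Nat.card (preCenter M)) = 1 := by
  haveI : Group.IsNilpotent (P ⧸ M) :=
    (hP.to_quotient M).isNilpotent
  have hcen : commutator (P ⧸ M) ≤ Subgroup.center (P ⧸ M) :=
    Cdp.le_center_of_card_prime (commutator (P ⧸ M)) hp.out hcard
  have h1 : x ^ p ∈ preCenter M := by
    rw [mem_preCenter, map_pow]
    exact pow_mem_center_of_card_commutator hcard hcen _
  rw [pow_mul]
  have h2 : (⟨x ^ p, h1⟩ : preCenter M) ^ Nat.card (preCenter M) = 1 :=
    pow_card_eq_one' (G := preCenter M) (x := ⟨x ^ p, h1⟩)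
  have h3 := congrArg Subtype.val h2
  rw [Subgroup.coe_pow] at h3
  exact h3

/-- the degree bound: `χ(1)^2 ≤ p * |P : Z₁|` -/
theorem degree_sq_le [Finite P] {p : ℕ}
    (M : Subgroup P) [M.Normal] (hM : M ≤ Subgroup.center P) (hMcard : Nat.card M = p)
    (hcyc : IsCyclic (Subgroup.center (P ⧸ M)))
    (ψ : P → ℂ) (hψ : Cfsg.IsIrrCharacter P ψ) :
    Cfsg.charDegree ψ ^ 2 ≤ p * (preCenter M).index := by
  obtain ⟨t, htZ, hgen⟩ := exists_gen M hcyc
  set A := Subgroup.centralizer ({t} : Set P) with hA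
  have hZA : preCenter M ≤ A := by
    intro x hx
    rw [hA, Subgroup.mem_centralizer_iff]
    intro y hy
    rw [Set.mem_singleton_iff] at hy
    subst hy
    have htc : y ∈ Subgroup.centralizer ({y} : Set P) := by
      rw [Subgroup.mem_centralizer_iff]
      intro z hz
      rw [Set.mem_singleton_iff] at hz
      rw [hz]
    exact (commute_of_gen M hM y x (hgen x hx) y htc).symm
  have hcent : ∀ d ∈ preCenter M, ∀ c ∈ A, d * c * d⁻¹ * c⁻¹ ∈ (⊥ : Subgroup P) := by
    intro d hd c hc
    rw [Subgroup.mem_bot]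
    have := commute_of_gen M hM t d (hgen d hd) c hc
    rw [this]
    group
  have hker : ∀ b ∈ (⊥ : Subgroup P), ψ b = ψ 1 := by
    intro b hb
    rw [Subgroup.mem_bot] at hb
    rw [hb]
  have hb := degree_bound_central_section ψ hψ ⊥ A (preCenter M) bot_le hZA hcent hker
  have hd : ‖ψ 1‖ = (Cfsg.charDegree ψ : ℝ) := by
    rw [← charDegree_cast_of_isCharacter (IsIrrCharacter.isCharacter hψ), Complex.norm_natCast]
  rw [hd] at hb
  have hidx : A.index ≤ p := by
    have := index_centralizer_le M t htZ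
    rwa [hMcard] at this
  have h1 := A.card_mul_index
  have h2 := (preCenter M).card_mul_index
  have hb' : Cfsg.charDegree ψ ^ 2 * Nat.card A * Nat.card (preCenter M) ≤ Nat.card P ^ 2 := by
    exact_mod_cast hb
  have hApos : 0 < Nat.card A := Nat.card_pos
  have hZpos : 0 < Nat.card (preCenter M) := Nat.card_pos
  have h3 : Nat.card P ^ 2 = (Nat.card A * Nat.card (preCenter M)) *
      (A.index * (preCenter M).index) := by
    rw [sq]
    nth_rewrite 1 [← h1]
    rw [← h2]
    ring
  rw [h3] at hb'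
  have h4 : Cfsg.charDegree ψ ^ 2 * (Nat.card A * Nat.card (preCenter M)) ≤
      (A.index * (preCenter M).index) * (Nat.card A * Nat.card (preCenter M)) := by
    calc Cfsg.charDegree ψ ^ 2 * (Nat.card A * Nat.card (preCenter M))
        = Cfsg.charDegree ψ ^ 2 * Nat.card A * Nat.card (preCenter M) := by ring
      _ ≤ _ := hb'
      _ = _ := by ring
  have h5 := Nat.le_of_mul_le_mul_right h4 (Nat.mul_pos hApos hZpos)
  calc Cfsg.charDegree ψ ^ 2 ≤ A.index * (preCenter M).index := h5
    _ ≤ p * (preCenter M).index := Nat.mul_le_mul_right _ hidx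

end Cfsg.Agent.Helper3.GalConj
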