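import Mathlib
import Cfsg.Agent.Helper3.GalConjA
import Cfsg.Agent.Helper3.GalConjB
import Cfsg.Agent.Helper6.LambdaSumA
import Cfsg.Agent.Helper6.GaloisParityA
import Cfsg.Agent.Helper6.DefectZeroBlock
import Cfsg.Agent.Helper6.Linear
import Cfsg.Agent.Helper6.OddReal
import Cfsg.Agent.Helper6.FaithfulIrr

/-!
# Galois conjugacy of same-degree characters of `p`-groups: the counting arguments
-/

set_option autoImplicit false

namespace Cfsg.Agent.Helper3.GalConj

open Cfsg.Agent.Helper6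
open scoped commutatorElement

universe u

/-- any two non-linear irreducible characters of the same degree are Galois conjugate -/
def Hyp (P : Type u) [Group P] : Prop :=
  ∀ χ ψ : Cfsg.IrrCharacter P, Cfsg.charDegree (χ : P → ℂ) ≠ 1 →
    Cfsg.charDegree (χ : P → ℂ) = Cfsg.charDegree (ψ : P → ℂ) →
    ∃ k : ℕ, Nat.Coprime k (Nat.card P) ∧ ∀ g : P, (ψ : P → ℂ) g = (χ : P → ℂ) (g ^ k)

variable {P : Type u} [Group P]

theorem Hyp.quotient [Finite P] (h : Hyp P) (M : Subgroup P) [M.Normal] : Hyp (P ⧸ M) := by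
  intro χ ψ hχ hdeg
  have h1 := h (inflIrr M χ) (inflIrr M ψ) (by rwa [charDegree_inflIrr])
    (by rw [charDegree_inflIrr, charDegree_inflIrr, hdeg])
  obtain ⟨k, hk, hk2⟩ := h1
  refine ⟨k, ?_, ?_⟩
  · apply Nat.Coprime.coprime_dvd_right _ hk
    exact Subgroup.card_quotient_dvd_card M
  · intro y
    obtain ⟨g, rfl⟩ := QuotientGroup.mk_surjective y
    have := hk2 g
    rw [inflIrr_apply, inflIrr_apply] at this
    rw [this]
    rfl

/-- a Galois conjugate of a character trivial on `N` is trivial on `N` -/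
theorem trivial_on_of_galois [Finite P] (χ : Cfsg.IrrCharacter P) (ψ : P → ℂ) (k : ℕ)
    (hk : ∀ g : P, ψ g = (χ : P → ℂ) (g ^ k)) (N : Subgroup P)
    (hχ : ∀ n ∈ N, (χ : P → ℂ) n = (χ : P → ℂ) 1) : ∀ n ∈ N, ψ n = ψ 1 := by
  intro n hn
  rw [hk n, hk 1, one_pow]
  exact hχ _ (N.pow_mem hn k)

/-- a linear irreducible character is trivial on the commutator subgroup -/
theorem trivial_on_commutator_of_degree_one (ψ : Cfsg.IrrCharacter P)
    (hψ : Cfsg.charDegree (ψ : P → ℂ) = 1) :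
    ∀ n ∈ commutator P, (ψ : P → ℂ) n = (ψ : P → ℂ) 1 := by
  have h1 : (ψ : P → ℂ) 1 = 1 := by
    rw [← charDegree_cast_of_isCharacter (IsIrrCharacter.isCharacter ψ.2), hψ]; simp
  obtain ⟨lam, hlam⟩ := exists_hom_of_irr_degree_one ψ.2 h1
  intro n hn
  have hker : n ∈ lam.ker := Abelianization.commutator_subset_ker lam hn
  rw [MonoidHom.mem_ker] at hker
  rw [hlam]
  simp only [hker, map_one]

theorem geom_lt (p : ℕ) (hp : 2 ≤ p) : ∀ b : ℕ, 1 ≤ b →
    ∑ a ∈ Finset.Ico 1 b, p ^ (2 * a) < p ^ (2 * b - 1) := by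
  intro b hb
  induction b, hb using Nat.le_induction with
  | base => simp; omega
  | succ b hb ih =>
    rw [Finset.sum_Ico_succ_top hb]
    have h1 : 2 * (b + 1) - 1 = (2 * b - 1) + 2 := by omega
    have h2 : 2 * b = (2 * b - 1) + 1 := by omega
    rw [h1]
    have h3 : p ^ (2 * b) = p ^ (2 * b - 1) * p := by
      nth_rewrite 1 [h2]; rw [pow_succ]
    rw [h3, pow_add]
    have hpos : 0 < p ^ (2 * b - 1) := Nat.pow_pos (by omega)
    set X := p ^ (2 * b - 1) with hX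
    set S := ∑ a ∈ Finset.Ico 1 b, p ^ (2 * a) with hS
    have h4 : 1 + p ≤ p ^ 2 := by nlinarith
    calc S + X * p < X + X * p := by omega
      _ = X * (1 + p) := by ring
      _ ≤ X * p ^ 2 := Nat.mul_le_mul_left _ h4


/-- the commutator subgroup of a commutative group is trivial -/
theorem commutator_eq_bot_of_comm {Q : Type*} [Group Q] (h : ∀ a b : Q, a * b = b * a) :
    commutator Q = ⊥ := by
  rw [commutator_def, Subgroup.commutator_eq_bot_iff_le_centralizer]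
  intro x _
  rw [Subgroup.mem_centralizer_iff]
  intro y _
  exact h y x

/-- **Step D.** The minimal configuration with `|P'| ≠ p` is impossible. -/
theorem false_of_quotient [Finite P] (p : ℕ) [hp : Fact p.Prime] (hP : IsPGroup p P)
    (hH : Hyp P) (M : Subgroup P) [M.Normal] (hM : M ≤ Subgroup.center P)
    (hMcard : Nat.card M = p) (hMc : M ≤ commutator P)
    (hcyc : IsCyclic (Subgroup.center (P ⧸ M)))
    (hcard : Nat.card (commutator (P ⧸ M)) = p) : False := by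
  classical
  haveI := Fintype.ofFinite P
  haveI : Finite (Cfsg.IrrCharacter P) := irr_finite
  haveI : Fintype (Cfsg.IrrCharacter P) := Fintype.ofFinite _
  have hpp := hp.out
  haveI : Group.IsNilpotent (P ⧸ M) := (hP.to_quotient M).isNilpotent
  have hcenQ : commutator (P ⧸ M) ≤ Subgroup.center (P ⧸ M) :=
    Cdp.le_center_of_card_prime (commutator (P ⧸ M)) hpp hcard
  -- a nonlinear character of the quotient
  have hex : ∃ χ' : Cfsg.IrrCharacter (P ⧸ M), Cfsg.charDegree (χ' : P ⧸ M → ℂ) ≠ 1 := by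
    by_contra hcon
    push Not at hcon
    have hab : ∀ a b : P ⧸ M, a * b = b * a := by
      apply comm_iff_forall_irr_degree_one.2
      intro χ
      rw [← charDegree_cast_of_isCharacter (IsIrrCharacter.isCharacter χ.2), hcon χ]
      simp
    rw [commutator_eq_bot_of_comm hab] at hcard
    rw [Subgroup.card_bot] at hcard
    exact hpp.one_lt.ne hcard
  obtain ⟨χ', hχ'⟩ := hex
  obtain ⟨d₀, hd₀⟩ : ∃ d₀, d₀ = Cfsg.charDegree (χ' : P ⧸ M → ℂ) := ⟨_, rfl⟩
  have hd₀sq : d₀ ^ 2 = (preCenter M).index := by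
    rw [index_preCenter, hd₀]
    exact sq_degree_eq_index_center hpp hcard hcenQ χ' hχ'
  obtain ⟨N, hN⟩ := IsPGroup.iff_card.1 hP
  -- d₀ = p ^ b
  have hd₀dvd : d₀ ∣ p ^ N := by
    rw [← hN, hd₀]
    exact dvd_trans (charDegree_dvd_card χ'.2) (Subgroup.card_quotient_dvd_card M)
  obtain ⟨b, -, hb⟩ := (Nat.dvd_prime_pow hpp).1 hd₀dvd
  have hb1 : 1 ≤ b := by
    by_contra h0
    have : b = 0 := by omega
    subst this
    rw [pow_zero] at hb
    exact hχ' (hd₀ ▸ hb)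
  -- |Z₁| = p ^ c
  have hZdvd : Nat.card (preCenter M) ∣ p ^ N := by
    rw [← hN]; exact Subgroup.card_subgroup_dvd_card _
  obtain ⟨c, -, hc⟩ := (Nat.dvd_prime_pow hpp).1 hZdvd
  have hcardP : Nat.card P = p ^ c * (p ^ b) ^ 2 := by
    rw [← (preCenter M).card_mul_index, hc, ← hd₀sq, hb]
  -- the inflated character
  obtain ⟨χ₁, hχ₁⟩ : ∃ χ₁ : Cfsg.IrrCharacter P, χ₁ = inflIrr M χ' := ⟨_, rfl⟩
  have hχ₁deg : Cfsg.charDegree (χ₁ : P → ℂ) = d₀ := by
    rw [hχ₁, charDegree_inflIrr, hd₀]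
  have hχ₁M : ∀ m ∈ M, (χ₁ : P → ℂ) m = (χ₁ : P → ℂ) 1 := by
    intro m hm
    rw [hχ₁, inflIrr_apply, inflIrr_apply]
    rw [(QuotientGroup.eq_one_iff m).2 hm, QuotientGroup.mk_one]
  -- exponent
  obtain ⟨E, hEdef⟩ : ∃ E, E = p * Nat.card (preCenter M) := ⟨_, rfl⟩
  have hE : ∀ x : P, x ^ E = 1 := by
    intro x; rw [hEdef]; exact pow_eq_one hP M hcard x
  have hEpow : E = p ^ (c + 1) := by rw [hEdef, hc, pow_succ, mul_comm]
  have hE0 : 0 < E := by rw [hEpow]; exact Nat.pow_pos hpp.pos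
  have hpdvd : p ∣ Nat.card P := by
    rw [← hMcard]; exact Subgroup.card_subgroup_dvd_card M
  -- facts about characters non-trivial on M
  have hfacts : ∀ ψ : Cfsg.IrrCharacter P, ¬ (∀ m ∈ M, (ψ : P → ℂ) m = (ψ : P → ℂ) 1) →
      ∃ a, 1 ≤ a ∧ a < b ∧ Cfsg.charDegree (ψ : P → ℂ) = p ^ a := by
    intro ψ hψ
    obtain ⟨a, -, ha⟩ := (Nat.dvd_prime_pow hpp).1 (hN ▸ charDegree_dvd_card ψ.2)
    have ha1 : 1 ≤ a := by
      by_contra h0
      have : a = 0 := by omega
      subst this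
      rw [pow_zero] at ha
      exact hψ (fun m hm => trivial_on_commutator_of_degree_one ψ ha m (hMc hm))
    have hle := degree_sq_le M hM hMcard hcyc (ψ : P → ℂ) ψ.2
    rw [ha, ← hd₀sq, hb] at hle
    have hab : a ≤ b := by
      have h1 : p ^ (2 * a) ≤ p ^ (2 * b + 1) := by
        calc p ^ (2 * a) = (p ^ a) ^ 2 := by ring
          _ ≤ p * (p ^ b) ^ 2 := hle
          _ = p ^ (2 * b + 1) := by ring
      have := (Nat.pow_le_pow_iff_right hpp.one_lt).1 h1
      omega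
    have hne : a ≠ b := by
      intro hab'
      subst hab'
      obtain ⟨k, -, hk⟩ := hH χ₁ ψ (by rw [hχ₁deg, hd₀]; exact hχ')
        (by rw [hχ₁deg, ha, hb])
      exact hψ (trivial_on_of_galois χ₁ (ψ : P → ℂ) k hk M hχ₁M)
    exact ⟨a, ha1, lt_of_le_of_ne hab hne, ha⟩
  -- the sums
  obtain ⟨F, hF⟩ : ∃ F : Finset (Cfsg.IrrCharacter P), F = Finset.univ.filter
      (fun ψ : Cfsg.IrrCharacter P => ¬ ∀ m ∈ M, (ψ : P → ℂ) m = (ψ : P → ℂ) 1) := ⟨_, rfl⟩
  have hmemF : ∀ ψ, ψ ∈ F ↔ ¬ ∀ m ∈ M, (ψ : P → ℂ) m = (ψ : P → ℂ) 1 := by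
    intro ψ; rw [hF]; simp
  have hsumF : ∑ ψ ∈ F, Cfsg.charDegree (ψ : P → ℂ) ^ 2 + M.index = Nat.card P := by
    have h1 := sum_sq_charDegree (G := P)
    have h2 := sum_sq_degrees_of_le_ker M
    rw [← h1, ← h2, add_comm, hF]
    exact Finset.sum_filter_add_sum_filter_not _ _ _
  -- fibre bound
  have hfiber : ∀ a, (F.filter (fun ψ : Cfsg.IrrCharacter P => Cfsg.charDegree (ψ : P → ℂ) = p ^ a)).card ≤
      Nat.totient E := by
    intro a
    by_cases hne : (F.filter (fun ψ : Cfsg.IrrCharacter P => Cfsg.charDegree (ψ : P → ℂ) = p ^ a)).Nonempty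
    · obtain ⟨χ, hχ⟩ := hne
      have hχF := (Finset.mem_filter.1 hχ).1
      have hχa := (Finset.mem_filter.1 hχ).2
      obtain ⟨a', ha'1, -, ha'⟩ := hfacts χ ((hmemF χ).1 hχF)
      have hχne : Cfsg.charDegree (χ : P → ℂ) ≠ 1 := by
        rw [ha']
        exact (Nat.one_lt_pow (by omega) hpp.one_lt).ne'
      have := galois_count (χ : P → ℂ) E hE0 hE
        ((F.filter (fun ψ : Cfsg.IrrCharacter P => Cfsg.charDegree (ψ : P → ℂ) = p ^ a)).image
          (fun ψ : Cfsg.IrrCharacter P => (ψ : P → ℂ))) ?_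
      · rwa [Finset.card_image_of_injective _ Subtype.val_injective] at this
      · intro f hf
        obtain ⟨ψ, hψ, rfl⟩ := Finset.mem_image.1 hf
        have hψa := (Finset.mem_filter.1 hψ).2
        obtain ⟨k, hk, hk2⟩ := hH χ ψ hχne (by rw [hχa, hψa])
        refine ⟨k, ?_, hk2⟩
        rw [hEpow]
        apply Nat.Coprime.pow_right
        exact Nat.Coprime.coprime_dvd_right hpdvd hk
    · rw [Finset.not_nonempty_iff_eq_empty.1 hne]
      simp
  -- the main estimate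
  have hsum_le : ∑ ψ ∈ F, Cfsg.charDegree (ψ : P → ℂ) ^ 2 ≤
      Nat.totient E * ∑ a ∈ Finset.Ico 1 b, p ^ (2 * a) := by
    have hmaps : ∀ ψ ∈ F, Nat.log p (Cfsg.charDegree (ψ : P → ℂ)) ∈ Finset.Ico 1 b := by
      intro ψ hψ
      obtain ⟨a, ha1, hab, ha⟩ := hfacts ψ ((hmemF ψ).1 hψ)
      rw [ha, Nat.log_pow hpp.one_lt]
      exact Finset.mem_Ico.2 ⟨ha1, hab⟩
    rw [← Finset.sum_fiberwise_of_maps_to hmaps, Finset.mul_sum]
    apply Finset.sum_le_sum
    intro a _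
    have hconst : ∀ ψ ∈ F.filter (fun ψ : Cfsg.IrrCharacter P => Nat.log p (Cfsg.charDegree (ψ : P → ℂ)) = a),
        Cfsg.charDegree (ψ : P → ℂ) ^ 2 = p ^ (2 * a) := by
      intro ψ hψ
      obtain ⟨hψF, hψa⟩ := Finset.mem_filter.1 hψ
      obtain ⟨a', -, -, ha'⟩ := hfacts ψ ((hmemF ψ).1 hψF)
      rw [ha', Nat.log_pow hpp.one_lt] at hψa
      rw [ha', hψa]
      ring
    rw [Finset.sum_congr rfl hconst, Finset.sum_const, smul_eq_mul]
    apply Nat.mul_le_mul_right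
    refine le_trans (Finset.card_le_card ?_) (hfiber a)
    intro ψ hψ
    obtain ⟨hψF, hψa⟩ := Finset.mem_filter.1 hψ
    obtain ⟨a', -, -, ha'⟩ := hfacts ψ ((hmemF ψ).1 hψF)
    rw [ha', Nat.log_pow hpp.one_lt] at hψa
    exact Finset.mem_filter.2 ⟨hψF, by rw [ha', hψa]⟩
  -- arithmetic
  have hS := geom_lt p hpp.two_le b hb1
  have htot : Nat.totient E = p ^ c * (p - 1) := by
    rw [hEpow]; exact Nat.totient_prime_pow_succ hpp c
  have hidx : M.index * p = Nat.card P := by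
    rw [← hMcard]; exact M.index_mul_card
  obtain ⟨T, hT⟩ : ∃ T, T = p ^ c * p ^ (2 * b - 1) := ⟨_, rfl⟩
  have hTidx : M.index = T := by
    have h1 : T * p = Nat.card P := by
      rw [hT, hcardP]
      have : 2 * b = (2 * b - 1) + 1 := by omega
      calc p ^ c * p ^ (2 * b - 1) * p = p ^ c * p ^ ((2 * b - 1) + 1) := by
            rw [pow_succ]; ring
        _ = p ^ c * p ^ (2 * b) := by rw [← this]
        _ = p ^ c * (p ^ b) ^ 2 := by ring
    exact Nat.eq_of_mul_eq_mul_right hpp.pos (hidx.trans h1.symm)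
  have hlt : ∑ ψ ∈ F, Cfsg.charDegree (ψ : P → ℂ) ^ 2 < T * (p - 1) := by
    refine lt_of_le_of_lt hsum_le ?_
    rw [htot, hT]
    have hpos : 0 < p ^ c * (p - 1) :=
      Nat.mul_pos (Nat.pow_pos hpp.pos) (by have := hpp.two_le; omega)
    calc p ^ c * (p - 1) * ∑ a ∈ Finset.Ico 1 b, p ^ (2 * a)
        < p ^ c * (p - 1) * p ^ (2 * b - 1) := Nat.mul_lt_mul_of_pos_left hS hpos
      _ = p ^ c * p ^ (2 * b - 1) * (p - 1) := by ring
  rw [hTidx, ← hidx, hTidx] at hsumF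
  have h2 : T * (p - 1) + T = T * p := by
    have := hpp.one_lt
    calc T * (p - 1) + T = T * ((p - 1) + 1) := by ring
      _ = T * p := by rw [Nat.sub_add_cancel (by omega)]
  omega

end Cfsg.Agent.Helper3.GalConj
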