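import Mathlib
import Cfsg.Agent.Helper3.GalConjC
import Cfsg.Agent.Helper6.PrincipalDefect

/-!
# Galois conjugacy of same-degree characters of `p`-groups: cyclic centre, induction, converse
-/

set_option autoImplicit false

namespace Cfsg.Agent.Helper3.GalConj

open Cfsg.Agent.Helper6
open scoped commutatorElement

universe u

variable {P : Type u} [Group P]

theorem normal_of_le_center' (N : Subgroup P) (h : N ≤ Subgroup.center P) : N.Normal := by
  constructor
  intro n hn g
  have := Subgroup.mem_center_iff.1 (h hn) g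
  rw [this]
  simpa using hn

/-- existence of a nonlinear irreducible character of a noncommutative group -/
theorem exists_nonlinear [Finite P] (hnc : ¬ ∀ a b : P, a * b = b * a) :
    ∃ χ : Cfsg.IrrCharacter P, Cfsg.charDegree (χ : P → ℂ) ≠ 1 := by
  by_contra hcon
  push Not at hcon
  apply hnc
  apply comm_iff_forall_irr_degree_one.2
  intro χ
  rw [← charDegree_cast_of_isCharacter (IsIrrCharacter.isCharacter χ.2), hcon χ]
  simp

theorem charDegree_trivIrr' : Cfsg.charDegree ((trivIrr P : Cfsg.IrrCharacter P) : P → ℂ) = 1 := by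
  unfold Cfsg.charDegree trivIrr
  simp

/-- **Step E.** Under the Galois hypothesis, if `|P'| = p` then the centre is cyclic. -/
theorem isCyclic_center_of_hyp [Finite P] (p : ℕ) [hp : Fact p.Prime] (hP : IsPGroup p P)
    (hH : Hyp P) (hnc : ¬ ∀ a b : P, a * b = b * a) (hcard : Nat.card (commutator P) = p) :
    IsCyclic (Subgroup.center P) := by
  classical
  haveI := Fintype.ofFinite P
  haveI : Finite (Cfsg.IrrCharacter P) := irr_finite
  haveI : Fintype (Cfsg.IrrCharacter P) := Fintype.ofFinite _
  have hpp := hp.out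
  haveI : Group.IsNilpotent P := hP.isNilpotent
  have hcen : commutator P ≤ Subgroup.center P :=
    Cdp.le_center_of_card_prime (commutator P) hpp hcard
  obtain ⟨χ, hχ⟩ := exists_nonlinear hnc
  apply isCyclic_of_injective_ringHom (centerHom χ)
  rw [injective_iff_map_eq_one]
  intro z hz
  by_contra hz1
  have hχz : (χ : P → ℂ) (z : P) = (χ : P → ℂ) 1 := (centerHom_eq_one_iff χ z).1 hz
  obtain ⟨N, hN⟩ : ∃ N : Subgroup P, N = Subgroup.zpowers (z : P) := ⟨_, rfl⟩
  have hNcen : N ≤ Subgroup.center P := by
    rw [hN, Subgroup.zpowers_le]; exact z.2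
  haveI hNn : N.Normal := normal_of_le_center' N hNcen
  have hχN : ∀ n ∈ N, (χ : P → ℂ) n = (χ : P → ℂ) 1 := by
    intro n hn
    rw [hN] at hn
    obtain ⟨i, rfl⟩ := Subgroup.mem_zpowers_iff.1 hn
    exact apply_zpow_eq_of_apply_eq χ _ hχz i
  have hN2 : 2 ≤ Nat.card N := by
    have hne : N ≠ ⊥ := by
      intro h
      apply hz1
      have : (z : P) ∈ N := by rw [hN]; exact Subgroup.mem_zpowers _
      rw [h, Subgroup.mem_bot] at this
      exact Subtype.ext this
    have := (Subgroup.one_lt_card_iff_ne_bot N).2 hne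
    omega
  -- existence of a nonlinear character nontrivial on N
  have hex : ∃ ψ : Cfsg.IrrCharacter P, Cfsg.charDegree (ψ : P → ℂ) ≠ 1 ∧
      ¬ ∀ n ∈ N, (ψ : P → ℂ) n = (ψ : P → ℂ) 1 := by
    by_contra hcon
    push Not at hcon
    have h1 := sum_sq_charDegree (G := P)
    have h2 := sum_sq_degrees_of_le_ker (commutator P)
    have h3 := sum_sq_degrees_of_le_ker N
    -- characters trivial on P' are exactly the linear ones
    have hlin : Finset.univ.filter (fun ψ : Cfsg.IrrCharacter P =>
        ∀ n ∈ commutator P, (ψ : P → ℂ) n = (ψ : P → ℂ) 1) =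
        Finset.univ.filter (fun ψ : Cfsg.IrrCharacter P => Cfsg.charDegree (ψ : P → ℂ) = 1) := by
      ext ψ
      simp only [Finset.mem_filter, Finset.mem_univ, true_and]
      constructor
      · intro h
        apply linear_of_abelian_quotient (commutator P) ψ h
        intro a b
        have : ⁅a, b⁆ ∈ commutator P := Subgroup.commutator_mem_commutator (Subgroup.mem_top a)
          (Subgroup.mem_top b)
        rwa [commutatorElement_def] at this
      · intro h
        exact trivial_on_commutator_of_degree_one ψ h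
    rw [hlin] at h2
    have h4 : ∑ ψ ∈ Finset.univ.filter (fun ψ : Cfsg.IrrCharacter P =>
        ¬ Cfsg.charDegree (ψ : P → ℂ) = 1), Cfsg.charDegree (ψ : P → ℂ) ^ 2 +
        (commutator P).index = Nat.card P := by
      rw [← h1, ← h2, add_comm]
      exact Finset.sum_filter_add_sum_filter_not _ _ _
    -- nonlinear ⊆ trivial on N, and the trivial character is extra
    have h5 : ∑ ψ ∈ Finset.univ.filter (fun ψ : Cfsg.IrrCharacter P =>
        ¬ Cfsg.charDegree (ψ : P → ℂ) = 1), Cfsg.charDegree (ψ : P → ℂ) ^ 2 + 1 ≤ N.index := by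
      rw [← h3]
      have hsub : insert (trivIrr P) (Finset.univ.filter (fun ψ : Cfsg.IrrCharacter P =>
          ¬ Cfsg.charDegree (ψ : P → ℂ) = 1)) ⊆ Finset.univ.filter
          (fun ψ : Cfsg.IrrCharacter P => ∀ n ∈ N, (ψ : P → ℂ) n = (ψ : P → ℂ) 1) := by
        intro ψ hψ
        rw [Finset.mem_insert] at hψ
        rw [Finset.mem_filter]
        refine ⟨Finset.mem_univ _, ?_⟩
        rcases hψ with rfl | hψ
        · intro n _
          rfl
        · exact hcon ψ (Finset.mem_filter.1 hψ).2
      have hnot : trivIrr P ∉ Finset.univ.filter (fun ψ : Cfsg.IrrCharacter P =>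
          ¬ Cfsg.charDegree (ψ : P → ℂ) = 1) := by
        rw [Finset.mem_filter]
        intro h
        exact h.2 charDegree_trivIrr'
      have := Finset.sum_le_sum_of_subset (f := fun ψ : Cfsg.IrrCharacter P =>
        Cfsg.charDegree (ψ : P → ℂ) ^ 2) hsub
      rw [Finset.sum_insert hnot, charDegree_trivIrr'] at this
      omega
    have h6 : (commutator P).index * p = Nat.card P := by
      rw [← hcard]; exact (commutator P).index_mul_card
    have h7 : N.index * Nat.card N = Nat.card P := N.index_mul_card
    have h8 : 2 * N.index ≤ (commutator P).index * p := by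
      rw [h6, ← h7]
      calc 2 * N.index = N.index * 2 := by ring
        _ ≤ N.index * Nat.card N := Nat.mul_le_mul_left _ hN2
    have h9 : 2 * (commutator P).index ≤ (commutator P).index * p := by
      calc 2 * (commutator P).index = (commutator P).index * 2 := by ring
        _ ≤ (commutator P).index * p := Nat.mul_le_mul_left _ hpp.two_le
    rw [← h6] at h4
    omega
  obtain ⟨ψ, hψ, hψN⟩ := hex
  have hdeg : Cfsg.charDegree (χ : P → ℂ) = Cfsg.charDegree (ψ : P → ℂ) := by
    have h1 := sq_degree_eq_index_center hpp hcard hcen χ hχ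
    have h2 := sq_degree_eq_index_center hpp hcard hcen ψ hψ
    exact Nat.pow_left_injective (by norm_num : 2 ≠ 0) (h1.trans h2.symm)
  obtain ⟨k, -, hk⟩ := hH χ ψ hχ hdeg
  exact hψN (trivial_on_of_galois χ (ψ : P → ℂ) k hk N hχN)

end Cfsg.Agent.Helper3.GalConj
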