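import Mathlib
import Cfsg.Agent.Helper3.GalConjD

/-!
# Galois conjugacy of same-degree characters of `p`-groups: the induction and the converse
-/

set_option autoImplicit false

namespace Cfsg.Agent.Helper3.GalConj

open Cfsg.Agent.Helper6
open scoped commutatorElement

universe u

/-- **Forward direction.** -/
theorem forward (p : ℕ) [hp : Fact p.Prime] : ∀ n : ℕ, ∀ (P : Type u) [Group P] [Finite P],
    Nat.card P = n → IsPGroup p P → (¬ ∀ a b : P, a * b = b * a) → Hyp P →
    IsCyclic (Subgroup.center P) ∧ Nat.card (commutator P) = p := by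
  intro n
  induction n using Nat.strong_induction_on with
  | _ n ih =>
    intro P _ _ hn hP hnc hH
    have hpp := hp.out
    have hcard : Nat.card (commutator P) = p := by
      by_contra hne
      have hne_bot : commutator P ≠ ⊥ := by
        intro h
        apply hnc
        intro a b
        have : ⁅a, b⁆ ∈ commutator P := Subgroup.commutator_mem_commutator (Subgroup.mem_top a)
          (Subgroup.mem_top b)
        rw [h, Subgroup.mem_bot, commutatorElement_eq_one_iff_mul_comm] at this
        exact this
      obtain ⟨b, hbc, hbZ, hb1⟩ :=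
        exists_mem_center_of_normal_ne_bot p hP (commutator P) hne_bot
      obtain ⟨k, hk⟩ := (exists_orderOf_eq_prime_pow_iff (p := p) (x := b)).2 (hP b)
      have hk1 : 1 ≤ k := by
        by_contra h0
        have : k = 0 := by omega
        subst this
        rw [pow_zero, orderOf_eq_one_iff] at hk
        exact hb1 hk
      obtain ⟨z, hz⟩ : ∃ z : P, z = b ^ (p ^ (k - 1)) := ⟨_, rfl⟩
      have hzord : orderOf z = p := by
        rw [hz, orderOf_pow_of_dvd (Nat.pow_pos hpp.pos).ne', hk]
        · have : k = (k - 1) + 1 := by omega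
          nth_rewrite 1 [this]
          rw [pow_succ, Nat.mul_div_cancel_left _ (Nat.pow_pos hpp.pos)]
        · rw [hk]; exact pow_dvd_pow p (by omega)
      obtain ⟨M, hMdef⟩ : ∃ M : Subgroup P, M = Subgroup.zpowers z := ⟨_, rfl⟩
      have hMcard : Nat.card M = p := by rw [hMdef, Nat.card_zpowers, hzord]
      have hMcen : M ≤ Subgroup.center P := by
        rw [hMdef, Subgroup.zpowers_le, hz]; exact Subgroup.pow_mem _ hbZ _
      have hMc : M ≤ commutator P := by
        rw [hMdef, Subgroup.zpowers_le, hz]; exact Subgroup.pow_mem _ hbc _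
      haveI : M.Normal := normal_of_le_center' M hMcen
      have hQnc : ¬ ∀ a b : P ⧸ M, a * b = b * a := by
        intro hab
        have hle : commutator P ≤ M := by
          rw [commutator_def, Subgroup.commutator_le]
          intro a _ b _
          rw [← QuotientGroup.eq_one_iff]
          have : ((⁅a, b⁆ : P) : P ⧸ M) = ⁅(a : P ⧸ M), (b : P ⧸ M)⁆ := by
            rw [commutatorElement_def, commutatorElement_def]; simp
          rw [this, commutatorElement_eq_one_iff_mul_comm]
          exact hab _ _
        have : commutator P = M := le_antisymm hle hMc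
        exact hne (by rw [this, hMcard])
      have hcardQ : Nat.card (P ⧸ M) < n := by
        have h1 := M.card_mul_index
        rw [Subgroup.index_eq_card, hMcard, hn] at h1
        have hpos : 0 < Nat.card (P ⧸ M) := Nat.card_pos
        have := hpp.two_le
        nlinarith
      obtain ⟨hcycQ, hcardcQ⟩ := ih (Nat.card (P ⧸ M)) hcardQ (P ⧸ M) rfl (hP.to_quotient M)
        hQnc (hH.quotient M)
      exact false_of_quotient p hP hH M hMcen hMcard hMc hcycQ hcardcQ
    exact ⟨isCyclic_center_of_hyp p hP hH hnc hcard, hcard⟩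

/-- **Converse.** -/
theorem backward {P : Type u} [Group P] [Finite P] (p : ℕ) [hp : Fact p.Prime]
    (hP : IsPGroup p P) (hcyc : IsCyclic (Subgroup.center P))
    (hcard : Nat.card (commutator P) = p) : Hyp P := by
  classical
  intro χ ψ hχ hdeg
  have hpp := hp.out
  have hψ : Cfsg.charDegree (ψ : P → ℂ) ≠ 1 := hdeg ▸ hχ
  haveI : Group.IsNilpotent P := hP.isNilpotent
  have hcen : commutator P ≤ Subgroup.center P :=
    Cdp.le_center_of_card_prime (commutator P) hpp hcard
  have h1eq : (ψ : P → ℂ) 1 = (χ : P → ℂ) 1 := by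
    rw [← charDegree_cast_of_isCharacter (IsIrrCharacter.isCharacter χ.2),
      ← charDegree_cast_of_isCharacter (IsIrrCharacter.isCharacter ψ.2), hdeg]
  -- the central characters are injective
  have hinj : ∀ φ : Cfsg.IrrCharacter P, Cfsg.charDegree (φ : P → ℂ) ≠ 1 →
      Function.Injective (centerHom φ) := by
    intro φ hφ
    rw [injective_iff_map_eq_one]
    intro z hz
    by_contra hz1
    have hφz : (φ : P → ℂ) (z : P) = (φ : P → ℂ) 1 := (centerHom_eq_one_iff φ z).1 hz
    obtain ⟨c, hc, hcne⟩ := exists_mem_commutator_apply_ne φ hφ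
    apply hcne
    -- an element of order p in zpowers z
    obtain ⟨k, hk⟩ := (exists_orderOf_eq_prime_pow_iff (p := p) (x := z)).2
      ((hP.to_subgroup (Subgroup.center P)) z)
    have hk1 : 1 ≤ k := by
      by_contra h0
      have : k = 0 := by omega
      subst this
      rw [pow_zero, orderOf_eq_one_iff] at hk
      exact hz1 hk
    obtain ⟨w, hw⟩ : ∃ w : Subgroup.center P, w = z ^ (p ^ (k - 1)) := ⟨_, rfl⟩
    have hword : orderOf w = p := by
      rw [hw, orderOf_pow_of_dvd (Nat.pow_pos hpp.pos).ne', hk]
      · have : k = (k - 1) + 1 := by omega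
        nth_rewrite 1 [this]
        rw [pow_succ, Nat.mul_div_cancel_left _ (Nat.pow_pos hpp.pos)]
      · rw [hk]; exact pow_dvd_pow p (by omega)
    have hScard : Nat.card (Subgroup.zpowers w) = p := by rw [Nat.card_zpowers, hword]
    -- c as an element of the centre, with c ^ p = 1
    have hcp : (⟨c, hcen hc⟩ : Subgroup.center P) ^ p = 1 := by
      apply Subtype.ext
      rw [Subgroup.coe_pow, Subgroup.coe_one]
      have h2 : (⟨c, hc⟩ : commutator P) ^ Nat.card (commutator P) = 1 := pow_card_eq_one'
      rw [hcard] at h2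
      have h3 := congrArg Subtype.val h2
      rw [Subgroup.coe_pow] at h3
      exact h3
    haveI := hcyc
    have hmem := mem_of_pow_eq_one_of_card_eq (C := Subgroup.center P)
      (Subgroup.zpowers w) p hpp.pos hScard (⟨c, hcen hc⟩ : Subgroup.center P) hcp
    obtain ⟨i, hi⟩ := Subgroup.mem_zpowers_iff.1 hmem
    have hci : c = ((z : P) ^ (p ^ (k - 1))) ^ i := by
      have := congrArg Subtype.val hi
      rw [hw] at this
      simp only [Subgroup.coe_zpow, Subgroup.coe_pow] at this
      exact this.symm
    rw [hci]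
    apply apply_zpow_eq_of_apply_eq
    exact apply_pow_eq_of_apply_eq φ _ hφz _
  -- generator of the centre
  obtain ⟨z₀, hz₀⟩ := hcyc.exists_generator
  obtain ⟨m, hm⟩ : ∃ m, m = orderOf z₀ := ⟨_, rfl⟩
  have hm0 : 0 < m := by rw [hm]; exact orderOf_pos z₀
  have hprimχ : IsPrimitiveRoot (centerHom χ z₀) m := by
    rw [hm, ← orderOf_injective (centerHom χ) (hinj χ hχ) z₀]
    exact IsPrimitiveRoot.orderOf _
  have hprimψ : IsPrimitiveRoot (centerHom ψ z₀) m := by
    rw [hm, ← orderOf_injective (centerHom ψ) (hinj ψ hψ) z₀]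
    exact IsPrimitiveRoot.orderOf _
  haveI : NeZero m := ⟨hm0.ne'⟩
  obtain ⟨i, -, hi⟩ := hprimχ.eq_pow_of_pow_eq_one hprimψ.pow_eq_one
  have hicop : i.Coprime m := by
    rw [← hprimχ.pow_iff_coprime hm0, hi]
    exact hprimψ
  -- m is a power of p and nontrivial
  have hmdvd : m ∣ Nat.card P := by
    rw [hm]
    have h1 : orderOf z₀ = orderOf (z₀ : P) := (Subgroup.orderOf_coe z₀).symm
    rw [h1]
    exact orderOf_dvd_natCard _
  obtain ⟨N, hN⟩ := IsPGroup.iff_card.1 hP
  rw [hN] at hmdvd
  obtain ⟨e, -, he⟩ := (Nat.dvd_prime_pow hpp).1 hmdvd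
  have he1 : 1 ≤ e := by
    by_contra h0
    have : e = 0 := by omega
    subst this
    rw [pow_zero] at he
    -- then centre trivial, but commutator ≤ centre has order p
    have hz₀1 : z₀ = 1 := by rw [← orderOf_eq_one_iff, ← hm, he]
    obtain ⟨c, hc, hcne⟩ := exists_mem_commutator_apply_ne χ hχ
    apply hcne
    have hcmem := hz₀ ⟨c, hcen hc⟩
    rw [hz₀1, Subgroup.zpowers_one_eq_bot, Subgroup.mem_bot] at hcmem
    have : c = 1 := congrArg Subtype.val hcmem
    rw [this]
  have hip : i.Coprime p := by
    rw [he] at hicop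
    have : p ∣ p ^ e := dvd_pow_self p (by omega)
    exact Nat.Coprime.coprime_dvd_right this hicop
  refine ⟨i, ?_, ?_⟩
  · rw [hN]; exact Nat.Coprime.pow_right _ hip
  · intro g
    by_cases hg : g ∈ Subgroup.center P
    · -- g = z₀ ^ j
      have hgm : (⟨g, hg⟩ : Subgroup.center P) ∈ Submonoid.powers z₀ :=
        (mem_powers_iff_mem_zpowers).2 (hz₀ _)
      obtain ⟨j, hj⟩ := hgm
      have h1 : (ψ : P → ℂ) g = centerHom ψ ⟨g, hg⟩ * (ψ : P → ℂ) 1 := by
        have := apply_center_mul' ψ ⟨g, hg⟩ 1
        simpa using this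
      have hgi : g ^ i ∈ Subgroup.center P := Subgroup.pow_mem _ hg _
      have h2 : (χ : P → ℂ) (g ^ i) = centerHom χ ⟨g ^ i, hgi⟩ * (χ : P → ℂ) 1 := by
        have := apply_center_mul' χ ⟨g ^ i, hgi⟩ 1
        simpa using this
      rw [h1, h2, h1eq]
      congr 1
      have h3 : (⟨g ^ i, hgi⟩ : Subgroup.center P) = (⟨g, hg⟩ : Subgroup.center P) ^ i := by
        apply Subtype.ext; simp
      rw [h3, ← hj, map_pow, map_pow, map_pow, ← hi]
      ring
    · -- both vanish
      have hgi : g ^ i ∉ Subgroup.center P := by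
        intro h
        apply hg
        have hco : i.Coprime (orderOf g) := by
          obtain ⟨r, hr⟩ := (exists_orderOf_eq_prime_pow_iff (p := p) (x := g)).2 (hP g)
          rw [hr]; exact Nat.Coprime.pow_right _ hip
        obtain ⟨t, ht⟩ := exists_pow_eq_self_of_coprime hco
        rw [← ht]
        exact Subgroup.pow_mem _ h _
      rw [vanish_off_center hpp hcard hcen ψ hψ g hg, vanish_off_center hpp hcard hcen χ hχ _ hgi]

end Cfsg.Agent.Helper3.GalConj
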