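import Mathlib

set_option autoImplicit false

namespace Cfsg.Agent.Helper3.Generous

open MulAction Pointwise

variable {α : Type*} [Fintype α] [DecidableEq α]

/-- the generosity hypothesis -/
def Gen (G : Subgroup (Equiv.Perm α)) (k : ℕ) : Prop :=
  ∀ s : Finset α, s.card = k + 1 → ∀ σ : Equiv.Perm ↥s, ∃ g ∈ G, ∀ x : ↥s, g (x : α) = σ x

/-- a generously `k`-transitive group realises on `s` (of size `k+1`) every permutation of `α`
preserving `s` -/
theorem Gen.exists_of_perm {G : Subgroup (Equiv.Perm α)} {k : ℕ} (hgen : Gen G k)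
    (s : Finset α) (hs : s.card = k + 1) (τ : Equiv.Perm α) (hτ : ∀ x, x ∈ s ↔ τ x ∈ s) :
    ∃ g : G, ∀ x ∈ s, (g : Equiv.Perm α) x = τ x := by
  obtain ⟨g, hg, h⟩ := hgen s hs (τ.subtypePerm (fun x => (hτ x).symm))
  refine ⟨⟨g, hg⟩, fun x hx => ?_⟩
  have := h ⟨x, hx⟩
  simpa using this

/-- `k`-homogeneity -/
theorem Gen.exists_map {G : Subgroup (Equiv.Perm α)} {k : ℕ} (hgen : Gen G k) :
    ∀ (n : ℕ) (Γ Γ' : Finset α), Γ.card = k → Γ'.card = k → (Γ \ Γ').card = n →
      ∃ g : G, ∀ x, x ∈ Γ ↔ (g : Equiv.Perm α) x ∈ Γ' := by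
  intro n
  induction n with
  | zero =>
    intro Γ Γ' hΓ hΓ' h0
    have hsub : Γ ⊆ Γ' := by
      rw [Finset.card_eq_zero, Finset.sdiff_eq_empty_iff_subset] at h0
      exact h0
    have heq : Γ = Γ' := Finset.eq_of_subset_of_card_le hsub (by rw [hΓ, hΓ'])
    exact ⟨1, fun x => by simp [heq]⟩
  | succ n ih =>
    intro Γ Γ' hΓ hΓ' hn
    have hne : (Γ \ Γ').Nonempty := by
      rw [← Finset.card_pos, hn]; exact Nat.succ_pos n
    obtain ⟨γ, hγ⟩ := hne
    rw [Finset.mem_sdiff] at hγ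
    have hne' : (Γ' \ Γ).Nonempty := by
      rw [← Finset.card_pos]
      have h1 := Finset.card_sdiff_add_card_inter Γ Γ'
      have h2 := Finset.card_sdiff_add_card_inter Γ' Γ
      rw [Finset.inter_comm] at h2
      omega
    obtain ⟨γ', hγ'⟩ := hne'
    rw [Finset.mem_sdiff] at hγ'
    have hs : (insert γ' Γ).card = k + 1 := by
      rw [Finset.card_insert_of_notMem hγ'.2, hΓ]
    have hτ : ∀ x, x ∈ insert γ' Γ ↔ (Equiv.swap γ γ') x ∈ insert γ' Γ := by
      intro x
      by_cases h1 : x = γ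
      · subst h1; simp [hγ.1]
      · by_cases h2 : x = γ'
        · subst h2; simp [hγ.1]
        · rw [Equiv.swap_apply_of_ne_of_ne h1 h2]
    obtain ⟨g, hg⟩ := hgen.exists_of_perm (insert γ' Γ) hs (Equiv.swap γ γ') hτ
    set Γ₁ : Finset α := insert γ' (Γ.erase γ) with hΓ₁
    have hγγ' : γ ≠ γ' := fun h => hγ.2 (h ▸ hγ'.1)
    have hΓ₁card : Γ₁.card = k := by
      rw [hΓ₁, Finset.card_insert_of_notMem (fun h => hγ'.2 (Finset.mem_of_mem_erase h)),
        Finset.card_erase_of_mem hγ.1, hΓ]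
      have : 0 < k := by rw [← hΓ]; exact Finset.card_pos.mpr ⟨γ, hγ.1⟩
      omega
    have hmap : ∀ x, x ∈ Γ ↔ (g : Equiv.Perm α) x ∈ Γ₁ := by
      intro x
      constructor
      · intro hx
        rw [hg x (Finset.mem_insert_of_mem hx), hΓ₁]
        by_cases h1 : x = γ
        · subst h1; simp
        · have h2 : x ≠ γ' := fun h => hγ'.2 (h ▸ hx)
          rw [Equiv.swap_apply_of_ne_of_ne h1 h2]
          exact Finset.mem_insert_of_mem (Finset.mem_erase.mpr ⟨h1, hx⟩)
      · intro hx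
        -- use injectivity and counting: g maps Γ into Γ₁ injectively, cards equal
        by_contra hxΓ
        have himg : Γ.image (g : Equiv.Perm α) ⊆ Γ₁ := by
          intro y hy
          obtain ⟨z, hz, rfl⟩ := Finset.mem_image.mp hy
          rw [hg z (Finset.mem_insert_of_mem hz), hΓ₁]
          by_cases h1 : z = γ
          · subst h1; simp
          · have h2 : z ≠ γ' := fun h => hγ'.2 (h ▸ hz)
            rw [Equiv.swap_apply_of_ne_of_ne h1 h2]
            exact Finset.mem_insert_of_mem (Finset.mem_erase.mpr ⟨h1, hz⟩)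
        have hcard : (Γ.image (g : Equiv.Perm α)).card = k := by
          rw [Finset.card_image_of_injective _ (g : Equiv.Perm α).injective, hΓ]
        have heq : Γ.image (g : Equiv.Perm α) = Γ₁ :=
          Finset.eq_of_subset_of_card_le himg (by rw [hcard, hΓ₁card])
        rw [← heq] at hx
        obtain ⟨z, hz, hzx⟩ := Finset.mem_image.mp hx
        exact hxΓ ((g : Equiv.Perm α).injective hzx ▸ hz)
    have hn1 : (Γ₁ \ Γ').card = n := by
      have : Γ₁ \ Γ' = (Γ \ Γ').erase γ := by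
        ext x
        simp only [hΓ₁, Finset.mem_sdiff, Finset.mem_insert, Finset.mem_erase]
        constructor
        · rintro ⟨h1 | ⟨h1, h2⟩, h3⟩
          · exact absurd (h1 ▸ hγ'.1) h3
          · exact ⟨h1, h2, h3⟩
        · rintro ⟨h1, h2, h3⟩
          exact ⟨Or.inr ⟨h1, h2⟩, h3⟩
      rw [this, Finset.card_erase_of_mem (Finset.mem_sdiff.mpr hγ), hn]
      rfl
    obtain ⟨g₁, hg₁⟩ := ih Γ₁ Γ' hΓ₁card hΓ' hn1
    refine ⟨g₁ * g, fun x => ?_⟩
    rw [hmap x, hg₁]
    rfl

/-- a cyclic permutation of the finite set `A` -/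
theorem exists_cycle (A : Finset α) (hA : 2 ≤ A.card) :
    ∃ c : Equiv.Perm α, (∀ y, y ∉ A → c y = y) ∧ (∀ y, c y ∈ A ↔ y ∈ A) ∧
      ∀ a ∈ A, ∀ b ∈ A, ∃ n : ℕ, (c ^ n) a = b := by
  have hnd : A.toList.Nodup := A.nodup_toList
  have hlen : 2 ≤ A.toList.length := by rw [Finset.length_toList]; exact hA
  refine ⟨A.toList.formPerm, ?_, ?_, ?_⟩
  · intro y hy
    exact List.formPerm_apply_of_notMem (by simpa using hy)
  · intro y
    have := List.formPerm_mem_iff_mem (l := A.toList) (x := y)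
    rw [Finset.mem_toList, Finset.mem_toList] at this
    exact this
  · intro a ha b hb
    have hcyc : (A.toList.formPerm).IsCycle := List.isCycle_formPerm hnd hlen
    have hsupp : (A.toList.formPerm).support = A := by
      rw [List.support_formPerm_of_nodup _ hnd, Finset.toList_toFinset]
      intro x hx
      rw [hx] at hlen
      simp at hlen
    have ha' : A.toList.formPerm a ≠ a := by
      rw [← Equiv.Perm.mem_support, hsupp]; exact ha
    have hb' : A.toList.formPerm b ≠ b := by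
      rw [← Equiv.Perm.mem_support, hsupp]; exact hb
    exact hcyc.exists_pow_eq ha' hb'

/-- a `p`-group stabilising a finite set of size prime to `p` fixes a point of it -/
theorem exists_fixed_of_pgroup {H β : Type*} [Group H] [MulAction H β] {p : ℕ} [Fact p.Prime]
    (hH : IsPGroup p H) (D : Set β) (hinv : ∀ y : H, ∀ b ∈ D, y • b ∈ D)
    (hnd : ¬ p ∣ Nat.card D) : ∃ ε ∈ D, ∀ y : H, y • ε = ε := by
  let S : SubMulAction H β := { carrier := D, smul_mem' := fun y b hb => hinv y b hb }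
  have hcard : Nat.card S = Nat.card D := rfl
  have hnd' : ¬ p ∣ Nat.card S := by rw [hcard]; exact hnd
  obtain ⟨⟨ε, hε⟩, hfixed⟩ := hH.nonempty_fixed_point_of_prime_not_dvd_card S hnd'
  refine ⟨ε, hε, fun y => ?_⟩
  have := hfixed y
  exact congrArg Subtype.val this

end Cfsg.Agent.Helper3.Generous
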