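import Mathlib
import Cfsg.Agent.Helper3.GenerousA

set_option autoImplicit false

namespace Cfsg.Agent.Helper3.Generous

open MulAction Pointwise

variable {α : Type*} [Fintype α] [DecidableEq α]

theorem main (G : Subgroup (Equiv.Perm α)) {k : ℕ} (hgen : Gen G k) {p : ℕ} (hp : p.Prime)
    (hpk : p ≤ k) (Γ : Finset α) (hΓ : Γ.card = k) (f : Fin p → α) (hf : ∀ i, f i ∉ Γ)
    (hdist : ∀ i j, i ≠ j → f j ∉ MulAction.orbit (fixingSubgroup G (Γ : Set α)) (f i)) :
    ∃ i, p ∣ Nat.card (MulAction.orbit (fixingSubgroup G (Γ : Set α)) (f i)) := by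
  classical
  by_contra hcon
  push Not at hcon
  have := Fact.mk hp
  set R : Subgroup G := fixingSubgroup G (Γ : Set α) with hR
  have hRmem : ∀ r : G, r ∈ R ↔ ∀ y ∈ Γ, (r : Equiv.Perm α) y = y := by
    intro r
    rw [hR, mem_fixingSubgroup_iff]
    rfl
  obtain ⟨A, hAΓ, hAcard⟩ := Finset.exists_subset_card_eq (hpk.trans hΓ.ge)
  obtain ⟨c, hc_out, hc_mem, hc_cyc⟩ := exists_cycle A (by rw [hAcard]; exact hp.two_le)
  have hcΓ : ∀ y, y ∈ Γ ↔ c y ∈ Γ := by
    intro y
    by_cases hy : y ∈ A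
    · exact ⟨fun _ => hAΓ ((hc_mem y).mpr hy), fun _ => hAΓ hy⟩
    · rw [hc_out y hy]
  -- the elements `g i`
  have hg : ∀ i, ∃ g : G, (∀ γ ∈ Γ, (g : Equiv.Perm α) γ = c γ) ∧ (g : Equiv.Perm α) (f i) = f i := by
    intro i
    have hs : (insert (f i) Γ).card = k + 1 := by
      rw [Finset.card_insert_of_notMem (hf i), hΓ]
    have hτ : ∀ x, x ∈ insert (f i) Γ ↔ c x ∈ insert (f i) Γ := by
      intro x
      have hfA : f i ∉ A := fun h => hf i (hAΓ h)
      by_cases hx : x = f i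
      · subst hx
        rw [hc_out _ hfA]
      · have hcx : c x ≠ f i := by
          intro h
          have : c x = c (f i) := by rw [h, hc_out _ hfA]
          exact hx (c.injective this)
        simp only [Finset.mem_insert, hx, hcx, false_or]
        exact hcΓ x
    obtain ⟨g, hg⟩ := hgen.exists_of_perm _ hs c hτ
    refine ⟨g, fun γ hγ => hg γ (Finset.mem_insert_of_mem hγ), ?_⟩
    rw [hg _ (Finset.mem_insert_self _ _)]
    exact hc_out _ (fun h => hf i (hAΓ h))
  choose g hgΓ hgf using hg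
  -- orbits
  set Δ : Fin p → Set α := fun i => MulAction.orbit R (f i) with hΔ
  have hΔfin : ∀ i, (Δ i).Finite := fun i => Set.toFinite _
  have hΔout : ∀ i, ∀ y ∈ Δ i, y ∉ Γ := by
    intro i y hy hyΓ
    obtain ⟨r, hr⟩ := MulAction.mem_orbit_iff.mp hy
    have hr' : ((r : G) : Equiv.Perm α) (f i) = y := hr
    have h1 : ((r : G) : Equiv.Perm α) y = y := (hRmem r).mp r.2 y hyΓ
    have : f i = y := ((r : G) : Equiv.Perm α).injective (hr'.trans h1.symm)
    exact hf i (this ▸ hyΓ)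
  -- the subgroup K
  set K : Subgroup G := ((⨅ i, stabilizer G (Δ i)) ⊓ stabilizer G ((A : Finset α) : Set α)) ⊓
    fixingSubgroup G (((Γ \ A : Finset α) : Finset α) : Set α) with hK
  have hKmem : ∀ h : G, h ∈ K ↔ (∀ i, ∀ y ∈ Δ i, (h : Equiv.Perm α) y ∈ Δ i) ∧
      (∀ a ∈ A, (h : Equiv.Perm α) a ∈ A) ∧ (∀ y ∈ Γ \ A, (h : Equiv.Perm α) y = y) := by
    intro h
    rw [hK, Subgroup.mem_inf, Subgroup.mem_inf, Subgroup.mem_iInf, mem_fixingSubgroup_iff,
      mem_stabilizer_set' (Finset.finite_toSet A)]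
    constructor
    · rintro ⟨⟨h1, h2⟩, h3⟩
      refine ⟨fun i y hy => ?_, fun a ha => h2 ha, fun y hy => h3 y (by exact_mod_cast hy)⟩
      exact (mem_stabilizer_set' (hΔfin i)).mp (h1 i) hy
    · rintro ⟨h1, h2, h3⟩
      refine ⟨⟨fun i => (mem_stabilizer_set' (hΔfin i)).mpr (fun y hy => h1 i y hy),
        fun a ha => h2 a (by exact_mod_cast ha)⟩, fun y hy => h3 y (by exact_mod_cast hy)⟩
  -- every element acting on `Γ` like `c` lies in `K`
  have hK2 : ∀ h : G, (∀ γ ∈ Γ, (h : Equiv.Perm α) γ = c γ) → h ∈ K := by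
    intro h hh
    rw [hKmem]
    refine ⟨fun j y hy => ?_, fun a ha => ?_, fun y hy => ?_⟩
    · obtain ⟨r, hr⟩ := MulAction.mem_orbit_iff.mp hy
      have hr' : ((r : G) : Equiv.Perm α) (f j) = y := hr
      have hmem : h * (r : G) * (g j)⁻¹ ∈ R := by
        rw [hRmem]
        intro γ hγ
        have h0 : c.symm γ ∈ Γ := by
          rw [hcΓ]; simpa using hγ
        have h1 : ((g j : G) : Equiv.Perm α).symm γ = c.symm γ := by
          rw [Equiv.symm_apply_eq, hgΓ j _ h0]; simp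
        have h2 : ((r : G) : Equiv.Perm α) (c.symm γ) = c.symm γ := (hRmem r).mp r.2 _ h0
        show (h : Equiv.Perm α) (((r : G) : Equiv.Perm α) (((g j : G) : Equiv.Perm α)⁻¹ γ)) = γ
        rw [Equiv.Perm.inv_def, h1, h2, hh _ h0]; simp
      refine MulAction.mem_orbit_iff.mpr ⟨⟨_, hmem⟩, ?_⟩
      show (h : Equiv.Perm α) (((r : G) : Equiv.Perm α) (((g j : G) : Equiv.Perm α)⁻¹ (f j))) = _
      have h3 : ((g j : G) : Equiv.Perm α)⁻¹ (f j) = f j := by
        rw [Equiv.Perm.inv_def, Equiv.symm_apply_eq, hgf j]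
      rw [h3, hr']
    · rw [hh a (hAΓ ha)]; exact (hc_mem a).mpr ha
    · rw [Finset.mem_sdiff] at hy
      rw [hh y hy.1, hc_out y hy.2]
  have hK1 : R ≤ K := by
    intro r hr
    rw [hKmem]
    refine ⟨fun j y hy => ?_, fun a ha => ?_, fun y hy => ?_⟩
    · obtain ⟨r', hr'⟩ := MulAction.mem_orbit_iff.mp hy
      refine MulAction.mem_orbit_iff.mpr ⟨⟨r, hr⟩ * r', ?_⟩
      rw [mul_smul, hr']
      rfl
    · rw [(hRmem r).mp hr a (hAΓ ha)]; exact ha
    · rw [Finset.mem_sdiff] at hy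
      exact (hRmem r).mp hr y hy.1
  -- the orbit of a point of `A`
  have hAne : A.Nonempty := by
    rw [← Finset.card_pos, hAcard]; exact hp.pos
  obtain ⟨a₁, ha₁⟩ := hAne
  set x : G := g ⟨0, hp.pos⟩ with hx
  have hxK : x ∈ K := hK2 x (hgΓ _)
  have hpowA : ∀ n : ℕ, (c ^ n) a₁ ∈ A := by
    intro n
    induction n with
    | zero => simpa using ha₁
    | succ n ih =>
      rw [pow_succ', Equiv.Perm.mul_apply]
      exact (hc_mem _).mpr ih
  have hxpow : ∀ n : ℕ, ((x ^ n : G) : Equiv.Perm α) a₁ = (c ^ n) a₁ := by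
    intro n
    induction n with
    | zero => simp
    | succ n ih =>
      rw [pow_succ', pow_succ', Subgroup.coe_mul, Equiv.Perm.mul_apply, ih, Equiv.Perm.mul_apply]
      exact hgΓ _ _ (hAΓ (hpowA n))
  have horb : MulAction.orbit K a₁ = ((A : Finset α) : Set α) := by
    ext y
    rw [MulAction.mem_orbit_iff]
    constructor
    · rintro ⟨k', rfl⟩
      exact ((hKmem k').mp k'.2).2.1 a₁ ha₁
    · intro hy
      obtain ⟨n, hn⟩ := hc_cyc a₁ ha₁ y (by exact_mod_cast hy)
      refine ⟨⟨x ^ n, K.pow_mem hxK n⟩, ?_⟩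
      rw [← hn, ← hxpow n]
      rfl
  have horbcard : Nat.card (MulAction.orbit K a₁) = p := by
    rw [horb, Nat.card_coe_set_eq, Set.ncard_coe_finset, hAcard]
  have hdvd : p * Nat.card R ∣ Nat.card K := by
    have h1 : Nat.card (stabilizer K a₁) * (stabilizer K a₁).index = Nat.card K :=
      Subgroup.card_mul_index _
    rw [MulAction.index_stabilizer, ← Nat.card_coe_set_eq, horbcard] at h1
    have h2 : R.subgroupOf K ≤ stabilizer K a₁ := by
      intro r hr
      rw [Subgroup.mem_subgroupOf] at hr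
      rw [MulAction.mem_stabilizer_iff]
      exact (hRmem r).mp hr a₁ (hAΓ ha₁)
    have h3 : Nat.card (R.subgroupOf K) = Nat.card R :=
      Nat.card_congr (Subgroup.subgroupOfEquivOfLe hK1).toEquiv
    have h4 : Nat.card R ∣ Nat.card (stabilizer K a₁) := by
      rw [← h3]; exact Subgroup.card_dvd_of_le h2
    rw [← h1, mul_comm]
    exact Nat.mul_dvd_mul_right h4 p
  -- a Sylow `p`-subgroup of `K`
  obtain ⟨P⟩ : Nonempty (Sylow p K) := inferInstance
  have hPcard : Nat.card P = p ^ (Nat.card K).factorization p := P.card_eq_multiplicity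
  have hfix : ∀ i, ∃ ε ∈ Δ i, ∀ y : K, y ∈ (P : Subgroup K) →
      ((y : G) : Equiv.Perm α) ε = ε := by
    intro i
    obtain ⟨ε, hε, hfixed⟩ := exists_fixed_of_pgroup (H := ↥(P : Subgroup K)) (β := α) P.2 (Δ i)
      (fun y b hb => ((hKmem ((y : K) : G)).mp (y : K).2).1 i b hb) (hcon i)
    exact ⟨ε, hε, fun y hy => hfixed ⟨y, hy⟩⟩
  choose ε hεΔ hεfix using hfix
  have hεinj : Function.Injective ε := by
    intro i j hij
    by_contra hne
    have h1 : MulAction.orbit R (ε i) = MulAction.orbit R (f i) :=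
      MulAction.orbit_eq_iff.mpr (hεΔ i)
    have h2 : MulAction.orbit R (ε j) = MulAction.orbit R (f j) :=
      MulAction.orbit_eq_iff.mpr (hεΔ j)
    have h3 : f j ∈ MulAction.orbit R (f i) := by
      rw [← h1, hij, h2]; exact MulAction.mem_orbit_self _
    exact hdist i j hne h3
  set Γ' : Finset α := (Γ \ A) ∪ Finset.univ.image ε with hΓ'
  have hΓ'card : Γ'.card = k := by
    rw [hΓ', Finset.card_union_of_disjoint, Finset.card_sdiff_of_subset hAΓ,
      Finset.card_image_of_injective _ hεinj, Finset.card_univ, Fintype.card_fin, hΓ, hAcard]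
    · omega
    · rw [Finset.disjoint_left]
      intro y hy hy'
      obtain ⟨i, -, rfl⟩ := Finset.mem_image.mp hy'
      exact hΔout i _ (hεΔ i) (Finset.mem_sdiff.mp hy).1
  obtain ⟨g₀, hg₀⟩ := hgen.exists_map _ Γ Γ' hΓ hΓ'card rfl
  have hsmul : g₀ • ((Γ : Finset α) : Set α) = ((Γ' : Finset α) : Set α) := by
    ext y
    rw [Set.mem_smul_set_iff_inv_smul_mem]
    have : (g₀⁻¹ • y : α) ∈ Γ ↔ (g₀ : Equiv.Perm α) (g₀⁻¹ • y) ∈ Γ' := hg₀ _
    have h2 : (g₀ : Equiv.Perm α) (g₀⁻¹ • y) = y := by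
      show g₀ • (g₀⁻¹ • y) = y
      rw [smul_inv_smul]
    rw [h2] at this
    exact_mod_cast this
  have hcardR' : Nat.card (fixingSubgroup G ((Γ' : Finset α) : Set α)) = Nat.card R :=
    (Nat.card_congr (SubMulAction.fixingSubgroupEquivFixingSubgroup hsmul).toEquiv).symm
  have hPle : (P : Subgroup K).map K.subtype ≤ fixingSubgroup G ((Γ' : Finset α) : Set α) := by
    rintro _ ⟨y, hy, rfl⟩
    rw [mem_fixingSubgroup_iff]
    intro z hz
    have hz' : z ∈ Γ' := by exact_mod_cast hz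
    rw [hΓ', Finset.mem_union] at hz'
    rcases hz' with hz' | hz'
    · exact ((hKmem (y : G)).mp y.2).2.2 z hz'
    · obtain ⟨i, -, rfl⟩ := Finset.mem_image.mp hz'
      exact hεfix i y hy
  have hPcard' : Nat.card ((P : Subgroup K).map K.subtype) = Nat.card P :=
    Subgroup.card_map_of_injective K.subtype_injective
  have hPdvd : Nat.card P ∣ Nat.card R := by
    rw [← hcardR', ← hPcard']
    exact Subgroup.card_dvd_of_le hPle
  have hfinal : p ^ ((Nat.card K).factorization p + 1) ∣ Nat.card K := by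
    rw [pow_succ']
    rw [hPcard] at hPdvd
    exact (Nat.mul_dvd_mul_left p hPdvd).trans hdvd
  exact Nat.pow_succ_factorization_not_dvd Nat.card_pos.ne' hp hfinal

end Cfsg.Agent.Helper3.Generous
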