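import Mathlib

/-!
# Degrees of irreducible representations of `q`-groups (helpers)
-/

set_option autoImplicit false

namespace Cfsg.Agent.Helper3.HH

open Module

variable {K : Type*} [Field K] {V : Type*} [AddCommGroup V] [Module K V]
  {P : Type*} [Group P]

theorem hom_mul_inv (σ : P →* (V →ₗ[K] V)) (g : P) : σ g * σ g⁻¹ = 1 := by
  rw [← map_mul, mul_inv_cancel, map_one]

theorem hom_inv_mul (σ : P →* (V →ₗ[K] V)) (g : P) : σ g⁻¹ * σ g = 1 := by
  rw [← map_mul, inv_mul_cancel, map_one]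

theorem hom_injective (σ : P →* (V →ₗ[K] V)) (g : P) : Function.Injective (σ g) := by
  intro x y hxy
  have := congrArg (σ g⁻¹) hxy
  rw [← Module.End.mul_apply, ← Module.End.mul_apply, hom_inv_mul] at this
  exact this

theorem hom_ne_zero [Nontrivial V] (σ : P →* (V →ₗ[K] V)) (g : P) : σ g ≠ 0 := by
  intro h
  have := hom_inv_mul σ g
  rw [h, mul_zero] at this
  exact zero_ne_one this

theorem smul_hom_cancel [Nontrivial V] (σ : P →* (V →ₗ[K] V)) (g : P) {c d : K}
    (h : c • σ g = d • σ g) : c = d := by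
  by_contra hne
  have h1 : (c - d) • σ g = 0 := by rw [sub_smul, h, sub_self]
  rcases smul_eq_zero.1 h1 with h2 | h2
  · exact hne (sub_eq_zero.1 h2)
  · exact hom_ne_zero σ g h2

/-- the elements acting as scalars. -/
def scalarSub [Nontrivial V] (σ : P →* (V →ₗ[K] V)) : Subgroup P where
  carrier := {g | ∃ c : K, σ g = c • (1 : V →ₗ[K] V)}
  mul_mem' := by
    rintro a b ⟨c, hc⟩ ⟨d, hd⟩
    refine ⟨c * d, ?_⟩
    rw [map_mul, hc, hd, smul_mul_smul_comm, mul_one]
  one_mem' := ⟨1, by rw [map_one, one_smul]⟩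
  inv_mem' := by
    rintro a ⟨c, hc⟩
    have h1 := hom_inv_mul σ a
    rw [hc, mul_smul_comm, mul_one] at h1
    have hc0 : c ≠ 0 := by
      intro h0
      rw [h0, zero_smul] at h1
      exact zero_ne_one h1
    refine ⟨c⁻¹, ?_⟩
    rw [← h1, smul_smul, inv_mul_cancel₀ hc0, one_smul]

theorem mem_scalarSub [Nontrivial V] {σ : P →* (V →ₗ[K] V)} {g : P} :
    g ∈ scalarSub σ ↔ ∃ c : K, σ g = c • (1 : V →ₗ[K] V) := Iff.rfl

instance scalarSub_normal [Nontrivial V] (σ : P →* (V →ₗ[K] V)) : (scalarSub σ).Normal := by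
  constructor
  rintro n ⟨c, hc⟩ g
  refine ⟨c, ?_⟩
  rw [map_mul, map_mul, hc, mul_smul_comm, mul_one, smul_mul_assoc, hom_mul_inv]

/-- the elements commuting with a given one. -/
def commSub (σ : P →* (V →ₗ[K] V)) (a : P) : Subgroup P where
  carrier := {g | σ a * σ g = σ g * σ a}
  mul_mem' := by
    intro x y hx hy
    simp only [Set.mem_ofPred_eq] at hx hy ⊢
    rw [map_mul, ← mul_assoc, hx, mul_assoc, hy, mul_assoc]
  one_mem' := by
    simp only [Set.mem_ofPred_eq]
    rw [map_one, mul_one, one_mul]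
  inv_mem' := by
    intro x hx
    simp only [Set.mem_ofPred_eq] at hx ⊢
    calc σ a * σ x⁻¹ = σ x⁻¹ * (σ x * σ a) * σ x⁻¹ := by
            rw [← mul_assoc, hom_inv_mul, one_mul]
      _ = σ x⁻¹ * (σ a * σ x) * σ x⁻¹ := by rw [hx]
      _ = σ x⁻¹ * σ a := by
            rw [mul_assoc, mul_assoc, hom_mul_inv, mul_one]

theorem mem_commSub {σ : P →* (V →ₗ[K] V)} {a g : P} :
    g ∈ commSub σ a ↔ σ a * σ g = σ g * σ a := Iff.rfl


end Cfsg.Agent.Helper3.HH
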