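import Mathlib
import Cfsg.Agent.Helper3.HHQpowA

set_option autoImplicit false

namespace Cfsg.Agent.Helper3.HH

open Module

/-- the degree of an irreducible representation of a `q`-group over an algebraically closed
field is a power of `q`. -/
theorem qpow_dim {K : Type*} [Field K] [IsAlgClosed K] (q : ℕ) [Fact q.Prime] :
    ∀ (n : ℕ) {P : Type*} [Group P] [Finite P] {V : Type*} [AddCommGroup V] [Module K V]
      [FiniteDimensional K V] [Nontrivial V] (σ : P →* (V →ₗ[K] V)),
      Nat.card P = n → IsPGroup q P →
      (∀ W : Submodule K V, (∀ g : P, W.map (σ g) ≤ W) → W = ⊥ ∨ W = ⊤) →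
      ∃ b : ℕ, finrank K V = q ^ b := by
  intro n
  induction n using Nat.strong_induction_on with
  | _ n ih =>
  intro P _ _ V _ _ _ _ σ hn hP hirr
  classical
  by_cases hS : scalarSub σ = ⊤
  · -- all scalar
    obtain ⟨v, hv⟩ := exists_ne (0 : V)
    have hinv : ∀ g : P, (Submodule.span K {v}).map (σ g) ≤ Submodule.span K {v} := by
      intro g
      obtain ⟨c, hc⟩ := mem_scalarSub.1 (hS ▸ Subgroup.mem_top g)
      rintro _ ⟨w, hw, rfl⟩
      rw [hc, LinearMap.smul_apply, Module.End.one_apply]
      exact Submodule.smul_mem _ _ hw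
    rcases hirr _ hinv with h | h
    · exact absurd ((Submodule.span_singleton_eq_bot).1 h) hv
    · refine ⟨0, ?_⟩
      rw [pow_zero, ← finrank_top K V, ← h, finrank_span_singleton hv]
  · haveI : Nontrivial (P ⧸ scalarSub σ) := QuotientGroup.nontrivial_iff.2 hS
    have hPq : IsPGroup q (P ⧸ scalarSub σ) := hP.to_quotient _
    haveI := hPq.center_nontrivial
    obtain ⟨⟨z, hz⟩, hz1⟩ := exists_ne (1 : Subgroup.center (P ⧸ scalarSub σ))
    obtain ⟨a, rfl⟩ := QuotientGroup.mk_surjective z
    have haS : a ∉ scalarSub σ := by
      intro ha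
      apply hz1
      apply Subtype.ext
      exact (QuotientGroup.eq_one_iff a).2 ha
    have hcomm : ∀ g : P, ∃ c : K, σ a * σ g = c • (σ g * σ a) := by
      intro g
      have h1 := Subgroup.mem_center_iff.1 hz (g : P ⧸ scalarSub σ)
      rw [← QuotientGroup.mk_mul, ← QuotientGroup.mk_mul, QuotientGroup.eq] at h1
      obtain ⟨c, hc⟩ := mem_scalarSub.1 h1
      refine ⟨c, ?_⟩
      have h2 : a * g = (g * a) * ((g * a)⁻¹ * (a * g)) := by group
      rw [← map_mul, ← map_mul, h2, map_mul, hc, mul_smul_comm, mul_one]
    choose ζ hζ using hcomm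
    have hζmul : ∀ g h : P, ζ (g * h) = ζ g * ζ h := by
      intro g h
      apply smul_hom_cancel σ (g * h * a)
      have e1 : σ a * σ (g * h) = ζ (g * h) • σ (g * h * a) := by
        rw [hζ, ← map_mul]
      have e2 : σ a * σ (g * h) = (ζ g * ζ h) • σ (g * h * a) := by
        rw [map_mul σ g h, ← mul_assoc, hζ, smul_mul_assoc, mul_assoc, hζ, mul_smul_comm,
          smul_smul, ← mul_assoc, ← map_mul, ← map_mul]
      rw [← e1, e2]
    have hζone : ζ 1 = 1 := by
      apply smul_hom_cancel σ a
      have := hζ 1
      rw [map_one, mul_one, one_mul] at this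
      rw [one_smul]
      exact this.symm
    have hζinv : ∀ g : P, ζ g⁻¹ * ζ g = 1 := by
      intro g
      rw [← hζmul, inv_mul_cancel, hζone]
    have hζH : ∀ g : P, g ∈ commSub σ a ↔ ζ g = 1 := by
      intro g
      rw [mem_commSub]
      constructor
      · intro h
        apply smul_hom_cancel σ (g * a)
        rw [one_smul, map_mul, ← hζ, h]
      · intro h
        rw [hζ, h, one_smul]
    obtain ⟨μ, hμ⟩ := Module.End.exists_eigenvalue (σ a)
    have hW0 : Module.End.eigenspace (σ a) μ ≠ ⊥ := Module.End.hasEigenvalue_iff.1 hμ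
    have hμ0 : μ ≠ 0 := by
      intro h0
      obtain ⟨v, hv, hv0⟩ := Submodule.exists_mem_ne_zero_of_ne_bot hW0
      rw [Module.End.mem_eigenspace_iff, h0, zero_smul] at hv
      apply hv0
      apply hom_injective σ a
      rw [hv, map_zero]
    have hmap : ∀ (g : P) (v : V), v ∈ Module.End.eigenspace (σ a) μ →
        σ g v ∈ Module.End.eigenspace (σ a) (ζ g * μ) := by
      intro g v hv
      rw [Module.End.mem_eigenspace_iff] at hv ⊢
      rw [← Module.End.mul_apply, hζ, LinearMap.smul_apply, Module.End.mul_apply, hv, map_smul,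
        smul_smul]
    -- the subgroup H is proper
    have hHne : commSub σ a ≠ ⊤ := by
      intro hH
      have hinv : ∀ g : P, (Module.End.eigenspace (σ a) μ).map (σ g) ≤
          Module.End.eigenspace (σ a) μ := by
        intro g
        rintro _ ⟨w, hw, rfl⟩
        have := hmap g w hw
        rwa [(hζH g).1 (hH ▸ Subgroup.mem_top g), one_mul] at this
      rcases hirr _ hinv with h | h
      · exact hW0 h
      · apply haS
        refine ⟨μ, ?_⟩
        ext v
        have hv : v ∈ Module.End.eigenspace (σ a) μ := h ▸ Submodule.mem_top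
        rw [Module.End.mem_eigenspace_iff] at hv
        rw [hv, LinearMap.smul_apply, Module.End.one_apply]
    -- the family of subspaces
    let ι := P ⧸ commSub σ a
    haveI : Fintype ι := Fintype.ofFinite ι
    let A : ι → Submodule K V := fun c => (Module.End.eigenspace (σ a) μ).map (σ c.out)
    let ν : ι → K := fun c => ζ c.out * μ
    have hνinj : Function.Injective ν := by
      intro c c' h
      have h1 : ζ c.out = ζ c'.out := mul_right_cancel₀ hμ0 h
      have h2 : ζ (c.out⁻¹ * c'.out) = 1 := by
        rw [hζmul, ← h1, hζinv]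
      have h3 := (hζH _).2 h2
      have h4 : (QuotientGroup.mk c.out : ι) = QuotientGroup.mk c'.out := QuotientGroup.eq.2 h3
      rwa [QuotientGroup.out_eq', QuotientGroup.out_eq'] at h4
    have hAle : A ≤ fun c => Module.End.eigenspace (σ a) (ν c) := by
      intro c
      rintro _ ⟨w, hw, rfl⟩
      exact hmap _ w hw
    have hind : iSupIndep A :=
      ((Module.End.eigenspaces_iSupIndep (σ a)).comp hνinj).mono hAle
    have hHstab : ∀ h ∈ commSub σ a, ∀ v ∈ Module.End.eigenspace (σ a) μ,
        σ h v ∈ Module.End.eigenspace (σ a) μ := by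
      intro h hh v hv
      have := hmap h v hv
      rwa [(hζH h).1 hh, one_mul] at this
    have hsup : iSup A = ⊤ := by
      have hinv : ∀ g : P, (iSup A).map (σ g) ≤ iSup A := by
        intro g
        rw [Submodule.map_iSup]
        apply iSup_le
        intro c
        rintro _ ⟨_, ⟨w, hw, rfl⟩, rfl⟩
        -- σ g (σ c.out w)
        let c' : ι := QuotientGroup.mk (g * c.out)
        have hh : c'.out⁻¹ * (g * c.out) ∈ commSub σ a := by
          have : (QuotientGroup.mk c'.out : ι) = QuotientGroup.mk (g * c.out) :=
            QuotientGroup.out_eq' c'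
          exact QuotientGroup.eq.1 this
        have e : σ g (σ c.out w) = σ c'.out (σ (c'.out⁻¹ * (g * c.out)) w) := by
          rw [← Module.End.mul_apply, ← Module.End.mul_apply, ← map_mul, ← map_mul]
          congr 2
          group
        rw [e]
        apply Submodule.mem_iSup_of_mem c'
        exact ⟨_, hHstab _ hh w hw, rfl⟩
      rcases hirr _ hinv with h | h
      · exfalso
        apply hW0
        rw [eq_bot_iff]
        intro w hw
        have h1 : σ (QuotientGroup.mk 1 : ι).out w ∈ iSup A :=
          Submodule.mem_iSup_of_mem (QuotientGroup.mk 1 : ι) ⟨w, hw, rfl⟩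
        rw [h, Submodule.mem_bot] at h1
        rw [Submodule.mem_bot]
        apply hom_injective σ (QuotientGroup.mk 1 : ι).out
        rw [h1, map_zero]
      · exact h
    have hAdim : ∀ c, finrank K (A c) = finrank K (Module.End.eigenspace (σ a) μ) := by
      intro c
      exact (LinearEquiv.finrank_eq (Submodule.equivMapOfInjective (σ c.out)
        (hom_injective σ c.out) (Module.End.eigenspace (σ a) μ))).symm
    have hint : DirectSum.IsInternal A :=
      DirectSum.isInternal_submodule_of_iSupIndep_of_iSup_eq_top hind hsup
    have hdim : finrank K V = Fintype.card ι * finrank K (Module.End.eigenspace (σ a) μ) := by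
      rw [← LinearEquiv.finrank_eq (LinearEquiv.ofBijective (DirectSum.coeLinearMap A) hint),
        Module.finrank_directSum]
      rw [Finset.sum_congr rfl (fun c _ => hAdim c), Finset.sum_const, Finset.card_univ,
        smul_eq_mul]
    obtain ⟨k, hk⟩ := hP.index (commSub σ a)
    have hcard : Fintype.card ι = q ^ k := by
      rw [← hk, Subgroup.index_eq_card, Nat.card_eq_fintype_card]
    -- the restricted representation
    let σ' : ↥(commSub σ a) →* (↥(Module.End.eigenspace (σ a) μ) →ₗ[K]
        ↥(Module.End.eigenspace (σ a) μ)) :=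
      { toFun := fun h => (σ (h : P)).restrict (hHstab h h.2)
        map_one' := by
          ext v
          simp
        map_mul' := by
          intro x y
          ext v
          simp [Module.End.mul_apply] }
    have hσ' : ∀ (h : ↥(commSub σ a)) (v : ↥(Module.End.eigenspace (σ a) μ)),
        ((σ' h v : ↥(Module.End.eigenspace (σ a) μ)) : V) = σ (h : P) (v : V) := by
      intro h v
      rfl
    haveI : Nontrivial ↥(Module.End.eigenspace (σ a) μ) :=
      (Submodule.nontrivial_iff_ne_bot).2 hW0
    have hlt : Nat.card ↥(commSub σ a) < n := by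
      rw [← hn]
      have h1 : Nat.card ↥(commSub σ a) ≤ Nat.card P :=
        Nat.le_of_dvd Nat.card_pos (Subgroup.card_subgroup_dvd_card _)
      have h2 : Nat.card ↥(commSub σ a) ≠ Nat.card P := by
        intro h
        exact hHne ((Subgroup.card_eq_iff_eq_top _).1 h)
      omega
    have hirr' : ∀ W : Submodule K ↥(Module.End.eigenspace (σ a) μ),
        (∀ g : ↥(commSub σ a), W.map (σ' g) ≤ W) → W = ⊥ ∨ W = ⊤ := by
      intro W' hW'
      let W'' : Submodule K V := W'.map (Module.End.eigenspace (σ a) μ).subtype
      have hW''le : W'' ≤ Module.End.eigenspace (σ a) μ := by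
        rintro _ ⟨w, _, rfl⟩
        exact w.2
      let U : Submodule K V := ⨆ g : P, W''.map (σ g)
      have hUinv : ∀ g : P, U.map (σ g) ≤ U := by
        intro g
        rw [Submodule.map_iSup]
        apply iSup_le
        intro g'
        rintro _ ⟨_, ⟨w, hw, rfl⟩, rfl⟩
        apply Submodule.mem_iSup_of_mem (g * g')
        refine ⟨w, hw, ?_⟩
        rw [map_mul, Module.End.mul_apply]
      rcases hirr U hUinv with h | h
      · left
        rw [eq_bot_iff]
        intro w hw
        have h1 : (w : V) ∈ U := by
          apply Submodule.mem_iSup_of_mem (1 : P)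
          refine ⟨(w : V), ⟨w, hw, rfl⟩, ?_⟩
          rw [map_one, Module.End.one_apply]
        rw [h, Submodule.mem_bot] at h1
        rw [Submodule.mem_bot]
        exact Subtype.ext h1
      · right
        rw [eq_top_iff]
        intro w _
        -- decompose
        have hUle : U ≤ W'' ⊔ ⨆ (ν' : K) (_ : ν' ≠ μ), Module.End.eigenspace (σ a) ν' := by
          apply iSup_le
          intro g
          by_cases hg : g ∈ commSub σ a
          · apply le_sup_of_le_left
            rintro _ ⟨_, ⟨w', hw', rfl⟩, rfl⟩
            have := hW' ⟨g, hg⟩ ⟨w', hw', rfl⟩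
            exact ⟨_, this, rfl⟩
          · apply le_sup_of_le_right
            have hne : ζ g * μ ≠ μ := by
              intro h
              apply hg
              rw [hζH]
              have : ζ g * μ = 1 * μ := by rw [h, one_mul]
              exact mul_right_cancel₀ hμ0 this
            rintro _ ⟨_, ⟨w', _, rfl⟩, rfl⟩
            apply Submodule.mem_iSup_of_mem (ζ g * μ)
            apply Submodule.mem_iSup_of_mem hne
            exact hmap g _ w'.2
        have hwU : (w : V) ∈ U := h ▸ Submodule.mem_top
        obtain ⟨y, hy, r, hr, hyr⟩ := Submodule.mem_sup.1 (hUle hwU)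
        have hdisj := (Module.End.eigenspaces_iSupIndep (σ a)) μ
        have hr' : r ∈ Module.End.eigenspace (σ a) μ := by
          have : r = (w : V) - y := by rw [← hyr]; abel
          rw [this]
          exact Submodule.sub_mem _ w.2 (hW''le hy)
        have hr0 : r = 0 := by
          have := Submodule.disjoint_def.1 hdisj r hr' hr
          exact this
        rw [hr0, add_zero] at hyr
        obtain ⟨w', hw', hw'y⟩ := hy
        have : w' = w := by
          apply Subtype.ext
          rw [← hyr, ← hw'y]
          rfl
        rw [← this]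
        exact hw'
    obtain ⟨b', hb'⟩ := ih _ hlt σ' rfl (hP.to_subgroup _) hirr'
    refine ⟨k + b', ?_⟩
    rw [hdim, hcard, hb', pow_add]

end Cfsg.Agent.Helper3.HH
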