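import Mathlib

set_option autoImplicit false

/-! The lower central series: `[γ_m, γ_n] ≤ γ_{m+n}`, and sections. -/

namespace Cfsg.Agent.Helper3.HK

open scoped commutatorElement

variable {G : Type*} [Group G]

/-- three subgroups lemma modulo a normal subgroup -/
lemma three_subgroups_mod (A B C K : Subgroup G) [K.Normal] (h1 : ⁅⁅B, C⁆, A⁆ ≤ K)
    (h2 : ⁅⁅C, A⁆, B⁆ ≤ K) : ⁅⁅A, B⁆, C⁆ ≤ K := by
  have key : ∀ H : Subgroup G, H ≤ K ↔ H.map (QuotientGroup.mk' K) = ⊥ := by
    intro H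
    rw [Subgroup.map_eq_bot_iff, QuotientGroup.ker_mk']
  rw [key] at h1 h2 ⊢
  rw [Subgroup.map_commutator, Subgroup.map_commutator] at h1 h2 ⊢
  exact Subgroup.commutator_commutator_eq_bot_of_rotate h1 h2

/-- `[γ_{m+1}, γ_{n+1}] ≤ γ_{m+n+2}` (0-based indexing of Mathlib) -/
lemma lcs_comm_le : ∀ n m : ℕ,
    ⁅(⊤ : Subgroup G).lowerCentralSeries m, (⊤ : Subgroup G).lowerCentralSeries n⁆ ≤
      (⊤ : Subgroup G).lowerCentralSeries (m + n + 1) := by
  intro n
  induction n with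
  | zero => intro m; exact le_rfl
  | succ n ih =>
    intro m
    rw [Subgroup.lowerCentralSeries_succ, Subgroup.commutator_comm]
    refine three_subgroups_mod _ _ _ _ ?_ ?_
    · rw [Subgroup.commutator_comm ⊤, ← Subgroup.lowerCentralSeries_succ]
      have := ih (m + 1)
      have e : m + 1 + n + 1 = m + (n + 1) + 1 := by omega
      rwa [e] at this
    · have h := Subgroup.commutator_mono (ih m) (le_refl (⊤ : Subgroup G))
      rw [← Subgroup.lowerCentralSeries_succ] at h
      exact h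

variable (G)

/-- `γ_n`, `1`-based, with `γ_0 = G`. -/
def NN (n : ℕ) : Subgroup G := (⊤ : Subgroup G).lowerCentralSeries (n - 1)

instance NN_characteristic (n : ℕ) : (NN G n).Characteristic := by
  unfold NN; infer_instance

instance NN_normal (n : ℕ) : (NN G n).Normal := by
  unfold NN; infer_instance

lemma NN_zero : NN G 0 = ⊤ := rfl

lemma NN_succ (n : ℕ) : NN G (n + 1) = (⊤ : Subgroup G).lowerCentralSeries n := rfl

lemma NN_antitone {m n : ℕ} (h : m ≤ n) : NN G n ≤ NN G m :=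
  Subgroup.lowerCentralSeries_antitone _ (by omega)

lemma comm_NN_top (n : ℕ) : ⁅NN G n, (⊤ : Subgroup G)⁆ ≤ NN G (n + 1) := by
  cases n with
  | zero => rw [NN_succ]; exact le_top
  | succ n => exact le_rfl

lemma comm_NN_le (m n : ℕ) : ⁅NN G m, NN G n⁆ ≤ NN G (m + n) := by
  cases m with
  | zero => rw [zero_add]; exact Subgroup.commutator_le_right _ _
  | succ m =>
    cases n with
    | zero => exact Subgroup.commutator_le_left _ _
    | succ n =>
      have := lcs_comm_le (G := G) n m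
      have e : m + 1 + (n + 1) = (m + n + 1) + 1 := by omega
      rw [e, NN_succ, NN_succ, NN_succ]
      exact this

variable {G}

lemma comm_mem_NN {m n : ℕ} {g h : G} (hg : g ∈ NN G m) (hh : h ∈ NN G n) :
    ⁅g, h⁆ ∈ NN G (m + n) :=
  comm_NN_le G m n (Subgroup.commutator_mem_commutator hg hh)

lemma comm_mem_NN_succ_left {m n : ℕ} {g h : G} (hg : g ∈ NN G (m + 1)) (hh : h ∈ NN G n) :
    ⁅g, h⁆ ∈ NN G (m + n + 1) := by
  have := comm_mem_NN hg hh
  have e : m + 1 + n = m + n + 1 := by omega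
  rwa [e] at this

lemma comm_mem_NN_succ_right {m n : ℕ} {g h : G} (hg : g ∈ NN G m) (hh : h ∈ NN G (n + 1)) :
    ⁅g, h⁆ ∈ NN G (m + n + 1) :=
  comm_mem_NN (n := n + 1) hg hh

lemma comm_mem_NN_succ {n : ℕ} {g : G} (x : G) (hg : g ∈ NN G n) : ⁅x, g⁆ ∈ NN G (n + 1) := by
  have h := comm_NN_top G n (Subgroup.commutator_mem_commutator hg (Subgroup.mem_top x))
  have e : ⁅x, g⁆ = ⁅g, x⁆⁻¹ := (commutatorElement_inv g x).symm
  rw [e]
  exact inv_mem h

lemma conj_mem_NN {n : ℕ} {g : G} (x : G) (hg : g ∈ NN G n) : x * g * x⁻¹ ∈ NN G n :=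
  (NN_normal G n).conj_mem g hg x

end Cfsg.Agent.Helper3.HK
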