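import Mathlib
import Cfsg.Agent.Helper3.HKAssocA

set_option autoImplicit false

/-! Sections `γ_n/γ_{n+1}` of the lower central series as additive groups, and the
commutator pairing between them. -/

namespace Cfsg.Agent.Helper3.HK

open scoped commutatorElement

variable (G : Type*) [Group G]

/-- the section `γ_n / γ_{n+1}` -/
abbrev QQ (n : ℕ) : Type _ := (NN G n) ⧸ (NN G (n + 1)).subgroupOf (NN G n)

lemma QQ_comm (n : ℕ) (a b : QQ G n) : a * b = b * a := by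
  induction a using QuotientGroup.induction_on with
  | H g =>
  induction b using QuotientGroup.induction_on with
  | H h =>
  rw [← QuotientGroup.mk_mul, ← QuotientGroup.mk_mul, QuotientGroup.eq, Subgroup.mem_subgroupOf]
  have h1 : ⁅(h : G)⁻¹, (g : G)⁻¹⁆ ∈ NN G (n + 1) :=
    comm_NN_top G n (Subgroup.commutator_mem_commutator (inv_mem h.2) (Subgroup.mem_top _))
  have e : (((g * h)⁻¹ * (h * g) : NN G n) : G) = ⁅(h : G)⁻¹, (g : G)⁻¹⁆ := by
    simp only [commutatorElement_def, Subgroup.coe_mul, Subgroup.coe_inv]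
    group
  rw [e]
  exact h1

instance QQ_commGroup (n : ℕ) : CommGroup (QQ G n) :=
  { (inferInstance : Group (QQ G n)) with mul_comm := QQ_comm G n }

/-- the section, additively -/
abbrev AA (n : ℕ) : Type _ := Additive (QQ G n)

variable {G}

open Classical in
/-- the class of `g` in `γ_n/γ_{n+1}` (zero if `g ∉ γ_n`) -/
noncomputable def cl (n : ℕ) (g : G) : AA G n :=
  if hg : g ∈ NN G n then Additive.ofMul (QuotientGroup.mk ⟨g, hg⟩) else 0

lemma cl_def {n : ℕ} {g : G} (hg : g ∈ NN G n) :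
    cl n g = Additive.ofMul (QuotientGroup.mk ⟨g, hg⟩) := dif_pos hg

lemma cl_mul {n : ℕ} {g h : G} (hg : g ∈ NN G n) (hh : h ∈ NN G n) :
    cl n (g * h) = cl n g + cl n h := by
  rw [cl_def (mul_mem hg hh), cl_def hg, cl_def hh]
  rfl

lemma cl_one (n : ℕ) : cl n (1 : G) = 0 := by
  rw [cl_def (one_mem _)]
  rfl

lemma cl_inv {n : ℕ} {g : G} (hg : g ∈ NN G n) : cl n g⁻¹ = -cl n g := by
  rw [cl_def (inv_mem hg), cl_def hg]
  rfl

lemma cl_eq_zero_iff {n : ℕ} {g : G} (hg : g ∈ NN G n) : cl n g = 0 ↔ g ∈ NN G (n + 1) := by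
  rw [cl_def hg]
  show (QuotientGroup.mk ⟨g, hg⟩ : QQ G n) = 1 ↔ _
  rw [QuotientGroup.eq_one_iff, Subgroup.mem_subgroupOf]

lemma cl_eq_zero_of_mem {n : ℕ} {g : G} (hg : g ∈ NN G (n + 1)) : cl n g = 0 :=
  (cl_eq_zero_iff (NN_antitone G (Nat.le_succ n) hg)).mpr hg

lemma cl_surj {n : ℕ} (a : AA G n) : ∃ g, g ∈ NN G n ∧ cl n g = a := by
  obtain ⟨⟨g, hg⟩, h⟩ := QuotientGroup.mk_surjective (Additive.toMul a)
  exact ⟨g, hg, by rw [cl_def hg, h]; rfl⟩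

lemma cl_eq_iff {n : ℕ} {g h : G} (hg : g ∈ NN G n) (hh : h ∈ NN G n) :
    cl n g = cl n h ↔ g⁻¹ * h ∈ NN G (n + 1) := by
  rw [← cl_eq_zero_iff (mul_mem (inv_mem hg) hh), cl_mul (inv_mem hg) hh, cl_inv hg,
    neg_add_eq_zero]

lemma cl_conj {n : ℕ} {g : G} (x : G) (hg : g ∈ NN G n) : cl n (x * g * x⁻¹) = cl n g := by
  have e : x * g * x⁻¹ = ⁅x, g⁆ * g := by
    simp only [commutatorElement_def]; group
  have h1 := comm_mem_NN_succ x hg
  rw [e, cl_mul (NN_antitone G (Nat.le_succ n) h1) hg, cl_eq_zero_of_mem h1, zero_add]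

lemma cl_comm_mul_left {m n : ℕ} {g g' h : G} (hg : g ∈ NN G m) (hg' : g' ∈ NN G m)
    (hh : h ∈ NN G n) : cl (m + n) ⁅g * g', h⁆ = cl (m + n) ⁅g, h⁆ + cl (m + n) ⁅g', h⁆ := by
  have e : ⁅g * g', h⁆ = (g * ⁅g', h⁆ * g⁻¹) * ⁅g, h⁆ := by
    simp only [commutatorElement_def]; group
  rw [e, cl_mul (conj_mem_NN g (comm_mem_NN hg' hh)) (comm_mem_NN hg hh),
    cl_conj g (comm_mem_NN hg' hh)]
  exact add_comm _ _

lemma cl_comm_mul_right {m n : ℕ} {g h h' : G} (hg : g ∈ NN G m) (hh : h ∈ NN G n)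
    (hh' : h' ∈ NN G n) : cl (m + n) ⁅g, h * h'⁆ = cl (m + n) ⁅g, h⁆ + cl (m + n) ⁅g, h'⁆ := by
  have e : ⁅g, h * h'⁆ = ⁅g, h⁆ * (h * ⁅g, h'⁆ * h⁻¹) := by
    simp only [commutatorElement_def]; group
  rw [e, cl_mul (comm_mem_NN hg hh) (conj_mem_NN h (comm_mem_NN hg hh')),
    cl_conj h (comm_mem_NN hg hh')]

lemma cl_comm_eq_zero_left {m n : ℕ} {z h : G} (hz : z ∈ NN G (m + 1)) (hh : h ∈ NN G n) :
    cl (m + n) ⁅z, h⁆ = 0 :=
  cl_eq_zero_of_mem (comm_mem_NN_succ_left hz hh)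

lemma cl_comm_eq_zero_right {m n : ℕ} {g z : G} (hg : g ∈ NN G m) (hz : z ∈ NN G (n + 1)) :
    cl (m + n) ⁅g, z⁆ = 0 :=
  cl_eq_zero_of_mem (comm_mem_NN_succ_right hg hz)

lemma cl_comm_congr {m n : ℕ} {g g' h h' : G} (hg : g ∈ NN G m) (hg' : g' ∈ NN G m)
    (hh : h ∈ NN G n) (hh' : h' ∈ NN G n) (e1 : cl m g = cl m g') (e2 : cl n h = cl n h') :
    cl (m + n) ⁅g, h⁆ = cl (m + n) ⁅g', h'⁆ := by
  have hz1 := (cl_eq_iff hg hg').mp e1
  have hz2 := (cl_eq_iff hh hh').mp e2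
  have eg : g' = g * (g⁻¹ * g') := by group
  have eh : h' = h * (h⁻¹ * h') := by group
  rw [eg, eh, cl_comm_mul_left hg (mul_mem (inv_mem hg) hg') (mul_mem hh (mul_mem (inv_mem hh) hh')),
    cl_comm_eq_zero_left hz1 (mul_mem hh (mul_mem (inv_mem hh) hh')), add_zero,
    cl_comm_mul_right hg hh (mul_mem (inv_mem hh) hh'), cl_comm_eq_zero_right hg hz2, add_zero]

lemma cl_cast {m n : ℕ} (h : m = n) (g : G) : h ▸ cl m g = cl n g := by
  subst h; rfl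

/-- a representative -/
noncomputable def rep {n : ℕ} (a : AA G n) : G := Classical.choose (cl_surj a)

lemma rep_mem {n : ℕ} (a : AA G n) : rep a ∈ NN G n := (Classical.choose_spec (cl_surj a)).1

lemma cl_rep {n : ℕ} (a : AA G n) : cl n (rep a) = a := (Classical.choose_spec (cl_surj a)).2

/-- the commutator pairing -/
noncomputable def brk {m n : ℕ} (a : AA G m) (b : AA G n) : AA G (m + n) :=
  cl (m + n) ⁅rep a, rep b⁆

lemma brk_cl {m n : ℕ} {g h : G} (hg : g ∈ NN G m) (hh : h ∈ NN G n) :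
    brk (cl m g) (cl n h) = cl (m + n) ⁅g, h⁆ :=
  cl_comm_congr (rep_mem _) hg (rep_mem _) hh (cl_rep _) (cl_rep _)

lemma brk_add_left {m n : ℕ} (a a' : AA G m) (b : AA G n) :
    brk (a + a') b = brk a b + brk a' b := by
  obtain ⟨g, hg, rfl⟩ := cl_surj a
  obtain ⟨g', hg', rfl⟩ := cl_surj a'
  obtain ⟨h, hh, rfl⟩ := cl_surj b
  rw [← cl_mul hg hg', brk_cl (mul_mem hg hg') hh, brk_cl hg hh, brk_cl hg' hh,
    cl_comm_mul_left hg hg' hh]

lemma brk_add_right {m n : ℕ} (a : AA G m) (b b' : AA G n) :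
    brk a (b + b') = brk a b + brk a b' := by
  obtain ⟨g, hg, rfl⟩ := cl_surj a
  obtain ⟨h, hh, rfl⟩ := cl_surj b
  obtain ⟨h', hh', rfl⟩ := cl_surj b'
  rw [← cl_mul hh hh', brk_cl hg (mul_mem hh hh'), brk_cl hg hh, brk_cl hg hh',
    cl_comm_mul_right hg hh hh']

lemma brk_zero_left {m n : ℕ} (b : AA G n) : brk (0 : AA G m) b = 0 := by
  have := brk_add_left (0 : AA G m) 0 b
  rw [add_zero] at this
  exact left_eq_add.mp this

lemma brk_zero_right {m n : ℕ} (a : AA G m) : brk a (0 : AA G n) = 0 := by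
  have := brk_add_right a (0 : AA G n) 0
  rw [add_zero] at this
  exact left_eq_add.mp this

lemma brk_neg_left {m n : ℕ} (a : AA G m) (b : AA G n) : brk (-a) b = -brk a b := by
  have := brk_add_left (-a) a b
  rw [neg_add_cancel, brk_zero_left] at this
  exact eq_neg_of_add_eq_zero_left this.symm

lemma brk_neg_right {m n : ℕ} (a : AA G m) (b : AA G n) : brk a (-b) = -brk a b := by
  have := brk_add_right a (-b) b
  rw [neg_add_cancel, brk_zero_right] at this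
  exact eq_neg_of_add_eq_zero_left this.symm

/-- the Hall–Witt identity in the sections -/
lemma cl_hall_witt {i j k N : ℕ} (hN : N = i + j + k) {a b c : G} (ha : a ∈ NN G i)
    (hb : b ∈ NN G j) (hc : c ∈ NN G k) :
    cl N ⁅⁅a, b⁻¹⁆⁻¹, c⁆ + cl N ⁅⁅b, c⁻¹⁆⁻¹, a⁆ + cl N ⁅⁅c, a⁻¹⁆⁻¹, b⁆ = 0 := by
  subst hN
  have h1 : ⁅⁅a, b⁻¹⁆⁻¹, c⁆ ∈ NN G (i + j + k) :=
    comm_mem_NN (inv_mem (comm_mem_NN ha (inv_mem hb))) hc
  have h2 : ⁅⁅b, c⁻¹⁆⁻¹, a⁆ ∈ NN G (i + j + k) := by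
    have := comm_mem_NN (inv_mem (comm_mem_NN hb (inv_mem hc))) ha
    have e : j + k + i = i + j + k := by omega
    rwa [e] at this
  have h3 : ⁅⁅c, a⁻¹⁆⁻¹, b⁆ ∈ NN G (i + j + k) := by
    have := comm_mem_NN (inv_mem (comm_mem_NN hc (inv_mem ha))) hb
    have e : k + i + j = i + j + k := by omega
    rwa [e] at this
  have hw : (b * ⁅⁅a, b⁻¹⁆⁻¹, c⁆ * b⁻¹) * (c * ⁅⁅b, c⁻¹⁆⁻¹, a⁆ * c⁻¹) *
      (a * ⁅⁅c, a⁻¹⁆⁻¹, b⁆ * a⁻¹) = 1 := by
    simp only [commutatorElement_def]; group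
  have := congrArg (cl (i + j + k)) hw
  rw [cl_one, cl_mul (mul_mem (conj_mem_NN b h1) (conj_mem_NN c h2)) (conj_mem_NN a h3),
    cl_mul (conj_mem_NN b h1) (conj_mem_NN c h2), cl_conj b h1, cl_conj c h2, cl_conj a h3] at this
  exact this

end Cfsg.Agent.Helper3.HK
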