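import Mathlib
import Cfsg.Agent.Helper3.HKAssocB

set_option autoImplicit false

/-! The associated Lie ring of the lower central series. -/

namespace Cfsg.Agent.Helper3.HK

open scoped commutatorElement DirectSum

variable (G : Type*) [Group G]

noncomputable instance AA_gsemiring : DirectSum.GNonUnitalNonAssocSemiring (AA G) :=
  { mul := fun a b => brk a b
    mul_zero := fun a => brk_zero_right a
    zero_mul := fun b => brk_zero_left b
    mul_add := fun a b c => brk_add_right a b c
    add_mul := fun a b c => brk_add_left a b c }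

variable {G}

/-- homogeneous elements -/
noncomputable def hom (n : ℕ) (g : G) : ⨁ n, AA G n := DirectSum.of (AA G) n (cl n g)

lemma hom_cast {m n : ℕ} (h : m = n) (g : G) : hom m g = hom n g := by
  subst h; rfl

lemma hom_mul_hom {m n : ℕ} {g h : G} (hg : g ∈ NN G m) (hh : h ∈ NN G n) :
    hom m g * hom n h = hom (m + n) ⁅g, h⁆ := by
  unfold hom
  rw [DirectSum.of_mul_of]
  congr 1
  exact brk_cl hg hh

lemma hom_one (n : ℕ) : hom n (1 : G) = 0 := by
  unfold hom; rw [cl_one, map_zero]

lemma hom_mul {n : ℕ} {g h : G} (hg : g ∈ NN G n) (hh : h ∈ NN G n) :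
    hom n (g * h) = hom n g + hom n h := by
  unfold hom; rw [cl_mul hg hh, map_add]

lemma hom_inv {n : ℕ} {g : G} (hg : g ∈ NN G n) : hom n g⁻¹ = -hom n g := by
  unfold hom; rw [cl_inv hg, map_neg]

lemma exists_hom {n : ℕ} (a : AA G n) : ∃ g, g ∈ NN G n ∧ DirectSum.of (AA G) n a = hom n g := by
  obtain ⟨g, hg, rfl⟩ := cl_surj a
  exact ⟨g, hg, rfl⟩

lemma lg_mul_neg (x y : ⨁ n, AA G n) : x * (-y) = -(x * y) := by
  have : x * (-y) + x * y = 0 := by rw [← mul_add, neg_add_cancel, mul_zero]
  exact eq_neg_of_add_eq_zero_left this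

lemma lg_neg_mul (x y : ⨁ n, AA G n) : (-x) * y = -(x * y) := by
  have : (-x) * y + x * y = 0 := by rw [← add_mul, neg_add_cancel, zero_mul]
  exact eq_neg_of_add_eq_zero_left this

lemma hom_mul_hom' {m n : ℕ} {g h : G} (hg : g ∈ NN G m) (hh : h ∈ NN G n) :
    hom m g * hom n h = hom (m + n) (⁅g, h⁻¹⁆⁻¹) := by
  rw [hom_inv (comm_mem_NN hg (inv_mem hh)), ← hom_mul_hom hg (inv_mem hh), hom_inv hh, lg_mul_neg,
    neg_neg]

lemma lg_skew (x y : ⨁ n, AA G n) : x * y + y * x = 0 := by
  induction x using DirectSum.induction_on with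
  | zero => rw [zero_mul, mul_zero, add_zero]
  | add x x' hx hx' =>
    have : (x + x') * y + y * (x + x') = (x * y + y * x) + (x' * y + y * x') := by
      rw [add_mul, mul_add]; abel
    rw [this, hx, hx', add_zero]
  | of i a =>
    induction y using DirectSum.induction_on with
    | zero => rw [zero_mul, mul_zero, add_zero]
    | add y y' hy hy' =>
      have : DirectSum.of (AA G) i a * (y + y') + (y + y') * DirectSum.of (AA G) i a =
          (DirectSum.of (AA G) i a * y + y * DirectSum.of (AA G) i a) +
          (DirectSum.of (AA G) i a * y' + y' * DirectSum.of (AA G) i a) := by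
        rw [add_mul, mul_add]; abel
      rw [this, hy, hy', add_zero]
    | of j b =>
      obtain ⟨g, hg, e1⟩ := exists_hom a
      obtain ⟨h, hh, e2⟩ := exists_hom b
      rw [e1, e2, hom_mul_hom hg hh, hom_mul_hom hh hg, hom_cast (add_comm j i),
        ← commutatorElement_inv g h, hom_inv (comm_mem_NN hg hh), add_neg_cancel]

lemma lg_self (x : ⨁ n, AA G n) : x * x = 0 := by
  induction x using DirectSum.induction_on with
  | zero => rw [zero_mul]
  | add x y hx hy =>
    have : (x + y) * (x + y) = x * x + y * y + (x * y + y * x) := by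
      rw [add_mul, mul_add, mul_add]; abel
    rw [this, hx, hy, lg_skew, add_zero, add_zero]
  | of i a =>
    obtain ⟨g, hg, e1⟩ := exists_hom a
    rw [e1, hom_mul_hom hg hg, commutatorElement_self, hom_one]

lemma lg_jacobi_hom {i j k : ℕ} {a b c : G} (ha : a ∈ NN G i) (hb : b ∈ NN G j)
    (hc : c ∈ NN G k) :
    hom i a * hom j b * hom k c + hom j b * hom k c * hom i a + hom k c * hom i a * hom j b = 0 := by
  rw [hom_mul_hom' ha hb, hom_mul_hom' hb hc, hom_mul_hom' hc ha,
    hom_mul_hom (inv_mem (comm_mem_NN ha (inv_mem hb))) hc,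
    hom_mul_hom (inv_mem (comm_mem_NN hb (inv_mem hc))) ha,
    hom_mul_hom (inv_mem (comm_mem_NN hc (inv_mem ha))) hb,
    hom_cast (show j + k + i = i + j + k by omega), hom_cast (show k + i + j = i + j + k by omega)]
  unfold hom
  rw [← map_add, ← map_add, cl_hall_witt rfl ha hb hc, map_zero]

lemma lg_jacobi (x y z : ⨁ n, AA G n) : x * y * z + y * z * x + z * x * y = 0 := by
  induction x using DirectSum.induction_on with
  | zero => simp only [zero_mul, mul_zero, add_zero]
  | add x x' hx hx' =>
    have : (x + x') * y * z + y * z * (x + x') + z * (x + x') * y =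
        (x * y * z + y * z * x + z * x * y) + (x' * y * z + y * z * x' + z * x' * y) := by
      simp only [add_mul, mul_add]; abel
    rw [this, hx, hx', add_zero]
  | of i a =>
    induction y using DirectSum.induction_on with
    | zero => simp only [zero_mul, mul_zero, add_zero]
    | add y y' hy hy' =>
      have : DirectSum.of (AA G) i a * (y + y') * z + (y + y') * z * DirectSum.of (AA G) i a +
          z * DirectSum.of (AA G) i a * (y + y') =
          (DirectSum.of (AA G) i a * y * z + y * z * DirectSum.of (AA G) i a +
            z * DirectSum.of (AA G) i a * y) +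
          (DirectSum.of (AA G) i a * y' * z + y' * z * DirectSum.of (AA G) i a +
            z * DirectSum.of (AA G) i a * y') := by
        simp only [add_mul, mul_add]; abel
      rw [this, hy, hy', add_zero]
    | of j b =>
      induction z using DirectSum.induction_on with
      | zero => simp only [zero_mul, mul_zero, add_zero]
      | add z z' hz hz' =>
        have : DirectSum.of (AA G) i a * DirectSum.of (AA G) j b * (z + z') +
            DirectSum.of (AA G) j b * (z + z') * DirectSum.of (AA G) i a +
            (z + z') * DirectSum.of (AA G) i a * DirectSum.of (AA G) j b =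
            (DirectSum.of (AA G) i a * DirectSum.of (AA G) j b * z +
              DirectSum.of (AA G) j b * z * DirectSum.of (AA G) i a +
              z * DirectSum.of (AA G) i a * DirectSum.of (AA G) j b) +
            (DirectSum.of (AA G) i a * DirectSum.of (AA G) j b * z' +
              DirectSum.of (AA G) j b * z' * DirectSum.of (AA G) i a +
              z' * DirectSum.of (AA G) i a * DirectSum.of (AA G) j b) := by
          simp only [add_mul, mul_add]; abel
        rw [this, hz, hz', add_zero]
      | of k c =>
        obtain ⟨g, hg, e1⟩ := exists_hom a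
        obtain ⟨h, hh, e2⟩ := exists_hom b
        obtain ⟨l, hl, e3⟩ := exists_hom c
        rw [e1, e2, e3]
        exact lg_jacobi_hom hg hh hl

lemma lg_leibniz (x y z : ⨁ n, AA G n) : x * (y * z) = x * y * z + y * (x * z) := by
  have h1 := lg_jacobi x y z
  have h2 : x * (y * z) = -(y * z * x) := eq_neg_of_add_eq_zero_left (lg_skew x (y * z))
  have h3 : y * (x * z) = z * x * y := by
    have h4 : x * z = -(z * x) := eq_neg_of_add_eq_zero_left (lg_skew x z)
    rw [h4, lg_mul_neg]
    have h6 : z * x * y = -(y * (z * x)) := eq_neg_of_add_eq_zero_left (lg_skew (z * x) y)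
    rw [h6]
  rw [h2, h3]
  have h5 : y * z * x = -(x * y * z + z * x * y) := by
    apply eq_neg_of_add_eq_zero_left
    rw [← h1]; abel
  rw [h5, neg_neg]

variable (G)

/-- the associated Lie ring of the lower central series of `G` -/
def LG : Type _ := ⨁ n, AA G n

noncomputable instance LG_addCommGroup : AddCommGroup (LG G) :=
  inferInstanceAs (AddCommGroup (⨁ n, AA G n))

/-- the bracket -/
noncomputable def lgBr (x y : LG G) : LG G :=
  @HMul.hMul (⨁ n, AA G n) (⨁ n, AA G n) (⨁ n, AA G n) instHMul x y

noncomputable instance LG_lieRing : LieRing (LG G) :=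
  { LG_addCommGroup G with
    bracket := lgBr G
    add_lie := fun x y z => add_mul (R := ⨁ n, AA G n) x y z
    lie_add := fun x y z => mul_add (R := ⨁ n, AA G n) x y z
    lie_self := fun x => lg_self (G := G) x
    leibniz_lie := fun x y z => lg_leibniz (G := G) x y z }

end Cfsg.Agent.Helper3.HK
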