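import Mathlib

set_option autoImplicit false

/-! Graded families of additive subgroups of a Lie ring (towards Higman–Kreknin–Kostrikin). -/

namespace Cfsg.Agent.Helper3.HK

variable {L : Type*} [LieRing L] {n : ℕ}

/-- A `ZMod n`-indexed family of additive subgroups. -/
abbrev Fam (n : ℕ) (L : Type*) [LieRing L] := ZMod n → AddSubgroup L

/-- `Act U N V`: `[U_i, N_j] ⊆ V_{i+j}` -/
def Act (U N V : Fam n L) : Prop := ∀ i j, ∀ u ∈ U i, ∀ y ∈ N j, ⁅u, y⁆ ∈ V (i + j)

/-- the graded bracket family -/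
def brF (U N : Fam n L) : Fam n L := fun k =>
  AddSubgroup.closure {z | ∃ i j, i + j = k ∧ ∃ u ∈ U i, ∃ y ∈ N j, z = ⁅u, y⁆}

lemma mem_cast {W : Fam n L} {a b : ZMod n} (h : a = b) {x : L} (hx : x ∈ W a) : x ∈ W b := h ▸ hx

lemma act_brF (U N : Fam n L) : Act U N (brF U N) := by
  intro i j u hu y hy
  exact AddSubgroup.subset_closure ⟨i, j, rfl, u, hu, y, hy, rfl⟩

lemma brF_le_iff {U N V : Fam n L} : brF U N ≤ V ↔ Act U N V := by
  constructor
  · intro h i j u hu y hy
    exact h _ (act_brF U N i j u hu y hy)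
  · intro h k
    refine (AddSubgroup.closure_le _).mpr ?_
    rintro z ⟨i, j, rfl, u, hu, y, hy, rfl⟩
    exact h i j u hu y hy

lemma brF_mono {U U' N N' : Fam n L} (hU : U ≤ U') (hN : N ≤ N') : brF U N ≤ brF U' N' := by
  rw [brF_le_iff]
  intro i j u hu y hy
  exact act_brF U' N' i j u (hU i hu) y (hN j hy)

lemma Act.mono {U U' N N' V V' : Fam n L} (h : Act U' N' V) (hU : U ≤ U') (hN : N ≤ N')
    (hV : V ≤ V') : Act U N V' := by
  intro i j u hu y hy
  exact hV _ (h i j u (hU i hu) y (hN j hy))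

lemma Act.sup {U U' N V V' : Fam n L} (h : Act U N V) (h' : Act U' N V') :
    Act (U ⊔ U') N (V ⊔ V') := by
  intro i j u hu y hy
  rw [Pi.sup_apply] at hu
  obtain ⟨a, ha, b, hb, rfl⟩ := AddSubgroup.mem_sup.mp hu
  rw [add_lie, Pi.sup_apply]
  exact AddSubgroup.mem_sup.mpr ⟨_, h i j a ha y hy, _, h' i j b hb y hy, rfl⟩

/-- a Lie family: closed under brackets, trivial in degree `0`. -/
def IsLie (X : Fam n L) : Prop := Act X X X ∧ X 0 = ⊥

lemma iterate_brF_mono (N : Fam n L) {U U' : Fam n L} (h : U ≤ U') (m : ℕ) :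
    (fun T => brF T N)^[m] U ≤ (fun T => brF T N)^[m] U' := by
  induction m generalizing U U' with
  | zero => exact h
  | succ m ih =>
    rw [Function.iterate_succ_apply, Function.iterate_succ_apply]
    exact ih (brF_mono h le_rfl)

lemma iterate_brF_le {V N : Fam n L} (h : Act V N V) (m : ℕ) :
    (fun T => brF T N)^[m] V ≤ V := by
  induction m with
  | zero => exact le_rfl
  | succ m ih =>
    rw [Function.iterate_succ_apply']
    exact (brF_mono ih le_rfl).trans (brF_le_iff.mpr h)

/-- if `N` is an `X`-ideal family and `V` is `X`-invariant then `[V,N]` is `X`-invariant. -/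
lemma act_brF_of_ideal {V N X : Fam n L} (hV : Act V X V) (hN : Act N X N) :
    Act (brF V N) X (brF V N) := by
  intro k l u hu x hx
  induction hu using AddSubgroup.closure_induction with
  | mem z hz =>
    obtain ⟨i, j, rfl, a, ha, b, hb, rfl⟩ := hz
    have e : ⁅⁅a, b⁆, x⁆ = ⁅⁅a, x⁆, b⁆ + ⁅a, ⁅b, x⁆⁆ := by
      rw [lie_lie a b x, ← lie_skew b ⁅a, x⁆]; abel
    rw [e]
    refine add_mem ?_ ?_
    · exact mem_cast (add_right_comm i l j) (act_brF V N _ _ _ (hV i l a ha x hx) b hb)
    · exact mem_cast (add_assoc i j l).symm (act_brF V N _ _ a ha _ (hN j l b hb x hx))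
  | zero => rw [zero_lie]; exact zero_mem _
  | add a b _ _ ha hb => rw [add_lie]; exact add_mem ha hb
  | neg a _ ha => rw [neg_lie]; exact neg_mem ha

lemma iterate_brF_act {V N X : Fam n L} (hV : Act V X V) (hN : Act N X N) (m : ℕ) :
    Act ((fun T => brF T N)^[m] V) X ((fun T => brF T N)^[m] V) := by
  induction m with
  | zero => exact hV
  | succ m ih =>
    rw [Function.iterate_succ_apply']
    exact act_brF_of_ideal ih hN

/-! ### derived families -/

/-- the `s`-th derived family -/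
def derN (X : Fam n L) (s : ℕ) : Fam n L := (fun U => brF U U)^[s] X

lemma derN_zero (X : Fam n L) : derN X 0 = X := rfl

lemma derN_succ (X : Fam n L) (s : ℕ) : derN X (s + 1) = brF (derN X s) (derN X s) :=
  Function.iterate_succ_apply' _ _ _

lemma derN_succ' (X : Fam n L) (s : ℕ) : derN X (s + 1) = derN (brF X X) s :=
  Function.iterate_succ_apply _ _ _

lemma derN_add (X : Fam n L) (s t : ℕ) : derN X (s + t) = derN (derN X t) s :=
  Function.iterate_add_apply _ _ _ _

lemma derN_mono {X Y : Fam n L} (h : X ≤ Y) (s : ℕ) : derN X s ≤ derN Y s := by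
  induction s with
  | zero => exact h
  | succ s ih => rw [derN_succ, derN_succ]; exact brF_mono ih ih

/-- derived families of a Lie family are ideal subfamilies. -/
lemma derN_ideal {X : Fam n L} (hX : Act X X X) (s : ℕ) :
    derN X s ≤ X ∧ Act (derN X s) X (derN X s) := by
  induction s with
  | zero => exact ⟨le_rfl, hX⟩
  | succ s ih =>
    rw [derN_succ]
    refine ⟨(brF_mono ih.1 ih.1).trans (brF_le_iff.mpr hX), act_brF_of_ideal ih.2 ih.2⟩

lemma derN_le {X : Fam n L} (hX : Act X X X) (s : ℕ) : derN X s ≤ X := (derN_ideal hX s).1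

lemma derN_isLie {X : Fam n L} (hX : IsLie X) (s : ℕ) : IsLie (derN X s) := by
  refine ⟨(derN_ideal hX.1 s).2.mono le_rfl (derN_le hX.1 s) le_rfl, ?_⟩
  have := derN_le hX.1 s 0
  rw [hX.2] at this
  exact le_bot_iff.mp this

lemma brF_isLie {X : Fam n L} (hX : IsLie X) : IsLie (brF X X) := by
  have := derN_isLie hX 1
  rwa [derN_succ, derN_zero] at this

/-! ### generated families -/

/-- left-normed brackets of elements of `Y`, with degree -/
inductive LN (Y : Fam n L) : ZMod n → L → Prop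
  | base {i : ZMod n} {x : L} : x ∈ Y i → LN Y i x
  | step {i j : ZMod n} {w g : L} : LN Y i w → g ∈ Y j → LN Y (i + j) ⁅w, g⁆

/-- the family generated by `Y` -/
def gen (Y : Fam n L) : Fam n L := fun k => AddSubgroup.closure {x | LN Y k x}

lemma le_gen (Y : Fam n L) : Y ≤ gen Y := fun _ _ hx => AddSubgroup.subset_closure (LN.base hx)

lemma gen_le {Y Z : Fam n L} (hYZ : Y ≤ Z) (hZ : Act Z Y Z) : gen Y ≤ Z := by
  intro k
  refine (AddSubgroup.closure_le _).mpr ?_
  intro x hx
  induction hx with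
  | base h => exact hYZ _ h
  | step _ hg ih => exact hZ _ _ _ ih _ hg

lemma act_gen_base (Y : Fam n L) : Act (gen Y) Y (gen Y) := by
  intro i j u hu g hg
  induction hu using AddSubgroup.closure_induction with
  | mem z hz => exact AddSubgroup.subset_closure (LN.step hz hg)
  | zero => rw [zero_lie]; exact zero_mem _
  | add a b _ _ ha hb => rw [add_lie]; exact add_mem ha hb
  | neg a _ ha => rw [neg_lie]; exact neg_mem ha

lemma act_gen (Y : Fam n L) : Act (gen Y) (gen Y) (gen Y) := by
  intro i j u hu v hv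
  induction hv using AddSubgroup.closure_induction with
  | mem z hz =>
    induction hz generalizing i u with
    | base h => exact act_gen_base Y i _ u hu _ h
    | @step j1 j2 w g _ hg ih =>
      have e : ⁅u, ⁅w, g⁆⁆ = ⁅⁅u, w⁆, g⁆ - ⁅⁅u, g⁆, w⁆ := by
        rw [lie_lie u w g, ← lie_skew w ⁅u, g⁆]; abel
      rw [e]
      refine sub_mem ?_ ?_
      · exact mem_cast (add_assoc i j1 j2) (act_gen_base Y _ _ _ (ih i u hu) g hg)
      · have h1 := act_gen_base Y i j2 u hu g hg
        have h2 := ih (i + j2) ⁅u, g⁆ h1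
        refine mem_cast ?_ h2
        rw [add_assoc, add_comm j2 j1]
  | zero => rw [lie_zero]; exact zero_mem _
  | add a b _ _ ha hb => rw [lie_add]; exact add_mem ha hb
  | neg a _ ha => rw [lie_neg]; exact neg_mem ha

lemma gen_mono {Y Y' : Fam n L} (h : Y ≤ Y') : gen Y ≤ gen Y' :=
  gen_le (h.trans (le_gen Y')) ((act_gen_base Y').mono le_rfl h le_rfl)

lemma gen_le_of_isLie {Y X : Fam n L} (hYX : Y ≤ X) (hX : Act X X X) : gen Y ≤ X :=
  gen_le hYX (hX.mono le_rfl hYX le_rfl)

lemma gen_isLie {Y X : Fam n L} (hYX : Y ≤ X) (hX : IsLie X) : IsLie (gen Y) := by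
  refine ⟨act_gen Y, ?_⟩
  have := gen_le_of_isLie hYX hX.1 0
  rw [hX.2] at this
  exact le_bot_iff.mp this

end Cfsg.Agent.Helper3.HK
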