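import Mathlib
import Cfsg.Agent.Helper3.HKFam

set_option autoImplicit false

/-! Higman–Kostrikin: solvable `ZMod p`-graded Lie families with trivial zero component are
nilpotent of bounded class. -/

namespace Cfsg.Agent.Helper3.HK

open Pointwise

variable {L : Type*} [LieRing L] {p : ℕ}

/-- left-normed bracket of `v` with a list of degree-tagged elements -/
def lb (v : L) (ys : List (ZMod p × L)) : L := ys.foldl (fun u q => ⁅u, q.2⁆) v

lemma lb_nil (v : L) : lb v ([] : List (ZMod p × L)) = v := rfl

lemma lb_cons (v : L) (q : ZMod p × L) (ys : List (ZMod p × L)) :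
    lb v (q :: ys) = lb ⁅v, q.2⁆ ys := rfl

lemma lb_zero (ys : List (ZMod p × L)) : lb (0 : L) ys = 0 := by
  induction ys with
  | nil => rfl
  | cons q ys ih => rw [lb_cons, zero_lie, ih]

lemma lb_add (u v : L) (ys : List (ZMod p × L)) : lb (u + v) ys = lb u ys + lb v ys := by
  induction ys generalizing u v with
  | nil => rfl
  | cons q ys ih => rw [lb_cons, lb_cons, lb_cons, add_lie, ih]

lemma lb_neg (u : L) (ys : List (ZMod p × L)) : lb (-u) ys = -lb u ys := by
  induction ys generalizing u with
  | nil => rfl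
  | cons q ys ih => rw [lb_cons, lb_cons, neg_lie, ih]

/-- the list consists of elements of the family, with the right degrees -/
def Valid (N : Fam p L) (ys : List (ZMod p × L)) : Prop := ∀ q ∈ ys, q.2 ∈ N q.1

/-- total degree of a list -/
def degs (ys : List (ZMod p × L)) : ZMod p := (ys.map Prod.fst).sum

lemma degs_nil : degs ([] : List (ZMod p × L)) = 0 := rfl

lemma degs_cons (q : ZMod p × L) (ys : List (ZMod p × L)) : degs (q :: ys) = q.1 + degs ys := by
  simp [degs]

lemma Valid.tail {N : Fam p L} {q : ZMod p × L} {ys : List (ZMod p × L)} (h : Valid N (q :: ys)) :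
    Valid N ys := fun r hr => h r (List.mem_cons_of_mem _ hr)

lemma Valid.head {N : Fam p L} {q : ZMod p × L} {ys : List (ZMod p × L)} (h : Valid N (q :: ys)) :
    q.2 ∈ N q.1 := h q List.mem_cons_self

lemma lb_mem {W N : Fam p L} (hWN : Act W N W) :
    ∀ ys : List (ZMod p × L), Valid N ys → ∀ i w, w ∈ W i → lb w ys ∈ W (i + degs ys) := by
  intro ys
  induction ys with
  | nil => intro _ i w hw; rw [degs_nil, add_zero]; exact hw
  | cons q ys ih =>
    intro hv i w hw
    rw [lb_cons, degs_cons, ← add_assoc]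
    exact ih hv.tail _ _ (hWN _ _ _ hw _ hv.head)

lemma lb_move {V W N : Fam p L} (hVN : Act V N V) (hWN : Act W N W) (hVN' : Act V (brF N N) W) :
    ∀ ys : List (ZMod p × L), Valid N ys → ∀ i v, v ∈ V i → ∀ j y, y ∈ N j →
      lb ⁅v, y⁆ ys - ⁅lb v ys, y⁆ ∈ W (i + j + degs ys) := by
  intro ys
  induction ys with
  | nil => intro _ i v _ j y _; rw [lb_nil, lb_nil, sub_self]; exact zero_mem _
  | cons q ys ih =>
    intro hv i v hvi j y hy
    rw [lb_cons, lb_cons, degs_cons]
    have e : ⁅⁅v, y⁆, q.2⁆ = ⁅⁅v, q.2⁆, y⁆ + ⁅v, ⁅y, q.2⁆⁆ := by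
      rw [lie_lie v y q.2, ← lie_skew y ⁅v, q.2⁆]; abel
    rw [e, lb_add, add_sub_right_comm]
    refine add_mem ?_ ?_
    · have := ih hv.tail (i + q.1) _ (hVN _ _ _ hvi _ hv.head) j y hy
      refine mem_cast ?_ this
      ring
    · have h1 : ⁅v, ⁅y, q.2⁆⁆ ∈ W (i + (j + q.1)) :=
        hVN' _ _ _ hvi _ (act_brF N N _ _ _ hy _ hv.head)
      have := lb_mem hWN ys hv.tail _ _ h1
      refine mem_cast ?_ this
      ring

/-- subset sums of the degrees of a list -/
def SS : List (ZMod p × L) → Finset (ZMod p)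
  | [] => {0}
  | q :: ys => SS ys + {0, q.1}

lemma lb_dead {V W N : Fam p L} (hV0 : V 0 = ⊥) (hVN : Act V N V) (hWN : Act W N W)
    (hVN' : Act V (brF N N) W) :
    ∀ ys : List (ZMod p × L), Valid N ys → ∀ i v, v ∈ V i → (-i) ∈ SS ys →
      lb v ys ∈ W (i + degs ys) := by
  intro ys
  induction ys with
  | nil =>
    intro _ i v hv hi
    simp only [SS, Finset.mem_singleton, neg_eq_zero] at hi
    subst hi
    rw [hV0, AddSubgroup.mem_bot] at hv
    rw [hv, lb_zero]; exact zero_mem _
  | cons q ys ih =>
    intro hval i v hv hi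
    simp only [SS] at hi
    obtain ⟨a, ha, b, hb, hab⟩ := Finset.mem_add.mp hi
    rw [lb_cons, degs_cons]
    have hvq : ⁅v, q.2⁆ ∈ V (i + q.1) := hVN _ _ _ hv _ hval.head
    simp only [Finset.mem_insert, Finset.mem_singleton] at hb
    rcases hb with rfl | rfl
    · rw [add_zero] at hab
      subst hab
      have h1 := ih hval.tail i v hv ha
      have h2 : ⁅lb v ys, q.2⁆ ∈ W (i + degs ys + q.1) := hWN _ _ _ h1 _ hval.head
      have h3 := lb_move hVN hWN hVN' ys hval.tail i v hv q.1 q.2 hval.head
      have e : lb ⁅v, q.2⁆ ys = (lb ⁅v, q.2⁆ ys - ⁅lb v ys, q.2⁆) + ⁅lb v ys, q.2⁆ := by abel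
      rw [e]
      refine add_mem (mem_cast ?_ h3) (mem_cast ?_ h2) <;> ring
    · have ha' : -(i + q.1) ∈ SS ys := by
        have : -(i + q.1) = a := by rw [← sub_eq_iff_eq_add.mpr hab.symm]; ring
        rw [this]; exact ha
      have := ih hval.tail (i + q.1) _ hvq ha'
      refine mem_cast ?_ this
      ring

lemma SS_nonempty (ys : List (ZMod p × L)) : (SS ys).Nonempty := by
  induction ys with
  | nil => exact ⟨0, by simp [SS]⟩
  | cons q ys ih =>
    simp only [SS]
    exact ih.add ⟨0, by simp⟩

lemma SS_card [Fact p.Prime] :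
    ∀ ys : List (ZMod p × L), (∀ q ∈ ys, q.1 ≠ 0) → min p (ys.length + 1) ≤ (SS ys).card := by
  intro ys
  have hp := (Fact.out : p.Prime)
  induction ys with
  | nil => intro _; simp [SS]
  | cons q ys ih =>
    intro h
    have h1 := ih (fun r hr => h r (List.mem_cons_of_mem _ hr))
    have hq : q.1 ≠ 0 := h q List.mem_cons_self
    have hcd := ZMod.cauchy_davenport hp (SS_nonempty ys) (t := {0, q.1}) ⟨0, by simp⟩
    have hc2 : ({0, q.1} : Finset (ZMod p)).card = 2 := Finset.card_pair (Ne.symm hq)
    rw [hc2] at hcd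
    simp only [SS, List.length_cons]
    refine le_trans ?_ hcd
    simp only [le_min_iff, min_le_iff] at h1 ⊢
    omega

lemma lb_eq_zero_of_mem_zero (v : L) :
    ∀ ys : List (ZMod p × L), (∃ q ∈ ys, q.2 = 0) → lb v ys = 0 := by
  intro ys
  induction ys generalizing v with
  | nil => rintro ⟨q, hq, _⟩; simp at hq
  | cons r ys ih =>
    rintro ⟨q, hq, hq0⟩
    rw [lb_cons]
    rcases List.mem_cons.mp hq with rfl | hq'
    · rw [hq0, lie_zero, lb_zero]
    · exact ih _ ⟨q, hq', hq0⟩

/-- sub-claim (a): `p - 1` factors from `N` kill `V` modulo `W`. -/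
lemma lb_long [Fact p.Prime] {V W N : Fam p L} (hV0 : V 0 = ⊥) (hN0 : N 0 = ⊥) (hVN : Act V N V)
    (hWN : Act W N W) (hVN' : Act V (brF N N) W) (ys : List (ZMod p × L)) (hval : Valid N ys)
    (hlen : ys.length = p - 1) (i : ZMod p) (v : L) (hv : v ∈ V i) :
    lb v ys ∈ W (i + degs ys) := by
  have hp := (Fact.out : p.Prime)
  by_cases h0 : ∃ q ∈ ys, q.1 = 0
  · obtain ⟨q, hq, hq0⟩ := h0
    have : q.2 = 0 := by
      have := hval q hq
      rwa [hq0, hN0, AddSubgroup.mem_bot] at this
    rw [lb_eq_zero_of_mem_zero v ys ⟨q, hq, this⟩]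
    exact zero_mem _
  · push Not at h0
    have hc := SS_card ys h0
    rw [hlen, Nat.sub_add_cancel hp.one_le, min_self] at hc
    have huniv : SS ys = Finset.univ := by
      apply Finset.eq_univ_of_card
      have := Finset.card_le_univ (SS ys)
      rw [ZMod.card] at this ⊢
      omega
    exact lb_dead hV0 hVN hWN hVN' ys hval i v hv (by rw [huniv]; exact Finset.mem_univ _)

/-- bridge from lists to iterated bracket families -/
lemma iterate_le_of_lb {W N : Fam p L} (m : ℕ) :
    ∀ V' : Fam p L, (∀ i, ∀ v ∈ V' i, ∀ ys : List (ZMod p × L), Valid N ys → ys.length = m →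
      lb v ys ∈ W (i + degs ys)) → (fun T => brF T N)^[m] V' ≤ W := by
  induction m with
  | zero =>
    intro V' h i v hv
    have := h i v hv [] (fun q hq => by simp at hq) rfl
    rwa [degs_nil, add_zero, lb_nil] at this
  | succ m ih =>
    intro V' h
    rw [Function.iterate_succ_apply]
    apply ih
    intro k u hu ys hval hlen
    induction hu using AddSubgroup.closure_induction with
    | mem z hz =>
      obtain ⟨i, j, rfl, a, ha, b, hb, rfl⟩ := hz
      have := h i a ha ((j, b) :: ys) (by
        intro q hq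
        rcases List.mem_cons.mp hq with rfl | hq'
        · exact hb
        · exact hval q hq') (by simp [hlen])
      rw [lb_cons, degs_cons, ← add_assoc] at this
      exact this
    | zero => rw [lb_zero]; exact zero_mem _
    | add a b _ _ ha hb => rw [lb_add]; exact add_mem ha hb
    | neg a _ ha => rw [lb_neg]; exact neg_mem ha

/-- **Higman–Kostrikin main lemma.** -/
theorem hk_main [Fact p.Prime] (s : ℕ) : ∀ (X V W : Fam p L), IsLie X → V 0 = ⊥ → W 0 = ⊥ →
    Act V X V → Act W X W → Act V (derN X s) W →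
    (fun T => brF T X)^[(p - 1) ^ s] V ≤ W := by
  induction s with
  | zero =>
    intro X V W _ _ _ _ _ h
    rw [pow_zero, Function.iterate_one]
    exact brF_le_iff.mpr h
  | succ s ih =>
    intro X V W hX hV0 hW0 hVX hWX h
    set N := derN X s with hN
    have hNid := derN_ideal hX.1 s
    have hNX : N ≤ X := hNid.1
    have hNlie : IsLie N := derN_isLie hX s
    rw [derN_succ] at h
    have hVN : Act V N V := hVX.mono le_rfl hNX le_rfl
    have hWN : Act W N W := hWX.mono le_rfl hNX le_rfl
    -- G m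
    set G : ℕ → Fam p L := fun m => (fun T => brF T N)^[m] V with hG
    have hGle : ∀ m, G m ≤ V := fun m => iterate_brF_le hVN m
    have hGX : ∀ m, Act (G m) X (G m) := fun m => iterate_brF_act hVX hNid.2 m
    have hGsucc : ∀ m, G (m + 1) = brF (G m) N := fun m => Function.iterate_succ_apply' _ _ _
    have hGlast : G (p - 1) ≤ W := by
      apply iterate_le_of_lb
      intro i v hv ys hval hlen
      exact lb_long hV0 hNlie.2 hVN hWN h ys hval hlen i v hv
    have chain : ∀ m, (fun T => brF T X)^[m * (p - 1) ^ s] V ≤ W ⊔ G m := by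
      intro m
      induction m with
      | zero => rw [zero_mul]; exact le_sup_right
      | succ m ihm =>
        have e : (m + 1) * (p - 1) ^ s = (p - 1) ^ s + m * (p - 1) ^ s := by ring
        rw [e, Function.iterate_add_apply]
        refine (iterate_brF_mono X ihm _).trans ?_
        apply ih X (W ⊔ G m) (W ⊔ G (m + 1)) hX
        · rw [Pi.sup_apply, hW0]
          have := hGle m 0
          rw [hV0] at this
          rw [le_bot_iff.mp this, sup_bot_eq]
        · rw [Pi.sup_apply, hW0]
          have := hGle (m + 1) 0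
          rw [hV0] at this
          rw [le_bot_iff.mp this, sup_bot_eq]
        · exact hWX.sup (hGX m)
        · exact hWX.sup (hGX (m + 1))
        · refine Act.sup hWN ?_
          rw [hGsucc]
          exact act_brF _ _
    have := chain (p - 1)
    rw [pow_succ, mul_comm]
    exact this.trans (sup_le le_rfl hGlast)

/-- the class bound: if the `d`-th derived family lies in an ideal family `I` then so does
the `(c_d+1)`-st term of the lower central series, `c_d = ∑_{i<d} (p-1)^i`. -/
theorem hk_class [Fact p.Prime] (d : ℕ) : ∀ (X I : Fam p L), IsLie X → I ≤ X → Act I X I →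
    derN X d ≤ I → (fun T => brF T X)^[∑ i ∈ Finset.range d, (p - 1) ^ i] X ≤ I := by
  induction d with
  | zero =>
    intro X I _ _ _ h
    rw [derN_zero] at h
    simpa using h
  | succ d ih =>
    intro X I hX hIX hI h
    have hD := derN_ideal hX.1 d
    have h1 := ih X (derN X d ⊔ I) hX (sup_le hD.1 hIX) (hD.2.sup hI) le_sup_left
    have hJ0 : (derN X d ⊔ I) 0 = ⊥ := by
      have := (sup_le hD.1 hIX : derN X d ⊔ I ≤ X) 0
      rw [hX.2] at this
      exact le_bot_iff.mp this
    have hI0 : I 0 = ⊥ := by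
      have := hIX 0
      rw [hX.2] at this
      exact le_bot_iff.mp this
    have h2 := hk_main d X (derN X d ⊔ I) I hX hJ0 hI0 (hD.2.sup hI) hI (by
      intro i j u hu y hy
      rw [Pi.sup_apply] at hu
      obtain ⟨a, ha, b, hb, rfl⟩ := AddSubgroup.mem_sup.mp hu
      rw [add_lie]
      refine add_mem ?_ ?_
      · apply h
        rw [derN_succ]
        exact act_brF _ _ _ _ _ ha _ hy
      · exact hI _ _ _ hb _ (hD.1 _ hy))
    rw [Finset.sum_range_succ, add_comm, Function.iterate_add_apply]
    exact (iterate_brF_mono X h1 _).trans h2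

end Cfsg.Agent.Helper3.HK
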