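import Mathlib
import Cfsg.Agent.Helper3.HKFam

set_option autoImplicit false

/-! Kreknin's theorem for `ZMod n`-graded Lie families with trivial zero component. -/

namespace Cfsg.Agent.Helper3.HK

variable {L : Type*} [LieRing L] {n : ℕ}

/-- the part of `X` in degrees (as integers in `[0,n)`) at least `k` -/
def trunc (k : ℕ) (X : Fam n L) : Fam n L := fun i => if k ≤ i.val then X i else ⊥

/-- the Lie family generated by the components of degree at least `k` -/
def HH (k : ℕ) (X : Fam n L) : Fam n L := gen (trunc k X)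

lemma trunc_le (k : ℕ) (X : Fam n L) : trunc k X ≤ X := by
  intro i
  unfold trunc
  split_ifs
  · exact le_rfl
  · exact bot_le

lemma trunc_of_le {k : ℕ} {X : Fam n L} {i : ZMod n} (h : k ≤ i.val) : trunc k X i = X i := by
  unfold trunc; rw [if_pos h]

lemma trunc_of_lt {k : ℕ} {X : Fam n L} {i : ZMod n} (h : i.val < k) : trunc k X i = ⊥ := by
  unfold trunc; rw [if_neg (by omega)]

lemma HH_le {X : Fam n L} (hX : Act X X X) (k : ℕ) : HH k X ≤ X :=
  gen_le_of_isLie (trunc_le k X) hX

lemma le_HH {X : Fam n L} {k : ℕ} {i : ZMod n} (h : k ≤ i.val) : X i ≤ HH k X i := by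
  have := le_gen (trunc k X) i
  rwa [trunc_of_le h] at this

lemma HH_zero {X : Fam n L} (hX : IsLie X) (k : ℕ) : HH k X 0 = ⊥ :=
  (gen_isLie (trunc_le k X) hX).2

lemma val_add_cases [NeZero n] (c d : ZMod n) :
    (c + d).val = c.val + d.val ∨ (c + d).val + n = c.val + d.val := by
  by_cases h : c.val + d.val < n
  · left; exact ZMod.val_add_of_lt h
  · right; exact (ZMod.val_add_val_of_le (by omega)).symm

lemma kreknin_Q' [NeZero n] {X : Fam n L} (hX : IsLie X) (K : ℕ) (hK : K < n) :
    ∀ b : ℕ, ∀ i j : ZMod n, j.val = b → i.val + j.val = K → ∀ u ∈ HH K X i, ∀ z ∈ HH K X j,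
      ⁅u, z⁆ ∈ HH (K + 1) X (i + j) := by
  intro b
  induction b using Nat.strong_induction_on with
  | _ b IH =>
  intro i j hjb hij u hu z hz
  by_cases hj0 : j = 0
  · subst hj0
    rw [HH_zero hX, AddSubgroup.mem_bot] at hz
    subst hz
    rw [lie_zero]; exact zero_mem _
  have hjpos : 1 ≤ j.val := by
    have := (ZMod.val_eq_zero j).not.mpr hj0
    omega
  have hs : (i + j).val = K := by
    rw [ZMod.val_add_of_lt (by omega)]; exact hij
  induction hu using AddSubgroup.closure_induction with
  | zero => rw [zero_lie]; exact zero_mem _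
  | add a b _ _ ha hb => rw [add_lie]; exact add_mem ha hb
  | neg a _ ha => rw [neg_lie]; exact neg_mem ha
  | mem u hLN =>
    cases hLN with
    | base h =>
      rw [trunc_of_lt (by omega), AddSubgroup.mem_bot] at h
      subst h
      rw [zero_lie]; exact zero_mem _
    | @step c d w g hw hg =>
      by_cases hd : K ≤ d.val
      swap
      · rw [trunc_of_lt (by omega), AddSubgroup.mem_bot] at hg
        subst hg
        rw [lie_zero, zero_lie]; exact zero_mem _
      have hgX : g ∈ X d := by rwa [trunc_of_le hd] at hg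
      have hwM : w ∈ HH K X c := AddSubgroup.subset_closure hw
      have hgM : g ∈ HH K X d := le_HH hd hgX
      have e : ⁅⁅w, g⁆, z⁆ = ⁅⁅w, z⁆, g⁆ + ⁅w, ⁅g, z⁆⁆ := by
        rw [lie_lie w g z, ← lie_skew g ⁅w, z⁆]; abel
      rw [e]
      have hcl := act_gen (trunc (K + 1) X)
      have hdlt := ZMod.val_lt d
      have hjlt := ZMod.val_lt j
      have hclt := ZMod.val_lt c
      refine add_mem ?_ ?_
      · -- term 1
        have hwz : ⁅w, z⁆ ∈ HH K X (c + j) := act_gen _ c j w hwM z hz
        have e1 : (c + d) + j = (c + j) + d := add_right_comm c d j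
        rw [e1]
        have hc1 := val_add_cases (c + j) d
        rw [← e1, hs] at hc1
        have hcjlt := ZMod.val_lt (c + j)
        by_cases hdK : d.val = K
        · have h0 : (c + j).val = 0 := by omega
          have h0' : c + j = 0 := (ZMod.val_eq_zero _).mp h0
          rw [h0', HH_zero hX, AddSubgroup.mem_bot] at hwz
          rw [hwz, zero_lie]; exact zero_mem _
        · have h1 : K + 1 ≤ (c + j).val := by omega
          have h2 : K + 1 ≤ d.val := by omega
          exact hcl _ _ _ (le_HH h1 (HH_le hX.1 K _ hwz)) _ (le_HH h2 hgX)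
      · -- term 2
        have hgz : ⁅g, z⁆ ∈ HH K X (d + j) := act_gen _ d j g hgM z hz
        have e2 : (c + d) + j = c + (d + j) := add_assoc c d j
        rw [e2]
        have hc1 := val_add_cases c (d + j)
        rw [← e2, hs] at hc1
        have hc2 := val_add_cases d j
        have hdjlt := ZMod.val_lt (d + j)
        rcases lt_trichotomy (d.val + j.val) n with hlt | heq | hgt
        · have h1 : K + 1 ≤ (d + j).val := by omega
          have h2 : K + 1 ≤ c.val := by omega
          exact hcl _ _ _ (le_HH h2 (HH_le hX.1 K _ hwM)) _ (le_HH h1 (HH_le hX.1 K _ hgz))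
        · have h0 : (d + j).val = 0 := by omega
          have h0' : d + j = 0 := (ZMod.val_eq_zero _).mp h0
          rw [h0', HH_zero hX, AddSubgroup.mem_bot] at hgz
          rw [hgz, lie_zero]; exact zero_mem _
        · have hb' : (d + j).val < b := by omega
          exact IH _ hb' c (d + j) rfl (by omega) w hwM _ hgz

/-- the degree-`≥ K+1` components of `[M,M]`, `M = HH K X`, lie in `HH (K+1) X`. -/
lemma kreknin_Q [NeZero n] {X : Fam n L} (hX : IsLie X) (K : ℕ) (hK : K < n) :
    trunc K (brF (HH K X) (HH K X)) ≤ HH (K + 1) X := by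
  intro i
  by_cases hi : K ≤ i.val
  swap
  · rw [trunc_of_lt (by omega)]; exact bot_le
  rw [trunc_of_le hi]
  rcases Nat.lt_or_ge K i.val with hgt | hle
  · -- degree ≥ K+1
    refine le_trans ?_ (le_HH (X := X) (k := K + 1) (by omega))
    exact ((brF_le_iff.mpr (act_gen _)) i).trans (HH_le hX.1 K i)
  · have hiK : i.val = K := by omega
    refine (AddSubgroup.closure_le _).mpr ?_
    rintro z ⟨a, b, rfl, u, hu, y, hy, rfl⟩
    have hc := val_add_cases a b
    have halt := ZMod.val_lt a
    have hblt := ZMod.val_lt b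
    rcases hc with hc | hc
    · exact kreknin_Q' hX K hK b.val a b rfl (by omega) u hu y hy
    · have h1 : K + 1 ≤ a.val := by omega
      have h2 : K + 1 ≤ b.val := by omega
      exact act_gen (trunc (K + 1) X) _ _ _ (le_HH h1 (HH_le hX.1 K _ hu)) _
        (le_HH h2 (HH_le hX.1 K _ hy))

theorem kreknin_step [NeZero n] (k : ℕ) (hk : k < n) :
    ∀ X : Fam n L, IsLie X → derN X (2 ^ k - 1) ≤ HH (k + 1) X := by
  induction k with
  | zero =>
    intro X hX i
    simp only [pow_zero, Nat.sub_self, derN_zero]
    by_cases hi : i = 0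
    · subst hi; rw [hX.2]; exact bot_le
    · have := (ZMod.val_eq_zero i).not.mpr hi
      exact le_HH (by omega)
  | succ k ih =>
    intro X hX
    have ih' := ih (by omega)
    have h1 := ih' X hX
    have e : 2 ^ (k + 1) - 1 = 2 ^ k + (2 ^ k - 1) := by
      have : 1 ≤ 2 ^ k := Nat.one_le_two_pow
      rw [pow_succ]; omega
    rw [e, derN_add]
    refine (derN_mono h1 (2 ^ k)).trans ?_
    have e2 : 2 ^ k = (2 ^ k - 1) + 1 := by
      have : 1 ≤ 2 ^ k := Nat.one_le_two_pow
      omega
    rw [e2, derN_succ']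
    set M := HH (k + 1) X with hM
    have hMlie : IsLie M := gen_isLie (trunc_le _ X) hX
    have hM'lie : IsLie (brF M M) := brF_isLie hMlie
    refine (ih' (brF M M) hM'lie).trans ?_
    -- HH (k+1) (brF M M) ≤ HH (k+2) X
    exact gen_le ((kreknin_Q hX (k + 1) hk)) ((act_gen _).mono le_rfl (kreknin_Q hX (k + 1) hk) le_rfl)

/-- **Kreknin's theorem** (family form): a `ZMod n`-graded Lie family with trivial zero component
is solvable of derived length at most `2^(n-1) - 1`. -/
theorem kreknin [NeZero n] (X : Fam n L) (hX : IsLie X) : derN X (2 ^ (n - 1) - 1) = ⊥ := by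
  have hn : 0 < n := Nat.pos_of_ne_zero (NeZero.ne n)
  have h := kreknin_step (n - 1) (by omega) X hX
  have e : n - 1 + 1 = n := by omega
  rw [e] at h
  refine le_bot_iff.mp (h.trans ?_)
  intro i
  refine (gen_le (Z := (⊥ : Fam n L)) ?_ ?_) i
  · intro j
    rw [trunc_of_lt (ZMod.val_lt j)]
    exact bot_le
  · intro a b u hu y hy
    rw [Pi.bot_apply, AddSubgroup.mem_bot] at hu
    rw [hu, zero_lie]; exact zero_mem _

end Cfsg.Agent.Helper3.HK
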