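import Mathlib
import Cfsg.Agent.Helper3.HKFam
import Cfsg.Agent.Helper3.HKKreknin
import Cfsg.Agent.Helper3.HKHigman

set_option autoImplicit false

/-! The Higman–Kreknin–Kostrikin bound for graded Lie families, and its ungraded consequences. -/

namespace Cfsg.Agent.Helper3.HK

variable {L : Type*} [LieRing L] {n p : ℕ}

/-- the Higman–Kreknin–Kostrikin number -/
def hkk (p : ℕ) : ℕ := ∑ i ∈ Finset.range (2 ^ (p - 1) - 1), (p - 1) ^ i

lemma act_bot_left (X : Fam n L) : Act (⊥ : Fam n L) X ⊥ := by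
  intro a b u hu y _
  rw [Pi.bot_apply, AddSubgroup.mem_bot] at hu
  rw [hu, zero_lie]; exact zero_mem _

theorem hkk_family [Fact p.Prime] (X : Fam p L) (hX : IsLie X) :
    (fun T => brF T X)^[hkk p] X = ⊥ := by
  haveI : NeZero p := ⟨(Fact.out : p.Prime).ne_zero⟩
  have hk := kreknin X hX
  exact le_bot_iff.mp (hk_class _ X ⊥ hX bot_le (act_bot_left X) (le_of_eq hk))

/-- for `p = 3` the class is at most `2`. -/
theorem three_family (X : Fam 3 L) (hX : IsLie X) :
    (fun T => brF T X)^[2] X = ⊥ := by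
  have key : ∀ i j k : ZMod 3, i + j = 0 ∨ i + j + k = 0 ∨ (i = 0 ∨ j = 0 ∨ k = 0) ∨
      (i + k = 0 ∧ j + k = 0) := by decide
  have hz : ∀ {x : L}, x ∈ X 0 → x = 0 := by
    intro x hx
    rwa [hX.2, AddSubgroup.mem_bot] at hx
  refine le_bot_iff.mp ?_
  show brF (brF X X) X ≤ ⊥
  rw [brF_le_iff]
  intro i' k u hu c hc
  rw [Pi.bot_apply, AddSubgroup.mem_bot]
  induction hu using AddSubgroup.closure_induction with
  | zero => rw [zero_lie]
  | add a b _ _ ha hb => rw [add_lie, ha, hb, add_zero]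
  | neg a _ ha => rw [neg_lie, ha, neg_zero]
  | mem z hz' =>
    obtain ⟨i, j, rfl, a, ha, b, hb, rfl⟩ := hz'
    rcases key i j k with h | h | h | h
    · have := hX.1 i j a ha b hb
      rw [h] at this
      rw [hz this, zero_lie]
    · have := hX.1 _ _ _ (hX.1 i j a ha b hb) c hc
      rw [h] at this
      exact hz this
    · rcases h with h | h | h
      · subst h; rw [hz ha, zero_lie, zero_lie]
      · subst h; rw [hz hb, lie_zero, zero_lie]
      · subst h; rw [hz hc, lie_zero]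
    · have h1 := hX.1 i k a ha c hc
      have h2 := hX.1 j k b hb c hc
      rw [h.1] at h1
      rw [h.2] at h2
      rw [lie_lie a b c, hz h1, hz h2, lie_zero, lie_zero, sub_zero]

/-! ### ungraded consequences -/

/-- additive subgroup generated by the brackets -/
def brS (S T : AddSubgroup L) : AddSubgroup L :=
  AddSubgroup.closure {z | ∃ x ∈ S, ∃ y ∈ T, z = ⁅x, y⁆}

lemma lie_mem_brS {S T : AddSubgroup L} {x y : L} (hx : x ∈ S) (hy : y ∈ T) : ⁅x, y⁆ ∈ brS S T :=
  AddSubgroup.subset_closure ⟨x, hx, y, hy, rfl⟩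

lemma brS_le {S T U : AddSubgroup L} (h : ∀ x ∈ S, ∀ y ∈ T, ⁅x, y⁆ ∈ U) : brS S T ≤ U := by
  refine (AddSubgroup.closure_le _).mpr ?_
  rintro z ⟨x, hx, y, hy, rfl⟩
  exact h x hx y hy

lemma brS_mono {S S' T T' : AddSubgroup L} (hS : S ≤ S') (hT : T ≤ T') : brS S T ≤ brS S' T' :=
  brS_le fun _ hx _ hy => lie_mem_brS (hS hx) (hT hy)

/-- the lower central series of an additive subgroup -/
def lcsA (S : AddSubgroup L) : ℕ → AddSubgroup L
  | 0 => S
  | m + 1 => brS (lcsA S m) S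

lemma lcsA_zero (S : AddSubgroup L) : lcsA S 0 = S := rfl

lemma lcsA_succ (S : AddSubgroup L) (m : ℕ) : lcsA S (m + 1) = brS (lcsA S m) S := rfl

lemma lcsA_mono {S T : AddSubgroup L} (h : S ≤ T) (m : ℕ) : lcsA S m ≤ lcsA T m := by
  induction m with
  | zero => exact h
  | succ m ih => exact brS_mono ih h

lemma brS_iSup_le (U X : Fam n L) : brS (⨆ k, U k) (⨆ j, X j) ≤ ⨆ k, brF U X k := by
  apply brS_le
  intro x hx y hy
  refine AddSubgroup.iSup_induction U (C := fun x => ⁅x, y⁆ ∈ ⨆ k, brF U X k) hx ?_ ?_ ?_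
  · intro i x hx
    refine AddSubgroup.iSup_induction X (C := fun y => ⁅x, y⁆ ∈ ⨆ k, brF U X k) hy ?_ ?_ ?_
    · intro j y hy
      exact AddSubgroup.mem_iSup_of_mem (i + j) (act_brF U X i j x hx y hy)
    · rw [lie_zero]; exact zero_mem _
    · intro a b ha hb
      rw [lie_add]; exact add_mem ha hb
  · rw [zero_lie]; exact zero_mem _
  · intro a b ha hb
    rw [add_lie]; exact add_mem ha hb

lemma lcsA_iSup_le (X : Fam n L) (m : ℕ) :
    lcsA (⨆ j, X j) m ≤ ⨆ k, ((fun T => brF T X)^[m] X) k := by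
  induction m with
  | zero => exact le_rfl
  | succ m ih =>
    rw [lcsA_succ, Function.iterate_succ_apply']
    exact (brS_mono ih le_rfl).trans (brS_iSup_le _ X)

lemma lcsA_eq_bot_of_iterate {X : Fam n L} {m : ℕ} (h : (fun T => brF T X)^[m] X = ⊥) :
    lcsA (⨆ j, X j) m = ⊥ := by
  refine le_bot_iff.mp ((lcsA_iSup_le X m).trans ?_)
  rw [h]
  simp

section map

variable {L' : Type*} [LieRing L']

lemma map_lcsA_le (f : L →+ L') (hf : ∀ x y, f ⁅x, y⁆ = ⁅f x, f y⁆) (S : AddSubgroup L) (m : ℕ) :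
    (lcsA S m).map f ≤ lcsA (S.map f) m := by
  induction m with
  | zero => exact le_rfl
  | succ m ih =>
    rw [lcsA_succ, lcsA_succ]
    rw [AddSubgroup.map_le_iff_le_comap]
    apply brS_le
    intro x hx y hy
    rw [AddSubgroup.mem_comap, hf]
    exact lie_mem_brS (ih (AddSubgroup.mem_map_of_mem f hx)) (AddSubgroup.mem_map_of_mem f hy)

/-- transfer along an injective bracket-preserving additive map into the span of a family. -/
theorem lcsA_top_eq_bot_of_embedding (f : L →+ L') (hf : ∀ x y, f ⁅x, y⁆ = ⁅f x, f y⁆)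
    (hinj : Function.Injective f) (X : Fam n L') (hr : ∀ x, f x ∈ ⨆ j, X j) (m : ℕ)
    (h : (fun T => brF T X)^[m] X = ⊥) : lcsA (⊤ : AddSubgroup L) m = ⊥ := by
  have h1 := map_lcsA_le f hf ⊤ m
  have h2 : (⊤ : AddSubgroup L).map f ≤ ⨆ j, X j := by
    rintro _ ⟨x, _, rfl⟩
    exact hr x
  have h3 := h1.trans (lcsA_mono h2 m)
  rw [lcsA_eq_bot_of_iterate h] at h3
  refine le_bot_iff.mp ?_
  intro x hx
  have := h3 (AddSubgroup.mem_map_of_mem f hx)
  rw [AddSubgroup.mem_bot] at this ⊢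
  exact hinj (by rw [this, map_zero])

end map

end Cfsg.Agent.Helper3.HK
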