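import Mathlib
import Cfsg.Agent.Helper3.HKClass

set_option autoImplicit false

/-! Base change to `ℤ[ω]`: a Lie ring with an automorphism `φ` with `∑_{k<p} φ^k = 0` and
exponent prime to `p` embeds in the span of a `ZMod p`-graded Lie family with trivial
zero component. -/

namespace Cfsg.Agent.Helper3.HK

open TensorProduct Polynomial

section general

variable {p : ℕ} [Fact p.Prime]

lemma pow_val_add {M : Type*} [Monoid M] (g : M) (hg : g ^ p = 1) (i j : ZMod p) :
    g ^ (i + j).val = g ^ i.val * g ^ j.val := by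
  rw [ZMod.val_add, ← pow_eq_pow_mod _ hg, pow_add]

lemma pow_val_zero {M : Type*} [Monoid M] (g : M) : g ^ (0 : ZMod p).val = 1 := by
  rw [ZMod.val_zero, pow_zero]

lemma sum_zmod_eq_sum_range {M : Type*} [AddCommMonoid M] (f : ℕ → M) :
    ∑ j : ZMod p, f j.val = ∑ k ∈ Finset.range p, f k := by
  haveI : NeZero p := ⟨(Fact.out : p.Prime).ne_zero⟩
  refine Finset.sum_nbij' (fun j => j.val) (fun k => (k : ZMod p)) ?_ ?_ ?_ ?_ ?_
  · intro j _; exact Finset.mem_range.mpr (ZMod.val_lt j)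
  · intro k _; exact Finset.mem_univ _
  · intro j _; exact ZMod.natCast_zmod_val j
  · intro k hk; exact ZMod.val_natCast_of_lt (Finset.mem_range.mp hk)
  · intro j _; rfl

end general

variable (p : ℕ) [Fact p.Prime]

/-- the ring `ℤ[ω]`, `ω` a primitive `p`-th root of unity -/
abbrev CycR : Type := AdjoinRoot (cyclotomic p ℤ)

/-- the root of unity -/
noncomputable def om : CycR p := AdjoinRoot.root (cyclotomic p ℤ)

lemma sum_om : ∑ k ∈ Finset.range p, (om p) ^ k = 0 := by
  have e : cyclotomic p ℤ = ∑ i ∈ Finset.range p, (X : ℤ[X]) ^ i := cyclotomic_prime ℤ p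
  have h : AdjoinRoot.mk (cyclotomic p ℤ) (∑ i ∈ Finset.range p, (X : ℤ[X]) ^ i) = 0 := by
    rw [← e]; exact AdjoinRoot.mk_self
  rw [map_sum] at h
  simp only [map_pow, AdjoinRoot.mk_X] at h
  exact h

lemma om_pow : (om p) ^ p = 1 := by
  have h := geom_sum_mul (om p) p
  rw [sum_om, zero_mul] at h
  exact (sub_eq_zero.mp h.symm)

/-- the character `j ↦ ω^j` -/
noncomputable def chi (j : ZMod p) : CycR p := (om p) ^ j.val

lemma chi_add (i j : ZMod p) : chi p (i + j) = chi p i * chi p j := pow_val_add _ (om_pow p) i j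

lemma chi_zero : chi p 0 = 1 := pow_val_zero _

lemma sum_chi : ∑ j : ZMod p, chi p j = 0 := by
  unfold chi
  rw [sum_zmod_eq_sum_range (fun k => (om p) ^ k)]
  exact sum_om p

lemma sum_chi_mul (c : ZMod p) (hc : c ≠ 0) : ∑ j : ZMod p, chi p (c * j) = 0 := by
  rw [← sum_chi p]
  exact Fintype.sum_equiv (Equiv.mulLeft₀ c hc) _ _ (fun j => rfl)

/-- a `ℤ`-linear retraction of `ℤ → ℤ[ω]` -/
noncomputable def retr : CycR p →ₗ[ℤ] ℤ :=
  (Polynomial.lcoeff ℤ 0) ∘ₗ (AdjoinRoot.modByMonicHom (cyclotomic.monic p ℤ))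

lemma retr_one : retr p 1 = 1 := by
  have hp := (Fact.out : p.Prime)
  unfold retr
  rw [LinearMap.comp_apply]
  have h1 : (1 : CycR p) = AdjoinRoot.mk (cyclotomic p ℤ) 1 := (map_one _).symm
  rw [h1, AdjoinRoot.modByMonicHom_mk]
  have h2 : (1 : ℤ[X]) %ₘ cyclotomic p ℤ = 1 := by
    rw [Polynomial.modByMonic_eq_self_iff (cyclotomic.monic p ℤ)]
    rw [degree_one, degree_eq_natDegree (cyclotomic.monic p ℤ).ne_zero, natDegree_cyclotomic,
      Nat.totient_prime hp]
    have := hp.two_le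
    exact_mod_cast (by omega : 0 < p - 1)
  rw [h2]
  simp

section construction

variable {L : Type*} [LieRing L]

/-- the extended Lie ring `ℤ[ω] ⊗ L` (as an opaque-ish synonym, to pin down its instances) -/
def LT (p : ℕ) [Fact p.Prime] (L : Type*) [LieRing L] : Type _ := CycR p ⊗[ℤ] L

noncomputable instance instLieRingLT : LieRing (LT p L) :=
  LieAlgebra.ExtendScalars.instLieRing ℤ (CycR p) L

noncomputable instance instLieAlgebraLT : LieAlgebra (CycR p) (LT p L) :=
  LieAlgebra.ExtendScalars.instLieAlgebra ℤ (CycR p) L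

/-- pure tensors -/
noncomputable def tm (a : CycR p) (x : L) : LT p L := a ⊗ₜ[ℤ] x

variable {p}

lemma tm_add_right (a : CycR p) (x y : L) : tm p a (x + y) = tm p a x + tm p a y :=
  TensorProduct.tmul_add a x y

lemma tm_zero_right (a : CycR p) : tm p a (0 : L) = 0 := TensorProduct.tmul_zero L a

lemma tm_sum_right {ι : Type*} (a : CycR p) (s : Finset ι) (f : ι → L) :
    tm p a (∑ i ∈ s, f i) = ∑ i ∈ s, tm p a (f i) := TensorProduct.tmul_sum a s f

lemma tm_nsmul_right (a : CycR p) (e : ℕ) (x : L) : tm p a (e • x) = e • tm p a x :=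
  TensorProduct.tmul_smul e a x

lemma smul_tm (b a : CycR p) (x : L) : b • tm p a x = tm p (b * a) x :=
  TensorProduct.smul_tmul' b a x

lemma bracket_tm (a b : CycR p) (x y : L) : ⁅tm p a x, tm p b y⁆ = tm p (a * b) ⁅x, y⁆ :=
  LieAlgebra.ExtendScalars.bracket_tmul ℤ (CycR p) L L a b x y

@[elab_as_elim]
lemma LT.induction_on {C : LT p L → Prop} (z : LT p L) (zero : C 0)
    (tmul : ∀ a x, C (tm p a x)) (add : ∀ x y, C x → C y → C (x + y)) : C z :=
  TensorProduct.induction_on z zero tmul add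

variable (p)

/-- the embedding `x ↦ 1 ⊗ x` -/
noncomputable def iotaL : L →+ LT p L where
  toFun x := tm p 1 x
  map_zero' := tm_zero_right 1
  map_add' := tm_add_right 1

lemma iotaL_apply (x : L) : iotaL p x = tm p 1 x := rfl

lemma iotaL_lie (x y : L) : iotaL p ⁅x, y⁆ = ⁅iotaL p x, iotaL p y⁆ := by
  rw [iotaL_apply, iotaL_apply, iotaL_apply, bracket_tm, one_mul]

lemma iotaL_injective : Function.Injective (iotaL p (L := L)) := by
  have : Function.LeftInverse
      (fun z : LT p L => TensorProduct.lid ℤ L (LinearMap.rTensor L (retr p) z)) (iotaL p) := by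
    intro x
    show TensorProduct.lid ℤ L (LinearMap.rTensor L (retr p) ((1 : CycR p) ⊗ₜ[ℤ] x)) = x
    rw [LinearMap.rTensor_tmul, retr_one, TensorProduct.lid_tmul, one_smul]
  exact this.injective

variable (φ : L →+ L)

/-- the extension of `φ` -/
noncomputable def phiT : LT p L →ₗ[CycR p] LT p L :=
  LinearMap.baseChange (CycR p) φ.toIntLinearMap

lemma phiT_tm (a : CycR p) (x : L) : phiT p φ (tm p a x) = tm p a (φ x) := by
  exact LinearMap.baseChange_tmul (A := CycR p) (f := φ.toIntLinearMap) a x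

lemma phiT_lie (hφ : ∀ x y, φ ⁅x, y⁆ = ⁅φ x, φ y⁆) (x y : LT p L) :
    phiT p φ ⁅x, y⁆ = ⁅phiT p φ x, phiT p φ y⁆ := by
  induction x using LT.induction_on with
  | zero => rw [zero_lie, map_zero, zero_lie]
  | add a b ha hb => rw [add_lie, map_add, ha, hb, map_add, add_lie]
  | tmul a x =>
    induction y using LT.induction_on with
    | zero => rw [lie_zero, map_zero, lie_zero]
    | add c d hc hd => rw [lie_add, map_add, hc, hd, map_add, lie_add]
    | tmul b y =>
      rw [bracket_tm, phiT_tm, phiT_tm, phiT_tm, bracket_tm, hφ]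

lemma phiT_pow_tm (k : ℕ) (a : CycR p) (x : L) :
    ((phiT p φ) ^ k) (tm p a x) = tm p a (φ^[k] x) := by
  induction k generalizing x with
  | zero => simp
  | succ k ih =>
    rw [pow_succ, Module.End.mul_apply, phiT_tm, ih, Function.iterate_succ_apply]

end construction

section eigen

variable {L : Type*} [LieRing L] (φ : L →+ L)

/-- the family of eigen-subgroups of the extended automorphism -/
noncomputable def eigF : Fam p (LT p L) := fun j =>
  { carrier := {x | phiT p φ x = chi p j • x}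
    zero_mem' := by simp
    add_mem' := by
      intro a b ha hb
      simp only [Set.mem_setOf_eq] at ha hb ⊢
      rw [map_add, ha, hb, smul_add]
    neg_mem' := by
      intro a ha
      simp only [Set.mem_setOf_eq] at ha ⊢
      rw [map_neg, ha, smul_neg] }

lemma mem_eigF {j : ZMod p} {x : LT p L} : x ∈ eigF p φ j ↔ phiT p φ x = chi p j • x := Iff.rfl

lemma eigF_act (hφ : ∀ x y, φ ⁅x, y⁆ = ⁅φ x, φ y⁆) : Act (eigF p φ) (eigF p φ) (eigF p φ) := by
  intro i j x hx y hy
  rw [mem_eigF] at hx hy ⊢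
  rw [phiT_lie p φ hφ, hx, hy, smul_lie, lie_smul, smul_smul, chi_add]

lemma sum_phiT_pow_apply (hsum : ∀ x, ∑ k ∈ Finset.range p, φ^[k] x = 0) (z : LT p L) :
    ∑ k ∈ Finset.range p, ((phiT p φ) ^ k) z = 0 := by
  induction z using LT.induction_on with
  | zero => simp
  | tmul a x =>
    simp_rw [phiT_pow_tm]
    rw [← tm_sum_right, hsum, tm_zero_right]
  | add x y hx hy =>
    simp_rw [map_add]
    rw [Finset.sum_add_distrib, hx, hy, add_zero]

lemma phiT_pow_p (hsum : ∀ x, ∑ k ∈ Finset.range p, φ^[k] x = 0) : (phiT p φ) ^ p = 1 := by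
  have h0 : ∑ k ∈ Finset.range p, (phiT p φ) ^ k = 0 := by
    ext z
    rw [LinearMap.sum_apply, sum_phiT_pow_apply p φ hsum]
    rfl
  have h := geom_sum_mul (phiT p φ) p
  rw [h0, zero_mul] at h
  exact sub_eq_zero.mp h.symm

lemma nsmul_LT_eq_zero (e : ℕ) (he : ∀ x : L, e • x = 0) (z : LT p L) : e • z = 0 := by
  induction z using LT.induction_on with
  | zero => simp
  | tmul a x => rw [← tm_nsmul_right, he, tm_zero_right]
  | add x y hx hy => rw [smul_add, hx, hy, add_zero]

lemma eq_zero_of_coprime_nsmul {M : Type*} [AddCommGroup M] {e q : ℕ} (h : Nat.Coprime e q) {x : M}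
    (h1 : e • x = 0) (h2 : q • x = 0) : x = 0 := by
  obtain ⟨u, v, huv⟩ := Nat.isCoprime_iff_coprime.mpr h
  have : x = (u * (e : ℤ) + v * (q : ℤ)) • x := by rw [huv, one_smul]
  rw [this, add_smul, mul_smul, mul_smul, natCast_zsmul, natCast_zsmul, h1, h2, smul_zero,
    smul_zero, add_zero]

lemma eigF_zero (hsum : ∀ x, ∑ k ∈ Finset.range p, φ^[k] x = 0) (e : ℕ) (hep : Nat.Coprime e p)
    (he : ∀ x : L, e • x = 0) : eigF p φ 0 = ⊥ := by
  refine le_bot_iff.mp ?_
  intro x hx
  rw [mem_eigF, chi_zero, one_smul] at hx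
  rw [AddSubgroup.mem_bot]
  have hk : ∀ k : ℕ, ((phiT p φ) ^ k) x = x := by
    intro k
    induction k with
    | zero => simp
    | succ k ih => rw [pow_succ, Module.End.mul_apply, hx, ih]
  have h := sum_phiT_pow_apply p φ hsum x
  simp_rw [hk] at h
  rw [Finset.sum_const, Finset.card_range] at h
  exact eq_zero_of_coprime_nsmul hep (nsmul_LT_eq_zero p e he x) h

lemma eigF_isLie (hφ : ∀ x y, φ ⁅x, y⁆ = ⁅φ x, φ y⁆)
    (hsum : ∀ x, ∑ k ∈ Finset.range p, φ^[k] x = 0) (e : ℕ) (hep : Nat.Coprime e p)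
    (he : ∀ x : L, e • x = 0) : IsLie (eigF p φ) :=
  ⟨eigF_act p φ hφ, eigF_zero p φ hsum e hep he⟩

/-- the (unnormalised) projection to the `j`-th eigen-subgroup -/
noncomputable def projE (j : ZMod p) (z : LT p L) : LT p L :=
  ∑ k : ZMod p, chi p (-(j * k)) • ((phiT p φ) ^ k.val) z

lemma projE_mem (hsum : ∀ x, ∑ k ∈ Finset.range p, φ^[k] x = 0) (j : ZMod p) (z : LT p L) :
    projE p φ j z ∈ eigF p φ j := by
  have hp := (Fact.out : p.Prime)
  haveI : Fact (1 < p) := ⟨hp.one_lt⟩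
  have hT := phiT_pow_p p φ hsum
  rw [mem_eigF]
  unfold projE
  rw [map_sum, Finset.smul_sum]
  have step : ∀ k : ZMod p, phiT p φ (chi p (-(j * k)) • ((phiT p φ) ^ k.val) z) =
      chi p (-(j * k)) • ((phiT p φ) ^ (k + 1).val) z := by
    intro k
    rw [map_smul, add_comm k 1, pow_val_add _ hT, ZMod.val_one, pow_one, Module.End.mul_apply]
  simp_rw [step]
  refine (Fintype.sum_equiv (Equiv.addRight (1 : ZMod p)) _
    (fun k' => chi p (-(j * (k' - 1))) • ((phiT p φ) ^ k'.val) z) ?_).trans ?_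
  · intro k
    simp only [Equiv.coe_addRight, add_sub_cancel_right]
  · refine Finset.sum_congr rfl ?_
    intro k _
    have : -(j * (k - 1)) = j + -(j * k) := by ring
    rw [this, chi_add, mul_smul]

lemma sum_projE (z : LT p L) :
    ∑ j : ZMod p, projE p φ j z = p • z := by
  unfold projE
  rw [Finset.sum_comm]
  simp_rw [← Finset.sum_smul]
  rw [Finset.sum_eq_single (0 : ZMod p)]
  · simp only [mul_zero, neg_zero, chi_zero, Finset.sum_const, Finset.card_univ, ZMod.card,
      ZMod.val_zero, pow_zero, Module.End.one_apply]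
    rw [nsmul_eq_mul, mul_one, Nat.cast_smul_eq_nsmul]
  · intro k _ hk
    have : ∑ j : ZMod p, chi p (-(j * k)) = 0 := by
      have h := sum_chi_mul p (-k) (neg_ne_zero.mpr hk)
      rw [← h]
      refine Finset.sum_congr rfl ?_
      intro j _
      congr 1
      ring
    rw [this, zero_smul]
  · intro h
    exact absurd (Finset.mem_univ _) h

lemma iotaL_mem_iSup (hsum : ∀ x, ∑ k ∈ Finset.range p, φ^[k] x = 0) (e : ℕ)
    (hep : Nat.Coprime e p) (he : ∀ x : L, e • x = 0) (y : L) :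
    iotaL p y ∈ ⨆ j, eigF p φ j := by
  set z := iotaL p y with hz
  have h1 : p • z ∈ ⨆ j, eigF p φ j := by
    rw [← sum_projE p φ z]
    refine sum_mem ?_
    intro j _
    exact AddSubgroup.mem_iSup_of_mem j (projE_mem p φ hsum j z)
  have h2 : e • z = 0 := nsmul_LT_eq_zero p e he z
  obtain ⟨u, v, huv⟩ := Nat.isCoprime_iff_coprime.mpr hep
  have : z = v • (p • z) := by
    have h3 : z = (u * (e : ℤ) + v * (p : ℤ)) • z := by rw [huv, one_smul]
    rw [add_smul, mul_smul, mul_smul, natCast_zsmul, natCast_zsmul, h2, smul_zero, zero_add] at h3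
    exact h3
  rw [this]
  exact zsmul_mem h1 v

/-- **Higman–Kreknin–Kostrikin for Lie rings**: a Lie ring of exponent prime to `p` with a
bracket-preserving additive endomorphism `φ` with `1 + φ + ⋯ + φ^(p-1) = 0` is nilpotent of
class at most `hkk p` (and at most `2` if `p = 3`). -/
theorem lcsA_top_eq_bot_of_aut (hφ : ∀ x y, φ ⁅x, y⁆ = ⁅φ x, φ y⁆)
    (hsum : ∀ x, ∑ k ∈ Finset.range p, φ^[k] x = 0) (e : ℕ) (hep : Nat.Coprime e p)
    (he : ∀ x : L, e • x = 0) :
    lcsA (⊤ : AddSubgroup L) (hkk p) = ⊥ := by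
  have hLie := eigF_isLie p φ hφ hsum e hep he
  exact lcsA_top_eq_bot_of_embedding (iotaL p) (iotaL_lie p) (iotaL_injective p) (eigF p φ)
    (iotaL_mem_iSup p φ hsum e hep he) _ (hkk_family _ hLie)

end eigen

theorem lcsA_top_eq_bot_of_aut_three {L : Type*} [LieRing L] (φ : L →+ L)
    (hφ : ∀ x y, φ ⁅x, y⁆ = ⁅φ x, φ y⁆)
    (hsum : ∀ x, ∑ k ∈ Finset.range 3, φ^[k] x = 0) (e : ℕ) (hep : Nat.Coprime e 3)
    (he : ∀ x : L, e • x = 0) :
    lcsA (⊤ : AddSubgroup L) 2 = ⊥ := by
  haveI : Fact (Nat.Prime 3) := ⟨Nat.prime_three⟩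
  have hLie := eigF_isLie 3 φ hφ hsum e hep he
  exact lcsA_top_eq_bot_of_embedding (iotaL 3) (iotaL_lie 3) (iotaL_injective 3) (eigF 3 φ)
    (iotaL_mem_iSup 3 φ hsum e hep he) _ (three_family _ hLie)

end Cfsg.Agent.Helper3.HK
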