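import Mathlib
import Cfsg.Agent.Helper3.HKAssocC
import Cfsg.Agent.Helper3.HKClass
import Cfsg.Agent.Helper3.HKBase

set_option autoImplicit false

/-! From the associated Lie ring back to the group; the automorphism induced on the Lie ring. -/

namespace Cfsg.Agent.Helper3.HK

open scoped commutatorElement DirectSum

variable {G : Type*} [Group G]

/-- homogeneous elements of the Lie ring -/
noncomputable def homL (n : ℕ) (g : G) : LG G := hom n g

lemma lie_homL {m n : ℕ} {g h : G} (hg : g ∈ NN G m) (hh : h ∈ NN G n) :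
    ⁅homL m g, homL n h⁆ = homL (m + n) ⁅g, h⁆ := hom_mul_hom hg hh

lemma homL_one (n : ℕ) : homL n (1 : G) = 0 := hom_one n

lemma homL_mul {n : ℕ} {g h : G} (hg : g ∈ NN G n) (hh : h ∈ NN G n) :
    homL n (g * h) = homL n g + homL n h := hom_mul hg hh

lemma homL_inv {n : ℕ} {g : G} (hg : g ∈ NN G n) : homL n g⁻¹ = -homL n g := hom_inv hg

lemma homL_eq_zero_iff {n : ℕ} {g : G} (hg : g ∈ NN G n) :
    homL n g = 0 ↔ g ∈ NN G (n + 1) := by
  rw [← cl_eq_zero_iff hg]
  constructor
  · intro h
    apply DirectSum.of_injective (β := AA G) n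
    rw [map_zero]
    exact h
  · intro h
    show DirectSum.of (AA G) n (cl n g) = 0
    rw [h, map_zero]

lemma homL_mem_lcsA (n : ℕ) : ∀ g ∈ NN G (n + 1), homL (n + 1) g ∈ lcsA (⊤ : AddSubgroup (LG G)) n := by
  induction n with
  | zero => intro g _; exact AddSubgroup.mem_top _
  | succ n ih =>
    intro g hg
    rw [NN_succ, Subgroup.lowerCentralSeries_succ, Subgroup.commutator_def] at hg
    have key : g ∈ NN G (n + 1 + 1) ∧ homL (n + 1 + 1) g ∈ lcsA (⊤ : AddSubgroup (LG G)) (n + 1) := by
      induction hg using Subgroup.closure_induction with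
      | mem x hx =>
        obtain ⟨a, ha, b, _, rfl⟩ := hx
        have ha' : a ∈ NN G (n + 1) := ha
        have hb' : b ∈ NN G 1 := Subgroup.mem_top b
        refine ⟨comm_mem_NN ha' hb', ?_⟩
        rw [← lie_homL ha' hb', lcsA_succ]
        exact lie_mem_brS (ih a ha') (AddSubgroup.mem_top _)
      | one => exact ⟨one_mem _, by rw [homL_one]; exact zero_mem _⟩
      | mul x y _ _ hx hy =>
        exact ⟨mul_mem hx.1 hy.1, by rw [homL_mul hx.1 hy.1]; exact add_mem hx.2 hy.2⟩
      | inv x _ hx =>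
        exact ⟨inv_mem hx.1, by rw [homL_inv hx.1]; exact neg_mem hx.2⟩
    exact key.2

/-- if the Lie ring has class at most `h` then `γ_{h+1} = γ_{h+2}`. -/
lemma lcs_le_succ_of_lcsA {h : ℕ} (hL : lcsA (⊤ : AddSubgroup (LG G)) h = ⊥) :
    (⊤ : Subgroup G).lowerCentralSeries h ≤ (⊤ : Subgroup G).lowerCentralSeries (h + 1) := by
  intro g hg
  have hg' : g ∈ NN G (h + 1) := hg
  have := homL_mem_lcsA h g hg'
  rw [hL, AddSubgroup.mem_bot, homL_eq_zero_iff hg'] at this
  exact this

lemma lcs_eq_bot_of_lcsA [hnil : Group.IsNilpotent G] {h : ℕ}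
    (hL : lcsA (⊤ : AddSubgroup (LG G)) h = ⊥) :
    (⊤ : Subgroup G).lowerCentralSeries h = ⊥ := by
  have h1 := lcs_le_succ_of_lcsA hL
  have h2 : ∀ k, (⊤ : Subgroup G).lowerCentralSeries h ≤
      (⊤ : Subgroup G).lowerCentralSeries (h + k) := by
    intro k
    induction k with
    | zero => exact le_rfl
    | succ k ih =>
      refine h1.trans ?_
      rw [Subgroup.lowerCentralSeries_succ, ← add_assoc, Subgroup.lowerCentralSeries_succ]
      exact Subgroup.commutator_mono ih le_rfl
  obtain ⟨c, hc⟩ := nilpotent_iff_lowerCentralSeries.mp hnil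
  refine le_bot_iff.mp ((h2 c).trans ?_)
  rw [← hc]
  exact Subgroup.lowerCentralSeries_antitone _ (by omega)

/-! ### exponent -/

lemma cl_pow {n : ℕ} {g : G} (hg : g ∈ NN G n) (e : ℕ) : cl n (g ^ e) = e • cl n g := by
  induction e with
  | zero => rw [pow_zero, cl_one, zero_smul]
  | succ e ih => rw [pow_succ, cl_mul (pow_mem hg e) hg, ih, succ_nsmul]

lemma card_nsmul_LG [Finite G] (x : ⨁ n, AA G n) : (Nat.card G) • x = 0 := by
  induction x using DirectSum.induction_on with
  | zero => rw [smul_zero]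
  | add x y hx hy => rw [smul_add, hx, hy, add_zero]
  | of n a =>
    obtain ⟨g, hg, rfl⟩ := cl_surj a
    rw [← map_nsmul, ← cl_pow hg, pow_card_eq_one', cl_one, map_zero]

/-! ### the induced automorphism -/

section aut

variable (α : MulAut G)

lemma aut_mem_NN_iff (n : ℕ) (g : G) : α g ∈ NN G n ↔ g ∈ NN G n := by
  have := (NN_characteristic G n).fixed α
  constructor
  · intro h
    rw [← this]
    exact h
  · intro h
    rw [← this] at h
    exact h

lemma cl_aut_congr {n : ℕ} {g h : G} (hg : g ∈ NN G n) (hh : h ∈ NN G n) (e : cl n g = cl n h) :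
    cl n (α g) = cl n (α h) := by
  rw [cl_eq_iff ((aut_mem_NN_iff α n g).mpr hg) ((aut_mem_NN_iff α n h).mpr hh)]
  have := (cl_eq_iff hg hh).mp e
  rw [← map_inv, ← map_mul]
  exact (aut_mem_NN_iff α (n + 1) _).mpr this

/-- the induced map on a section -/
noncomputable def phiA (n : ℕ) : AA G n →+ AA G n where
  toFun a := cl n (α (rep a))
  map_zero' := by
    have h0 : cl n (rep (0 : AA G n)) = cl n 1 := by rw [cl_rep, cl_one]
    rw [cl_aut_congr α (rep_mem _) (one_mem _) h0, map_one, cl_one]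
  map_add' a b := by
    have h0 : cl n (rep (a + b)) = cl n (rep a * rep b) := by
      rw [cl_rep, cl_mul (rep_mem a) (rep_mem b), cl_rep, cl_rep]
    rw [cl_aut_congr α (rep_mem _) (mul_mem (rep_mem a) (rep_mem b)) h0, map_mul,
      cl_mul ((aut_mem_NN_iff α n _).mpr (rep_mem a)) ((aut_mem_NN_iff α n _).mpr (rep_mem b))]

lemma phiA_cl {n : ℕ} {g : G} (hg : g ∈ NN G n) : phiA α n (cl n g) = cl n (α g) :=
  cl_aut_congr α (rep_mem _) hg (cl_rep _)

/-- the induced map on the Lie ring -/
noncomputable def phiD : (⨁ n, AA G n) →+ (⨁ n, AA G n) := DirectSum.map (phiA α)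

lemma phiD_hom {n : ℕ} {g : G} (hg : g ∈ NN G n) : phiD α (hom n g) = hom n (α g) := by
  unfold phiD hom
  rw [DirectSum.map_of, phiA_cl α hg]

lemma phiD_mul (x y : ⨁ n, AA G n) : phiD α (x * y) = phiD α x * phiD α y := by
  induction x using DirectSum.induction_on with
  | zero => rw [zero_mul, map_zero, zero_mul]
  | add x x' hx hx' => rw [add_mul, map_add, hx, hx', map_add, add_mul]
  | of i a =>
    induction y using DirectSum.induction_on with
    | zero => rw [mul_zero, map_zero, mul_zero]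
    | add y y' hy hy' => rw [mul_add, map_add, hy, hy', map_add, mul_add]
    | of j b =>
      obtain ⟨g, hg, e1⟩ := exists_hom a
      obtain ⟨h, hh, e2⟩ := exists_hom b
      rw [e1, e2, hom_mul_hom hg hh, phiD_hom α (comm_mem_NN hg hh), phiD_hom α hg, phiD_hom α hh,
        hom_mul_hom ((aut_mem_NN_iff α i g).mpr hg) ((aut_mem_NN_iff α j h).mpr hh),
        map_commutatorElement]

lemma phiD_iterate_hom {n : ℕ} (k : ℕ) {g : G} (hg : g ∈ NN G n) :
    (phiD α)^[k] (hom n g) = hom n ((α ^ k) g) := by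
  induction k generalizing g with
  | zero => rfl
  | succ k ih =>
    rw [Function.iterate_succ_apply, phiD_hom α hg, ih ((aut_mem_NN_iff α n g).mpr hg), pow_succ,
      MulAut.mul_apply]

end aut

/-- fixed-point-freeness passes to invariant sections -/
lemma mem_of_inv_mul_aut_mem [Finite G] (α : MulAut G) (hfpf : ∀ g : G, α g = g → g = 1)
    (K : Subgroup G) (hK : ∀ g, α g ∈ K ↔ g ∈ K) {w : G} (hw : w⁻¹ * α w ∈ K) : w ∈ K := by
  let f : K → K := fun z => ⟨(z : G)⁻¹ * α z, mul_mem (inv_mem z.2) ((hK z).mpr z.2)⟩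
  have hinj : Function.Injective f := by
    intro z z' h
    have h' : (z : G)⁻¹ * α z = (z' : G)⁻¹ * α z' := congrArg Subtype.val h
    have h1 : α ((z' : G) * (z : G)⁻¹) = (z' : G) * (z : G)⁻¹ := by
      rw [map_mul, map_inv]
      have : α (z' : G) = (z' : G) * ((z : G)⁻¹ * α z) := by rw [h']; group
      rw [this]; group
    have := hfpf _ h1
    ext
    exact (mul_inv_eq_one.mp this).symm
  obtain ⟨z, hz⟩ := (Finite.injective_iff_surjective.mp hinj) ⟨w⁻¹ * α w, hw⟩
  have hz' : (z : G)⁻¹ * α z = w⁻¹ * α w := congrArg Subtype.val hz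
  have h1 : α (w * (z : G)⁻¹) = w * (z : G)⁻¹ := by
    rw [map_mul, map_inv]
    have : α w = w * ((z : G)⁻¹ * α z) := by rw [hz']; group
    rw [this]; group
  have := hfpf _ h1
  rw [mul_inv_eq_one.mp this]
  exact z.2

lemma sum_phiD_iterate [Finite G] {p : ℕ} (α : MulAut G) (hα : α ^ p = 1)
    (hfpf : ∀ g : G, α g = g → g = 1) (x : ⨁ n, AA G n) :
    ∑ k ∈ Finset.range p, (phiD α)^[k] x = 0 := by
  induction x using DirectSum.induction_on with
  | zero => simp [iterate_map_zero]
  | add x y hx hy =>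
    simp_rw [iterate_map_add]
    rw [Finset.sum_add_distrib, hx, hy, add_zero]
  | of n a =>
    obtain ⟨g, hg, e1⟩ := exists_hom a
    rw [e1]
    have hgk : ∀ k : ℕ, (α ^ k) g ∈ NN G n := by
      intro k
      induction k with
      | zero => simpa using hg
      | succ k ih =>
        rw [pow_succ', MulAut.mul_apply]
        exact (aut_mem_NN_iff α n _).mpr ih
    have e2 : ∀ k ∈ Finset.range p, (phiD α)^[k] (hom n g) =
        DirectSum.of (AA G) n (cl n ((α ^ k) g)) := fun k _ => phiD_iterate_hom α k hg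
    rw [Finset.sum_congr rfl e2, ← map_sum]
    set y : AA G n := ∑ k ∈ Finset.range p, cl n ((α ^ k) g) with hy
    have hfix : phiA α n y = y := by
      rw [hy, map_sum]
      have e3 : ∀ k ∈ Finset.range p, phiA α n (cl n ((α ^ k) g)) = cl n ((α ^ (k + 1)) g) := by
        intro k _
        rw [phiA_cl α (hgk k), pow_succ', MulAut.mul_apply]
      rw [Finset.sum_congr rfl e3]
      have s1 := Finset.sum_range_succ (fun k => cl n ((α ^ k) g)) p
      have s2 := Finset.sum_range_succ' (fun k => cl n ((α ^ k) g)) p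
      rw [s1, hα, pow_zero] at s2
      exact (add_right_cancel s2).symm
    have hy0 : y = 0 := by
      obtain ⟨w, hw, e4⟩ := cl_surj y
      rw [← e4, phiA_cl α hw] at hfix
      have h5 := (cl_eq_iff hw ((aut_mem_NN_iff α n w).mpr hw)).mp hfix.symm
      have h6 := mem_of_inv_mul_aut_mem α hfpf (NN G (n + 1)) (aut_mem_NN_iff α (n + 1)) h5
      rw [← e4]
      exact cl_eq_zero_of_mem h6
    rw [hy0, map_zero]

end Cfsg.Agent.Helper3.HK
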