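import Mathlib
import Cfsg.Agent.Helper5.HNTowH
import Cfsg.Agent.Helper9.OutG.Main

/-!
# Permutation representations of the group `⟨x, y, z⟩` of the Harada–Norton presentation

Five packed tables `x, x⁻¹, y, y⁻¹, z` on which the ten relators act trivially give a homomorphism
from the presented group `Ht` to the permutations.
-/

set_option autoImplicit false

noncomputable section

namespace Cfsg.Agent.Helper3.HN2HS

open Cfsg.Agent.Helper5.HNTow Cfsg.Agent.Helper9.OutG

/-- the check that a word acts trivially on all points. -/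
def trivW (D : Dat) (w : List ℕ) : Bool :=
  Cfsg.Agent.Helper9.J3.allB (fun x => Nat.beq (evalT D w x) x) D.n

theorem permW_eq_one {D : Dat} (hD : tabOK D) {w : List ℕ} (h : trivW D w = true) :
    permW D hD w = 1 := by
  apply perm_ext D
  intro x
  rw [permW_apply]
  exact Nat.eq_of_beq_eq_true (Cfsg.Agent.Helper9.J3.allB_true h x.isLt)

/-- the check that two functions agree on all points. -/
def agreeN (n : ℕ) (f g : ℕ → ℕ) : Bool :=
  Cfsg.Agent.Helper9.J3.allB (fun x => Nat.beq (f x) (g x)) n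

theorem agreeN_true {n : ℕ} {f g : ℕ → ℕ} (h : agreeN n f g = true) {x : ℕ} (hx : x < n) :
    f x = g x :=
  Nat.eq_of_beq_eq_true (Cfsg.Agent.Helper9.J3.allB_true h hx)

section
variable (D : Dat) (hD : tabOK D)

theorem lt3_El (h01 : ivI D 0 = 1) (h23 : ivI D 2 = 3) (c : ℕ) (hc : c < 5) :
    lt3 (El D hD 0) (El D hD 2) (El D hD 4) c = El D hD c := by
  interval_cases c
  · rfl
  · show (El D hD 0)⁻¹ = El D hD 1
    rw [← El_iv, h01]
  · rfl
  · show (El D hD 2)⁻¹ = El D hD 3
    rw [← El_iv, h23]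
  · rfl

theorem evw3_El (h01 : ivI D 0 = 1) (h23 : ivI D 2 = 3) :
    ∀ l : List ℕ, (∀ c ∈ l, c < 5) →
      evw3 (El D hD 0) (El D hD 2) (El D hD 4) l = permW D hD l
  | [], _ => rfl
  | c :: l, h => by
    rw [evw3_cons, permW_cons, evw3_El h01 h23 l (fun d hd => h d (List.mem_cons_of_mem _ hd)),
      lt3_El D hD h01 h23 c (h c List.mem_cons_self)]

/-- **The homomorphism of five tables.** -/
theorem hom_of_dat (h01 : ivI D 0 = 1) (h23 : ivI D 2 = 3)
    (hrel : ∀ w ∈ relWH, trivW D w = true) :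
    ∃ φ : Ht →* Equiv.Perm (Fin D.n), φ xH = El D hD 0 ∧ φ yH = El D hD 2 ∧ φ zH = El D hD 4 ∧
      ∀ l : List ℕ, (∀ c ∈ l, c < 5) → φ (evw3 xH yH zH l) = permW D hD l := by
  let f3 : Fin 3 → Equiv.Perm (Fin D.n) := ![El D hD 0, El D hD 2, El D hD 4]
  have hlift : ∀ l : List ℕ, FreeGroup.lift f3 (fw3 l) =
      evw3 (El D hD 0) (El D hD 2) (El D hD 4) l := by
    intro l
    rw [fw3, map_evw3, FreeGroup.lift_apply_of, FreeGroup.lift_apply_of, FreeGroup.lift_apply_of]
    rfl
  have hrels : ∀ r ∈ relsH, FreeGroup.lift f3 r = 1 := by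
    rintro r ⟨l, hl, rfl⟩
    rw [hlift, evw3_El D hD h01 h23 l (relWH_lt l hl)]
    exact permW_eq_one hD (hrel l hl)
  let φ : Ht →* Equiv.Perm (Fin D.n) := PresentedGroup.toGroup hrels
  have hx : φ xH = El D hD 0 := PresentedGroup.toGroup.of hrels
  have hy : φ yH = El D hD 2 := PresentedGroup.toGroup.of hrels
  have hz : φ zH = El D hD 4 := PresentedGroup.toGroup.of hrels
  refine ⟨φ, hx, hy, hz, fun l hl => ?_⟩
  rw [map_evw3, hx, hy, hz, evw3_El D hD h01 h23 l hl]

end

end Cfsg.Agent.Helper3.HN2HS
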