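import Mathlib
import Cfsg.Agent.Helper3.HN2HSDat
import Cfsg.Agent.Helper3.HN2HSHom
import Cfsg.Agent.Helper9.HSO.Chk

/-!
# Checks of the data for the double cover of the Higman–Sims group in the presented
Harada–Norton group
-/

set_option autoImplicit false
set_option maxRecDepth 100000

namespace Cfsg.Agent.Helper3.HN2HS

open Cfsg.Agent.Helper5.HNTow Cfsg.Agent.Helper9.OutG Cfsg.Agent.Helper9.HSO
  Cfsg.Agent.Helper9.J3

theorem tabQ_b : allB (tabChk dQ) dQ.K = true := by decide +kernel

theorem tabQ : tabOK dQ := fun _ hk => allB_true tabQ_b hk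

theorem tabM_b : allB (tabChk dM) dM.K = true := by decide +kernel

theorem tabM : tabOK dM := fun _ hk => allB_true tabM_b hk

theorem ivQ01 : ivI dQ 0 = 1 := by decide +kernel
theorem ivQ23 : ivI dQ 2 = 3 := by decide +kernel
theorem ivM01 : ivI dM 0 = 1 := by decide +kernel
theorem ivM23 : ivI dM 2 = 3 := by decide +kernel

theorem relQ_b : relWH.all (trivW dQ) = true := by decide +kernel

theorem relQ : ∀ w ∈ relWH, trivW dQ w = true := List.all_eq_true.mp relQ_b

theorem relM_b : relWH.all (trivW dM) = true := by decide +kernel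

theorem relM : ∀ w ∈ relWH, trivW dM w = true := List.all_eq_true.mp relM_b

/-- `x²` acts trivially on the 100 points. -/
theorem sqQ : trivW dQ [0, 0] = true := by decide +kernel

/-- `x²` moves a point of the 1409 points. -/
theorem mvM : evalT dM [0, 0] 1 = 4 := by decide +kernel

theorem lkX : agreeN 100 (T dQ 0) (evalT dD wX) = true := by decide +kernel

theorem lkY : agreeN 100 (T dQ 2) (evalT dD wY) = true := by decide +kernel

theorem lkZ : agreeN 100 (T dQ 4) (fun x => xF dD dX (evalT dD wZ x)) = true := by
  decide +kernel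

theorem lk0 : agreeN 100 (T dD 0) (evalT dQ w0) = true := by decide +kernel

theorem lk2 : agreeN 100 (T dD 2) (evalT dQ w2) = true := by decide +kernel

end Cfsg.Agent.Helper3.HN2HS
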