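import Mathlib

/-!
# A criterion for a non-split double cover inside a group of four times the order

A finite group `H` of order `4 n`, generated by `x`, `y`, `z`, with a homomorphism `π` to a group
containing a subgroup `S` of order `n` with trivial centre, such that `π x, π y ∈ S`, `π z ∉ S`,
`z² = 1`, `π z` normalizes `S`, `S` is in the image of `π`, and an element `u` with `π u ∈ S`,
`π (u²) = 1`, `u² ≠ 1`: the preimage `K` of `S` is normal of index 2, its centre has order 2,
`K / Z(K) ≃ S`, and the centre has no complement.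
-/

set_option autoImplicit false

namespace Cfsg.Agent.Helper3.HN2HS

/-- a normal subgroup of order two is central. -/
theorem normal_card_two_le_center {K : Type*} [Group K] (M : Subgroup K) [M.Normal]
    (hM : Nat.card M = 2) : M ≤ Subgroup.center K := by
  intro c hc
  rw [Subgroup.mem_center_iff]
  intro k
  by_cases hc1 : c = 1
  · rw [hc1, mul_one, one_mul]
  · -- `k * c * k⁻¹ ∈ M` is not `1`, so it is `c`
    have h1 : k * c * k⁻¹ ∈ M := Subgroup.Normal.conj_mem inferInstance c hc k
    have h2 : k * c * k⁻¹ ≠ 1 := by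
      intro h
      apply hc1
      have : k * c = k := by
        have := congrArg (fun t => t * k) h
        simpa using this
      exact mul_eq_left.mp this
    obtain ⟨b, -, hb⟩ := (Nat.card_eq_two_iff' (1 : M)).mp hM
    have e1 : (⟨c, hc⟩ : M) = b := hb _ (fun h => hc1 (congrArg Subtype.val h))
    have e2 : (⟨k * c * k⁻¹, h1⟩ : M) = b := hb _ (fun h => h2 (congrArg Subtype.val h))
    have e3 : k * c * k⁻¹ = c := congrArg Subtype.val (e2.trans e1.symm)
    calc k * c = k * c * k⁻¹ * k := by group
      _ = c * k := by rw [e3]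

/-- **The criterion.** -/
theorem double_cover_of_hom {H P : Type*} [Group H] [Group P] [Finite H]
    (π : H →* P) (S : Subgroup P) (n : ℕ) (hn : Nat.card S = n) (hH : Nat.card H = 4 * n)
    (hn0 : 0 < n)
    (hcen : ∀ s ∈ S, (∀ g ∈ S, s * g = g * s) → s = 1)
    (x y z u : H) (hgen : Subgroup.closure ({x, y, z} : Set H) = ⊤)
    (hx : π x ∈ S) (hy : π y ∈ S) (hz : π z ∉ S) (hzz : z * z = 1)
    (hnorm : ∀ s ∈ S, π z * s * (π z)⁻¹ ∈ S)
    (hS : S ≤ π.range)
    (hu : π u ∈ S) (hu2 : π (u * u) = 1) (hu1 : u * u ≠ 1) :
    ∃ K : Subgroup H, K.Normal ∧ K.index = 2 ∧ Nat.card (Subgroup.center K) = 2 ∧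
      Nonempty (K ⧸ Subgroup.center K ≃* S) ∧
      ∀ L : Subgroup K, ¬ (Subgroup.center K).IsComplement' L := by
  classical
  set K : Subgroup H := S.comap π with hK
  have hzinv : z⁻¹ = z := inv_eq_of_mul_eq_one_right hzz
  have hπzinv : (π z)⁻¹ = π z := by rw [← map_inv, hzinv]
  -- conjugation by `z`
  have hconj : ∀ k ∈ K, z * k * z ∈ K := by
    intro k hk
    show π (z * k * z) ∈ S
    rw [map_mul, map_mul]
    have := hnorm (π k) hk
    rwa [hπzinv] at this
  have hzK : z ∉ K := hz
  -- every element is in `K` or in `K z`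
  have hQ : ∀ b : H, b ∈ K ∨ b * z ∈ K := by
    intro b
    have hb : b ∈ Subgroup.closure ({x, y, z} : Set H) := by rw [hgen]; exact Subgroup.mem_top b
    have key : ∀ g : H, (g ∈ K ∨ g = z) → ∀ b : H, (b ∈ K ∨ b * z ∈ K) →
        (b * g ∈ K ∨ b * g * z ∈ K) := by
      intro g hg b hb
      rcases hg with hg | rfl
      · rcases hb with hb | hb
        · exact Or.inl (K.mul_mem hb hg)
        · right
          have e : b * g * z = (b * z) * (z * g * z) := by
            calc b * g * z = b * (z * z) * g * z := by rw [hzz, mul_one]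
              _ = (b * z) * (z * g * z) := by group
          rw [e]
          exact K.mul_mem hb (hconj g hg)
      · rcases hb with hb | hb
        · right
          rw [mul_assoc, hzz, mul_one]
          exact hb
        · exact Or.inl hb
    induction hb using Subgroup.closure_induction_right with
    | one => exact Or.inl K.one_mem
    | mul_right b _ g hg ih =>
      apply key g _ b ih
      rcases hg with rfl | rfl | rfl
      · exact Or.inl hx
      · exact Or.inl hy
      · exact Or.inr rfl
    | mul_inv_cancel b _ g hg ih =>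
      apply key g⁻¹ _ b ih
      rcases hg with rfl | rfl | rfl
      · exact Or.inl (K.inv_mem hx)
      · exact Or.inl (K.inv_mem hy)
      · exact Or.inr hzinv
  have hidx : K.index = 2 := by
    rw [Subgroup.index_eq_two_iff]
    refine ⟨z, fun b => ?_⟩
    rcases hQ b with hb | hb
    · refine Or.inr ⟨hb, fun hbz => hzK ?_⟩
      have : z = b⁻¹ * (b * z) := by group
      rw [this]
      exact K.mul_mem (K.inv_mem hb) hbz
    · refine Or.inl ⟨hb, fun hb' => hzK ?_⟩
      have : z = b⁻¹ * (b * z) := by group
      rw [this]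
      exact K.mul_mem (K.inv_mem hb') hb
  have hnormal : K.Normal := Subgroup.normal_of_index_eq_two hidx
  -- the order of `K`
  have hcardK : Nat.card K = 2 * n := by
    have := Subgroup.card_mul_index K
    rw [hidx, hH] at this
    omega
  -- the homomorphism `K → S`
  let φ : K →* S := (π.comp K.subtype).codRestrict S (fun k => k.2)
  have hφ : ∀ k : K, ((φ k : S) : P) = π k := fun k => rfl
  have hsurj : Function.Surjective φ := by
    rintro ⟨s, hs⟩
    obtain ⟨h, rfl⟩ := hS hs
    exact ⟨⟨h, hs⟩, rfl⟩
  have hker : Nat.card φ.ker = 2 := by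
    have h1 : Nat.card (K ⧸ φ.ker) * Nat.card φ.ker = Nat.card K :=
      (Subgroup.card_eq_card_quotient_mul_card_subgroup φ.ker).symm
    have h2 : Nat.card (K ⧸ φ.ker) = Nat.card S :=
      Nat.card_congr (QuotientGroup.quotientKerEquivOfSurjective φ hsurj).toEquiv
    rw [h2, hn, hcardK] at h1
    have : n * Nat.card φ.ker = n * 2 := by rw [h1]; ring
    exact Nat.eq_of_mul_eq_mul_left hn0 this
  have hcenter : Subgroup.center K = φ.ker := by
    apply le_antisymm
    · intro c hc
      rw [MonoidHom.mem_ker]
      apply Subtype.ext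
      apply hcen _ (φ c).2
      intro g hg
      obtain ⟨k, hk⟩ := hsurj ⟨g, hg⟩
      have hkc : c * k = k * c := ((Subgroup.mem_center_iff.mp hc) k).symm
      have := congrArg (fun t : S => (t : P)) (congrArg φ hkc)
      simp only [map_mul, Subgroup.coe_mul, hk] at this
      exact this
    · exact normal_card_two_le_center φ.ker hker
  refine ⟨K, hnormal, hidx, ?_, ?_, ?_⟩
  · rw [hcenter]; exact hker
  · exact ⟨(QuotientGroup.quotientMulEquivOfEq hcenter).trans
      (QuotientGroup.quotientKerEquivOfSurjective φ hsurj)⟩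
  · intro L hL
    let u' : K := ⟨u, hu⟩
    have hc : u' * u' ∈ Subgroup.center K := by
      rw [hcenter, MonoidHom.mem_ker]
      apply Subtype.ext
      show π (u * u) = 1
      exact hu2
    have hc1 : u' * u' ≠ 1 := by
      intro h
      apply hu1
      exact congrArg Subtype.val h
    obtain ⟨⟨⟨a, ha⟩, ⟨l, hl⟩⟩, hal, -⟩ := (Subgroup.isComplement'_def.mp hL).existsUnique u'
    have hal' : a * l = u' := hal
    have hcard2 : Nat.card (Subgroup.center K) = 2 := by rw [hcenter]; exact hker
    have ha2 : a * a = 1 := by
      have h2 : (⟨a, ha⟩ : Subgroup.center K) ^ Nat.card (Subgroup.center K) = 1 :=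
        pow_card_eq_one'
      rw [hcard2] at h2
      have h3 := congrArg (fun t : Subgroup.center K => (t : K)) h2
      simpa [pow_two] using h3
    have hcomm : l * a = a * l := (Subgroup.mem_center_iff.mp ha) l
    have hsq : u' * u' = l * l := by
      rw [← hal']
      calc a * l * (a * l) = a * (l * a) * l := by group
        _ = a * (a * l) * l := by rw [hcomm]
        _ = (a * a) * (l * l) := by group
        _ = l * l := by rw [ha2, one_mul]
    have hmemL : u' * u' ∈ L := by rw [hsq]; exact L.mul_mem hl hl
    have hdisj := hL.disjoint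
    rw [Subgroup.disjoint_def] at hdisj
    exact hc1 (hdisj hc hmemL)

end Cfsg.Agent.Helper3.HN2HS
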