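import Mathlib
import Cfsg.Agent.Helper5.HNOrd

/-!
# The group presented by the ten relators in `x`, `y`, `z` of the Harada–Norton presentation

From the two certified coset enumerations (given as hypotheses), the presented group `Ht` is finite
of order at most `177408000`; if the subgroup `⟨x, y, z⟩` of the presented Harada–Norton group has
that order, the two groups are isomorphic.
-/

set_option autoImplicit false
set_option linter.unusedSimpArgs false

namespace Cfsg.Agent.Helper3.HN2HS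

open Cfsg Cfsg.Spor Cfsg.Agent.Helper5.HNSign Cfsg.Agent.Helper5.HNTow Cfsg.Agent.Helper5.HNOrd

theorem relH (l : List ℕ) (hl : l ∈ relWH) : evw3 xH yH zH l = 1 := by
  rw [← mk_fw3]
  exact PresentedGroup.one_of_mem ⟨l, hl, rfl⟩

theorem zH_inv : zH⁻¹ = zH := inv_eq_of_mul_eq_one_right zH_sq

theorem t1 : xH ^ 2 * yH * xH ^ 2 * yH⁻¹ = 1 := by
  rw [← relH [0, 0, 2, 0, 0, 3] (by decide)]
  simp only [evw3, lt3, List.map_cons, List.map_nil, List.prod_cons, List.prod_nil, mul_one,
    pow_succ, pow_zero, one_mul, mul_inv_rev, inv_inv, mul_assoc]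

theorem t3 : (xH⁻¹ * yH ^ 2 * xH * yH ^ 3) ^ 3 = 1 := by
  rw [← relH [1, 2, 2, 0, 2, 2, 2, 1, 2, 2, 0, 2, 2, 2, 1, 2, 2, 0, 2, 2, 2] (by decide)]
  simp only [evw3, lt3, List.map_cons, List.map_nil, List.prod_cons, List.prod_nil, mul_one,
    pow_succ, pow_zero, one_mul, mul_inv_rev, inv_inv, mul_assoc]

theorem t6 : zH ^ 2 = 1 := by
  rw [pow_two]
  exact zH_sq

theorem t7 : (zH * xH) ^ 2 = 1 := by
  rw [← relH [4, 0, 4, 0] (by decide)]
  simp only [evw3, lt3, List.map_cons, List.map_nil, List.prod_cons, List.prod_nil, mul_one,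
    pow_succ, pow_zero, one_mul, mul_inv_rev, inv_inv, mul_assoc]

theorem t8 : zH⁻¹ * (yH * xH * yH * xH * yH ^ 2 * xH * yH⁻¹)⁻¹ * zH *
    (yH * xH * yH * xH * yH ^ 2 * xH * yH⁻¹) * (xH ^ 2)⁻¹ = 1 := by
  rw [zH_inv, ← relH [4, 2, 1, 3, 3, 1, 3, 1, 3, 4, 2, 0, 2, 0, 2, 2, 0, 3, 1, 1] (by decide)]
  simp only [evw3, lt3, List.map_cons, List.map_nil, List.prod_cons, List.prod_nil, mul_one,
    pow_succ, pow_zero, one_mul, mul_inv_rev, inv_inv, mul_assoc]

theorem t9 : zH * (((yH ^ 3 * xH * yH * xH * yH)⁻¹ * zH * (yH ^ 3 * xH * yH * xH * yH)) * xH) ^ 3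
    = 1 := by
  rw [← relH [4, 3, 1, 3, 1, 3, 3, 3, 4, 2, 2, 2, 0, 2, 0, 2, 0, 3, 1, 3, 1, 3, 3, 3, 4, 2, 2, 2,
    0, 2, 0, 2, 0, 3, 1, 3, 1, 3, 3, 3, 4, 2, 2, 2, 0, 2, 0, 2, 0] (by decide)]
  simp only [evw3, lt3, List.map_cons, List.map_nil, List.prod_cons, List.prod_nil, mul_one,
    pow_succ, pow_zero, one_mul, mul_inv_rev, inv_inv, mul_assoc]

/-! ### the homomorphism from the first tower -/

/-- the images of the generators of `L`. -/
def f2H : Fin 2 → Ht := ![xH, yH]

theorem lift_f2H (l : List ℕ) : FreeGroup.lift f2H (fw l) = evw xH yH l := by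
  rw [fw, map_evw, FreeGroup.lift_apply_of, FreeGroup.lift_apply_of]
  rfl

theorem relW_sub : ∀ l ∈ relW, l ∈ relWH := by decide

theorem f2H_rel : ∀ r ∈ rels, FreeGroup.lift f2H r = 1 := by
  rintro r ⟨l, hl, rfl⟩
  rw [lift_f2H, ← evw3_eq_evw xH yH zH l (relW_lt l hl)]
  exact relH l (relW_sub l hl)

/-- the homomorphism `L → Ht`. -/
def fLH : L →* Ht := PresentedGroup.toGroup f2H_rel

theorem fLH_x : fLH xL = xH := PresentedGroup.toGroup.of f2H_rel
theorem fLH_y : fLH yL = yH := PresentedGroup.toGroup.of f2H_rel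

theorem fLH_evw (l : List ℕ) : fLH (evw xL yL l) = evw xH yH l := by
  rw [map_evw, fLH_x, fLH_y]

/-- **The order of `Ht`**, from the two coset enumerations. -/
theorem Ht_order_le
    (hA : Finite L ∧ Nat.card L ≤ 6 * 252000 ∧ evw xL yL lR = 1 ∧
      (evw xL yL lc) ^ 2 ≠ 1 ∧ (evw xL yL lc) ^ 4 ≠ 1)
    (hC : ((Subgroup.closure {s | s ∈ subs3}).map (PresentedGroup.mk relsH)).index = 352) :
    Finite Ht ∧ Nat.card Ht ≤ 177408000 := by
  obtain ⟨hfinL, hcardL, hR, hc2, hc4⟩ := hA
  -- the sign argument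
  have hRH : evw xH yH lR = 1 := by rw [← fLH_evw, hR, map_one]
  have hcH : (evw xH yH lc) ^ 2 = 1 := c_sq' xH yH zH t1 t3 t6 t7 t8 t9 hRH
  -- the kernel of `fLH` has at least three elements
  have : Finite L := hfinL
  have hker3 : 3 ≤ Nat.card fLH.ker := by
    refine three_le_card fLH.ker ((evw xL yL lc) ^ 2) ?_ hc2 ?_
    · rw [MonoidHom.mem_ker, map_pow, fLH_evw, hcH]
    · rw [← pow_mul]
      exact hc4
  -- the image of `fLH`
  have hrangeL : Nat.card fLH.range * 3 ≤ 6 * 252000 := by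
    have h1 : Nat.card (L ⧸ fLH.ker) * Nat.card fLH.ker = Nat.card L :=
      (Subgroup.card_eq_card_quotient_mul_card_subgroup fLH.ker).symm
    have h2 : Nat.card (L ⧸ fLH.ker) = Nat.card fLH.range :=
      Nat.card_congr (QuotientGroup.quotientKerEquivRange fLH).toEquiv
    rw [h2] at h1
    calc Nat.card fLH.range * 3 ≤ Nat.card fLH.range * Nat.card fLH.ker :=
          Nat.mul_le_mul_left _ hker3
      _ = Nat.card L := h1
      _ ≤ 6 * 252000 := hcardL
  have hrangeL' : Nat.card fLH.range ≤ 504000 := by omega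
  have hfinrL : Finite fLH.range := Set.finite_range fLH
  -- the subgroup `⟨x, y⟩ ≤ Ht`
  set KH : Subgroup Ht := (Subgroup.closure {s | s ∈ subs3}).map (PresentedGroup.mk relsH) with hKH
  have hKle : KH ≤ fLH.range := by
    rw [hKH, MonoidHom.map_closure, Subgroup.closure_le]
    rintro _ ⟨s, hs, rfl⟩
    simp only [subs3, List.mem_cons, List.mem_nil_iff, or_false, Set.mem_ofPred_eq] at hs
    rcases hs with rfl | rfl
    · exact ⟨xL, fLH_x⟩
    · exact ⟨yL, fLH_y⟩
  have hfinK : Finite KH := Finite.of_injective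
    (fun q : KH => (⟨q.1, hKle q.2⟩ : fLH.range)) (by
      intro p q h
      exact Subtype.ext (congrArg (fun r : fLH.range => r.1) h))
  have hcardK : Nat.card KH ≤ 504000 := le_trans (Subgroup.card_le_of_le hKle) hrangeL'
  have hmul : Nat.card KH * KH.index = Nat.card Ht := Subgroup.card_mul_index KH
  rw [hC] at hmul
  have hKpos : 0 < Nat.card KH := Nat.card_pos
  constructor
  · apply Nat.finite_of_card_ne_zero
    rw [← hmul]
    omega
  · rw [← hmul]
    omega

/-- the generators generate. -/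
theorem closure_xyzH : Subgroup.closure ({xH, yH, zH} : Set Ht) = ⊤ := by
  rw [eq_top_iff, ← PresentedGroup.closure_range_of, Subgroup.closure_le]
  rintro _ ⟨i, rfl⟩
  apply Subgroup.subset_closure
  fin_cases i
  · left; rfl
  · right; left; rfl
  · right; right; rfl

/-- **The isomorphism** of `Ht` with the subgroup `⟨x, y, z⟩` of the presented Harada–Norton group,
given the order of the latter. -/
theorem iso_Hs
    (hA : Finite L ∧ Nat.card L ≤ 6 * 252000 ∧ evw xL yL lR = 1 ∧
      (evw xL yL lc) ^ 2 ≠ 1 ∧ (evw xL yL lc) ^ 4 ≠ 1)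
    (hC : ((Subgroup.closure {s | s ∈ subs3}).map (PresentedGroup.mk relsH)).index = 352)
    (hcard : Nat.card Hs = 177408000) :
    ∃ e : Ht ≃* Hs, ((e xH : Hs) : G) = xG ∧ ((e yH : Hs) : G) = yG ∧ ((e zH : Hs) : G) = zG := by
  obtain ⟨hfin, hle⟩ := Ht_order_le hA hC
  have hrange : ∀ a : Ht, fH a ∈ Hs := by
    intro a
    have ha : a ∈ Subgroup.closure ({xH, yH, zH} : Set Ht) := by
      rw [closure_xyzH]; exact Subgroup.mem_top a
    rw [Hs_eq]
    induction ha using Subgroup.closure_induction with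
    | mem b hb =>
      apply Subgroup.subset_closure
      rcases hb with rfl | rfl | rfl
      · left; exact fH_x
      · right; left; exact fH_y
      · right; right; exact fH_z
    | one => rw [map_one]; exact Subgroup.one_mem _
    | mul a b _ _ iha ihb => rw [map_mul]; exact Subgroup.mul_mem _ iha ihb
    | inv a _ iha => rw [map_inv]; exact Subgroup.inv_mem _ iha
  let f : Ht →* Hs := fH.codRestrict Hs hrange
  have hpre : ∀ b ∈ Subgroup.closure ({xG, yG, zG} : Set G), ∃ a : Ht, fH a = b := by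
    intro b hb
    induction hb using Subgroup.closure_induction with
    | mem b hb' =>
      rcases hb' with rfl | rfl | rfl
      · exact ⟨xH, fH_x⟩
      · exact ⟨yH, fH_y⟩
      · exact ⟨zH, fH_z⟩
    | one => exact ⟨1, map_one fH⟩
    | mul a b _ _ iha ihb =>
      obtain ⟨p, hp⟩ := iha
      obtain ⟨q, hq⟩ := ihb
      exact ⟨p * q, by rw [map_mul, hp, hq]⟩
    | inv a _ iha =>
      obtain ⟨p, hp⟩ := iha
      exact ⟨p⁻¹, by rw [map_inv, hp]⟩
  have hsurj : Function.Surjective f := by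
    rintro ⟨b, hb⟩
    obtain ⟨a, ha⟩ := hpre b (by rw [← Hs_eq]; exact hb)
    exact ⟨a, Subtype.ext ha⟩
  have : Finite Ht := hfin
  have hbij : Function.Bijective f :=
    Function.Surjective.bijective_of_nat_card_le hsurj (by rw [hcard]; exact hle)
  exact ⟨MulEquiv.ofBijective f hbij, fH_x, fH_y, fH_z⟩

end Cfsg.Agent.Helper3.HN2HS
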