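import Mathlib
import Cfsg.Agent.Helper5.LPC

/-!
# generated: data for the Schur multiplier of the Higman–Sims group

In the permutation group on 100 points of `Cfsg.Agent.Helper9.HSO` (generated by the tables `0, …, 3`):
words for elements `a, b, c` of order 11 and their inverses (`a, b` generate a subgroup of order 7920,
as do `a⁻¹, c`), their action on the 100 points, the central words, the four tables as words in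
`a, b, c`, and a stabiliser chain for the subgroup of order 7920.
-/

set_option autoImplicit false

namespace Cfsg.Agent.Helper3.HSX

open Cfsg.Agent.Helper5.LP

/-- the letters `a, a⁻¹, b, b⁻¹, c, c⁻¹` as words in the four tables. -/
def W : ℕ → List ℕ
  | 0 => [1]
  | 1 => [0]
  | 2 => [1, 1, 2, 0, 3, 0, 3, 3, 3, 0, 2, 1, 2, 2, 2]
  | 3 => [3, 3, 3, 0, 3, 1, 2, 2, 2, 1, 2, 1, 3, 0, 0]
  | 4 => [0, 3, 3, 1, 3, 3, 0, 3, 0, 2, 2, 0, 0, 3, 1, 2, 0]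
  | _ => [1, 3, 0, 2, 1, 1, 3, 3, 1, 2, 1, 2, 2, 0, 2, 2, 1]

/-- the action of the six letters on the 100 points. -/
def tabL : List (List ℕ) := [[37, 36, 3, 0, 22, 31, 74, 53, 60, 51, 71, 20, 67, 42, 9, 14, 75, 12, 49, 44, 70, 55, 32, 30, 28, 26, 5, 34, 35, 1, 24, 29, 27, 23, 33, 4, 2, 25, 82, 68, 97, 64, 63, 84, 56, 57, 99, 93, 91, 69, 96, 17, 65, 72, 16, 19, 88, 95, 87, 18, 48, 47, 81, 92, 94, 46, 50, 13, 76, 6, 39, 77, 61, 90, 58, 43, 83, 85, 73, 78, 11, 89, 21, 41, 40, 7, 10, 62, 66, 59, 45, 54, 15, 86, 80, 52, 38, 8, 98, 79], [3, 29, 36, 2, 35, 26, 69, 85, 97, 14, 86, 80, 17, 67, 15, 92, 54, 51, 59, 55, 11, 82, 4, 33, 30, 37, 25, 32, 24, 31, 23, 5, 22, 34, 27, 28, 1, 0, 96, 70, 84, 83, 13, 75, 19, 90, 65, 61, 60, 18, 66, 9, 95, 7, 91, 21, 44, 45, 74, 89, 8, 72, 87, 42, 41, 52, 88, 12, 39, 49, 20, 10, 53, 78, 6,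 16, 68, 71, 79, 99, 94, 62, 38, 76, 43, 77, 93, 58, 56, 81, 73, 48, 63, 47, 64, 57, 50, 40, 98, 46], [86, 20, 6, 87, 45, 55, 56, 82, 40, 9, 43, 91, 15, 98, 42, 17, 94, 51, 74, 64, 72, 10, 23, 95, 22, 11, 85, 52, 4, 44, 65, 8, 90, 78, 35, 27, 3, 75, 7, 93, 2, 81, 67, 48, 89, 32, 73, 36, 53, 5, 76, 13, 79, 83, 26, 25, 69, 30, 38, 88, 96, 62, 59, 14, 70, 99, 80, 92, 97, 84, 41, 31, 58, 24, 29, 66, 54, 21, 34, 57, 1, 49, 37, 47, 60, 68, 39, 77, 50, 16, 46, 19, 12, 18, 0, 28, 71, 61, 63, 33], [94, 80, 40, 36, 28, 49, 2, 38, 31, 9, 21, 25, 92, 51, 63, 12, 89, 15, 93, 91, 1, 77, 24, 22, 73, 55, 54, 35, 95, 74, 57, 71, 45, 99, 78, 34, 47, 82, 58, 86, 8, 70, 14, 10, 29, 4, 90, 83, 43, 81, 88, 17, 27, 48, 76, 5, 6, 79, 72, 62, 84, 97, 61, 98, 19, 30, 75, 42, 85, 56, 64, 96, 20, 46, 18, 37, 50, 87, 33, 52, 66, 41, 7, 53, 69, 26,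 0, 3, 59, 44, 32, 11, 67, 39, 16, 23, 60, 68, 13, 65], [1, 25, 31, 36, 28, 2, 34, 4, 35, 29, 27, 22, 5, 26, 37, 3, 33, 0, 32, 30, 24, 23, 94, 80, 77, 15, 12, 40, 89, 51, 91, 92, 38, 93, 21, 49, 9, 63, 87, 62, 8, 85, 17, 61, 47, 45, 79, 19, 43, 96, 88, 42, 78, 81, 20, 71, 10, 46, 50, 44, 84, 68, 6, 13, 39, 57, 11, 14, 7, 60, 64, 48, 59, 90, 18, 82, 16, 41, 95, 52, 75, 58, 70, 97, 56, 74, 55, 54, 76, 86, 99, 66, 67, 83, 72, 73, 69, 53, 65, 98], [17, 0, 5, 15, 7, 12, 62, 68, 40, 36, 56, 66, 26, 63, 67, 25, 76, 42, 74, 47, 54, 34, 11, 21, 20, 1, 13, 10, 4, 9, 19, 2, 18, 16, 6, 8, 3, 14, 32, 64, 27, 77, 51, 48, 59, 45, 57, 44, 71, 35, 58, 29, 79, 97, 87, 86, 84, 65, 81, 72, 69, 43, 39, 37, 70, 98, 91, 92, 61, 96, 82, 55, 94, 95, 85, 80, 88, 24, 52, 46, 23, 53, 75, 93, 60, 41, 89, 38, 50, 28, 73, 30, 31, 33, 22, 78, 49, 83,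 99, 90]]

/-- the four tables as words in the six letters. -/
def letW : ℕ → List ℕ
  | 0 => [1]
  | 1 => [0]
  | 2 => [1, 4, 4, 1, 3, 0, 3, 0, 4, 2, 5, 0]
  | _ => [1, 4, 3, 5, 1, 2, 1, 2, 0, 5, 5, 0]

/-- the orders. -/
def mm (_ : ℕ) : ℕ := 11

/-- the central words of the subgroup of order 7920 generated by `a, b`. -/
def CU : List (List ℕ) := [[0, 2, 2, 0, 2, 2, 0, 2, 2], [0, 0, 0, 0, 2, 2, 2, 0, 3, 3], [0, 0, 0, 2, 2, 0, 3, 0, 3, 3, 1, 3], [0, 0, 0, 2, 2, 1, 2, 0, 2, 2, 0, 3]]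

/-- the same words in `a⁻¹, c`. -/
def CV : List (List ℕ) := [[1, 4, 4, 1, 4, 4, 1, 4, 4], [1, 1, 1, 1, 4, 4, 4, 1, 5, 5], [1, 1, 1, 4, 4, 1, 5, 1, 5, 5, 0, 5], [1, 1, 1, 4, 4, 0, 4, 1, 4, 4, 1, 5]]

/-- the new central words. -/
def CX : List (List ℕ) := [[0, 0, 0, 2, 1, 1, 2, 1, 4, 1, 5, 1, 4], [0, 0, 0, 0, 2, 2, 2, 0, 4, 2, 4, 2, 4, 3], [0, 0, 0, 2, 1, 2, 2, 0, 0, 3, 5, 1, 1, 5], [0, 0, 0, 2, 1, 2, 5, 0, 0, 4, 4, 1, 4, 3], [0, 0, 0, 2, 5, 2, 5, 0, 0, 0, 2, 5, 2, 5]]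

/-- the central words: five new ones, those of the subgroup generated by `a, b`, and those of the subgroup
generated by `a⁻¹, c`. -/
def CC : List (List ℕ) := [[0, 0, 0, 2, 1, 1, 2, 1, 4, 1, 5, 1, 4], [0, 0, 0, 0, 2, 2, 2, 0, 4, 2, 4, 2, 4, 3], [0, 0, 0, 2, 1, 2, 2, 0, 0, 3, 5, 1, 1, 5], [0, 0, 0, 2, 1, 2, 5, 0, 0, 4, 4, 1, 4, 3], [0, 0, 0, 2, 5, 2, 5, 0, 0, 0, 2, 5, 2, 5], [0, 2, 2, 0, 2, 2, 0, 2, 2], [0, 0, 0, 0, 2, 2, 2, 0, 3, 3], [0, 0, 0, 2, 2, 0, 3, 0, 3, 3, 1, 3], [0, 0, 0, 2, 2, 1, 2, 0, 2, 2, 0, 3], [1, 4, 4, 1, 4, 4, 1, 4, 4], [1, 1, 1, 1, 4, 4, 4, 1, 5, 5], [1, 1, 1, 4, 4, 1, 5, 1, 5, 5, 0, 5], [1, 1, 1, 4, 4, 0, 4, 1, 4, 4, 1, 5]]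

/-- a level of the stabiliser chain. -/
def levelU0 : Level := (9, [[0], [1], [2], [3]], [(9, 0), (9, 1), (51, 0), (51, 2), (14, 1), (14, 2), (14, 3), (17, 0), (13, 1), (13, 2), (15, 1)])

/-- a level of the stabiliser chain. -/
def levelU1 : Level := (12, [[2], [1, 1, 3, 0]], [(12, 0), (12, 1), (15, 0), (15, 1), (67, 0), (67, 1), (17, 0), (17, 1), (13, 0), (51, 1)])

/-- a level of the stabiliser chain. -/
def levelU2 : Level := (13, [[2, 2, 1, 1, 3, 0], [3, 1, 2, 0, 0, 2, 2, 2, 2], [1, 1, 3, 0, 2, 1, 1, 3, 0, 2]], [(13, 0), (15, 0), (15, 1), (63, 1), (63, 2), (14, 2), (51, 2), (42, 2), (17, 0)])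

/-- a level of the stabiliser chain. -/
def levelU3 : Level := (14, [[1, 1, 3, 0, 2, 1, 1, 3, 0, 2], [1, 2, 0, 0, 3, 3, 3, 1, 2, 0, 0, 2, 2, 2, 2]], [(14, 0), (14, 1), (17, 0), (17, 1), (63, 0)])

/-- the stabiliser chain. -/
def levelUs : List Level := [levelU0, levelU1, levelU2, levelU3]

end Cfsg.Agent.Helper3.HSX
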