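import Mathlib
import Cfsg.Agent.Helper3.HSXDat
import Cfsg.Agent.Helper9.HSO.Final
import Cfsg.Agent.Helper5.LPS
import Cfsg.Agent.Helper5.StemPF

/-!
# Checks for the Schur multiplier of the Higman–Sims group

The words of `HSXDat` in the permutation group on 100 points of `Cfsg.Agent.Helper9.HSO`: the tables
of the six letters, the relators, the orders, the four tables as words in the letters, the stabiliser
chain of the subgroup of order 7920.
-/

set_option autoImplicit false

namespace Cfsg.Agent.Helper3.HSX

open Cfsg.Agent.Helper5.LP Cfsg.Agent.Helper5.StemP Cfsg.Agent.Helper9.OutG Cfsg.Agent.Helper9.HSO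

/-- the action of the six letters on the 100 points. -/
def tabF (c v : ℕ) : ℕ := tabFun tabL c v

set_option maxRecDepth 1000000 in
theorem tab_agree : ∀ c, c < 6 → ∀ v, v < 100 → evalT dD (W c) v = tabF c v := by decide +kernel

set_option maxRecDepth 1000000 in
theorem W_inv : invW dD (W 0) = W 1 ∧ invW dD (W 2) = W 3 ∧ invW dD (W 4) = W 5 := by
  decide +kernel

set_option maxRecDepth 1000000 in
theorem chk_rels : ∀ r ∈ CC, ∀ v, v < 100 → actL tabF r v = v := by decide +kernel

set_option maxRecDepth 1000000 in
theorem chk_pow : ∀ i, i < 3 → ∀ v, v < 100 → actL tabF (List.replicate 11 (2 * i)) v = v := by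
  decide +kernel

set_option maxRecDepth 1000000 in
theorem chk_let : ∀ l, l < 4 → ∀ v, v < 100 → T dD l v = actL tabF (letW l) v := by
  decide +kernel

theorem letW_lt : ∀ l, l < 4 → ∀ x ∈ letW l, x < 6 := by decide

set_option maxRecDepth 1000000 in
theorem chk_move : tabF 0 0 ≠ 0 := by decide +kernel

set_option maxRecDepth 1000000 in
theorem chainU_ok : chainOK tabF (2 * 2) 100 [] levelUs = true := chainOK_of_F (by decide +kernel)

theorem chainU_prod : chainProd levelUs = 7920 := by decide +kernel

theorem CC_lt : ∀ r ∈ CC, ∀ c ∈ r, c < 2 * 3 := by decide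

theorem CU_lt : ∀ r ∈ CU, ∀ c ∈ r, c < 2 * 2 := by decide

theorem CU_sub : ∀ r ∈ CU, r ∈ CC := by decide

theorem CC_eq : CC = CX ++ (CU ++ CV) := by decide

/-- the substitution `a ↦ a⁻¹, b ↦ c` on letters. -/
def sb (c : ℕ) : ℕ := if c = 0 then 1 else if c = 1 then 0 else if c = 2 then 4 else 5

theorem CV_eq : CV = CU.map (fun r => r.map sb) := by decide

end Cfsg.Agent.Helper3.HSX
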