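import Mathlib
import Cfsg.Agent.Helper3.HSXChk
import Cfsg.Agent.Helper5.LPL
import Cfsg.Agent.Helper5.LPE

/-!
# Generators of the Higman–Sims group for the Schur multiplier

In the permutation group on 100 points of `Cfsg.Agent.Helper9.HSO` (isomorphic to the Higman–Sims
group, of order 44352000): elements `a, b, c` of order 11, their relators, generation, and the action
on the 100 points in terms of the six letters `a, a⁻¹, b, b⁻¹, c, c⁻¹`.
-/

set_option autoImplicit false

namespace Cfsg.Agent.Helper3.HSX

open Cfsg Cfsg.Agent.Helper5.LP Cfsg.Agent.Helper5.StemP Cfsg.Agent.Helper9.OutG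
  Cfsg.Agent.Helper9.HSO Cfsg.Agent.Helper9.Golay Cfsg.Agent.Helper9.Leech
  Cfsg.Agent.Helper9.LeechAct

/-- the permutation group on 100 points. -/
abbrev P : Type := ↥(GS core)

/-- the group is the Higman–Sims group. -/
theorem model : Nonempty (↥Spor.HS ≃* P) ∧ Nat.card P = 44352000 := by
  have := hs_fin.1
  have hx0 : (((-Spor.leechU : ↥leechLattice) : ↥leechLattice) : GolayPt → ℤ) =
      toVec (nthZ dBr.pts dBr.rt) := by
    have e : nthZ dBr.pts dBr.rt = [-4, 0, 0, 0, 0, 0, 0, 0, 0, 0, 0, 0, 0, 0, 0, 0, 0, 0, 0, 0, 0,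
      0, 0, -4] := by decide +kernel
    rw [e]
    funext p
    revert p
    decide
  exact bridge core brOK Spor.HS hs_fin.2
    [(Spor.leechV, dFix.getD 0 []), (Spor.leechU', dFix.getD 1 [])]
    (by
      intro f hf
      simp only [List.mem_cons, List.not_mem_nil, or_false] at hf
      rcases hf with rfl | rfl
      · exact coeV
      · exact coeU')
    (by decide)
    (by
      intro f hf
      simp only [List.mem_cons, List.not_mem_nil, or_false] at hf
      rcases hf with rfl | rfl <;> decide)
    (by
      intro g hg hfx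
      rw [mem_HS_iff]
      exact ⟨hg, hfx (Spor.leechV, dFix.getD 0 []) List.mem_cons_self,
        hfx (Spor.leechU', dFix.getD 1 []) (List.mem_cons_of_mem _ List.mem_cons_self)⟩)
    (-Spor.leechU) hx0 br_len

instance finP : Finite P := inferInstance

theorem card_P : Nat.card P = 44352000 := model.2

/-- the inclusion in the permutations of the 100 points. -/
noncomputable def rho : P →* Equiv.Perm (Fin 100) := (GS core).subtype

theorem rho_inj : Function.Injective rho := Subtype.val_injective

/-- the generators. -/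
noncomputable def g (i : ℕ) : P := gW core (W (2 * i))

theorem lval_g : ∀ c, c < 6 → lval g c = gW core (W c) := by
  intro c hc
  obtain ⟨h1, h3, h5⟩ := W_inv
  interval_cases c
  · rfl
  · change (gW core (W 0))⁻¹ = _
    rw [gW_inv, h1]
  · rfl
  · change (gW core (W 2))⁻¹ = _
    rw [gW_inv, h3]
  · rfl
  · change (gW core (W 4))⁻¹ = _
    rw [gW_inv, h5]

theorem rho_lval (c : ℕ) (hc : c < 6) (v : Fin 100) : (rho (lval g c) v).val = tabF c v.val := by
  rw [lval_g c hc]
  have h := comp_gW core (W c) v
  rw [tab_agree c hc v.val v.isLt] at h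
  exact h

theorem rho_word : ∀ l : List ℕ, (∀ c ∈ l, c < 6) → ∀ v : Fin 100,
    (rho ((l.map (lval g)).prod) v).val = actL tabF l v.val
  | [], _, v => by
    rw [List.map_nil, List.prod_nil, map_one]
    rfl
  | c :: l, h, v => by
    rw [List.map_cons, List.prod_cons, map_mul, Equiv.Perm.mul_apply,
      rho_lval c (h c List.mem_cons_self),
      rho_word l (fun c hc => h c (List.mem_cons_of_mem _ hc)) v]
    rfl

theorem word_eq_one (l : List ℕ) (hl : ∀ c ∈ l, c < 6) (h : ∀ v, v < 100 → actL tabF l v = v) :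
    (l.map (lval g)).prod = 1 := by
  apply rho_inj
  rw [map_one]
  apply Equiv.ext
  intro v
  apply Fin.ext
  rw [rho_word l hl v, h v.val v.isLt]
  rfl

theorem CC_rel : ∀ r ∈ CC, (r.map (lval g)).prod = 1 := fun r hr =>
  word_eq_one r (CC_lt r hr) (chk_rels r hr)

theorem g_pow : ∀ i, i < 3 → g i ^ mm i = 1 := by
  intro i hi
  have h1 : ((List.replicate 11 (2 * i)).map (lval g)).prod = 1 := by
    apply word_eq_one _ _ (chk_pow i hi)
    intro c hc
    rw [List.eq_of_mem_replicate hc]
    omega
  rwa [List.map_replicate, List.prod_replicate, lval_even] at h1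

theorem g0_ne : g 0 ≠ 1 := by
  intro h
  apply chk_move
  have h1 := rho_lval 0 (by norm_num) ⟨0, by norm_num⟩
  have h2 : lval g 0 = 1 := h
  rw [h2, map_one] at h1
  exact h1.symm

theorem order_g0 : orderOf (g 0) = 11 := by
  have : Fact (Nat.Prime 11) := ⟨by norm_num⟩
  have h11 : g 0 ^ 11 = 1 := g_pow 0 (by norm_num)
  exact orderOf_eq_prime h11 g0_ne

/-- a group whose words act on the table as prescribed by a homomorphism to the group. -/
theorem actsOn_of_hom {Q : Type*} [Group Q] (π : Q →* P) (e : List ℕ → Q) (k : ℕ) (hk : k ≤ 6)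
    (he : ∀ l : List ℕ, (∀ c ∈ l, c < k) → π (e l) = (l.map (lval g)).prod) :
    ActsOn (rho.comp π) e k tabF := by
  constructor
  intro l hl v
  rw [MonoidHom.comp_apply, he l hl]
  exact rho_word l (fun c hc => lt_of_lt_of_le (hl c hc) hk) v

/-! ### generation -/

theorem word_mem (l : List ℕ) (hl : ∀ c ∈ l, c < 6) :
    (l.map (lval g)).prod ∈ Subgroup.closure {y : P | ∃ i, i < 3 ∧ y = g i} := by
  apply Subgroup.list_prod_mem
  intro y hy
  obtain ⟨c, hc, rfl⟩ := List.mem_map.mp hy
  have hi : c / 2 < 3 := by have := hl c hc; omega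
  unfold lval
  split_ifs
  · exact Subgroup.subset_closure ⟨c / 2, hi, rfl⟩
  · exact inv_mem (Subgroup.subset_closure ⟨c / 2, hi, rfl⟩)

theorem letter_eq (l : ℕ) (hl : l < 4) : gE core l = ((letW l).map (lval g)).prod := by
  apply rho_inj
  apply Equiv.ext
  intro v
  apply Fin.ext
  rw [rho_word _ (letW_lt l hl) v, ← chk_let l hl v.val v.isLt]
  exact comp_gE core l v

theorem letters_closure : Subgroup.closure {y : P | ∃ l, l < 4 ∧ y = gE core l} = ⊤ := by
  have h := Subgroup.closure_closure_coe_preimage
    (k := Set.range fun l : Fin dD.L => El dD core.tab l.val)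
  rw [eq_top_iff]
  intro y _
  have hy := (le_of_eq h.symm) (Subgroup.mem_top y)
  refine Subgroup.closure_mono ?_ hy
  rintro z ⟨l, hl⟩
  exact ⟨l.val, l.isLt, Subtype.ext hl.symm⟩

/-- the three generators generate the group. -/
theorem g_closure : Subgroup.closure {y : P | ∃ i, i < 3 ∧ y = g i} = ⊤ := by
  rw [eq_top_iff, ← letters_closure, Subgroup.closure_le]
  rintro x ⟨l, hl, rfl⟩
  rw [letter_eq l hl]
  exact word_mem _ (letW_lt l hl)

end Cfsg.Agent.Helper3.HSX
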