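import Mathlib
import Cfsg.Agent.Helper3.HN2HSGen
import Cfsg.Agent.Helper3.HN2HSChk
import Cfsg.Agent.Helper3.HN2HSOrd
import Cfsg.Agent.Helper3.HSXGen

/-!
# The double cover of the Higman–Sims group in the presented Harada–Norton group

The subgroup `⟨x, y, z⟩` of the presented Harada–Norton group is isomorphic to the group `Ht`
presented by the ten relators in `x, y, z`; `Ht` maps onto a group of permutations of 100 points
containing the model of the Higman–Sims group of `Cfsg.Agent.Helper9.HSO` with index 2, and the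
kernel has order 2; a representation on 1409 points shows that `x² ≠ 1`.  The results of the three
coset enumerations are taken as hypotheses.
-/

set_option autoImplicit false

namespace Cfsg.Agent.Helper3.HN2HS

open Cfsg Cfsg.Spor Cfsg.Agent.Helper5.HNSign Cfsg.Agent.Helper5.HNTow Cfsg.Agent.Helper5.HNOrd
  Cfsg.Agent.Helper9.OutG Cfsg.Agent.Helper9.HSO Cfsg.Agent.Helper9.J3

/-- the model of the Higman–Sims group. -/
abbrev S0 : Subgroup (Equiv.Perm (Fin dD.n)) := GS core

theorem card_S0 : Nat.card S0 = 44352000 := Cfsg.Agent.Helper3.HSX.card_P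

theorem ivD0 : ivI dD 0 = 1 := by decide +kernel
theorem ivD2 : ivI dD 2 = 3 := by decide +kernel

theorem X_eq : (El dQ tabQ 0 : Equiv.Perm (Fin dD.n)) = permW dD core.tab wX := by
  apply perm_ext dD
  intro x
  rw [permW_apply]
  exact agreeN_true lkX x.isLt

theorem Y_eq : (El dQ tabQ 2 : Equiv.Perm (Fin dD.n)) = permW dD core.tab wY := by
  apply perm_ext dD
  intro x
  rw [permW_apply]
  exact agreeN_true lkY x.isLt

theorem Z_eq : (El dQ tabQ 4 : Equiv.Perm (Fin dD.n)) = xP tauOK * permW dD core.tab wZ := by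
  apply perm_ext dD
  intro x
  rw [Equiv.Perm.mul_apply, comp_xP tauOK, permW_apply]
  exact agreeN_true lkZ x.isLt

theorem L0_eq : El dD core.tab 0 = (permW dQ tabQ w0 : Equiv.Perm (Fin dD.n)) := by
  apply perm_ext dD
  intro x
  have h := permW_apply dQ tabQ w0 x
  exact (agreeN_true lk0 x.isLt).trans h.symm

theorem L2_eq : El dD core.tab 2 = (permW dQ tabQ w2 : Equiv.Perm (Fin dD.n)) := by
  apply perm_ext dD
  intro x
  have h := permW_apply dQ tabQ w2 x
  exact (agreeN_true lk2 x.isLt).trans h.symm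

theorem w0_lt : ∀ c ∈ w0, c < 5 := by decide
theorem w2_lt : ∀ c ∈ w2, c < 5 := by decide

/-- the homomorphism to the permutations of the 100 points. -/
theorem exists_hom100 : ∃ π : Ht →* Equiv.Perm (Fin dD.n), π xH ∈ S0 ∧ π yH ∈ S0 ∧ π zH ∉ S0 ∧
    (∀ s ∈ S0, π zH * s * (π zH)⁻¹ ∈ S0) ∧ S0 ≤ π.range ∧ π (xH * xH) = 1 := by
  obtain ⟨φ, hx, hy, hz, hw⟩ := hom_of_dat dQ tabQ ivQ01 ivQ23 relQ
  let π : Ht →* Equiv.Perm (Fin dD.n) := φ
  have hx' : π xH = permW dD core.tab wX := hx.trans X_eq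
  have hy' : π yH = permW dD core.tab wY := hy.trans Y_eq
  have hz' : π zH = xP tauOK * permW dD core.tab wZ := hz.trans Z_eq
  have hpZ : permW dD core.tab wZ ∈ S0 := permW_mem dD core.tab core.dw wZ
  refine ⟨π, ?_, ?_, ?_, ?_, ?_, ?_⟩
  · rw [hx']
    exact permW_mem dD core.tab core.dw wX
  · rw [hy']
    exact permW_mem dD core.tab core.dw wY
  · rw [hz']
    intro h
    exact xP_not_mem core tauOK card_S0 ((Subgroup.mul_mem_cancel_right S0 hpZ).mp h)
  · intro s hs
    rw [hz']
    have e : xP tauOK * permW dD core.tab wZ * s * (xP tauOK * permW dD core.tab wZ)⁻¹ =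
        xP tauOK * (permW dD core.tab wZ * s * (permW dD core.tab wZ)⁻¹) * (xP tauOK)⁻¹ := by
      group
    rw [e]
    exact conj_mem core tauOK (S0.mul_mem (S0.mul_mem hpZ hs) (S0.inv_mem hpZ))
  · have h0 : El dD core.tab 0 ∈ π.range :=
      ⟨evw3 xH yH zH w0, (hw w0 w0_lt).trans L0_eq.symm⟩
    have h2 : El dD core.tab 2 ∈ π.range :=
      ⟨evw3 xH yH zH w2, (hw w2 w2_lt).trans L2_eq.symm⟩
    show grp dD core.tab ≤ π.range
    unfold grp
    rw [Subgroup.closure_le]
    rintro _ ⟨⟨l, hl⟩, rfl⟩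
    have hl' : l < 4 := hl
    interval_cases l
    · exact h0
    · have e1 : El dD core.tab 1 = (El dD core.tab 0)⁻¹ := by
        have := El_iv dD core.tab 0
        rwa [ivD0] at this
      show El dD core.tab 1 ∈ π.range
      rw [e1]
      exact π.range.inv_mem h0
    · exact h2
    · have e3 : El dD core.tab 3 = (El dD core.tab 2)⁻¹ := by
        have := El_iv dD core.tab 2
        rwa [ivD2] at this
      show El dD core.tab 3 ∈ π.range
      rw [e3]
      exact π.range.inv_mem h2
  · have e : π (xH * xH) = (permW dQ tabQ [0, 0] : Equiv.Perm (Fin dD.n)) := by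
      rw [map_mul]
      show φ xH * φ xH = _
      rw [hx, permW_cons, permW_single]
    rw [e]
    exact permW_eq_one tabQ sqQ

/-- `x²` is not trivial. -/
theorem xH_sq_ne : xH * xH ≠ 1 := by
  obtain ⟨ψ, hx, -, -, -⟩ := hom_of_dat dM tabM ivM01 ivM23 relM
  intro h
  have h1 : permW dM tabM [0, 0] = 1 := by
    rw [permW_cons, permW_single, ← hx, ← map_mul, h, map_one]
  have h1409 : (1 : ℕ) < dM.n := by
    show (1 : ℕ) < 1409
    norm_num
  have h2 := permW_apply dM tabM [0, 0] ⟨1, h1409⟩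
  rw [h1, mvM, Equiv.Perm.one_apply] at h2
  change 1 = 4 at h2
  omega

/-- **The double cover**, given the results of the coset enumerations. -/
theorem main_of
    (hA : Finite L ∧ Nat.card L ≤ 6 * 252000 ∧ evw xL yL lR = 1 ∧
      (evw xL yL lc) ^ 2 ≠ 1 ∧ (evw xL yL lc) ^ 4 ≠ 1)
    (hC : ((Subgroup.closure {s | s ∈ subs3}).map (PresentedGroup.mk relsH)).index = 352)
    (hidx : Hs.index = 1539000) (hG : Nat.card G = 273030912000000) :
    ∃ K : Subgroup Hs, K.Normal ∧ K.index = 2 ∧ IsNonsplitDoubleCover K Spor.HS := by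
  have hcard : Nat.card Hs = 177408000 := by
    have := Subgroup.card_mul_index Hs
    rw [hidx, hG] at this
    have e2 : (273030912000000 : ℕ) = 177408000 * 1539000 := by norm_num
    rw [e2] at this
    exact Nat.eq_of_mul_eq_mul_right (by norm_num) this
  obtain ⟨e, -, -, -⟩ := iso_Hs hA hC hcard
  obtain ⟨π, hx, hy, hz, hnorm, hS, hsq⟩ := exists_hom100
  have hfin : Finite Hs := Nat.finite_of_card_ne_zero (by rw [hcard]; norm_num)
  have hπe : ∀ a : Ht, (π.comp e.symm.toMonoidHom) (e a) = π a := by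
    intro a
    simp
  have hgen : Subgroup.closure ({e xH, e yH, e zH} : Set Hs) = ⊤ := by
    have h1 := MonoidHom.map_closure e.toMonoidHom ({xH, yH, zH} : Set Ht)
    rw [closure_xyzH, Subgroup.map_top_of_surjective _ e.surjective] at h1
    rw [h1]
    congr 1
    simp [Set.image_insert_eq]
  obtain ⟨K, h1, h2, h3, ⟨f⟩, h5⟩ := double_cover_of_hom (π.comp e.symm.toMonoidHom) S0 44352000
    card_S0 (by rw [hcard]) (by norm_num)
    (fun s _ h => centralizer_trivial core tauOK s h)
    (e xH) (e yH) (e zH) (e xH) hgen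
    (by rw [hπe]; exact hx) (by rw [hπe]; exact hy) (by rw [hπe]; exact hz)
    (by rw [← map_mul, zH_sq, map_one])
    (by rw [hπe]; exact hnorm)
    (fun s hs => by
      obtain ⟨a, ha⟩ := hS hs
      exact ⟨e a, by rw [hπe]; exact ha⟩)
    (by rw [hπe]; exact hx)
    (by rw [← map_mul, hπe]; exact hsq)
    (by
      rw [← map_mul]
      intro h
      exact xH_sq_ne (e.injective (h.trans (map_one e).symm)))
  obtain ⟨m⟩ := Cfsg.Agent.Helper3.HSX.model.1
  exact ⟨K, h1, h2, h3, ⟨f.trans m.symm⟩, h5⟩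

end Cfsg.Agent.Helper3.HN2HS
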