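import Cfsg.Agent.Helper3.HSXBJu0
import Cfsg.Agent.Helper3.HSXBJu1
import Cfsg.Agent.Helper3.HSXBJu2
import Cfsg.Agent.Helper3.HSXBJu3
import Cfsg.Agent.Helper3.HSXBJu4
import Cfsg.Agent.Helper3.HSXBJu5
import Cfsg.Agent.Helper3.HSXBJu6
import Cfsg.Agent.Helper3.HSXBJu7
import Cfsg.Agent.Helper3.HSXBJu8
import Cfsg.Agent.Helper3.HSXBJu9
import Cfsg.Agent.Helper3.HSXBJu10
import Cfsg.Agent.Helper3.HSXBTb0
import Cfsg.Agent.Helper3.HSXBTb1
import Cfsg.Agent.Helper3.HSXBTb2

/-! generated labelled Todd-Coxeter certificate, summary: HSXB -/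

set_option autoImplicit false
set_option maxRecDepth 1000000

namespace Cfsg.Agent.Helper3.HSXB
open Cfsg.Agent.Helper5.LTC

theorem upto_0 : ∀ j, j < 0 → ∃ r, checkFact cert j r = true := fun j hj => absurd hj (by omega)

theorem upto_1 : ∀ j, j < 2000 → ∃ r, checkFact cert j r = true :=
  upto_step cert upto_0 ju_0 2000 len_0 chk_0

theorem upto_2 : ∀ j, j < 4000 → ∃ r, checkFact cert j r = true :=
  upto_step cert upto_1 ju_1 2000 len_1 chk_1

theorem upto_3 : ∀ j, j < 6000 → ∃ r, checkFact cert j r = true :=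
  upto_step cert upto_2 ju_2 2000 len_2 chk_2

theorem upto_4 : ∀ j, j < 8000 → ∃ r, checkFact cert j r = true :=
  upto_step cert upto_3 ju_3 2000 len_3 chk_3

theorem upto_5 : ∀ j, j < 10000 → ∃ r, checkFact cert j r = true :=
  upto_step cert upto_4 ju_4 2000 len_4 chk_4

theorem upto_6 : ∀ j, j < 12000 → ∃ r, checkFact cert j r = true :=
  upto_step cert upto_5 ju_5 2000 len_5 chk_5

theorem upto_7 : ∀ j, j < 14000 → ∃ r, checkFact cert j r = true :=
  upto_step cert upto_6 ju_6 2000 len_6 chk_6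

theorem upto_8 : ∀ j, j < 16000 → ∃ r, checkFact cert j r = true :=
  upto_step cert upto_7 ju_7 2000 len_7 chk_7

theorem upto_9 : ∀ j, j < 18000 → ∃ r, checkFact cert j r = true :=
  upto_step cert upto_8 ju_8 2000 len_8 chk_8

theorem upto_10 : ∀ j, j < 20000 → ∃ r, checkFact cert j r = true :=
  upto_step cert upto_9 ju_9 2000 len_9 chk_9

theorem upto_11 : ∀ j, j < 20139 → ∃ r, checkFact cert j r = true :=
  upto_step cert upto_10 ju_10 139 len_10 chk_10

theorem hchk : ∀ j, j < cert.nf → ∃ r, checkFact cert j r = true := upto_11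

theorem rowsto_0 : ∀ n, n < 0 → ∀ x, x < cert.k → tabEntryOK cert tab n x = true :=
  fun n hn => absurd hn (by omega)

theorem rowsto_1 : ∀ n, n < 2000 → ∀ x, x < cert.k → tabEntryOK cert tab n x = true :=
  rows_step cert tab rowsto_0 2000 rows_0

theorem rowsto_2 : ∀ n, n < 4000 → ∀ x, x < cert.k → tabEntryOK cert tab n x = true :=
  rows_step cert tab rowsto_1 2000 rows_1

theorem rowsto_3 : ∀ n, n < 5600 → ∀ x, x < cert.k → tabEntryOK cert tab n x = true :=
  rows_step cert tab rowsto_2 1600 rows_2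

theorem hT : ∀ n, n < tab.N → ∀ x, x < cert.k → tabEntryOK cert tab n x = true := rowsto_3

theorem hjs : ∀ j ∈ js, relFactOK cert j = true := by decide +kernel

theorem h0 : ordOK cert js cs0 4 2 = true := by decide +kernel

theorem hgs : ∀ i, i < 5 → genOK cert js (css.getD i []) i 4 (as_.getD i 0) = true := by decide +kernel

end Cfsg.Agent.Helper3.HSXB
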