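import Mathlib
import Cfsg.Agent.Helper3.HSXGen
import Cfsg.Agent.Helper3.HSXASum
import Cfsg.Agent.Helper5.LTCH
import Cfsg.Agent.Helper5.LTCF
import Cfsg.Agent.Helper5.StemPI

/-!
# The covering group of exponent 60 of the subgroup of order 7920 of the Higman–Sims group

The covering presentation on the generators `a, b` of order 11 defines a group of order at most
`11 * 720 = 7920` (labelled Todd–Coxeter over the subgroup generated by `a`), and words in `a, b`
spell at least 7920 elements of the group: the covering homomorphism is injective.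
-/

set_option autoImplicit false

namespace Cfsg.Agent.Helper3.HSX

open Cfsg Cfsg.Agent.Helper5.StemP Cfsg.Agent.Helper5.LP Cfsg.Agent.Helper5.LTC
  Cfsg.Agent.Helper5.TC Cfsg.Agent.Helper5.TCI

theorem CU2_lt : ∀ r ∈ CU ++ CU, ∀ c ∈ r, c < 2 * 2 := by
  intro r hr
  rcases List.mem_append.mp hr with h | h <;> exact CU_lt r h

theorem CU_rel : ∀ r ∈ CU, (r.map (lval g)).prod = 1 := fun r hr => CC_rel r (CU_sub r hr)

theorem CU2_rel : ∀ r ∈ CU ++ CU, (r.map (lval g)).prod = 1 := by
  intro r hr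
  rcases List.mem_append.mp hr with h | h <;> exact CU_rel r h

theorem g_pow2 : ∀ i, i < 2 → g i ^ mm i = 1 := fun i hi => g_pow i (by omega)

/-- the covering homomorphism of the subgroup. -/
noncomputable def piU : CovG 2 mm CU CU 60 →* P :=
  coverHomU 2 mm CU CU 60 CU2_lt g g_pow2 CU2_rel

theorem piU_ev (l : List ℕ) (hl : ∀ c ∈ l, c < 2 * 2) :
    piU (ev (2 * 2) (coverRels 2 mm CU CU 60) l) = (l.map (lval g)).prod :=
  coverHomU_ev 2 mm CU CU 60 CU2_lt g g_pow2 CU2_rel l hl

/-- the lift of the first generator. -/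
noncomputable def xU : CovG 2 mm CU CU 60 := ev (2 * 2) (coverRels 2 mm CU CU 60) [0]

/-- the lifted subgroup of order 11. -/
noncomputable def kU : Subgroup (CovG 2 mm CU CU 60) := Subgroup.zpowers xU

theorem xU_pow : xU ^ 11 = 1 := cgen_pow 2 mm CU CU 60 (i := 0) (by norm_num)

theorem kU_card : Nat.card kU = orderOf xU := Nat.card_zpowers xU

theorem orderOf_xU_dvd : orderOf xU ∣ 11 := orderOf_dvd_of_pow_eq_one xU_pow

theorem orderOf_xU_pos : 0 < orderOf xU := Nat.pos_of_dvd_of_pos orderOf_xU_dvd (by norm_num)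

instance kU_fin : Finite kU :=
  Nat.finite_of_card_ne_zero (by rw [kU_card]; exact orderOf_xU_pos.ne')

theorem kU_card_le : Nat.card kU ≤ 11 := by
  rw [kU_card]
  exact Nat.le_of_dvd (by norm_num) orderOf_xU_dvd

theorem piU_x : piU xU = g 0 := by
  unfold xU
  rw [piU_ev [0] (by decide)]
  simp only [List.map_cons, List.map_nil, List.prod_cons, List.prod_nil, mul_one]
  rfl

theorem kU_inj : ∀ l, phi (zC 2 mm CU CU 60) l ∈ kU → phi (zC 2 mm CU CU 60) l = 1 := by
  intro l hl
  have hmem : g 0 ∈ kU.map piU := ⟨xU, Subgroup.mem_zpowers xU, piU_x⟩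
  have hge : 11 ≤ Nat.card (kU.map piU) := by
    have h7 : orderOf (⟨g 0, hmem⟩ : kU.map piU) = 11 := by
      rw [Subgroup.orderOf_mk]
      exact order_g0
    have hd : 11 ∣ Nat.card (kU.map piU) := h7 ▸ orderOf_dvd_natCard _
    exact Nat.le_of_dvd Nat.card_pos hd
  apply eq_one_of_map_card kU piU 11 kU_card_le hge _ hl
  have hker : ∀ i, zC 2 mm CU CU 60 i ∈ piU.ker := by
    intro i
    unfold zC
    by_cases hi : i < CU.length
    · rw [List.getD_eq_getElem CU [] hi]
      exact coverHomU_ker 2 mm CU CU 60 CU2_lt g g_pow2 CU2_rel (List.getElem_mem hi)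
    · rw [List.getD_eq_default CU [] (by omega), ev_nil]
      exact Subgroup.one_mem _
  exact MonoidHom.mem_ker.mp (phi_mem _ hker l)

theorem words_lt_A : ∀ wi, ∀ c ∈ HSXA.cert.W wi, c < 2 * 2 := by
  intro wi c hc
  have h : ∀ w ∈ HSXA.words, ∀ c ∈ w, c < 4 := by decide +kernel
  change c ∈ HSXA.words.getD wi [] at hc
  by_cases hwi : wi < HSXA.words.length
  · rw [List.getD_eq_getElem _ _ hwi] at hc
    exact h _ (List.getElem_mem hwi) c hc
  · rw [List.getD_eq_default _ _ (by omega)] at hc
    simp at hc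

set_option maxRecDepth 1000000 in
theorem wordOK_A : ∀ wi, wi < HSXA.cert.nrel →
    wordOK (coverRels 2 mm CU CU 60) CU (HSXA.cert.W wi) (HSXA.cert.δ wi)
      (HSXA.origs.getD wi 0) = true := by decide +kernel

theorem subW0_A : HSXA.cert.W 44 = [0] := by decide +kernel

theorem hsubs_A : ∀ wi, HSXA.cert.nrel ≤ wi → wi < HSXA.cert.nw →
    ev (2 * 2) (coverRels 2 mm CU CU 60) (HSXA.cert.W wi) ∈ kU := by
  intro wi h1 h2
  have h1' : 44 ≤ wi := h1
  have h2' : wi < 45 := h2
  interval_cases wi
  rw [subW0_A]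
  exact Subgroup.mem_zpowers xU

theorem card_le_U : Finite (CovG 2 mm CU CU 60) ∧ Nat.card (CovG 2 mm CU CU 60) ≤ 7920 := by
  have h := covG_card_le 2 mm CU CU 60 HSXA.cert rfl rfl rfl (by norm_num) (fun r hr => hr) CU_lt
    (by decide) words_lt_A (fun wi => HSXA.origs.getD wi 0) wordOK_A kU hsubs_A
    kU_inj HSXA.hchk HSXA.tab (by decide +kernel) (by decide)
    HSXA.hT HSXA.js HSXA.hjs 0 1 (by norm_num) (by norm_num) HSXA.cs0 HSXA.h0
    (fun i => HSXA.as_.getD i 0) (fun i => HSXA.css.getD i []) HSXA.hgs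
  refine ⟨h.1, h.2.trans ?_⟩
  have hN : HSXA.tab.N = 720 := rfl
  rw [hN]
  calc Nat.card kU * 720 * 1 ≤ 11 * 720 * 1 :=
        Nat.mul_le_mul_right _ (Nat.mul_le_mul_right _ kU_card_le)
    _ = 7920 := by norm_num

instance fin_U : Finite (CovG 2 mm CU CU 60) := card_le_U.1

theorem actsOn_U : ActsOn (rho.comp piU) (ev (2 * 2) (coverRels 2 mm CU CU 60)) (2 * 2)
    tabF :=
  actsOn_of_hom piU _ (2 * 2) (by norm_num) piU_ev

theorem card_range_U : 7920 ≤ Nat.card (rho.comp piU).range := by
  have h1 := chain_lower actsOn_U levelUs [] chainU_ok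
  rw [chainU_prod] at h1
  exact h1.trans (Subgroup.card_le_of_le inf_le_left)

theorem rhoU_injective : Function.Injective (rho.comp piU) := by
  have hs := (rho.comp piU).rangeRestrict_surjective
  have hb := hs.bijective_of_nat_card_le (card_le_U.2.trans card_range_U)
  intro x y hxy
  apply hb.1
  exact Subtype.ext hxy

theorem piU_injective : Function.Injective piU := by
  intro x y hxy
  apply rhoU_injective
  rw [MonoidHom.comp_apply, MonoidHom.comp_apply, hxy]

theorem card_piU_range : 7920 ≤ Nat.card piU.range := by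
  have h1 : Nat.card (rho.comp piU).range ≤ Nat.card piU.range := by
    rw [MonoidHom.range_comp]
    have : Finite piU.range := inferInstance
    exact Nat.le_of_dvd Nat.card_pos (Subgroup.card_map_dvd _ rho)
  exact card_range_U.trans h1

/-- the central words are trivial in the covering group of the subgroup. -/
theorem ev_CU_eq_one : ∀ r ∈ CU, ev (2 * 2) (coverRels 2 mm CU CU 60) r = 1 := by
  intro r hr
  apply piU_injective
  rw [map_one]
  exact MonoidHom.mem_ker.mp (coverHomU_ker 2 mm CU CU 60 CU2_lt g g_pow2 CU2_rel hr)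

end Cfsg.Agent.Helper3.HSX
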