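import Cfsg.Agent.Helper3.HSXMCk0
import Cfsg.Agent.Helper3.HSXMCk1
import Cfsg.Agent.Helper3.HSXMCk2
import Cfsg.Agent.Helper3.HSXMCk3
import Cfsg.Agent.Helper3.HSXMCk4
import Cfsg.Agent.Helper3.HSXMCk5
import Cfsg.Agent.Helper3.HSXMCk6
import Cfsg.Agent.Helper3.HSXMCk7

/-! generated permutation model of a central extension, summary: HSXM -/

set_option autoImplicit false
set_option maxRecDepth 1000000

namespace Cfsg.Agent.Helper3.HSXM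
open Cfsg.Agent.Helper5.LP Cfsg.Agent.Helper5.LTC Cfsg.Agent.Helper5.StemP Cfsg.Agent.Helper3.CovModel

theorem tok_0 : ∀ x, x < 6 → ∀ v, v < 0 → mT x v < 11200 ∧ mT (linv x) (mT x v) = v :=
  fun x _ v hv => absurd hv (by omega)

theorem pf_0 : ∀ l ∈ powRels 3 Cfsg.Agent.Helper3.HSX.mm, ∀ v, v < 0 → actL mT l v = v :=
  fun l _ v hv => absurd hv (by omega)

theorem sf_0 : ∀ p ∈ LL, ∀ v, v < 0 → actL mT p.1 v = shK 5600 2 p.2 v :=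
  fun p _ v hv => absurd hv (by omega)

theorem tok_1 : ∀ x, x < 6 → ∀ v, v < 700 → mT x v < 11200 ∧ mT (linv x) (mT x v) = v :=
  tableOKI_step mT 11200 6 tok_0 700 inv_0

theorem pf_1 : ∀ l ∈ powRels 3 Cfsg.Agent.Helper3.HSX.mm, ∀ v, v < 700 → actL mT l v = v :=
  relsFix_step mT _ pf_0 700 pw_0

theorem sf_1 : ∀ p ∈ LL, ∀ v, v < 700 → actL mT p.1 v = shK 5600 2 p.2 v :=
  sh_step mT 5600 2 LL sf_0 700 sh_0

theorem tok_2 : ∀ x, x < 6 → ∀ v, v < 1400 → mT x v < 11200 ∧ mT (linv x) (mT x v) = v :=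
  tableOKI_step mT 11200 6 tok_1 700 inv_1

theorem pf_2 : ∀ l ∈ powRels 3 Cfsg.Agent.Helper3.HSX.mm, ∀ v, v < 1400 → actL mT l v = v :=
  relsFix_step mT _ pf_1 700 pw_1

theorem sf_2 : ∀ p ∈ LL, ∀ v, v < 1400 → actL mT p.1 v = shK 5600 2 p.2 v :=
  sh_step mT 5600 2 LL sf_1 700 sh_1

theorem tok_3 : ∀ x, x < 6 → ∀ v, v < 2100 → mT x v < 11200 ∧ mT (linv x) (mT x v) = v :=
  tableOKI_step mT 11200 6 tok_2 700 inv_2

theorem pf_3 : ∀ l ∈ powRels 3 Cfsg.Agent.Helper3.HSX.mm, ∀ v, v < 2100 → actL mT l v = v :=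
  relsFix_step mT _ pf_2 700 pw_2

theorem sf_3 : ∀ p ∈ LL, ∀ v, v < 2100 → actL mT p.1 v = shK 5600 2 p.2 v :=
  sh_step mT 5600 2 LL sf_2 700 sh_2

theorem tok_4 : ∀ x, x < 6 → ∀ v, v < 2800 → mT x v < 11200 ∧ mT (linv x) (mT x v) = v :=
  tableOKI_step mT 11200 6 tok_3 700 inv_3

theorem pf_4 : ∀ l ∈ powRels 3 Cfsg.Agent.Helper3.HSX.mm, ∀ v, v < 2800 → actL mT l v = v :=
  relsFix_step mT _ pf_3 700 pw_3

theorem sf_4 : ∀ p ∈ LL, ∀ v, v < 2800 → actL mT p.1 v = shK 5600 2 p.2 v :=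
  sh_step mT 5600 2 LL sf_3 700 sh_3

theorem tok_5 : ∀ x, x < 6 → ∀ v, v < 3500 → mT x v < 11200 ∧ mT (linv x) (mT x v) = v :=
  tableOKI_step mT 11200 6 tok_4 700 inv_4

theorem pf_5 : ∀ l ∈ powRels 3 Cfsg.Agent.Helper3.HSX.mm, ∀ v, v < 3500 → actL mT l v = v :=
  relsFix_step mT _ pf_4 700 pw_4

theorem sf_5 : ∀ p ∈ LL, ∀ v, v < 3500 → actL mT p.1 v = shK 5600 2 p.2 v :=
  sh_step mT 5600 2 LL sf_4 700 sh_4

theorem tok_6 : ∀ x, x < 6 → ∀ v, v < 4200 → mT x v < 11200 ∧ mT (linv x) (mT x v) = v :=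
  tableOKI_step mT 11200 6 tok_5 700 inv_5

theorem pf_6 : ∀ l ∈ powRels 3 Cfsg.Agent.Helper3.HSX.mm, ∀ v, v < 4200 → actL mT l v = v :=
  relsFix_step mT _ pf_5 700 pw_5

theorem sf_6 : ∀ p ∈ LL, ∀ v, v < 4200 → actL mT p.1 v = shK 5600 2 p.2 v :=
  sh_step mT 5600 2 LL sf_5 700 sh_5

theorem tok_7 : ∀ x, x < 6 → ∀ v, v < 4900 → mT x v < 11200 ∧ mT (linv x) (mT x v) = v :=
  tableOKI_step mT 11200 6 tok_6 700 inv_6

theorem pf_7 : ∀ l ∈ powRels 3 Cfsg.Agent.Helper3.HSX.mm, ∀ v, v < 4900 → actL mT l v = v :=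
  relsFix_step mT _ pf_6 700 pw_6

theorem sf_7 : ∀ p ∈ LL, ∀ v, v < 4900 → actL mT p.1 v = shK 5600 2 p.2 v :=
  sh_step mT 5600 2 LL sf_6 700 sh_6

theorem tok_8 : ∀ x, x < 6 → ∀ v, v < 5600 → mT x v < 11200 ∧ mT (linv x) (mT x v) = v :=
  tableOKI_step mT 11200 6 tok_7 700 inv_7

theorem pf_8 : ∀ l ∈ powRels 3 Cfsg.Agent.Helper3.HSX.mm, ∀ v, v < 5600 → actL mT l v = v :=
  relsFix_step mT _ pf_7 700 pw_7

theorem sf_8 : ∀ p ∈ LL, ∀ v, v < 5600 → actL mT p.1 v = shK 5600 2 p.2 v :=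
  sh_step mT 5600 2 LL sf_7 700 sh_7

theorem mT_shift : ShiftEquivariant mT 5600 2 := shiftEquivariant_covTK tAll (by norm_num) 2

theorem tableOK : TableOKI (2 * 3) (5600 * 2) linv mT :=
  tableOKI_of_base mT_shift (by norm_num) (by norm_num) (2 * 3) fun x hx v hv => (tok_8 x hx v hv).2

theorem relsFix : RelsFix (coverRels 3 Cfsg.Agent.Helper3.HSX.mm Cfsg.Agent.Helper3.HSX.CC Cfsg.Agent.Helper3.HSX.CC 60) (5600 * 2) mT := by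
  have h := relsFix_coverRels_of_base mT_shift (by norm_num) (by norm_num) 3 Cfsg.Agent.Helper3.HSX.mm LL Cfsg.Agent.Helper3.HSX.CC 60 tableOK
    (fun i hi v hv => pf_8 _ (mem_powRels _ hi) v hv) sf_8 (by decide) (by decide)
  rwa [LL_fst] at h

end Cfsg.Agent.Helper3.HSXM
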