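import Cfsg.Agent.Helper3.HSXMDat

/-! generated permutation model of a central extension, checks: HSXM -/

set_option autoImplicit false
set_option Elab.async false
set_option maxRecDepth 1000000

namespace Cfsg.Agent.Helper3.HSXM
open Cfsg.Agent.Helper5.LP Cfsg.Agent.Helper5.LTC Cfsg.Agent.Helper3.CovModel

theorem inv_0 : invAllK mT 11200 700 0 6 = true := by decide +kernel

theorem pw_0 : fixAll mT (powRels 3 Cfsg.Agent.Helper3.HSX.mm) 700 0 = true := by decide +kernel

theorem sh_0 : shAll mT 5600 2 LL 700 0 = true := by decide +kernel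

end Cfsg.Agent.Helper3.HSXM
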