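import Mathlib
import Cfsg.Agent.Helper3.CycBound

/-! Helper data (helper3): explicit primitive divisors for the finitely many small cases of Hering's bound
on the primitive part of `q ^ e - 1`. -/

set_option autoImplicit false

namespace Cfsg.Agent.Helper3.CycBound

/-- `(q, e)` has a primitive divisor `m ≥ 3 e + 1`. -/
def HeringOK (q e : ℕ) : Prop :=
  ∃ m : ℕ, m ∣ q ^ e - 1 ∧ (∀ i : ℕ, 1 ≤ i → i < e → Nat.Coprime m (q ^ i - 1)) ∧ 3 * e + 1 ≤ m

theorem hering_check (q e m : ℕ)
    (h : (q ^ e - 1) % m = 0 ∧ (∀ i < e, 1 ≤ i → Nat.gcd m (q ^ i - 1) = 1) ∧ 3 * e + 1 ≤ m) :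
    HeringOK q e := by
  obtain ⟨h1, h2, h3⟩ := h
  exact ⟨m, Nat.dvd_of_mod_eq_zero h1, fun i hi1 hie => h2 i hie hi1, h3⟩

theorem coprime_list_prod (m q e : ℕ)
    (hc : ∀ i : ℕ, 1 ≤ i → i < e → Nat.Coprime m (q ^ i - 1)) :
    ∀ l : List ℕ, (∀ i ∈ l, 1 ≤ i ∧ i < e) → Nat.Coprime m (l.map (fun i => q ^ i - 1)).prod := by
  intro l
  induction l with
  | nil => intro _; simp
  | cons a l ih =>
    intro h
    rw [List.map_cons, List.prod_cons]
    exact Nat.Coprime.mul_right (hc a (h a List.mem_cons_self).1 (h a List.mem_cons_self).2)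
      (ih (fun i hi => h i (List.mem_cons_of_mem _ hi)))

theorem hering_exc_check (q e A B : ℕ) (l : List ℕ)
    (h : q ^ e - 1 = A * B ∧ (∀ i ∈ l, 1 ≤ i ∧ i < e) ∧
      (l.map (fun i => q ^ i - 1)).prod % A = 0 ∧ 0 < B)
    (m : ℕ) (hm : m ∣ q ^ e - 1)
    (hc : ∀ i : ℕ, 1 ≤ i → i < e → Nat.Coprime m (q ^ i - 1)) : m ≤ B := by
  obtain ⟨h1, h2, h3, h4⟩ := h
  have hcop : Nat.Coprime m A :=
    Nat.Coprime.coprime_dvd_right (Nat.dvd_of_mod_eq_zero h3) (coprime_list_prod m q e hc l h2)
  rw [h1] at hm
  exact Nat.le_of_dvd h4 (hcop.dvd_of_dvd_mul_left hm)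

theorem hering_2_5 : HeringOK 2 5 := hering_check 2 5 31 (by decide +kernel)
theorem hering_2_7 : HeringOK 2 7 := hering_check 2 7 127 (by decide +kernel)
theorem hering_2_9 : HeringOK 2 9 := hering_check 2 9 73 (by decide +kernel)
theorem hering_2_11 : HeringOK 2 11 := hering_check 2 11 89 (by decide +kernel)
theorem hering_2_13 : HeringOK 2 13 := hering_check 2 13 8191 (by decide +kernel)
theorem hering_2_14 : HeringOK 2 14 := hering_check 2 14 43 (by decide +kernel)
theorem hering_2_15 : HeringOK 2 15 := hering_check 2 15 151 (by decide +kernel)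
theorem hering_2_16 : HeringOK 2 16 := hering_check 2 16 257 (by decide +kernel)
theorem hering_2_17 : HeringOK 2 17 := hering_check 2 17 131071 (by decide +kernel)
theorem hering_2_19 : HeringOK 2 19 := hering_check 2 19 524287 (by decide +kernel)
theorem hering_2_21 : HeringOK 2 21 := hering_check 2 21 337 (by decide +kernel)
theorem hering_2_22 : HeringOK 2 22 := hering_check 2 22 683 (by decide +kernel)
theorem hering_2_24 : HeringOK 2 24 := hering_check 2 24 241 (by decide +kernel)
theorem hering_2_25 : HeringOK 2 25 := hering_check 2 25 601 (by decide +kernel)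
theorem hering_2_26 : HeringOK 2 26 := hering_check 2 26 2731 (by decide +kernel)
theorem hering_2_27 : HeringOK 2 27 := hering_check 2 27 262657 (by decide +kernel)
theorem hering_2_28 : HeringOK 2 28 := hering_check 2 28 113 (by decide +kernel)
theorem hering_2_30 : HeringOK 2 30 := hering_check 2 30 331 (by decide +kernel)
theorem hering_2_32 : HeringOK 2 32 := hering_check 2 32 65537 (by decide +kernel)
theorem hering_2_33 : HeringOK 2 33 := hering_check 2 33 599479 (by decide +kernel)
theorem hering_2_34 : HeringOK 2 34 := hering_check 2 34 43691 (by decide +kernel)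
theorem hering_2_36 : HeringOK 2 36 := hering_check 2 36 109 (by decide +kernel)
theorem hering_2_38 : HeringOK 2 38 := hering_check 2 38 174763 (by decide +kernel)
theorem hering_2_39 : HeringOK 2 39 := hering_check 2 39 121369 (by decide +kernel)
theorem hering_2_40 : HeringOK 2 40 := hering_check 2 40 61681 (by decide +kernel)
theorem hering_2_42 : HeringOK 2 42 := hering_check 2 42 5419 (by decide +kernel)
theorem hering_2_44 : HeringOK 2 44 := hering_check 2 44 397 (by decide +kernel)
theorem hering_2_45 : HeringOK 2 45 := hering_check 2 45 631 (by decide +kernel)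
theorem hering_2_46 : HeringOK 2 46 := hering_check 2 46 2796203 (by decide +kernel)
theorem hering_2_48 : HeringOK 2 48 := hering_check 2 48 673 (by decide +kernel)
theorem hering_2_50 : HeringOK 2 50 := hering_check 2 50 251 (by decide +kernel)
theorem hering_2_52 : HeringOK 2 52 := hering_check 2 52 157 (by decide +kernel)
theorem hering_2_54 : HeringOK 2 54 := hering_check 2 54 87211 (by decide +kernel)
theorem hering_2_56 : HeringOK 2 56 := hering_check 2 56 15790321 (by decide +kernel)
theorem hering_2_60 : HeringOK 2 60 := hering_check 2 60 1321 (by decide +kernel)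
theorem hering_2_66 : HeringOK 2 66 := hering_check 2 66 20857 (by decide +kernel)
theorem hering_2_70 : HeringOK 2 70 := hering_check 2 70 281 (by decide +kernel)
theorem hering_2_72 : HeringOK 2 72 := hering_check 2 72 433 (by decide +kernel)
theorem hering_2_78 : HeringOK 2 78 := hering_check 2 78 22366891 (by decide +kernel)
theorem hering_2_84 : HeringOK 2 84 := hering_check 2 84 1429 (by decide +kernel)
theorem hering_2_90 : HeringOK 2 90 := hering_check 2 90 18837001 (by decide +kernel)
theorem hering_3_3 : HeringOK 3 3 := hering_check 3 3 13 (by decide +kernel)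
theorem hering_5_3 : HeringOK 5 3 := hering_check 5 3 31 (by decide +kernel)
theorem hering_6_3 : HeringOK 6 3 := hering_check 6 3 43 (by decide +kernel)
theorem hering_4_4 : HeringOK 4 4 := hering_check 4 4 17 (by decide +kernel)
theorem hering_5_4 : HeringOK 5 4 := hering_check 5 4 13 (by decide +kernel)
theorem hering_6_4 : HeringOK 6 4 := hering_check 6 4 37 (by decide +kernel)
theorem hering_7_4 : HeringOK 7 4 := hering_check 7 4 25 (by decide +kernel)
theorem hering_3_5 : HeringOK 3 5 := hering_check 3 5 121 (by decide +kernel)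
theorem hering_6_6 : HeringOK 6 6 := hering_check 6 6 31 (by decide +kernel)
theorem hering_7_6 : HeringOK 7 6 := hering_check 7 6 43 (by decide +kernel)
theorem hering_8_6 : HeringOK 8 6 := hering_check 8 6 19 (by decide +kernel)
theorem hering_9_6 : HeringOK 9 6 := hering_check 9 6 73 (by decide +kernel)
theorem hering_10_6 : HeringOK 10 6 := hering_check 10 6 91 (by decide +kernel)
theorem hering_11_6 : HeringOK 11 6 := hering_check 11 6 37 (by decide +kernel)
theorem hering_3_7 : HeringOK 3 7 := hering_check 3 7 1093 (by decide +kernel)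
theorem hering_3_8 : HeringOK 3 8 := hering_check 3 8 41 (by decide +kernel)
theorem hering_4_8 : HeringOK 4 8 := hering_check 4 8 257 (by decide +kernel)
theorem hering_3_9 : HeringOK 3 9 := hering_check 3 9 757 (by decide +kernel)
theorem hering_3_10 : HeringOK 3 10 := hering_check 3 10 61 (by decide +kernel)
theorem hering_4_10 : HeringOK 4 10 := hering_check 4 10 41 (by decide +kernel)
theorem hering_5_10 : HeringOK 5 10 := hering_check 5 10 521 (by decide +kernel)
theorem hering_3_12 : HeringOK 3 12 := hering_check 3 12 73 (by decide +kernel)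
theorem hering_4_12 : HeringOK 4 12 := hering_check 4 12 241 (by decide +kernel)
theorem hering_5_12 : HeringOK 5 12 := hering_check 5 12 601 (by decide +kernel)
theorem hering_3_14 : HeringOK 3 14 := hering_check 3 14 547 (by decide +kernel)
theorem hering_3_15 : HeringOK 3 15 := hering_check 3 15 4561 (by decide +kernel)
theorem hering_3_16 : HeringOK 3 16 := hering_check 3 16 193 (by decide +kernel)
theorem hering_3_18 : HeringOK 3 18 := hering_check 3 18 703 (by decide +kernel)
theorem hering_4_18 : HeringOK 4 18 := hering_check 4 18 109 (by decide +kernel)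
theorem hering_3_20 : HeringOK 3 20 := hering_check 3 20 1181 (by decide +kernel)
theorem hering_3_22 : HeringOK 3 22 := hering_check 3 22 67 (by decide +kernel)
theorem hering_3_24 : HeringOK 3 24 := hering_check 3 24 6481 (by decide +kernel)
theorem hering_3_30 : HeringOK 3 30 := hering_check 3 30 271 (by decide +kernel)
theorem hering_3_42 : HeringOK 3 42 := hering_check 3 42 2269 (by decide +kernel)

theorem hering_table_two : ∀ n ∈ S2, (2, n) ∈ ([(2, 6), (2, 4), (2, 10), (2, 12), (2, 18), (3, 4), (3, 6), (5, 6), (2, 3), (2, 8), (2, 20), (4, 3), (4, 6)] : List (ℕ × ℕ)) ∨ HeringOK 2 n := by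
  intro n hn
  simp only [S2, List.mem_cons, List.mem_nil_iff, or_false] at hn
  rcases hn with rfl | rfl | rfl | rfl | rfl | rfl | rfl | rfl | rfl | rfl | rfl | rfl | rfl | rfl | rfl | rfl | rfl | rfl | rfl | rfl | rfl | rfl | rfl | rfl | rfl | rfl | rfl | rfl | rfl | rfl | rfl | rfl | rfl | rfl | rfl | rfl | rfl | rfl | rfl | rfl | rfl | rfl | rfl | rfl | rfl | rfl | rfl | rfl | rfl
  · exact Or.inl (by decide)
  · exact Or.inl (by decide)
  · exact Or.inr hering_2_5
  · exact Or.inl (by decide)
  · exact Or.inr hering_2_7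
  · exact Or.inl (by decide)
  · exact Or.inr hering_2_9
  · exact Or.inl (by decide)
  · exact Or.inr hering_2_11
  · exact Or.inl (by decide)
  · exact Or.inr hering_2_13
  · exact Or.inr hering_2_14
  · exact Or.inr hering_2_15
  · exact Or.inr hering_2_16
  · exact Or.inr hering_2_17
  · exact Or.inl (by decide)
  · exact Or.inr hering_2_19
  · exact Or.inl (by decide)
  · exact Or.inr hering_2_21
  · exact Or.inr hering_2_22
  · exact Or.inr hering_2_24
  · exact Or.inr hering_2_25
  · exact Or.inr hering_2_26
  · exact Or.inr hering_2_27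
  · exact Or.inr hering_2_28
  · exact Or.inr hering_2_30
  · exact Or.inr hering_2_32
  · exact Or.inr hering_2_33
  · exact Or.inr hering_2_34
  · exact Or.inr hering_2_36
  · exact Or.inr hering_2_38
  · exact Or.inr hering_2_39
  · exact Or.inr hering_2_40
  · exact Or.inr hering_2_42
  · exact Or.inr hering_2_44
  · exact Or.inr hering_2_45
  · exact Or.inr hering_2_46
  · exact Or.inr hering_2_48
  · exact Or.inr hering_2_50
  · exact Or.inr hering_2_52
  · exact Or.inr hering_2_54
  · exact Or.inr hering_2_56
  · exact Or.inr hering_2_60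
  · exact Or.inr hering_2_66
  · exact Or.inr hering_2_70
  · exact Or.inr hering_2_72
  · exact Or.inr hering_2_78
  · exact Or.inr hering_2_84
  · exact Or.inr hering_2_90

theorem hering_table_three : ∀ x ∈ L3, x ∈ ([(2, 6), (2, 4), (2, 10), (2, 12), (2, 18), (3, 4), (3, 6), (5, 6), (2, 3), (2, 8), (2, 20), (4, 3), (4, 6)] : List (ℕ × ℕ)) ∨ HeringOK x.1 x.2 := by
  intro x hx
  simp only [L3, List.mem_cons, List.mem_nil_iff, or_false] at hx
  rcases hx with rfl | rfl | rfl | rfl | rfl | rfl | rfl | rfl | rfl | rfl | rfl | rfl | rfl | rfl | rfl | rfl | rfl | rfl | rfl | rfl | rfl | rfl | rfl | rfl | rfl | rfl | rfl | rfl | rfl | rfl | rfl | rfl | rfl | rfl | rfl | rfl | rfl | rfl | rfl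
  · exact Or.inr hering_3_3
  · exact Or.inl (by decide)
  · exact Or.inr hering_5_3
  · exact Or.inr hering_6_3
  · exact Or.inl (by decide)
  · exact Or.inr hering_4_4
  · exact Or.inr hering_5_4
  · exact Or.inr hering_6_4
  · exact Or.inr hering_7_4
  · exact Or.inr hering_3_5
  · exact Or.inl (by decide)
  · exact Or.inl (by decide)
  · exact Or.inl (by decide)
  · exact Or.inr hering_6_6
  · exact Or.inr hering_7_6
  · exact Or.inr hering_8_6
  · exact Or.inr hering_9_6
  · exact Or.inr hering_10_6
  · exact Or.inr hering_11_6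
  · exact Or.inr hering_3_7
  · exact Or.inr hering_3_8
  · exact Or.inr hering_4_8
  · exact Or.inr hering_3_9
  · exact Or.inr hering_3_10
  · exact Or.inr hering_4_10
  · exact Or.inr hering_5_10
  · exact Or.inr hering_3_12
  · exact Or.inr hering_4_12
  · exact Or.inr hering_5_12
  · exact Or.inr hering_3_14
  · exact Or.inr hering_3_15
  · exact Or.inr hering_3_16
  · exact Or.inr hering_3_18
  · exact Or.inr hering_4_18
  · exact Or.inr hering_3_20
  · exact Or.inr hering_3_22
  · exact Or.inr hering_3_24
  · exact Or.inr hering_3_30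
  · exact Or.inr hering_3_42

theorem hering_exc : ∀ x ∈ ([(2, 6), (2, 4), (2, 10), (2, 12), (2, 18), (3, 4), (3, 6), (5, 6), (2, 3), (2, 8), (2, 20), (4, 3), (4, 6)] : List (ℕ × ℕ)), ∀ m : ℕ, m ∣ x.1 ^ x.2 - 1 →
    (∀ i : ℕ, 1 ≤ i → i < x.2 → Nat.Coprime m (x.1 ^ i - 1)) → m ≤ 2 * x.2 + 1 := by
  intro x hx
  simp only [List.mem_cons, List.mem_nil_iff, or_false] at hx
  rcases hx with rfl | rfl | rfl | rfl | rfl | rfl | rfl | rfl | rfl | rfl | rfl | rfl | rfl
  · intro m hm hc
    exact (hering_exc_check 2 6 63 1 [3, 2, 2] (by decide +kernel) m hm hc).trans (by norm_num)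
  · intro m hm hc
    exact (hering_exc_check 2 4 3 5 [2] (by decide +kernel) m hm hc).trans (by norm_num)
  · intro m hm hc
    exact (hering_exc_check 2 10 93 11 [5, 2] (by decide +kernel) m hm hc).trans (by norm_num)
  · intro m hm hc
    exact (hering_exc_check 2 12 315 13 [6, 4] (by decide +kernel) m hm hc).trans (by norm_num)
  · intro m hm hc
    exact (hering_exc_check 2 18 13797 19 [9, 6, 2] (by decide +kernel) m hm hc).trans (by norm_num)
  · intro m hm hc
    exact (hering_exc_check 3 4 16 5 [2, 1] (by decide +kernel) m hm hc).trans (by norm_num)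
  · intro m hm hc
    exact (hering_exc_check 3 6 104 7 [3, 2] (by decide +kernel) m hm hc).trans (by norm_num)
  · intro m hm hc
    exact (hering_exc_check 5 6 2232 7 [3, 2, 2] (by decide +kernel) m hm hc).trans (by norm_num)
  · intro m hm hc
    exact (hering_exc_check 2 3 1 7 [] (by decide +kernel) m hm hc).trans (by norm_num)
  · intro m hm hc
    exact (hering_exc_check 2 8 15 17 [4] (by decide +kernel) m hm hc).trans (by norm_num)
  · intro m hm hc
    exact (hering_exc_check 2 20 25575 41 [10, 4, 4] (by decide +kernel) m hm hc).trans (by norm_num)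
  · intro m hm hc
    exact (hering_exc_check 4 3 9 7 [1, 1] (by decide +kernel) m hm hc).trans (by norm_num)
  · intro m hm hc
    exact (hering_exc_check 4 6 315 13 [3, 2] (by decide +kernel) m hm hc).trans (by norm_num)

end Cfsg.Agent.Helper3.CycBound
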