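import Mathlib

set_option autoImplicit false

namespace Cfsg.Agent.Helper3.Homog

open Finset

/-- valuation of `k + i` when `p ^ e ∣ k` and `0 < i < p ^ e` -/
theorem factorization_add {p e k i : ℕ} (hp : p.Prime) (hk : p ^ e ∣ k) (hi0 : 0 < i)
    (hi : i < p ^ e) : (k + i).factorization p = i.factorization p := by
  have hi0' : i ≠ 0 := hi0.ne'
  have hki : k + i ≠ 0 := by omega
  set v := i.factorization p with hv
  have hvi : p ^ v ∣ i := Nat.ordProj_dvd i p
  have hve : v < e := by
    by_contra hcon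
    push Not at hcon
    have h1 : p ^ e ∣ i := (pow_dvd_pow p hcon).trans hvi
    have := Nat.le_of_dvd hi0 h1
    omega
  apply le_antisymm
  · by_contra hcon
    push Not at hcon
    have h1 : p ^ (v + 1) ∣ k + i :=
      (hp.pow_dvd_iff_le_factorization hki).mpr hcon
    have h2 : p ^ (v + 1) ∣ k := (pow_dvd_pow p hve).trans hk
    have h3 : p ^ (v + 1) ∣ i := (Nat.dvd_add_right h2).mp h1
    have := (hp.pow_dvd_iff_le_factorization hi0').mp h3
    omega
  · rw [← hp.pow_dvd_iff_le_factorization hki]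
    exact Dvd.dvd.add ((pow_dvd_pow p hve.le).trans hk) hvi

theorem not_dvd_choose {p e k : ℕ} (hp : p.Prime) (hk : p ^ e ∣ k) :
    ¬ p ∣ (k + p ^ e - 1).choose k := by
  set q := p ^ e with hq
  have hq0 : 0 < q := pos_of_ne_zero (pow_ne_zero e hp.ne_zero)
  have h1 : k + q - 1 = k + (q - 1) := by omega
  rw [h1, Nat.choose_symm_add]
  have h2 := Nat.ascFactorial_eq_factorial_mul_choose k (q - 1)
  have hC0 : (k + (q - 1)).choose (q - 1) ≠ 0 := (Nat.choose_pos (by omega)).ne'
  have hF0 : (q - 1).factorial ≠ 0 := Nat.factorial_ne_zero _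
  have h3 := congrArg (fun n => n.factorization p) h2
  beta_reduce at h3
  rw [Nat.factorization_mul hF0 hC0, Nat.ascFactorial_eq_prod_range,
    ← Finset.prod_range_add_one_eq_factorial] at h3
  rw [Nat.factorization_prod (fun x _ => by omega), Nat.factorization_prod (fun x _ => by omega)] at h3
  simp only [Finsupp.coe_add, Finsupp.coe_finsetSum, Pi.add_apply, Finset.sum_apply] at h3
  have h4 : ∑ x ∈ range (q - 1), (k + 1 + x).factorization p =
      ∑ x ∈ range (q - 1), (x + 1).factorization p := by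
    apply Finset.sum_congr rfl
    intro x hx
    rw [Finset.mem_range] at hx
    have : k + 1 + x = k + (x + 1) := by ring
    rw [this]
    exact factorization_add hp hk (by omega) (by omega)
  rw [h4] at h3
  have h5 : ((k + (q - 1)).choose (q - 1)).factorization p = 0 := by omega
  rw [Nat.factorization_eq_zero_iff] at h5
  rcases h5 with h5 | h5 | h5
  · exact absurd hp h5
  · exact h5
  · exact absurd h5 hC0

variable {α : Type*} [DecidableEq α]

/-- double counting of flags inside `Λ` -/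
theorem count_identity (S : Finset α → Prop) [DecidablePred S] (Λ : Finset α) (k : ℕ)
    (hk : 1 ≤ k) :
    ∑ Δ ∈ Λ.powersetCard k, (Δ.filter (fun x => S (Δ.erase x))).card =
      ∑ T ∈ (Λ.powersetCard (k - 1)).filter S, (Λ \ T).card := by
  rw [← Finset.card_sigma, ← Finset.card_sigma]
  apply Finset.card_bij' (fun (a : Σ _ : Finset α, α) _ => (⟨a.1.erase a.2, a.2⟩ : Σ _ : Finset α, α))
    (fun (a : Σ _ : Finset α, α) _ => (⟨insert a.2 a.1, a.2⟩ : Σ _ : Finset α, α))
  · rintro ⟨Δ, x⟩ h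
    simp only [Finset.mem_sigma, Finset.mem_powersetCard, Finset.mem_filter] at h ⊢
    obtain ⟨⟨hΔΛ, hΔk⟩, hxΔ, hS⟩ := h
    refine ⟨⟨⟨(Finset.erase_subset _ _).trans hΔΛ, ?_⟩, hS⟩, ?_⟩
    · rw [Finset.card_erase_of_mem hxΔ, hΔk]
    · rw [Finset.mem_sdiff]
      exact ⟨hΔΛ hxΔ, Finset.notMem_erase _ _⟩
  · rintro ⟨T, y⟩ h
    simp only [Finset.mem_sigma, Finset.mem_powersetCard, Finset.mem_filter, Finset.mem_sdiff] at h ⊢
    obtain ⟨⟨⟨hTΛ, hTk⟩, hS⟩, hyΛ, hyT⟩ := h
    refine ⟨⟨?_, ?_⟩, Finset.mem_insert_self _ _, ?_⟩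
    · exact Finset.insert_subset hyΛ hTΛ
    · rw [Finset.card_insert_of_notMem hyT, hTk]; omega
    · rw [Finset.erase_insert hyT]; exact hS
  · rintro ⟨Δ, x⟩ h
    simp only [Finset.mem_sigma, Finset.mem_powersetCard, Finset.mem_filter] at h
    simp only [Finset.insert_erase h.2.1]
  · rintro ⟨T, y⟩ h
    simp only [Finset.mem_sigma, Finset.mem_powersetCard, Finset.mem_filter, Finset.mem_sdiff] at h
    simp only [Finset.erase_insert h.2.2]

end Cfsg.Agent.Helper3.Homog
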