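import Mathlib
import Cfsg.Agent.Helper3.HomogA

set_option autoImplicit false

namespace Cfsg.Agent.Helper3.Homog

open Finset

variable {α : Type*} [Fintype α] [DecidableEq α]

theorem main (G : Subgroup (Equiv.Perm α)) {k : ℕ} (hk : 2 ≤ k)
    (hom : ∀ Δ Δ' : Finset α, Δ.card = k → Δ'.card = k → ∃ g ∈ G, Δ.image g = Δ')
    (hq : ∀ q : ℕ, IsPrimePow q → q ∣ k → k + q - 1 ≤ Fintype.card α) :
    ∀ T T' : Finset α, T.card = k - 1 → T'.card = k - 1 → ∃ g ∈ G, T.image g = T' := by
  classical
  intro T₀ T' hT₀ hT'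
  -- `n ≥ k + 1`
  have hn : k + 1 ≤ Fintype.card α := by
    obtain ⟨p, hp, hpk⟩ := Nat.exists_prime_and_dvd (show k ≠ 1 by omega)
    have := hq p hp.isPrimePow hpk
    have := hp.two_le
    omega
  set S : Finset α → Prop := fun U => ∃ g ∈ G, T₀.image g = U with hS
  have hSimg : ∀ U, S U → ∀ g ∈ G, S (U.image g) := by
    rintro U ⟨h, hh, rfl⟩ g hg
    refine ⟨g * h, G.mul_mem hg hh, ?_⟩
    rw [Finset.image_image]
    rfl
  have hSimg' : ∀ U, ∀ g ∈ G, S (U.image g) → S U := by
    intro U g hg hU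
    have := hSimg _ hU g⁻¹ (G.inv_mem hg)
    rw [Finset.image_image] at this
    have h2 : (⇑g⁻¹ ∘ ⇑g) = id := by
      funext x; simp
    rw [h2, Finset.image_id] at this
    exact this
  set c : Finset α → ℕ := fun Δ => (Δ.filter (fun x => S (Δ.erase x))).card with hc
  have hcimg : ∀ Δ, ∀ g ∈ G, c (Δ.image g) = c Δ := by
    intro Δ g hg
    have : (Δ.image g).filter (fun x => S ((Δ.image g).erase x)) =
        (Δ.filter (fun x => S (Δ.erase x))).image g := by
      ext y
      simp only [Finset.mem_filter, Finset.mem_image]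
      constructor
      · rintro ⟨⟨x, hx, rfl⟩, hSx⟩
        refine ⟨x, ⟨hx, ?_⟩, rfl⟩
        rw [← Finset.image_erase g.injective] at hSx
        exact hSimg' _ g hg hSx
      · rintro ⟨x, ⟨hx, hSx⟩, rfl⟩
        refine ⟨⟨x, hx, rfl⟩, ?_⟩
        rw [← Finset.image_erase g.injective]
        exact hSimg _ hSx g hg
    simp only [hc]
    rw [this, Finset.card_image_of_injective _ g.injective]
  -- a `k`-set containing `T₀`
  obtain ⟨x₀, hx₀⟩ : ∃ x₀, x₀ ∉ T₀ := by
    by_contra hcon
    push Not at hcon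
    have : T₀ = Finset.univ := Finset.eq_univ_iff_forall.mpr hcon
    rw [this, Finset.card_univ] at hT₀
    omega
  set Δ₀ : Finset α := insert x₀ T₀ with hΔ₀
  have hΔ₀card : Δ₀.card = k := by
    rw [hΔ₀, Finset.card_insert_of_notMem hx₀, hT₀]; omega
  set c₀ := c Δ₀ with hc₀
  have hc₀pos : 0 < c₀ := by
    simp only [hc₀, hc]
    rw [Finset.card_pos]
    refine ⟨x₀, ?_⟩
    rw [Finset.mem_filter]
    refine ⟨Finset.mem_insert_self _ _, ?_⟩
    rw [hΔ₀, Finset.erase_insert hx₀]
    exact ⟨1, G.one_mem, by simp⟩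
  have hconst : ∀ Δ : Finset α, Δ.card = k → c Δ = c₀ := by
    intro Δ hΔ
    obtain ⟨g, hg, hgΔ⟩ := hom Δ₀ Δ hΔ₀card hΔ
    rw [← hgΔ, hcimg _ g hg]
  have hc₀le : c₀ ≤ k := by
    rw [← hΔ₀card]
    exact Finset.card_filter_le _ _
  -- divisibility by maximal prime powers
  have hdiv : ∀ p : ℕ, p.Prime → p ∣ k → p ^ (k.factorization p) ∣ c₀ := by
    intro p hp hpk
    set e := k.factorization p with he
    have hepos : 0 < e := hp.factorization_pos_of_dvd (by omega) hpk
    have hqk : p ^ e ∣ k := Nat.ordProj_dvd k p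
    have hqn := hq (p ^ e) (hp.isPrimePow.pow hepos.ne') hqk
    obtain ⟨Λ, -, hΛ⟩ := Finset.exists_subset_card_eq (s := (Finset.univ : Finset α))
      (n := k + p ^ e - 1) (by rw [Finset.card_univ]; exact hqn)
    have hid := count_identity S Λ k (by omega)
    have hL : ∑ Δ ∈ Λ.powersetCard k, (Δ.filter (fun x => S (Δ.erase x))).card =
        (k + p ^ e - 1).choose k * c₀ := by
      rw [Finset.sum_congr rfl (fun Δ hΔ => hconst Δ (Finset.mem_powersetCard.mp hΔ).2),
        Finset.sum_const, Finset.card_powersetCard, hΛ, smul_eq_mul]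
    have hR : ∑ T ∈ (Λ.powersetCard (k - 1)).filter S, (Λ \ T).card =
        ((Λ.powersetCard (k - 1)).filter S).card * p ^ e := by
      rw [Finset.sum_congr rfl (g := fun _ => p ^ e), Finset.sum_const, smul_eq_mul]
      intro T hT
      rw [Finset.mem_filter, Finset.mem_powersetCard] at hT
      rw [Finset.card_sdiff_of_subset hT.1.1, hΛ, hT.1.2]
      have : 0 < p ^ e := pos_of_ne_zero (pow_ne_zero e hp.ne_zero)
      omega
    rw [hL, hR] at hid
    have hcop : Nat.Coprime (p ^ e) ((k + p ^ e - 1).choose k) :=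
      Nat.Coprime.pow_left e ((Nat.Prime.coprime_iff_not_dvd hp).mpr (not_dvd_choose hp hqk))
    exact hcop.dvd_of_dvd_mul_left (Dvd.intro_left _ hid.symm)
  have hkc : k ∣ c₀ := by
    rw [← Nat.factorization_prime_le_iff_dvd (by omega) hc₀pos.ne']
    intro p hp
    by_cases hpk : p ∣ k
    · exact (hp.pow_dvd_iff_le_factorization hc₀pos.ne').mp (hdiv p hp hpk)
    · rw [Nat.factorization_eq_zero_of_not_dvd hpk]; exact Nat.zero_le _
  have hc₀k : c₀ = k := le_antisymm hc₀le (Nat.le_of_dvd hc₀pos hkc)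
  -- conclusion
  obtain ⟨y, hy⟩ : ∃ y, y ∉ T' := by
    by_contra hcon
    push Not at hcon
    have : T' = Finset.univ := Finset.eq_univ_iff_forall.mpr hcon
    rw [this, Finset.card_univ] at hT'
    omega
  have hΔ'card : (insert y T').card = k := by
    rw [Finset.card_insert_of_notMem hy, hT']; omega
  have h1 : c (insert y T') = k := by rw [hconst _ hΔ'card, hc₀k]
  have h2 : (insert y T').filter (fun x => S ((insert y T').erase x)) = insert y T' := by
    apply Finset.eq_of_subset_of_card_le (Finset.filter_subset _ _)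
    rw [hΔ'card]
    exact h1.ge
  have h3 : y ∈ (insert y T').filter (fun x => S ((insert y T').erase x)) := by
    rw [h2]; exact Finset.mem_insert_self _ _
  rw [Finset.mem_filter, Finset.erase_insert hy] at h3
  exact h3.2

end Cfsg.Agent.Helper3.Homog
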