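import Mathlib
import Cfsg.Agent.Helper3.DihA

/-!
Helper lemmas (helper3): splitting of central extensions by a group of order two.  If `π : H → K`
is surjective with central kernel of order two, all involutions of `K` are conjugate, some
non-central involution of `H` exists, and `K` has a dihedral subgroup of odd index generated by two
involutions, then the kernel has a complement (transfer into the preimage of the dihedral subgroup).
-/

set_option autoImplicit false

namespace Cfsg.Agent.Helper3.InvCover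

open Cfsg.Agent.Helper3.Dih

/-- The sign homomorphism of a subgroup of index two. -/
theorem exists_signHom {P : Type*} [Group P] (Q : Subgroup P) (h : Q.index = 2) :
    ∃ ϕ : P →* ℤˣ, ∀ p, ϕ p = 1 ↔ p ∈ Q := by
  classical
  refine ⟨{ toFun := fun p => if p ∈ Q then 1 else -1
            map_one' := by simp [Q.one_mem]
            map_mul' := ?_ }, ?_⟩
  · intro a b
    have hab := Subgroup.mul_mem_iff_of_index_two h (a := a) (b := b)
    by_cases ha : a ∈ Q <;> by_cases hb : b ∈ Q
    · have : a * b ∈ Q := hab.mpr ⟨fun _ => hb, fun _ => ha⟩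
      simp [ha, hb, this]
    · have : a * b ∉ Q := fun h' => hb (hab.mp h' |>.mp ha)
      simp [ha, hb, this]
    · have : a * b ∉ Q := fun h' => ha (hab.mp h' |>.mpr hb)
      simp [ha, hb, this]
    · have : a * b ∈ Q := hab.mpr ⟨fun h' => absurd h' ha, fun h' => absurd h' hb⟩
      simp [ha, hb, this]
  · intro p
    change (if p ∈ Q then (1 : ℤˣ) else -1) = 1 ↔ p ∈ Q
    by_cases hp : p ∈ Q
    · simp [hp]
    · simp [hp]

/-- Complement of a central subgroup `{1, z}` from a homomorphism to `ℤˣ` not killing `z`. -/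
theorem complement_of_hom {H : Type*} [Group H] (Z : Subgroup H) (z : H)
    (hZ : ∀ w ∈ Z, w = 1 ∨ w = z) (hz : z ∈ Z) (T : H →* ℤˣ) (hT : T z ≠ 1) :
    Z.IsComplement' T.ker := by
  have hTz : T z = -1 := (Int.units_eq_one_or (T z)).resolve_left hT
  apply Subgroup.isComplement'_of_disjoint_and_mul_eq_univ
  · rw [Subgroup.disjoint_def]
    intro w hw hwk
    rcases hZ w hw with rfl | rfl
    · rfl
    · exact absurd (MonoidHom.mem_ker.mp hwk) hT
  · rw [Set.eq_univ_iff_forall]
    intro g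
    rw [Set.mem_mul]
    rcases Int.units_eq_one_or (T g) with h | h
    · exact ⟨1, Z.one_mem, g, MonoidHom.mem_ker.mpr h, one_mul g⟩
    · refine ⟨z, hz, z⁻¹ * g, ?_, by group⟩
      rw [SetLike.mem_coe, MonoidHom.mem_ker, map_mul, map_inv, hTz, h]
      decide

variable {H K : Type*} [Group H] [Group K]

/-- The main splitting criterion. -/
theorem exists_complement [Finite H] (π : H →* K) (hsurj : Function.Surjective π)
    (hker : π.ker = Subgroup.center H) (hcard : Nat.card (Subgroup.center H) = 2)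
    (t : H) (ht : orderOf t = 2) (htZ : t ∉ Subgroup.center H)
    (hconj : ∀ a b : K, orderOf a = 2 → orderOf b = 2 → IsConj a b)
    (s₁ s₂ : K) (h1 : s₁ * s₁ = 1) (h2 : s₂ * s₂ = 1) (hs1 : s₁ ≠ 1) (hs2 : s₂ ≠ 1)
    (k : ℕ) (hk : 0 < k) (hr : orderOf (s₁ * s₂) = 2 * k)
    (hs : s₁ ∉ Subgroup.zpowers (s₁ * s₂))
    (hodd : Odd (Subgroup.closure ({s₁, s₂} : Set K)).index) :
    ∃ L : Subgroup H, (Subgroup.center H).IsComplement' L := by
  -- the central involution
  obtain ⟨⟨z, hzZ⟩, hz1, hzu⟩ := (Nat.card_eq_two_iff' (1 : Subgroup.center H)).mp hcard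
  have hz1' : z ≠ 1 := fun h => hz1 (Subtype.ext h)
  have hZ : ∀ w ∈ Subgroup.center H, w = 1 ∨ w = z := by
    intro w hw
    by_cases h : w = 1
    · exact Or.inl h
    · right
      have := hzu ⟨w, hw⟩ (fun h' => h (congrArg Subtype.val h'))
      exact congrArg Subtype.val this
  have hzz : z * z = 1 := by
    rcases hZ (z * z) (Subgroup.mul_mem _ hzZ hzZ) with h | h
    · exact h
    · exact absurd (mul_eq_left.mp h) hz1'
  have hsq : ∀ w ∈ Subgroup.center H, w * w = 1 := by
    intro w hw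
    rcases hZ w hw with rfl | rfl
    · rw [one_mul]
    · exact hzz
  have hzc := hzZ
  rw [Subgroup.mem_center_iff] at hzc
  -- the image of `t` is an involution
  have hπt : orderOf (π t) = 2 := by
    apply orderOf_eq_prime
    · rw [← map_pow, ← ht, pow_orderOf_eq_one, map_one]
    · intro h
      apply htZ
      rw [← hker]
      exact MonoidHom.mem_ker.mpr h
  have htt : t * t = 1 := by
    rw [← pow_two, ← ht, pow_orderOf_eq_one]
  -- all lifts of involutions are involutions
  have hlift : ∀ g : H, orderOf (π g) = 2 → g * g = 1 := by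
    intro g hg
    obtain ⟨c, hc⟩ := isConj_iff.mp (hconj (π t) (π g) hπt hg)
    obtain ⟨h, rfl⟩ := hsurj c
    have hw : (h * t * h⁻¹)⁻¹ * g ∈ Subgroup.center H := by
      rw [← hker, MonoidHom.mem_ker, map_mul, map_inv, map_mul, map_mul, map_inv, hc,
        inv_mul_cancel]
    obtain ⟨c, hcdef⟩ : ∃ c, c = h * t * h⁻¹ := ⟨_, rfl⟩
    rw [← hcdef] at hw
    obtain ⟨w, hwdef⟩ : ∃ w, w = c⁻¹ * g := ⟨_, rfl⟩
    rw [← hwdef] at hw
    have hwc := hw
    rw [Subgroup.mem_center_iff] at hwc
    have e : g = c * w := by rw [hwdef]; group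
    have e2 : c * c = 1 := by
      have : c * c = h * (t * t) * h⁻¹ := by rw [hcdef]; group
      rw [this, htt, mul_one, mul_inv_cancel]
    calc g * g = (c * w) * (c * w) := by rw [← e]
      _ = c * (w * c) * w := by group
      _ = c * (c * w) * w := by rw [← hwc c]
      _ = (c * c) * (w * w) := by group
      _ = 1 := by rw [e2, hsq w hw, one_mul]
  have hos1 : orderOf s₁ = 2 := orderOf_eq_prime (by rw [pow_two]; exact h1) hs1
  have hos2 : orderOf s₂ = 2 := orderOf_eq_prime (by rw [pow_two]; exact h2) hs2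
  obtain ⟨a₁, ha₁⟩ := hsurj s₁
  obtain ⟨a₂, ha₂⟩ := hsurj s₂
  have haa₁ : a₁ * a₁ = 1 := hlift a₁ (by rw [ha₁]; exact hos1)
  have haa₂ : a₂ * a₂ = 1 := hlift a₂ (by rw [ha₂]; exact hos2)
  -- the rotation has order dividing `2k`
  have hrk : orderOf ((s₁ * s₂) ^ k) = 2 := by
    rw [orderOf_pow_of_dvd hk.ne' (by rw [hr]; exact Dvd.intro_left 2 rfl), hr,
      Nat.mul_div_cancel _ hk]
  have hxk : (a₁ * a₂) ^ k * (a₁ * a₂) ^ k = 1 := by
    apply hlift
    rw [map_pow, map_mul, ha₁, ha₂]
    exact hrk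
  -- the subgroups
  set D : Subgroup K := Subgroup.closure ({s₁, s₂} : Set K) with hD
  set Q : Subgroup H := Subgroup.closure ({a₁, a₂} : Set H) with hQ
  set P : Subgroup H := D.comap π with hP
  have hQP : Q ≤ P := by
    rw [hQ, Subgroup.closure_le]
    rintro g (rfl | hg)
    · change π g ∈ D
      rw [ha₁]; exact Subgroup.subset_closure (Or.inl rfl)
    · rw [Set.mem_singleton_iff] at hg
      subst hg
      change π g ∈ D
      rw [ha₂]; exact Subgroup.subset_closure (Or.inr rfl)
  have hmapQ : Q.map π = D := by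
    rw [hQ, MonoidHom.map_closure, hD]
    congr 1
    rw [Set.image_pair, ha₁, ha₂]
  -- `z ∉ Q`
  have hzQ : z ∉ Q := by
    intro hz
    obtain ⟨i, hi | hi⟩ := mem_closure_pair a₁ a₂ haa₁ haa₂ hz
    · have h3 := congrArg π hi
      rw [map_zpow, map_mul, ha₁, ha₂] at h3
      have hzk : π z = 1 := by
        rw [← MonoidHom.mem_ker, hker]; exact hzZ
      rw [hzk] at h3
      have hdvd : ((2 * k : ℕ) : ℤ) ∣ i := by
        rw [← hr]
        exact orderOf_dvd_iff_zpow_eq_one.mpr h3.symm
      obtain ⟨j, rfl⟩ := hdvd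
      apply hz1'
      rw [hi, zpow_mul, zpow_natCast, mul_comm 2 k, pow_mul, pow_two, hxk, one_zpow]
    · have h3 := congrArg π hi
      rw [map_mul, map_zpow, map_mul, ha₁, ha₂] at h3
      have hzk : π z = 1 := by
        rw [← MonoidHom.mem_ker, hker]; exact hzZ
      rw [hzk] at h3
      apply hs
      have h4 : ((s₁ * s₂) ^ i)⁻¹ = s₁ := (eq_inv_of_mul_eq_one_right h3.symm).symm
      have h5 : ((s₁ * s₂) ^ i)⁻¹ ∈ Subgroup.zpowers (s₁ * s₂) :=
        Subgroup.inv_mem _ (Subgroup.zpow_mem _ (Subgroup.mem_zpowers _) i)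
      rw [h4] at h5
      exact h5
  have hzP : z ∈ P := by
    change π z ∈ D
    have hzk : π z = 1 := by
      rw [← MonoidHom.mem_ker, hker]; exact hzZ
    rw [hzk]; exact D.one_mem
  -- `Q` has index two in `P`
  have hidx : (Q.subgroupOf P).index = 2 := by
    rw [Subgroup.index_eq_two_iff]
    refine ⟨⟨z, hzP⟩, ?_⟩
    rintro ⟨p, hp⟩
    simp only [Subgroup.mem_subgroupOf, Subgroup.coe_mul]
    have hpD : π p ∈ Q.map π := by rw [hmapQ]; exact hp
    obtain ⟨q, hq, hqp⟩ := hpD
    have hw : q⁻¹ * p ∈ Subgroup.center H := by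
      rw [← hker, MonoidHom.mem_ker, map_mul, map_inv, hqp, inv_mul_cancel]
    rcases hZ _ hw with h | h
    · have hpq : p = q := by
        rw [inv_mul_eq_one] at h; exact h.symm
      refine Or.inr ⟨hpq ▸ hq, fun h' => hzQ ?_⟩
      have := Q.mul_mem (Q.inv_mem hq) h'
      rwa [hpq, inv_mul_cancel_left] at this
    · have hpq : p = q * z := by
        rw [← h]; group
      refine Or.inl ⟨?_, fun h' => hzQ ?_⟩
      · rw [hpq, mul_assoc, hzz, mul_one]; exact hq
      · have := Q.mul_mem (Q.inv_mem hq) h'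
        rwa [hpq, inv_mul_cancel_left] at this
  obtain ⟨ϕ, hϕ⟩ := exists_signHom (Q.subgroupOf P) hidx
  have hϕz : ϕ ⟨z, hzP⟩ = -1 := by
    refine (Int.units_eq_one_or _).resolve_left (fun h => hzQ ?_)
    have := (hϕ ⟨z, hzP⟩).mp h
    rwa [Subgroup.mem_subgroupOf] at this
  -- transfer
  have hPidx : P.index = D.index := Subgroup.index_comap_of_surjective D hsurj
  have key : ∀ (j : ℕ) (g₀ : H), g₀⁻¹ * z ^ j * g₀ ∈ P → g₀⁻¹ * z ^ j * g₀ = z ^ j := by
    intro j g₀ _
    have hc : z ^ j ∈ Subgroup.center H := Subgroup.pow_mem _ hzZ j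
    rw [Subgroup.mem_center_iff] at hc
    rw [mul_assoc, ← hc g₀, inv_mul_cancel_left]
  have htr := MonoidHom.transfer_eq_pow ϕ z key
  have hpow : (⟨z ^ P.index, MonoidHom.transfer_eq_pow_aux z key⟩ : P) = (⟨z, hzP⟩ : P) ^ P.index :=
    Subtype.ext (by rw [Subgroup.coe_pow])
  rw [hpow, map_pow, hϕz, hPidx, Odd.neg_one_pow hodd] at htr
  refine ⟨(MonoidHom.transfer ϕ).ker, complement_of_hom _ z hZ hzZ _ ?_⟩
  rw [htr]
  decide

end Cfsg.Agent.Helper3.InvCover
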