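import Mathlib
import Cfsg.Agent.Helper3.InvCoverA

/-!
Helper lemmas (helper3): involutions of the alternating groups of degree at most seven are conjugate;
explicit dihedral subgroups of odd index.
-/

set_option autoImplicit false

namespace Cfsg.Agent.Helper3.InvCover

open Equiv Equiv.Perm

/-- Conjugacy in the symmetric group descends to the alternating group for involutions. -/
theorem isConj_alt_of_invol {α : Type*} [Fintype α] [DecidableEq α] {σ τ : alternatingGroup α}
    (hc : IsConj (σ : Perm α) (τ : Perm α)) (h2 : (σ : Perm α) * (σ : Perm α) = 1)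
    (h1 : (σ : Perm α) ≠ 1) : IsConj σ τ := by
  obtain ⟨σ, hσ⟩ := σ
  obtain ⟨τ, hτ⟩ := τ
  obtain ⟨π, hπ⟩ := isConj_iff.1 hc
  simp only at hπ h2 h1
  rcases Int.units_eq_one_or (Perm.sign π) with h | h
  · rw [isConj_iff]
    exact ⟨⟨π, mem_alternatingGroup.mpr h⟩, Subtype.ext hπ⟩
  · obtain ⟨x, hx⟩ : ∃ x, σ x ≠ x := by
      by_contra hcon
      push Not at hcon
      exact h1 (Perm.ext hcon)
    have hσσ : σ (σ x) = x := by
      have := congrArg (fun f : Perm α => f x) h2
      simpa using this
    have hcomm : σ * swap x (σ x) * σ⁻¹ = swap x (σ x) := by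
      rw [← Equiv.swap_apply_apply, hσσ, swap_comm]
    rw [isConj_iff]
    refine ⟨⟨π * swap x (σ x), ?_⟩, Subtype.ext ?_⟩
    · rw [mem_alternatingGroup, map_mul, h, sign_swap hx.symm, Int.units_mul_self]
    · simp only [Subgroup.coe_mul, Subgroup.coe_inv, mul_inv_rev, swap_inv]
      have e : swap x (σ x) * σ * swap x (σ x) = σ := by
        have h3 : swap x (σ x) * σ = σ * swap x (σ x) := by
          have h4 := mul_inv_eq_iff_eq_mul.mp hcomm
          exact h4.symm
        rw [h3, mul_assoc, swap_mul_self, mul_one]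
      calc π * swap x (σ x) * σ * (swap x (σ x) * π⁻¹)
          = π * (swap x (σ x) * σ * swap x (σ x)) * π⁻¹ := by simp only [mul_assoc]
        _ = τ := by rw [e, hπ]

/-- The cycle type of an involution of an alternating group of degree at most seven. -/
theorem cycleType_invol {n : ℕ} (hn : n ≤ 7) (σ : Perm (Fin n)) (hσ : σ ∈ alternatingGroup (Fin n))
    (h2 : orderOf σ = 2) : σ.cycleType = {2, 2} := by
  have hall : ∀ k ∈ σ.cycleType, k = 2 := by
    intro k hk
    have h1 := dvd_of_mem_cycleType hk
    have h3 := two_le_of_mem_cycleType hk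
    rw [h2] at h1
    exact le_antisymm (Nat.le_of_dvd (by norm_num) h1) h3
  have hrep := Multiset.eq_replicate_card.mpr hall
  have hsum := σ.sum_cycleType
  have hle := σ.support.card_le_univ
  rw [← hsum, hrep, Multiset.sum_replicate, smul_eq_mul, Fintype.card_fin] at hle
  have hm3 : Multiset.card σ.cycleType ≤ 3 := by omega
  have hsign := mem_alternatingGroup.mp hσ
  rw [sign_of_cycleType, hrep, Multiset.sum_replicate, Multiset.card_replicate, smul_eq_mul,
    pow_add, pow_mul, Int.units_pow_two, one_mul, neg_one_pow_eq_one_iff_even (by decide)] at hsign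
  have hne : σ ≠ 1 := by
    intro h
    rw [h, orderOf_one] at h2
    exact absurd h2 (by norm_num)
  have hm0 : Multiset.card σ.cycleType ≠ 0 := fun h => hne (card_cycleType_eq_zero.1 h)
  have hm2 : Multiset.card σ.cycleType = 2 := by
    obtain ⟨j, hj⟩ := hsign
    omega
  rw [hrep, hm2]
  rfl

/-- Involutions of the alternating groups of degree at most seven are conjugate. -/
theorem isConj_invol {n : ℕ} (hn : n ≤ 7) (σ τ : alternatingGroup (Fin n)) (hσ : orderOf σ = 2)
    (hτ : orderOf τ = 2) : IsConj σ τ := by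
  have hσ' : orderOf (σ : Perm (Fin n)) = 2 := by rw [Subgroup.orderOf_coe]; exact hσ
  have hτ' : orderOf (τ : Perm (Fin n)) = 2 := by rw [Subgroup.orderOf_coe]; exact hτ
  apply isConj_alt_of_invol
  · rw [isConj_iff_cycleType_eq, cycleType_invol hn _ σ.2 hσ', cycleType_invol hn _ τ.2 hτ']
  · rw [← pow_two, ← hσ', pow_orderOf_eq_one]
  · intro h
    rw [h, orderOf_one] at hσ'
    exact absurd hσ' (by norm_num)

end Cfsg.Agent.Helper3.InvCover
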