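import Mathlib
import Cfsg.Agent.Helper3.InvCoverB
import Cfsg.Prelude.Def_SporadicB

/-!
Helper lemmas (helper3): a non-split double cover of an alternating group of degree at most seven
has a unique involution.
-/

set_option autoImplicit false

namespace Cfsg.Agent.Helper3.InvCover

open Equiv Equiv.Perm Cfsg.Agent.Helper3.Dih

theorem not_mem_zpowers_of_forall {G : Type*} [Group G] (r s : G) (m : ℕ) (hm : 0 < m)
    (hr : r ^ m = 1) (h : ∀ j < m, r ^ j ≠ s) : s ∉ Subgroup.zpowers r := by
  intro hs
  obtain ⟨i, hi⟩ := Subgroup.mem_zpowers_iff.mp hs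
  have hm' : (m : ℤ) ≠ 0 := by exact_mod_cast hm.ne'
  have h1 : r ^ i = r ^ (i % (m : ℤ)).toNat := by
    have e : i = (m : ℤ) * (i / m) + i % m := (Int.mul_ediv_add_emod i m).symm
    have hnn : 0 ≤ i % (m : ℤ) := Int.emod_nonneg i hm'
    conv_lhs => rw [e]
    rw [zpow_add, zpow_mul, zpow_natCast, hr, one_zpow, one_mul, ← zpow_natCast,
      Int.toNat_of_nonneg hnn]
  have h2 : (i % (m : ℤ)).toNat < m := by
    have := Int.emod_lt_of_pos i (by exact_mod_cast hm : (0 : ℤ) < m)
    omega
  exact h _ h2 (h1 ▸ hi)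

/-- One case of the splitting argument, with the dihedral subgroup given by explicit permutations. -/
theorem split_case {n : ℕ} (hn : n ≤ 7) (hn2 : 2 ≤ n) {H : Type*} [Group H] [Finite H]
    (π : H →* alternatingGroup (Fin n))
    (hsurj : Function.Surjective π) (hker : π.ker = Subgroup.center H)
    (hcard : Nat.card (Subgroup.center H) = 2) (t : H) (ht : orderOf t = 2)
    (htZ : t ∉ Subgroup.center H)
    (p₁ p₂ : Perm (Fin n)) (hp₁ : p₁ ∈ alternatingGroup (Fin n))
    (hp₂ : p₂ ∈ alternatingGroup (Fin n)) (h1 : p₁ * p₁ = 1) (h2 : p₂ * p₂ = 1) (hne1 : p₁ ≠ 1)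
    (hne2 : p₂ ≠ 1) (k : ℕ) (hk : 0 < k) (hpow : (p₁ * p₂) ^ (2 * k) = 1)
    (hord : ∀ j, j < 2 * k → 0 < j → (p₁ * p₂) ^ j ≠ 1) (hs : ∀ j < 2 * k, (p₁ * p₂) ^ j ≠ p₁)
    (q : ℕ) (hq : Odd q) (hfac : n.factorial = 2 * (2 * (2 * k)) * q) :
    ∃ L : Subgroup H, (Subgroup.center H).IsComplement' L := by
  let s₁ : alternatingGroup (Fin n) := ⟨p₁, hp₁⟩
  let s₂ : alternatingGroup (Fin n) := ⟨p₂, hp₂⟩
  have e1 : s₁ * s₁ = 1 := Subtype.ext h1
  have e2 : s₂ * s₂ = 1 := Subtype.ext h2
  have hordr : orderOf (s₁ * s₂) = 2 * k := by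
    rw [← Subgroup.orderOf_coe]
    change orderOf (p₁ * p₂) = 2 * k
    rw [orderOf_eq_iff (by omega)]
    exact ⟨hpow, hord⟩
  have hsn : s₁ ∉ Subgroup.zpowers (s₁ * s₂) := by
    apply not_mem_zpowers_of_forall _ _ (2 * k) (by omega)
    · apply Subtype.ext
      rw [Subgroup.coe_pow]
      exact hpow
    · intro j hj h
      apply hs j hj
      have := congrArg (fun x : alternatingGroup (Fin n) => (x : Perm (Fin n))) h
      simpa using this
  have hcardD := card_closure_pair s₁ s₂ e1 e2 hsn
  rw [hordr] at hcardD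
  have hodd : Odd (Subgroup.closure ({s₁, s₂} : Set (alternatingGroup (Fin n)))).index := by
    have h3 := Subgroup.card_mul_index (Subgroup.closure ({s₁, s₂} : Set (alternatingGroup (Fin n))))
    rw [hcardD] at h3
    have : Nontrivial (Fin n) := Fin.nontrivial_iff_two_le.mpr hn2
    have h4 := two_mul_card_alternatingGroup (α := Fin n)
    rw [Fintype.card_perm, Fintype.card_fin, hfac, ← Nat.card_eq_fintype_card, ← h3] at h4
    have h5 : (Subgroup.closure ({s₁, s₂} : Set (alternatingGroup (Fin n)))).index = q := by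
      have hpos : 0 < 2 * (2 * (2 * k)) := by omega
      apply Nat.eq_of_mul_eq_mul_left hpos
      rw [← h4]; ring
    rw [h5]; exact hq
  exact exists_complement π hsurj hker hcard t ht htZ (isConj_invol hn) s₁ s₂ e1 e2
    (fun h => hne1 (congrArg Subtype.val h)) (fun h => hne2 (congrArg Subtype.val h)) k hk hordr
    hsn hodd

/-- A non-split double cover of an alternating group of degree at most seven has a unique
involution. -/
theorem unique_invol {n : ℕ} (hn : n ≤ 7) {H : Type*} [Group H] [Finite H]
    (hH : Cfsg.IsNonsplitDoubleCover H (alternatingGroup (Fin n))) (x y : H)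
    (hx : orderOf x = 2) (hy : orderOf y = 2) : x = y := by
  obtain ⟨hcard, ⟨e⟩, hns⟩ := hH
  let π : H →* alternatingGroup (Fin n) :=
    e.toMonoidHom.comp (QuotientGroup.mk' (Subgroup.center H))
  have hsurj : Function.Surjective π :=
    e.surjective.comp (QuotientGroup.mk'_surjective _)
  have hker : π.ker = Subgroup.center H := by
    ext g
    rw [MonoidHom.mem_ker]
    change e (QuotientGroup.mk' _ g) = 1 ↔ _
    rw [MulEquiv.map_eq_one_iff, QuotientGroup.mk'_apply, QuotientGroup.eq_one_iff]
  have hcen : ∀ t : H, orderOf t = 2 → t ∈ Subgroup.center H := by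
    intro t ht
    by_contra htZ
    have hπt : orderOf (π t) = 2 := by
      apply orderOf_eq_prime
      · rw [← map_pow, ← ht, pow_orderOf_eq_one, map_one]
      · intro h
        apply htZ
        rw [← hker]
        exact MonoidHom.mem_ker.mpr h
    have hdvd : 2 ∣ Nat.card (alternatingGroup (Fin n)) := by
      rw [← hπt]; exact orderOf_dvd_natCard _
    have hn4 : 4 ≤ n := by
      by_contra hlt
      push Not at hlt
      rw [Nat.card_eq_fintype_card] at hdvd
      by_cases hn2 : 2 ≤ n
      · have : Nontrivial (Fin n) := Fin.nontrivial_iff_two_le.mpr hn2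
        have h4 := two_mul_card_alternatingGroup (α := Fin n)
        rw [Fintype.card_perm, Fintype.card_fin] at h4
        have hn23 : n = 2 ∨ n = 3 := by omega
        rcases hn23 with rfl | rfl
        · have : Fintype.card (alternatingGroup (Fin 2)) = 1 := by
            have : (2 : ℕ).factorial = 2 := rfl
            omega
          rw [this] at hdvd
          omega
        · have : Fintype.card (alternatingGroup (Fin 3)) = 3 := by
            have : (3 : ℕ).factorial = 6 := rfl
            omega
          rw [this] at hdvd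
          omega
      · have hsub : Subsingleton (Perm (Fin n)) := by
          have : n = 0 ∨ n = 1 := by omega
          rcases this with rfl | rfl <;> infer_instance
        have : π t = 1 := Subsingleton.elim _ _
        rw [this, orderOf_one] at hπt
        omega
    have hcases : n = 4 ∨ n = 5 ∨ n = 6 ∨ n = 7 := by omega
    rcases hcases with rfl | rfl | rfl | rfl
    · obtain ⟨L, hL⟩ := split_case (by norm_num) (by norm_num) π hsurj hker hcard t ht htZ
        (swap 0 1 * swap 2 3) (swap 0 2 * swap 1 3)
        (mul_mem_alternatingGroup_of_isSwap ⟨0, 1, by decide, rfl⟩ ⟨2, 3, by decide, rfl⟩)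
        (mul_mem_alternatingGroup_of_isSwap ⟨0, 2, by decide, rfl⟩ ⟨1, 3, by decide, rfl⟩)
        (by decide) (by decide) (by decide) (by decide) 1 (by norm_num) (by decide) (by decide)
        (by decide) 3 (by decide) (by decide)
      exact hns L hL
    · obtain ⟨L, hL⟩ := split_case (by norm_num) (by norm_num) π hsurj hker hcard t ht htZ
        (swap 0 1 * swap 2 3) (swap 0 2 * swap 1 3)
        (mul_mem_alternatingGroup_of_isSwap ⟨0, 1, by decide, rfl⟩ ⟨2, 3, by decide, rfl⟩)
        (mul_mem_alternatingGroup_of_isSwap ⟨0, 2, by decide, rfl⟩ ⟨1, 3, by decide, rfl⟩)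
        (by decide) (by decide) (by decide) (by decide) 1 (by norm_num) (by decide) (by decide)
        (by decide) 15 (by decide) (by decide)
      exact hns L hL
    · obtain ⟨L, hL⟩ := split_case (by norm_num) (by norm_num) π hsurj hker hcard t ht htZ
        (swap 1 3 * swap 4 5) (swap 0 1 * swap 2 3)
        (mul_mem_alternatingGroup_of_isSwap ⟨1, 3, by decide, rfl⟩ ⟨4, 5, by decide, rfl⟩)
        (mul_mem_alternatingGroup_of_isSwap ⟨0, 1, by decide, rfl⟩ ⟨2, 3, by decide, rfl⟩)
        (by decide) (by decide) (by decide) (by decide) 2 (by norm_num) (by decide) (by decide)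
        (by decide) 45 (by decide) (by decide)
      exact hns L hL
    · obtain ⟨L, hL⟩ := split_case (by norm_num) (by norm_num) π hsurj hker hcard t ht htZ
        (swap 1 3 * swap 4 5) (swap 0 1 * swap 2 3)
        (mul_mem_alternatingGroup_of_isSwap ⟨1, 3, by decide, rfl⟩ ⟨4, 5, by decide, rfl⟩)
        (mul_mem_alternatingGroup_of_isSwap ⟨0, 1, by decide, rfl⟩ ⟨2, 3, by decide, rfl⟩)
        (by decide) (by decide) (by decide) (by decide) 2 (by norm_num) (by decide) (by decide)
        (by decide) 315 (by decide) (by decide)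
      exact hns L hL
  have hxc := hcen x hx
  have hyc := hcen y hy
  obtain ⟨z, hz1, hzu⟩ := (Nat.card_eq_two_iff' (1 : Subgroup.center H)).mp hcard
  have hx1 : (⟨x, hxc⟩ : Subgroup.center H) ≠ 1 := by
    intro h
    have := congrArg Subtype.val h
    simp only [Subgroup.coe_one] at this
    rw [this, orderOf_one] at hx
    omega
  have hy1 : (⟨y, hyc⟩ : Subgroup.center H) ≠ 1 := by
    intro h
    have := congrArg Subtype.val h
    simp only [Subgroup.coe_one] at this
    rw [this, orderOf_one] at hy
    omega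
  have := (hzu _ hx1).trans (hzu _ hy1).symm
  exact congrArg Subtype.val this

end Cfsg.Agent.Helper3.InvCover
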