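import Mathlib
import Cfsg.Prelude.Def_FusionSystem
import Cfsg.Agent.Lead.SimpleCritD
import Cfsg.Agent.Helper4.PCore
import Cfsg.Agent.Helper4.J3FusAbs
import Cfsg.Agent.Helper5.PGroupCenter
import Cfsg.Agent.Helper9.J2C.Abs
import Cfsg.Agent.Helper9.J3Z.Sylow

set_option autoImplicit false

/-!
The simplicity criterion for the 2-fusion system of a group in which the centralizer of an
involution `t` is a split extension of an extraspecial group `Q` of order 32 by the alternating group
of degree five acting non-trivially on `Q` modulo its centre, with Sylow 2-subgroups of order `2 ^ 7`,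
`Q` generated by its involutions, all of them conjugate to `t`, and every coset of `Q` by an
involution of the complement containing a conjugate of an element of `Q`.  (Two classes of
involutions are allowed: this is the case of the Hall–Janko group.)  The proofs follow those of
`Helper4.J3Fus` for one class of involutions.
-/

namespace Cfsg.Agent.Helper3.J2Fus

open Cfsg Cfsg.Agent.Lead Cfsg.Agent.Lead.SimpCrit Cfsg.Agent.Helper9.J2C
open Cfsg.Agent.Helper9.J3Z

variable {X : Type*} [Group X] {t : X} {Q H : Subgroup X}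

/-- the further properties: the normal subgroup is generated by its elements of trivial square,
some element of the complement acts non-trivially modulo the centre, the involutions of the normal
subgroup are conjugate to the central involution, and each coset of the normal subgroup by an
involution of the complement contains a conjugate of an element of the normal subgroup. -/
structure FData (t : X) (Q H : Subgroup X) : Prop where
  gen : Q ≤ Subgroup.closure {x : X | x ∈ Q ∧ x * x = 1}
  act : ∃ h ∈ H, ∃ q ∈ Q, h * q * h⁻¹ ≠ q ∧ h * q * h⁻¹ ≠ t * q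
  fus1 : ∀ x ∈ Q, x * x = 1 → x ≠ 1 → ∃ g : X, x = g * t * g⁻¹
  fus2 : ∀ h ∈ H, h * h = 1 → ∃ q ∈ Q, ∃ q' ∈ Q, ∃ g : X, g * q * g⁻¹ = q' * h

theorem FData.map {X' : Type*} [Group X'] (φ : X ≃* X') (h : FData t Q H) :
    FData (φ t) (Q.map φ.toMonoidHom) (H.map φ.toMonoidHom) where
  gen := by
    have h1 : Q.map φ.toMonoidHom ≤
        (Subgroup.closure {x : X | x ∈ Q ∧ x * x = 1}).map φ.toMonoidHom :=
      Subgroup.map_mono h.gen
    refine h1.trans ?_
    rw [MonoidHom.map_closure]
    apply Subgroup.closure_mono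
    rintro _ ⟨x, ⟨hx, hxx⟩, rfl⟩
    refine ⟨⟨x, hx, rfl⟩, ?_⟩
    change φ x * φ x = 1
    rw [← map_mul, hxx, map_one]
  act := by
    obtain ⟨k, hk, q, hq, h1, h2⟩ := h.act
    refine ⟨φ k, ⟨k, hk, rfl⟩, φ q, ⟨q, hq, rfl⟩, ?_, ?_⟩
    · intro e
      apply h1
      apply φ.injective
      rw [map_mul, map_mul, map_inv]
      exact e
    · intro e
      apply h2
      apply φ.injective
      rw [map_mul, map_mul, map_inv, map_mul]
      exact e
  fus1 := by
    rintro _ ⟨x, hx, rfl⟩ hxx hx1
    have hxx' : x * x = 1 := by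
      apply φ.injective
      rw [map_mul, map_one]
      exact hxx
    have hx1' : x ≠ 1 := by
      intro e
      apply hx1
      change φ x = 1
      rw [e, map_one]
    obtain ⟨g, hg⟩ := h.fus1 x hx hxx' hx1'
    refine ⟨φ g, ?_⟩
    change φ x = φ g * φ t * (φ g)⁻¹
    rw [hg, map_mul, map_mul, map_inv]
  fus2 := by
    rintro _ ⟨k, hk, rfl⟩ hkk
    have hkk' : k * k = 1 := by
      apply φ.injective
      rw [map_mul, map_one]
      exact hkk
    obtain ⟨q, hq, q', hq', g, e⟩ := h.fus2 k hk hkk'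
    refine ⟨φ q, ⟨q, hq, rfl⟩, φ q', ⟨q', hq', rfl⟩, φ g, ?_⟩
    change φ g * φ q * (φ g)⁻¹ = φ q' * φ k
    rw [← map_inv, ← map_mul, ← map_mul, ← map_mul, e]

namespace CD

section
variable (hz : CData t Q H)
include hz

theorem Q_le_C : Q ≤ Subgroup.centralizer ({t} : Set X) := fun q hq =>
  Subgroup.mem_centralizer_singleton_iff.mpr (hz.hQC q hq)

theorem H_le_C : H ≤ Subgroup.centralizer ({t} : Set X) := fun q hq =>
  Subgroup.mem_centralizer_singleton_iff.mpr (hz.hHC q hq)

theorem tsq : t * t = 1 := by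
  rcases hz.sq t hz.tQ with h | h
  · exact h
  · exfalso
    apply hz.t1
    have : t * t = t * 1 := by rw [h, mul_one]
    exact mul_left_cancel this

theorem exists_mul [Finite X] (y : X) (hy : y ∈ Subgroup.centralizer ({t} : Set X)) :
    ∃ q ∈ Q, ∃ h ∈ H, y = q * h :=
  exists_mul_of_card _ Q H (Q_le_C hz) (H_le_C hz) hz.disj
    (by rw [hz.cardQ, hz.cardH]; exact hz.cardC) y hy

theorem card_C [Finite X] : Nat.card (Subgroup.centralizer ({t} : Set X)) = 1920 := by
  apply le_antisymm hz.cardC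
  have h1 : Nat.card Q * Nat.card H = 1920 := by rw [hz.cardQ, hz.cardH]
  rw [← h1, ← Nat.card_prod]
  let C := Subgroup.centralizer ({t} : Set X)
  let f : ↥Q × ↥H → ↥C := fun p =>
    ⟨(p.1 : X) * (p.2 : X), C.mul_mem (Q_le_C hz p.1.2) (H_le_C hz p.2.2)⟩
  have hf : Function.Injective f := by
    rintro ⟨a, b⟩ ⟨c, d⟩ hab
    have h1 : (a : X) * b = c * d := congrArg Subtype.val hab
    have h2 : (c : X)⁻¹ * a = d * (b : X)⁻¹ := by
      rw [inv_mul_eq_iff_eq_mul, ← mul_assoc, ← h1, mul_inv_cancel_right]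
    have h3 : (c : X)⁻¹ * a = 1 :=
      hz.disj _ (Q.mul_mem (Q.inv_mem c.2) a.2) (h2 ▸ H.mul_mem d.2 (H.inv_mem b.2))
    have h4 : (d : X) * (b : X)⁻¹ = 1 := by rw [← h2, h3]
    apply Prod.ext
    · exact Subtype.ext (inv_mul_eq_one.mp h3).symm
    · exact Subtype.ext (mul_inv_eq_one.mp h4).symm
  exact Nat.card_le_card_of_injective f hf

/-- the elements of the complement acting trivially on the normal subgroup modulo its centre. -/
def ker : Subgroup ↥H where
  carrier := {a | ∀ q ∈ Q, (a : X) * q * (a : X)⁻¹ = q ∨ (a : X) * q * (a : X)⁻¹ = t * q}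
  one_mem' := by
    intro q _
    left
    simp
  mul_mem' := by
    intro a b ha hb q hq
    have e : ((a * b : ↥H) : X) * q * ((a * b : ↥H) : X)⁻¹ =
        (a : X) * ((b : X) * q * (b : X)⁻¹) * (a : X)⁻¹ := by
      rw [Subgroup.coe_mul]; group
    rw [e]
    rcases hb q hq with h1 | h1
    · rw [h1]
      exact ha q hq
    · rw [h1]
      have e2 : (a : X) * (t * q) * (a : X)⁻¹ = t * ((a : X) * q * (a : X)⁻¹) := by
        rw [← mul_assoc, hz.hHC a a.2]; group
      rw [e2]
      rcases ha q hq with h2 | h2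
      · right; rw [h2]
      · left; rw [h2, ← mul_assoc, tsq hz, one_mul]
  inv_mem' := by
    intro a ha q hq
    have hq' : (a : X)⁻¹ * q * (a : X) ∈ Q := by
      have := hz.norm _ (H.inv_mem a.2) q hq
      rwa [inv_inv] at this
    have e : ((a⁻¹ : ↥H) : X) * q * ((a⁻¹ : ↥H) : X)⁻¹ = (a : X)⁻¹ * q * (a : X) := by
      rw [Subgroup.coe_inv, inv_inv]
    rw [e]
    have e2 : (a : X) * ((a : X)⁻¹ * q * (a : X)) * (a : X)⁻¹ = q := by group
    generalize (a : X)⁻¹ * q * (a : X) = q' at hq' e2 ⊢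
    rcases ha _ hq' with h1 | h1
    · left
      rw [← e2, h1]
    · right
      rw [← e2, h1, ← mul_assoc, tsq hz, one_mul]

theorem ker_normal : (ker hz).Normal := by
  constructor
  intro a ha g q hq
  have hq' : (g : X)⁻¹ * q * (g : X) ∈ Q := by
    have := hz.norm _ (H.inv_mem g.2) q hq
    rwa [inv_inv] at this
  have e : ((g * a * g⁻¹ : ↥H) : X) * q * ((g * a * g⁻¹ : ↥H) : X)⁻¹ =
      (g : X) * ((a : X) * ((g : X)⁻¹ * q * (g : X)) * (a : X)⁻¹) * (g : X)⁻¹ := by
    rw [Subgroup.coe_mul, Subgroup.coe_mul, Subgroup.coe_inv]; group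
  rw [e]
  rcases ha _ hq' with h1 | h1
  · left
    rw [h1]; group
  · right
    rw [h1]
    have : (g : X) * (t * ((g : X)⁻¹ * q * (g : X))) * (g : X)⁻¹ =
        ((g : X) * t) * (g : X)⁻¹ * q := by group
    rw [this, hz.hHC g g.2]; group

theorem ker_eq_bot (he : FData t Q H) : ker hz = ⊥ := by
  obtain ⟨eH⟩ := hz.isoH
  have hs : IsSimpleGroup ↥H := by
    have : IsSimpleGroup ↥(alternatingGroup (Fin 5)) := alternatingGroup.isSimpleGroup (by simp)
    exact eH.isSimpleGroup
  have := ker_normal hz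
  rcases hs.eq_bot_or_eq_top_of_normal (ker hz) this with h1 | h1
  · exact h1
  · exfalso
    obtain ⟨k, hk, q, hq, h2, h3⟩ := he.act
    have : (⟨k, hk⟩ : ↥H) ∈ ker hz := by rw [h1]; exact Subgroup.mem_top _
    rcases this q hq with h4 | h4
    · exact h2 h4
    · exact h3 h4

/-- an element of the centralizer of the involution commuting with every element of the normal
subgroup lies in it. -/
theorem mem_Q_of_comm [Finite X] (he : FData t Q H) (x : X)
    (hx : x ∈ Subgroup.centralizer ({t} : Set X)) (hc : ∀ q ∈ Q, x * q = q * x) : x ∈ Q := by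
  obtain ⟨q₀, hq₀, h₀, hh₀, rfl⟩ := exists_mul hz x hx
  have hk : (⟨h₀, hh₀⟩ : ↥H) ∈ ker hz := by
    intro q hq
    change h₀ * q * h₀⁻¹ = q ∨ h₀ * q * h₀⁻¹ = t * q
    have e : h₀ * q * h₀⁻¹ = q₀⁻¹ * q * q₀ := by
      have := hc q hq
      have e1 : h₀ * q = q₀⁻¹ * q * q₀ * h₀ := by
        calc h₀ * q = q₀⁻¹ * (q₀ * h₀ * q) := by group
          _ = q₀⁻¹ * (q * (q₀ * h₀)) := by rw [this]
          _ = q₀⁻¹ * q * q₀ * h₀ := by group
      rw [e1]; group
    rw [e]
    have := hz.comm q₀⁻¹ (Q.inv_mem hq₀) q hq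
    rw [inv_inv] at this
    rcases this with h1 | h1
    · left
      have : q₀⁻¹ * q * q₀ = (q₀⁻¹ * q * q₀ * q⁻¹) * q := by group
      rw [this, h1, one_mul]
    · right
      have : q₀⁻¹ * q * q₀ = (q₀⁻¹ * q * q₀ * q⁻¹) * q := by group
      rw [this, h1]
  rw [ker_eq_bot hz he, Subgroup.mem_bot] at hk
  have : h₀ = 1 := congrArg Subtype.val hk
  rw [this, mul_one]
  exact hq₀

theorem Q_isPGroup : IsPGroup 2 ↥Q := by
  apply IsPGroup.of_card (n := 5)
  rw [hz.cardQ]; norm_num

theorem Q_normal_in_C [Finite X] :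
    (Q.subgroupOf (Subgroup.centralizer ({t} : Set X))).Normal := by
  constructor
  intro x hx g
  rw [Subgroup.mem_subgroupOf] at hx ⊢
  obtain ⟨q, hq, h, hh, e⟩ := exists_mul hz g.1 g.2
  have e1 : ((g * x * g⁻¹ : ↥(Subgroup.centralizer ({t} : Set X))) : X) =
      q * (h * (x : X) * h⁻¹) * q⁻¹ := by
    rw [Subgroup.coe_mul, Subgroup.coe_mul, Subgroup.coe_inv, e]; group
  rw [e1]
  exact Q.mul_mem (Q.mul_mem hq (hz.norm h hh _ hx)) (Q.inv_mem hq)

/-- the subgroup generated by the involutions of the complement is the complement. -/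
theorem H_le_closure_invol [Finite X] :
    H ≤ Subgroup.closure {g : X | g ∈ H ∧ orderOf g = 2} := by
  obtain ⟨eH⟩ := hz.isoH
  have hs : IsSimpleGroup ↥H := by
    have : IsSimpleGroup ↥(alternatingGroup (Fin 5)) := alternatingGroup.isSimpleGroup (by simp)
    exact eH.isSimpleGroup
  have : Fact (Nat.Prime 2) := ⟨Nat.prime_two⟩
  have h2 : 2 ∣ Nat.card ↥H := by rw [hz.cardH]; norm_num
  obtain ⟨y, hy⟩ := exists_prime_orderOf_dvd_card' 2 h2
  let N : Subgroup ↥H := Subgroup.normalClosure {x : ↥H | orderOf x = 2}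
  have hN : N.Normal := Subgroup.normalClosure_normal
  have hyN : y ∈ N := Subgroup.subset_normalClosure hy
  have hNtop : N = ⊤ := by
    rcases hs.eq_bot_or_eq_top_of_normal N hN with h1 | h1
    · exfalso
      rw [h1, Subgroup.mem_bot] at hyN
      rw [hyN, orderOf_one] at hy
      norm_num at hy
    · exact h1
  intro h hh
  have hmem : (⟨h, hh⟩ : ↥H) ∈ N := by rw [hNtop]; exact Subgroup.mem_top _
  have key : ∀ x : ↥H, x ∈ N → (x : X) ∈ Subgroup.closure {g : X | g ∈ H ∧ orderOf g = 2} := by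
    intro x hx
    induction hx using Subgroup.closure_induction with
    | mem x hx =>
      apply Subgroup.subset_closure
      refine ⟨x.2, ?_⟩
      obtain ⟨a, ha, hax⟩ := Group.mem_conjugatesOfSet_iff.mp hx
      have ha' : orderOf a = 2 := ha
      rw [Subgroup.orderOf_coe, ← ha']
      obtain ⟨c, hc⟩ := isConj_iff.mp hax
      rw [← hc, ← MulAut.conj_apply]
      exact MulEquiv.orderOf_eq (MulAut.conj c) a
    | one => exact Subgroup.one_mem _
    | mul x y _ _ hx hy => exact Subgroup.mul_mem _ hx hy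
    | inv x _ hx => exact Subgroup.inv_mem _ hx
  exact key _ hmem

/-- the centralizer of the involution is generated by elements of order a power of two normalizing
the normal subgroup. -/
theorem C_le_closure [Finite X] : Subgroup.centralizer ({t} : Set X) ≤
    Subgroup.closure {g : X | g ∈ Subgroup.normalizer (Q : Set X) ∧ ∃ k : ℕ, orderOf g = 2 ^ k} := by
  have : Fact (Nat.Prime 2) := ⟨Nat.prime_two⟩
  have hHN : H ≤ Subgroup.normalizer (Q : Set X) := by
    intro h hh
    rw [Subgroup.mem_normalizer_iff]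
    intro q
    constructor
    · exact hz.norm h hh q
    · intro hq
      have := hz.norm _ (H.inv_mem hh) _ hq
      rw [inv_inv] at this
      have e : h⁻¹ * (h * q * h⁻¹) * h = q := by group
      rwa [e] at this
  intro y hy
  obtain ⟨q, hq, h, hh, rfl⟩ := exists_mul hz y hy
  apply Subgroup.mul_mem
  · apply Subgroup.subset_closure
    refine ⟨Subgroup.le_normalizer hq, ?_⟩
    obtain ⟨k, hk⟩ := (IsPGroup.iff_orderOf.mp (Q_isPGroup hz)) ⟨q, hq⟩
    rw [Subgroup.orderOf_mk] at hk
    exact ⟨k, hk⟩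
  · refine (Subgroup.closure_mono ?_) (H_le_closure_invol hz hh)
    rintro g ⟨hgH, hg2⟩
    exact ⟨hHN hgH, 1, by rw [hg2, pow_one]⟩

end

/-- the criterion. -/
theorem exists_crit [Finite X] (hz : CData t Q H) (he : FData t Q H)
    (hc : (Nat.card X).factorization 2 = 7) :
    ∃ S₀ : Sylow 2 X, Crit 2 (S₀ : Subgroup X) := by
  have : Fact (Nat.Prime 2) := ⟨Nat.prime_two⟩
  set C : Subgroup X := Subgroup.centralizer ({t} : Set X) with hC
  have hQC : Q ≤ C := Q_le_C hz
  have hHC : H ≤ C := H_le_C hz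
  obtain ⟨P⟩ : Nonempty (Sylow 2 ↥C) := inferInstance
  let P' : Subgroup X := (P : Subgroup ↥C).map C.subtype
  have hfacC : (Nat.card ↥C).factorization 2 = 7 := by
    rw [card_C hz]
    have hp : Nat.Prime 2 := Nat.prime_two
    have h1 : 7 ≤ (1920 : ℕ).factorization 2 :=
      (hp.pow_dvd_iff_le_factorization (by norm_num)).mp (by norm_num)
    have h2 : ¬ 8 ≤ (1920 : ℕ).factorization 2 := fun h =>
      absurd ((hp.pow_dvd_iff_le_factorization (by norm_num)).mpr h) (by norm_num)
    omega
  have hP' : Nat.card P' = 2 ^ (Nat.card X).factorization 2 := by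
    rw [Subgroup.card_map_of_injective C.subtype_injective, hc, ← hfacC]
    exact P.card_eq_multiplicity
  let S₀ : Sylow 2 X := Sylow.ofCard P' hP'
  have hS₀ : (S₀ : Subgroup X) = P' := rfl
  have hP'C : P' ≤ C := by
    rintro _ ⟨y, -, rfl⟩
    exact y.2
  have hQP : Q ≤ P' := by
    have := Q_normal_in_C hz
    have h1 := Cfsg.Agent.Helper4.normal_pgroup_le_sylow (Q.subgroupOf C)
      ((Q_isPGroup hz).comap_subtype) P
    intro q hq
    exact ⟨⟨q, hQC hq⟩, h1 (Subgroup.mem_subgroupOf.mpr hq), rfl⟩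
  have hP'2 : IsPGroup 2 ↥P' := S₀.isPGroup'
  -- the centre of the Sylow subgroup
  have hcenter : ∀ z ∈ P', (∀ s ∈ P', s * z = z * s) → z = 1 ∨ z = t := by
    intro z hz' hzc
    have h1 : z ∈ Q := mem_Q_of_comm hz he z (hP'C hz') (fun q hq => (hzc q (hQP hq)).symm)
    exact hz.center z h1 (fun y hy => (hzc y (hQP hy)).symm)
  -- the elements of the Sylow subgroup
  have hdecomp : ∀ s ∈ P', ∃ q ∈ Q, ∃ h ∈ H, h ∈ P' ∧ h * h = 1 ∧ s = q * h := by
    intro s hs
    obtain ⟨q, hq, h, hh, e⟩ := exists_mul hz s (hP'C hs)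
    have hhP : h ∈ P' := by
      have : h = q⁻¹ * s := by rw [e]; group
      rw [this]
      exact P'.mul_mem (P'.inv_mem (hQP hq)) hs
    obtain ⟨k, hk⟩ := (IsPGroup.iff_orderOf.mp hP'2) ⟨h, hhP⟩
    rw [Subgroup.orderOf_mk] at hk
    obtain ⟨eH⟩ := hz.isoH
    have h1 : (⟨h, hh⟩ : ↥H) * ⟨h, hh⟩ = 1 := by
      apply Cfsg.Agent.Helper4.J3Fus.sq_eq_one_of_iso_a5 eH _ k
      apply Subtype.ext
      rw [Subgroup.coe_pow, Subgroup.coe_one]
      change h ^ 2 ^ k = 1
      rw [← hk]
      exact pow_orderOf_eq_one h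
    exact ⟨q, hq, h, hh, hhP, congrArg Subtype.val h1, e⟩
  refine ⟨S₀, ?_, ?_⟩
  · -- strongly closed subgroups
    rw [hS₀]
    intro T hTS hT
    by_cases hbot : T = ⊥
    · exact Or.inl hbot
    right
    have hTn : (T.subgroupOf P').Normal := by
      constructor
      intro x hx u
      rw [Subgroup.mem_subgroupOf] at hx ⊢
      have h1 : ((u * x * u⁻¹ : P') : X) = (u : X) * (x : X) * (u : X)⁻¹ := rfl
      rw [h1]
      apply hT _ hx
      exact P'.mul_mem (P'.mul_mem u.2 x.2) (P'.inv_mem u.2)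
    have hT1 : T.subgroupOf P' ≠ ⊥ := by
      intro h
      apply hbot
      rw [Subgroup.subgroupOf_eq_bot] at h
      rw [eq_bot_iff]
      intro x hx
      have : x ∈ T ⊓ P' := ⟨hx, hTS hx⟩
      rw [disjoint_iff.mp h] at this
      exact this
    obtain ⟨z, hzT, hz1, hzc⟩ :=
      Cfsg.Agent.Helper5.exists_ne_one_mem_center_of_normal hP'2 (T.subgroupOf P') hT1
    have hzT' : (z : X) ∈ T := Subgroup.mem_subgroupOf.mp hzT
    have hzt : (z : X) = t := by
      rcases hcenter z z.2 (fun s hs => congrArg Subtype.val (hzc ⟨s, hs⟩)) with h | h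
      · exfalso
        apply hz1
        exact Subtype.ext h
      · exact h
    have htT : t ∈ T := by rw [← hzt]; exact hzT'
    -- the involutions of the normal subgroup lie in `T`
    have hinvQ : ∀ x ∈ Q, x * x = 1 → x ∈ T := by
      intro x hx hxx
      by_cases hx1 : x = 1
      · rw [hx1]; exact T.one_mem
      obtain ⟨g, hg⟩ := he.fus1 x hx hxx hx1
      rw [hg]
      apply hT t htT g
      rw [← hg]
      exact hQP hx
    have hQT : Q ≤ T := by
      refine he.gen.trans ?_
      rw [Subgroup.closure_le]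
      rintro x ⟨hxQ, hxx⟩
      exact hinvQ x hxQ hxx
    -- the involutions of the complement in the Sylow subgroup lie in `T`
    have hHT : ∀ h ∈ H, h ∈ P' → h * h = 1 → h ∈ T := by
      intro h hh hhP hhh
      obtain ⟨q, hq, q', hq', g, e⟩ := he.fus2 h hh hhh
      have h1 : g * q * g⁻¹ ∈ T := by
        apply hT q (hQT hq) g
        rw [e]
        exact P'.mul_mem (hQP hq') hhP
      rw [e] at h1
      have : h = q'⁻¹ * (q' * h) := by group
      rw [this]
      exact T.mul_mem (T.inv_mem (hQT hq')) h1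
    apply le_antisymm hTS
    intro s hs
    obtain ⟨q, hq, h, hh, hhP, hhh, rfl⟩ := hdecomp s hs
    exact T.mul_mem (hQT hq) (hHT h hh hhP hhh)
  · -- the normalizer
    rw [hS₀]
    intro m hm
    apply Subgroup.subset_closure
    refine ⟨hm, Q, hQP, ?_, ?_, ?_⟩
    · intro s hs
      rw [Subgroup.mem_normalizer_iff]
      intro q
      have hn := Q_normal_in_C hz
      constructor
      · intro hq
        have := hn.conj_mem ⟨q, hQC hq⟩ (Subgroup.mem_subgroupOf.mpr hq) ⟨s, hP'C hs⟩
        exact Subgroup.mem_subgroupOf.mp this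
      · intro hq
        have := hn.conj_mem ⟨s * q * s⁻¹, hQC hq⟩ (Subgroup.mem_subgroupOf.mpr hq)
          ⟨s⁻¹, C.inv_mem (hP'C hs)⟩
        have h2 := Subgroup.mem_subgroupOf.mp this
        have e : ((⟨s⁻¹, C.inv_mem (hP'C hs)⟩ * ⟨s * q * s⁻¹, hQC hq⟩ *
            (⟨s⁻¹, C.inv_mem (hP'C hs)⟩ : ↥C)⁻¹ : ↥C) : X) = q := by
          rw [Subgroup.coe_mul, Subgroup.coe_mul, Subgroup.coe_inv]
          change s⁻¹ * (s * q * s⁻¹) * s⁻¹⁻¹ = q
          group
        rwa [e] at h2
    · rintro x ⟨hxS, hxC⟩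
      apply mem_Q_of_comm hz he x (hP'C hxS)
      intro q hq
      exact ((Subgroup.mem_centralizer_iff.mp hxC) q hq).symm
    · -- `m` centralizes the involution
      have hmC : m ∈ C := by
        rw [Subgroup.mem_normalizer_iff] at hm
        have htP : t ∈ P' := hQP hz.tQ
        have h1 : m * t * m⁻¹ ∈ P' := (hm t).mp htP
        have h2 : ∀ s ∈ P', s * (m * t * m⁻¹) = (m * t * m⁻¹) * s := by
          intro s hs
          have h3 : m⁻¹ * s * m ∈ P' := by
            have := (hm (m⁻¹ * s * m)).mpr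
            apply this
            have e : m * (m⁻¹ * s * m) * m⁻¹ = s := by group
            rw [e]; exact hs
          have h4 := Subgroup.mem_centralizer_singleton_iff.mp (hP'C h3)
          calc s * (m * t * m⁻¹) = m * ((m⁻¹ * s * m) * t) * m⁻¹ := by group
            _ = m * (t * (m⁻¹ * s * m)) * m⁻¹ := by rw [h4]
            _ = (m * t * m⁻¹) * s := by group
        rcases hcenter _ h1 h2 with h5 | h5
        · exfalso
          apply hz.t1
          have : t = m⁻¹ * (m * t * m⁻¹) * m := by group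
          rw [this, h5]; group
        · rw [hC, Subgroup.mem_centralizer_singleton_iff]
          have : m * t = (m * t * m⁻¹) * m := by group
          rw [this, h5]
      exact C_le_closure hz hmC

end CD

end Cfsg.Agent.Helper3.J2Fus
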