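import Mathlib
import Cfsg.Agent.Helper9.J2C.Main
import Cfsg.Agent.Helper3.J2FusAbs

set_option autoImplicit false

/-!
The further data on the centralizer of an involution in the Hall–Janko group on 315 points: the normal
subgroup of order 32 is generated by its involutions, which are conjugate to the central one, and
the cosets of the involutions of the complement contain conjugates of an element of order four of
the normal subgroup.
-/

noncomputable section

namespace Cfsg.Agent.Helper3.J2Fus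

open Cfsg Cfsg.Agent.Helper9.OutG Cfsg.Agent.Helper9.J3 Cfsg.Agent.Helper9.J2O
  Cfsg.Agent.Helper9.J2C

/-- the first factors of the elements of the normal subgroup as products of two involutions. -/
def gaL : List ℕ := [0, 0, 15, 14, 16, 16, 14, 15, 15, 15, 14, 14, 14, 14, 0, 0, 0, 25, 25, 15, 16, 16, 14, 15, 14, 0, 0, 0, 0, 0, 0, 0]

/-- the second factors. -/
def gbL : List ℕ := [0, 1, 28, 28, 28, 25, 31, 31, 25, 16, 29, 25, 15, 16, 14, 15, 16, 27, 26, 26, 26, 27, 26, 27, 27, 25, 26, 27, 28, 29, 30, 31]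

/-- the words conjugating the central involution to the involutions of the normal subgroup. -/
def fw1 : List (List ℕ) := [[], [], [], [], [], [], [], [], [], [], [], [], [], [], [51, 2], [6, 4], [11, 19], [], [], [], [], [], [], [], [], [7], [14, 11], [43, 7], [43, 6], [14, 1], [2], [48]]

/-- the numbers of the elements of the normal subgroup that are conjugated into the cosets of the
involutions of the complement. -/
def fqL : List ℕ := [0, 0, 0, 0, 0, 0, 0, 0, 0, 0, 0, 0, 0, 0, 0, 0, 0, 0, 0, 0, 0, 0, 0, 0, 2, 0, 2, 0, 0, 0, 0, 2, 0, 0, 0, 0, 0, 0, 0, 0, 0, 2, 0, 0, 2, 0, 2, 0, 0, 2, 2, 2, 2, 0, 2, 2, 2, 2, 2, 0]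

/-- the numbers of the elements of the normal subgroup in the cosets. -/
def fbL : List ℕ := [0, 0, 0, 0, 0, 0, 0, 0, 0, 0, 0, 0, 0, 0, 0, 0, 0, 0, 0, 0, 0, 0, 0, 0, 17, 0, 11, 0, 0, 0, 0, 2, 0, 0, 0, 0, 0, 0, 0, 0, 0, 19, 0, 0, 2, 0, 17, 0, 0, 3, 2, 21, 4, 0, 6, 21, 12, 3, 13, 0]

/-- the conjugating words. -/
def fw2 : List (List ℕ) := [[], [], [], [], [], [], [], [], [], [], [], [], [], [], [], [], [], [], [], [], [], [], [], [], [48], [], [20, 10], [], [], [], [], [42, 33], [], [], [], [], [], [], [], [], [], [41, 49], [], [], [14, 11], [], [2], [], [], [10, 49], [42, 17], [17, 46], [6, 4], [], [34, 43], [10, 15], [21, 44], [39, 1], [18, 17], []]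

set_option maxRecDepth 1000000 in
theorem gen_b : allB (fun i => andB (ltB (nthN gaL i) 32) (andB (ltB (nthN gbL i) 32)
    (andB (Nat.beq (SQ.m (nthN gaL i) (nthN gaL i)) 0)
      (andB (Nat.beq (SQ.m (nthN gbL i) (nthN gbL i)) 0)
        (Nat.beq (SQ.m (nthN gaL i) (nthN gbL i)) i))))) 32 = true := by decide +kernel

/-- the function of a conjugate of the central involution. -/
def f1F (i x : ℕ) : ℕ := evalT dD (nthW fw1 i) (T dD 0 (evalI dD (nthW fw1 i) x))

set_option maxRecDepth 1000000 in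
theorem fus1_b : allB (fun i => Cfsg.Agent.Helper9.OutG.orB (notB (Nat.beq (SQ.m i i) 0)) (Cfsg.Agent.Helper9.OutG.orB (Nat.beq i 0)
    (agreeL dC.bs (wF dD SQ i) (f1F i)))) 32 = true := by decide +kernel

/-- the function of a conjugate of an element of the normal subgroup. -/
def f2F (j x : ℕ) : ℕ :=
  evalT dD (nthW fw2 j) (wF dD SQ (nthN fqL j) (evalI dD (nthW fw2 j) x))

set_option maxRecDepth 1000000 in
theorem fus2_b : allB (fun j => Cfsg.Agent.Helper9.OutG.orB (notB (Nat.beq (SH.m j j) 0))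
    (andB (ltB (nthN fqL j) 32) (andB (ltB (nthN fbL j) 32)
      (agreeL dC.bs (f2F j) (fun x => wF dD SQ (nthN fbL j) (wF dD SH j x)))))) 60 = true := by
  decide +kernel

theorem act_b : cjF 1 3 ≠ 3 ∧ cjF 1 3 ≠ SQ.m 1 3 ∧ cjF 1 3 < 32 := by decide +kernel

theorem H_elmul {i j : ℕ} (hi : i < 60) (hj : j < 60) :
    wE core SH i * wE core SH j = wE core SH (SH.m i j) := wE_mul core card_GS SH_ok hi hj

theorem Q_idx_sq {i : ℕ} (hi : i < 32) (h : wE core SQ i * wE core SQ i = 1) : SQ.m i i = 0 := by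
  rw [Q_elmul hi hi, ← Q_el_zero] at h
  exact Q_elinj (Q_m_lt hi hi) (by norm_num) h

theorem H_idx_sq {j : ℕ} (hj : j < 60) (h : wE core SH j * wE core SH j = 1) : SH.m j j = 0 := by
  rw [H_elmul hj hj, ← wE_zero core SH_ok] at h
  exact wE_inj core SH_ok (wm_lt SH_ok hj hj) (by decide) h

theorem Q_sq_of_idx {i : ℕ} (hi : i < 32) (h : SQ.m i i = 0) :
    wE core SQ i * wE core SQ i = 1 := by
  rw [Q_elmul hi hi, h, Q_el_zero]

theorem fdata : FData t0 Q0 H0 where
  gen := by
    intro x hx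
    obtain ⟨i, hi, rfl⟩ := mem_Q0 hx
    have hb := allB_true gen_b hi
    obtain ⟨h1, hb⟩ := andB_true hb
    obtain ⟨h2, hb⟩ := andB_true hb
    obtain ⟨h3, hb⟩ := andB_true hb
    obtain ⟨h4, h5⟩ := andB_true hb
    have h1' := ltB_true h1
    have h2' := ltB_true h2
    have h3' := Nat.eq_of_beq_eq_true h3
    have h4' := Nat.eq_of_beq_eq_true h4
    have h5' := Nat.eq_of_beq_eq_true h5
    have e : wE core SQ i = wE core SQ (nthN gaL i) * wE core SQ (nthN gbL i) := by
      rw [Q_elmul h1' h2', h5']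
    rw [e]
    apply Subgroup.mul_mem
    · apply Subgroup.subset_closure
      exact ⟨⟨_, h1', rfl⟩, Q_sq_of_idx h1' h3'⟩
    · apply Subgroup.subset_closure
      exact ⟨⟨_, h2', rfl⟩, Q_sq_of_idx h2' h4'⟩
  act := by
    obtain ⟨a1, a2, a3⟩ := act_b
    have h13 : (3 : ℕ) < 32 := by norm_num
    have h1 : (1 : ℕ) < 60 := by norm_num
    have hb := andB_true (allB_true (allB_true norm_b h1) h13)
    have e : wE core SH 1 * wE core SQ 3 = wE core SQ (cjF 1 3) * wE core SH 1 :=
      eq_of_agreeL core card_GS (Comp.coe_mul core (comp_wE core SH 1) (comp_wE core SQ 3))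
        (Comp.coe_mul core (comp_wE core SQ (cjF 1 3)) (comp_wE core SH 1)) hb.2
    refine ⟨wE core SH 1, ⟨1, h1, rfl⟩, wE core SQ 3, ⟨3, h13, rfl⟩, ?_, ?_⟩
    · rw [e, mul_inv_cancel_right]
      intro e2
      exact a1 (Q_elinj a3 h13 e2)
    · rw [e, mul_inv_cancel_right, t0_eq, Q_elmul (by norm_num) h13]
      intro e2
      exact a2 (Q_elinj a3 (Q_m_lt (by norm_num) h13) e2)
  fus1 := by
    intro x hx hxx hx1
    obtain ⟨i, hi, rfl⟩ := mem_Q0 hx
    have hsq := Q_idx_sq hi hxx
    have hi0 : i ≠ 0 := by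
      intro e
      apply hx1
      rw [e]
      exact Q_el_zero
    refine ⟨gW core (nthW fw1 i), ?_⟩
    have hc : Comp (gW core (nthW fw1 i) * t0 * (gW core (nthW fw1 i))⁻¹).1 (f1F i) := by
      have h1 : Comp (gW core (nthW fw1 i) * t0).1
          (fun z => evalT dD (nthW fw1 i) (T dD 0 z)) :=
        Comp.coe_mul core (f := evalT dD (nthW fw1 i)) (f' := T dD 0) (comp_gW core _) comp_t0
      exact Comp.coe_mul core (f := fun z => evalT dD (nthW fw1 i) (T dD 0 z))
        (f' := evalI dD (nthW fw1 i)) h1 (comp_gW_inv core _)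
    apply eq_of_agreeL core card_GS (comp_wE core SQ i) hc
    rcases Cfsg.Agent.Helper9.OutG.orB_true (allB_true fus1_b hi) with h1 | h1
    · have h2 := notB_true h1
      rw [hsq] at h2
      exact absurd h2 (by decide)
    · rcases Cfsg.Agent.Helper9.OutG.orB_true h1 with h2 | h2
      · exact absurd (Nat.eq_of_beq_eq_true h2) hi0
      · exact h2
  fus2 := by
    intro h hh hhh
    obtain ⟨j, hj, rfl⟩ := mem_H0 hh
    have hsq := H_idx_sq hj hhh
    rcases Cfsg.Agent.Helper9.OutG.orB_true (allB_true fus2_b hj) with h1 | h1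
    · have h2 := notB_true h1
      rw [hsq] at h2
      exact absurd h2 (by decide)
    · obtain ⟨h2, h1⟩ := andB_true h1
      obtain ⟨h3, h4⟩ := andB_true h1
      refine ⟨wE core SQ (nthN fqL j), ⟨_, ltB_true h2, rfl⟩, wE core SQ (nthN fbL j),
        ⟨_, ltB_true h3, rfl⟩, gW core (nthW fw2 j), ?_⟩
      have hc : Comp (gW core (nthW fw2 j) * wE core SQ (nthN fqL j) *
          (gW core (nthW fw2 j))⁻¹).1 (f2F j) := by
        have h5 : Comp (gW core (nthW fw2 j) * wE core SQ (nthN fqL j)).1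
            (fun z => evalT dD (nthW fw2 j) (wF dD SQ (nthN fqL j) z)) :=
          Comp.coe_mul core (f := evalT dD (nthW fw2 j)) (f' := wF dD SQ (nthN fqL j))
            (comp_gW core _) (comp_wE core SQ _)
        exact Comp.coe_mul core (f := fun z => evalT dD (nthW fw2 j) (wF dD SQ (nthN fqL j) z))
          (f' := evalI dD (nthW fw2 j)) h5 (comp_gW_inv core _)
      exact eq_of_agreeL core card_GS hc
        (Comp.coe_mul core (comp_wE core SQ (nthN fbL j)) (comp_wE core SH j)) h4

theorem card_fact : (Nat.card X).factorization 2 = 7 := by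
  rw [card_GS]
  have h : (604800 : ℕ) = 2 ^ 7 * 4725 := by norm_num
  rw [h, Nat.factorization_mul (by norm_num) (by norm_num), Nat.Prime.factorization_pow Nat.prime_two]
  have h2 : (Nat.factorization 4725) 2 = 0 := by
    apply Nat.factorization_eq_zero_of_not_dvd
    norm_num
  simp [h2]

/-- a Sylow 2-subgroup of the model satisfying the criterion. -/
theorem exists_crit : ∃ S₀ : Sylow 2 X, Cfsg.Agent.Lead.SimpCrit.Crit 2 (↑S₀ : Subgroup X) :=
  CD.exists_crit cdata fdata card_fact

end Cfsg.Agent.Helper3.J2Fus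

end
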