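import Mathlib
import Cfsg.Agent.Helper3.J2FusData
import Cfsg.Agent.Helper3.FusLib

set_option autoImplicit false

/-!
The 2-fusion system of the Hall–Janko group is simple.
-/

namespace Cfsg.Agent.Helper3.J2Fus

open Cfsg Cfsg.Agent.Helper9.J2C Cfsg.Agent.Helper9.J2O Cfsg.Agent.Helper3.FusLib

/-- the 2-fusion system of a group isomorphic to the group of Hall and Janko is simple. -/
theorem fusion_simple {G : Type*} [Group G] [Finite G] (hG : Cfsg.Spor.IsoJ2 G) (S : Sylow 2 G) :
    (Cfsg.groupFusionSystem (S : Subgroup G)).IsSimple 2 := by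
  have : Fact (Nat.Prime 2) := ⟨Nat.prime_two⟩
  obtain ⟨e⟩ := hG
  obtain ⟨S₀, hcrit⟩ := exists_crit
  have hfin : Finite X := Nat.finite_of_card_ne_zero (by rw [card_GS]; norm_num)
  have hne : (S₀ : Subgroup X) ≠ ⊥ := by
    intro h
    have h1 := S₀.card_eq_multiplicity
    rw [h, Subgroup.card_bot, card_fact] at h1
    norm_num at h1
  exact isSimple_of_equiv 2 S₀ hne hcrit (e.trans J2EquivGS).symm S

end Cfsg.Agent.Helper3.J2Fus
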