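import Mathlib
import Cfsg.Prelude.Def_JComponents
import Cfsg.Agent.S2858
import Cfsg.Agent.Helper1.Sims3A
import Cfsg.Agent.Helper1.JLSK
import Cfsg.Agent.Lead.LLemA

/-!
Piece P3b of S2951–S2954 (helper3), part A: the amalgam theorem S2858 applied inside `↥(P₁ ⊔ P₂)` for
two subgroups `P₁ ≠ P₂` of a finite group with a common Sylow 2-subgroup `T` of index three.
-/

set_option autoImplicit false
set_option linter.unusedSectionVars false

namespace Cfsg.Agent.Helper3.J53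

open Cfsg

universe u

variable {G : Type u} [Group G]

section transport

variable (X : Subgroup G)

theorem pCoreOf_subgroupOf_map {P : Subgroup G} (hPX : P ≤ X) :
    (Cfsg.pCoreOf 2 (P.subgroupOf X)).map X.subtype = Cfsg.pCoreOf 2 P := by
  rw [← Cfsg.Agent.Lead.LLem.pCoreOf_map X.subtype X.subtype_injective,
    Subgroup.map_subgroupOf_eq_of_le hPX]

theorem omegaCenterOf_subgroupOf_map {T : Subgroup G} (hTX : T ≤ X) :
    (Cfsg.omegaCenterOf (T.subgroupOf X)).map X.subtype = Cfsg.omegaCenterOf T := by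
  rw [← Cfsg.Agent.Helper1.JLS.omegaCenterOf_map X.subtype X.subtype_injective,
    Subgroup.map_subgroupOf_eq_of_le hTX]

/-- the centralizer clause in `↥X` -/
theorem cent_clause_subgroupOf {P : Subgroup G} (hPX : P ≤ X)
    (hc : Subgroup.centralizer (Cfsg.pCoreOf 2 P : Set G) ≤ Cfsg.pCoreOf 2 P) :
    P.subgroupOf X ⊓ Subgroup.centralizer (Cfsg.pCoreOf 2 (P.subgroupOf X) : Set ↥X) ≤
      Cfsg.pCoreOf 2 (P.subgroupOf X) := by
  intro x hx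
  obtain ⟨-, hxC⟩ := Subgroup.mem_inf.mp hx
  have h1 : (x : G) ∈ Subgroup.centralizer (Cfsg.pCoreOf 2 P : Set G) := by
    rw [Subgroup.mem_centralizer_iff]
    intro y hy
    rw [SetLike.mem_coe, ← pCoreOf_subgroupOf_map X hPX] at hy
    obtain ⟨y', hy', rfl⟩ := hy
    rw [Subgroup.mem_centralizer_iff] at hxC
    have := hxC y' hy'
    have h2 := congrArg (Subtype.val) this
    simpa using h2
  have h2 := hc h1
  rw [← pCoreOf_subgroupOf_map X hPX] at h2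
  obtain ⟨x', hx', hxx'⟩ := h2
  have : x' = x := X.subtype_injective hxx'
  rwa [this] at hx'

/-- the `Ω₁Z(T)` clause in `↥X` -/
theorem omega_clause_subgroupOf {P T : Subgroup G} (hPX : P ≤ X) (hTX : T ≤ X)
    (hΩ : ⁅Cfsg.omegaCenterOf T, P⁆ ≠ ⊥) :
    ¬ P.subgroupOf X ≤ Subgroup.centralizer
      (Cfsg.omegaOne 2 (T.subgroupOf X ⊓ Subgroup.centralizer (T.subgroupOf X : Set ↥X)) : Set ↥X) := by
  intro hle
  apply hΩ
  rw [Subgroup.commutator_eq_bot_iff_le_centralizer]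
  intro z hz
  rw [← omegaCenterOf_subgroupOf_map X hTX] at hz
  obtain ⟨z', hz', rfl⟩ := hz
  rw [Subgroup.mem_centralizer_iff]
  intro p hp
  have hp' : (⟨p, hPX hp⟩ : ↥X) ∈ P.subgroupOf X := by
    rw [Subgroup.mem_subgroupOf]; exact hp
  have h1 := hle hp'
  rw [Subgroup.mem_centralizer_iff] at h1
  have h2 := h1 z' hz'
  have h3 := congrArg (Subtype.val) h2
  simpa using h3.symm

/-- the core clause in `↥X` -/
theorem core_clause_subgroupOf [Finite G] {T : Subgroup G} (hT2 : IsPGroup 2 ↥T)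
    (hO : Cfsg.pCoreOf 2 X = ⊥) (N : Subgroup ↥X) (hN : N.Normal) (hNT : N ≤ T.subgroupOf X) :
    N = ⊥ := by
  have hmapT : N.map X.subtype ≤ T := by
    rintro _ ⟨x, hx, rfl⟩
    have := hNT hx
    rwa [Subgroup.mem_subgroupOf] at this
  have hle : N.map X.subtype ≤ Cfsg.pCoreOf 2 X := by
    apply Cfsg.Agent.Lead.LLem.le_pCoreOf (Subgroup.map_subtype_le N) (hT2.to_le hmapT)
    intro x hx
    rw [Subgroup.mem_normalizer_iff]
    intro y
    constructor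
    · rintro ⟨y', hy', rfl⟩
      exact ⟨⟨x, hx⟩ * y' * ⟨x, hx⟩⁻¹, hN.conj_mem y' hy' ⟨x, hx⟩, by simp⟩
    · rintro ⟨w, hw, hwe⟩
      have h1 := hN.conj_mem w hw ⟨x, hx⟩⁻¹
      refine ⟨⟨x, hx⟩⁻¹ * w * ⟨x, hx⟩⁻¹⁻¹, h1, ?_⟩
      have : (X.subtype w : G) = x * y * x⁻¹ := hwe
      simp only [map_mul, map_inv, Subgroup.subtype_apply] at this ⊢
      rw [this]
      group
  rw [hO, le_bot_iff] at hle
  exact (Subgroup.map_eq_bot_iff_of_injective N X.subtype_injective).mp hle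

end transport

/-- two subgroups with a common subgroup of index three are equal or meet in it -/
theorem inf_eq_of_relIndex_three {T P₁ P₂ : Subgroup G} [Finite G] (hTP₁ : T ≤ P₁) (hTP₂ : T ≤ P₂)
    (h3₁ : T.relIndex P₁ = 3) (h3₂ : T.relIndex P₂ = 3) (hne : P₁ ≠ P₂) : P₁ ⊓ P₂ = T := by
  have hT : T ≤ P₁ ⊓ P₂ := le_inf hTP₁ hTP₂
  have e₁ := Subgroup.relIndex_mul_relIndex T (P₁ ⊓ P₂) P₁ hT inf_le_left
  have e₂ := Subgroup.relIndex_mul_relIndex T (P₁ ⊓ P₂) P₂ hT inf_le_right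
  rw [h3₁] at e₁
  rw [h3₂] at e₂
  have hdvd : T.relIndex (P₁ ⊓ P₂) ∣ 3 := Dvd.intro _ e₁
  rcases (Nat.dvd_prime Nat.prime_three).mp hdvd with h | h
  · exact le_antisymm (Subgroup.relIndex_eq_one.mp h) hT
  · exfalso
    rw [h] at e₁ e₂
    have h₁ : (P₁ ⊓ P₂).relIndex P₁ = 1 := by omega
    have h₂ : (P₁ ⊓ P₂).relIndex P₂ = 1 := by omega
    have l₁ : P₁ ≤ P₁ ⊓ P₂ := Subgroup.relIndex_eq_one.mp h₁
    have l₂ : P₂ ≤ P₁ ⊓ P₂ := Subgroup.relIndex_eq_one.mp h₂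
    exact hne (le_antisymm (l₁.trans inf_le_right) (l₂.trans inf_le_left))

/-- the amalgam theorem S2858 inside `↥(P₁ ⊔ P₂)` -/
theorem pair_iso [Finite G] {T P₁ P₂ : Subgroup G}
    (hT2 : IsPGroup 2 ↥T) (hTP₁ : T ≤ P₁) (hTP₂ : T ≤ P₂)
    (h3₁ : T.relIndex P₁ = 3) (h3₂ : T.relIndex P₂ = 3) (hne : P₁ ≠ P₂)
    (hO : Cfsg.pCoreOf 2 (P₁ ⊔ P₂) = ⊥)
    (hc₁ : Subgroup.centralizer (Cfsg.pCoreOf 2 P₁ : Set G) ≤ Cfsg.pCoreOf 2 P₁)
    (hc₂ : Subgroup.centralizer (Cfsg.pCoreOf 2 P₂ : Set G) ≤ Cfsg.pCoreOf 2 P₂)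
    (hnT₁ : ¬ T ≤ Cfsg.pCoreOf 2 P₁) (hnT₂ : ¬ T ≤ Cfsg.pCoreOf 2 P₂)
    (hΩ₁ : ⁅Cfsg.omegaCenterOf T, P₁⁆ ≠ ⊥) (hΩ₂ : ⁅Cfsg.omegaCenterOf T, P₂⁆ ≠ ⊥) :
    (Nonempty (↥P₁ ≃* Equiv.Perm (Fin 4)) ∧ Nonempty (↥P₂ ≃* Equiv.Perm (Fin 4))) ∨
      (Nonempty (↥P₁ ≃* Multiplicative (ZMod 2) × Equiv.Perm (Fin 4)) ∧
        Nonempty (↥P₂ ≃* Multiplicative (ZMod 2) × Equiv.Perm (Fin 4))) := by
  obtain ⟨X, hX⟩ : ∃ X : Subgroup G, X = P₁ ⊔ P₂ := ⟨_, rfl⟩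
  have hP₁X : P₁ ≤ X := hX ▸ le_sup_left
  have hP₂X : P₂ ≤ X := hX ▸ le_sup_right
  have hTX : T ≤ X := hTP₁.trans hP₁X
  rw [← hX] at hO
  have hinf := inf_eq_of_relIndex_three hTP₁ hTP₂ h3₁ h3₂ hne
  have hT2' : IsPGroup 2 ↥(T.subgroupOf X) := hT2.comap_subtype
  have hTQ₁ : T.subgroupOf X ≤ P₁.subgroupOf X := fun x hx => by
    rw [Subgroup.mem_subgroupOf] at hx ⊢; exact hTP₁ hx
  have hTQ₂ : T.subgroupOf X ≤ P₂.subgroupOf X := fun x hx => by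
    rw [Subgroup.mem_subgroupOf] at hx ⊢; exact hTP₂ hx
  have h3₁' : (T.subgroupOf X).relIndex (P₁.subgroupOf X) = 3 := by
    rw [Subgroup.relIndex_subgroupOf hP₁X]; exact h3₁
  have h3₂' : (T.subgroupOf X).relIndex (P₂.subgroupOf X) = 3 := by
    rw [Subgroup.relIndex_subgroupOf hP₂X]; exact h3₂
  have hgen : P₁.subgroupOf X ⊔ P₂.subgroupOf X = ⊤ := by
    rw [← Subgroup.subgroupOf_sup hP₁X hP₂X, ← hX, Subgroup.subgroupOf_self]
  have hT : T.subgroupOf X = P₁.subgroupOf X ⊓ P₂.subgroupOf X := by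
    ext x
    rw [Subgroup.mem_inf, Subgroup.mem_subgroupOf, Subgroup.mem_subgroupOf, Subgroup.mem_subgroupOf,
      ← hinf, Subgroup.mem_inf]
  have hnot : ∀ {P : Subgroup G}, P ≤ X → ¬ T ≤ Cfsg.pCoreOf 2 P →
      ¬ T.subgroupOf X ≤ Cfsg.pCoreOf 2 (P.subgroupOf X) := by
    intro P hPX hn hle
    apply hn
    rw [← pCoreOf_subgroupOf_map X hPX, ← Subgroup.map_subgroupOf_eq_of_le hTX]
    exact Subgroup.map_mono hle
  have key := Cfsg.Agent.S2858.result (P₁.subgroupOf X) (P₂.subgroupOf X) hgen (T.subgroupOf X) hT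
    (by
      intro P hP
      rcases hP with rfl | hP
      · exact cent_clause_subgroupOf X hP₁X hc₁
      · rw [Set.mem_singleton_iff] at hP
        subst hP
        exact cent_clause_subgroupOf X hP₂X hc₂)
    (by
      intro P hP
      rcases hP with rfl | hP
      · exact ⟨Cfsg.Agent.Helper1.Sims3.sylowOf hT2' h3₁', rfl⟩
      · rw [Set.mem_singleton_iff] at hP
        subst hP
        exact ⟨Cfsg.Agent.Helper1.Sims3.sylowOf hT2' h3₂', rfl⟩)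
    (fun N hN hNT => core_clause_subgroupOf X hT2 hO N hN hNT)
    (by
      intro P hP
      rcases hP with rfl | hP
      · rcases Cfsg.Agent.Helper1.Sims3.dichotomy hTQ₁ hT2' h3₁' with h | h
        · exact absurd h (hnot hP₁X hnT₁)
        · exact h.2
      · rw [Set.mem_singleton_iff] at hP
        subst hP
        rcases Cfsg.Agent.Helper1.Sims3.dichotomy hTQ₂ hT2' h3₂' with h | h
        · exact absurd h (hnot hP₂X hnT₂)
        · exact h.2)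
    (by
      intro P hP
      rcases hP with rfl | hP
      · exact omega_clause_subgroupOf X hP₁X hTX hΩ₁
      · rw [Set.mem_singleton_iff] at hP
        subst hP
        exact omega_clause_subgroupOf X hP₂X hTX hΩ₂)
  have e₁ : ↥(P₁.subgroupOf X) ≃* ↥P₁ := Subgroup.subgroupOfEquivOfLe hP₁X
  have e₂ : ↥(P₂.subgroupOf X) ≃* ↥P₂ := Subgroup.subgroupOfEquivOfLe hP₂X
  rcases key with ⟨⟨f₁⟩, ⟨f₂⟩⟩ | ⟨⟨f₁⟩, ⟨f₂⟩⟩
  · exact Or.inl ⟨⟨e₁.symm.trans f₁⟩, ⟨e₂.symm.trans f₂⟩⟩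
  · exact Or.inr ⟨⟨e₁.symm.trans f₁⟩, ⟨e₂.symm.trans f₂⟩⟩

end Cfsg.Agent.Helper3.J53
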