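import Mathlib
import Cfsg.Prelude.Def_JComponents
import Cfsg.Agent.Helper3.J53A
import Cfsg.Agent.Helper1.J52B

/-!
Piece P3b of S2951–S2954 (helper3), part B: facts read off from the isomorphism types `S₄`, `C₂ × S₄`,
and `O₂(⟨P₁, P₂⟩) = 1` for a pair of configurations.
-/

set_option autoImplicit false
set_option linter.unusedSectionVars false

namespace Cfsg.Agent.Helper3.J53

open Cfsg Cfsg.Agent.Lead.J51

universe u

variable {G : Type u} [Group G]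

/-- in `S₄`, two elements all of whose products with their own conjugates are 2-elements commute
(they lie in the four-group). -/
theorem perm4_comm_of_conj_pow : ∀ σ τ : Equiv.Perm (Fin 4),
    (∀ g : Equiv.Perm (Fin 4), (σ * (g * σ * g⁻¹)) ^ 8 = 1) →
    (∀ g : Equiv.Perm (Fin 4), (τ * (g * τ * g⁻¹)) ^ 8 = 1) → σ * τ = τ * σ := by
  decide +kernel

theorem perm4_pow_eight {w : Equiv.Perm (Fin 4)} {k : ℕ} (h : w ^ (2 ^ k) = 1) : w ^ 8 = 1 := by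
  rw [← orderOf_dvd_iff_pow_eq_one] at h ⊢
  have h24 : orderOf w ∣ 8 * 3 := by
    have := orderOf_dvd_natCard w
    rwa [Nat.card_perm, Nat.card_fin] at this
  have hco : Nat.Coprime (orderOf w) 3 := by
    apply Nat.Coprime.coprime_dvd_left h
    apply Nat.Coprime.pow_left
    decide
  exact hco.dvd_of_dvd_mul_right h24

/-- `O₂(P)` is abelian when `P ≅ C₂ × S₄`. -/
theorem pCoreOf_comm_of_iso {P : Subgroup G}
    (e : ↥P ≃* Multiplicative (ZMod 2) × Equiv.Perm (Fin 4)) :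
    ∀ x ∈ Cfsg.pCoreOf 2 P, ∀ y ∈ Cfsg.pCoreOf 2 P, x * y = y * x := by
  have hn : (Cfsg.pCore 2 ↥P).Normal := Cfsg.Agent.Helper4.pCore_normal
  have h2 : IsPGroup 2 ↥(Cfsg.pCore 2 ↥P) := Cfsg.Agent.Helper5.isPGroup_pCore 2
  have key : ∀ x' ∈ Cfsg.pCore 2 ↥P, ∀ g₀ : Equiv.Perm (Fin 4),
      ((e x').2 * (g₀ * (e x').2 * g₀⁻¹)) ^ 8 = 1 := by
    intro x' hx' g₀
    obtain ⟨g, hg⟩ : ∃ g : ↥P, e g = (1, g₀) := ⟨e.symm (1, g₀), e.apply_symm_apply _⟩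
    have hu : x' * (g * x' * g⁻¹) ∈ Cfsg.pCore 2 ↥P :=
      Subgroup.mul_mem _ hx' (hn.conj_mem x' hx' g)
    obtain ⟨k, hk⟩ := h2 ⟨_, hu⟩
    have hk' : (x' * (g * x' * g⁻¹)) ^ (2 ^ k) = 1 := by
      have := congrArg Subtype.val hk
      simpa using this
    have h3 : ((e x').2 * (g₀ * (e x').2 * g₀⁻¹)) ^ (2 ^ k) = 1 := by
      have h4 := congrArg (fun z => (e z).2) hk'
      simp only [map_pow, map_mul, map_inv, map_one, hg, Prod.pow_snd, Prod.snd_mul, Prod.snd_inv,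
        Prod.snd_one] at h4
      exact h4
    exact perm4_pow_eight h3
  rintro _ ⟨x', hx', rfl⟩ _ ⟨y', hy', rfl⟩
  have h1 : x' * y' = y' * x' := by
    apply e.injective
    rw [map_mul, map_mul]
    apply Prod.ext
    · rw [Prod.fst_mul, Prod.fst_mul, mul_comm]
    · rw [Prod.snd_mul, Prod.snd_mul]
      exact perm4_comm_of_conj_pow _ _ (key x' hx') (key y' hy')
  have := congrArg (Subtype.val) h1
  simpa using this

theorem card_eq_of_iso_perm4 {P : Subgroup G} (e : ↥P ≃* Equiv.Perm (Fin 4)) : Nat.card ↥P = 24 := by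
  rw [Nat.card_congr e.toEquiv, Nat.card_perm, Nat.card_fin]
  rfl

theorem card_eq_of_iso_prod {P : Subgroup G}
    (e : ↥P ≃* Multiplicative (ZMod 2) × Equiv.Perm (Fin 4)) : Nat.card ↥P = 48 := by
  rw [Nat.card_congr e.toEquiv, Nat.card_prod, Nat.card_perm, Nat.card_fin]
  have : Nat.card (Multiplicative (ZMod 2)) = 2 := by
    rw [Nat.card_congr Multiplicative.toAdd, Nat.card_zmod]
  rw [this]
  rfl

variable [Finite G]

/-- `O₂(⟨P₁, P₂⟩) = 1` for two configurations with `K₂ ≰ L₁`. -/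
theorem pCoreOf_pair_eq_bot {M₁ M₂ T K₁ K₂ L₁ L₂ : Subgroup G} (c₁ : Cfg M₁ T K₁ L₁)
    (_c₂ : Cfg M₂ T K₂ L₂) (h21 : ¬ K₂ ≤ L₁) :
    Cfsg.pCoreOf 2 ((K₁ ⊔ T) ⊔ (K₂ ⊔ T)) = ⊥ := by
  by_contra hne
  apply h21
  have hX : (K₁ ⊔ T) ⊔ (K₂ ⊔ T) ≤
      Subgroup.normalizer (Cfsg.pCoreOf 2 ((K₁ ⊔ T) ⊔ (K₂ ⊔ T)) : Set G) :=
    Cfsg.Agent.Lead.KInf.pCoreOf_le_normalizer 2 _
  have hle : Subgroup.normalizer (Cfsg.pCoreOf 2 ((K₁ ⊔ T) ⊔ (K₂ ⊔ T)) : Set G) ≤ L₁ := by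
    apply c₁.le_L ⟨_, Cfsg.Agent.Lead.LLem.isPGroup_pCoreOf _, hne, rfl⟩
    refine le_trans ?_ hX
    exact le_trans (sup_le_sup_left c₁.J_le_T K₁) le_sup_left
  exact ((le_sup_left.trans le_sup_right).trans hX).trans hle

end Cfsg.Agent.Helper3.J53
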