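import Mathlib
import Cfsg.Prelude.Def_JComponents
import Cfsg.Agent.Helper3.J53B
import Cfsg.Agent.Helper1.J52D
import Cfsg.Agent.Lead.J51G

/-!
Piece P3b of S2951–S2954 (helper3), part C: the pair theorem `pair_s2954` and `p3Prop`.
-/

set_option autoImplicit false
set_option linter.unusedSectionVars false

namespace Cfsg.Agent.Lead.J51

open Cfsg Cfsg.Agent.Helper3.J53

universe u

variable {G : Type u} [Group G] [Finite G]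

/-- the pair theorem for the subgroups `P_i = ⟨K_i, T⟩` -/
theorem pair_iso_P {M₁ M₂ T K₁ K₂ L₁ L₂ : Subgroup G} (c₁ : Cfg M₁ T K₁ L₁) (c₂ : Cfg M₂ T K₂ L₂)
    (hΩ : Cfsg.omegaCenterOf T = Cfsg.omegaCenterOf (Cfsg.thompsonSubgroupOf 2 T))
    (h21 : ¬ K₂ ≤ L₁) :
    (Nonempty (↥(K₁ ⊔ T) ≃* Equiv.Perm (Fin 4)) ∧ Nonempty (↥(K₂ ⊔ T) ≃* Equiv.Perm (Fin 4))) ∨
      (Nonempty (↥(K₁ ⊔ T) ≃* Multiplicative (ZMod 2) × Equiv.Perm (Fin 4)) ∧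
        Nonempty (↥(K₂ ⊔ T) ≃* Multiplicative (ZMod 2) × Equiv.Perm (Fin 4))) := by
  have hne : K₁ ⊔ T ≠ K₂ ⊔ T := fun h =>
    h21 ((le_sup_left.trans h.symm.le).trans c₁.K_sup_T_le)
  exact pair_iso c₁.T2 le_sup_right le_sup_right (c₁.relIndex_T_P hΩ) (c₂.relIndex_T_P hΩ) hne
    (pCoreOf_pair_eq_bot c₁ c₂ h21) (c₁.centralizer_pCoreOf_P_le hΩ) (c₂.centralizer_pCoreOf_P_le hΩ)
    c₁.not_T_le_pCoreOf c₂.not_T_le_pCoreOf (c₁.commutator_omega_ne_bot hΩ)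
    (c₂.commutator_omega_ne_bot hΩ)

/-- Piece P3b: two configurations with the same `T` and `K₂ ≰ L₁` have `L₁ ≠ L₂`, both `≅ S₄` or both
`≅ S₄ × C₂`. -/
theorem pair_s2954 {M₁ M₂ T K₁ K₂ L₁ L₂ : Subgroup G} (c₁ : Cfg M₁ T K₁ L₁) (c₂ : Cfg M₂ T K₂ L₂)
    (hΩ : Cfsg.omegaCenterOf T = Cfsg.omegaCenterOf (Cfsg.thompsonSubgroupOf 2 T)) (h21 : ¬ K₂ ≤ L₁) :
    L₁ ≠ L₂ ∧
      ((Nonempty (↥L₁ ≃* Equiv.Perm (Fin 4)) ∧ Nonempty (↥L₂ ≃* Equiv.Perm (Fin 4))) ∨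
        (Nonempty (↥L₁ ≃* Equiv.Perm (Fin 4) × Multiplicative (ZMod 2)) ∧
          Nonempty (↥L₂ ≃* Equiv.Perm (Fin 4) × Multiplicative (ZMod 2)))) := by
  refine ⟨fun h => h21 (h ▸ c₂.K_le), ?_⟩
  rcases pair_iso_P c₁ c₂ hΩ h21 with ⟨⟨f₁⟩, ⟨f₂⟩⟩ | ⟨⟨f₁⟩, ⟨f₂⟩⟩
  · left
    have h8 : Nat.card ↥T = 8 := by
      have h1 := c₁.card_P hΩ
      rw [card_eq_of_iso_perm4 f₁] at h1
      omega
    have e₁ : L₁ = K₁ ⊔ T := c₁.L_eq_of_card_eight hΩ h8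
    have e₂ : L₂ = K₂ ⊔ T := c₂.L_eq_of_card_eight hΩ h8
    rw [e₁, e₂]
    exact ⟨⟨f₁⟩, ⟨f₂⟩⟩
  · right
    have h16 : Nat.card ↥T = 16 := by
      have h1 := c₁.card_P hΩ
      rw [card_eq_of_iso_prod f₁] at h1
      omega
    have e₁ : L₁ = K₁ ⊔ T := c₁.L_eq_of_card_sixteen hΩ h16 (pCoreOf_comm_of_iso f₁)
    have e₂ : L₂ = K₂ ⊔ T := c₂.L_eq_of_card_sixteen hΩ h16 (pCoreOf_comm_of_iso f₂)
    rw [e₁, e₂]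
    exact ⟨⟨f₁.trans MulEquiv.prodComm⟩, ⟨f₂.trans MulEquiv.prodComm⟩⟩

/-- piece P3b in the shape consumed by the assembly -/
theorem p3Prop (G : Type u) [Group G] [Finite G] : P3Prop G := by
  intro M₁ M₂ T K₁ K₂ L₁ L₂ c₁ c₂ hΩ h21
  exact pair_s2954 c₁ c₂ hΩ h21

end Cfsg.Agent.Lead.J51
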