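import Mathlib
import Cfsg.Prelude.Def_Solvable
import Cfsg.Agent.Helper1.Cores
import Cfsg.Agent.Helper1.Fitting
import Cfsg.Agent.Helper1.Fitting2
import Cfsg.Agent.Helper4.SubnormalPRad
import Cfsg.Agent.Helper6.BlockBasic2
import Cfsg.Agent.Helper3.HHAbA
import Cfsg.Agent.Helper3.KazarinB

/-!
# Camina–Camina: conjugates of an element of `p`-power index commute modulo `O_p(G)`
-/

set_option autoImplicit false
set_option linter.style.haveILetI false

namespace Cfsg.Agent.Helper3.Kazarin

open Cfsg.Agent.Helper1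

universe u

variable {G : Type u} [Group G]

/-- An element whose class has size prime to `q` centralises `O_q(G)`. -/
theorem pCore_le_centralizer_of_not_dvd [Finite G] (q : ℕ) [Fact q.Prime] (x : G)
    (hq : ¬ q ∣ (Subgroup.centralizer ({x} : Set G)).index) :
    Cfsg.pCore q G ≤ Subgroup.centralizer ({x} : Set G) := by
  obtain ⟨P⟩ : Nonempty (Sylow q G) := inferInstance
  obtain ⟨t, ht⟩ := Cfsg.Agent.Helper6.exists_conj_mem_centralizer_sylow q P x hq
  intro u hu
  rw [Subgroup.mem_centralizer_iff]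
  intro z hz
  rw [Set.mem_singleton_iff] at hz
  subst hz
  have hu' : t * u * t⁻¹ ∈ (P : Subgroup G) :=
    pCore_le_sylow P ((inferInstance : (Cfsg.pCore q G).Normal).conj_mem u hu t)
  rw [Subgroup.mem_centralizer_iff] at ht
  have h := ht _ hu'
  -- h : t*u*t⁻¹ * (t*z*t⁻¹) = t*z*t⁻¹ * (t*u*t⁻¹)
  have h2 : t * (u * z) * t⁻¹ = t * (z * u) * t⁻¹ := by
    calc t * (u * z) * t⁻¹ = t * u * t⁻¹ * (t * z * t⁻¹) := by group
      _ = t * z * t⁻¹ * (t * u * t⁻¹) := h
      _ = t * (z * u) * t⁻¹ := by group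
  have h3 : u * z = z * u := by
    have := congrArg (fun w => t⁻¹ * w * t) h2
    simpa [mul_assoc] using this
  exact h3.symm

/-- The image in `G` of `O_q(N)`, `N` normal, lies in `O_q(G)`. -/
theorem map_pCore_le [Finite G] (q : ℕ) [Fact q.Prime] (N : Subgroup G) [N.Normal] :
    (Cfsg.pCore q N).map N.subtype ≤ Cfsg.pCore q G := by
  haveI := Cfsg.Agent.Helper4.SubnormalPRad.pCore_char q ↥N
  have hn : ((Cfsg.pCore q N).map N.subtype).Normal :=
    ConjAct.normal_of_characteristic_of_normal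
  exact le_pCore hn ((pCore_isPGroup q).map _)


/-- If `O_p(G) = 1`, `N` is a solvable normal subgroup and `z ∈ N` has `p`-power index, then `z`
lies in `F(N)` and centralises it. -/
theorem mem_center_fitting [Finite G] (p : ℕ) [hp : Fact p.Prime] (hO : Cfsg.pCore p G = ⊥)
    (N : Subgroup G) [N.Normal] (hNs : Group.IsSolvable N) (z : G) (hzN : z ∈ N) (a : ℕ)
    (hz : (Subgroup.centralizer ({z} : Set G)).index = p ^ a) :
    (⟨z, hzN⟩ : N) ∈ Cfsg.fittingSubgroup N ∧
      (⟨z, hzN⟩ : N) ∈ Subgroup.centralizer (Cfsg.fittingSubgroup N : Set N) := by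
  have hcent : Cfsg.fittingSubgroup N ≤ Subgroup.centralizer ({(⟨z, hzN⟩ : N)} : Set N) := by
    rw [fittingSubgroup_eq_fitJoin]
    unfold fitJoin
    apply iSup_le
    intro q
    haveI : Fact (q : ℕ).Prime := ⟨q.2⟩
    intro u hu
    have hu' : (u : G) ∈ Cfsg.pCore (q : ℕ) G := map_pCore_le (q : ℕ) N ⟨u, hu, rfl⟩
    by_cases hqp : (q : ℕ) = p
    · rw [hqp, hO, Subgroup.mem_bot] at hu'
      have : u = 1 := Subtype.ext hu'
      rw [this]
      exact Subgroup.one_mem _
    · have hq : ¬ (q : ℕ) ∣ (Subgroup.centralizer ({z} : Set G)).index := by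
        rw [hz]
        intro h
        exact hqp ((Nat.prime_dvd_prime_iff_eq q.2 hp.out).mp (q.2.dvd_of_dvd_pow h))
      have h1 := pCore_le_centralizer_of_not_dvd (q : ℕ) z hq hu'
      rw [Subgroup.mem_centralizer_iff] at h1 ⊢
      intro w hw
      rw [Set.mem_singleton_iff] at hw
      subst hw
      apply Subtype.ext
      exact h1 z rfl
  have hmemC : (⟨z, hzN⟩ : N) ∈ Subgroup.centralizer (Cfsg.fittingSubgroup N : Set N) := by
    rw [Subgroup.mem_centralizer_iff]
    intro f hf
    have := hcent hf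
    rw [Subgroup.mem_centralizer_iff] at this
    exact (this _ rfl).symm
  haveI := hNs
  exact ⟨centralizer_fittingSubgroup_le hmemC, hmemC⟩

theorem index_centralizer_conj (x g : G) :
    (Subgroup.centralizer ({g * x * g⁻¹} : Set G)).index =
      (Subgroup.centralizer ({x} : Set G)).index := by
  have h : Subgroup.centralizer ({g * x * g⁻¹} : Set G) =
      (Subgroup.centralizer ({x} : Set G)).map (MulAut.conj g).toMonoidHom := by
    ext y
    rw [Subgroup.mem_map_equiv, Subgroup.mem_centralizer_iff, Subgroup.mem_centralizer_iff]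
    simp only [Set.mem_singleton_iff, forall_eq, MulAut.conj_symm_apply]
    constructor
    · intro h
      calc x * (g⁻¹ * y * g) = g⁻¹ * (g * x * g⁻¹ * y) * g := by group
        _ = g⁻¹ * (y * (g * x * g⁻¹)) * g := by rw [h]
        _ = g⁻¹ * y * g * x := by group
    · intro h
      calc g * x * g⁻¹ * y = g * (x * (g⁻¹ * y * g)) * g⁻¹ := by group
        _ = g * (g⁻¹ * y * g * x) * g⁻¹ := by rw [h]
        _ = y * (g * x * g⁻¹) := by group
  rw [h]
  exact Subgroup.index_map_equiv _ (MulAut.conj g)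

/-- If `O_p(G) = 1`, any two conjugates of an element of `p`-power index commute. -/
theorem commute_conj_of_pCore_eq_bot [Finite G] (p : ℕ) [hp : Fact p.Prime]
    (hO : Cfsg.pCore p G = ⊥) (x : G) (a : ℕ)
    (hx : (Subgroup.centralizer ({x} : Set G)).index = p ^ a) (g h : G) :
    (g * x * g⁻¹) * (h * x * h⁻¹) = (h * x * h⁻¹) * (g * x * g⁻¹) := by
  obtain ⟨N, hNn, hNs, hxN⟩ := kazarin x hp.out a hx
  haveI := hNn
  have hyN : g * x * g⁻¹ ∈ N := hNn.conj_mem x hxN g
  have hzN : h * x * h⁻¹ ∈ N := hNn.conj_mem x hxN h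
  have hy := mem_center_fitting p hO N hNs (g * x * g⁻¹) hyN a
    ((index_centralizer_conj x g).trans hx)
  have hz := mem_center_fitting p hO N hNs (h * x * h⁻¹) hzN a
    ((index_centralizer_conj x h).trans hx)
  have h1 := hy.2
  rw [Subgroup.mem_centralizer_iff] at h1
  have h2 := h1 _ hz.1
  have := congrArg Subtype.val h2
  exact this.symm

/-- **Camina–Camina.** Commutators of conjugates of an element of `p`-power index lie in
`O_p(G)`. -/
theorem commutator_conj_mem_pCore [Finite G] (p : ℕ) [hp : Fact p.Prime] (x : G) (a : ℕ)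
    (hx : (Subgroup.centralizer ({x} : Set G)).index = p ^ a) (g h : G) :
    (g * x * g⁻¹) * (h * x * h⁻¹) * (g * x * g⁻¹)⁻¹ * (h * x * h⁻¹)⁻¹ ∈ Cfsg.pCore p G := by
  set P := Cfsg.pCore p G with hP
  have hO : Cfsg.pCore p (G ⧸ P) = ⊥ := Cfsg.Agent.Helper3.HHAb.pCore_quotient_pCore p
  let π := QuotientGroup.mk' P
  have hπ : Function.Surjective π := QuotientGroup.mk'_surjective P
  have hd : (Subgroup.centralizer ({π x} : Set (G ⧸ P))).index ∣ p ^ a := by
    rw [← hx]
    have h1 : (Subgroup.centralizer ({x} : Set G)).map π ≤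
        Subgroup.centralizer ({π x} : Set (G ⧸ P)) := by
      rintro _ ⟨c, hc, rfl⟩
      rw [SetLike.mem_coe, Subgroup.mem_centralizer_iff] at hc
      rw [Subgroup.mem_centralizer_iff]
      intro w hw
      rw [Set.mem_singleton_iff] at hw
      subst hw
      rw [← map_mul, ← map_mul, hc x rfl]
    exact (Subgroup.index_dvd_of_le h1).trans (Subgroup.index_map_dvd _ hπ)
  obtain ⟨b, -, hb⟩ := (Nat.dvd_prime_pow hp.out).mp hd
  have hc := commute_conj_of_pCore_eq_bot p hO (π x) b hb (π g) (π h)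
  rw [← QuotientGroup.ker_mk' P, MonoidHom.mem_ker]
  simp only [map_mul, map_inv]
  change (π g * π x * (π g)⁻¹) * (π h * π x * (π h)⁻¹) * (π g * π x * (π g)⁻¹)⁻¹ *
    (π h * π x * (π h)⁻¹)⁻¹ = 1
  rw [hc]
  group

end Cfsg.Agent.Helper3.Kazarin
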