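import Mathlib
import Cfsg.Agent.Helper6.KuDefs
import Cfsg.Agent.Helper6.CovPrim

/-!
# S4607 piece G6 (helper3): independence modulo the maximal ideal lifts to independence over `ℂ`
-/

set_option autoImplicit false

namespace Cfsg.Agent.Helper6.Ku

open Cfsg.Agent.Helper6 Cfsg.Agent.Helper6.Cov

/-- generic version: `R` a commutative ring, `π : R →+* K` onto a field, `ι' : R →+* L` into a
field with `π x ≠ 0 → ι' x ≠ 0`. Independence of the reduced rows over `K` gives independence
of the embedded rows over `L`. -/
theorem h3_linearIndependent_of_red_gen {R K L : Type*} [CommRing R] [Field K] [Field L]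
    (π : R →+* K) (hπ : Function.Surjective π) (emb : R →+* L)
    (hemb : ∀ x : R, emb x = 0 → π x = 0)
    {ι : Type*} [Fintype ι] {m : ℕ} (y : Fin m → ι → R)
    (h : LinearIndependent K (fun k : Fin m => fun j : ι => π (y k j))) :
    LinearIndependent L (fun k : Fin m => fun j : ι => emb (y k j)) := by
  classical
  -- left inverse of the linear combination map
  have hinj := (linearIndependent_iff_injective_fintypeLinearCombination).1 h
  obtain ⟨g, hg⟩ := LinearMap.exists_leftInverse_of_injective
    (Fintype.linearCombination K (fun k : Fin m => fun j : ι => π (y k j)))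
    (LinearMap.ker_eq_bot.2 hinj)
  have hgy : ∀ k : Fin m, g (fun j : ι => π (y k j)) = Pi.single k 1 := by
    intro k
    have h1 : Fintype.linearCombination K (fun k : Fin m => fun j : ι => π (y k j))
        (Pi.single k 1) = fun j : ι => π (y k j) := by
      rw [Fintype.linearCombination_apply_single, one_smul]
    have h2 := LinearMap.congr_fun hg (Pi.single k (1 : K))
    rw [LinearMap.comp_apply, h1] at h2
    simpa using h2
  -- lift the matrix of g
  choose w hw using fun (j : ι) (a : Fin m) => hπ (g (Pi.single j 1) a)
  let P : Matrix (Fin m) (Fin m) R := fun k a => ∑ j, y k j * w j a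
  have hP : P.map π = 1 := by
    ext k a
    rw [Matrix.map_apply]
    show π (∑ j, y k j * w j a) = _
    rw [map_sum]
    simp_rw [map_mul, hw]
    have h3 : (fun j : ι => π (y k j)) = ∑ j, π (y k j) • (Pi.single j (1 : K) : ι → K) := by
      ext j'
      simp [Finset.sum_apply, Pi.single_apply]
    have h4 := hgy k
    rw [h3, map_sum] at h4
    have h5 := congrFun h4 a
    rw [Finset.sum_apply] at h5
    simp only [map_smul, Pi.smul_apply, smul_eq_mul] at h5
    rw [h5, Matrix.one_apply, Pi.single_apply]
    by_cases hka : k = a
    · subst hka; simp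
    · rw [if_neg hka, if_neg (fun h' => hka h'.symm)]
  have hdet : π P.det = 1 := by
    rw [RingHom.map_det, RingHom.mapMatrix_apply, hP, Matrix.det_one]
  have hdet' : (P.map emb).det ≠ 0 := by
    have : (P.map emb).det = emb P.det := by
      rw [RingHom.map_det, RingHom.mapMatrix_apply]
    rw [this]
    intro h0
    have := hemb _ h0
    rw [hdet] at this
    exact one_ne_zero this
  rw [Fintype.linearIndependent_iff]
  intro c hc
  have hc' : ∀ j : ι, ∑ k, c k * emb (y k j) = 0 := by
    intro j
    have := congrFun hc j
    simpa [Finset.sum_apply] using this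
  have hv : Matrix.vecMul c (P.map emb) = 0 := by
    ext a
    rw [Matrix.vecMul, dotProduct]
    simp only [Matrix.map_apply, Pi.zero_apply]
    show ∑ k, c k * emb (∑ j, y k j * w j a) = 0
    simp_rw [map_sum, map_mul, Finset.mul_sum]
    rw [Finset.sum_comm]
    have : ∀ j : ι, ∑ k, c k * (emb (y k j) * emb (w j a)) =
        (∑ k, c k * emb (y k j)) * emb (w j a) := by
      intro j
      rw [Finset.sum_mul]
      exact Finset.sum_congr rfl (fun k _ => by ring)
    simp_rw [this, hc', zero_mul]
    exact Finset.sum_const_zero
  have := Matrix.eq_zero_of_vecMul_eq_zero hdet' hv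
  intro k
  exact congrFun this k

variable {M : Ideal Cfsg.AlgInt}

-- G6
theorem linearIndependent_of_red (hM : M.IsMaximal) {ι : Type*} [Fintype ι] {m : ℕ}
    (y : Fin m → ι → Rloc hM)
    (h : LinearIndependent (Fres hM)
      (fun k : Fin m => fun j : ι => (Ideal.Quotient.mk (Mloc hM)) (y k j))) :
    LinearIndependent ℂ (fun k : Fin m => fun j : ι => ((y k j : Rloc hM) : ℂ)) := by
  have := h3_linearIndependent_of_red_gen (Ideal.Quotient.mk (Mloc hM))
    Ideal.Quotient.mk_surjective (Rloc hM).subtype
    (fun x hx => by
      have hx0 : x = 0 := by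
        apply Subtype.ext
        simpa using hx
      rw [hx0, map_zero]) y h
  exact this

end Cfsg.Agent.Helper6.Ku
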