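import Mathlib
import Cfsg.Agent.Helper6.KuDefs
import Cfsg.Agent.Helper6.CovPrim
import Cfsg.Agent.Helper3.Ku_LinIndRed

/-!
# S4607 piece G3 (helper3): `dim Z(F[G] ē_B) ≤ |B|`
-/

set_option autoImplicit false

namespace Cfsg.Agent.Helper6.Ku

open Cfsg.Agent.Helper6 Cfsg.Agent.Helper6.Cov

universe u

variable {G : Type u} [Group G] {M : Ideal Cfsg.AlgInt}

/-- a central element of `ℂ[G]` below a block idempotent all of whose central character values
on the block vanish is zero -/
theorem h3_eq_zero_of_classVec [Fintype G] (B : Set (Cfsg.IrrCharacter G)) (w : MonoidAlgebra ℂ G)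
    (hwc : ∀ g : G, Commute w (MonoidAlgebra.single g 1))
    (hwe : w * gaOfFun (Cfsg.blockCoeff B) = w)
    (hB : ∀ ψ ∈ B, classVec (fun h => w.coeff h) ψ = 0) : w = 0 := by
  classical
  have : Finite (Cfsg.IrrCharacter G) := irr_finite
  haveI := Fintype.ofFinite (Cfsg.IrrCharacter G)
  have hd := isClassFunction_coeff_of_commute w hwc
  have hall : ∀ ψ : Cfsg.IrrCharacter G, classVec (fun h => w.coeff h) ψ = 0 := by
    intro ψ
    by_cases hψ : ψ ∈ B
    · exact hB ψ hψ
    · have h1 : gaPair (ψ : G → ℂ) (w * gaOfFun (Cfsg.blockCoeff B)) = 0 := by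
        rw [gaPair_mul_of_central ψ w _ hwc, gaPair_blockIdem, if_neg hψ, mul_zero]
      rw [hwe] at h1
      rw [← gaPair_div_eq_classVec, h1, zero_div]
  apply ga_ext
  intro g
  have h2 := idemCoeff_classVec (fun h => w.coeff h) hd g
  have h3 : classVec (fun h => w.coeff h) = 0 := funext hall
  rw [h3] at h2
  rw [← h2]
  unfold idemCoeff
  simp

theorem h3_coeff_sum_smul {k : Type*} [Field k] {m : ℕ} (c : Fin m → k)
    (w : Fin m → MonoidAlgebra k G) (g : G) :
    (∑ j, c j • w j).coeff g = ∑ j, c j * (w j).coeff g := by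
  rw [MonoidAlgebra.coeff_sum, Finsupp.finset_sum_apply]
  refine Finset.sum_congr rfl (fun j _ => ?_)
  rw [MonoidAlgebra.coeff_smul, Finsupp.smul_apply, smul_eq_mul]

-- G3
theorem finrank_centerUnder_le [Fintype G] (hM : M.IsMaximal) (B : Set (Cfsg.IrrCharacter G))
    (hB : Cfsg.IsPBlock M B) (E : MonoidAlgebra (Rloc hM) G)
    (hE : gaEmb hM G E = gaOfFun (Cfsg.blockCoeff B)) :
    Module.finrank (Fres hM) (centerUnder (Fres hM) (gaRed hM G E)) ≤ Nat.card B := by
  classical
  have : Finite (Cfsg.IrrCharacter G) := irr_finite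
  haveI := Fintype.ofFinite (Cfsg.IrrCharacter G)
  set m := Module.finrank (Fres hM) (centerUnder (Fres hM) (gaRed hM G E)) with hm
  let bs := Module.finBasis (Fres hM) (centerUnder (Fres hM) (gaRed hM G E))
  let xb : Fin m → MonoidAlgebra (Fres hM) G := fun k => ((bs k : centerUnder (Fres hM) (gaRed hM G E)) : MonoidAlgebra (Fres hM) G)
  have hxb_mem : ∀ k, xb k ∈ centerUnder (Fres hM) (gaRed hM G E) := fun k => (bs k).2
  have hxb_li : LinearIndependent (Fres hM) xb := by
    have := bs.linearIndependent
    exact this.map' (Submodule.subtype _) (Submodule.ker_subtype _)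
  -- lifts
  let y : Fin m → MonoidAlgebra (Rloc hM) G := fun k => gaSec hM (xb k) * E
  have hred : ∀ k, gaRed hM G (y k) = xb k := by
    intro k
    show gaRed hM G (gaSec hM (xb k) * E) = xb k
    rw [map_mul, gaRed_gaSec]
    exact (hxb_mem k).2
  have hli1 : LinearIndependent (Fres hM)
      (fun k : Fin m => fun g : G => Ideal.Quotient.mk (Mloc hM) ((y k).coeff g)) := by
    have h1 : (fun k : Fin m => fun g : G => Ideal.Quotient.mk (Mloc hM) ((y k).coeff g)) =
        fun k => fun g => (xb k).coeff g := by
      funext k g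
      rw [← gaRed_coeff, hred]
    rw [h1]
    let L : MonoidAlgebra (Fres hM) G →ₗ[Fres hM] (G → Fres hM) :=
      { toFun := fun x g => x.coeff g
        map_add' := by
          intro a b
          funext g
          simp [MonoidAlgebra.coeff_add]
        map_smul' := by
          intro c a
          funext g
          simp [MonoidAlgebra.coeff_smul] }
    have hL : LinearMap.ker L = ⊥ := by
      rw [LinearMap.ker_eq_bot']
      intro x hx
      apply MonoidAlgebra.coeff_injective
      ext g
      have := congrFun hx g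
      simpa [L] using this
    exact hxb_li.map' L hL
  have hli2 := linearIndependent_of_red hM (fun k g => (y k).coeff g) hli1
  -- the complex elements
  let w : Fin m → MonoidAlgebra ℂ G := fun k => gaEmb hM G (y k)
  have hwcoeff : ∀ k g, (w k).coeff g = (((y k).coeff g : Rloc hM) : ℂ) :=
    fun k g => gaEmb_coeff hM (y k) g
  have hebc : ∀ g : G, Commute (gaOfFun (Cfsg.blockCoeff B)) (MonoidAlgebra.single g 1) :=
    gaOfFun_commute_single (blockCoeff_isClassFunction B)
  have hw_eq : ∀ k, w k = gaEmb hM G (gaSec hM (xb k)) * gaOfFun (Cfsg.blockCoeff B) := by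
    intro k
    show gaEmb hM G (gaSec hM (xb k) * E) = _
    rw [map_mul, hE]
  have hwc0 : ∀ k (g : G), Commute (gaEmb hM G (gaSec hM (xb k))) (MonoidAlgebra.single g 1) := by
    intro k g
    have hfc : ∀ a, Commute (xb k) a := fun a => (hxb_mem k).1 a
    have hd : Cfsg.IsClassFunction G (fun h => (gaEmb hM G (gaSec hM (xb k))).coeff h) := by
      intro k' g'
      change (gaEmb hM G (gaSec hM (xb k))).coeff (g' * k' * g'⁻¹) =
        (gaEmb hM G (gaSec hM (xb k))).coeff k'
      rw [gaEmb_coeff, gaEmb_coeff, gaSec_coeff, gaSec_coeff,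
        coeff_conj_of_commute (xb k) (fun g => hfc _) g' k']
    rw [← gaOfFun_coeff_self (gaEmb hM G (gaSec hM (xb k)))]
    exact gaOfFun_commute_single hd g
  have hwc : ∀ k (g : G), Commute (w k) (MonoidAlgebra.single g 1) := by
    intro k g
    rw [hw_eq]
    exact (hwc0 k g).mul_left (hebc g)
  have hwe : ∀ k, w k * gaOfFun (Cfsg.blockCoeff B) = w k := by
    intro k
    rw [hw_eq, mul_assoc, gaOfFun_blockCoeff_idem]
  -- vectors of central character values
  let v : Fin m → (B → ℂ) := fun k ψ => classVec (fun h => (w k).coeff h) ψ.1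
  have hv : LinearIndependent ℂ v := by
    rw [Fintype.linearIndependent_iff]
    intro c hc
    have hW0 : ∑ k, c k • w k = 0 := by
      apply h3_eq_zero_of_classVec B
      · intro g
        apply Commute.sum_left
        intro k _
        exact (hwc k g).smul_left (c k)
      · rw [Finset.sum_mul]
        refine Finset.sum_congr rfl (fun k _ => ?_)
        rw [smul_mul_assoc, hwe]
      · intro ψ hψ
        rw [← gaPair_div_eq_classVec, gaPair_sum]
        simp_rw [gaPair_smul]
        rw [Finset.sum_div]
        have h2 := congrFun hc ⟨ψ, hψ⟩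
        rw [Finset.sum_apply] at h2
        simp only [Pi.smul_apply, smul_eq_mul, Pi.zero_apply] at h2
        rw [← h2]
        refine Finset.sum_congr rfl (fun k _ => ?_)
        show c k * gaPair (ψ : G → ℂ) (w k) / (ψ : G → ℂ) 1 =
          c k * classVec (fun h => (w k).coeff h) ψ
        rw [mul_div_assoc, gaPair_div_eq_classVec]
    have h3 : ∑ k, c k • (fun g : G => (((y k).coeff g : Rloc hM) : ℂ)) = 0 := by
      funext g
      rw [Finset.sum_apply]
      simp only [Pi.smul_apply, smul_eq_mul, Pi.zero_apply]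
      have := congrArg (fun x : MonoidAlgebra ℂ G => x.coeff g) hW0
      simp only [h3_coeff_sum_smul, MonoidAlgebra.coeff_zero, Finsupp.coe_zero,
        Pi.zero_apply] at this
      rw [← this]
      refine Finset.sum_congr rfl (fun k _ => ?_)
      rw [hwcoeff]
    exact Fintype.linearIndependent_iff.1 hli2 c h3
  have h4 := hv.fintype_card_le_finrank
  rw [Fintype.card_fin, Module.finrank_fintype_fun_eq_card] at h4
  rw [Nat.card_eq_fintype_card]
  exact h4

end Cfsg.Agent.Helper6.Ku
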