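import Mathlib
import Cfsg.Agent.Helper6.KuDefs

/-!
# S4607 piece K5 (helper3): the centre of the corner `iAi` embeds in the centre of `A`
-/

set_option autoImplicit false

namespace Cfsg.Agent.Helper6.Ku

variable {F : Type*} [Field F] {A : Type*} [Ring A] [Algebra F A]

/-- the element `∑ j, v j * a * u j` -/
theorem h3_sum_central {n : ℕ} {J : Ideal A} {i : A}
    {e u v : Fin n → A} (h : MatUnits F n J i e u v) (a : A) (ha : a ∈ cornerCenter F i) (b : A) :
    b * (∑ j, v j * a * u j) = (∑ j, v j * a * u j) * b := by
  have hone : ∑ k, v k * u k = 1 := by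
    simp_rw [h.vu]
    exact h.coi.complete
  have hcomm : ∀ j k, a * (u j * b * v k) = (u j * b * v k) * a := by
    intro j k
    apply ha.2
    · rw [← mul_assoc, ← mul_assoc, h.u_left]
    · rw [mul_assoc, h.v_right]
  -- right side
  have hR : (∑ j, v j * a * u j) * b = ∑ j, ∑ k, v j * (u j * b * v k) * a * u k := by
    rw [Finset.sum_mul]
    refine Finset.sum_congr rfl (fun j _ => ?_)
    calc v j * a * u j * b = v j * a * u j * b * (∑ k, v k * u k) := by rw [hone, mul_one]
      _ = ∑ k, v j * a * u j * b * (v k * u k) := by rw [Finset.mul_sum]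
      _ = ∑ k, v j * (u j * b * v k) * a * u k := by
          refine Finset.sum_congr rfl (fun k _ => ?_)
          have := hcomm j k
          calc v j * a * u j * b * (v k * u k) = v j * (a * (u j * b * v k)) * u k := by
                simp only [mul_assoc]
            _ = v j * ((u j * b * v k) * a) * u k := by rw [this]
            _ = v j * (u j * b * v k) * a * u k := by simp only [mul_assoc]
  have hL : b * (∑ j, v j * a * u j) = ∑ j, ∑ k, v j * (u j * b * v k) * a * u k := by
    calc b * (∑ k, v k * a * u k) = (∑ j, v j * u j) * b * (∑ k, v k * a * u k) := by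
          rw [hone, one_mul]
      _ = ∑ j, ∑ k, v j * u j * b * (v k * a * u k) := by
          rw [Finset.sum_mul, Finset.sum_mul]
          refine Finset.sum_congr rfl (fun j _ => ?_)
          rw [Finset.mul_sum]
      _ = ∑ j, ∑ k, v j * (u j * b * v k) * a * u k := by
          refine Finset.sum_congr rfl (fun j _ => Finset.sum_congr rfl (fun k _ => ?_))
          simp only [mul_assoc]
  rw [hL, hR]

theorem h3_recover {n : ℕ} {J : Ideal A} {i : A}
    {e u v : Fin n → A} (h : MatUnits F n J i e u v) (a : A) (ha : a ∈ cornerCenter F i)
    (j : Fin n) : u j * (∑ k, v k * a * u k) * v j = a := by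
  classical
  have huv : ∀ k, k ≠ j → u j * v k = 0 := by
    intro k hk
    have : u j * v k = u j * (e j * e k) * v k := by
      rw [← mul_assoc, h.u_right, mul_assoc, h.v_left]
    rw [this, h.coi.ortho (Ne.symm hk), mul_zero, zero_mul]
  rw [Finset.mul_sum, Finset.sum_mul]
  rw [Finset.sum_eq_single j]
  · calc u j * (v j * a * u j) * v j = (u j * v j) * a * (u j * v j) := by
          simp only [mul_assoc]
      _ = i * a * i := by rw [h.uv]
      _ = a := by rw [ha.1.1, ha.1.2]
  · intro k _ hk
    have : u j * (v k * a * u k) * v j = (u j * v k) * a * u k * v j := by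
      simp only [mul_assoc]
    rw [this, huv k hk, zero_mul, zero_mul, zero_mul]
  · intro hj
    exact absurd (Finset.mem_univ j) hj

-- K5
theorem MatUnits.finrank_cornerCenter_le [FiniteDimensional F A] {n : ℕ} {J : Ideal A} {i : A}
    {e u v : Fin n → A} (h : MatUnits F n J i e u v) :
    Module.finrank F (cornerCenter F i) ≤ Module.finrank F (Subalgebra.center F A) := by
  let T : cornerCenter F i →ₗ[F] Subalgebra.center F A :=
    { toFun := fun a => ⟨∑ j, v j * (a : A) * u j, by
        rw [Subalgebra.mem_center_iff]
        intro b
        exact h3_sum_central h a.1 a.2 b⟩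
      map_add' := by
        intro a b
        apply Subtype.ext
        show ∑ j, v j * ((a : A) + (b : A)) * u j = ∑ j, v j * (a : A) * u j + ∑ j, v j * (b : A) * u j
        rw [← Finset.sum_add_distrib]
        refine Finset.sum_congr rfl (fun j _ => ?_)
        rw [mul_add, add_mul]
      map_smul' := by
        intro c a
        apply Subtype.ext
        show ∑ j, v j * (c • (a : A)) * u j = c • ∑ j, v j * (a : A) * u j
        rw [Finset.smul_sum]
        refine Finset.sum_congr rfl (fun j _ => ?_)
        rw [mul_smul_comm, smul_mul_assoc] }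
  have hT : Function.Injective T := by
    rw [← LinearMap.ker_eq_bot, LinearMap.ker_eq_bot']
    intro a ha
    have h0 : (∑ j, v j * (a : A) * u j) = 0 := congrArg Subtype.val ha
    have h1 : ∀ _j : Fin n, (a : A) = 0 := by
      intro j
      rw [← h3_recover h a.1 a.2 j, h0, mul_zero, zero_mul]
    apply Subtype.ext
    show (a : A) = 0
    calc (a : A) = (a : A) * ∑ j, e j := by rw [h.coi.complete, mul_one]
      _ = ∑ j, (a : A) * e j := by rw [Finset.mul_sum]
      _ = 0 := by
          apply Finset.sum_eq_zero
          intro j _
          rw [h1 j, zero_mul]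
  exact LinearMap.finrank_le_finrank_of_injective hT

end Cfsg.Agent.Helper6.Ku
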