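import Mathlib

set_option autoImplicit false

/-!
Wielandt-style counting: the number of subgroups of order `p ^ β` of a finite group whose order is
divisible by `p ^ β` is congruent to `1` modulo `p` (Frobenius).
-/

namespace Cfsg.Agent.Helper3

open scoped Pointwise
open MulAction

/-- If every orbit has size divisible by `d`, so has the whole set. -/
theorem dvd_card_of_dvd_orbits {S X : Type*} [Group S] [MulAction S X] [Finite X] (d : ℕ)
    (h : ∀ x : X, d ∣ Nat.card (orbit S x)) : d ∣ Nat.card X := by
  classical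
  have : Fintype (orbitRel.Quotient S X) := Fintype.ofFinite _
  have e := selfEquivSigmaOrbits S X
  rw [Nat.card_congr e, Nat.card_sigma]
  apply Finset.dvd_sum
  intro q _
  exact h _

/-- Finset version: an invariant finset all of whose points have stabilizer index divisible by
`d` has cardinality divisible by `d`. -/
theorem dvd_card_finset_of_dvd_index {S α : Type*} [Group S] [MulAction S α] (d : ℕ)
    (s : Finset α) (hs : ∀ g : S, ∀ a ∈ s, g • a ∈ s)
    (h : ∀ a ∈ s, d ∣ (stabilizer S a).index) : d ∣ s.card := by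
  classical
  let T : SubMulAction S α := ⟨(s : Set α), fun g a ha => hs g a ha⟩
  have hfin : Finite T := by
    have : Finite (s : Set α) := s.finite_toSet
    exact this
  have hcard : Nat.card T = s.card := by
    change Nat.card (s : Set α) = s.card
    rw [Nat.card_coe_set_eq, Set.ncard_coe_finset]
  rw [← hcard]
  apply dvd_card_of_dvd_orbits (S := S) d
  intro y
  rw [Nat.card_coe_set_eq, ← index_stabilizer, SubMulAction.stabilizer_of_subMul]
  exact h y.1 y.2


section Wielandt

variable {G : Type*} [Group G] [Fintype G]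

/-- The right coset `H x` as a finset. -/
noncomputable def rcoset (H : Subgroup G) (x : G) : Finset G :=
  open scoped Classical in Finset.univ.filter (fun g => g * x⁻¹ ∈ H)

theorem mem_rcoset {H : Subgroup G} {x g : G} : g ∈ rcoset H x ↔ g * x⁻¹ ∈ H := by
  simp [rcoset]

theorem self_mem_rcoset (H : Subgroup G) (x : G) : x ∈ rcoset H x := by
  rw [mem_rcoset, mul_inv_cancel]; exact H.one_mem

variable [DecidableEq G]

omit [DecidableEq G] in
theorem card_rcoset (H : Subgroup G) (x : G) : (rcoset H x).card = Nat.card H := by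
  classical
  have h1 : (rcoset H x).card = (Finset.univ.filter (fun g : G => g ∈ H)).card := by
    apply Finset.card_bij (fun g _ => g * x⁻¹)
    · intro g hg
      rw [mem_rcoset] at hg
      simpa using hg
    · intro a _ b _ hab
      exact mul_right_cancel hab
    · intro b hb
      refine ⟨b * x, ?_, by simp⟩
      rw [mem_rcoset]
      simpa using hb
  rw [h1, Nat.card_eq_fintype_card, Fintype.card_subtype]

theorem smul_rcoset_eq_iff (H : Subgroup G) (x g : G) : g • rcoset H x = rcoset H x ↔ g ∈ H := by
  constructor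
  · intro h
    have h1 : g • x ∈ g • rcoset H x := Finset.smul_mem_smul_finset (self_mem_rcoset H x)
    rw [h, mem_rcoset, smul_eq_mul, mul_assoc, mul_inv_cancel, mul_one] at h1
    exact h1
  · intro hg
    ext y
    rw [← Finset.inv_smul_mem_iff, mem_rcoset, mem_rcoset, smul_eq_mul, mul_assoc]
    constructor
    · intro h
      have := H.mul_mem hg h
      rwa [← mul_assoc, mul_inv_cancel, one_mul] at this
    · intro h
      exact H.mul_mem (H.inv_mem hg) h

theorem stabilizer_rcoset (H : Subgroup G) (x : G) : stabilizer G (rcoset H x) = H := by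
  ext g
  rw [mem_stabilizer_iff, smul_rcoset_eq_iff]

theorem rcoset_stabilizer_subset (X : Finset G) {x : G} (hx : x ∈ X) :
    rcoset (stabilizer G X) x ⊆ X := by
  intro g hg
  rw [mem_rcoset, mem_stabilizer_iff] at hg
  have : (g * x⁻¹) • x ∈ (g * x⁻¹) • X := Finset.smul_mem_smul_finset hx
  rw [hg, smul_eq_mul, mul_assoc, inv_mul_cancel, mul_one] at this
  exact this

theorem rcoset_stabilizer_eq (X : Finset G) {x : G} (hx : x ∈ X)
    (hcard : Nat.card (stabilizer G X) = X.card) : rcoset (stabilizer G X) x = X := by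
  apply Finset.eq_of_subset_of_card_le (rcoset_stabilizer_subset X hx)
  rw [card_rcoset, hcard]


omit [Fintype G] in
/-- The order of the stabilizer of a finset (under left translation) divides its cardinality. -/
theorem card_stabilizer_dvd_card (X : Finset G) : Nat.card (stabilizer G X) ∣ X.card := by
  apply dvd_card_finset_of_dvd_index (S := stabilizer G X) (α := G) _ X
  · intro g a ha
    have h1 : (g : G) • a ∈ (g : G) • X := Finset.smul_mem_smul_finset ha
    rw [mem_stabilizer_iff.1 g.2] at h1
    exact h1
  · intro a _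
    have hbot : stabilizer (stabilizer G X) a = ⊥ := by
      rw [eq_bot_iff]
      intro s hs
      rw [mem_stabilizer_iff] at hs
      have h2 : (s : G) * a = a := hs
      rw [Subgroup.mem_bot]
      apply Subtype.ext
      simpa using mul_right_cancel (h2.trans (one_mul a).symm)
    rw [hbot, Subgroup.index_bot]


omit [Fintype G] in
theorem card_stabilizer_smul (X : Finset G) (g : G) :
    Nat.card (stabilizer G (g • X)) = Nat.card (stabilizer G X) := by
  rw [stabilizer_smul_eq_stabilizer_map_conj]
  exact Nat.card_congr ((stabilizer G X).equivMapOfInjective _ (MulAut.conj g).injective).symm.toEquiv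

/-- Wielandt's count: with `k = p ^ β` and `|G| = k * m`, the number of `k`-subsets of `G` is
`N * m` plus a multiple of `p * m`, where `N` is the number of subgroups of order `k`. -/
theorem wielandt_count (p β m : ℕ) (hp : p.Prime) (hn : Fintype.card G = p ^ β * m) :
    ∃ t : ℕ, (p ^ β * m).choose (p ^ β) =
      Nat.card {H : Subgroup G // Nat.card H = p ^ β} * m + p * m * t := by
  classical
  have hfinS : Fintype (Subgroup G) := Fintype.ofFinite _
  set k := p ^ β with hk
  have hkpos : 0 < k := pow_pos hp.pos β
  have hcardG : Nat.card G = k * m := by rw [Nat.card_eq_fintype_card, hn]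
  set Y : Finset (Finset G) := Finset.powersetCard k Finset.univ with hY
  have hYcard : Y.card = (k * m).choose k := by
    rw [hY, Finset.card_powersetCard, Finset.card_univ, hn]
  set Y₁ := Y.filter (fun X => Nat.card (stabilizer G X) = k) with hY₁
  set Y₂ := Y.filter (fun X => ¬ Nat.card (stabilizer G X) = k) with hY₂
  have hsplit : Y₁.card + Y₂.card = Y.card := Finset.card_filter_add_card_filter_not _
  -- Y₂ has cardinality divisible by p * m
  have hY₂dvd : p * m ∣ Y₂.card := by
    apply dvd_card_finset_of_dvd_index (S := G) (α := Finset G) _ Y₂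
    · intro g X hX
      rw [hY₂, Finset.mem_filter, hY, Finset.mem_powersetCard_univ] at hX ⊢
      refine ⟨by rw [Finset.card_smul_finset]; exact hX.1, ?_⟩
      rw [card_stabilizer_smul]; exact hX.2
    · intro X hX
      rw [hY₂, Finset.mem_filter, hY, Finset.mem_powersetCard_univ] at hX
      have hdvd : Nat.card (stabilizer G X) ∣ p ^ β := by
        have := card_stabilizer_dvd_card X
        rwa [hX.1] at this
      obtain ⟨j, hj, hSj⟩ := (Nat.dvd_prime_pow hp).1 hdvd
      have hjlt : j < β := by
        rcases hj.lt_or_eq with h | h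
        · exact h
        · exact absurd (by rw [hSj, h]) hX.2
      have hidx : (stabilizer G X).index * p ^ j = p ^ β * m := by
        rw [← hSj, Subgroup.index_mul_card, hcardG]
      have hβ : p ^ β = p ^ j * (p * p ^ (β - j - 1)) := by
        rw [← pow_succ', ← pow_add]
        congr 1
        omega
      have hpj : 0 < p ^ j := pow_pos hp.pos j
      have : (stabilizer G X).index = p * p ^ (β - j - 1) * m := by
        apply Nat.eq_of_mul_eq_mul_right hpj
        rw [hidx, hβ]; ring
      rw [this]
      exact ⟨p ^ (β - j - 1), by ring⟩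
  -- Y₁ counted through pairs
  set T : Finset (Σ _ : Finset G, G) := Y₁.sigma (fun X => X) with hT
  set U : Finset (Subgroup G × G) :=
    (Finset.univ.filter (fun H : Subgroup G => Nat.card H = k)) ×ˢ (Finset.univ : Finset G) with hU
  have hTcard : T.card = Y₁.card * k := by
    rw [hT, Finset.card_sigma]
    rw [Finset.sum_const_nat (m := k)]
    intro X hX
    rw [hY₁, Finset.mem_filter, hY, Finset.mem_powersetCard_univ] at hX
    exact hX.1
  have hUcard : U.card = Nat.card {H : Subgroup G // Nat.card H = k} * (k * m) := by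
    rw [hU, Finset.card_product, Finset.card_univ, hn, Nat.card_eq_fintype_card,
      Fintype.card_subtype]
  have hTU : T.card = U.card := by
    refine Finset.card_nbij' (fun q => (stabilizer G q.1, q.2))
      (fun r => ⟨rcoset r.1 r.2, r.2⟩) ?_ ?_ ?_ ?_
    · intro q hq
      rw [Finset.mem_coe, hT, Finset.mem_sigma, hY₁, Finset.mem_filter, hY,
        Finset.mem_powersetCard_univ] at hq
      rw [Finset.mem_coe, hU, Finset.mem_product, Finset.mem_filter]
      exact ⟨⟨Finset.mem_univ _, hq.1.2⟩, Finset.mem_univ _⟩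
    · intro r hr
      rw [Finset.mem_coe, hU, Finset.mem_product, Finset.mem_filter] at hr
      rw [Finset.mem_coe, hT, Finset.mem_sigma, hY₁, Finset.mem_filter, hY,
        Finset.mem_powersetCard_univ]
      refine ⟨⟨?_, ?_⟩, self_mem_rcoset _ _⟩
      · rw [card_rcoset]; exact hr.1.2
      · rw [stabilizer_rcoset]; exact hr.1.2
    · rintro ⟨X, x⟩ hq
      rw [Finset.mem_coe, hT, Finset.mem_sigma, hY₁, Finset.mem_filter, hY,
        Finset.mem_powersetCard_univ] at hq
      simp only
      rw [rcoset_stabilizer_eq X hq.2 (hq.1.2.trans hq.1.1.symm)]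
    · rintro ⟨H, x⟩ hr
      simp only
      rw [stabilizer_rcoset]
  have hY₁card : Y₁.card = Nat.card {H : Subgroup G // Nat.card H = k} * m := by
    apply Nat.eq_of_mul_eq_mul_right hkpos
    rw [← hTcard, hTU, hUcard]; ring
  obtain ⟨t, ht⟩ := hY₂dvd
  refine ⟨t, ?_⟩
  rw [← hYcard, ← hsplit, hY₁card, ht]

end Wielandt


/-- `C(p^β m - 1, p^β - 1) ≡ 1 (mod p)` for `m ≥ 1`. -/
theorem choose_pred_modEq_one (p m : ℕ) [hp : Fact p.Prime] (hm : 0 < m) (β : ℕ) :
    (p ^ β * m - 1).choose (p ^ β - 1) ≡ 1 [MOD p] := by
  have hp1 : 1 ≤ p := hp.out.pos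
  induction β with
  | zero => simp [Nat.ModEq]
  | succ β ih =>
    have hpos : 0 < p ^ β * m := Nat.mul_pos (pow_pos hp.out.pos β) hm
    have hpos' : 0 < p ^ β := pow_pos hp.out.pos β
    have e1 : p ^ (β + 1) * m - 1 = p * (p ^ β * m - 1) + (p - 1) := by
      have : p ^ (β + 1) * m = p * (p ^ β * m) := by ring
      rw [this]
      obtain ⟨a, ha⟩ : ∃ a, p ^ β * m = a + 1 := ⟨p ^ β * m - 1, by omega⟩
      rw [ha, Nat.add_sub_cancel, mul_add, mul_one]
      omega
    have e2 : p ^ (β + 1) - 1 = p * (p ^ β - 1) + (p - 1) := by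
      have : p ^ (β + 1) = p * p ^ β := by ring
      rw [this]
      obtain ⟨a, ha⟩ : ∃ a, p ^ β = a + 1 := ⟨p ^ β - 1, by omega⟩
      rw [ha, Nat.add_sub_cancel, mul_add, mul_one]
      omega
    have hlt : p - 1 < p := by omega
    have h := Choose.choose_modEq_choose_mod_mul_choose_div_nat (n := p ^ (β + 1) * m - 1)
      (k := p ^ (β + 1) - 1) (p := p)
    rw [e1, e2, Nat.mul_add_mod, Nat.mul_add_mod, Nat.mod_eq_of_lt hlt,
      Nat.mul_add_div hp.out.pos, Nat.mul_add_div hp.out.pos, Nat.div_eq_of_lt hlt,
      Nat.choose_self, one_mul, add_zero, add_zero] at h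
    rw [e1, e2]
    exact h.trans ih

/-- `C(k m, k) = m * C(k m - 1, k - 1)` for `k ≥ 1`. -/
theorem choose_mul_eq (k m : ℕ) (hk : 0 < k) (hm : 0 < m) :
    (k * m).choose k = m * (k * m - 1).choose (k - 1) := by
  obtain ⟨a, ha⟩ : ∃ a, k * m = a + 1 := ⟨k * m - 1, by have := Nat.mul_pos hk hm; omega⟩
  obtain ⟨b, hb⟩ : ∃ b, k = b + 1 := ⟨k - 1, by omega⟩
  have h := Nat.add_one_mul_choose_eq a b
  rw [ha, Nat.add_sub_cancel]
  apply Nat.eq_of_mul_eq_mul_right hk
  have hb' : k - 1 = b := by omega
  rw [hb']
  calc (a + 1).choose k * k = (a + 1).choose (b + 1) * (b + 1) := by rw [hb]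
    _ = (a + 1) * a.choose b := h.symm
    _ = k * m * a.choose b := by rw [ha]
    _ = m * a.choose b * k := by ring

/-- **Frobenius**: the number of subgroups of order `p ^ β` of a finite group of order divisible
by `p ^ β` is `≡ 1 (mod p)`. -/
theorem card_subgroups_prime_pow_modEq_one {G : Type*} [Group G] [Finite G] (p β : ℕ)
    (hp : p.Prime) (hdiv : p ^ β ∣ Nat.card G) :
    Nat.card {H : Subgroup G // Nat.card H = p ^ β} ≡ 1 [MOD p] := by
  classical
  have : Fintype G := Fintype.ofFinite G
  have : Fact p.Prime := ⟨hp⟩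
  obtain ⟨m, hm⟩ := hdiv
  have hmpos : 0 < m := by
    rcases Nat.eq_zero_or_pos m with h | h
    · rw [h, mul_zero] at hm
      exact absurd hm Nat.card_pos.ne'
    · exact h
  have hkpos : 0 < p ^ β := pow_pos hp.pos β
  obtain ⟨t, ht⟩ := wielandt_count (G := G) p β m hp (by rw [← Nat.card_eq_fintype_card, hm])
  rw [choose_mul_eq _ _ hkpos hmpos] at ht
  set N := Nat.card {H : Subgroup G // Nat.card H = p ^ β} with hN
  set c := (p ^ β * m - 1).choose (p ^ β - 1) with hc
  have hc1 : c ≡ 1 [MOD p] := choose_pred_modEq_one p m hmpos β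
  have hcN : c = N + p * t := by
    apply Nat.eq_of_mul_eq_mul_left hmpos
    rw [ht]; ring
  have : N ≡ c [MOD p] := by
    rw [hcN]
    exact (Nat.modEq_iff_dvd' (Nat.le_add_right _ _)).2 (by simp)
  exact this.trans hc1

end Cfsg.Agent.Helper3
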