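import Mathlib
import Cfsg.Agent.Helper3.SubgroupCount
import Cfsg.Agent.Helper4.HallEnumC

set_option autoImplicit false

/-!
Parity tools for counting cyclic subgroups of `2`-groups: every proper subgroup of a `2`-group lies
in an odd number of maximal subgroups, and the resulting mod-2 recursion for the number of cyclic
subgroups of a given order.
-/

namespace Cfsg.Agent.Helper3.Kul

open Cfsg.Agent.Helper4.HallEnum

universe u

/-- Parity of a finite type through the fibres of a map. -/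
theorem card_modEq_card_odd_fibers {α β : Type*} [Finite α] [Finite β] (f : α → β) :
    Nat.card α ≡ Nat.card {b : β // Odd (Nat.card {a : α // f a = b})} [MOD 2] := by
  classical
  have : Fintype β := Fintype.ofFinite β
  rw [Nat.card_congr (Equiv.sigmaFiberEquiv f).symm, Nat.card_sigma, Nat.card_eq_fintype_card,
    Fintype.card_subtype]
  unfold Nat.ModEq
  rw [Finset.sum_nat_mod, Finset.card_filter, Finset.sum_nat_mod (f := fun b =>
    if Odd (Nat.card {a : α // f a = b}) then 1 else 0)]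
  congr 1
  apply Finset.sum_congr rfl
  intro b _
  by_cases h : Odd (Nat.card {a : α // f a = b})
  · rw [if_pos h]; exact Nat.odd_iff.1 h
  · rw [if_neg h]
    rw [Nat.not_odd_iff_even] at h
    exact Nat.even_iff.1 h

section Over

variable {L : Type*} [Group L] [Finite L] {p : ℕ} [hp : Fact p.Prime]

/-- `|{f : L → C_p killing X}| = 1 + (p - 1) m` where `m` is the number of subgroups of index `p`
containing `X`. -/
theorem card_homKilling_eq {β : ℕ} (hL : Nat.card L = p ^ (β + 1)) (X : Subgroup L) :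
    Nat.card (homKilling (p := p) X) =
      Nat.card {M : Subgroup L // Nat.card M = p ^ β ∧ X ≤ M} * (p - 1) + 1 := by
  classical
  rw [← Nat.card_congr (Equiv.optionSubtypeNe (1 : homKilling (p := p) X)), Finite.card_option]
  congr 1
  have hne : ∀ f : {f : homKilling (p := p) X // f ≠ 1}, f.1.1 ≠ 1 := by
    intro f h
    exact f.2 (Subtype.ext h)
  let κ : {f : homKilling (p := p) X // f ≠ 1} →
      {M : Subgroup L // Nat.card M = p ^ β ∧ X ≤ M} :=
    fun f => ⟨f.1.1.ker, card_ker_of_ne_one hL f.1.1 (hne f), fun m hm => f.1.2 m hm⟩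
  apply card_eq_mul_of_fibers κ
  rintro ⟨M, hM, hXM⟩
  have h1 := card_homKilling (p := p) hL M hM
  rw [← Nat.card_congr (Equiv.optionSubtypeNe (1 : homKilling (p := p) M)),
    Finite.card_option] at h1
  have h2 : Nat.card {b : homKilling (p := p) M // b ≠ 1} = p - 1 := by omega
  rw [← h2]
  apply Nat.card_congr
  refine ⟨fun f => ⟨⟨f.1.1.1, ?_⟩, ?_⟩, fun g => ⟨⟨⟨g.1.1, ?_⟩, ?_⟩, ?_⟩, ?_, ?_⟩
  · intro m hm
    have : f.1.1.1.ker = M := congrArg Subtype.val f.2
    rw [← this] at hm
    exact hm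
  · intro h
    exact hne f.1 (congrArg Subtype.val h)
  · intro m hm
    exact g.1.2 m (hXM hm)
  · intro h
    have h' : g.1.1 = 1 := congrArg Subtype.val h
    exact g.2 (Subtype.ext h')
  · apply Subtype.ext
    change g.1.1.ker = M
    have hle : M ≤ g.1.1.ker := fun m hm => g.1.2 m hm
    have hne' : g.1.1 ≠ 1 := fun h => g.2 (Subtype.ext h)
    exact (Subgroup.eq_of_le_of_card_ge hle (by rw [card_ker_of_ne_one hL _ hne', hM])).symm
  · intro f; rfl
  · intro g; rfl

end Over

section Two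

variable {L : Type u} [Group L] [Finite L]

/-- In a `2`-group every proper subgroup lies in an odd number of maximal subgroups. -/
theorem odd_card_maximal_over {β : ℕ} (hL : Nat.card L = 2 ^ (β + 1)) (X : Subgroup L)
    (hX : X ≠ ⊤) : Odd (Nat.card {M : Subgroup L // Nat.card M = 2 ^ β ∧ X ≤ M}) := by
  haveI : Fact (Nat.Prime 2) := ⟨Nat.prime_two⟩
  have h1 := card_homKilling_eq (p := 2) hL X
  obtain ⟨e, he⟩ := IsPGroup.iff_card.1
    ((isPGroup_hom (L := L) (p := 2)).to_subgroup (homKilling (p := 2) X))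
  -- there is a maximal subgroup over X
  have hXcard : Nat.card X ∣ 2 ^ (β + 1) := hL ▸ Subgroup.card_subgroup_dvd_card X
  obtain ⟨j, hj, hXj⟩ := (Nat.dvd_prime_pow Nat.prime_two).1 hXcard
  have hjne : j ≠ β + 1 := by
    intro h
    apply hX
    rw [← Subgroup.card_eq_iff_eq_top, hXj, hL, h]
  have hdvd : 2 ^ β ∣ Nat.card L := by rw [hL]; exact pow_dvd_pow 2 (Nat.le_succ β)
  obtain ⟨K, hK, hle⟩ := Sylow.exists_subgroup_card_pow_prime_le 2 hdvd X hXj (by omega)
  have hpos : 0 < Nat.card {M : Subgroup L // Nat.card M = 2 ^ β ∧ X ≤ M} :=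
    Nat.card_pos_iff.2 ⟨⟨⟨K, hK, hle⟩⟩, inferInstance⟩
  rw [he] at h1
  have he1 : 1 ≤ e := by
    by_contra hcon
    have : e = 0 := by omega
    rw [this] at h1
    omega
  have heven : Even (2 ^ e) := (Nat.even_pow' (by omega)).2 even_two
  rw [Nat.odd_iff]
  have := Nat.even_iff.1 heven
  omega

/-- The number of cyclic subgroups of order `2 ^ j`. -/
noncomputable def cyc (L : Type u) [Group L] (j : ℕ) : ℕ :=
  Nat.card {X : Subgroup L // IsCyclic X ∧ Nat.card X = 2 ^ j}

omit [Finite L] in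
theorem cyc_subgroup (M : Subgroup L) (j : ℕ) :
    Nat.card {X : Subgroup L // X ≤ M ∧ IsCyclic X ∧ Nat.card X = 2 ^ j} = cyc ↥M j := by
  unfold cyc
  apply Nat.card_congr
  refine ⟨fun X => ⟨X.1.subgroupOf M, ?_, ?_⟩, fun Y => ⟨Y.1.map M.subtype, ?_, ?_, ?_⟩, ?_, ?_⟩
  · haveI := X.2.2.1
    exact isCyclic_of_surjective (Subgroup.subgroupOfEquivOfLe X.2.1).symm.toMonoidHom
      (Subgroup.subgroupOfEquivOfLe X.2.1).symm.surjective
  · rw [Nat.card_congr (Subgroup.subgroupOfEquivOfLe X.2.1).toEquiv]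
    exact X.2.2.2
  · exact Subgroup.map_subtype_le _
  · haveI := Y.2.1
    exact isCyclic_of_surjective (Subgroup.equivMapOfInjective Y.1 M.subtype
      (Subgroup.subtype_injective M)).toMonoidHom
      (Subgroup.equivMapOfInjective Y.1 M.subtype (Subgroup.subtype_injective M)).surjective
  · rw [Subgroup.card_map_of_injective (Subgroup.subtype_injective M)]
    exact Y.2.2
  · intro X
    apply Subtype.ext
    change (X.1.subgroupOf M).map M.subtype = X.1
    rw [Subgroup.map_subgroupOf_eq_of_le X.2.1]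
  · intro Y
    apply Subtype.ext
    change (Y.1.map M.subtype).subgroupOf M = Y.1
    rw [Subgroup.subgroupOf, Subgroup.comap_map_eq_self_of_injective (Subgroup.subtype_injective M)]

/-- Mod-2 recursion for the number of cyclic subgroups of order `2 ^ j` over the maximal
subgroups. -/
theorem cyc_recursion {β : ℕ} (hL : Nat.card L = 2 ^ (β + 1)) (j : ℕ) (hj : j ≤ β) :
    cyc L j ≡ Nat.card {M : Subgroup L // Nat.card M = 2 ^ β ∧ Odd (cyc ↥M j)} [MOD 2] := by
  classical
  let P := {q : {X : Subgroup L // IsCyclic X ∧ Nat.card X = 2 ^ j} ×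
      {M : Subgroup L // Nat.card M = 2 ^ β} // q.1.1 ≤ q.2.1}
  have h1 := card_modEq_card_odd_fibers (fun q : P => q.1.1)
  have h2 := card_modEq_card_odd_fibers (fun q : P => q.1.2)
  have hfibX : ∀ X : {X : Subgroup L // IsCyclic X ∧ Nat.card X = 2 ^ j},
      Nat.card {q : P // q.1.1 = X} =
        Nat.card {M : Subgroup L // Nat.card M = 2 ^ β ∧ X.1 ≤ M} := by
    intro X
    apply Nat.card_congr
    refine ⟨fun q => ⟨q.1.1.2.1, q.1.1.2.2, ?_⟩, fun M => ⟨⟨(X, ⟨M.1, M.2.1⟩), M.2.2⟩, rfl⟩, ?_, ?_⟩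
    · have := q.1.2
      rw [q.2] at this
      exact this
    · rintro ⟨⟨⟨X', M⟩, hle⟩, rfl⟩
      rfl
    · intro M; rfl
  have hfibM : ∀ M : {M : Subgroup L // Nat.card M = 2 ^ β},
      Nat.card {q : P // q.1.2 = M} = cyc ↥M.1 j := by
    intro M
    rw [← cyc_subgroup]
    apply Nat.card_congr
    refine ⟨fun q => ⟨q.1.1.1.1, ?_, q.1.1.1.2.1, q.1.1.1.2.2⟩,
      fun X => ⟨⟨(⟨X.1, X.2.2.1, X.2.2.2⟩, M), X.2.1⟩, rfl⟩, ?_, ?_⟩
    · have := q.1.2
      rw [q.2] at this
      exact this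
    · rintro ⟨⟨⟨X', M'⟩, hle⟩, rfl⟩
      rfl
    · intro X; rfl
  have hX : Nat.card {X : {X : Subgroup L // IsCyclic X ∧ Nat.card X = 2 ^ j} //
      Odd (Nat.card {q : P // q.1.1 = X})} = cyc L j := by
    unfold cyc
    apply Nat.card_congr
    refine (Equiv.subtypeUnivEquiv ?_)
    intro X
    rw [hfibX]
    apply odd_card_maximal_over hL
    intro htop
    have h3 := X.2.2
    rw [htop, Subgroup.card_top, hL] at h3
    have := Nat.pow_right_injective (le_refl 2) h3
    omega
  have hM : Nat.card {M : {M : Subgroup L // Nat.card M = 2 ^ β} //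
      Odd (Nat.card {q : P // q.1.2 = M})} =
      Nat.card {M : Subgroup L // Nat.card M = 2 ^ β ∧ Odd (cyc ↥M j)} := by
    apply Nat.card_congr
    refine ⟨fun M => ⟨M.1.1, M.1.2, ?_⟩, fun M => ⟨⟨M.1, M.2.1⟩, ?_⟩, ?_, ?_⟩
    · have := M.2
      rw [hfibM] at this
      exact this
    · rw [hfibM]
      exact M.2.2
    · intro M; rfl
    · intro M; rfl
  rw [hX] at h1
  rw [hM] at h2
  exact h1.symm.trans h2

end Two

end Cfsg.Agent.Helper3.Kul
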