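import Mathlib
import Cfsg.Agent.Helper3.KulA

set_option autoImplicit false

/-!
`2`-groups with a cyclic subgroup of index `2`: the number of cyclic maximal subgroups.
-/

namespace Cfsg.Agent.Helper3.Kul

open Cfsg.Agent.Helper4.HallEnum

universe u

variable {L : Type u} [Group L] [Finite L]

/-- Elements of order `2 ^ n` against cyclic subgroups of order `2 ^ n`. -/
theorem card_orderOf_eq_mul (n : ℕ) (hn : 1 ≤ n) :
    Nat.card {g : L // orderOf g = 2 ^ n} =
      Nat.card {M : Subgroup L // Nat.card M = 2 ^ n ∧ IsCyclic M} * 2 ^ (n - 1) := by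
  classical
  let κ : {g : L // orderOf g = 2 ^ n} → {M : Subgroup L // Nat.card M = 2 ^ n ∧ IsCyclic M} :=
    fun g => ⟨Subgroup.zpowers g.1, by rw [Nat.card_zpowers, g.2], inferInstance⟩
  apply card_eq_mul_of_fibers κ
  rintro ⟨M, hM, hcyc⟩
  haveI := hcyc
  haveI : Fintype ↥M := Fintype.ofFinite _
  have h1 := IsCyclic.card_orderOf_eq_totient (α := ↥M) (d := 2 ^ n)
    (by rw [← Nat.card_eq_fintype_card, hM])
  rw [Nat.totient_prime_pow Nat.prime_two (by omega)] at h1
  have h2 : Nat.card {y : ↥M // orderOf y = 2 ^ n} = 2 ^ (n - 1) := by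
    rw [Nat.card_eq_fintype_card, Fintype.card_subtype]
    simpa using h1
  rw [← h2]
  apply Nat.card_congr
  refine ⟨fun g => ⟨⟨g.1.1, ?_⟩, ?_⟩, fun y => ⟨⟨y.1.1, ?_⟩, ?_⟩, ?_, ?_⟩
  · have h3 : Subgroup.zpowers g.1.1 = M := congrArg Subtype.val g.2
    have h4 := Subgroup.mem_zpowers g.1.1
    rw [h3] at h4
    exact h4
  · rw [Subgroup.orderOf_mk]; exact g.1.2
  · rw [Subgroup.orderOf_coe]; exact y.2
  · apply Subtype.ext
    change Subgroup.zpowers y.1.1 = M
    apply Subgroup.eq_of_le_of_card_ge (Subgroup.zpowers_le.2 y.1.2)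
    rw [Nat.card_zpowers, hM, Subgroup.orderOf_coe, y.2]
  · intro g; rfl
  · intro y; rfl

section CyclicMax

variable {n : ℕ} (hn : 2 ≤ n) (hL : Nat.card L = 2 ^ (n + 1)) (x : L) (hx : orderOf x = 2 ^ n)

include hL hx in
theorem index_zpowers : (Subgroup.zpowers x).index = 2 := by
  have h1 := Subgroup.card_mul_index (Subgroup.zpowers x)
  rw [Nat.card_zpowers, hx, hL, pow_succ] at h1
  exact Nat.eq_of_mul_eq_mul_left (pow_pos (by norm_num) n) h1

include hn hL hx in
/-- For `g ^ 2 = x ^ i`: `g` has order `2 ^ n` iff `i ≡ 2 (mod 4)`. -/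
theorem orderOf_eq_iff (g : L) (i : ℤ) (hg : g ^ 2 = x ^ i) :
    orderOf g = 2 ^ n ↔ ((2 : ℤ) ∣ i ∧ ¬ (4 : ℤ) ∣ i) := by
  obtain ⟨k, rfl⟩ : ∃ k, n = k + 2 := ⟨n - 2, by omega⟩
  have h1 : g ^ 2 ^ (k + 2) = 1 ↔ (2 : ℤ) ∣ i := by
    have : g ^ 2 ^ (k + 2) = x ^ (i * 2 ^ (k + 1)) := by
      rw [zpow_mul, ← hg, ← zpow_natCast, ← zpow_natCast, ← zpow_mul]
      congr 1
      push_cast
      ring
    rw [this, ← orderOf_dvd_iff_zpow_eq_one, hx]
    push_cast
    constructor
    · intro h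
      have h2 : ((2 : ℤ) ^ (k + 1)) * 2 ∣ 2 ^ (k + 1) * i := by
        have : (2 : ℤ) ^ (k + 2) = 2 ^ (k + 1) * 2 := by ring
        rw [← this, mul_comm]; exact h
      exact (mul_dvd_mul_iff_left (by positivity)).1 h2
    · rintro ⟨t, rfl⟩
      exact ⟨t, by ring⟩
  have h2 : g ^ 2 ^ (k + 1) = 1 ↔ (4 : ℤ) ∣ i := by
    have : g ^ 2 ^ (k + 1) = x ^ (i * 2 ^ k) := by
      rw [zpow_mul, ← hg, ← zpow_natCast, ← zpow_natCast, ← zpow_mul]
      congr 1
      push_cast
      ring
    rw [this, ← orderOf_dvd_iff_zpow_eq_one, hx]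
    push_cast
    constructor
    · intro h
      have h2 : ((2 : ℤ) ^ k) * 4 ∣ 2 ^ k * i := by
        have : (2 : ℤ) ^ (k + 2) = 2 ^ k * 4 := by ring
        rw [← this, mul_comm]; exact h
      exact (mul_dvd_mul_iff_left (by positivity)).1 h2
    · rintro ⟨t, rfl⟩
      exact ⟨t, by ring⟩
  constructor
  · intro ho
    refine ⟨h1.1 ?_, fun h4 => ?_⟩
    · rw [← ho]; exact pow_orderOf_eq_one g
    · have := h2.2 h4
      rw [← orderOf_dvd_iff_pow_eq_one, ho] at this
      have := Nat.le_of_dvd (by positivity) this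
      rw [pow_succ] at this
      have hpos : 0 < 2 ^ (k + 1) := by positivity
      omega
  · rintro ⟨hi2, hi4⟩
    haveI : Fact (Nat.Prime 2) := ⟨Nat.prime_two⟩
    exact orderOf_eq_prime_pow (fun h => hi4 (h2.1 h)) (h1.2 hi2)

include hL in
theorem pow_card_pow (hnc : ¬ IsCyclic L) (g : L) : g ^ 2 ^ n = 1 := by
  have hdvd : orderOf g ∣ 2 ^ (n + 1) := hL ▸ orderOf_dvd_natCard g
  obtain ⟨k, hk, hgk⟩ := (Nat.dvd_prime_pow Nat.prime_two).1 hdvd
  have hkn : k ≠ n + 1 := by
    intro h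
    apply hnc
    apply isCyclic_of_orderOf_eq_card g
    rw [hgk, h, hL]
  rw [← orderOf_dvd_iff_pow_eq_one, hgk]
  exact pow_dvd_pow 2 (by omega)

include hn hL hx in
theorem two_dvd_of_sq_eq (hnc : ¬ IsCyclic L) (g : L) (i : ℤ) (hg : g ^ 2 = x ^ i) :
    (2 : ℤ) ∣ i := by
  obtain ⟨k, rfl⟩ : ∃ k, n = k + 2 := ⟨n - 2, by omega⟩
  have h0 := pow_card_pow hL hnc g
  have : g ^ 2 ^ (k + 2) = x ^ (i * 2 ^ (k + 1)) := by
    rw [zpow_mul, ← hg, ← zpow_natCast, ← zpow_natCast, ← zpow_mul]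
    congr 1
    push_cast
    ring
  rw [this, ← orderOf_dvd_iff_zpow_eq_one, hx] at h0
  push_cast at h0
  have h2 : ((2 : ℤ) ^ (k + 1)) * 2 ∣ 2 ^ (k + 1) * i := by
    have : (2 : ℤ) ^ (k + 2) = 2 ^ (k + 1) * 2 := by ring
    rw [← this, mul_comm]; exact h0
  exact (mul_dvd_mul_iff_left (by positivity)).1 h2

include hL hx in
theorem exists_sq_eq (g : L) : ∃ i : ℤ, g ^ 2 = x ^ i := by
  have := Subgroup.sq_mem_of_index_two (index_zpowers hL x hx) g
  obtain ⟨i, hi⟩ := Subgroup.mem_zpowers_iff.1 this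
  exact ⟨i, hi.symm⟩

include hL hx in
theorem normal_zpowers : (Subgroup.zpowers x).Normal :=
  Subgroup.normal_of_index_eq_two (index_zpowers hL x hx)

include hL hx in
theorem card_not_mem_zpowers :
    Nat.card {g : L // g ∉ Subgroup.zpowers x} = 2 ^ n := by
  classical
  haveI : Fintype L := Fintype.ofFinite L
  have h1 : Nat.card {g : L // g ∈ Subgroup.zpowers x} = 2 ^ n := by
    have := Nat.card_zpowers x
    rw [hx] at this
    exact this
  have h2 : Nat.card {g : L // g ∈ Subgroup.zpowers x} +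
      Nat.card {g : L // g ∉ Subgroup.zpowers x} = Nat.card L := by
    rw [Nat.card_eq_fintype_card, Nat.card_eq_fintype_card, Nat.card_eq_fintype_card]
    have h3 := Fintype.card_subtype_compl (fun g : L => g ∈ Subgroup.zpowers x)
    have h4 := Fintype.card_subtype_le (fun g : L => g ∈ Subgroup.zpowers x)
    omega
  rw [h1, hL] at h2
  have h5 : 2 ^ (n + 1) = 2 * 2 ^ n := pow_succ' 2 n
  omega

include hx in
theorem card_mem_zpowers_orderOf (hn1 : 1 ≤ n) :
    Nat.card {g : L // g ∈ Subgroup.zpowers x ∧ orderOf g = 2 ^ n} = 2 ^ (n - 1) := by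
  classical
  haveI : Fintype ↥(Subgroup.zpowers x) := Fintype.ofFinite _
  have h1 := IsCyclic.card_orderOf_eq_totient (α := ↥(Subgroup.zpowers x)) (d := 2 ^ n)
    (by rw [← Nat.card_eq_fintype_card, Nat.card_zpowers, hx])
  rw [Nat.totient_prime_pow Nat.prime_two (by omega)] at h1
  have h2 : Nat.card {y : ↥(Subgroup.zpowers x) // orderOf y = 2 ^ n} = 2 ^ (n - 1) := by
    rw [Nat.card_eq_fintype_card, Fintype.card_subtype]
    simpa using h1
  rw [← h2]
  apply Nat.card_congr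
  refine ⟨fun g => ⟨⟨g.1, g.2.1⟩, ?_⟩, fun y => ⟨y.1.1, y.1.2, ?_⟩, ?_, ?_⟩
  · rw [Subgroup.orderOf_mk]; exact g.2.2
  · rw [Subgroup.orderOf_coe]; exact y.2
  · intro g; rfl
  · intro y; rfl

/-- Splitting the elements of order `2 ^ n` into those inside and outside `⟨x⟩`. -/
theorem card_orderOf_split :
    Nat.card {g : L // orderOf g = 2 ^ n} =
      Nat.card {g : L // g ∈ Subgroup.zpowers x ∧ orderOf g = 2 ^ n} +
        Nat.card {g : L // g ∉ Subgroup.zpowers x ∧ orderOf g = 2 ^ n} := by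
  classical
  haveI : Fintype L := Fintype.ofFinite L
  rw [Nat.card_eq_fintype_card, Nat.card_eq_fintype_card, Nat.card_eq_fintype_card,
    Fintype.card_subtype, Fintype.card_subtype, Fintype.card_subtype,
    ← Finset.card_filter_add_card_filter_not (fun g : L => g ∈ Subgroup.zpowers x),
    Finset.filter_filter, Finset.filter_filter]
  congr 2
  · ext g; simp only [Finset.mem_filter, Finset.mem_univ, true_and]; tauto
  · ext g; simp only [Finset.mem_filter, Finset.mem_univ, true_and]; tauto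

include hn hL hx in
/-- If right multiplication by `x` flips "has order `2 ^ n`" outside `⟨x⟩`, there are exactly two
cyclic maximal subgroups. -/
theorem card_cyclic_max_eq_two
    (hswap : ∀ g : L, g ∉ Subgroup.zpowers x → (orderOf (g * x) = 2 ^ n ↔ ¬ orderOf g = 2 ^ n)) :
    Nat.card {M : Subgroup L // Nat.card M = 2 ^ n ∧ IsCyclic M} = 2 := by
  classical
  have hidx := index_zpowers hL x hx
  have hxZ : x ∈ Subgroup.zpowers x := Subgroup.mem_zpowers x
  have hmulx : ∀ g : L, g ∉ Subgroup.zpowers x → g * x ∉ Subgroup.zpowers x := by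
    intro g hg h
    exact hg ((Subgroup.mul_mem_cancel_right _ hxZ).1 h)
  have hmulx' : ∀ g : L, g ∉ Subgroup.zpowers x → g * x⁻¹ ∉ Subgroup.zpowers x := by
    intro g hg h
    exact hg ((Subgroup.mul_mem_cancel_right _ (inv_mem hxZ)).1 h)
  have heq : Nat.card {g : L // g ∉ Subgroup.zpowers x ∧ orderOf g = 2 ^ n} =
      Nat.card {g : L // g ∉ Subgroup.zpowers x ∧ ¬ orderOf g = 2 ^ n} := by
    apply Nat.card_congr
    refine ⟨fun g => ⟨g.1 * x⁻¹, hmulx' g.1 g.2.1, ?_⟩, fun g => ⟨g.1 * x, hmulx g.1 g.2.1, ?_⟩,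
      ?_, ?_⟩
    · intro h
      have := (hswap (g.1 * x⁻¹) (hmulx' g.1 g.2.1)).1 (by
        rw [inv_mul_cancel_right]; exact g.2.2)
      exact this h
    · exact (hswap g.1 g.2.1).2 g.2.2
    · intro g; apply Subtype.ext; simp
    · intro g; apply Subtype.ext; simp
  have hsum : Nat.card {g : L // g ∉ Subgroup.zpowers x ∧ orderOf g = 2 ^ n} +
      Nat.card {g : L // g ∉ Subgroup.zpowers x ∧ ¬ orderOf g = 2 ^ n} =
      Nat.card {g : L // g ∉ Subgroup.zpowers x} := by
    haveI : Fintype L := Fintype.ofFinite L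
    rw [Nat.card_eq_fintype_card, Nat.card_eq_fintype_card, Nat.card_eq_fintype_card,
      Fintype.card_subtype, Fintype.card_subtype, Fintype.card_subtype,
      ← Finset.card_filter_add_card_filter_not (s := Finset.univ.filter
        (fun g : L => g ∉ Subgroup.zpowers x)) (fun g : L => orderOf g = 2 ^ n),
      Finset.filter_filter, Finset.filter_filter]
  have hW := card_not_mem_zpowers hL x hx
  have h1 := card_orderOf_eq_mul (L := L) n (by omega)
  rw [card_orderOf_split x, card_mem_zpowers_orderOf x hx (by omega)] at h1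
  obtain ⟨k, rfl⟩ : ∃ k, n = k + 1 := ⟨n - 1, by omega⟩
  rw [Nat.add_sub_cancel] at h1
  have h2k : 2 ^ (k + 1) = 2 * 2 ^ k := pow_succ' 2 k
  have hT : Nat.card {g : L // g ∉ Subgroup.zpowers x ∧ orderOf g = 2 ^ (k + 1)} = 2 ^ k := by
    omega
  rw [hT] at h1
  have hpos : 0 < 2 ^ k := by positivity
  have : 2 * 2 ^ k = Nat.card {M : Subgroup L // Nat.card M = 2 ^ (k + 1) ∧ IsCyclic M} * 2 ^ k := by
    rw [← h1]; ring
  exact (Nat.eq_of_mul_eq_mul_right hpos this).symm

include hn hL hx in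
/-- If right multiplication by `x` preserves "has order `2 ^ n`" outside `⟨x⟩`, the number of
cyclic maximal subgroups is odd. -/
theorem odd_card_cyclic_max
    (hkeep : ∀ g : L, g ∉ Subgroup.zpowers x → (orderOf (g * x) = 2 ^ n ↔ orderOf g = 2 ^ n)) :
    Odd (Nat.card {M : Subgroup L // Nat.card M = 2 ^ n ∧ IsCyclic M}) := by
  classical
  have hidx := index_zpowers hL x hx
  have hxZ : x ∈ Subgroup.zpowers x := Subgroup.mem_zpowers x
  have hmulx : ∀ g : L, g ∉ Subgroup.zpowers x → g * x ∉ Subgroup.zpowers x := by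
    intro g hg h
    exact hg ((Subgroup.mul_mem_cancel_right _ hxZ).1 h)
  have hmulx' : ∀ g : L, g ∉ Subgroup.zpowers x → g * x⁻¹ ∉ Subgroup.zpowers x := by
    intro g hg h
    exact hg ((Subgroup.mul_mem_cancel_right _ (inv_mem hxZ)).1 h)
  have hz : ∀ g : L, g ∉ Subgroup.zpowers x → orderOf g = 2 ^ n → ∀ t : ℤ,
      orderOf (g * x ^ t) = 2 ^ n := by
    intro g hg ho t
    induction t using Int.induction_on with
    | zero => simpa using ho
    | succ i ih =>
      have hmem : g * x ^ (i : ℤ) ∉ Subgroup.zpowers x := by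
        intro h
        exact hg ((Subgroup.mul_mem_cancel_right _ (Subgroup.zpow_mem_zpowers x _)).1 h)
      have := (hkeep _ hmem).2 ih
      rwa [mul_assoc, ← zpow_add_one] at this
    | pred i ih =>
      have hmem : g * x ^ (-(i : ℤ) - 1) ∉ Subgroup.zpowers x := by
        intro h
        exact hg ((Subgroup.mul_mem_cancel_right _ (Subgroup.zpow_mem_zpowers x _)).1 h)
      have := (hkeep _ hmem).1 (by
        rw [mul_assoc, ← zpow_add_one, sub_add_cancel]; exact ih)
      exact this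
  have h1 := card_orderOf_eq_mul (L := L) n (by omega)
  rw [card_orderOf_split x, card_mem_zpowers_orderOf x hx (by omega)] at h1
  obtain ⟨k, rfl⟩ : ∃ k, n = k + 1 := ⟨n - 1, by omega⟩
  rw [Nat.add_sub_cancel] at h1
  have hpos : 0 < 2 ^ k := by positivity
  by_cases hT : ∃ g₀ : L, g₀ ∉ Subgroup.zpowers x ∧ orderOf g₀ = 2 ^ (k + 1)
  · obtain ⟨g₀, hg₀, ho₀⟩ := hT
    have hall : ∀ g : L, g ∉ Subgroup.zpowers x → orderOf g = 2 ^ (k + 1) := by
      intro g hg
      have hmem : g₀⁻¹ * g ∈ Subgroup.zpowers x := by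
        rw [Subgroup.mul_mem_iff_of_index_two hidx]
        constructor
        · intro h; exact absurd (inv_mem_iff.1 h) hg₀
        · intro h; exact absurd h hg
      obtain ⟨t, ht⟩ := Subgroup.mem_zpowers_iff.1 hmem
      have := hz g₀ hg₀ ho₀ t
      rwa [ht, mul_inv_cancel_left] at this
    have hTc : Nat.card {g : L // g ∉ Subgroup.zpowers x ∧ orderOf g = 2 ^ (k + 1)} =
        2 ^ (k + 1) := by
      refine Eq.trans ?_ (card_not_mem_zpowers hL x hx)
      apply Nat.card_congr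
      exact ⟨fun g => ⟨g.1, g.2.1⟩, fun g => ⟨g.1, g.2, hall g.1 g.2⟩, fun g => rfl, fun g => rfl⟩
    rw [hTc] at h1
    have h2k : 2 ^ (k + 1) = 2 * 2 ^ k := pow_succ' 2 k
    have : 3 * 2 ^ k =
        Nat.card {M : Subgroup L // Nat.card M = 2 ^ (k + 1) ∧ IsCyclic M} * 2 ^ k := by
      rw [← h1]; omega
    rw [← Nat.eq_of_mul_eq_mul_right hpos this]
    exact ⟨1, by norm_num⟩
  · have hTc : Nat.card {g : L // g ∉ Subgroup.zpowers x ∧ orderOf g = 2 ^ (k + 1)} = 0 := by
      rw [Nat.card_eq_zero]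
      left
      constructor
      rintro ⟨g, hg, ho⟩
      exact hT ⟨g, hg, ho⟩
    rw [hTc, add_zero] at h1
    have : 1 * 2 ^ k =
        Nat.card {M : Subgroup L // Nat.card M = 2 ^ (k + 1) ∧ IsCyclic M} * 2 ^ k := by
      rw [← h1]; ring
    rw [← Nat.eq_of_mul_eq_mul_right hpos this]
    exact odd_one

end CyclicMax

end Cfsg.Agent.Helper3.Kul
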