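import Mathlib
import Cfsg.Agent.Helper3.KulB
import Cfsg.Agent.Helper4.Conj
import Cfsg.Agent.Helper1.MaxClassKlein
import Cfsg.Agent.Helper1.MaxClassNormal

set_option autoImplicit false

/-!
Parity of the number of cyclic maximal subgroups of a `2`-group with a cyclic maximal subgroup:
even when the group is not of maximal class, odd when it is.
-/

namespace Cfsg.Agent.Helper3.Kul

open scoped Pointwise
open Cfsg.Agent.Helper4.HallEnum Cfsg.Agent.Helper3 Cfsg.Agent.Helper4

universe u

variable {L : Type u} [Group L] [Finite L]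

/-- Modulo 2 only the normal cyclic subgroups count. -/
theorem cyc_modEq_normal (hL : IsPGroup 2 L) (j : ℕ) :
    cyc L j ≡ Nat.card {X : Subgroup L // X.Normal ∧ IsCyclic X ∧ Nat.card X = 2 ^ j} [MOD 2] := by
  classical
  have : Fintype (Subgroup L) := Fintype.ofFinite _
  letI act : MulAction L (Subgroup L) :=
    MulAction.compHom (Subgroup L) (MulAut.conj : L →* MulAut L)
  have hsmul : ∀ (g : L) (X : Subgroup L),
      g • X = X.map (MulAut.conj (g : L)).toMonoidHom := fun _ _ => rfl
  set s₀ := Finset.univ.filter (fun X : Subgroup L => IsCyclic X ∧ Nat.card X = 2 ^ j) with hs₀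
  set s := s₀.filter (fun X : Subgroup L => ¬ X.Normal) with hs
  have hdvd : 2 ∣ s.card := by
    apply dvd_card_finset_of_dvd_index (S := L) (α := Subgroup L) 2 s
    · intro g X hX
      rw [hs, Finset.mem_filter, hs₀, Finset.mem_filter] at hX ⊢
      obtain ⟨⟨-, hXc, hXcard⟩, hXP⟩ := hX
      rw [hsmul]
      refine ⟨⟨Finset.mem_univ _, ?_, ?_⟩, ?_⟩
      · haveI := hXc
        exact isCyclic_of_surjective
          (X.equivMapOfInjective _ (MulAut.conj (g : L)).injective).toMonoidHom
          (X.equivMapOfInjective _ (MulAut.conj (g : L)).injective).surjective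
      · rw [Subgroup.card_map_of_injective (MulAut.conj (g : L)).injective]
        exact hXcard
      · intro hnor
        apply hXP
        constructor
        intro x hx a
        have h1 : g * x * g⁻¹ ∈ X.map (MulAut.conj g).toMonoidHom := by
          rw [mem_map_conj_iff]
          have : g⁻¹ * (g * x * g⁻¹) * g = x := by group
          rw [this]; exact hx
        have h2 := hnor.conj_mem _ h1 (g * a * g⁻¹)
        rw [mem_map_conj_iff] at h2
        have : g⁻¹ * (g * a * g⁻¹ * (g * x * g⁻¹) * (g * a * g⁻¹)⁻¹) * g = a * x * a⁻¹ := by group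
        rwa [this] at h2
    · intro X hX
      rw [hs, Finset.mem_filter, hs₀, Finset.mem_filter] at hX
      obtain ⟨⟨-, hXc, hXcard⟩, hXP⟩ := hX
      obtain ⟨n, hn⟩ := hL.index (MulAction.stabilizer L X)
      rcases Nat.eq_zero_or_pos n with h0 | h0
      · exfalso
        rw [h0, pow_zero, Subgroup.index_eq_one] at hn
        apply hXP
        rw [← Subgroup.normalizer_eq_top_iff, eq_top_iff]
        intro g _
        have h1 : g ∈ MulAction.stabilizer L X := by
          rw [hn]; exact Subgroup.mem_top _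
        rw [MulAction.mem_stabilizer_iff, hsmul] at h1
        exact mem_normalizer_of_map_conj_eq X g h1
      · rw [hn]
        exact dvd_pow_self 2 (by omega)
  have h1 : cyc L j = s₀.card := by
    unfold cyc
    rw [hs₀, Nat.card_eq_fintype_card, Fintype.card_subtype]
  have h2 : Nat.card {X : Subgroup L // X.Normal ∧ IsCyclic X ∧ Nat.card X = 2 ^ j} =
      (s₀.filter (fun X : Subgroup L => X.Normal)).card := by
    rw [hs₀, Finset.filter_filter, Nat.card_eq_fintype_card, Fintype.card_subtype]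
    congr 1
    ext X
    simp only [Finset.mem_filter, Finset.mem_univ, true_and]
    tauto
  have h3 : (s₀.filter (fun X : Subgroup L => X.Normal)).card + s.card = s₀.card :=
    Finset.card_filter_add_card_filter_not _
  rw [h1, h2, ← h3]
  obtain ⟨k, hk⟩ := hdvd
  rw [hk]
  unfold Nat.ModEq
  rw [Nat.add_mul_mod_self_left]

/-- A noncyclic `2`-group of order `2 ^ (n + 1)` not of maximal class has `|L : L'| ≥ 8`. -/
theorem card_commutator_dvd {n : ℕ} (hn : 2 ≤ n) (hL : Nat.card L = 2 ^ (n + 1))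
    (hnc : ¬ IsCyclic L) (hcl : Group.nilpotencyClass L ≠ n) :
    Nat.card (commutator L) ∣ 2 ^ (n - 2) := by
  haveI : Fact (Nat.Prime 2) := ⟨Nat.prime_two⟩
  have hLp : IsPGroup 2 L := IsPGroup.of_card hL
  obtain ⟨a, ha⟩ := IsPGroup.iff_card.1 (hLp.to_subgroup (commutator L))
  have hmul := Subgroup.card_mul_index (commutator L)
  have hidx : (commutator L).index ∣ 2 ^ (n + 1) := hL ▸ Subgroup.index_dvd_card _
  obtain ⟨t, ht, hidxt⟩ := (Nat.dvd_prime_pow Nat.prime_two).1 hidx
  rw [ha, hidxt, hL, ← pow_add] at hmul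
  have hat : a + t = n + 1 := Nat.pow_right_injective (le_refl 2) hmul
  have hQcard : Nat.card (L ⧸ commutator L) = 2 ^ t := by
    rw [← Subgroup.index_eq_card, hidxt]
  have ht3 : 3 ≤ t := by
    by_contra hcon
    have hQnc : ¬ IsCyclic (L ⧸ commutator L) := by
      intro hc
      have hbot := Cfsg.Agent.Helper1.commutator_eq_bot_of_cyclic_quotient hLp hc
      have hinj : Function.Injective (QuotientGroup.mk' (commutator L)) := by
        rw [← MonoidHom.ker_eq_bot_iff, QuotientGroup.ker_mk', hbot]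
      let e : L ≃* L ⧸ commutator L :=
        MulEquiv.ofBijective (QuotientGroup.mk' (commutator L))
          ⟨hinj, QuotientGroup.mk'_surjective _⟩
      exact hnc (isCyclic_of_surjective e.symm.toMonoidHom e.symm.surjective)
    have ht2 : t = 2 := by
      by_contra h2
      apply hQnc
      have : t = 0 ∨ t = 1 := by omega
      rcases this with h | h
      · rw [h, pow_zero] at hQcard
        haveI : Subsingleton (L ⧸ commutator L) := (Nat.card_eq_one_iff_unique.1 hQcard).1
        exact isCyclic_of_subsingleton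
      · rw [h, pow_one] at hQcard
        exact isCyclic_of_prime_card hQcard
    rw [ht2] at hQcard hidxt
    have hsq : ∀ q : L ⧸ commutator L, q ^ 2 = 1 := by
      intro q
      have hdvd : orderOf q ∣ 2 ^ 2 := hQcard ▸ orderOf_dvd_natCard q
      obtain ⟨k, hk, hqk⟩ := (Nat.dvd_prime_pow Nat.prime_two).1 hdvd
      have hk2 : k ≠ 2 := by
        intro h
        apply hQnc
        apply isCyclic_of_orderOf_eq_card q
        rw [hqk, h, hQcard]
      rw [← orderOf_dvd_iff_pow_eq_one, hqk]
      have : k ≤ 1 := by omega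
      calc 2 ^ k ∣ 2 ^ 1 := pow_dvd_pow 2 this
        _ = 2 := pow_one 2
    have hK : IsKleinFour (L ⧸ commutator L) := by
      rw [Cfsg.Agent.Helper1.isKleinFour_abelianization_iff]
      refine ⟨by rw [hidxt]; norm_num, fun x => ?_⟩
      have := hsq (QuotientGroup.mk x)
      rwa [← QuotientGroup.mk_pow, QuotientGroup.eq_one_iff] at this
    have := (Cfsg.Agent.Helper1.maxClass_iff_kleinFour (n + 1) (by omega) hL).2 hK
    rw [Nat.add_sub_cancel] at this
    exact hcl this
  rw [ha]
  exact pow_dvd_pow 2 (by omega)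

/-- `(g x)² = x ^ (i + r + 1)` when `g² = x ^ i` and `g⁻¹ x g = x ^ r`. -/
theorem mul_sq_eq (x g : L) (i r : ℤ) (hi : g ^ 2 = x ^ i) (hr : g⁻¹ * x * g = x ^ r) :
    (g * x) ^ 2 = x ^ (i + r + 1) := by
  have : (g * x) ^ 2 = g ^ 2 * (g⁻¹ * x * g) * x := by
    rw [pow_two, pow_two]; group
  rw [this, hi, hr, zpow_add, zpow_add, zpow_one]

/-- **(L1')** a noncyclic `2`-group not of maximal class has an even number of cyclic maximal
subgroups. -/
theorem even_card_cyclic_max {n : ℕ} (hn : 2 ≤ n) (hL : Nat.card L = 2 ^ (n + 1))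
    (hnc : ¬ IsCyclic L) (hcl : Group.nilpotencyClass L ≠ n) :
    Even (Nat.card {M : Subgroup L // Nat.card M = 2 ^ n ∧ IsCyclic M}) := by
  by_cases hne : Nonempty {M : Subgroup L // Nat.card M = 2 ^ n ∧ IsCyclic M}
  swap
  · rw [not_nonempty_iff] at hne
    rw [Nat.card_eq_zero.2 (Or.inl hne)]
    exact Even.zero
  obtain ⟨⟨M, hM, hMc⟩⟩ := hne
  haveI := hMc
  obtain ⟨⟨x, hxM⟩, hgen⟩ := IsCyclic.exists_generator (α := ↥M)
  have hx : orderOf x = 2 ^ n := by
    rw [← Subgroup.orderOf_mk x hxM, orderOf_eq_card_of_forall_mem_zpowers hgen, hM]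
  have hcd := card_commutator_dvd hn hL hnc hcl
  rw [card_cyclic_max_eq_two hn hL x hx]
  · exact even_two
  intro g hg
  obtain ⟨i, hi⟩ := exists_sq_eq hL x hx g
  have hnor := normal_zpowers hL x hx
  have hconj : g⁻¹ * x * g ∈ Subgroup.zpowers x := by
    have := hnor.conj_mem x (Subgroup.mem_zpowers x) g⁻¹
    rwa [inv_inv] at this
  obtain ⟨r, hr⟩ := Subgroup.mem_zpowers_iff.1 hconj
  -- r ≡ 1 mod 4
  have hr4 : (4 : ℤ) ∣ r - 1 := by
    obtain ⟨k, rfl⟩ : ∃ k, n = k + 2 := ⟨n - 2, by omega⟩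
    rw [Nat.add_sub_cancel] at hcd
    have hc : x⁻¹ * (g⁻¹ * x * g) ∈ commutator L := by
      rw [commutator_def]
      have := Subgroup.commutator_mem_commutator (Subgroup.mem_top x⁻¹)
        (Subgroup.mem_top (g⁻¹ : L))
      rw [commutatorElement_def, inv_inv, inv_inv] at this
      have h2 : x⁻¹ * (g⁻¹ * x * g) = x⁻¹ * g⁻¹ * x * g := by group
      rw [h2]; exact this
    have hc1 : (x⁻¹ * (g⁻¹ * x * g)) ^ 2 ^ k = 1 := by
      have h3 : (⟨_, hc⟩ : commutator L) ^ Nat.card (commutator L) = 1 := pow_card_eq_one'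
      have h4 := congrArg Subtype.val h3
      rw [Subgroup.coe_pow, Subgroup.coe_one] at h4
      obtain ⟨d, hd⟩ := hcd
      rw [hd, pow_mul, h4, one_pow]
    rw [← hr, ← zpow_neg_one, ← zpow_add, ← zpow_natCast, ← zpow_mul,
      ← orderOf_dvd_iff_zpow_eq_one, hx] at hc1
    push_cast at hc1
    have h2 : ((2 : ℤ) ^ k) * 4 ∣ 2 ^ k * (-1 + r) := by
      have : (2 : ℤ) ^ (k + 2) = 2 ^ k * 4 := by ring
      rw [← this, mul_comm]; exact hc1
    have := (mul_dvd_mul_iff_left (by positivity)).1 h2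
    have h5 : r - 1 = -1 + r := by ring
    rw [h5]; exact this
  have h2i := two_dvd_of_sq_eq hn hL x hx hnc g i hi
  have hsq := mul_sq_eq x g i r hi hr.symm
  rw [orderOf_eq_iff hn hL x hx g i hi, orderOf_eq_iff hn hL x hx (g * x) (i + r + 1) hsq]
  omega

/-- A group containing an element `g` outside a commutative subgroup `⟨x⟩` of index 2 with
`g x = x g` is commutative. -/
theorem comm_of_commute_index_two (x g : L) (hidx : (Subgroup.zpowers x).index = 2)
    (hg : g ∉ Subgroup.zpowers x) (hc : g * x = x * g) : ∀ a b : L, a * b = b * a := by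
  have hform : ∀ a : L, ∃ (e : ℤ) (s : ℤ), a = g ^ e * x ^ s := by
    intro a
    by_cases ha : a ∈ Subgroup.zpowers x
    · obtain ⟨s, hs⟩ := Subgroup.mem_zpowers_iff.1 ha
      exact ⟨0, s, by rw [zpow_zero, one_mul, hs]⟩
    · have hmem : g⁻¹ * a ∈ Subgroup.zpowers x := by
        rw [Subgroup.mul_mem_iff_of_index_two hidx]
        constructor
        · intro h; exact absurd (inv_mem_iff.1 h) hg
        · intro h; exact absurd h ha
      obtain ⟨s, hs⟩ := Subgroup.mem_zpowers_iff.1 hmem
      exact ⟨1, s, by rw [zpow_one, hs, mul_inv_cancel_left]⟩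
  have hcomm : Commute g x := hc
  intro a b
  obtain ⟨e, s, rfl⟩ := hform a
  obtain ⟨f, t, rfl⟩ := hform b
  have h1 : Commute (g ^ e * x ^ s) (g ^ f * x ^ t) := by
    apply Commute.mul_left
    · apply Commute.mul_right
      · exact (Commute.refl g).zpow_zpow e f
      · exact hcomm.zpow_zpow e t
    · apply Commute.mul_right
      · exact (hcomm.symm).zpow_zpow s f
      · exact (Commute.refl x).zpow_zpow s t
  exact h1

/-- **(L3'a, order 8)** a nonabelian group of order 8 has an odd number of cyclic subgroups of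
order 4. -/
theorem odd_card_cyclic_max_order_eight (hL : Nat.card L = 2 ^ 3)
    (hcl : Group.nilpotencyClass L = 2) :
    Odd (Nat.card {M : Subgroup L // Nat.card M = 2 ^ 2 ∧ IsCyclic M}) := by
  have hncomm := Cfsg.Agent.Helper1.not_comm_of_class (X := L) (n := 3) le_rfl hcl
  obtain ⟨C, hCc, hCi⟩ := Cfsg.Agent.Helper1.exists_cyclic_index_two 3 le_rfl L hL hcl
  haveI := hCc
  have hCcard : Nat.card C = 2 ^ 2 := by
    have h1 := Subgroup.card_mul_index C
    rw [hCi, hL] at h1
    omega
  obtain ⟨⟨x, hxC⟩, hgen⟩ := IsCyclic.exists_generator (α := ↥C)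
  have hx : orderOf x = 2 ^ 2 := by
    rw [← Subgroup.orderOf_mk x hxC, orderOf_eq_card_of_forall_mem_zpowers hgen, hCcard]
  have hnc : ¬ IsCyclic L := by
    intro h
    exact hncomm IsCyclic.isMulCommutative
  apply odd_card_cyclic_max (le_refl 2) hL x hx
  intro g hg
  obtain ⟨i, hi⟩ := exists_sq_eq hL x hx g
  have hnor := normal_zpowers hL x hx
  have hidx := index_zpowers hL x hx
  have hconj : g⁻¹ * x * g ∈ Subgroup.zpowers x := by
    have := hnor.conj_mem x (Subgroup.mem_zpowers x) g⁻¹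
    rwa [inv_inv] at this
  obtain ⟨r, hr⟩ := Subgroup.mem_zpowers_iff.1 hconj
  -- r is odd
  have hrodd : ¬ (2 : ℤ) ∣ r := by
    rintro ⟨s, rfl⟩
    have h1 : (g⁻¹ * x * g) ^ 2 = 1 := by
      rw [← hr, ← zpow_natCast, ← zpow_mul, ← orderOf_dvd_iff_zpow_eq_one, hx]
      exact ⟨s, by push_cast; ring⟩
    have h2 : (g⁻¹ * x * g) ^ 2 = g⁻¹ * x ^ 2 * g := by
      have := conj_pow (i := 2) (a := g⁻¹) (b := x)
      rwa [inv_inv] at this
    rw [h2] at h1
    have h3 : x ^ 2 = 1 := by
      have : x ^ 2 = g * (g⁻¹ * x ^ 2 * g) * g⁻¹ := by group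
      rw [this, h1]; group
    rw [← orderOf_dvd_iff_pow_eq_one, hx] at h3
    norm_num at h3
  have hr1 : ¬ (4 : ℤ) ∣ r - 1 := by
    rintro ⟨s, hs⟩
    have hr' : r = 1 + 4 * s := by omega
    have h1 : g⁻¹ * x * g = x := by
      rw [← hr, hr', zpow_add, zpow_one, zpow_mul]
      have : x ^ (4 : ℤ) = 1 := by
        rw [← orderOf_dvd_iff_zpow_eq_one, hx]; norm_num
      rw [this, one_zpow, mul_one]
    have h2 : g * x = x * g := by
      have : g * x = g * (g⁻¹ * x * g) := by rw [h1]
      rw [this]; group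
    exact hncomm ⟨⟨comm_of_commute_index_two x g hidx hg h2⟩⟩
  have hsq := mul_sq_eq x g i r hi hr.symm
  rw [orderOf_eq_iff (le_refl 2) hL x hx g i hi,
    orderOf_eq_iff (le_refl 2) hL x hx (g * x) (i + r + 1) hsq]
  omega

end Cfsg.Agent.Helper3.Kul
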