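import Mathlib
import Cfsg.Agent.Helper3.KulC
import Cfsg.Agent.Helper1.MaxClass2Group
import Cfsg.Agent.Helper1.MaxClassBasic

set_option autoImplicit false

/-!
`2`-groups of maximal class have an odd number of cyclic subgroups of each order `2 ^ j`,
`2 ≤ j ≤ N - 1`.
-/

namespace Cfsg.Agent.Helper3.Kul

open Cfsg.Agent.Helper4.HallEnum Cfsg.Agent.Helper3 Cfsg.Agent.Helper4

universe u

variable {H : Type u} [Group H] [Finite H]

omit [Finite H] in
theorem isCyclic_of_le {X C : Subgroup H} (hC : IsCyclic C) (hXC : X ≤ C) : IsCyclic X := by
  haveI := hC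
  haveI : IsCyclic (X.subgroupOf C) := Subgroup.isCyclic _
  exact isCyclic_of_surjective (Subgroup.subgroupOfEquivOfLe hXC).toMonoidHom
    (Subgroup.subgroupOfEquivOfLe hXC).surjective

theorem commutator_le_of_index_two (C : Subgroup H) (hCi : C.index = 2) : commutator H ≤ C := by
  haveI : C.Normal := Subgroup.normal_of_index_eq_two hCi
  have hc : Nat.card (H ⧸ C) = 2 := hCi
  haveI : IsCyclic (H ⧸ C) := isCyclic_of_prime_card hc
  exact Subgroup.Normal.quotient_commutative_iff_commutator_le.1 IsCyclic.isMulCommutative

theorem cyc_eq_card_swap (j : ℕ) :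
    cyc H j = Nat.card {M : Subgroup H // Nat.card M = 2 ^ j ∧ IsCyclic M} := by
  unfold cyc
  exact Nat.card_congr (Equiv.subtypeEquivRight (fun _ => and_comm))

/-- **(L3')** -/
theorem maxClass_cyc_odd {N : ℕ} (hN : 3 ≤ N) (hH : Nat.card H = 2 ^ N)
    (hcl : Group.nilpotencyClass H = N - 1) (j : ℕ) (hj2 : 2 ≤ j) (hjN : j ≤ N - 1) :
    Odd (cyc H j) := by
  haveI : Fact (Nat.Prime 2) := ⟨Nat.prime_two⟩
  have hHp : IsPGroup 2 H := IsPGroup.of_card hH
  obtain ⟨C, hCc, hCi⟩ := Cfsg.Agent.Helper1.exists_cyclic_index_two N hN H hH hcl
  have hCcard : Nat.card C = 2 ^ (N - 1) := by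
    have h1 := Subgroup.card_mul_index C
    rw [hCi, hH] at h1
    obtain ⟨k, rfl⟩ : ∃ k, N = k + 1 := ⟨N - 1, by omega⟩
    rw [Nat.add_sub_cancel]
    rw [pow_succ] at h1
    omega
  have hcomC := commutator_le_of_index_two C hCi
  by_cases hj : j ≤ N - 2
  · -- unique normal subgroup of order 2 ^ j, and it is cyclic
    have hmod := cyc_modEq_normal hHp j
    have hone : Nat.card {X : Subgroup H // X.Normal ∧ IsCyclic X ∧ Nat.card X = 2 ^ j} = 1 := by
      rw [Nat.card_eq_one_iff_unique]
      constructor
      · constructor
        rintro ⟨X, hXn, -, hXc⟩ ⟨Y, hYn, -, hYc⟩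
        apply Subtype.ext
        change X = Y
        have hidx : ∀ W : Subgroup H, Nat.card W = 2 ^ j → W.index = 2 ^ (N - j) := by
          intro W hW
          have h1 := Subgroup.card_mul_index W
          rw [hW, hH] at h1
          have h2 : 2 ^ N = 2 ^ j * 2 ^ (N - j) := by rw [← pow_add]; congr 1; omega
          rw [h2] at h1
          exact Nat.eq_of_mul_eq_mul_left (pow_pos (by norm_num) j) h1
        haveI := hXn
        haveI := hYn
        rw [Cfsg.Agent.Helper1.maxClass_normal_eq_lcs N hH hcl hN X (N - j) (by omega) (hidx X hXc),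
          Cfsg.Agent.Helper1.maxClass_normal_eq_lcs N hH hcl hN Y (N - j) (by omega) (hidx Y hYc)]
      · refine ⟨⟨(⊤ : Subgroup H).lowerCentralSeries (N - j - 1), inferInstance, ?_, ?_⟩⟩
        · apply isCyclic_of_le hCc
          refine le_trans ?_ hcomC
          rw [← Subgroup.top_lowerCentralSeries_one]
          exact Subgroup.lowerCentralSeries_antitone _ (by omega)
        · rw [Cfsg.Agent.Helper1.maxClass_card_lcs N hH hcl hN (N - j - 1) (by omega) (by omega)]
          congr 1
          omega
    rw [hone] at hmod
    exact Nat.odd_iff.2 hmod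
  · have hjeq : j = N - 1 := by omega
    rw [hjeq, cyc_eq_card_swap]
    by_cases hN3 : N = 3
    · subst hN3
      exact odd_card_cyclic_max_order_eight hH hcl
    · -- exactly one cyclic maximal subgroup
      have hone : Nat.card {M : Subgroup H // Nat.card M = 2 ^ (N - 1) ∧ IsCyclic M} = 1 := by
        rw [Nat.card_eq_one_iff_unique]
        constructor
        · constructor
          have huniq : ∀ M : Subgroup H, Nat.card M = 2 ^ (N - 1) → IsCyclic M → M = C := by
            intro M hMcard hMc
            by_contra hne
            obtain ⟨k, rfl⟩ : ∃ k, N = k + 1 := ⟨N - 1, by omega⟩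
            rw [Nat.add_sub_cancel] at hMcard hCcard
            -- an element of M outside C
            obtain ⟨m, hmM, hmC⟩ : ∃ m, m ∈ M ∧ m ∉ C := by
              by_contra hcon
              push Not at hcon
              exact hne (Subgroup.eq_of_le_of_card_ge hcon (by rw [hMcard, hCcard]))
            have hMcomm : ∀ a ∈ M, ∀ b ∈ M, a * b = b * a := by
              intro a ha b hb
              haveI := hMc
              have := (IsCyclic.isMulCommutative (α := ↥M)).is_comm.comm ⟨a, ha⟩ ⟨b, hb⟩
              exact congrArg Subtype.val this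
            have hCcomm : ∀ a ∈ C, ∀ b ∈ C, a * b = b * a := by
              intro a ha b hb
              haveI := hCc
              have := (IsCyclic.isMulCommutative (α := ↥C)).is_comm.comm ⟨a, ha⟩ ⟨b, hb⟩
              exact congrArg Subtype.val this
            have hle : M ⊓ C ≤ Subgroup.center H := by
              intro a ha
              have htop : Subgroup.centralizer ({a} : Set H) = ⊤ := by
                apply eq_top_of_lt hH C _ hCcard _ m
                · rw [Subgroup.mem_centralizer_iff]
                  intro b hb
                  rw [Set.mem_singleton_iff] at hb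
                  rw [hb]
                  exact hMcomm a ha.1 m hmM
                · exact hmC
                · intro c hc
                  rw [Subgroup.mem_centralizer_iff]
                  intro b hb
                  rw [Set.mem_singleton_iff] at hb
                  rw [hb]
                  exact hCcomm a ha.2 c hc
              rw [Subgroup.mem_center_iff]
              intro g
              have hg : g ∈ Subgroup.centralizer ({a} : Set H) := by rw [htop]; exact Subgroup.mem_top g
              rw [Subgroup.mem_centralizer_iff] at hg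
              exact (hg a rfl).symm
            have hZ := (Cfsg.Agent.Helper1.maxClass_center (p := 2) (k + 1) hN hH hcl).1
            have h1 := Subgroup.card_le_of_le hle
            rw [hZ] at h1
            have hidx : (M ⊓ C).index ≤ 2 * 2 := by
              have := (Subgroup.index_inf_le : (M ⊓ C).index ≤ M.index * C.index)
              rwa [index_of_card hH M hMcard, index_of_card hH C hCcard] at this
            have h2 := Subgroup.card_mul_index (M ⊓ C)
            rw [hH] at h2
            have h16 : 2 ^ 4 ≤ 2 ^ (k + 1) := Nat.pow_le_pow_right (by norm_num) (by omega)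
            have h5 : Nat.card ↥(M ⊓ C) * (M ⊓ C).index ≤ 2 * (2 * 2) := Nat.mul_le_mul h1 hidx
            omega
          rintro ⟨M₁, hM₁, hM₁c⟩ ⟨M₂, hM₂, hM₂c⟩
          apply Subtype.ext
          change M₁ = M₂
          rw [huniq M₁ hM₁ hM₁c, huniq M₂ hM₂ hM₂c]
        · exact ⟨⟨C, hCcard, hCc⟩⟩
      rw [hone]
      exact odd_one

end Cfsg.Agent.Helper3.Kul
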