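import Mathlib
import Cfsg.Agent.Helper3.KulA

set_option autoImplicit false

/-!
A group of order 16 whose commutator subgroup has order 2 has an even number of nonabelian
maximal subgroups.
-/

namespace Cfsg.Agent.Helper3.Kul

open Cfsg.Agent.Helper4.HallEnum

universe u

open scoped commutatorElement

section Sixteen

variable {Q : Type u} [Group Q] [Finite Q]

omit [Finite Q] in
theorem mem_zpowers_order_two (z g : Q) (hz : orderOf z = 2) (hg : g ∈ Subgroup.zpowers z) :
    g = 1 ∨ g = z := by
  obtain ⟨k, rfl⟩ := Subgroup.mem_zpowers_iff.1 hg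
  rw [← zpow_mod_orderOf, hz]
  have : k % ((2 : ℕ) : ℤ) = 0 ∨ k % ((2 : ℕ) : ℤ) = 1 := by
    have := Int.emod_two_eq_zero_or_one k
    simpa using this
  rcases this with h | h
  · left; rw [h, zpow_zero]
  · right; rw [h, zpow_one]

omit [Finite Q] in
theorem commutatorElement_eq_one_iff' (a b : Q) : ⁅a, b⁆ = 1 ↔ a * b = b * a := by
  rw [commutatorElement_def]
  constructor
  · intro h
    have : a * b = (a * b * a⁻¹ * b⁻¹) * (b * a) := by group
    rw [this, h, one_mul]
  · intro h
    have : a * b * a⁻¹ * b⁻¹ = (a * b) * (b * a)⁻¹ := by group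
    rw [this, h, mul_inv_cancel]

theorem card_lt_card_of_lt' {K H : Subgroup Q} (h : K < H) : Nat.card K < Nat.card H :=
  lt_of_le_of_ne (Subgroup.card_le_of_le h.le)
    (fun heq => h.ne (Subgroup.eq_of_le_of_card_ge h.le heq.ge))

set_option maxHeartbeats 400000 in
theorem even_card_nonabelian_max (hQ : Nat.card Q = 2 ^ (3 + 1)) (z : Q) (hz : orderOf z = 2)
    (hcomm : commutator Q = Subgroup.zpowers z) :
    Even (Nat.card {A : Subgroup Q // Nat.card A = 2 ^ 3 ∧
      ¬ (∀ a ∈ A, ∀ b ∈ A, a * b = b * a)}) := by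
  classical
  haveI : Fact (Nat.Prime 2) := ⟨Nat.prime_two⟩
  have hz1 : z ≠ 1 := by
    intro h
    rw [h, orderOf_one] at hz
    norm_num at hz
  have hzz : z * z = 1 := by
    have := pow_orderOf_eq_one z
    rwa [hz, pow_two] at this
  have hcm : ∀ a b : Q, ⁅a, b⁆ = 1 ∨ ⁅a, b⁆ = z := by
    intro a b
    apply mem_zpowers_order_two z _ hz
    rw [← hcomm, commutator_def]
    exact Subgroup.commutator_mem_commutator (Subgroup.mem_top a) (Subgroup.mem_top b)
  -- z is central
  have hzc : ∀ q : Q, q * z = z * q := by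
    intro q
    have hmem : q * z * q⁻¹ ∈ Subgroup.zpowers z := by
      rw [← hcomm]
      haveI : (commutator Q).Normal := inferInstance
      apply Subgroup.Normal.conj_mem inferInstance
      rw [hcomm]; exact Subgroup.mem_zpowers z
    rcases mem_zpowers_order_two z _ hz hmem with h | h
    · exfalso
      apply hz1
      have : z = q⁻¹ * (q * z * q⁻¹) * q := by group
      rw [this, h]; group
    · have : q * z = (q * z * q⁻¹) * q := by group
      rw [this, h]
  -- commutators are central
  have hcc : ∀ a b q : Q, q * ⁅a, b⁆ = ⁅a, b⁆ * q := by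
    intro a b q
    rcases hcm a b with h | h
    · rw [h, mul_one, one_mul]
    · rw [h]; exact hzc q
  -- bimultiplicativity in the first variable
  have hmulc : ∀ a b c : Q, ⁅a * b, c⁆ = ⁅a, c⁆ * ⁅b, c⁆ := by
    intro a b c
    have h1 : ⁅a * b, c⁆ = a * ⁅b, c⁆ * a⁻¹ * ⁅a, c⁆ := by
      simp only [commutatorElement_def]; group
    rw [h1, hcc b c a, mul_inv_cancel_right, hcc a c ⁅b, c⁆]
  obtain ⟨x, y, hxy⟩ : ∃ x y : Q, ⁅x, y⁆ = z := by
    by_contra hcon
    push Not at hcon
    have hbot : commutator Q = ⊥ := by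
      rw [eq_bot_iff, commutator_def, Subgroup.commutator_le]
      intro a _ b _
      rcases hcm a b with h | h
      · rw [h]; exact Subgroup.one_mem _
      · exact absurd h (hcon a b)
    rw [hbot] at hcomm
    have : z ∈ (⊥ : Subgroup Q) := hcomm ▸ Subgroup.mem_zpowers z
    exact hz1 (Subgroup.mem_bot.1 this)
  have hyx : ⁅y, x⁆ = z := by
    rw [← commutatorElement_inv, hxy]
    exact inv_eq_of_mul_eq_one_right hzz
  have hxx : ∀ a : Q, ⁅a, a⁆ = 1 := fun a => commutatorElement_self a
  -- the two centralizers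
  have hmemC : ∀ (c q : Q), q ∈ Subgroup.centralizer ({c} : Set Q) ↔ ⁅q, c⁆ = 1 := by
    intro c q
    rw [Subgroup.mem_centralizer_iff, commutatorElement_eq_one_iff']
    constructor
    · intro h; exact (h c rfl).symm
    · intro h b hb
      rw [Set.mem_singleton_iff] at hb
      rw [hb, h]
  have hXor : ∀ (c e : Q), ⁅e, c⁆ = z → ∀ b : Q,
      Xor (b * e ∈ Subgroup.centralizer ({c} : Set Q)) (b ∈ Subgroup.centralizer ({c} : Set Q)) := by
    intro c e hec b
    rw [hmemC, hmemC, hmulc, hec]
    rcases hcm b c with h | h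
    · right
      refine ⟨h, ?_⟩
      rw [h, one_mul]; exact hz1
    · left
      refine ⟨by rw [h, hzz], ?_⟩
      rw [h]; exact hz1
  have hCx : (Subgroup.centralizer ({x} : Set Q)).index = 2 :=
    Subgroup.index_eq_two_iff.2 ⟨y, hXor x y hyx⟩
  have hCy : (Subgroup.centralizer ({y} : Set Q)).index = 2 :=
    Subgroup.index_eq_two_iff.2 ⟨x, hXor y x hxy⟩
  have hXx := hXor x y hyx
  have hXy := hXor y x hxy
  have hmx := hmemC x
  have hmy := hmemC y
  obtain ⟨Cx, hCxdef⟩ : ∃ Cx, Cx = Subgroup.centralizer ({x} : Set Q) := ⟨_, rfl⟩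
  obtain ⟨Cy, hCydef⟩ : ∃ Cy, Cy = Subgroup.centralizer ({y} : Set Q) := ⟨_, rfl⟩
  rw [← hCxdef] at hCx hXx hmx
  rw [← hCydef] at hCy hXy hmy
  have hxCx : x ∈ Cx := by rw [hmx]; exact hxx x
  have hxCy : x ∉ Cy := by rw [hmy, hxy]; exact hz1
  have hyCy : y ∈ Cy := by rw [hmy]; exact hxx y
  have hCxcard : Nat.card Cx = 2 ^ 3 := card_of_index hQ Cx hCx
  have hCycard : Nat.card Cy = 2 ^ 3 := card_of_index hQ Cy hCy
  -- D = Cx ⊓ Cy has order 4
  have hDcard : Nat.card ↥(Cx ⊓ Cy) = 2 ^ 2 := by
    have hidx : (Cx ⊓ Cy).index ≤ 2 * 2 := by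
      have := (Subgroup.index_inf_le : (Cx ⊓ Cy).index ≤ Cx.index * Cy.index)
      rwa [hCx, hCy] at this
    have h2 := Subgroup.card_mul_index (Cx ⊓ Cy)
    rw [hQ] at h2
    have hdvd : Nat.card ↥(Cx ⊓ Cy) ∣ 2 ^ 4 := hQ ▸ Subgroup.card_subgroup_dvd_card _
    obtain ⟨e, he, hDe⟩ := (Nat.dvd_prime_pow Nat.prime_two).1 hdvd
    have hlt : Nat.card ↥(Cx ⊓ Cy) < 2 ^ 3 := by
      rw [← hCxcard]
      apply card_lt_card_of_lt'
      refine lt_of_le_of_ne inf_le_left ?_
      intro h
      apply hxCy
      have : x ∈ Cx ⊓ Cy := by rw [h]; exact hxCx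
      exact this.2
    rw [hDe] at hlt h2 ⊢
    have he3 : e < 3 := (Nat.pow_lt_pow_iff_right (by norm_num)).1 hlt
    interval_cases e
    · omega
    · omega
    · rfl
  have hDcomm : ∀ a ∈ Cx ⊓ Cy, ∀ b ∈ Cx ⊓ Cy, a * b = b * a := by
    intro a ha b hb
    have := IsPGroup.isMulCommutative_of_card_eq_prime_sq (p := 2) hDcard
    exact congrArg Subtype.val ((this.is_comm.comm) ⟨a, ha⟩ ⟨b, hb⟩)
  -- D is the centre
  have hDZ : Cx ⊓ Cy ≤ Subgroup.center Q := by
    intro d hd
    rw [Subgroup.mem_center_iff]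
    intro q
    have hdx : Commute d x := by
      have := (Subgroup.mem_inf.1 hd).1
      rw [hmx, commutatorElement_eq_one_iff'] at this
      exact this
    have hdy : Commute d y := by
      have := (Subgroup.mem_inf.1 hd).2
      rw [hmy, commutatorElement_eq_one_iff'] at this
      exact this
    -- q₁ ∈ Cx with q = q₁ or q = q₁ y⁻¹
    obtain ⟨q₁, hq₁, hq₁c⟩ : ∃ q₁ : Q, q₁ ∈ Cx ∧ (Commute d q₁ → Commute d q) := by
      rcases hXx q with h | h
      · refine ⟨q * y, h.1, fun hc => ?_⟩
        have : q = q * y * y⁻¹ := by group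
        rw [this]
        exact hc.mul_right hdy.inv_right
      · exact ⟨q, h.1, id⟩
    obtain ⟨q₂, hq₂, hq₂c⟩ : ∃ q₂ : Q, q₂ ∈ Cx ⊓ Cy ∧ (Commute d q₂ → Commute d q₁) := by
      rcases hXy q₁ with h | h
      · refine ⟨q₁ * x, ⟨Cx.mul_mem hq₁ hxCx, h.1⟩, fun hc => ?_⟩
        have : q₁ = q₁ * x * x⁻¹ := by group
        rw [this]
        exact hc.mul_right hdx.inv_right
      · exact ⟨q₁, ⟨hq₁, h.1⟩, id⟩
    exact (hq₁c (hq₂c (hDcomm d hd q₂ hq₂))).symm
  have hZD : Subgroup.center Q ≤ Cx ⊓ Cy := by
    intro c hc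
    rw [Subgroup.mem_center_iff] at hc
    refine Subgroup.mem_inf.2 ⟨?_, ?_⟩
    · rw [hmx, commutatorElement_eq_one_iff']; exact (hc x).symm
    · rw [hmy, commutatorElement_eq_one_iff']; exact (hc y).symm
  have hZeq : Subgroup.center Q = Cx ⊓ Cy := le_antisymm hZD hDZ
  have hZcard : Nat.card (Subgroup.center Q) = 2 ^ 2 := by rw [hZeq]; exact hDcard
  have hZtop : Subgroup.center Q ≠ ⊤ := by
    intro h
    have h1 := (Subgroup.card_eq_iff_eq_top _).2 h
    rw [hZcard, hQ] at h1
    norm_num at h1
  -- characterisation of the abelian maximal subgroups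
  have hchar : ∀ A : Subgroup Q, Nat.card A = 2 ^ 3 →
      ((∀ a ∈ A, ∀ b ∈ A, a * b = b * a) ↔ Subgroup.center Q ≤ A) := by
    intro A hA
    constructor
    · intro hAc
      by_contra hle
      obtain ⟨c, hcZ, hcA⟩ : ∃ c, c ∈ Subgroup.center Q ∧ c ∉ A := by
        by_contra hcon
        push Not at hcon
        exact hle hcon
      have hAZ : A ≤ Subgroup.center Q := by
        intro a ha
        have htop : Subgroup.centralizer ({a} : Set Q) = ⊤ := by
          apply eq_top_of_lt hQ A _ hA _ c
          · rw [Subgroup.mem_centralizer_iff]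
            intro b hb
            rw [Set.mem_singleton_iff] at hb
            rw [hb]
            exact (Subgroup.mem_center_iff.1 hcZ) a
          · exact hcA
          · intro a' ha'
            rw [Subgroup.mem_centralizer_iff]
            intro b hb
            rw [Set.mem_singleton_iff] at hb
            rw [hb]
            exact hAc a ha a' ha'
        rw [Subgroup.mem_center_iff]
        intro g
        have hg : g ∈ Subgroup.centralizer ({a} : Set Q) := by rw [htop]; exact Subgroup.mem_top g
        rw [Subgroup.mem_centralizer_iff] at hg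
        exact (hg a rfl).symm
      have := Subgroup.card_le_of_le hAZ
      rw [hA, hZcard] at this
      norm_num at this
    · intro hZA a ha b hb
      by_cases haZ : a ∈ Subgroup.center Q
      · exact ((Subgroup.mem_center_iff.1 haZ) b).symm
      · -- A = Z ⊔ ⟨a⟩ ≤ C(a)
        have hsup : Subgroup.center Q ⊔ Subgroup.zpowers a = A := by
          have hle : Subgroup.center Q ⊔ Subgroup.zpowers a ≤ A :=
            sup_le hZA (Subgroup.zpowers_le.2 ha)
          apply Subgroup.eq_of_le_of_card_ge hle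
          have hdvd : Nat.card ↥(Subgroup.center Q ⊔ Subgroup.zpowers a) ∣ 2 ^ 4 :=
            hQ ▸ Subgroup.card_subgroup_dvd_card _
          obtain ⟨e, he, hDe⟩ := (Nat.dvd_prime_pow Nat.prime_two).1 hdvd
          have hlt : Nat.card (Subgroup.center Q) <
              Nat.card ↥(Subgroup.center Q ⊔ Subgroup.zpowers a) := by
            apply card_lt_card_of_lt'
            refine lt_of_le_of_ne le_sup_left ?_
            intro h
            apply haZ
            rw [h]
            exact Subgroup.mem_sup_right (Subgroup.mem_zpowers a)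
          rw [hZcard, hDe] at hlt
          rw [hA, hDe]
          have : 2 < e := (Nat.pow_lt_pow_iff_right (by norm_num)).1 hlt
          exact Nat.pow_le_pow_right (by norm_num) this
        have hb' : b ∈ Subgroup.center Q ⊔ Subgroup.zpowers a := by rw [hsup]; exact hb
        have hcle : Subgroup.center Q ⊔ Subgroup.zpowers a ≤
            Subgroup.centralizer ({a} : Set Q) := by
          apply sup_le
          · intro c hc
            rw [Subgroup.mem_centralizer_iff]
            intro b' hb'
            rw [Set.mem_singleton_iff] at hb'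
            rw [hb']
            exact (Subgroup.mem_center_iff.1 hc) a
          · rw [Subgroup.zpowers_le, Subgroup.mem_centralizer_iff]
            intro b' hb'
            rw [Set.mem_singleton_iff] at hb'
            rw [hb']
        have := hcle hb'
        rw [Subgroup.mem_centralizer_iff] at this
        exact this a rfl
  -- count
  have hall := odd_card_maximal_over hQ (⊥ : Subgroup Q) (by
    intro h
    have h1 := (Subgroup.card_eq_iff_eq_top (⊥ : Subgroup Q)).2 h
    rw [Subgroup.card_bot, hQ] at h1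
    norm_num at h1)
  have hover := odd_card_maximal_over hQ (Subgroup.center Q) hZtop
  haveI : Fintype (Subgroup Q) := Fintype.ofFinite _
  have hsplit : Nat.card {M : Subgroup Q // Nat.card M = 2 ^ 3 ∧ ⊥ ≤ M} =
      Nat.card {M : Subgroup Q // Nat.card M = 2 ^ 3 ∧ Subgroup.center Q ≤ M} +
      Nat.card {A : Subgroup Q // Nat.card A = 2 ^ 3 ∧
        ¬ (∀ a ∈ A, ∀ b ∈ A, a * b = b * a)} := by
    rw [Nat.card_eq_fintype_card, Nat.card_eq_fintype_card, Nat.card_eq_fintype_card,
      Fintype.card_subtype, Fintype.card_subtype, Fintype.card_subtype,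
      ← Finset.card_filter_add_card_filter_not (s := Finset.univ.filter
        (fun M : Subgroup Q => Nat.card M = 2 ^ 3 ∧ ⊥ ≤ M))
        (fun M : Subgroup Q => Subgroup.center Q ≤ M),
      Finset.filter_filter, Finset.filter_filter]
    congr 2
    · ext M
      simp only [Finset.mem_filter, Finset.mem_univ, true_and, bot_le, and_true]
    · ext M
      simp only [Finset.mem_filter, Finset.mem_univ, true_and, bot_le, and_true]
      constructor
      · rintro ⟨hM, hn⟩
        exact ⟨hM, fun h => hn ((hchar M hM).1 h)⟩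
      · rintro ⟨hM, hn⟩
        exact ⟨hM, fun h => hn ((hchar M hM).2 h)⟩
  rw [hsplit] at hall
  rcases hover with ⟨k, hk⟩
  rcases hall with ⟨l, hl⟩
  exact ⟨l - k, by omega⟩

end Sixteen

end Cfsg.Agent.Helper3.Kul
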