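import Mathlib
import Cfsg.Agent.Helper3.KulD
import Cfsg.Agent.Helper3.KulE

set_option autoImplicit false

/-!
A noncyclic `2`-group of order at least 16 that is not of maximal class has an even number of
maximal subgroups of maximal class.
-/

namespace Cfsg.Agent.Helper3.Kul

open Cfsg.Agent.Helper4.HallEnum Cfsg.Agent.Helper3 Cfsg.Agent.Helper4

universe u

open scoped commutatorElement

/-- In a noncyclic group of order 4 all squares are trivial. -/
theorem sq_eq_one_of_card_four {Q : Type*} [Group Q] [Finite Q] (hQ : Nat.card Q = 2 ^ 2)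
    (hnc : ¬ IsCyclic Q) (q : Q) : q ^ 2 = 1 := by
  have hdvd : orderOf q ∣ 2 ^ 2 := hQ ▸ orderOf_dvd_natCard q
  obtain ⟨k, hk, hqk⟩ := (Nat.dvd_prime_pow Nat.prime_two).1 hdvd
  have hk2 : k ≠ 2 := by
    intro h
    apply hnc
    apply isCyclic_of_orderOf_eq_card q
    rw [hqk, h, hQ]
  rw [← orderOf_dvd_iff_pow_eq_one, hqk]
  have : k ≤ 1 := by omega
  calc 2 ^ k ∣ 2 ^ 1 := pow_dvd_pow 2 this
    _ = 2 := pow_one 2

section

variable {G : Type u} [Group G] [Finite G]

/-- Maximal class of a subgroup of order `2 ^ n`, `n ≥ 3`, in terms of its derived subgroup. -/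
theorem maxClass_subgroup_iff {n : ℕ} (hn : 3 ≤ n) (M : Subgroup G) (hM : Nat.card M = 2 ^ n) :
    Group.nilpotencyClass ↥M = n - 1 ↔ Nat.card ↥⁅M, M⁆ = 2 ^ (n - 2) := by
  haveI : Fact (Nat.Prime 2) := ⟨Nat.prime_two⟩
  have hMp : IsPGroup 2 ↥M := IsPGroup.of_card hM
  have hcard : Nat.card ↥⁅M, M⁆ = Nat.card (commutator ↥M) := by
    rw [← M.map_subtype_commutator, Subgroup.card_map_of_injective (Subgroup.subtype_injective M)]
  rw [hcard]
  have hmul := Subgroup.card_mul_index (commutator ↥M)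
  rw [hM] at hmul
  have h2n : 2 ^ n = 2 ^ (n - 2) * 4 := by
    have : n = (n - 2) + 2 := by omega
    rw [this, pow_add, Nat.add_sub_cancel]; norm_num
  constructor
  · intro hcl
    have hK := Cfsg.Agent.Helper1.maxClass_kleinFour n hn hM hcl
    rw [Cfsg.Agent.Helper1.isKleinFour_abelianization_iff] at hK
    rw [hK.1, h2n] at hmul
    exact Nat.eq_of_mul_eq_mul_right (by norm_num) hmul
  · intro hc
    rw [hc, h2n] at hmul
    have hidx : (commutator ↥M).index = 4 :=
      Nat.eq_of_mul_eq_mul_left (by positivity) hmul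
    have hQcard : Nat.card (↥M ⧸ commutator ↥M) = 2 ^ 2 := by
      rw [← Subgroup.index_eq_card, hidx]; norm_num
    have hQnc : ¬ IsCyclic (↥M ⧸ commutator ↥M) := by
      intro hcyc
      have hbot := Cfsg.Agent.Helper1.commutator_eq_bot_of_cyclic_quotient hMp hcyc
      rw [hbot, Subgroup.card_bot] at hc
      have : 2 ≤ 2 ^ (n - 2) := by
        calc 2 = 2 ^ 1 := (pow_one 2).symm
          _ ≤ 2 ^ (n - 2) := Nat.pow_le_pow_right (by norm_num) (by omega)
      omega
    apply (Cfsg.Agent.Helper1.maxClass_iff_kleinFour n hn hM).2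
    rw [Cfsg.Agent.Helper1.isKleinFour_abelianization_iff]
    refine ⟨hidx, fun x => ?_⟩
    have := sq_eq_one_of_card_four hQcard hQnc (QuotientGroup.mk x)
    rwa [← QuotientGroup.mk_pow, QuotientGroup.eq_one_iff] at this

end

section L2

variable {G : Type u} [Group G] [Finite G]

omit [Finite G] in
theorem normal_zpowers_sq (u : G) (hcomm : commutator G = Subgroup.zpowers u) :
    (Subgroup.zpowers (u ^ 2)).Normal := by
  constructor
  intro x hx g
  obtain ⟨i, rfl⟩ := Subgroup.mem_zpowers_iff.1 hx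
  have hu : g * u * g⁻¹ ∈ Subgroup.zpowers u := by
    rw [← hcomm]
    exact (inferInstance : (commutator G).Normal).conj_mem u
      (by rw [hcomm]; exact Subgroup.mem_zpowers u) g
  obtain ⟨k, hk⟩ := Subgroup.mem_zpowers_iff.1 hu
  have h1 : g * (u ^ 2) ^ i * g⁻¹ = ((g * u * g⁻¹) ^ 2) ^ i := by
    rw [conj_pow, conj_zpow]
  have h2 : ((u ^ k) ^ 2) ^ i = ((u ^ 2) ^ k) ^ i := by
    congr 1
    rw [← zpow_natCast, ← zpow_mul, ← zpow_natCast, ← zpow_mul, mul_comm]
  rw [h1, ← hk, h2]
  exact Subgroup.zpow_mem _ (Subgroup.zpow_mem _ (Subgroup.mem_zpowers _) k) i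

omit [Finite G] in
/-- Commutativity of the image in terms of the derived subgroup. -/
theorem commutator_le_ker_iff {Q : Type*} [Group Q] (f : G →* Q) (M : Subgroup G) :
    ⁅M, M⁆ ≤ f.ker ↔ ∀ a ∈ M.map f, ∀ b ∈ M.map f, a * b = b * a := by
  rw [Subgroup.commutator_le]
  constructor
  · rintro h _ ⟨a, ha, rfl⟩ _ ⟨b, hb, rfl⟩
    have := h a ha b hb
    rw [MonoidHom.mem_ker, map_commutatorElement, commutatorElement_eq_one_iff'] at this
    exact this
  · intro h a ha b hb
    rw [MonoidHom.mem_ker, map_commutatorElement, commutatorElement_eq_one_iff']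
    exact h _ ⟨a, ha, rfl⟩ _ ⟨b, hb, rfl⟩

omit [Finite G] in
theorem card_zpowers_sq {n : ℕ} (hn : 3 ≤ n) (u : G) (hu : orderOf u = 2 ^ (n - 2)) :
    Nat.card (Subgroup.zpowers (u ^ 2)) = 2 ^ (n - 3) := by
  rw [Nat.card_zpowers, orderOf_pow' u (by norm_num), hu]
  obtain ⟨k, rfl⟩ : ∃ k, n = k + 3 := ⟨n - 3, by omega⟩
  have h1 : k + 3 - 2 = k + 1 := by omega
  have h2 : k + 3 - 3 = k := by omega
  rw [h1, h2, pow_succ]
  have : Nat.gcd (2 ^ k * 2) 2 = 2 := Nat.gcd_eq_right (Dvd.intro_left _ rfl)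
  rw [this]
  simp

/-- Characterisation of the maximal subgroups of maximal class when `G'` is cyclic of order
`2 ^ (n - 2)`. -/
theorem maxClass_max_iff {n : ℕ} (hn : 3 ≤ n)
    (u : G) (hu : orderOf u = 2 ^ (n - 2)) (hcomm : commutator G = Subgroup.zpowers u)
    (M : Subgroup G) (hM : Nat.card M = 2 ^ n) :
    (¬ IsCyclic M ∧ Group.nilpotencyClass ↥M = n - 1) ↔ ¬ ⁅M, M⁆ ≤ Subgroup.zpowers (u ^ 2) := by
  have hKcard := card_zpowers_sq hn u hu
  have hMle : ⁅M, M⁆ ≤ commutator G := by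
    rw [commutator_def]; exact Subgroup.commutator_mono le_top le_top
  have hcommcard : Nat.card (commutator G) = 2 ^ (n - 2) := by
    rw [hcomm, Nat.card_zpowers, hu]
  constructor
  · rintro ⟨-, hcl⟩ hle
    have h1 := (maxClass_subgroup_iff hn M hM).1 hcl
    have h2 := Subgroup.card_le_of_le hle
    rw [h1, hKcard] at h2
    have : 2 ^ (n - 3) < 2 ^ (n - 2) := Nat.pow_lt_pow_right (by norm_num) (by omega)
    omega
  · intro hnle
    obtain ⟨w, hwM, hwK⟩ := SetLike.not_le_iff_exists.1 hnle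
    have hwu : w ∈ Subgroup.zpowers u := hcomm ▸ hMle hwM
    rw [← mem_powers_iff_mem_zpowers] at hwu
    obtain ⟨k, rfl⟩ := (Submonoid.mem_powers_iff _ _).1 hwu
    have hkodd : ¬ 2 ∣ k := by
      rintro ⟨j, rfl⟩
      apply hwK
      rw [pow_mul]
      exact Subgroup.pow_mem _ (Subgroup.mem_zpowers _) j
    have hcop : (orderOf u).Coprime k := by
      rw [hu]
      apply Nat.Coprime.pow_left
      exact (Nat.Prime.coprime_iff_not_dvd Nat.prime_two).2 hkodd
    have hord : orderOf (u ^ k) = 2 ^ (n - 2) := by rw [hcop.orderOf_pow, hu]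
    have h1 : Subgroup.zpowers (u ^ k) ≤ ⁅M, M⁆ := by
      rw [Subgroup.zpowers_le]; exact hwM
    have h2 := Subgroup.card_le_of_le h1
    rw [Nat.card_zpowers, hord] at h2
    have h3 := Subgroup.card_le_of_le hMle
    rw [hcommcard] at h3
    have hcard : Nat.card ↥⁅M, M⁆ = 2 ^ (n - 2) := le_antisymm h3 h2
    refine ⟨?_, (maxClass_subgroup_iff hn M hM).2 hcard⟩
    intro hcyc
    apply hnle
    rw [Subgroup.commutator_le]
    intro a ha b hb
    have hab : a * b = b * a := by
      haveI := hcyc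
      have := (IsCyclic.isMulCommutative (α := ↥M)).is_comm.comm ⟨a, ha⟩ ⟨b, hb⟩
      exact congrArg Subtype.val this
    rw [(commutatorElement_eq_one_iff' a b).2 hab]
    exact Subgroup.one_mem _

theorem even_card_maxClass_max_aux {n : ℕ} (hn : 3 ≤ n) (hG : Nat.card G = 2 ^ (n + 1))
    (u : G) (hu : orderOf u = 2 ^ (n - 2)) (hcomm : commutator G = Subgroup.zpowers u) :
    Even (Nat.card {M : Subgroup G // Nat.card M = 2 ^ n ∧ ¬ IsCyclic M ∧
      Group.nilpotencyClass ↥M = n - 1}) := by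
  haveI : Fact (Nat.Prime 2) := ⟨Nat.prime_two⟩
  have hKn : (Subgroup.zpowers (u ^ 2)).Normal := normal_zpowers_sq u hcomm
  have hiff := maxClass_max_iff hn u hu hcomm
  have hKcard0 := card_zpowers_sq hn u hu
  obtain ⟨K, hKdef⟩ : ∃ K, K = Subgroup.zpowers (u ^ 2) := ⟨_, rfl⟩
  rw [← hKdef] at hKn hiff hKcard0
  haveI : K.Normal := hKn
  have hKle : K ≤ commutator G := by
    rw [hKdef, hcomm, Subgroup.zpowers_le]
    exact Subgroup.pow_mem _ (Subgroup.mem_zpowers u) 2
  have hf : Function.Surjective (QuotientGroup.mk' K) := QuotientGroup.mk'_surjective K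
  have hker : (QuotientGroup.mk' K).ker = K := QuotientGroup.ker_mk' K
  have hQ : Nat.card (G ⧸ K) = 2 ^ (3 + 1) := by
    have h1 := Subgroup.card_mul_index K
    rw [hKcard0, hG, Subgroup.index_eq_card] at h1
    have h2 : 2 ^ (n + 1) = 2 ^ (n - 3) * 2 ^ (3 + 1) := by
      rw [← pow_add]; congr 1; omega
    rw [h2] at h1
    exact Nat.eq_of_mul_eq_mul_left (by positivity) h1
  have huK : u ^ 2 ∈ K := by rw [hKdef]; exact Subgroup.mem_zpowers _
  have hz : orderOf ((QuotientGroup.mk' K) u) = 2 := by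
    apply orderOf_eq_prime
    · rw [← map_pow]
      exact (QuotientGroup.eq_one_iff _).2 huK
    · intro h1
      have h2 : u ∈ K := (QuotientGroup.eq_one_iff _).1 h1
      have h3 : Subgroup.zpowers u ≤ K := by rw [Subgroup.zpowers_le]; exact h2
      have h4 := Subgroup.card_le_of_le h3
      rw [Nat.card_zpowers, hu, hKcard0] at h4
      have : 2 ^ (n - 3) < 2 ^ (n - 2) := Nat.pow_lt_pow_right (by norm_num) (by omega)
      omega
  have hcommQ : commutator (G ⧸ K) = Subgroup.zpowers ((QuotientGroup.mk' K) u) := by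
    rw [commutator_def, ← Subgroup.map_top_of_surjective _ hf, ← Subgroup.map_commutator,
      ← commutator_def, hcomm, MonoidHom.map_zpowers]
  have hev := even_card_nonabelian_max hQ _ hz hcommQ
  have hKM : ∀ M : Subgroup G, Nat.card M = 2 ^ n → K ≤ M := fun M hM =>
    hKle.trans (commutator_le_of_index_two M (index_of_card hG M hM))
  have hmapcard : ∀ M : Subgroup G, Nat.card M = 2 ^ n →
      Nat.card (M.map (QuotientGroup.mk' K)) = 2 ^ 3 := fun M hM =>
    card_of_index hQ _ (by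
      rw [Subgroup.index_map_eq _ hf (hker.le.trans (hKM M hM))]
      exact index_of_card hG M hM)
  have hcomapcard : ∀ A : Subgroup (G ⧸ K), Nat.card A = 2 ^ 3 →
      Nat.card (A.comap (QuotientGroup.mk' K)) = 2 ^ n := fun A hA =>
    card_of_index hG _ (by
      rw [Subgroup.index_comap_of_surjective _ hf]
      exact index_of_card hQ A hA)
  have hcomm_iff : ∀ M : Subgroup G, ⁅M, M⁆ ≤ K ↔
      ∀ a ∈ M.map (QuotientGroup.mk' K), ∀ b ∈ M.map (QuotientGroup.mk' K), a * b = b * a := by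
    intro M
    rw [← commutator_le_ker_iff, hker]
  have hcongr : Nat.card {M : Subgroup G // Nat.card M = 2 ^ n ∧ ¬ IsCyclic M ∧
      Group.nilpotencyClass ↥M = n - 1} = Nat.card {A : Subgroup (G ⧸ K) // Nat.card A = 2 ^ 3 ∧
      ¬ (∀ a ∈ A, ∀ b ∈ A, a * b = b * a)} := by
    refine Nat.card_congr
      { toFun := fun M => ⟨M.1.map (QuotientGroup.mk' K), hmapcard M.1 M.2.1, ?_⟩
        invFun := fun A => ⟨A.1.comap (QuotientGroup.mk' K), hcomapcard A.1 A.2.1, ?_⟩
        left_inv := ?_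
        right_inv := ?_ }
    · rw [← hcomm_iff]
      exact (hiff M.1 M.2.1).1 M.2.2
    · rw [hiff _ (hcomapcard A.1 A.2.1), hcomm_iff, Subgroup.map_comap_eq_self_of_surjective hf]
      exact A.2.2
    · intro M
      apply Subtype.ext
      exact Subgroup.comap_map_eq_self (hker.le.trans (hKM M.1 M.2.1))
    · intro A
      apply Subtype.ext
      exact Subgroup.map_comap_eq_self_of_surjective hf A.1
  rw [hcongr]
  exact hev

/-- **(L2)** a noncyclic `2`-group of order at least `16`, not of maximal class, has an even number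
of maximal subgroups of maximal class. -/
theorem even_card_maxClass_max {n : ℕ} (hn : 3 ≤ n) (hG : Nat.card G = 2 ^ (n + 1))
    (hnc : ¬ IsCyclic G) (hcl : Group.nilpotencyClass G ≠ n) :
    Even (Nat.card {M : Subgroup G // Nat.card M = 2 ^ n ∧ ¬ IsCyclic M ∧
      Group.nilpotencyClass ↥M = n - 1}) := by
  by_cases hne : Nonempty {M : Subgroup G // Nat.card M = 2 ^ n ∧ ¬ IsCyclic M ∧
      Group.nilpotencyClass ↥M = n - 1}
  swap
  · rw [not_nonempty_iff] at hne
    rw [Nat.card_eq_zero.2 (Or.inl hne)]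
    exact ⟨0, rfl⟩
  obtain ⟨⟨H, hHc, hHnc, hHcl⟩⟩ := hne
  have hHcomm : Nat.card ↥⁅H, H⁆ = 2 ^ (n - 2) := (maxClass_subgroup_iff hn H hHc).1 hHcl
  have hle : ⁅H, H⁆ ≤ commutator G := by
    rw [commutator_def]; exact Subgroup.commutator_mono le_top le_top
  have hdvd : Nat.card (commutator G) ∣ 2 ^ (n - 2) := card_commutator_dvd (by omega) hG hnc hcl
  have heq : ⁅H, H⁆ = commutator G :=
    Subgroup.eq_of_le_of_card_ge hle (by rw [hHcomm]; exact Nat.le_of_dvd (by positivity) hdvd)
  obtain ⟨C, hCc, hCi⟩ := Cfsg.Agent.Helper1.exists_cyclic_index_two n hn ↥H hHc hHcl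
  have hcomC : commutator ↥H ≤ C := commutator_le_of_index_two C hCi
  haveI hcyc1 : IsCyclic ↥(commutator ↥H) := isCyclic_of_le hCc hcomC
  have hcyc2 : IsCyclic ↥(commutator G) := by
    rw [← heq, ← H.map_subtype_commutator]
    exact isCyclic_of_surjective
      ((commutator ↥H).equivMapOfInjective H.subtype (Subgroup.subtype_injective H)).toMonoidHom
      ((commutator ↥H).equivMapOfInjective H.subtype (Subgroup.subtype_injective H)).surjective
  obtain ⟨u, hu⟩ := (Subgroup.isCyclic_iff_exists_zpowers_eq_top _).1 hcyc2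
  have hord : orderOf u = 2 ^ (n - 2) := by
    rw [← Nat.card_zpowers, hu, ← heq, hHcomm]
  exact even_card_maxClass_max_aux hn hG u hord hu.symm

end L2

end Cfsg.Agent.Helper3.Kul
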