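import Mathlib
import Cfsg.Agent.Helper3.KulF

set_option autoImplicit false

/-!
The parity theorem: a noncyclic `2`-group that is not of maximal class has an even number of
cyclic subgroups of each order `2 ^ j`, `j ≥ 2`.
-/

namespace Cfsg.Agent.Helper3.Kul

open Cfsg.Agent.Helper4.HallEnum Cfsg.Agent.Helper3 Cfsg.Agent.Helper4

universe u

theorem card_subtype_or_disjoint' {α : Type*} [Finite α] (p q : α → Prop)
    (h : ∀ a, p a → ¬ q a) :
    Nat.card {a // p a ∨ q a} = Nat.card {a // p a} + Nat.card {a // q a} := by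
  classical
  haveI := Fintype.ofFinite α
  rw [Nat.card_eq_fintype_card, Nat.card_eq_fintype_card, Nat.card_eq_fintype_card]
  apply Fintype.card_subtype_or_disjoint
  intro r hrp hrq a hra
  exact h a (hrp a hra) (hrq a hra)

section

variable {L : Type u} [Group L] [Finite L]

theorem cyc_eq_zero_of_le {m : ℕ} (hL : Nat.card L = 2 ^ m) (hnc : ¬ IsCyclic L) (j : ℕ)
    (hj : m ≤ j) : cyc L j = 0 := by
  unfold cyc
  rw [Nat.card_eq_zero]
  left
  constructor
  rintro ⟨X, hXc, hXcard⟩
  have h1 : Nat.card X ∣ Nat.card L := Subgroup.card_subgroup_dvd_card X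
  rw [hXcard, hL] at h1
  have h2 : j ≤ m := (Nat.pow_dvd_pow_iff_le_right (by norm_num)).1 h1
  have h3 : j = m := le_antisymm h2 hj
  have h4 : X = ⊤ := by
    rw [← Subgroup.card_eq_iff_eq_top, hXcard, hL, h3]
  apply hnc
  rw [h4] at hXc
  exact isCyclic_of_surjective (Subgroup.topEquiv (G := L)).toMonoidHom
    (Subgroup.topEquiv (G := L)).surjective

theorem cyc_eq_one_of_isCyclic {β : ℕ} (hL : Nat.card L = 2 ^ β) (hc : IsCyclic L) (j : ℕ)
    (hj : j ≤ β) : cyc L j = 1 := by
  haveI : Fact (Nat.Prime 2) := ⟨Nat.prime_two⟩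
  haveI := hc
  unfold cyc
  rw [← card_subgroups_of_isCyclic (p := 2) (Z := L) j (by rw [hL]; exact pow_dvd_pow 2 hj)]
  exact Nat.card_congr (Equiv.subtypeEquivRight (fun X =>
    ⟨fun h => h.2, fun h => ⟨Subgroup.isCyclic X, h⟩⟩))

end

/-- **The parity theorem.** -/
theorem even_cyc : ∀ (m : ℕ) (L : Type u) [Group L] [Finite L], Nat.card L = 2 ^ m →
    ¬ IsCyclic L → Group.nilpotencyClass L ≠ m - 1 → ∀ j, 2 ≤ j → Even (cyc L j) := by
  haveI : Fact (Nat.Prime 2) := ⟨Nat.prime_two⟩
  intro m
  induction m using Nat.strong_induction_on with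
  | _ m ih =>
  intro L _ _ hL hnc hcl j hj2
  -- small cases
  have hm3 : 3 ≤ m := by
    by_contra hlt
    have hm : m = 0 ∨ m = 1 ∨ m = 2 := by omega
    rcases hm with rfl | rfl | rfl
    · apply hnc
      haveI : Subsingleton L := (Nat.card_eq_one_iff_unique.1 (by rw [hL, pow_zero])).1
      exact isCyclic_of_subsingleton
    · apply hnc
      exact isCyclic_of_prime_card (p := 2) (by rw [hL, pow_one])
    · apply hcl
      have hLp : IsPGroup 2 L := IsPGroup.of_card hL
      haveI : Group.IsNilpotent L := hLp.isNilpotent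
      have hcomm : IsMulCommutative L := IsPGroup.isMulCommutative_of_card_eq_prime_sq (p := 2) hL
      have h1 : Group.nilpotencyClass L ≤ 1 := Group.IsNilpotent.nilpotencyClass_le_one_iff.2 hcomm
      have h0 : Group.nilpotencyClass L ≠ 0 := by
        intro h0
        have := Group.nilpotencyClass_zero_iff_subsingleton.1 h0
        have h2 : Nat.card L = 1 := Nat.card_unique
        rw [hL] at h2
        norm_num at h2
      omega
  by_cases hjm : m ≤ j
  · rw [cyc_eq_zero_of_le hL hnc j hjm]
    exact ⟨0, rfl⟩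
  push Not at hjm
  obtain ⟨β, rfl⟩ : ∃ β, m = β + 1 := ⟨m - 1, by omega⟩
  rw [Nat.add_sub_cancel] at hcl
  have hjβ : j ≤ β := by omega
  have hrec := cyc_recursion hL j hjβ
  have hsuff : Even (Nat.card {M : Subgroup L // Nat.card M = 2 ^ β ∧ Odd (cyc ↥M j)}) := by
    have hA := even_card_cyclic_max (by omega : 2 ≤ β) hL hnc hcl
    by_cases hcase : 3 ≤ β ∧ j ≤ β - 1
    · have hB := even_card_maxClass_max hcase.1 hL hnc hcl
      have hiff : ∀ M : Subgroup L, (Nat.card M = 2 ^ β ∧ Odd (cyc ↥M j)) ↔
          ((Nat.card M = 2 ^ β ∧ IsCyclic M) ∨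
            (Nat.card M = 2 ^ β ∧ ¬ IsCyclic M ∧ Group.nilpotencyClass ↥M = β - 1)) := by
        intro M
        constructor
        · rintro ⟨hM, hodd⟩
          by_cases hMc : IsCyclic M
          · exact Or.inl ⟨hM, hMc⟩
          · right
            refine ⟨hM, hMc, ?_⟩
            by_contra hMcl
            have := ih β (by omega) ↥M hM hMc hMcl j hj2
            exact (Nat.not_even_iff_odd.2 hodd) this
        · rintro (⟨hM, hMc⟩ | ⟨hM, hMc, hMcl⟩)
          · refine ⟨hM, ?_⟩
            rw [cyc_eq_one_of_isCyclic hM hMc j hjβ]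
            exact odd_one
          · exact ⟨hM, maxClass_cyc_odd hcase.1 hM hMcl j hj2 hcase.2⟩
      rw [Nat.card_congr (Equiv.subtypeEquivRight hiff),
        card_subtype_or_disjoint' _ _ (fun M h1 h2 => h2.2.1 h1.2)]
      exact hA.add hB
    · have hiff : ∀ M : Subgroup L, (Nat.card M = 2 ^ β ∧ Odd (cyc ↥M j)) ↔
          (Nat.card M = 2 ^ β ∧ IsCyclic M) := by
        intro M
        constructor
        · rintro ⟨hM, hodd⟩
          refine ⟨hM, ?_⟩
          by_contra hMc
          apply Nat.not_even_iff_odd.2 hodd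
          by_cases hMcl : Group.nilpotencyClass ↥M = β - 1
          · -- then `j = β`, so there is no cyclic subgroup of that order
            have hjeq : β ≤ j := by
              by_contra hlt
              apply hcase
              constructor
              · omega
              · omega
            rw [cyc_eq_zero_of_le hM hMc j hjeq]
            exact ⟨0, rfl⟩
          · exact ih β (by omega) ↥M hM hMc hMcl j hj2
        · rintro ⟨hM, hMc⟩
          refine ⟨hM, ?_⟩
          rw [cyc_eq_one_of_isCyclic hM hMc j hjβ]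
          exact odd_one
      rw [Nat.card_congr (Equiv.subtypeEquivRight hiff)]
      exact hA
  rw [Nat.even_iff] at hsuff ⊢
  have h := hrec
  unfold Nat.ModEq at h
  rw [h, hsuff]

end Cfsg.Agent.Helper3.Kul
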