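import Mathlib
import Cfsg.Agent.Helper5.LTCI

/-!
# Labelled Todd–Coxeter certificates: subgroups meeting the central group

Variants of `Cfsg.Agent.Helper5.LTC.ltc_main` / `covG_card_le_tail` without the hypothesis that
the subgroup `K` meets the central group trivially: the relations among the central elements
`z i` then hold only modulo `K`, but the counting bound `|P| ≤ |K| * N * a` stays true. Also the
consequences `z i = z i0 ^ a i` of a certificate (in the case where `K` does meet the central group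
trivially), as statements of their own.
-/

set_option autoImplicit false

namespace Cfsg.Agent.Helper3.LTCRel

open Cfsg.Agent.Helper5.LTC Cfsg.Agent.Helper5.LP Cfsg.Agent.Helper5.StemP

variable {P : Type*} [Group P]

variable {C : Cert} {K : Subgroup P} {g z : ℕ → P}

theorem relFact_mem (hH : Hyp C K g z) (hall : ∀ j, j < C.nf → Holds C K g z j)
    {j : ℕ} (h : relFactOK C j = true) : phi z (fL (C.fa j)) ∈ K := by
  unfold relFactOK at h
  rw [frc_eq, Bool.and_eq_true, Bool.and_eq_true] at h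
  obtain ⟨⟨h1, h2⟩, h3⟩ := h
  rw [Nat.blt_eq] at h1
  have hF := hall j h1
  unfold Holds at hF
  rw [Nat.eq_of_beq_eq_true h2, Nat.eq_of_beq_eq_true h3] at hF
  unfold Cfsg.Agent.Helper5.LTC.Rel at hF
  have e1 : wrep C.par C.gen g (fB (C.fa j)) * mval g 0 *
      (wrep C.par C.gen g (fB (C.fa j)) * phi z (fL (C.fa j)))⁻¹ = (phi z (fL (C.fa j)))⁻¹ := by
    rw [phi_comm hH.hz]
    simp [mval]
  rw [e1] at hF
  have h4 := K.inv_mem hF
  rw [inv_inv] at h4
  exact h4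

theorem phi_comb_mem (hH : Hyp C K g z) (hall : ∀ j, j < C.nf → Holds C K g z j) :
    ∀ (js cs : List ℕ), (∀ j ∈ js, relFactOK C j = true) → phi z (comb C js cs) ∈ K
  | [], _, _ => by
    unfold comb
    rw [phi_zero]
    exact K.one_mem
  | _ :: _, [], _ => by
    unfold comb
    rw [phi_zero]
    exact K.one_mem
  | j :: js, c :: cs, h => by
    unfold comb
    rw [phi_add hH.hz, phi_smul hH.hz]
    exact K.mul_mem (K.pow_mem (relFact_mem hH hall (h j List.mem_cons_self)) _)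
      (phi_comb_mem hH hall js cs (fun j' hj' => h j' (List.mem_cons_of_mem _ hj')))

theorem genOK_mem (hH : Hyp C K g z) (hall : ∀ j, j < C.nf → Holds C K g z j)
    {js cs : List ℕ} (hjs : ∀ j ∈ js, relFactOK C j = true) {i i0 a : ℕ} (hi : i < 8)
    (hi0 : i0 < 8) (h : genOK C js cs i i0 a = true) : z i * (z i0 ^ a)⁻¹ ∈ K := by
  unfold genOK at h
  have h1 := congrArg (phi z) (L8.eq_of_beq h)
  rw [phi_red hH.hE, phi_red hH.hE, phi_add hH.hz, phi_smul hH.hz, phi_unit hi,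
    phi_unit hi0] at h1
  have h2 : z i * (z i0 ^ a)⁻¹ = (phi z (comb C js cs))⁻¹ := by
    have hc := phi_comm hH.hz (comb C js cs) (z i)
    rw [← h1, hc]
    group
  rw [h2]
  exact K.inv_mem (phi_comb_mem hH hall js cs hjs)

theorem ordOK_mem (hH : Hyp C K g z) (hall : ∀ j, j < C.nf → Holds C K g z j)
    {js cs : List ℕ} (hjs : ∀ j ∈ js, relFactOK C j = true) {i0 a : ℕ} (hi0 : i0 < 8)
    (h : ordOK C js cs i0 a = true) : z i0 ^ a ∈ K := by
  unfold ordOK at h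
  have h1 := congrArg (phi z) (L8.eq_of_beq h)
  rw [phi_red hH.hE, phi_add hH.hz, phi_smul hH.hz, phi_unit hi0, phi_zero] at h1
  have h2 : z i0 ^ a = (phi z (comb C js cs))⁻¹ := eq_inv_of_mul_eq_one_left h1
  rw [h2]
  exact K.inv_mem (phi_comb_mem hH hall js cs hjs)

/-- a central element which is a power of `z0` modulo `K` is `z0 ^ j` modulo `K` with `j < a`,
when `z0 ^ a` lies in `K`. -/
theorem exists_small_pow {z0 : P} (a : ℕ) (ha : 0 < a) (hz0 : z0 ^ a ∈ K) (x : P) (m : ℤ)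
    (hx : x * (z0 ^ m)⁻¹ ∈ K) : ∃ j : ℕ, j < a ∧ x * (z0 ^ j)⁻¹ ∈ K := by
  have ha' : (a : ℤ) ≠ 0 := by exact_mod_cast ha.ne'
  have hpos : (0 : ℤ) < a := by exact_mod_cast ha
  refine ⟨(m % a).toNat, ?_, ?_⟩
  · have h1 := Int.emod_lt_of_pos m hpos
    have h2 := Int.emod_nonneg m ha'
    omega
  · have h2 := Int.emod_nonneg m ha'
    have e1 : ((m % a).toNat : ℤ) = m % a := Int.toNat_of_nonneg h2
    have e2 : z0 ^ (m % a).toNat = z0 ^ (m % (a : ℤ)) := by
      rw [← zpow_natCast, e1]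
    have e4 : x * (z0 ^ (m % a).toNat)⁻¹ = x * (z0 ^ m)⁻¹ * (z0 ^ a) ^ (m / (a : ℤ)) := by
      rw [e2, ← zpow_natCast z0 a, ← zpow_mul, ← zpow_neg, ← zpow_neg, mul_assoc, ← zpow_add]
      congr 2
      have := Int.emod_add_mul_ediv m a
      linarith
    rw [e4]
    exact K.mul_mem hx (K.zpow_mem hz0 _)

/-- **the counting bound**, the central elements being powers of one of them modulo `K`. -/
theorem card_le_rel (hH : Hyp C K g z) (hall : ∀ j, j < C.nf → Holds C K g z j) (T : Tab)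
    (hT0 : T.LV 0 = 0) (h0N : 0 < T.N)
    (hT : ∀ n, n < T.N → ∀ x, x < C.k → tabEntryOK C T n x = true)
    (hgen : ∀ p : P, ∃ l : List ℕ, (∀ c ∈ l, c < C.k) ∧ p = lprod g l)
    [Finite K] (z0 : P) (hz0c : z0 ∈ Subgroup.center P) (a : ℕ) (ha : 0 < a)
    (hz0 : z0 ^ a ∈ K) (hzz : ∀ i, ∃ j : ℕ, z i * (z0 ^ j)⁻¹ ∈ K) :
    Finite P ∧ Nat.card P ≤ Nat.card K * T.N * a := by
  classical
  -- the subgroup of the central elements which are powers of `z0` modulo `K`
  let S : Subgroup P :=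
    { carrier := {x | x ∈ Subgroup.center P ∧ ∃ m : ℤ, x * (z0 ^ m)⁻¹ ∈ K}
      mul_mem' := by
        rintro x y ⟨hxc, m, hx⟩ ⟨hyc, m', hy⟩
        refine ⟨Subgroup.mul_mem _ hxc hyc, m + m', ?_⟩
        have hyz : z0 ^ (-m) * y = y * z0 ^ (-m) := Subgroup.mem_center_iff.mp hyc (z0 ^ (-m))
        have e : x * y * (z0 ^ (m + m'))⁻¹ = (x * (z0 ^ m)⁻¹) * (y * (z0 ^ m')⁻¹) := by
          rw [← zpow_neg, ← zpow_neg, ← zpow_neg, neg_add, zpow_add]
          calc x * y * (z0 ^ (-m) * z0 ^ (-m'))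
              = x * (y * z0 ^ (-m)) * z0 ^ (-m') := by group
            _ = x * (z0 ^ (-m) * y) * z0 ^ (-m') := by rw [hyz]
            _ = x * z0 ^ (-m) * (y * z0 ^ (-m')) := by group
        rw [e]
        exact K.mul_mem hx hy
      one_mem' := ⟨Subgroup.one_mem _, 0, by simp [K.one_mem]⟩
      inv_mem' := by
        rintro x ⟨hxc, m, hx⟩
        refine ⟨Subgroup.inv_mem _ hxc, -m, ?_⟩
        have hxz : z0 ^ m * x⁻¹ = x⁻¹ * z0 ^ m :=
          Subgroup.mem_center_iff.mp (Subgroup.inv_mem _ hxc) (z0 ^ m)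
        have e : x⁻¹ * (z0 ^ (-m))⁻¹ = (x * (z0 ^ m)⁻¹)⁻¹ := by
          rw [zpow_neg, inv_inv, mul_inv_rev, inv_inv, hxz]
        rw [e]
        exact K.inv_mem hx }
  have hzS : ∀ i, z i ∈ S := by
    intro i
    obtain ⟨j, hj⟩ := hzz i
    exact ⟨hH.hz i, (j : ℤ), by rwa [zpow_natCast]⟩
  let f : K × Fin T.N × Fin a → P := fun t =>
    (t.1 : P) * wrep C.par C.gen g (T.LV t.2.1) * z0 ^ t.2.2.val
  have hf : Function.Surjective f := by
    intro p
    obtain ⟨l, hl, rfl⟩ := hgen p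
    obtain ⟨n, hn, lab, hR⟩ := cover hH hall T hT0 h0N hT l hl
    obtain ⟨hlc, m, hm⟩ := phi_mem S hzS lab
    obtain ⟨j, hja, hj⟩ := exists_small_pow a ha hz0 (phi z lab) m hm
    -- `κ = phi lab * (z0 ^ j)⁻¹ ∈ K` is central
    have hκc : phi z lab * (z0 ^ j)⁻¹ ∈ Subgroup.center P :=
      Subgroup.mul_mem _ hlc (Subgroup.inv_mem _ (Subgroup.pow_mem _ hz0c j))
    unfold Cfsg.Agent.Helper5.LTC.Rel at hR
    refine ⟨(⟨_, K.mul_mem hR hj⟩, ⟨n, hn⟩, ⟨j, hja⟩), ?_⟩
    simp only [f]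
    have hw := Subgroup.mem_center_iff.mp hκc (wrep C.par C.gen g (T.LV n))
    calc lprod g l * (wrep C.par C.gen g (T.LV n) * phi z lab)⁻¹ * (phi z lab * (z0 ^ j)⁻¹) *
          wrep C.par C.gen g (T.LV n) * z0 ^ j
        = lprod g l * (wrep C.par C.gen g (T.LV n) * phi z lab)⁻¹ *
          ((phi z lab * (z0 ^ j)⁻¹) * wrep C.par C.gen g (T.LV n)) * z0 ^ j := by group
      _ = lprod g l * (wrep C.par C.gen g (T.LV n) * phi z lab)⁻¹ *
          (wrep C.par C.gen g (T.LV n) * (phi z lab * (z0 ^ j)⁻¹)) * z0 ^ j := by rw [hw]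
      _ = lprod g l := by group
  refine ⟨Finite.of_surjective f hf, ?_⟩
  have h1 := Nat.card_le_card_of_surjective f hf
  rw [Nat.card_prod, Nat.card_prod, Nat.card_fin, Nat.card_fin] at h1
  calc Nat.card P ≤ Nat.card K * (T.N * a) := h1
    _ = Nat.card K * T.N * a := by ring

/-- **the main theorem on labelled certificates**, without any hypothesis on the intersection of
`K` with the central group: the order of `P` is at most `|K| * N * a`. -/
theorem ltc_main_rel (hH : Hyp C K g z) (hchk : ∀ j, j < C.nf → ∃ r, checkFact C j r = true)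
    (T : Tab) (hT0 : T.LV 0 = 0) (h0N : 0 < T.N)
    (hT : ∀ n, n < T.N → ∀ x, x < C.k → tabEntryOK C T n x = true)
    (hgen : ∀ p : P, ∃ l : List ℕ, (∀ c ∈ l, c < C.k) ∧ p = lprod g l)
    [Finite K] (D : ℕ) (hD : D ≤ 8)
    (hz8 : ∀ i, D ≤ i → z i = 1)
    (js : List ℕ) (hjs : ∀ j ∈ js, relFactOK C j = true)
    (i0 a : ℕ) (hi0 : i0 < 8) (ha : 0 < a) (cs0 : List ℕ) (h0 : ordOK C js cs0 i0 a = true)
    (as : ℕ → ℕ) (css : ℕ → List ℕ) (hgs : ∀ i, i < D → genOK C js (css i) i i0 (as i) = true) :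
    Finite P ∧ Nat.card P ≤ Nat.card K * T.N * a := by
  have hall := all_hold hH hchk
  refine card_le_rel hH hall T hT0 h0N hT hgen (z i0) (hH.hz i0) a ha
    (ordOK_mem hH hall hjs hi0 h0) ?_
  intro i
  by_cases hi : i < D
  · exact ⟨as i, genOK_mem hH hall hjs (by omega) hi0 (hgs i hi)⟩
  · refine ⟨0, ?_⟩
    rw [hz8 i (by omega), pow_zero, inv_one, mul_one]
    exact K.one_mem

/-- the consequences `z i = z i0 ^ a i` and `z i0 ^ a = 1` of a certificate, when `K` meets the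
central group trivially. -/
theorem ltc_gens (hH : Hyp C K g z) (hchk : ∀ j, j < C.nf → ∃ r, checkFact C j r = true)
    (hK : ∀ l, phi z l ∈ K → phi z l = 1) (D : ℕ) (hD : D ≤ 8)
    (js : List ℕ) (hjs : ∀ j ∈ js, relFactOK C j = true)
    (i0 a : ℕ) (hi0 : i0 < 8) (cs0 : List ℕ) (h0 : ordOK C js cs0 i0 a = true)
    (as : ℕ → ℕ) (css : ℕ → List ℕ) (hgs : ∀ i, i < D → genOK C js (css i) i i0 (as i) = true) :
    z i0 ^ a = 1 ∧ ∀ i, i < D → z i = z i0 ^ as i := by
  have hall := all_hold hH hchk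
  refine ⟨ordOK_sound hH hall hK hjs hi0 h0, ?_⟩
  intro i hi
  exact genOK_sound hH hall hK hjs (by omega) hi0 (hgs i hi)

section cov
variable (d : ℕ) (m : ℕ → ℕ) (CC TT : List (List ℕ)) (e : ℕ)

/-- the hypotheses on the covering group, from the checks of the words of a certificate. -/
theorem covG_hyp (C : Cert) (hk : C.k = 2 * d) (hι : C.ι = linv) (hE : C.E = e)
    (he0 : 0 < e) (hCT : ∀ r ∈ CC, r ∈ TT) (hlt : ∀ r ∈ CC, ∀ c ∈ r, c < 2 * d)
    (n : ℕ) (hzn : ∀ i, n ≤ i → zC d m CC TT e i = 1)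
    (hWlt : ∀ wi, ∀ c ∈ C.W wi, c < 2 * d) (orig : ℕ → ℕ)
    (hwordOK : ∀ wi, wi < C.nrel →
      wordOK2 (coverRels d m CC TT e) CC n (C.W wi) (C.δ wi) (orig wi) = true)
    (K : Subgroup (CovG d m CC TT e))
    (hsubs : ∀ wi, C.nrel ≤ wi → wi < C.nw →
      ev (2 * d) (coverRels d m CC TT e) (C.W wi) ∈ K) :
    Hyp C K (gC d m CC TT e) (zC d m CC TT e) := by
  refine ⟨zC_center d m CC TT e hlt, by rw [hE]; exact he0, ?_, ?_, ?_, ?_, ?_⟩
  · intro i
    rw [hE]
    exact zC_pow d m CC TT e hCT i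
  · intro x _
    rw [hι]
    exact lval_linv _ x
  · intro wi c hc
    rw [hk]
    exact hWlt wi c hc
  · intro wi hwi
    rw [lprod_gC d m CC TT e _ (hWlt wi)]
    exact wordOK2_sound d m CC TT e hlt n hzn (hwordOK wi hwi)
  · intro wi h1 h2
    rw [lprod_gC d m CC TT e _ (hWlt wi)]
    exact hsubs wi h1 h2

/-- **the order bound for covering groups from a labelled certificate**, the words of `CC` after
the first `n` ones being known to have trivial value, without any hypothesis on the intersection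
of `K` with the central group. -/
theorem covG_card_le_tail_rel (C : Cert) (hk : C.k = 2 * d) (hι : C.ι = linv) (hE : C.E = e)
    (he0 : 0 < e) (hCT : ∀ r ∈ CC, r ∈ TT) (hlt : ∀ r ∈ CC, ∀ c ∈ r, c < 2 * d)
    (n : ℕ) (hn : n ≤ 8) (hzn : ∀ i, n ≤ i → zC d m CC TT e i = 1)
    (hWlt : ∀ wi, ∀ c ∈ C.W wi, c < 2 * d) (orig : ℕ → ℕ)
    (hwordOK : ∀ wi, wi < C.nrel →
      wordOK2 (coverRels d m CC TT e) CC n (C.W wi) (C.δ wi) (orig wi) = true)
    (K : Subgroup (CovG d m CC TT e))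
    (hsubs : ∀ wi, C.nrel ≤ wi → wi < C.nw →
      ev (2 * d) (coverRels d m CC TT e) (C.W wi) ∈ K)
    [Finite K]
    (hchk : ∀ j, j < C.nf → ∃ r, checkFact C j r = true)
    (T : Tab) (hT0 : T.LV 0 = 0) (h0N : 0 < T.N)
    (hT : ∀ n, n < T.N → ∀ x, x < C.k → tabEntryOK C T n x = true)
    (js : List ℕ) (hjs : ∀ j ∈ js, relFactOK C j = true)
    (i0 a : ℕ) (hi0 : i0 < 8) (ha : 0 < a) (cs0 : List ℕ) (h0 : ordOK C js cs0 i0 a = true)
    (as : ℕ → ℕ) (css : ℕ → List ℕ)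
    (hgs : ∀ i, i < n → genOK C js (css i) i i0 (as i) = true) :
    Finite (CovG d m CC TT e) ∧ Nat.card (CovG d m CC TT e) ≤ Nat.card K * T.N * a := by
  have hH := covG_hyp d m CC TT e C hk hι hE he0 hCT hlt n hzn hWlt orig hwordOK K hsubs
  refine ltc_main_rel hH hchk T hT0 h0N hT ?_ n hn hzn js hjs i0 a hi0 ha cs0 h0 as css hgs
  intro p
  obtain ⟨l, hl, hp⟩ := exists_word d m CC TT e p
  exact ⟨l, by rw [hk]; exact hl, hp⟩

/-- the relations among the central elements of a covering group from a labelled certificate,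
when `K` meets the central group trivially. -/
theorem covG_gens_tail (C : Cert) (hk : C.k = 2 * d) (hι : C.ι = linv) (hE : C.E = e)
    (he0 : 0 < e) (hCT : ∀ r ∈ CC, r ∈ TT) (hlt : ∀ r ∈ CC, ∀ c ∈ r, c < 2 * d)
    (n : ℕ) (hn : n ≤ 8) (hzn : ∀ i, n ≤ i → zC d m CC TT e i = 1)
    (hWlt : ∀ wi, ∀ c ∈ C.W wi, c < 2 * d) (orig : ℕ → ℕ)
    (hwordOK : ∀ wi, wi < C.nrel →
      wordOK2 (coverRels d m CC TT e) CC n (C.W wi) (C.δ wi) (orig wi) = true)
    (K : Subgroup (CovG d m CC TT e))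
    (hsubs : ∀ wi, C.nrel ≤ wi → wi < C.nw →
      ev (2 * d) (coverRels d m CC TT e) (C.W wi) ∈ K)
    (hK : ∀ l, phi (zC d m CC TT e) l ∈ K → phi (zC d m CC TT e) l = 1)
    (hchk : ∀ j, j < C.nf → ∃ r, checkFact C j r = true)
    (js : List ℕ) (hjs : ∀ j ∈ js, relFactOK C j = true)
    (i0 a : ℕ) (hi0 : i0 < 8) (cs0 : List ℕ) (h0 : ordOK C js cs0 i0 a = true)
    (as : ℕ → ℕ) (css : ℕ → List ℕ)
    (hgs : ∀ i, i < n → genOK C js (css i) i i0 (as i) = true) :
    zC d m CC TT e i0 ^ a = 1 ∧ ∀ i, i < n → zC d m CC TT e i = zC d m CC TT e i0 ^ as i := by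
  have hH := covG_hyp d m CC TT e C hk hι hE he0 hCT hlt n hzn hWlt orig hwordOK K hsubs
  exact ltc_gens hH hchk hK n hn js hjs i0 a hi0 cs0 h0 as css hgs

end cov

end Cfsg.Agent.Helper3.LTCRel
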