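import Mathlib
import Cfsg.Agent.Helper3.LargeXA

set_option autoImplicit false

namespace Cfsg.Agent.Helper3.LargeX

variable {G : Type*} [Group G]

namespace LX

variable {Q : Subgroup G} {z : G}

theorem z_inv (h : LX Q z) : z⁻¹ = z := by
  have := h.z_sq
  exact inv_eq_of_mul_eq_one_left this

theorem comm_or (h : LX Q z) {q x : G} (hq : q ∈ Q) (hx : x ∈ Q) :
    q * x = x * q ∨ q * x * q⁻¹ = z * x := by
  rcases h.comm q hq x hx with h1 | h1
  · left
    have : q * x = (q * x * q⁻¹ * x⁻¹) * x * q := by group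
    rw [this, h1]; group
  · right
    have : q * x * q⁻¹ = (q * x * q⁻¹ * x⁻¹) * x := by group
    rw [this, h1]

theorem exists_noncomm (h : LX Q z) {x : G} (hx : x ∈ Q) (hx1 : x ≠ 1) (hxz : x ≠ z) :
    ∃ q ∈ Q, q * x * q⁻¹ = z * x := by
  by_contra hcon
  push Not at hcon
  have : ∀ b ∈ Q, x * b = b * x := by
    intro b hb
    rcases h.comm_or hb hx with h1 | h1
    · exact h1.symm
    · exact absurd h1 (hcon b hb)
  rcases h.cent x hx this with h1 | h1
  · exact hx1 h1
  · exact hxz h1

theorem conj_z (h : LX Q z) {q : G} (hq : q ∈ Q) : q * z * q⁻¹ = z := by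
  rw [h.z_comm q hq]; group

theorem conj_z' (h : LX Q z) {q : G} (hq : q ∈ Q) : q⁻¹ * z * q = z := by
  have := h.conj_z (Q.inv_mem hq)
  simpa using this

theorem zx_ne (h : LX Q z) {x : G} : z * x ≠ x := by
  intro h1
  apply h.z_ne
  have : z = (z * x) * x⁻¹ := by group
  rw [this, h1]; group

theorem inv_conj (h : LX Q z) {q x : G} (hq : q ∈ Q) (h1 : q * x * q⁻¹ = z * x) :
    q⁻¹ * x * q = z * x := by
  have e : x = q⁻¹ * (z * x) * q := by rw [← h1]; group
  have e2 : q⁻¹ * (z * x) * q = (q⁻¹ * z * q) * (q⁻¹ * x * q) := by group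
  rw [e2, h.conj_z' hq] at e
  have : q⁻¹ * x * q = z⁻¹ * (z * (q⁻¹ * x * q)) := by group
  rw [this, ← e, h.z_inv]

theorem not_comm_of_conj (h : LX Q z) {q x : G} (h1 : q * x * q⁻¹ = z * x) : q * x ≠ x * q := by
  intro h2
  apply h.zx_ne (x := x)
  rw [← h1, h2]; group

theorem mul_comm_of_conj (h : LX Q z) {q q' x : G} (hq : q ∈ Q)
    (h1 : q * x * q⁻¹ = z * x) (h2 : q' * x * q'⁻¹ = z * x) :
    (q⁻¹ * q') * x = x * (q⁻¹ * q') := by
  have e : (q⁻¹ * q') * x * (q⁻¹ * q')⁻¹ = q⁻¹ * (q' * x * q'⁻¹) * q := by group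
  rw [h2] at e
  have e2 : q⁻¹ * (z * x) * q = (q⁻¹ * z * q) * (q⁻¹ * x * q) := by group
  rw [e2, h.conj_z' hq, h.inv_conj hq h1, ← mul_assoc, h.z_sq, one_mul] at e
  have : (q⁻¹ * q') * x = ((q⁻¹ * q') * x * (q⁻¹ * q')⁻¹) * (q⁻¹ * q') := by group
  rw [this, e]

/-- Elements of `Q` centralizing `C_Q(x)` lie in `{1, z, x, z x}`. -/
theorem mem_four_of_centralizes (h : LX Q z) {x : G} (hx : x ∈ Q) (hx2 : x * x = 1)
    {c : G} (hc : c ∈ Q) (hcR : ∀ r ∈ Q, r * x = x * r → c * r = r * c) :
    c = 1 ∨ c = z ∨ c = x ∨ c = z * x := by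
  have hxinv : x⁻¹ = x := inv_eq_of_mul_eq_one_left hx2
  by_cases hcen : ∀ b ∈ Q, c * b = b * c
  · rcases h.cent c hc hcen with h1 | h1
    · left; exact h1
    · right; left; exact h1
  · push Not at hcen
    obtain ⟨b0, hb0, hb0c⟩ := hcen
    -- b0 does not commute with x
    have hb0x : b0 * x * b0⁻¹ = z * x := by
      rcases h.comm_or hb0 hx with h1 | h1
      · exact absurd (hcR b0 hb0 h1) hb0c
      · exact h1
    -- claim: c * x is central
    have hcx : ∀ b ∈ Q, (c * x) * b = b * (c * x) := by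
      intro b hb
      rcases h.comm_or hb hx with h1 | h1
      · have h2 := hcR b hb h1
        calc (c * x) * b = c * (x * b) := by group
          _ = c * (b * x) := by rw [h1]
          _ = (c * b) * x := by group
          _ = (b * c) * x := by rw [h2]
          _ = b * (c * x) := by group
      · -- b does not commute with x; then b does not commute with c
        have h3 : b * c * b⁻¹ = z * c := by
          rcases h.comm_or hb hc with h4 | h4
          · exfalso
            -- b0 = b * (b⁻¹ * b0), and b⁻¹ * b0 commutes with x hence with c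
            have h5 := h.mul_comm_of_conj hb h1 hb0x
            have h6 := hcR (b⁻¹ * b0) (Q.mul_mem (Q.inv_mem hb) hb0) h5
            apply hb0c
            calc c * b0 = c * (b * (b⁻¹ * b0)) := by group
              _ = (c * b) * (b⁻¹ * b0) := by group
              _ = (b * c) * (b⁻¹ * b0) := by rw [h4]
              _ = b * (c * (b⁻¹ * b0)) := by group
              _ = b * ((b⁻¹ * b0) * c) := by rw [h6]
              _ = b0 * c := by group
          · exact h4
        have e : b * (c * x) * b⁻¹ = (b * c * b⁻¹) * (b * x * b⁻¹) := by group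
        rw [h3, h1] at e
        have hzc : z * c = c * z := (h.z_comm c hc).symm
        have e2 : z * c * (z * x) = c * x := by
          calc z * c * (z * x) = (z * c) * z * x := by group
            _ = (c * z) * z * x := by rw [hzc]
            _ = c * (z * z) * x := by group
            _ = c * x := by rw [h.z_sq]; group
        rw [e2] at e
        have e3 : b * (c * x) = (b * (c * x) * b⁻¹) * b := by group
        rw [e3, e]
    rcases h.cent (c * x) (Q.mul_mem hc hx) hcx with h1 | h1
    · right; right; left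
      have : c = (c * x) * x⁻¹ := by group
      rw [this, h1, hxinv]; group
    · right; right; right
      have : c = (c * x) * x⁻¹ := by group
      rw [this, h1, hxinv]

/-- If `c` centralizes `C_Q(x)` and one element `q0` of `Q` outside it, it centralizes `Q`. -/
theorem centralizes_of (h : LX Q z) {x q0 : G} (hq0 : q0 ∈ Q)
    (hq0x : q0 * x * q0⁻¹ = z * x) (hx : x ∈ Q)
    {c : G} (hcR : ∀ r ∈ Q, r * x = x * r → c * r = r * c) (hcq : c * q0 = q0 * c) :
    c ∈ Subgroup.centralizer (Q : Set G) := by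
  rw [Subgroup.mem_centralizer_iff]
  intro b hb
  rcases h.comm_or hb hx with h1 | h1
  · exact (hcR b hb h1).symm
  · have h5 := h.mul_comm_of_conj hq0 hq0x h1
    have h6 := hcR (q0⁻¹ * b) (Q.mul_mem (Q.inv_mem hq0) hb) h5
    calc b * c = q0 * ((q0⁻¹ * b) * c) := by group
      _ = q0 * (c * (q0⁻¹ * b)) := by rw [h6]
      _ = (q0 * c) * (q0⁻¹ * b) := by group
      _ = (c * q0) * (q0⁻¹ * b) := by rw [hcq]
      _ = c * b := by group

/-- Elements of `C_G(z)` centralizing `C_Q(x)` lie in `{1, z, x, z x}`. -/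
theorem mem_four_of_centralizes' (h : LX Q z) {x : G} (hx : x ∈ Q) (hx2 : x * x = 1)
    (hx1 : x ≠ 1) (hxz : x ≠ z)
    {c : G} (hcz : c * z = z * c) (hcR : ∀ r ∈ Q, r * x = x * r → c * r = r * c) :
    c = 1 ∨ c = z ∨ c = x ∨ c = z * x := by
  have hxinv : x⁻¹ = x := inv_eq_of_mul_eq_one_left hx2
  obtain ⟨q0, hq0, hq0x⟩ := h.exists_noncomm hx hx1 hxz
  have hq0x' := h.inv_conj hq0 hq0x
  suffices hcQ : c ∈ Q from h.mem_four_of_centralizes hx hx2 hcQ hcR
  have hxq0 : x * q0 * x = z * q0 := by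
    have e : q0 * x = z * x * q0 := by
      have : q0 * x = (q0 * x * q0⁻¹) * q0 := by group
      rw [this, hq0x]
    have e2 : x * q0 = z * q0 * x := by
      have : x * q0 = x * (q0 * x) * x⁻¹ := by group
      rw [this, e, hxinv]
      have hzx : x * z = z * x := h.z_comm x hx
      calc x * (z * x * q0) * x = (x * z) * x * q0 * x := by group
        _ = (z * x) * x * q0 * x := by rw [hzx]
        _ = z * (x * x) * q0 * x := by group
        _ = z * q0 * x := by rw [hx2]; group
    calc x * q0 * x = (x * q0) * x := by group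
      _ = z * q0 * x * x := by rw [e2]
      _ = z * q0 * (x * x) := by group
      _ = z * q0 := by rw [hx2]; group
  have hzq0 : z * q0 ≠ q0 := by
    intro h1
    apply h.z_ne
    have : z = (z * q0) * q0⁻¹ := by group
    rw [this, h1]; group
  -- v
  set v := q0⁻¹ * (c * q0 * c⁻¹) with hv
  have hvQ : v ∈ Q := Q.mul_mem (Q.inv_mem hq0) (h.norm c hcz q0 hq0)
  have hcq0 : c * q0 * c⁻¹ = q0 * v := by rw [hv]; group
  have hvR : ∀ r ∈ Q, r * x = x * r → v * r = r * v := by
    intro r hr hrx
    have hr' : q0 * r * q0⁻¹ ∈ Q := Q.mul_mem (Q.mul_mem hq0 hr) (Q.inv_mem hq0)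
    have hr'x : (q0 * r * q0⁻¹) * x = x * (q0 * r * q0⁻¹) := by
      have hzr : r * z = z * r := h.z_comm r hr
      calc (q0 * r * q0⁻¹) * x = q0 * r * (q0⁻¹ * x * q0) * q0⁻¹ := by group
        _ = q0 * r * (z * x) * q0⁻¹ := by rw [hq0x']
        _ = q0 * (r * z) * x * q0⁻¹ := by group
        _ = q0 * (z * r) * x * q0⁻¹ := by rw [hzr]
        _ = q0 * z * (r * x) * q0⁻¹ := by group
        _ = q0 * z * (x * r) * q0⁻¹ := by rw [hrx]
        _ = (q0 * z * q0⁻¹) * (q0 * x * q0⁻¹) * (q0 * r * q0⁻¹) := by group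
        _ = z * (z * x) * (q0 * r * q0⁻¹) := by rw [h.conj_z hq0, hq0x]
        _ = (z * z) * x * (q0 * r * q0⁻¹) := by group
        _ = x * (q0 * r * q0⁻¹) := by rw [h.z_sq]; group
    have h1 := hcR r hr hrx
    have h2 := hcR _ hr' hr'x
    -- c r' c⁻¹ = r', and c r' c⁻¹ = (q0 v) r (q0 v)⁻¹
    have e1 : c * (q0 * r * q0⁻¹) * c⁻¹ = (c * q0 * c⁻¹) * (c * r * c⁻¹) * (c * q0 * c⁻¹)⁻¹ := by
      group
    have e2 : c * r * c⁻¹ = r := by rw [h1]; group
    have e3 : c * (q0 * r * q0⁻¹) * c⁻¹ = q0 * r * q0⁻¹ := by rw [h2]; group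
    rw [e3, e2, hcq0] at e1
    -- q0 r q0⁻¹ = q0 v r v⁻¹ q0⁻¹
    have e4 : v * r * v⁻¹ = r := by
      have : v * r * v⁻¹ = q0⁻¹ * (q0 * v * r * (q0 * v)⁻¹) * q0 := by group
      rw [this, ← e1]; group
    calc v * r = (v * r * v⁻¹) * v := by group
      _ = r * v := by rw [e4]
  have hv4 := h.mem_four_of_centralizes hx hx2 hvQ hvR
  -- q0 * q0 commutes with x, hence with c
  have hqq : (q0 * q0) * x = x * (q0 * q0) := by
    have hq0x'' : q0⁻¹ * x * (q0⁻¹)⁻¹ = z * x := by rw [inv_inv]; exact hq0x'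
    have := h.mul_comm_of_conj (Q.inv_mem hq0) hq0x'' hq0x
    rwa [inv_inv] at this
  have hcqq := hcR (q0 * q0) (Q.mul_mem hq0 hq0) hqq
  have hvqv : v * q0 * v = q0 := by
    have e1 : c * (q0 * q0) * c⁻¹ = (c * q0 * c⁻¹) * (c * q0 * c⁻¹) := by group
    have e2 : c * (q0 * q0) * c⁻¹ = q0 * q0 := by rw [hcqq]; group
    rw [e2, hcq0] at e1
    have : v * q0 * v = q0⁻¹ * (q0 * v * (q0 * v)) := by group
    rw [this, ← e1]; group
  rcases hv4 with h1 | h1 | h1 | h1
  · -- v = 1
    have hcq : c * q0 = q0 * c := by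
      have : c * q0 = (c * q0 * c⁻¹) * c := by group
      rw [this, hcq0, h1]; group
    exact h.selfC (h.centralizes_of hq0 hq0x hx hcR hcq)
  · -- v = z
    have hzq0c : q0 * z = z * q0 := h.z_comm q0 hq0
    have hcq : (x * c) * q0 = q0 * (x * c) := by
      have e : c * q0 = q0 * z * c := by
        have : c * q0 = (c * q0 * c⁻¹) * c := by group
        rw [this, hcq0, h1]
      calc (x * c) * q0 = x * (c * q0) := by group
        _ = x * (q0 * z * c) := by rw [e]
        _ = x * (q0 * z) * c := by group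
        _ = x * (z * q0) * c := by rw [hzq0c]
        _ = (x * z) * q0 * c := by group
        _ = (z * x) * q0 * c := by rw [h.z_comm x hx]
        _ = z * (x * q0 * x) * x⁻¹ * c := by group
        _ = z * (z * q0) * x * c := by rw [hxq0, hxinv]
        _ = (z * z) * q0 * x * c := by group
        _ = q0 * (x * c) := by rw [h.z_sq]; group
    have hcR' : ∀ r ∈ Q, r * x = x * r → (x * c) * r = r * (x * c) := by
      intro r hr hrx
      have h2 := hcR r hr hrx
      calc (x * c) * r = x * (c * r) := by group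
        _ = x * (r * c) := by rw [h2]
        _ = (x * r) * c := by group
        _ = (r * x) * c := by rw [hrx]
        _ = r * (x * c) := by group
    have h3 := h.selfC (h.centralizes_of hq0 hq0x hx hcR' hcq)
    have : c = x⁻¹ * (x * c) := by group
    rw [this]
    exact Q.mul_mem (Q.inv_mem hx) h3
  · -- v = x : impossible
    exfalso
    rw [h1, hxq0] at hvqv
    exact hzq0 hvqv
  · -- v = z x : impossible
    exfalso
    rw [h1] at hvqv
    have hzq0c : q0 * z = z * q0 := h.z_comm q0 hq0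
    have e : z * x * q0 * (z * x) = z * q0 := by
      calc z * x * q0 * (z * x) = z * x * (q0 * z) * x := by group
        _ = z * x * (z * q0) * x := by rw [hzq0c]
        _ = z * (x * z) * q0 * x := by group
        _ = z * (z * x) * q0 * x := by rw [h.z_comm x hx]
        _ = (z * z) * (x * q0 * x) := by group
        _ = z * q0 := by rw [h.z_sq, hxq0]; group
    rw [e] at hvqv
    exact hzq0 hvqv

end LX

end Cfsg.Agent.Helper3.LargeX
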