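import Mathlib
import Cfsg.Agent.Helper3.LargeXC

set_option autoImplicit false

namespace Cfsg.Agent.Helper3.LargeX

open scoped commutatorElement

variable {G : Type*} [Group G]

section Qfun

variable (Q : G → Subgroup G)
  (hQ : ∀ x : G, Q x = (Cfsg.pCore 2 ↥(Subgroup.centralizer ({x} : Set G))).map
    (Subgroup.centralizer ({x} : Set G)).subtype)

include hQ

theorem Q_le_centralizer (x : G) : Q x ≤ Subgroup.centralizer ({x} : Set G) := by
  rw [hQ x]; exact Subgroup.map_subtype_le _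

theorem Q_comm {x q : G} (hq : q ∈ Q x) : q * x = x * q :=
  Subgroup.mem_centralizer_singleton_iff.mp (Q_le_centralizer Q hQ x hq)

theorem Q_pgroup (x : G) : IsPGroup 2 (Q x) := by
  have : Fact (Nat.Prime 2) := ⟨Nat.prime_two⟩
  rw [hQ x]
  exact (Cfsg.Agent.Helper9.pCore_isPGroup).map _

theorem Q_normal {x c q : G} (hc : c * x = x * c) (hq : q ∈ Q x) : c * q * c⁻¹ ∈ Q x := by
  rw [hQ x] at hq ⊢
  obtain ⟨q', hq', rfl⟩ := hq
  have hcC : c ∈ Subgroup.centralizer ({x} : Set G) :=
    Subgroup.mem_centralizer_singleton_iff.mpr hc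
  have hn : (Cfsg.pCore 2 ↥(Subgroup.centralizer ({x} : Set G))).Normal :=
    Cfsg.Agent.Helper9.pCore_normal
  have := hn.conj_mem q' hq' ⟨c, hcC⟩
  exact ⟨_, this, by simp⟩

theorem le_Q {x : G} {N : Subgroup G} (hN : N ≤ Subgroup.centralizer ({x} : Set G))
    (hp : IsPGroup 2 N) (hnorm : ∀ c : G, c * x = x * c → ∀ n ∈ N, c * n * c⁻¹ ∈ N) :
    N ≤ Q x := by
  rw [hQ x]
  have h1 : (N.subgroupOf (Subgroup.centralizer ({x} : Set G))).Normal := by
    constructor
    intro n hn c
    rw [Subgroup.mem_subgroupOf] at hn ⊢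
    have := hnorm c (Subgroup.mem_centralizer_singleton_iff.mp c.2) _ hn
    simpa using this
  have h2 : IsPGroup 2 (N.subgroupOf (Subgroup.centralizer ({x} : Set G))) := hp.comap_subtype
  have h3 := Cfsg.Agent.Helper9.le_pCore _ h1 h2
  intro n hn
  exact ⟨⟨n, hN hn⟩, h3 (by rw [Subgroup.mem_subgroupOf]; exact hn), rfl⟩

theorem Q_conj_ge (x g : G) :
    (Q x).map (MulAut.conj g).toMonoidHom ≤ Q (g * x * g⁻¹) := by
  apply le_Q Q hQ
  · intro y hy
    rw [mem_conj_iff] at hy
    have := Q_comm Q hQ hy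
    rw [Subgroup.mem_centralizer_singleton_iff]
    calc y * (g * x * g⁻¹) = g * ((g⁻¹ * y * g) * x) * g⁻¹ := by group
      _ = g * (x * (g⁻¹ * y * g)) * g⁻¹ := by rw [this]
      _ = g * x * g⁻¹ * y := by group
  · exact (Q_pgroup Q hQ x).map _
  · intro c hc n hn
    rw [mem_conj_iff] at hn ⊢
    have hc' : (g⁻¹ * c * g) * x = x * (g⁻¹ * c * g) := by
      calc (g⁻¹ * c * g) * x = g⁻¹ * (c * (g * x * g⁻¹)) * g := by group
        _ = g⁻¹ * ((g * x * g⁻¹) * c) * g := by rw [hc]
        _ = x * (g⁻¹ * c * g) := by group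
    have := Q_normal Q hQ hc' hn
    have e : g⁻¹ * (c * n * c⁻¹) * g = g⁻¹ * c * g * (g⁻¹ * n * g) * (g⁻¹ * c * g)⁻¹ := by group
    rw [e]; exact this

theorem Q_conj (x g : G) :
    Q (g * x * g⁻¹) = (Q x).map (MulAut.conj g).toMonoidHom := by
  apply le_antisymm
  · intro y hy
    rw [mem_conj_iff]
    have h1 := Q_conj_ge Q hQ (g * x * g⁻¹) g⁻¹
    have e : g⁻¹ * (g * x * g⁻¹) * g⁻¹⁻¹ = x := by group
    rw [e] at h1
    apply h1
    rw [mem_conj_iff]
    have e2 : g⁻¹⁻¹ * (g⁻¹ * y * g) * g⁻¹ = y := by group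
    rw [e2]; exact hy
  · exact Q_conj_ge Q hQ x g

theorem lx_of_setting (z : G) (hz : orderOf z = 2) (hE : Cfsg.IsExtraspecial 2 ↥(Q z))
    (hC : Subgroup.centralizer ((Q z : Subgroup G) : Set G) ≤ Q z) : LX (Q z) z := by
  have hz1 : z ≠ 1 := by
    intro h1
    rw [h1, orderOf_one] at hz
    omega
  have hzsq : z * z = 1 := by
    have := pow_orderOf_eq_one z
    rw [hz, pow_two] at this
    exact this
  have hzmem : z ∈ Q z := by
    apply hC
    rw [Subgroup.mem_centralizer_iff]
    intro q hq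
    exact Q_comm Q hQ hq
  obtain ⟨⟨hp, hfr, hcomm⟩, hcard⟩ := hE
  -- the centre of Q z is {1, z}
  have hzcen : (⟨z, hzmem⟩ : Q z) ∈ Subgroup.center (Q z) := by
    rw [Subgroup.mem_center_iff]
    intro q
    apply Subtype.ext
    simp only [Subgroup.coe_mul]
    exact Q_comm Q hQ q.2
  have hcen : ∀ c : Q z, c ∈ Subgroup.center (Q z) → (c : G) = 1 ∨ (c : G) = z := by
    intro c hc
    obtain ⟨y, hy1, hy2⟩ := (Nat.card_eq_two_iff' (1 : Subgroup.center (Q z))).mp hcard
    by_cases hc1 : c = 1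
    · left; rw [hc1]; rfl
    · right
      have e1 : (⟨c, hc⟩ : Subgroup.center (Q z)) = y := by
        apply hy2
        intro h1
        apply hc1
        have := congrArg (fun w : Subgroup.center (Q z) => (w : Q z)) h1
        simpa using this
      have e2 : (⟨⟨z, hzmem⟩, hzcen⟩ : Subgroup.center (Q z)) = y := by
        apply hy2
        intro h1
        apply hz1
        have := congrArg (fun w : Subgroup.center (Q z) => ((w : Q z) : G)) h1
        simpa using this
      have := e1.trans e2.symm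
      have := congrArg (fun w : Subgroup.center (Q z) => ((w : Q z) : G)) this
      simpa using this
  refine ⟨hz1, hzsq, hzmem, fun q hq => Q_comm Q hQ hq, ?_, ?_, hC, ?_, hp⟩
  · intro a ha b hb
    have h1 : ⁅(⟨a, ha⟩ : Q z), (⟨b, hb⟩ : Q z)⁆ ∈ commutator (Q z) := by
      rw [commutator_def]
      exact Subgroup.commutator_mem_commutator (Subgroup.mem_top _) (Subgroup.mem_top _)
    rw [hcomm] at h1
    have := hcen _ h1
    simpa [commutatorElement_def] using this
  · intro a ha hcommute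
    have h1 : (⟨a, ha⟩ : Q z) ∈ Subgroup.center (Q z) := by
      rw [Subgroup.mem_center_iff]
      intro q
      apply Subtype.ext
      simp only [Subgroup.coe_mul]
      exact (hcommute q q.2).symm
    exact hcen _ h1
  · intro c hc q hq
    exact Q_normal Q hQ hc hq

end Qfun

end Cfsg.Agent.Helper3.LargeX
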