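import Mathlib
import Cfsg.Agent.Helper3.LargeXD

set_option autoImplicit false

namespace Cfsg.Agent.Helper3.LargeX

variable {G : Type*} [Group G]

section Qfun

variable (Q : G → Subgroup G)
  (hQ : ∀ x : G, Q x = (Cfsg.pCore 2 ↥(Subgroup.centralizer ({x} : Set G))).map
    (Subgroup.centralizer ({x} : Set G)).subtype)
  (z : G) (hz : orderOf z = 2) (hE : Cfsg.IsExtraspecial 2 ↥(Q z))
  (hC : Subgroup.centralizer ((Q z : Subgroup G) : Set G) ≤ Q z)

include hQ hz hE hC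

theorem lx_sing {u : G} (hu : ∃ g : G, g * z * g⁻¹ = u) : LX (Q u) u := by
  obtain ⟨g, rfl⟩ := hu
  rw [Q_conj Q hQ z g]
  exact (lx_of_setting Q hQ z hz hE hC).conj g

/-- If `x` lies in `Q u` and `Q v` for orthogonal singular `u ≠ v`, then `x ∈ Q (u v)`. -/
theorem mem_Q_mul {u v x : G} (hu : ∃ g : G, g * z * g⁻¹ = u)
    (hvu : v ∈ Q u) (hv1 : v ≠ 1) (hvne : v ≠ u)
    (huuv : u ∈ Q (u * v)) (hxu : x ∈ Q u) (hxv : x ∈ Q v) : x ∈ Q (u * v) := by
  have hL := lx_sing Q hQ z hz hE hC hu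
  obtain ⟨q, hq, hqv⟩ := hL.exists_noncomm hvu hv1 hvne
  have h1 : q * x * q⁻¹ ∈ Q (q * v * q⁻¹) := by
    rw [Q_conj Q hQ v q]
    exact conj_mem_conj _ _ _ hxv
  rw [hqv] at h1
  rcases hL.comm_or hq hxu with h2 | h2
  · have : q * x * q⁻¹ = x := by rw [h2]; group
    rwa [this] at h1
  · rw [h2] at h1
    have : x = u⁻¹ * (u * x) := by group
    rw [this]
    exact (Q (u * v)).mul_mem ((Q (u * v)).inv_mem huuv) h1

end Qfun

end Cfsg.Agent.Helper3.LargeX
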