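import Mathlib
import Cfsg.Agent.Helper3.LargeXE

set_option autoImplicit false

namespace Cfsg.Agent.Helper3.LargeX

variable {G : Type*} [Group G]

namespace LX

variable {Q : Subgroup G} {z : G}

theorem conj_eq_of_comm {g x : G} (h1 : g * x = x * g) : g * x * g⁻¹ = x := by
  rw [h1]; group

theorem comm_of_conj_eq {g x : G} (h1 : g * x * g⁻¹ = x) : g * x = x * g := by
  have : g * x = (g * x * g⁻¹) * g := by group
  rw [this, h1]

/-- Nondegeneracy of the commutator pairing, list form. -/
theorem exists_flip (h : LX Q z) (l : List G) (hl : ∀ a ∈ l, a ∈ Q) :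
    ∀ x ∈ Q, x ∉ Subgroup.closure (insert z {a | a ∈ l}) →
      ∃ g ∈ Q, (∀ a ∈ l, g * a = a * g) ∧ g * x * g⁻¹ = z * x := by
  induction l with
  | nil =>
    intro x hx hxA
    have hx1 : x ≠ 1 := by
      intro h1; apply hxA; rw [h1]; exact Subgroup.one_mem _
    have hxz : x ≠ z := by
      intro h1; apply hxA; rw [h1]
      exact Subgroup.subset_closure (Set.mem_insert _ _)
    obtain ⟨q, hq, hqx⟩ := h.exists_noncomm hx hx1 hxz
    exact ⟨q, hq, by simp, hqx⟩
  | cons a l ih =>
    intro x hx hxA'
    have hl' : ∀ b ∈ l, b ∈ Q := fun b hb => hl b (List.mem_cons_of_mem _ hb)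
    have haQ : a ∈ Q := hl a List.mem_cons_self
    have hAA' : Subgroup.closure (insert z {b | b ∈ l}) ≤
        Subgroup.closure (insert z {b | b ∈ a :: l}) := by
      apply Subgroup.closure_mono
      apply Set.insert_subset_insert
      intro b hb
      exact List.mem_cons_of_mem _ hb
    have haA' : a ∈ Subgroup.closure (insert z {b | b ∈ a :: l}) :=
      Subgroup.subset_closure (Set.mem_insert_of_mem _ List.mem_cons_self)
    have hxA : x ∉ Subgroup.closure (insert z {b | b ∈ l}) := fun h1 => hxA' (hAA' h1)
    obtain ⟨g1, hg1, hg1l, hg1x⟩ := ih hl' x hx hxA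
    by_cases hg1a : g1 * a = a * g1
    · refine ⟨g1, hg1, ?_, hg1x⟩
      intro b hb
      rcases List.mem_cons.mp hb with rfl | hb
      · exact hg1a
      · exact hg1l b hb
    have hg1a' : g1 * a * g1⁻¹ = z * a := (h.comm_or hg1 haQ).resolve_left hg1a
    have haA : a ∉ Subgroup.closure (insert z {b | b ∈ l}) := by
      intro h1
      apply hg1a
      have hle : Subgroup.closure (insert z {b | b ∈ l}) ≤ Subgroup.centralizer ({g1} : Set G) := by
        rw [Subgroup.closure_le]
        intro b hb
        rw [SetLike.mem_coe, Subgroup.mem_centralizer_singleton_iff]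
        rcases hb with rfl | hb
        · exact (h.z_comm g1 hg1).symm
        · exact (hg1l b hb).symm
      exact (Subgroup.mem_centralizer_singleton_iff.mp (hle h1)).symm
    have hxaA : x * a ∉ Subgroup.closure (insert z {b | b ∈ l}) := by
      intro h1
      apply hxA'
      have : x = (x * a) * a⁻¹ := by group
      rw [this]
      exact Subgroup.mul_mem _ (hAA' h1) (Subgroup.inv_mem _ haA')
    obtain ⟨g3, hg3, hg3l, hg3xa⟩ := ih hl' (x * a) (Q.mul_mem hx haQ) hxaA
    have e3 : g3 * (x * a) * g3⁻¹ = (g3 * x * g3⁻¹) * (g3 * a * g3⁻¹) := by group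
    rw [e3] at hg3xa
    have hzx : z * x = x * z := (h.z_comm x hx).symm
    rcases h.comm_or hg3 hx with h3x | h3x
    · rcases h.comm_or hg3 haQ with h3a | h3a
      · exfalso
        rw [conj_eq_of_comm h3x, conj_eq_of_comm h3a] at hg3xa
        exact h.zx_ne hg3xa.symm
      · -- fixes x, flips a : use g1 * g3
        refine ⟨g1 * g3, Q.mul_mem hg1 hg3, ?_, ?_⟩
        · intro b hb
          rcases List.mem_cons.mp hb with rfl | hb
          · apply comm_of_conj_eq
            have : g1 * g3 * b * (g1 * g3)⁻¹ = g1 * (g3 * b * g3⁻¹) * g1⁻¹ := by group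
            rw [this, h3a]
            have : g1 * (z * b) * g1⁻¹ = (g1 * z * g1⁻¹) * (g1 * b * g1⁻¹) := by group
            rw [this, h.conj_z hg1, hg1a', ← mul_assoc, h.z_sq, one_mul]
          · have e1 := hg1l b hb
            have e2 := hg3l b hb
            calc g1 * g3 * b = g1 * (g3 * b) := by group
              _ = g1 * (b * g3) := by rw [e2]
              _ = (g1 * b) * g3 := by group
              _ = (b * g1) * g3 := by rw [e1]
              _ = b * (g1 * g3) := by group
        · have : g1 * g3 * x * (g1 * g3)⁻¹ = g1 * (g3 * x * g3⁻¹) * g1⁻¹ := by group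
          rw [this, conj_eq_of_comm h3x, hg1x]
    · rcases h.comm_or hg3 haQ with h3a | h3a
      · -- flips x, fixes a : use g3
        refine ⟨g3, hg3, ?_, h3x⟩
        intro b hb
        rcases List.mem_cons.mp hb with rfl | hb
        · exact h3a
        · exact hg3l b hb
      · exfalso
        rw [h3x, h3a] at hg3xa
        have : z * x * (z * a) = x * a := by
          calc z * x * (z * a) = z * (x * z) * a := by group
            _ = z * (z * x) * a := by rw [hzx]
            _ = (z * z) * (x * a) := by group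
            _ = x * a := by rw [h.z_sq, one_mul]
        rw [this] at hg3xa
        exact h.zx_ne hg3xa.symm

/-- Nondegeneracy, subgroup form. -/
theorem exists_flip' [Finite G] (h : LX Q z) (A : Subgroup G) (hAQ : A ≤ Q) (hzA : z ∈ A)
    {x : G} (hx : x ∈ Q) (hxA : x ∉ A) :
    ∃ g ∈ Q, (∀ a ∈ A, g * a = a * g) ∧ g * x * g⁻¹ = z * x := by
  classical
  have hfin : (A : Set G).Finite := Set.toFinite _
  set l := hfin.toFinset.toList with hl
  have hmem : ∀ a, a ∈ l ↔ a ∈ A := by
    intro a
    rw [hl, Finset.mem_toList, Set.Finite.mem_toFinset, SetLike.mem_coe]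
  have hcl : Subgroup.closure (insert z {a | a ∈ l}) = A := by
    apply le_antisymm
    · rw [Subgroup.closure_le]
      intro b hb
      rcases hb with rfl | hb
      · exact hzA
      · exact (hmem b).mp hb
    · intro a ha
      exact Subgroup.subset_closure (Set.mem_insert_of_mem _ ((hmem a).mpr ha))
  obtain ⟨g, hg, hgl, hgx⟩ := h.exists_flip l (fun a ha => hAQ ((hmem a).mp ha)) x hx
    (by rw [hcl]; exact hxA)
  exact ⟨g, hg, fun a ha => hgl a ((hmem a).mpr ha), hgx⟩

end LX

end Cfsg.Agent.Helper3.LargeX
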