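import Mathlib
import Cfsg.Agent.Helper3.LargeXF

set_option autoImplicit false

namespace Cfsg.Agent.Helper3.LargeX

variable {G : Type*} [Group G]

section Sing

variable (Q : G → Subgroup G)
  (hQ : ∀ x : G, Q x = (Cfsg.pCore 2 ↥(Subgroup.centralizer ({x} : Set G))).map
    (Subgroup.centralizer ({x} : Set G)).subtype)
  (z : G) (hz : orderOf z = 2) (hE : Cfsg.IsExtraspecial 2 ↥(Q z))
  (hC : Subgroup.centralizer ((Q z : Subgroup G) : Set G) ≤ Q z)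
  (U : Subgroup G) (hU2 : ∀ u ∈ U, u * u = 1)
  (hS : ∀ u ∈ U, u ≠ 1 → ∃ g : G, g * z * g⁻¹ = u)
  (hO : ∀ u ∈ U, ∀ v ∈ U, u ≠ 1 → v ≠ 1 → v ∈ Q u)

include hQ hz hE hC hS in
theorem lx_U {u : G} (hu : u ∈ U) (hu1 : u ≠ 1) : LX (Q u) u :=
  lx_sing Q hQ z hz hE hC (hS u hu hu1)

include hQ hz hE hC hS hO in
theorem U_le_Q {u : G} (hu : u ∈ U) (hu1 : u ≠ 1) : U ≤ Q u := by
  intro v hv
  by_cases hv1 : v = 1
  · rw [hv1]; exact Subgroup.one_mem _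
  · exact hO u hu v hv hu1 hv1

include hQ hz hE hC hS hO in
theorem sing_conj {u : G} (hu : u ∈ U) (hu1 : u ≠ 1) {q : G} (hq : q ∈ Q u) {v : G}
    (hv : v ∈ U) : q * v * q⁻¹ = v ∨ q * v * q⁻¹ = u * v := by
  have hL := lx_U Q hQ z hz hE hC U hS hu hu1
  rcases hL.comm_or hq (U_le_Q Q hQ z hz hE hC U hS hO hu hu1 hv) with h1 | h1
  · left; exact LX.conj_eq_of_comm h1
  · right; exact h1

include hQ hz hE hC hS hO in
theorem Q_le_normalizer {u : G} (hu : u ∈ U) (hu1 : u ≠ 1) :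
    Q u ≤ Subgroup.normalizer (U : Set G) := by
  have key : ∀ q ∈ Q u, ∀ v ∈ U, q * v * q⁻¹ ∈ U := by
    intro q hq v hv
    rcases sing_conj Q hQ z hz hE hC U hS hO hu hu1 hq hv with h1 | h1
    · rw [h1]; exact hv
    · rw [h1]; exact U.mul_mem hu hv
  intro q hq
  rw [Subgroup.mem_normalizer_iff]
  intro v
  constructor
  · exact key q hq v
  · intro h1
    have := key q⁻¹ ((Q u).inv_mem hq) _ h1
    have e : q⁻¹ * (q * v * q⁻¹) * q⁻¹⁻¹ = v := by group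
    rwa [e] at this

include hQ hz hE hC hS hO in
/-- Transvections: for `u ∈ U`, a subgroup `A ≤ Q u` containing `u`, and `x ∈ Q u` outside `A`,
some element of `Q u` centralizes `A` and sends `x` to `u x`. -/
theorem exists_transv [Finite G] {u : G} (hu : u ∈ U) (hu1 : u ≠ 1) (A : Subgroup G)
    (hA : A ≤ Q u) (huA : u ∈ A) {x : G} (hx : x ∈ Q u) (hxA : x ∉ A) :
    ∃ g ∈ Q u, (∀ a ∈ A, g * a * g⁻¹ = a) ∧ g * x * g⁻¹ = u * x ∧
      ∀ v ∈ U, g * v * g⁻¹ = v ∨ g * v * g⁻¹ = u * v := by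
  have hL := lx_U Q hQ z hz hE hC U hS hu hu1
  obtain ⟨g, hg, hgA, hgx⟩ := hL.exists_flip' A hA huA hx hxA
  refine ⟨g, hg, fun a ha => LX.conj_eq_of_comm (hgA a ha), hgx, ?_⟩
  intro v hv
  exact sing_conj Q hQ z hz hE hC U hS hO hu hu1 hg hv

end Sing

end Cfsg.Agent.Helper3.LargeX
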