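import Mathlib

set_option autoImplicit false

namespace Cfsg.Agent.Helper3.LargeX.EA

variable {G : Type*} [Group G]

section basic

variable {U : Subgroup G} (hU2 : ∀ u ∈ U, u * u = 1)

include hU2

theorem ea_inv {a : G} (ha : a ∈ U) : a⁻¹ = a := inv_eq_of_mul_eq_one_left (hU2 a ha)

theorem ea_comm {a b : G} (ha : a ∈ U) (hb : b ∈ U) : a * b = b * a := by
  have h1 := hU2 (a * b) (U.mul_mem ha hb)
  have h2 : a * b = (a * b * (a * b)) * b⁻¹ * a⁻¹ := by group
  rw [h2, h1, ea_inv hU2 ha, ea_inv hU2 hb]; group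

theorem ea_cancel {a b : G} (ha : a ∈ U) : a * (a * b) = b := by
  rw [← mul_assoc, hU2 a ha, one_mul]

/-- `C` extended by one element `u`. -/
def adj (C : Subgroup G) (hC : C ≤ U) (u : G) (hu : u ∈ U) : Subgroup G where
  carrier := {a | a ∈ C ∨ u * a ∈ C}
  one_mem' := Or.inl C.one_mem
  mul_mem' := by
    intro a b ha hb
    have haU : a ∈ U := by
      rcases ha with ha | ha
      · exact hC ha
      · have : a = u⁻¹ * (u * a) := by group
        rw [this]; exact U.mul_mem (U.inv_mem hu) (hC ha)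
    have hbU : b ∈ U := by
      rcases hb with hb | hb
      · exact hC hb
      · have : b = u⁻¹ * (u * b) := by group
        rw [this]; exact U.mul_mem (U.inv_mem hu) (hC hb)
    rcases ha with ha | ha
    · rcases hb with hb | hb
      · exact Or.inl (C.mul_mem ha hb)
      · right
        have : u * (a * b) = a * (u * b) := by
          rw [← mul_assoc, ea_comm hU2 hu haU, mul_assoc]
        rw [this]; exact C.mul_mem ha hb
    · rcases hb with hb | hb
      · right
        have : u * (a * b) = (u * a) * b := by group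
        rw [this]; exact C.mul_mem ha hb
      · left
        have : a * b = (u * a) * (u * b) := by
          have e1 : (u * a) * (u * b) = u * (a * u) * b := by group
          rw [e1, ea_comm hU2 haU hu, ← mul_assoc, hU2 u hu, one_mul]
        rw [this]; exact C.mul_mem ha hb
  inv_mem' := by
    intro a ha
    have haU : a ∈ U := by
      rcases ha with ha | ha
      · exact hC ha
      · have : a = u⁻¹ * (u * a) := by group
        rw [this]; exact U.mul_mem (U.inv_mem hu) (hC ha)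
    show a⁻¹ ∈ {a | a ∈ C ∨ u * a ∈ C}
    rw [ea_inv hU2 haU]; exact ha

theorem mem_adj {C : Subgroup G} {hC : C ≤ U} {u : G} {hu : u ∈ U} {a : G} :
    a ∈ adj hU2 C hC u hu ↔ a ∈ C ∨ u * a ∈ C := Iff.rfl

theorem adj_le {C : Subgroup G} {hC : C ≤ U} {u : G} {hu : u ∈ U} : adj hU2 C hC u hu ≤ U := by
  intro a ha
  rcases ha with ha | ha
  · exact hC ha
  · have : a = u⁻¹ * (u * a) := by group
    rw [this]; exact U.mul_mem (U.inv_mem hu) (hC ha)

theorem le_adj {C : Subgroup G} {hC : C ≤ U} {u : G} {hu : u ∈ U} : C ≤ adj hU2 C hC u hu :=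
  fun _ ha => Or.inl ha

theorem self_mem_adj {C : Subgroup G} {hC : C ≤ U} {u : G} {hu : u ∈ U} :
    u ∈ adj hU2 C hC u hu := by
  right; rw [hU2 u hu]; exact C.one_mem

/-- Product of two subgroups of `U`. -/
def prodSub (H C : Subgroup G) (hH : H ≤ U) (hC : C ≤ U) : Subgroup G where
  carrier := {a | ∃ h ∈ H, ∃ c ∈ C, a = h * c}
  one_mem' := ⟨1, H.one_mem, 1, C.one_mem, by simp⟩
  mul_mem' := by
    rintro a b ⟨h, hh, c, hc, rfl⟩ ⟨h', hh', c', hc', rfl⟩
    refine ⟨h * h', H.mul_mem hh hh', c * c', C.mul_mem hc hc', ?_⟩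
    have : h * c * (h' * c') = h * (c * h') * c' := by group
    rw [this, ea_comm hU2 (hC hc) (hH hh')]; group
  inv_mem' := by
    rintro a ⟨h, hh, c, hc, rfl⟩
    refine ⟨h, hh, c, hc, ?_⟩
    exact ea_inv hU2 (U.mul_mem (hH hh) (hC hc))

theorem mem_prodSub {H C : Subgroup G} {hH : H ≤ U} {hC : C ≤ U} {a : G} :
    a ∈ prodSub hU2 H C hH hC ↔ ∃ h ∈ H, ∃ c ∈ C, a = h * c := Iff.rfl

theorem prodSub_le {H C : Subgroup G} {hH : H ≤ U} {hC : C ≤ U} : prodSub hU2 H C hH hC ≤ U := by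
  rintro a ⟨h, hh, c, hc, rfl⟩
  exact U.mul_mem (hH hh) (hC hc)

theorem exists_compl [Finite G] {W : Subgroup G} (hW : W ≤ U) {u0 : G} (hu0 : u0 ∈ W)
    (hu01 : u0 ≠ 1) :
    ∃ W1 : Subgroup G, W1 ≤ W ∧ u0 ∉ W1 ∧ (∀ w ∈ W, w ∈ W1 ∨ u0 * w ∈ W1) ∧
      Nat.card W1 < Nat.card W := by
  have h0 : (fun S : Subgroup G => S ≤ W ∧ u0 ∉ S) ⊥ :=
    ⟨bot_le, fun h => hu01 (Subgroup.mem_bot.mp h)⟩
  obtain ⟨W1, -, hmax⟩ := Finite.exists_le_maximal (p := fun S : Subgroup G => S ≤ W ∧ u0 ∉ S) h0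
  obtain ⟨⟨hW1W, hu0W1⟩, hmax'⟩ := hmax
  refine ⟨W1, hW1W, hu0W1, ?_, ?_⟩
  · intro w hw
    by_cases hwW1 : w ∈ W1
    · exact Or.inl hwW1
    right
    have hW1U : W1 ≤ U := le_trans hW1W hW
    have hwU : w ∈ U := hW hw
    by_contra hcon
    have hp : (fun S : Subgroup G => S ≤ W ∧ u0 ∉ S) (adj hU2 W1 hW1U w hwU) := by
      refine ⟨?_, ?_⟩
      · intro a ha
        rcases ha with ha | ha
        · exact hW1W ha
        · have : a = w⁻¹ * (w * a) := by group
          rw [this]; exact W.mul_mem (W.inv_mem hw) (hW1W ha)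
      · intro h1
        rcases h1 with h1 | h1
        · exact hu0W1 h1
        · apply hcon
          rw [ea_comm hU2 (hW hu0) hwU]; exact h1
    have := hmax' hp (le_adj hU2)
    exact hwW1 (this (self_mem_adj hU2))
  · by_contra hcon
    push Not at hcon
    have := Subgroup.eq_of_le_of_card_ge hW1W hcon
    apply hu0W1
    rw [this]; exact hu0

end basic

end Cfsg.Agent.Helper3.LargeX.EA
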