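import Mathlib
import Cfsg.Agent.Helper3.LargeXH

set_option autoImplicit false

namespace Cfsg.Agent.Helper3.LargeX.EA

variable {G : Type*} [Group G]

/-- `α` restricts to an injective endomorphism of `W`. -/
structure IsAutOn (W : Subgroup G) (α : G → G) : Prop where
  maps : ∀ w ∈ W, α w ∈ W
  mul : ∀ a ∈ W, ∀ b ∈ W, α (a * b) = α a * α b
  inj : ∀ w ∈ W, α w = 1 → w = 1

theorem IsAutOn.map_one {W : Subgroup G} {α : G → G} (h : IsAutOn W α) : α 1 = 1 := by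
  have := h.mul 1 W.one_mem 1 W.one_mem
  rw [mul_one] at this
  exact (mul_eq_left.mp this.symm)

section gen

variable {U L : Subgroup G} (hU2 : ∀ u ∈ U, u * u = 1)
  (hT : ∀ u ∈ U, u ≠ 1 → ∀ A : Subgroup G, A ≤ U → u ∈ A → ∀ x ∈ U, x ∉ A →
    ∃ g ∈ L, (∀ a ∈ A, g * a * g⁻¹ = a) ∧ g * x * g⁻¹ = u * x ∧
      ∀ v ∈ U, g * v * g⁻¹ = v ∨ g * v * g⁻¹ = u * v)

include hU2 hT

theorem step_a {W C : Subgroup G} (hW : W ≤ U) (hC : C ≤ U) (hWC : W ⊓ C = ⊥)
    {u0 w1 : G} (hu0 : u0 ∈ W) (hu01 : u0 ≠ 1) (hw1 : w1 ∈ W) (hw11 : w1 ≠ 1) :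
    ∃ g1 ∈ L, g1 * w1 * g1⁻¹ = u0 ∧ (∀ c ∈ C, g1 * c * g1⁻¹ = c) ∧
      (∀ w ∈ W, g1 * w * g1⁻¹ ∈ W) := by
  by_cases hne : w1 = u0
  · refine ⟨1, L.one_mem, by rw [hne]; group, fun c _ => by group, fun w hw => ?_⟩
    have : (1 : G) * w * 1⁻¹ = w := by group
    rw [this]; exact hw
  have hu0U := hW hu0
  have hw1U := hW hw1
  have huW : u0 * w1 ∈ W := W.mul_mem hu0 hw1
  have huU : u0 * w1 ∈ U := hW huW
  have hu1 : u0 * w1 ≠ 1 := by
    intro h1
    apply hne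
    have : w1 = u0⁻¹ * (u0 * w1) := by group
    rw [this, h1, mul_one, ea_inv hU2 hu0U]
  have hbot : ∀ a, a ∈ W → a ∈ C → a = 1 := by
    intro a ha hc
    have : a ∈ W ⊓ C := Subgroup.mem_inf.mpr ⟨ha, hc⟩
    rw [hWC] at this
    exact Subgroup.mem_bot.mp this
  have hw1A : w1 ∉ adj hU2 C hC (u0 * w1) huU := by
    intro h1
    rcases h1 with h1 | h1
    · exact hw11 (hbot w1 hw1 h1)
    · have e : u0 * w1 * w1 = u0 := by rw [mul_assoc, hU2 w1 hw1U, mul_one]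
      rw [e] at h1
      exact hu01 (hbot u0 hu0 h1)
  obtain ⟨g1, hg1, hg1A, hg1x, hg1U⟩ := hT (u0 * w1) huU hu1 (adj hU2 C hC (u0 * w1) huU)
    (adj_le hU2) (self_mem_adj hU2) w1 hw1U hw1A
  refine ⟨g1, hg1, ?_, fun c hc => hg1A c (le_adj hU2 hc), ?_⟩
  · rw [hg1x, mul_assoc, hU2 w1 hw1U, mul_one]
  · intro w hw
    rcases hg1U w (hW hw) with h1 | h1
    · rw [h1]; exact hw
    · rw [h1]; exact W.mul_mem huW hw

theorem step_c {W C : Subgroup G} (hW : W ≤ U) (hC : C ≤ U) (hWC : W ⊓ C = ⊥)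
    {u0 : G} (hu0 : u0 ∈ W) (hu01 : u0 ≠ 1) (γ : G → G)
    (hγmul : ∀ a ∈ W, ∀ b ∈ W, γ (a * b) = γ a * γ b)
    (hγ : ∀ w ∈ W, γ w = w ∨ γ w = u0 * w) (hγu0 : γ u0 = u0) :
    ∃ g3 ∈ L, (∀ w ∈ W, g3 * w * g3⁻¹ = γ w) ∧ (∀ c ∈ C, g3 * c * g3⁻¹ = c) := by
  by_cases hall : ∀ w ∈ W, γ w = w
  · refine ⟨1, L.one_mem, fun w hw => ?_, fun c _ => by group⟩
    rw [hall w hw]; group
  push Not at hall
  obtain ⟨x, hxW, hxne⟩ := hall
  have hγx : γ x = u0 * x := (hγ x hxW).resolve_left hxne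
  have hu0U := hW hu0
  have hxU := hW hxW
  -- the fixed subgroup
  let H : Subgroup G :=
    { carrier := {w | w ∈ W ∧ γ w = w}
      one_mem' := by
        refine ⟨W.one_mem, ?_⟩
        have := hγmul 1 W.one_mem 1 W.one_mem
        rw [mul_one] at this
        exact (mul_eq_left.mp this.symm)
      mul_mem' := by
        rintro a b ⟨ha, ha'⟩ ⟨hb, hb'⟩
        refine ⟨W.mul_mem ha hb, ?_⟩
        rw [hγmul a ha b hb, ha', hb']
      inv_mem' := by
        rintro a ⟨ha, ha'⟩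
        show a⁻¹ ∈ {w | w ∈ W ∧ γ w = w}
        rw [ea_inv hU2 (hW ha)]
        exact ⟨ha, ha'⟩ }
  have hHmem : ∀ w, w ∈ H ↔ w ∈ W ∧ γ w = w := fun w => Iff.rfl
  have hHW : H ≤ W := fun w hw => ((hHmem w).mp hw).1
  have hHU : H ≤ U := le_trans hHW hW
  have hu0H : u0 ∈ H := (hHmem u0).mpr ⟨hu0, hγu0⟩
  have hbot : ∀ a, a ∈ W → a ∈ C → a = 1 := by
    intro a ha hc
    have : a ∈ W ⊓ C := Subgroup.mem_inf.mpr ⟨ha, hc⟩
    rw [hWC] at this
    exact Subgroup.mem_bot.mp this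
  have hxA : x ∉ prodSub hU2 H C hHU hC := by
    rintro ⟨h, hh, c, hc, hxhc⟩
    have hc1 : c = 1 := by
      apply hbot c _ hc
      have : c = h⁻¹ * x := by rw [hxhc]; group
      rw [this]; exact W.mul_mem (W.inv_mem (hHW hh)) hxW
    rw [hc1, mul_one] at hxhc
    apply hxne
    rw [hxhc]
    exact ((hHmem h).mp hh).2
  have hu0A : u0 ∈ prodSub hU2 H C hHU hC := ⟨u0, hu0H, 1, C.one_mem, by simp⟩
  obtain ⟨g3, hg3, hg3A, hg3x, -⟩ := hT u0 hu0U hu01 (prodSub hU2 H C hHU hC)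
    (prodSub_le hU2) hu0A x hxU hxA
  refine ⟨g3, hg3, ?_, ?_⟩
  · intro w hw
    rcases hγ w hw with h1 | h1
    · rw [h1]
      exact hg3A w ⟨w, (hHmem w).mpr ⟨hw, h1⟩, 1, C.one_mem, by simp⟩
    · -- x * w is fixed
      have hxw : x * w ∈ H := by
        refine (hHmem _).mpr ⟨W.mul_mem hxW hw, ?_⟩
        rw [hγmul x hxW w hw, hγx, h1]
        have hwU := hW hw
        calc u0 * x * (u0 * w) = u0 * (x * u0) * w := by group
          _ = u0 * (u0 * x) * w := by rw [ea_comm hU2 hxU hu0U]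
          _ = (u0 * u0) * x * w := by group
          _ = x * w := by rw [hU2 u0 hu0U, one_mul]
      have h2 := hg3A (x * w) ⟨x * w, hxw, 1, C.one_mem, by simp⟩
      have e : g3 * (x * w) * g3⁻¹ = (g3 * x * g3⁻¹) * (g3 * w * g3⁻¹) := by group
      rw [e, hg3x] at h2
      rw [h1]
      have e2 : g3 * w * g3⁻¹ = (u0 * x)⁻¹ * (u0 * x * (g3 * w * g3⁻¹)) := by group
      rw [e2, h2, ea_inv hU2 (U.mul_mem hu0U hxU)]
      calc u0 * x * (x * w) = u0 * (x * x) * w := by group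
        _ = u0 * w := by rw [hU2 x hxU, mul_one]
  · intro c hc
    exact hg3A c ⟨1, H.one_mem, c, hc, by simp⟩

end gen

/-- The projection of `W = W1 × ⟨u0⟩` onto `W1`. -/
noncomputable def proj (W1 : Subgroup G) (u0 : G) (w : G) : G := by
  classical exact if w ∈ W1 then w else u0 * w

section proj

variable {U W W1 : Subgroup G} (hU2 : ∀ u ∈ U, u * u = 1) (hW : W ≤ U) (hW1 : W1 ≤ W)
  {u0 : G} (hu0 : u0 ∈ W) (hu0W1 : u0 ∉ W1) (hcompl : ∀ w ∈ W, w ∈ W1 ∨ u0 * w ∈ W1)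

theorem proj_of_mem {w : G} (hw : w ∈ W1) : proj W1 u0 w = w := by
  unfold proj; simp [hw]

theorem proj_of_not_mem {w : G} (hw : w ∉ W1) : proj W1 u0 w = u0 * w := by
  unfold proj; simp [hw]

include hcompl in
theorem proj_mem {w : G} (hw : w ∈ W) : proj W1 u0 w ∈ W1 := by
  by_cases h1 : w ∈ W1
  · rw [proj_of_mem h1]; exact h1
  · rw [proj_of_not_mem h1]; exact (hcompl w hw).resolve_left h1

include hU2 hW hu0 in
theorem eq_proj_or {w : G} : w = proj W1 u0 w ∨ w = u0 * proj W1 u0 w := by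
  by_cases h1 : w ∈ W1
  · left; rw [proj_of_mem h1]
  · right; rw [proj_of_not_mem h1, ea_cancel hU2 (hW hu0)]

include hU2 hW hu0 hcompl in
theorem proj_mul {a b : G} (ha : a ∈ W) (hb : b ∈ W) :
    proj W1 u0 (a * b) = proj W1 u0 a * proj W1 u0 b := by
  have hu0U := hW hu0
  have haU := hW ha
  have hbU := hW hb
  by_cases h1 : a ∈ W1
  · by_cases h2 : b ∈ W1
    · rw [proj_of_mem h1, proj_of_mem h2, proj_of_mem (W1.mul_mem h1 h2)]
    · have h3 : a * b ∉ W1 := by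
        intro h3
        apply h2
        have : b = a⁻¹ * (a * b) := by group
        rw [this]; exact W1.mul_mem (W1.inv_mem h1) h3
      rw [proj_of_mem h1, proj_of_not_mem h2, proj_of_not_mem h3]
      rw [← mul_assoc, ea_comm hU2 hu0U haU, mul_assoc]
  · by_cases h2 : b ∈ W1
    · have h3 : a * b ∉ W1 := by
        intro h3
        apply h1
        have : a = (a * b) * b⁻¹ := by group
        rw [this]; exact W1.mul_mem h3 (W1.inv_mem h2)
      rw [proj_of_not_mem h1, proj_of_mem h2, proj_of_not_mem h3, mul_assoc]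
    · have h1' := (hcompl a ha).resolve_left h1
      have h2' := (hcompl b hb).resolve_left h2
      have e : a * b = (u0 * a) * (u0 * b) := by
        have e1 : (u0 * a) * (u0 * b) = u0 * (a * u0) * b := by group
        rw [e1, ea_comm hU2 haU hu0U, ← mul_assoc, hU2 u0 hu0U, one_mul]
      have h3 : a * b ∈ W1 := by rw [e]; exact W1.mul_mem h1' h2'
      rw [proj_of_not_mem h1, proj_of_not_mem h2, proj_of_mem h3, e]

end proj

end Cfsg.Agent.Helper3.LargeX.EA
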