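import Mathlib
import Cfsg.Agent.Helper3.LargeXI

set_option autoImplicit false

namespace Cfsg.Agent.Helper3.LargeX.EA

variable {G : Type*} [Group G]

section gen

variable {U L : Subgroup G} (hU2 : ∀ u ∈ U, u * u = 1)
  (hT : ∀ u ∈ U, u ≠ 1 → ∀ A : Subgroup G, A ≤ U → u ∈ A → ∀ x ∈ U, x ∉ A →
    ∃ g ∈ L, (∀ a ∈ A, g * a * g⁻¹ = a) ∧ g * x * g⁻¹ = u * x ∧
      ∀ v ∈ U, g * v * g⁻¹ = v ∨ g * v * g⁻¹ = u * v)

include hU2 hT

/-- Every automorphism of a subgroup `W` of `U` fixing a complementary subgroup `C` pointwise is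
induced by `L`, provided `L` induces all transvections. -/
theorem gen [Finite G] : ∀ n : ℕ, ∀ W C : Subgroup G, W ≤ U → C ≤ U → Nat.card W ≤ n →
    W ⊓ C = ⊥ → ∀ α : G → G, IsAutOn W α →
    ∃ g ∈ L, (∀ w ∈ W, g * w * g⁻¹ = α w) ∧ ∀ c ∈ C, g * c * g⁻¹ = c := by
  intro n
  induction n with
  | zero =>
    intro W C _ _ hcard
    have := Nat.card_pos (α := W)
    omega
  | succ n ih =>
    intro W C hW hC hcard hWC α hα
    by_cases hWbot : W = ⊥
    · refine ⟨1, L.one_mem, ?_, fun c _ => by group⟩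
      intro w hw
      rw [hWbot] at hw
      have := Subgroup.mem_bot.mp hw
      subst this
      rw [hα.map_one]; group
    obtain ⟨u0, hu0, hu01⟩ : ∃ u0 ∈ W, u0 ≠ 1 := by
      obtain ⟨a, ha⟩ := (Subgroup.ne_bot_iff_exists_ne_one).mp hWbot
      exact ⟨a, a.2, fun h => ha (Subtype.ext h)⟩
    have hu0U := hW hu0
    have hw1 : α u0 ∈ W := hα.maps u0 hu0
    have hw11 : α u0 ≠ 1 := fun h => hu01 (hα.inj u0 hu0 h)
    obtain ⟨g1, hg1, hg1w, hg1C, hg1W⟩ := step_a hU2 hT hW hC hWC hu0 hu01 hw1 hw11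
    -- β
    set β : G → G := fun w => g1 * α w * g1⁻¹ with hβdef
    have hβ : IsAutOn W β := by
      refine ⟨fun w hw => hg1W _ (hα.maps w hw), ?_, ?_⟩
      · intro a ha b hb
        simp only [hβdef, hα.mul a ha b hb]; group
      · intro w hw h1
        apply hα.inj w hw
        have : α w = g1⁻¹ * (g1 * α w * g1⁻¹) * g1 := by group
        rw [this]
        simp only [hβdef] at h1
        rw [h1]; group
    have hβu0 : β u0 = u0 := hg1w
    obtain ⟨W1, hW1W, hu0W1, hcompl, hcardW1⟩ := exists_compl hU2 hW hu0 hu01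
    have hbot : ∀ a, a ∈ W → a ∈ C → a = 1 := by
      intro a ha hc
      have : a ∈ W ⊓ C := Subgroup.mem_inf.mpr ⟨ha, hc⟩
      rw [hWC] at this
      exact Subgroup.mem_bot.mp this
    -- α1
    set α1 : G → G := fun w => proj W1 u0 (β w) with hα1def
    have hα1 : IsAutOn W1 α1 := by
      refine ⟨fun w hw => proj_mem hcompl (hβ.maps w (hW1W hw)), ?_, ?_⟩
      · intro a ha b hb
        simp only [hα1def]
        rw [hβ.mul a (hW1W ha) b (hW1W hb)]
        exact proj_mul hU2 hW hu0 hcompl (hβ.maps a (hW1W ha)) (hβ.maps b (hW1W hb))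
      · intro w hw h1
        simp only [hα1def] at h1
        rcases eq_proj_or (W1 := W1) (w := β w) hU2 hW hu0 with h2 | h2
        · rw [h1] at h2
          exact hβ.inj w (hW1W hw) h2
        · exfalso
          rw [h1, mul_one] at h2
          have h3 : β (w * u0) = 1 := by
            rw [hβ.mul w (hW1W hw) u0 hu0, h2, hβu0, hU2 u0 hu0U]
          have h4 := hβ.inj (w * u0) (W.mul_mem (hW1W hw) hu0) h3
          apply hu0W1
          have : u0 = w := by
            have : w = (w * u0) * u0⁻¹ := by group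
            rw [this, h4, one_mul, ea_inv hU2 hu0U]
          rw [this]; exact hw
    have hW1C' : W1 ⊓ adj hU2 C hC u0 hu0U = ⊥ := by
      rw [eq_bot_iff]
      intro w hw
      rw [Subgroup.mem_inf] at hw
      obtain ⟨hw1, hwC'⟩ := hw
      rw [Subgroup.mem_bot]
      rcases hwC' with h | h
      · exact hbot w (hW1W hw1) h
      · exfalso
        have h1 := hbot (u0 * w) (W.mul_mem hu0 (hW1W hw1)) h
        apply hu0W1
        have : u0 = w := by
          have : w = u0⁻¹ * (u0 * w) := by group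
          rw [this, h1, mul_one, ea_inv hU2 hu0U]
        rw [this]; exact hw1
    obtain ⟨g2, hg2, hg2W1, hg2C'⟩ := ih W1 (adj hU2 C hC u0 hu0U) (le_trans hW1W hW)
      (adj_le hU2) (by omega) hW1C' α1 hα1
    have hg2u0 : g2 * u0 * g2⁻¹ = u0 := hg2C' u0 (self_mem_adj hU2)
    have hg2u0' : g2⁻¹ * u0 * g2 = u0 := by
      have : g2⁻¹ * u0 * g2 = g2⁻¹ * (g2 * u0 * g2⁻¹) * g2 := by rw [hg2u0]
      rw [this]; group
    have hg2C : ∀ c ∈ C, g2 * c * g2⁻¹ = c := fun c hc => hg2C' c (le_adj hU2 hc)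
    -- γ
    set γ : G → G := fun w => g2⁻¹ * β w * g2 with hγdef
    have hγmul : ∀ a ∈ W, ∀ b ∈ W, γ (a * b) = γ a * γ b := by
      intro a ha b hb
      simp only [hγdef, hβ.mul a ha b hb]; group
    have hγu0 : γ u0 = u0 := by
      simp only [hγdef, hβu0]; exact hg2u0'
    have hγW1 : ∀ w ∈ W1, γ w = w ∨ γ w = u0 * w := by
      intro w hw
      have h1 : g2⁻¹ * α1 w * g2 = w := by
        rw [← hg2W1 w hw]; group
      rcases eq_proj_or (W1 := W1) (w := β w) hU2 hW hu0 with h2 | h2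
      · left
        simp only [hγdef]
        rw [h2]; exact h1
      · right
        simp only [hγdef]
        rw [h2]
        have : g2⁻¹ * (u0 * proj W1 u0 (β w)) * g2
            = (g2⁻¹ * u0 * g2) * (g2⁻¹ * α1 w * g2) := by
          simp only [hα1def]; group
        rw [this, hg2u0', h1]
    have hγ : ∀ w ∈ W, γ w = w ∨ γ w = u0 * w := by
      intro w hw
      rcases hcompl w hw with h1 | h1
      · exact hγW1 w h1
      · have e : w = u0 * (u0 * w) := (ea_cancel hU2 hu0U).symm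
        have e2 : γ w = u0 * γ (u0 * w) := by
          conv_lhs => rw [e]
          rw [hγmul u0 hu0 (u0 * w) (W.mul_mem hu0 hw), hγu0]
        rcases hγW1 (u0 * w) h1 with h2 | h2
        · left; rw [e2, h2, ea_cancel hU2 hu0U]
        · right; rw [e2, h2, ea_cancel hU2 hu0U]
    obtain ⟨g3, hg3, hg3W, hg3C⟩ := step_c hU2 hT hW hC hWC hu0 hu01 γ hγmul hγ hγu0
    refine ⟨g1⁻¹ * g2 * g3, L.mul_mem (L.mul_mem (L.inv_mem hg1) hg2) hg3, ?_, ?_⟩
    · intro w hw
      have e : g1⁻¹ * g2 * g3 * w * (g1⁻¹ * g2 * g3)⁻¹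
          = g1⁻¹ * (g2 * (g3 * w * g3⁻¹) * g2⁻¹) * g1 := by group
      rw [e, hg3W w hw]
      simp only [hγdef, hβdef]; group
    · intro c hc
      have e : g1⁻¹ * g2 * g3 * c * (g1⁻¹ * g2 * g3)⁻¹
          = g1⁻¹ * (g2 * (g3 * c * g3⁻¹) * g2⁻¹) * g1 := by group
      rw [e, hg3C c hc, hg2C c hc]
      have : g1⁻¹ * c * g1 = g1⁻¹ * (g1 * c * g1⁻¹) * g1 := by rw [hg1C c hc]
      rw [this]; group

end gen

end Cfsg.Agent.Helper3.LargeX.EA
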