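import Mathlib
import Cfsg.Agent.Helper3.LargeXD

set_option autoImplicit false

namespace Cfsg.Agent.Helper3.LargeX

open scoped commutatorElement

variable {G : Type*} [Group G]

theorem lx_of_extraspecial (Q : Subgroup G) (hE : Cfsg.IsExtraspecial 2 ↥Q)
    (hsC : Subgroup.centralizer (Q : Set G) ≤ Q)
    (hN : Subgroup.centralizer (((Subgroup.center ↥Q).map Q.subtype : Subgroup G) : Set G)
      ≤ Subgroup.normalizer (Q : Set G)) :
    ∃ z : G, LX Q z ∧ ∀ y, y ∈ (Subgroup.center ↥Q).map Q.subtype ↔ y = 1 ∨ y = z := by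
  obtain ⟨⟨hp, hfr, hcomm⟩, hcard⟩ := hE
  obtain ⟨z', hz'1, hz'u⟩ := (Nat.card_eq_two_iff' (1 : Subgroup.center Q)).mp hcard
  set z : G := ((z' : Q) : G) with hzdef
  have hz1 : z ≠ 1 := by
    intro h1
    apply hz'1
    apply Subtype.ext
    apply Subtype.ext
    exact h1
  have hzQ : z ∈ Q := (z' : Q).2
  have hcen : ∀ c : Q, c ∈ Subgroup.center Q → (c : G) = 1 ∨ (c : G) = z := by
    intro c hc
    by_cases hc1 : c = 1
    · left; rw [hc1]; rfl
    · right
      have e1 : (⟨c, hc⟩ : Subgroup.center Q) = z' := by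
        apply hz'u
        intro h1
        apply hc1
        have := congrArg (fun w : Subgroup.center Q => (w : Q)) h1
        simpa using this
      rw [hzdef, ← e1]
  have hzcomm : ∀ q ∈ Q, q * z = z * q := by
    intro q hq
    have h1 := Subgroup.mem_center_iff.mp z'.2 ⟨q, hq⟩
    have := congrArg (fun w : Q => (w : G)) h1
    simpa using this
  have hzsq : z * z = 1 := by
    have h1 : (z' : Q) * (z' : Q) ∈ Subgroup.center Q := Subgroup.mul_mem _ z'.2 z'.2
    rcases hcen _ h1 with h2 | h2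
    · exact h2
    · exfalso
      apply hz1
      have h3 : z * z = z := h2
      exact mul_eq_left.mp h3
  have hZ : ∀ y, y ∈ (Subgroup.center ↥Q).map Q.subtype ↔ y = 1 ∨ y = z := by
    intro y
    constructor
    · rintro ⟨c, hc, rfl⟩
      exact hcen c hc
    · rintro (rfl | rfl)
      · exact Subgroup.one_mem _
      · exact ⟨(z' : Q), z'.2, rfl⟩
  refine ⟨z, ⟨hz1, hzsq, hzQ, hzcomm, ?_, ?_, hsC, ?_, hp⟩, hZ⟩
  · intro a ha b hb
    have h1 : ⁅(⟨a, ha⟩ : Q), (⟨b, hb⟩ : Q)⁆ ∈ commutator Q := by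
      rw [commutator_def]
      exact Subgroup.commutator_mem_commutator (Subgroup.mem_top _) (Subgroup.mem_top _)
    rw [hcomm] at h1
    have := hcen _ h1
    simpa [commutatorElement_def] using this
  · intro a ha hcommute
    have h1 : (⟨a, ha⟩ : Q) ∈ Subgroup.center Q := by
      rw [Subgroup.mem_center_iff]
      intro q
      apply Subtype.ext
      simp only [Subgroup.coe_mul]
      exact (hcommute q q.2).symm
    exact hcen _ h1
  · intro c hc q hq
    have hcZ : c ∈ Subgroup.centralizer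
        (((Subgroup.center ↥Q).map Q.subtype : Subgroup G) : Set G) := by
      rw [Subgroup.mem_centralizer_iff]
      intro y hy
      rcases (hZ y).mp hy with rfl | rfl
      · simp
      · exact hc.symm
    have := hN hcZ
    rw [Subgroup.mem_normalizer_iff] at this
    exact (this q).mp hq

namespace LX

variable {Q : Subgroup G} {z : G}

theorem fixed_trivial [Finite G] (h : LX Q z) (K : Subgroup G) (hK : Odd (Nat.card K))
    (hQK : Q ≤ Subgroup.normalizer (K : Set G)) {k : G} (hk : k ∈ K) (hkz : k * z = z * k) :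
    k = 1 := by
  have hkQ : k ∈ Q := by
    apply h.selfC
    rw [Subgroup.mem_centralizer_iff]
    intro q hq
    have h1 : k * q * k⁻¹ * q⁻¹ ∈ Q := Q.mul_mem (h.norm k hkz q hq) (Q.inv_mem hq)
    have h2 : k * q * k⁻¹ * q⁻¹ ∈ K := by
      have := (Subgroup.mem_normalizer_iff.mp (hQK hq) k⁻¹).mp (K.inv_mem hk)
      have e : k * q * k⁻¹ * q⁻¹ = k * (q * k⁻¹ * q⁻¹) := by group
      rw [e]; exact K.mul_mem hk this
    have h3 := Cfsg.Agent.Helper9.eq_one_of_mem_odd_of_mem_two hK h.pgrp h2 h1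
    have : q * k = (k * q * k⁻¹ * q⁻¹)⁻¹ * k * q := by group
    rw [this, h3]; group
  exact Cfsg.Agent.Helper9.eq_one_of_mem_odd_of_mem_two hK h.pgrp hk hkQ

end LX

/-- A fixed-point-free involution inverts. -/
theorem inverts_of_fpf [Finite G] (K : Subgroup G) {t : G} (ht2 : t * t = 1)
    (htK : t ∈ Subgroup.normalizer (K : Set G))
    (hfix : ∀ k ∈ K, k * t = t * k → k = 1) : ∀ k ∈ K, t * k * t⁻¹ = k⁻¹ := by
  have htinv : t⁻¹ = t := inv_eq_of_mul_eq_one_left ht2
  let φ : K →* K :=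
    { toFun := fun k => ⟨t * k * t⁻¹, (Subgroup.mem_normalizer_iff.mp htK k).mp k.2⟩
      map_one' := by apply Subtype.ext; simp
      map_mul' := by
        intro a b
        apply Subtype.ext
        simp only [Subgroup.coe_mul]
        group }
  have hφ : MonoidHom.FixedPointFree φ := by
    intro k hk
    have h1 : t * (k : G) * t⁻¹ = k := congrArg Subtype.val hk
    have h2 : (k : G) * t = t * k := by
      have : t * (k : G) = (t * k * t⁻¹) * t := by group
      rw [this, h1]
    exact Subtype.ext (hfix k k.2 h2)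
  have h2 : (⇑φ)^[2] = _root_.id := by
    funext k
    apply Subtype.ext
    show t * (t * (k : G) * t⁻¹) * t⁻¹ = k
    rw [htinv]
    calc t * (t * (k : G) * t) * t = (t * t) * k * (t * t) := by group
      _ = k := by rw [ht2]; group
  have h3 := hφ.coe_eq_inv_of_sq_eq_one h2
  intro k hk
  have := congrFun h3 ⟨k, hk⟩
  exact congrArg Subtype.val this

theorem LX.odd_trivial [Finite G] {Q : Subgroup G} {z : G} (h : LX Q z) (g : G)
    (hx : g * z * g⁻¹ ∈ Q) (hxz : g * z * g⁻¹ ≠ z)
    (K : Subgroup G) (hK : Odd (Nat.card K)) (hQK : Q ≤ Subgroup.normalizer (K : Set G)) :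
    K = ⊥ := by
  have hP := h.conj g
  have hzP := h.main g hx
  set x := g * z * g⁻¹ with hxdef
  set P := Q.map (MulAut.conj g).toMonoidHom with hPdef
  have hzfix : ∀ k ∈ K, k * z = z * k → k = 1 := fun k hk hkz => h.fixed_trivial K hK hQK hk hkz
  have hzK : z ∈ Subgroup.normalizer (K : Set G) := hQK h.z_mem
  have hxK : x ∈ Subgroup.normalizer (K : Set G) := hQK hx
  have hxfix : ∀ k ∈ K, k * x = x * k → k = 1 := by
    intro k hk hkx
    apply hzfix k hk
    have h1 : k * z * k⁻¹ * z⁻¹ ∈ P := P.mul_mem (hP.norm k hkx z hzP) (P.inv_mem hzP)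
    have h2 : k * z * k⁻¹ * z⁻¹ ∈ K := by
      have := (Subgroup.mem_normalizer_iff.mp hzK k⁻¹).mp (K.inv_mem hk)
      have e : k * z * k⁻¹ * z⁻¹ = k * (z * k⁻¹ * z⁻¹) := by group
      rw [e]; exact K.mul_mem hk this
    have h3 := Cfsg.Agent.Helper9.eq_one_of_mem_odd_of_mem_two hK hP.pgrp h2 h1
    have : k * z = (k * z * k⁻¹ * z⁻¹) * z * k := by group
    rw [this, h3]; group
  have hzinv := inverts_of_fpf K h.z_sq hzK hzfix
  have hxinv := inverts_of_fpf K hP.z_sq hxK hxfix
  obtain ⟨q0, hq0, hq0x⟩ := h.exists_noncomm hx hP.z_ne hxz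
  rw [eq_bot_iff]
  intro k hk
  rw [Subgroup.mem_bot]
  have hq0K := hQK hq0
  have hk' : q0⁻¹ * k * q0 ∈ K := by
    have := (Subgroup.mem_normalizer_iff.mp (Subgroup.inv_mem _ hq0K) k).mp hk
    simpa using this
  have hzx : (z * x) * k * (z * x)⁻¹ = k := by
    have e : (z * x) * k * (z * x)⁻¹ = z * (x * k * x⁻¹) * z⁻¹ := by group
    rw [e, hxinv k hk, hzinv k⁻¹ (K.inv_mem hk), inv_inv]
  have hcomm : (q0⁻¹ * k * q0) * x = x * (q0⁻¹ * k * q0) := by
    have e1 : k * (z * x) = (z * x) * k := by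
      have : (z * x) * k = ((z * x) * k * (z * x)⁻¹) * (z * x) := by group
      rw [this, hzx]
    rw [← hq0x] at e1
    calc (q0⁻¹ * k * q0) * x = q0⁻¹ * (k * (q0 * x * q0⁻¹)) * q0 := by group
      _ = q0⁻¹ * ((q0 * x * q0⁻¹) * k) * q0 := by rw [e1]
      _ = x * (q0⁻¹ * k * q0) := by group
  have h1 := hxfix _ hk' hcomm
  have : k = q0 * (q0⁻¹ * k * q0) * q0⁻¹ := by group
  rw [this, h1]; group

end Cfsg.Agent.Helper3.LargeX
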