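import Mathlib

set_option autoImplicit false

namespace Cfsg.Agent.Helper3.LargeX

variable {G : Type*} [Group G]

theorem mem_normalizer_of_maps [Finite G] (V : Subgroup G) (n : G)
    (hmap : ∀ v ∈ V, n * v * n⁻¹ ∈ V) : n ∈ Subgroup.normalizer (V : Set G) := by
  rw [Subgroup.mem_normalizer_iff]
  intro v
  constructor
  · exact hmap v
  · intro hv
    let c : V → V := fun v => ⟨n * v * n⁻¹, hmap v v.2⟩
    have hinj : Function.Injective c := by
      intro a b hab
      have h1 : n * (a : G) * n⁻¹ = n * (b : G) * n⁻¹ := congrArg Subtype.val hab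
      apply Subtype.ext
      have : (a : G) = n⁻¹ * (n * (a : G) * n⁻¹) * n := by group
      rw [this, h1]; group
    have hsurj := Finite.surjective_of_injective hinj
    obtain ⟨v', hv'⟩ := hsurj ⟨n * v * n⁻¹, hv⟩
    have h1 : n * (v' : G) * n⁻¹ = n * v * n⁻¹ := congrArg Subtype.val hv'
    have : v = v' := by
      have : v = n⁻¹ * (n * v * n⁻¹) * n := by group
      rw [this, ← h1]; group
    rw [this]; exact v'.2

/-- `N(V)/C(V)` has order 6 for a four-group `V` on which `S₃` is induced. -/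
theorem relIndex_four [Finite G] (V : Subgroup G) (z x q p : G)
    (hV : ∀ v, v ∈ V ↔ v = 1 ∨ v = z ∨ v = x ∨ v = z * x)
    (hz1 : z ≠ 1) (hx1 : x ≠ 1) (hxz : x ≠ z) (hz2 : z * z = 1) (hx2 : x * x = 1)
    (hzx : z * x = x * z)
    (hqz : q * z * q⁻¹ = z) (hqx : q * x * q⁻¹ = z * x)
    (hpx : p * x * p⁻¹ = x) (hpz : p * z * p⁻¹ = z * x) :
    (Subgroup.centralizer (V : Set G)).relIndex (Subgroup.normalizer (V : Set G)) = 6 := by
  classical
  have hzV : z ∈ V := (hV z).mpr (Or.inr (Or.inl rfl))
  have hxV : x ∈ V := (hV x).mpr (Or.inr (Or.inr (Or.inl rfl)))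
  have hzxV : z * x ∈ V := (hV _).mpr (Or.inr (Or.inr (Or.inr rfl)))
  have hzx1 : z * x ≠ 1 := by
    intro h1
    apply hxz
    have : x = z⁻¹ * (z * x) := by group
    rw [this, h1, mul_one]
    exact inv_eq_of_mul_eq_one_left hz2
  have hzxz : z * x ≠ z := by
    intro h1
    exact hx1 (mul_eq_left.mp h1)
  have hzxx : z * x ≠ x := by
    intro h1
    exact hz1 (mul_eq_right.mp h1)
  have hzzx : z * (z * x) = x := by rw [← mul_assoc, hz2, one_mul]
  have hzxx' : z * x * x = z := by rw [mul_assoc, hx2, mul_one]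
  have hzxz' : z * x * z = x := by rw [hzx, mul_assoc, hz2, mul_one]
  -- general facts on elements permuting z, x
  have hconj_mul : ∀ n a b : G, n * (a * b) * n⁻¹ = (n * a * n⁻¹) * (n * b * n⁻¹) := by
    intro n a b; group
  have hqzx : q * (z * x) * q⁻¹ = x := by rw [hconj_mul, hqz, hqx, hzzx]
  have hpzx : p * (z * x) * p⁻¹ = z := by rw [hconj_mul, hpz, hpx, hzxx']
  have hqN : q ∈ Subgroup.normalizer (V : Set G) := by
    apply mem_normalizer_of_maps
    intro v hv
    rcases (hV v).mp hv with rfl | rfl | rfl | rfl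
    · simp [V.one_mem]
    · rw [hqz]; exact hzV
    · rw [hqx]; exact hzxV
    · rw [hqzx]; exact hxV
  have hpN : p ∈ Subgroup.normalizer (V : Set G) := by
    apply mem_normalizer_of_maps
    intro v hv
    rcases (hV v).mp hv with rfl | rfl | rfl | rfl
    · simp [V.one_mem]
    · rw [hpz]; exact hzxV
    · rw [hpx]; exact hxV
    · rw [hpzx]; exact hzV
  set f := V.normalizerMonoidHom with hf
  have hfapp : ∀ (n : Subgroup.normalizer (V : Set G)) (v : V),
      ((f n) v : G) = n * v * (n : G)⁻¹ := fun n v => rfl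
  have hrel : (Subgroup.centralizer (V : Set G)).relIndex (Subgroup.normalizer (V : Set G))
      = Nat.card f.range := by
    rw [Subgroup.relIndex, ← Subgroup.normalizerMonoidHom_ker, Subgroup.index_ker]
  rw [hrel]
  -- criterion for f n = 1
  have hone : ∀ n : Subgroup.normalizer (V : Set G),
      (n : G) * z * (n : G)⁻¹ = z → (n : G) * x * (n : G)⁻¹ = x → f n = 1 := by
    intro n h1 h2
    ext v
    rw [hfapp]
    simp only [MulAut.one_apply]
    rcases (hV v).mp v.2 with h | h | h | h
    · rw [h]; group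
    · rw [h]; exact h1
    · rw [h]; exact h2
    · rw [h, hconj_mul, h1, h2]
  -- upper bound
  have hupper : Nat.card f.range ≤ 6 := by
    let S := {v : V // v ≠ 1}
    let e : Fin 3 → S := ![⟨⟨z, hzV⟩, fun h => hz1 (congrArg Subtype.val h)⟩,
      ⟨⟨x, hxV⟩, fun h => hx1 (congrArg Subtype.val h)⟩,
      ⟨⟨z * x, hzxV⟩, fun h => hzx1 (congrArg Subtype.val h)⟩]
    have he : Function.Bijective e := by
      constructor
      · intro i j hij
        have h1 : ((e i : V) : G) = ((e j : V) : G) := by rw [hij]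
        fin_cases i <;> fin_cases j
        · rfl
        · exact absurd (h1 : z = x).symm hxz
        · exact absurd (h1 : z = z * x).symm hzxz
        · exact absurd (h1 : x = z) hxz
        · rfl
        · exact absurd (h1 : x = z * x).symm hzxx
        · exact absurd (h1 : z * x = z) hzxz
        · exact absurd (h1 : z * x = x) hzxx
        · rfl
      · rintro ⟨⟨v, hv⟩, hv1⟩
        have hv1' : v ≠ 1 := fun h => hv1 (Subtype.ext h)
        rcases (hV v).mp hv with h | h | h | h
        · exact absurd h hv1'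
        · exact ⟨0, by apply Subtype.ext; apply Subtype.ext; simp [e, h]⟩
        · exact ⟨1, by apply Subtype.ext; apply Subtype.ext; simp [e, h]⟩
        · exact ⟨2, by apply Subtype.ext; apply Subtype.ext; simp [e, h]⟩
    have hS : Nat.card S = 3 := by
      rw [← Nat.card_eq_of_bijective e he]; simp
    have : Finite S := Nat.finite_of_card_ne_zero (by rw [hS]; norm_num)
    have hperm : Nat.card (Equiv.Perm S) = 6 := by
      rw [Nat.card_perm, hS]; rfl
    let r : MulAut V → Equiv.Perm S := fun φ =>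
      φ.toEquiv.subtypeEquiv (fun v => by
        constructor
        · intro hv h1
          apply hv
          have : φ v = φ 1 := by rw [map_one]; exact h1
          exact φ.injective this
        · intro hv h1
          apply hv
          rw [h1]; exact map_one φ)
    have hr : Function.Injective r := by
      intro φ ψ hφψ
      ext v
      by_cases hv : v = 1
      · rw [hv, map_one, map_one]
      · have h1 := congrArg (fun σ : Equiv.Perm S => ((σ ⟨v, hv⟩ : S) : V)) hφψ
        exact congrArg Subtype.val h1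
    have : Finite (MulAut V) := Finite.of_injective r hr
    calc Nat.card f.range ≤ Nat.card (MulAut V) := Subgroup.card_le_card_group _
      _ ≤ Nat.card (Equiv.Perm S) := Nat.card_le_card_of_injective r hr
      _ = 6 := hperm
  -- lower bound
  have h2 : 2 ∣ Nat.card f.range := by
    have ha2 : (f ⟨q, hqN⟩) ^ 2 = 1 := by
      rw [← map_pow]
      apply hone
      · show (q ^ 2 : G) * z * (q ^ 2 : G)⁻¹ = z
        have : (q ^ 2 : G) * z * (q ^ 2 : G)⁻¹ = q * (q * z * q⁻¹) * q⁻¹ := by
          rw [pow_two]; group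
        rw [this, hqz, hqz]
      · show (q ^ 2 : G) * x * (q ^ 2 : G)⁻¹ = x
        have : (q ^ 2 : G) * x * (q ^ 2 : G)⁻¹ = q * (q * x * q⁻¹) * q⁻¹ := by
          rw [pow_two]; group
        rw [this, hqx, hqzx]
    have ha1 : f ⟨q, hqN⟩ ≠ 1 := by
      intro h1
      have := congrArg (fun φ : MulAut V => ((φ ⟨x, hxV⟩ : V) : G)) h1
      simp only [hfapp, MulAut.one_apply] at this
      exact hzxx (hqx.symm.trans this)
    have : Fact (Nat.Prime 2) := ⟨Nat.prime_two⟩
    have ho := orderOf_eq_prime ha2 ha1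
    have hmem : f ⟨q, hqN⟩ ∈ f.range := ⟨_, rfl⟩
    have := orderOf_dvd_natCard (⟨f ⟨q, hqN⟩, hmem⟩ : f.range)
    rwa [Subgroup.orderOf_mk, ho] at this
  have h3 : 3 ∣ Nat.card f.range := by
    have hpqN : p * q ∈ Subgroup.normalizer (V : Set G) := Subgroup.mul_mem _ hpN hqN
    have hrz : (p * q) * z * (p * q)⁻¹ = z * x := by
      have : (p * q) * z * (p * q)⁻¹ = p * (q * z * q⁻¹) * p⁻¹ := by group
      rw [this, hqz, hpz]
    have hrx : (p * q) * x * (p * q)⁻¹ = z := by
      have : (p * q) * x * (p * q)⁻¹ = p * (q * x * q⁻¹) * p⁻¹ := by group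
      rw [this, hqx, hpzx]
    have hrzx : (p * q) * (z * x) * (p * q)⁻¹ = x := by
      rw [hconj_mul, hrz, hrx, hzxz']
    have hb3 : (f ⟨p * q, hpqN⟩) ^ 3 = 1 := by
      rw [← map_pow]
      apply hone
      · show ((p * q) ^ 3 : G) * z * ((p * q) ^ 3 : G)⁻¹ = z
        have : ((p * q) ^ 3 : G) * z * ((p * q) ^ 3 : G)⁻¹
            = (p * q) * ((p * q) * ((p * q) * z * (p * q)⁻¹) * (p * q)⁻¹) * (p * q)⁻¹ := by
          rw [pow_succ, pow_two]; group
        rw [this, hrz, hrzx, hrx]
      · show ((p * q) ^ 3 : G) * x * ((p * q) ^ 3 : G)⁻¹ = x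
        have : ((p * q) ^ 3 : G) * x * ((p * q) ^ 3 : G)⁻¹
            = (p * q) * ((p * q) * ((p * q) * x * (p * q)⁻¹) * (p * q)⁻¹) * (p * q)⁻¹ := by
          rw [pow_succ, pow_two]; group
        rw [this, hrx, hrz, hrzx]
    have hb1 : f ⟨p * q, hpqN⟩ ≠ 1 := by
      intro h1
      have := congrArg (fun φ : MulAut V => ((φ ⟨x, hxV⟩ : V) : G)) h1
      simp only [hfapp, MulAut.one_apply] at this
      exact hxz (hrx.symm.trans this).symm
    have : Fact (Nat.Prime 3) := ⟨Nat.prime_three⟩
    have ho := orderOf_eq_prime hb3 hb1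
    have hmem : f ⟨p * q, hpqN⟩ ∈ f.range := ⟨_, rfl⟩
    have := orderOf_dvd_natCard (⟨f ⟨p * q, hpqN⟩, hmem⟩ : f.range)
    rwa [Subgroup.orderOf_mk, ho] at this
  have h6 : 6 ∣ Nat.card f.range :=
    Nat.Coprime.mul_dvd_of_dvd_of_dvd (by norm_num : Nat.Coprime 2 3) h2 h3
  have hpos : 0 < Nat.card f.range := Nat.card_pos
  have := Nat.le_of_dvd hpos h6
  omega

end Cfsg.Agent.Helper3.LargeX
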