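import Mathlib
import Cfsg.Agent.Helper3.LargeXK
import Cfsg.Agent.Helper3.LargeXL
import Cfsg.Agent.Helper3.LargeXF

set_option autoImplicit false

namespace Cfsg.Agent.Helper3.LargeX

variable {G : Type*} [Group G]

/-- The configuration of two large extraspecial subgroups `Q`, `P = Q^g` with `x = z^g ∈ Q`. -/
structure XS (Q P : Subgroup G) (z x g : G) : Prop where
  hQ : LX Q z
  hP : LX P x
  hPdef : P = Q.map (MulAut.conj g).toMonoidHom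
  hxdef : x = g * z * g⁻¹
  hxQ : x ∈ Q
  hzP : z ∈ P
  hxz : x ≠ z

theorem XS.of_lx [Finite G] {Q : Subgroup G} {z : G} (h : LX Q z) (g : G)
    (hx : g * z * g⁻¹ ∈ Q) (hxz : g * z * g⁻¹ ≠ z) :
    XS Q (Q.map (MulAut.conj g).toMonoidHom) z (g * z * g⁻¹) g :=
  ⟨h, h.conj g, rfl, rfl, hx, h.main g hx, hxz⟩

namespace XS

variable {Q P : Subgroup G} {z x g : G}

/-- `C_Q(x)`. -/
def RQ (_ : XS Q P z x g) : Subgroup G := Q ⊓ Subgroup.centralizer ({x} : Set G)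

/-- `C_P(z)`. -/
def RP (_ : XS Q P z x g) : Subgroup G := P ⊓ Subgroup.centralizer ({z} : Set G)

theorem mem_RQ (s : XS Q P z x g) {r : G} : r ∈ s.RQ ↔ r ∈ Q ∧ r * x = x * r := by
  unfold RQ
  rw [Subgroup.mem_inf, Subgroup.mem_centralizer_singleton_iff]

theorem mem_RP (s : XS Q P z x g) {r : G} : r ∈ s.RP ↔ r ∈ P ∧ r * z = z * r := by
  unfold RP
  rw [Subgroup.mem_inf, Subgroup.mem_centralizer_singleton_iff]

theorem symm (s : XS Q P z x g) : XS P Q x z g⁻¹ := by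
  refine ⟨s.hP, s.hQ, ?_, ?_, s.hzP, s.hxQ, s.hxz.symm⟩
  · rw [s.hPdef]
    ext y
    rw [mem_conj_iff, mem_conj_iff]
    have : g⁻¹⁻¹ * y * g⁻¹ = g * y * g⁻¹ := by group
    rw [this]
    have : g⁻¹ * (g * y * g⁻¹) * g = y := by group
    rw [this]
  · rw [s.hxdef]; group

theorem zx_comm (s : XS Q P z x g) : z * x = x * z := (s.hQ.z_comm x s.hxQ).symm

theorem x_sq (s : XS Q P z x g) : x * x = 1 := s.hP.z_sq

theorem x_ne (s : XS Q P z x g) : x ≠ 1 := s.hP.z_ne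

theorem RQ_le (s : XS Q P z x g) : s.RQ ≤ Q := inf_le_left

theorem RP_le (s : XS Q P z x g) : s.RP ≤ P := inf_le_left

theorem RQ_comm_z (s : XS Q P z x g) {r : G} (hr : r ∈ s.RQ) : r * z = z * r :=
  s.hQ.z_comm r (s.RQ_le hr)

theorem RQ_comm_x (s : XS Q P z x g) {r : G} (hr : r ∈ s.RQ) : r * x = x * r :=
  (s.mem_RQ.mp hr).2

theorem RP_comm_x (s : XS Q P z x g) {r : G} (hr : r ∈ s.RP) : r * x = x * r :=
  s.hP.z_comm r (s.RP_le hr)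

theorem RP_comm_z (s : XS Q P z x g) {r : G} (hr : r ∈ s.RP) : r * z = z * r :=
  (s.mem_RP.mp hr).2

theorem z_mem_RQ (s : XS Q P z x g) : z ∈ s.RQ := s.mem_RQ.mpr ⟨s.hQ.z_mem, s.zx_comm⟩

theorem x_mem_RQ (s : XS Q P z x g) : x ∈ s.RQ := s.mem_RQ.mpr ⟨s.hxQ, rfl⟩

theorem z_mem_RP (s : XS Q P z x g) : z ∈ s.RP := s.mem_RP.mpr ⟨s.hzP, rfl⟩

theorem x_mem_RP (s : XS Q P z x g) : x ∈ s.RP := s.mem_RP.mpr ⟨s.hP.z_mem, s.zx_comm.symm⟩

/-- Elements centralizing `z` and `x` normalize `RQ`. -/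
theorem conj_mem_RQ (s : XS Q P z x g) {c r : G} (hcz : c * z = z * c) (hcx : c * x = x * c)
    (hr : r ∈ s.RQ) : c * r * c⁻¹ ∈ s.RQ := by
  rw [s.mem_RQ] at hr ⊢
  refine ⟨s.hQ.norm c hcz r hr.1, ?_⟩
  have h1 := hr.2
  calc c * r * c⁻¹ * x = c * r * (c⁻¹ * x * c) * c⁻¹ := by group
    _ = c * r * (c⁻¹ * (x * c)) * c⁻¹ := by group
    _ = c * r * (c⁻¹ * (c * x)) * c⁻¹ := by rw [hcx]
    _ = c * (r * x) * c⁻¹ := by group
    _ = c * (x * r) * c⁻¹ := by rw [h1]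
    _ = (c * x) * r * c⁻¹ := by group
    _ = (x * c) * r * c⁻¹ := by rw [hcx]
    _ = x * (c * r * c⁻¹) := by group

theorem conj_mem_RP (s : XS Q P z x g) {c r : G} (hcz : c * z = z * c) (hcx : c * x = x * c)
    (hr : r ∈ s.RP) : c * r * c⁻¹ ∈ s.RP := by
  have := s.symm.conj_mem_RQ hcx hcz (r := r) (by
    rw [s.symm.mem_RQ]; exact s.mem_RP.mp hr)
  rw [s.symm.mem_RQ] at this
  exact s.mem_RP.mpr this

/-- `Q` normalizes `RQ`. -/
theorem Q_conj_mem_RQ (s : XS Q P z x g) {q r : G} (hq : q ∈ Q) (hr : r ∈ s.RQ) :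
    q * r * q⁻¹ ∈ s.RQ := by
  have hrQ := s.RQ_le hr
  rw [s.mem_RQ]
  refine ⟨Q.mul_mem (Q.mul_mem hq hrQ) (Q.inv_mem hq), ?_⟩
  have hrx := s.RQ_comm_x hr
  have hrz := s.RQ_comm_z hr
  -- q⁻¹ x q is x or z x
  have key : r * (q⁻¹ * x * q) = (q⁻¹ * x * q) * r := by
    rcases s.hQ.comm_or (Q.inv_mem hq) s.hxQ with h1 | h1
    · have : q⁻¹ * x * q = x := by
        have := LX.conj_eq_of_comm h1
        rwa [inv_inv] at this
      rw [this, hrx]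
    · rw [inv_inv] at h1
      rw [h1]
      calc r * (z * x) = (r * z) * x := by group
        _ = (z * r) * x := by rw [hrz]
        _ = z * (r * x) := by group
        _ = z * (x * r) := by rw [hrx]
        _ = z * x * r := by group
  calc q * r * q⁻¹ * x = q * (r * (q⁻¹ * x * q)) * q⁻¹ := by group
    _ = q * ((q⁻¹ * x * q) * r) * q⁻¹ := by rw [key]
    _ = x * (q * r * q⁻¹) := by group

theorem P_conj_mem_RP (s : XS Q P z x g) {p r : G} (hp : p ∈ P) (hr : r ∈ s.RP) :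
    p * r * p⁻¹ ∈ s.RP := by
  have := s.symm.Q_conj_mem_RQ hp (r := r) (by
    rw [s.symm.mem_RQ]; exact s.mem_RP.mp hr)
  rw [s.symm.mem_RQ] at this
  exact s.mem_RP.mpr this

/-- For `q ∈ Q` and `a ∈ RP`, the commutator `[q, a]` lies in `RQ`. -/
theorem comm_mem_RQ (s : XS Q P z x g) {q a : G} (hq : q ∈ Q) (ha : a ∈ s.RP) :
    q * a * q⁻¹ * a⁻¹ ∈ s.RQ := by
  have haz := s.RP_comm_z ha
  have hax := s.RP_comm_x ha
  have haz' : a⁻¹ * z = z * a⁻¹ := by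
    calc a⁻¹ * z = a⁻¹ * (z * a) * a⁻¹ := by group
      _ = a⁻¹ * (a * z) * a⁻¹ := by rw [haz]
      _ = z * a⁻¹ := by group
  rw [s.mem_RQ]
  constructor
  · have h1 : a * q⁻¹ * a⁻¹ ∈ Q := s.hQ.norm a haz q⁻¹ (Q.inv_mem hq)
    have : q * a * q⁻¹ * a⁻¹ = q * (a * q⁻¹ * a⁻¹) := by group
    rw [this]; exact Q.mul_mem hq h1
  · -- x c x⁻¹ = c
    have hxinv : x⁻¹ = x := inv_eq_of_mul_eq_one_left s.x_sq
    have hxa : x * a * x⁻¹ = a := by rw [← hax]; group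
    have hxa' : x * a⁻¹ * x⁻¹ = a⁻¹ := by
      have : x * a⁻¹ * x⁻¹ = (x * a * x⁻¹)⁻¹ := by group
      rw [this, hxa]
    have e : x * (q * a * q⁻¹ * a⁻¹) * x⁻¹
        = (x * q * x⁻¹) * (x * a * x⁻¹) * (x * q * x⁻¹)⁻¹ * (x * a⁻¹ * x⁻¹) := by group
    have key : x * (q * a * q⁻¹ * a⁻¹) * x⁻¹ = q * a * q⁻¹ * a⁻¹ := by
      rw [e, hxa, hxa']
      rcases s.hQ.comm_or s.hxQ hq with h1 | h1
      · rw [LX.conj_eq_of_comm h1]
      · rw [h1]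
        have hzq : q * z = z * q := s.hQ.z_comm q hq
        have hzinv : z⁻¹ = z := s.hQ.z_inv
        calc z * q * a * (z * q)⁻¹ * a⁻¹ = z * q * a * q⁻¹ * z⁻¹ * a⁻¹ := by group
          _ = z * q * a * q⁻¹ * (z * a⁻¹) := by rw [hzinv]; group
          _ = z * q * a * q⁻¹ * (a⁻¹ * z) := by rw [haz']
          _ = z * q * (a * (q⁻¹ * a⁻¹ * q) * q⁻¹ * z) := by group
          _ = (z * q) * a * q⁻¹ * a⁻¹ * z := by group
          _ = (q * z) * a * q⁻¹ * a⁻¹ * z := by rw [hzq]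
          _ = q * (z * a) * q⁻¹ * a⁻¹ * z := by group
          _ = q * (a * z) * q⁻¹ * a⁻¹ * z := by rw [haz]
          _ = q * a * (z * q⁻¹) * a⁻¹ * z := by group
          _ = q * a * (q⁻¹ * z) * a⁻¹ * z := by rw [s.hQ.z_comm q⁻¹ (Q.inv_mem hq)]
          _ = q * a * q⁻¹ * (z * a⁻¹) * z := by group
          _ = q * a * q⁻¹ * (a⁻¹ * z) * z := by rw [haz']
          _ = q * a * q⁻¹ * a⁻¹ * (z * z) := by group
          _ = q * a * q⁻¹ * a⁻¹ := by rw [s.hQ.z_sq, mul_one]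
    calc q * a * q⁻¹ * a⁻¹ * x = (x * (q * a * q⁻¹ * a⁻¹) * x⁻¹)⁻¹⁻¹ * x := by rw [key]; group
      _ = x * (q * a * q⁻¹ * a⁻¹) := by group

theorem comm_mem_RP (s : XS Q P z x g) {p b : G} (hp : p ∈ P) (hb : b ∈ s.RQ) :
    p * b * p⁻¹ * b⁻¹ ∈ s.RP := by
  have := s.symm.comm_mem_RQ hp (a := b) (by
    rw [s.symm.mem_RP]; exact s.mem_RQ.mp hb)
  rw [s.symm.mem_RQ] at this
  exact s.mem_RP.mpr this

end XS

end Cfsg.Agent.Helper3.LargeX
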