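import Mathlib
import Cfsg.Agent.Helper3.LargeXM

set_option autoImplicit false

namespace Cfsg.Agent.Helper3.LargeX

variable {G : Type*} [Group G]

namespace XS

variable {Q P : Subgroup G} {z x g : G}

/-- `R = C_P(z) C_Q(x)`. -/
def R (s : XS Q P z x g) : Subgroup G := s.RP ⊔ s.RQ

/-- `X = ⟨Q, P⟩`. -/
def X (_ : XS Q P z x g) : Subgroup G := Q ⊔ P

theorem RQ_le_R (s : XS Q P z x g) : s.RQ ≤ s.R := le_sup_right

theorem RP_le_R (s : XS Q P z x g) : s.RP ≤ s.R := le_sup_left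

theorem Q_le_X (s : XS Q P z x g) : Q ≤ s.X := le_sup_left

theorem P_le_X (s : XS Q P z x g) : P ≤ s.X := le_sup_right

theorem R_le_X (s : XS Q P z x g) : s.R ≤ s.X :=
  sup_le (le_trans s.RP_le s.P_le_X) (le_trans s.RQ_le s.Q_le_X)

theorem R_le_cent (s : XS Q P z x g) :
    s.R ≤ Subgroup.centralizer ({z} : Set G) ⊓ Subgroup.centralizer ({x} : Set G) := by
  apply sup_le
  · intro r hr
    rw [Subgroup.mem_inf, Subgroup.mem_centralizer_singleton_iff,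
      Subgroup.mem_centralizer_singleton_iff]
    exact ⟨s.RP_comm_z hr, s.RP_comm_x hr⟩
  · intro r hr
    rw [Subgroup.mem_inf, Subgroup.mem_centralizer_singleton_iff,
      Subgroup.mem_centralizer_singleton_iff]
    exact ⟨s.RQ_comm_z hr, s.RQ_comm_x hr⟩

theorem R_comm_z (s : XS Q P z x g) {r : G} (hr : r ∈ s.R) : r * z = z * r := by
  have := (Subgroup.mem_inf.mp (s.R_le_cent hr)).1
  rwa [Subgroup.mem_centralizer_singleton_iff] at this

theorem R_comm_x (s : XS Q P z x g) {r : G} (hr : r ∈ s.R) : r * x = x * r := by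
  have := (Subgroup.mem_inf.mp (s.R_le_cent hr)).2
  rwa [Subgroup.mem_centralizer_singleton_iff] at this

theorem map_conj_le {H K : Subgroup G} {c : G} (h : ∀ r ∈ H, c * r * c⁻¹ ∈ K) :
    H.map (MulAut.conj c).toMonoidHom ≤ K := by
  rintro y ⟨r, hr, rfl⟩
  exact h r hr

theorem Q_conj_mem_R (s : XS Q P z x g) {q r : G} (hq : q ∈ Q) (hr : r ∈ s.R) :
    q * r * q⁻¹ ∈ s.R := by
  have h1 : s.R.map (MulAut.conj q).toMonoidHom ≤ s.R := by
    unfold R
    rw [Subgroup.map_sup]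
    apply sup_le
    · apply map_conj_le
      intro a ha
      have h2 := s.comm_mem_RQ hq ha
      have : q * a * q⁻¹ = (q * a * q⁻¹ * a⁻¹) * a := by group
      rw [this]
      exact Subgroup.mul_mem _ (Subgroup.mem_sup_right h2) (Subgroup.mem_sup_left ha)
    · apply map_conj_le
      intro b hb
      exact Subgroup.mem_sup_right (s.Q_conj_mem_RQ hq hb)
  exact h1 ⟨r, hr, rfl⟩

theorem P_conj_mem_R (s : XS Q P z x g) {p r : G} (hp : p ∈ P) (hr : r ∈ s.R) :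
    p * r * p⁻¹ ∈ s.R := by
  have h1 : s.R.map (MulAut.conj p).toMonoidHom ≤ s.R := by
    unfold R
    rw [Subgroup.map_sup]
    apply sup_le
    · apply map_conj_le
      intro a ha
      exact Subgroup.mem_sup_left (s.P_conj_mem_RP hp ha)
    · apply map_conj_le
      intro b hb
      have h2 := s.comm_mem_RP hp hb
      have : p * b * p⁻¹ = (p * b * p⁻¹ * b⁻¹) * b := by group
      rw [this]
      exact Subgroup.mul_mem _ (Subgroup.mem_sup_left h2) (Subgroup.mem_sup_right hb)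
  exact h1 ⟨r, hr, rfl⟩

theorem X_le_normalizer_R [Finite G] (s : XS Q P z x g) :
    s.X ≤ Subgroup.normalizer (s.R : Set G) := by
  apply sup_le
  · intro q hq
    exact mem_normalizer_of_maps _ _ (fun r hr => s.Q_conj_mem_R hq hr)
  · intro p hp
    exact mem_normalizer_of_maps _ _ (fun r hr => s.P_conj_mem_R hp hr)

theorem conj_mem_R [Finite G] (s : XS Q P z x g) {y r : G} (hy : y ∈ s.X) (hr : r ∈ s.R) :
    y * r * y⁻¹ ∈ s.R :=
  (Subgroup.mem_normalizer_iff.mp (s.X_le_normalizer_R hy) r).mp hr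

theorem conj_mem_R' [Finite G] (s : XS Q P z x g) {y r : G} (hy : y ∈ s.X) (hr : r ∈ s.R) :
    y⁻¹ * r * y ∈ s.R := by
  have := s.conj_mem_R (s.X.inv_mem hy) hr
  rwa [inv_inv] at this

theorem Q_cases (s : XS Q P z x g) {q0 : G} (hq0 : q0 ∈ Q) (hq0x : q0 * x * q0⁻¹ = z * x)
    {q : G} (hq : q ∈ Q) : q ∈ s.RQ ∨ q0⁻¹ * q ∈ s.RQ := by
  rcases s.hQ.comm_or hq s.hxQ with h1 | h1
  · left; exact s.mem_RQ.mpr ⟨hq, h1⟩
  · right
    exact s.mem_RQ.mpr ⟨Q.mul_mem (Q.inv_mem hq0) hq, s.hQ.mul_comm_of_conj hq0 hq0x h1⟩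

theorem P_cases (s : XS Q P z x g) {p0 : G} (hp0 : p0 ∈ P) (hp0z : p0 * z * p0⁻¹ = x * z)
    {p : G} (hp : p ∈ P) : p ∈ s.RP ∨ p0⁻¹ * p ∈ s.RP := by
  rcases s.symm.Q_cases hp0 hp0z hp with h1 | h1
  · left; rw [s.symm.mem_RQ] at h1; exact s.mem_RP.mpr h1
  · right; rw [s.symm.mem_RQ] at h1; exact s.mem_RP.mpr h1

theorem q0_sq (s : XS Q P z x g) {q0 : G} (hq0 : q0 ∈ Q) (hq0x : q0 * x * q0⁻¹ = z * x) :
    q0 * q0 ∈ s.RQ := by
  have h1 := s.hQ.inv_conj hq0 hq0x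
  have h2 : q0⁻¹ * x * (q0⁻¹)⁻¹ = z * x := by rw [inv_inv]; exact h1
  have := s.hQ.mul_comm_of_conj (Q.inv_mem hq0) h2 hq0x
  rw [inv_inv] at this
  exact s.mem_RQ.mpr ⟨Q.mul_mem hq0 hq0, this⟩

theorem p0_sq (s : XS Q P z x g) {p0 : G} (hp0 : p0 ∈ P) (hp0z : p0 * z * p0⁻¹ = x * z) :
    p0 * p0 ∈ s.RP := by
  have := s.symm.q0_sq hp0 hp0z
  rw [s.symm.mem_RQ] at this
  exact s.mem_RP.mpr this

end XS

end Cfsg.Agent.Helper3.LargeX
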