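import Mathlib
import Cfsg.Agent.Helper3.LargeXN

set_option autoImplicit false

namespace Cfsg.Agent.Helper3.LargeX

variable {G : Type*} [Group G]

namespace XS

variable {Q P : Subgroup G} {z x g : G}

/-- The generators data: `q0 ∈ Q` flipping `x`, `p0 ∈ P` flipping `z`. -/
structure Gens (s : XS Q P z x g) (q0 p0 : G) : Prop where
  hq0 : q0 ∈ Q
  hq0x : q0 * x * q0⁻¹ = z * x
  hp0 : p0 ∈ P
  hp0z : p0 * z * p0⁻¹ = x * z

theorem exists_gens (s : XS Q P z x g) : ∃ q0 p0, s.Gens q0 p0 := by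
  obtain ⟨q0, hq0, hq0x⟩ := s.hQ.exists_noncomm s.hxQ s.x_ne s.hxz
  obtain ⟨p0, hp0, hp0z⟩ := s.hP.exists_noncomm s.hzP s.hQ.z_ne s.hxz.symm
  exact ⟨q0, p0, hq0, hq0x, hp0, hp0z⟩

namespace Gens

variable {s : XS Q P z x g} {q0 p0 : G}

theorem hq0z (t : s.Gens q0 p0) : q0 * z * q0⁻¹ = z := s.hQ.conj_z t.hq0

theorem hp0x (t : s.Gens q0 p0) : p0 * x * p0⁻¹ = x := s.hP.conj_z t.hp0

theorem hq0zx (t : s.Gens q0 p0) : q0 * (z * x) * q0⁻¹ = x := by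
  have : q0 * (z * x) * q0⁻¹ = (q0 * z * q0⁻¹) * (q0 * x * q0⁻¹) := by group
  rw [this, t.hq0z, t.hq0x, ← mul_assoc, s.hQ.z_sq, one_mul]

theorem hp0zx (t : s.Gens q0 p0) : p0 * (z * x) * p0⁻¹ = z := by
  have : p0 * (z * x) * p0⁻¹ = (p0 * z * p0⁻¹) * (p0 * x * p0⁻¹) := by group
  rw [this, t.hp0z, t.hp0x, mul_assoc, s.zx_comm, ← mul_assoc, s.x_sq, one_mul]

theorem hq0X (t : s.Gens q0 p0) : q0 ∈ s.X := s.Q_le_X t.hq0

theorem hp0X (t : s.Gens q0 p0) : p0 ∈ s.X := s.P_le_X t.hp0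

/-- The braid relation modulo `R`. -/
theorem braid [Finite G] (t : s.Gens q0 p0) :
    (q0 * p0 * q0)⁻¹ * (p0 * q0 * p0) ∈ s.R := by
  -- y = p0 q0 conjugates x to z
  have hyx : (p0 * q0) * x * (p0 * q0)⁻¹ = z := by
    have : (p0 * q0) * x * (p0 * q0)⁻¹ = p0 * (q0 * x * q0⁻¹) * p0⁻¹ := by group
    rw [this, t.hq0x, t.hp0zx]
  have hyz : (p0 * q0) * z * (p0 * q0)⁻¹ = x * z := by
    have : (p0 * q0) * z * (p0 * q0)⁻¹ = p0 * (q0 * z * q0⁻¹) * p0⁻¹ := by group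
    rw [this, t.hq0z, t.hp0z]
  -- (y g) commutes with z
  have hygz : (p0 * q0 * g) * z = z * (p0 * q0 * g) := by
    have e : (p0 * q0 * g) * z * (p0 * q0 * g)⁻¹ = z := by
      have : (p0 * q0 * g) * z * (p0 * q0 * g)⁻¹ = (p0 * q0) * (g * z * g⁻¹) * (p0 * q0)⁻¹ := by
        group
      rw [this, ← s.hxdef, hyx]
    calc (p0 * q0 * g) * z = ((p0 * q0 * g) * z * (p0 * q0 * g)⁻¹) * (p0 * q0 * g) := by group
      _ = z * (p0 * q0 * g) := by rw [e]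
  -- u = y p0 y⁻¹ ∈ Q
  have hp0' : g⁻¹ * p0 * g ∈ Q := by
    have := t.hp0
    rw [s.hPdef, mem_conj_iff] at this
    exact this
  have huQ : (p0 * q0) * p0 * (p0 * q0)⁻¹ ∈ Q := by
    have := s.hQ.norm _ hygz _ hp0'
    have e : (p0 * q0 * g) * (g⁻¹ * p0 * g) * (p0 * q0 * g)⁻¹ = (p0 * q0) * p0 * (p0 * q0)⁻¹ := by
      group
    rwa [e] at this
  -- u does not centralize x
  have hux : (p0 * q0) * p0 * (p0 * q0)⁻¹ * x ≠ x * ((p0 * q0) * p0 * (p0 * q0)⁻¹) := by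
    intro hcomm
    have h1 : ((p0 * q0) * p0 * (p0 * q0)⁻¹) * x * ((p0 * q0) * p0 * (p0 * q0)⁻¹)⁻¹ = x := by
      rw [hcomm]; group
    have hyx' : (p0 * q0)⁻¹ * x * (p0 * q0) = z * x := by
      have : (p0 * q0)⁻¹ * x * (p0 * q0) = q0⁻¹ * (p0⁻¹ * x * p0) * q0 := by group
      rw [this]
      have e : p0⁻¹ * x * p0 = x := by
        have := s.hP.conj_z' t.hp0
        exact this
      rw [e, s.hQ.inv_conj t.hq0 t.hq0x]
    have h2 : ((p0 * q0) * p0 * (p0 * q0)⁻¹) * x * ((p0 * q0) * p0 * (p0 * q0)⁻¹)⁻¹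
        = (p0 * q0) * (p0 * ((p0 * q0)⁻¹ * x * (p0 * q0)) * p0⁻¹) * (p0 * q0)⁻¹ := by group
    rw [h2, hyx', t.hp0zx, hyz] at h1
    -- x z = x
    apply s.hQ.z_ne
    exact mul_eq_left.mp h1
  have hu : q0⁻¹ * ((p0 * q0) * p0 * (p0 * q0)⁻¹) ∈ s.RQ := by
    rcases s.Q_cases t.hq0 t.hq0x huQ with h1 | h1
    · exact absurd (s.RQ_comm_x h1) hux
    · exact h1
  have hyX : p0 * q0 ∈ s.X := s.X.mul_mem t.hp0X t.hq0X
  have := s.conj_mem_R' hyX (s.RQ_le_R hu)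
  have e : (p0 * q0)⁻¹ * (q0⁻¹ * ((p0 * q0) * p0 * (p0 * q0)⁻¹)) * (p0 * q0)
      = (q0 * p0 * q0)⁻¹ * (p0 * q0 * p0) := by group
  rwa [e] at this

/-- The six coset representatives. -/
def W6 (_ : s.Gens q0 p0) (w : G) : Prop :=
  w = 1 ∨ w = q0 ∨ w = p0 ∨ w = q0 * p0 ∨ w = p0 * q0 ∨ w = q0 * p0 * q0

theorem W6_mem_X (t : s.Gens q0 p0) {w : G} (hw : t.W6 w) : w ∈ s.X := by
  have hq := t.hq0X
  have hp := t.hp0X
  rcases hw with rfl | rfl | rfl | rfl | rfl | rfl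
  · exact s.X.one_mem
  · exact hq
  · exact hp
  · exact s.X.mul_mem hq hp
  · exact s.X.mul_mem hp hq
  · exact s.X.mul_mem (s.X.mul_mem hq hp) hq

theorem table_q [Finite G] (t : s.Gens q0 p0) {w : G} (hw : t.W6 w) :
    ∃ w', t.W6 w' ∧ w'⁻¹ * (q0 * w) ∈ s.R := by
  have hqq : q0 * q0 ∈ s.R := s.RQ_le_R (s.q0_sq t.hq0 t.hq0x)
  rcases hw with h | h | h | h | h | h <;> rw [h]
  · refine ⟨q0, Or.inr (Or.inl rfl), ?_⟩
    have : q0⁻¹ * (q0 * 1) = 1 := by group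
    rw [this]; exact s.R.one_mem
  · refine ⟨1, Or.inl rfl, ?_⟩
    have : (1 : G)⁻¹ * (q0 * q0) = q0 * q0 := by group
    rw [this]; exact hqq
  · refine ⟨q0 * p0, Or.inr (Or.inr (Or.inr (Or.inl rfl))), ?_⟩
    have : (q0 * p0)⁻¹ * (q0 * p0) = 1 := by group
    rw [this]; exact s.R.one_mem
  · refine ⟨p0, Or.inr (Or.inr (Or.inl rfl)), ?_⟩
    have : p0⁻¹ * (q0 * (q0 * p0)) = p0⁻¹ * (q0 * q0) * p0 := by group
    rw [this]; exact s.conj_mem_R' t.hp0X hqq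
  · refine ⟨q0 * p0 * q0, Or.inr (Or.inr (Or.inr (Or.inr (Or.inr rfl)))), ?_⟩
    have : (q0 * p0 * q0)⁻¹ * (q0 * (p0 * q0)) = 1 := by group
    rw [this]; exact s.R.one_mem
  · refine ⟨p0 * q0, Or.inr (Or.inr (Or.inr (Or.inr (Or.inl rfl)))), ?_⟩
    have : (p0 * q0)⁻¹ * (q0 * (q0 * p0 * q0)) = (p0 * q0)⁻¹ * (q0 * q0) * (p0 * q0) := by group
    rw [this]; exact s.conj_mem_R' (s.X.mul_mem t.hp0X t.hq0X) hqq

theorem table_p [Finite G] (t : s.Gens q0 p0) {w : G} (hw : t.W6 w) :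
    ∃ w', t.W6 w' ∧ w'⁻¹ * (p0 * w) ∈ s.R := by
  have hqq : q0 * q0 ∈ s.R := s.RQ_le_R (s.q0_sq t.hq0 t.hq0x)
  have hpp : p0 * p0 ∈ s.R := s.RP_le_R (s.p0_sq t.hp0 t.hp0z)
  have hbr := t.braid
  rcases hw with h | h | h | h | h | h <;> rw [h]
  · refine ⟨p0, Or.inr (Or.inr (Or.inl rfl)), ?_⟩
    have : p0⁻¹ * (p0 * 1) = 1 := by group
    rw [this]; exact s.R.one_mem
  · refine ⟨p0 * q0, Or.inr (Or.inr (Or.inr (Or.inr (Or.inl rfl)))), ?_⟩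
    have : (p0 * q0)⁻¹ * (p0 * q0) = 1 := by group
    rw [this]; exact s.R.one_mem
  · refine ⟨1, Or.inl rfl, ?_⟩
    have : (1 : G)⁻¹ * (p0 * p0) = p0 * p0 := by group
    rw [this]; exact hpp
  · refine ⟨q0 * p0 * q0, Or.inr (Or.inr (Or.inr (Or.inr (Or.inr rfl)))), ?_⟩
    have : (q0 * p0 * q0)⁻¹ * (p0 * (q0 * p0)) = (q0 * p0 * q0)⁻¹ * (p0 * q0 * p0) := by group
    rw [this]; exact hbr
  · refine ⟨q0, Or.inr (Or.inl rfl), ?_⟩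
    have : q0⁻¹ * (p0 * (p0 * q0)) = q0⁻¹ * (p0 * p0) * q0 := by group
    rw [this]; exact s.conj_mem_R' t.hq0X hpp
  · refine ⟨q0 * p0, Or.inr (Or.inr (Or.inr (Or.inl rfl))), ?_⟩
    -- (q0 p0)⁻¹ p0 q0 p0 q0 = q0 (r) q0 where r = braid element
    have e : (q0 * p0)⁻¹ * (p0 * (q0 * p0 * q0))
        = (q0 * ((q0 * p0 * q0)⁻¹ * (p0 * q0 * p0)) * q0⁻¹) * (q0 * q0) := by group
    rw [e]
    exact s.R.mul_mem (s.conj_mem_R t.hq0X hbr) hqq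

/-- Every element of `X` lies in one of six cosets of `R`. -/
theorem six_cosets [Finite G] (t : s.Gens q0 p0) {y : G} (hy : y ∈ s.X) :
    ∃ w, t.W6 w ∧ w⁻¹ * y ∈ s.R := by
  have hX : s.X = Subgroup.closure ((Q : Set G) ∪ (P : Set G)) := Subgroup.sup_eq_closure Q P
  rw [hX] at hy
  -- multiplication by an element of R on the left
  have stepR : ∀ r ∈ s.R, ∀ y w : G, t.W6 w → w⁻¹ * y ∈ s.R → w⁻¹ * (r * y) ∈ s.R := by
    intro r hr y w hw hwy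
    have : w⁻¹ * (r * y) = (w⁻¹ * r * w) * (w⁻¹ * y) := by group
    rw [this]
    exact s.R.mul_mem (s.conj_mem_R' (t.W6_mem_X hw) hr) hwy
  have stepQ : ∀ a ∈ Q, ∀ y : G, (∃ w, t.W6 w ∧ w⁻¹ * y ∈ s.R) →
      ∃ w, t.W6 w ∧ w⁻¹ * (a * y) ∈ s.R := by
    rintro a ha y ⟨w, hw, hwy⟩
    rcases s.Q_cases t.hq0 t.hq0x ha with h1 | h1
    · exact ⟨w, hw, stepR a (s.RQ_le_R h1) y w hw hwy⟩
    · have h2 := stepR _ (s.RQ_le_R h1) y w hw hwy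
      obtain ⟨w', hw', hw'q⟩ := t.table_q hw
      refine ⟨w', hw', ?_⟩
      have : w'⁻¹ * (a * y) = (w'⁻¹ * (q0 * w)) * (w⁻¹ * (q0⁻¹ * a * y)) := by group
      rw [this]
      exact s.R.mul_mem hw'q h2
  have stepP : ∀ a ∈ P, ∀ y : G, (∃ w, t.W6 w ∧ w⁻¹ * y ∈ s.R) →
      ∃ w, t.W6 w ∧ w⁻¹ * (a * y) ∈ s.R := by
    rintro a ha y ⟨w, hw, hwy⟩
    rcases s.P_cases t.hp0 t.hp0z ha with h1 | h1
    · exact ⟨w, hw, stepR a (s.RP_le_R h1) y w hw hwy⟩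
    · have h2 := stepR _ (s.RP_le_R h1) y w hw hwy
      obtain ⟨w', hw', hw'p⟩ := t.table_p hw
      refine ⟨w', hw', ?_⟩
      have : w'⁻¹ * (a * y) = (w'⁻¹ * (p0 * w)) * (w⁻¹ * (p0⁻¹ * a * y)) := by group
      rw [this]
      exact s.R.mul_mem hw'p h2
  induction hy using Subgroup.closure_induction_left with
  | one =>
    refine ⟨1, Or.inl rfl, ?_⟩
    have : (1 : G)⁻¹ * 1 = 1 := by group
    rw [this]; exact s.R.one_mem
  | mul_left a ha y _ ih =>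
    rcases ha with ha | ha
    · exact stepQ a ha y ih
    · exact stepP a ha y ih
  | inv_mul_cancel a ha y _ ih =>
    rcases ha with ha | ha
    · exact stepQ a⁻¹ (Q.inv_mem ha) y ih
    · exact stepP a⁻¹ (P.inv_mem ha) y ih

end Gens

end XS

end Cfsg.Agent.Helper3.LargeX
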