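import Mathlib
import Cfsg.Agent.Helper3.LargeXO

set_option autoImplicit false

namespace Cfsg.Agent.Helper3.LargeX

variable {G : Type*} [Group G]

/-- The four-group generated by two commuting involutions. -/
def fourSub (z x : G) (hz2 : z * z = 1) (hx2 : x * x = 1)
    (hzx : z * x = x * z) : Subgroup G where
  carrier := {v | v = 1 ∨ v = z ∨ v = x ∨ v = z * x}
  one_mem' := Or.inl rfl
  mul_mem' := by
    have e1 : z * (z * x) = x := by rw [← mul_assoc, hz2, one_mul]
    have e2 : x * z = z * x := hzx.symm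
    have e3 : x * (z * x) = z := by rw [← mul_assoc, e2, mul_assoc, hx2, mul_one]
    have e4 : z * x * z = x := by rw [hzx, mul_assoc, hz2, mul_one]
    have e5 : z * x * x = z := by rw [mul_assoc, hx2, mul_one]
    have e6 : z * x * (z * x) = 1 := by rw [← mul_assoc, e4, hx2]
    intro a b ha hb
    rcases ha with rfl | rfl | rfl | rfl
    · rw [one_mul]; exact hb
    · rcases hb with rfl | rfl | rfl | rfl
      · rw [mul_one]; exact Or.inr (Or.inl rfl)
      · rw [hz2]; exact Or.inl rfl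
      · exact Or.inr (Or.inr (Or.inr rfl))
      · rw [e1]; exact Or.inr (Or.inr (Or.inl rfl))
    · rcases hb with rfl | rfl | rfl | rfl
      · rw [mul_one]; exact Or.inr (Or.inr (Or.inl rfl))
      · rw [e2]; exact Or.inr (Or.inr (Or.inr rfl))
      · rw [hx2]; exact Or.inl rfl
      · rw [e3]; exact Or.inr (Or.inl rfl)
    · rcases hb with rfl | rfl | rfl | rfl
      · rw [mul_one]; exact Or.inr (Or.inr (Or.inr rfl))
      · rw [e4]; exact Or.inr (Or.inr (Or.inl rfl))
      · rw [e5]; exact Or.inr (Or.inl rfl)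
      · rw [e6]; exact Or.inl rfl
  inv_mem' := by
    have e4 : z * x * z = x := by rw [hzx, mul_assoc, hz2, mul_one]
    have e6 : z * x * (z * x) = 1 := by rw [← mul_assoc, e4, hx2]
    intro a ha
    rcases ha with rfl | rfl | rfl | rfl
    · rw [inv_one]; exact Or.inl rfl
    · rw [inv_eq_of_mul_eq_one_left hz2]; exact Or.inr (Or.inl rfl)
    · rw [inv_eq_of_mul_eq_one_left hx2]; exact Or.inr (Or.inr (Or.inl rfl))
    · rw [inv_eq_of_mul_eq_one_left e6]; exact Or.inr (Or.inr (Or.inr rfl))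

theorem mem_fourSub {z x : G} {hz2 : z * z = 1} {hx2 : x * x = 1} {hzx : z * x = x * z} {v : G} :
    v ∈ fourSub z x hz2 hx2 hzx ↔ v = 1 ∨ v = z ∨ v = x ∨ v = z * x := Iff.rfl

theorem closure_pair_eq_fourSub (z x : G) (hz2 : z * z = 1) (hx2 : x * x = 1)
    (hzx : z * x = x * z) : Subgroup.closure ({z, x} : Set G) = fourSub z x hz2 hx2 hzx := by
  apply le_antisymm
  · rw [Subgroup.closure_le]
    rintro v (rfl | rfl)
    · exact Or.inr (Or.inl rfl)
    · exact Or.inr (Or.inr (Or.inl rfl))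
  · intro v hv
    have h1 : z ∈ Subgroup.closure ({z, x} : Set G) := Subgroup.subset_closure (by simp)
    have h2 : x ∈ Subgroup.closure ({z, x} : Set G) := Subgroup.subset_closure (by simp)
    rcases hv with rfl | rfl | rfl | rfl
    · exact Subgroup.one_mem _
    · exact h1
    · exact h2
    · exact Subgroup.mul_mem _ h1 h2

theorem mem_centralizer_closure_pair (z x c : G) :
    c ∈ Subgroup.centralizer ((Subgroup.closure ({z, x} : Set G) : Subgroup G) : Set G) ↔
      c * z = z * c ∧ c * x = x * c := by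
  constructor
  · intro hc
    rw [Subgroup.mem_centralizer_iff] at hc
    exact ⟨(hc z (Subgroup.subset_closure (by simp))).symm,
      (hc x (Subgroup.subset_closure (by simp))).symm⟩
  · rintro ⟨h1, h2⟩
    rw [Subgroup.mem_centralizer_iff]
    have hle : Subgroup.closure ({z, x} : Set G) ≤ Subgroup.centralizer ({c} : Set G) := by
      rw [Subgroup.closure_le]
      rintro v (rfl | rfl)
      · rw [SetLike.mem_coe, Subgroup.mem_centralizer_singleton_iff]; exact h1.symm
      · rw [SetLike.mem_coe, Subgroup.mem_centralizer_singleton_iff]; exact h2.symm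
    intro h hh
    have := hle hh
    rw [Subgroup.mem_centralizer_singleton_iff] at this
    exact this

namespace XS

variable {Q P : Subgroup G} {z x g : G}

namespace Gens

variable {s : XS Q P z x g} {q0 p0 : G}

/-- Elements of `X` centralizing `z` and `x` lie in `R`. -/
theorem cent_mem_R [Finite G] (t : s.Gens q0 p0) {y : G} (hy : y ∈ s.X)
    (hyz : y * z = z * y) (hyx : y * x = x * y) : y ∈ s.R := by
  obtain ⟨w, hw, hwy⟩ := t.six_cosets hy
  -- w commutes with z and x
  have comm_aux : ∀ v : G, y * v = v * y → (w⁻¹ * y) * v = v * (w⁻¹ * y) → w * v = v * w := by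
    intro v h0 h1
    have h2 : (w⁻¹ * y)⁻¹ * v = v * (w⁻¹ * y)⁻¹ := by
      calc (w⁻¹ * y)⁻¹ * v = (w⁻¹ * y)⁻¹ * (v * (w⁻¹ * y)) * (w⁻¹ * y)⁻¹ := by group
        _ = (w⁻¹ * y)⁻¹ * ((w⁻¹ * y) * v) * (w⁻¹ * y)⁻¹ := by rw [h1]
        _ = v * (w⁻¹ * y)⁻¹ := by group
    calc w * v = y * ((w⁻¹ * y)⁻¹ * v) := by group
      _ = y * (v * (w⁻¹ * y)⁻¹) := by rw [h2]
      _ = (y * v) * (w⁻¹ * y)⁻¹ := by group
      _ = (v * y) * (w⁻¹ * y)⁻¹ := by rw [h0]
      _ = v * w := by group
  have hwz : w * z = z * w := comm_aux z hyz (s.R_comm_z hwy)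
  have hwx : w * x = x * w := comm_aux x hyx (s.R_comm_x hwy)
  have hw1 : w = 1 := by
    rcases hw with h | h | h | h | h | h
    · exact h
    · exfalso
      rw [h] at hwx
      exact s.hQ.not_comm_of_conj t.hq0x hwx
    · exfalso
      rw [h] at hwz
      have : p0 * z * p0⁻¹ = z := by rw [hwz]; group
      rw [t.hp0z] at this
      exact s.x_ne (mul_eq_right.mp this)
    · exfalso
      rw [h] at hwz
      have h2 : (q0 * p0) * z * (q0 * p0)⁻¹ = z := by rw [hwz]; group
      have e : (q0 * p0) * z * (q0 * p0)⁻¹ = q0 * (p0 * z * p0⁻¹) * q0⁻¹ := by group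
      rw [e, t.hp0z, ← s.zx_comm, t.hq0zx] at h2
      exact s.hxz h2
    · exfalso
      rw [h] at hwx
      have h2 : (p0 * q0) * x * (p0 * q0)⁻¹ = x := by rw [hwx]; group
      have e : (p0 * q0) * x * (p0 * q0)⁻¹ = p0 * (q0 * x * q0⁻¹) * p0⁻¹ := by group
      rw [e, t.hq0x, t.hp0zx] at h2
      exact s.hxz h2.symm
    · exfalso
      rw [h] at hwz
      have h2 : (q0 * p0 * q0) * z * (q0 * p0 * q0)⁻¹ = z := by rw [hwz]; group
      have e : (q0 * p0 * q0) * z * (q0 * p0 * q0)⁻¹
          = q0 * (p0 * (q0 * z * q0⁻¹) * p0⁻¹) * q0⁻¹ := by group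
      rw [e, t.hq0z, t.hp0z, ← s.zx_comm, t.hq0zx] at h2
      exact s.hxz h2
  rw [hw1] at hwy
  have : y = (1 : G)⁻¹ * y := by group
  rw [this]; exact hwy

end Gens

end XS

end Cfsg.Agent.Helper3.LargeX
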