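import Mathlib
import Cfsg.Agent.Helper3.LargeXP

set_option autoImplicit false

namespace Cfsg.Agent.Helper3.LargeX

variable {G : Type*} [Group G]

/-- The three involutions of a four-group. -/
abbrev T3 (z x : G) := {v : G // v = z ∨ v = x ∨ v = z * x}

section S3act

variable {z x : G} (hz2 : z * z = 1) (hx2 : x * x = 1) (hzx : z * x = x * z)
  (hz1 : z ≠ 1) (hx1 : x ≠ 1) (hxz : x ≠ z)

include hz1 hx1 hxz in
theorem T3_conj_mem {n : G} (hn : n ∈ Subgroup.normalizer (fourSub z x hz2 hx2 hzx : Set G))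
    (t : T3 z x) : n * (t : G) * n⁻¹ = z ∨ n * (t : G) * n⁻¹ = x ∨ n * (t : G) * n⁻¹ = z * x := by
  have htV : (t : G) ∈ fourSub z x hz2 hx2 hzx := Or.inr t.2
  have h1 := (Subgroup.mem_normalizer_iff.mp hn (t : G)).mp htV
  have ht1 : (t : G) ≠ 1 := by
    rcases t.2 with h | h | h
    · rw [h]; exact hz1
    · rw [h]; exact hx1
    · rw [h]
      intro h2
      apply hxz
      have : x = z⁻¹ * (z * x) := by group
      rw [this, h2, mul_one]
      exact inv_eq_of_mul_eq_one_left hz2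
  rcases h1 with h1 | h1
  · exfalso
    apply ht1
    have : (t : G) = n⁻¹ * (n * (t : G) * n⁻¹) * n := by group
    rw [this, h1]; group
  · exact h1

/-- The permutation action of `N(V)` on the three involutions of `V`. -/
noncomputable def permHom :
    Subgroup.normalizer (fourSub z x hz2 hx2 hzx : Set G) →* Equiv.Perm (T3 z x) where
  toFun n :=
    { toFun := fun t => ⟨n * t * (n : G)⁻¹, T3_conj_mem hz2 hx2 hzx hz1 hx1 hxz n.2 t⟩
      invFun := fun t => ⟨(n : G)⁻¹ * t * n, by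
        have := T3_conj_mem hz2 hx2 hzx hz1 hx1 hxz (Subgroup.inv_mem _ n.2) t
        simpa using this⟩
      left_inv := by
        intro t
        apply Subtype.ext
        show (n : G)⁻¹ * ((n : G) * t * (n : G)⁻¹) * n = t
        group
      right_inv := by
        intro t
        apply Subtype.ext
        show (n : G) * ((n : G)⁻¹ * t * (n : G)) * (n : G)⁻¹ = t
        group }
  map_one' := by
    ext t
    show ((1 : Subgroup.normalizer (fourSub z x hz2 hx2 hzx : Set G)) : G) * t *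
      ((1 : Subgroup.normalizer (fourSub z x hz2 hx2 hzx : Set G)) : G)⁻¹ = t
    simp
  map_mul' := by
    intro a b
    ext t
    show ((a * b : Subgroup.normalizer (fourSub z x hz2 hx2 hzx : Set G)) : G) * t *
      ((a * b : Subgroup.normalizer (fourSub z x hz2 hx2 hzx : Set G)) : G)⁻¹
        = (a : G) * ((b : G) * t * (b : G)⁻¹) * (a : G)⁻¹
    simp only [Subgroup.coe_mul]
    group

theorem permHom_apply (n : Subgroup.normalizer (fourSub z x hz2 hx2 hzx : Set G)) (t : T3 z x) :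
    ((permHom hz2 hx2 hzx hz1 hx1 hxz n t : T3 z x) : G) = n * t * (n : G)⁻¹ := rfl

theorem permHom_eq_one_iff (n : Subgroup.normalizer (fourSub z x hz2 hx2 hzx : Set G)) :
    permHom hz2 hx2 hzx hz1 hx1 hxz n = 1 ↔
      (n : G) * z * (n : G)⁻¹ = z ∧ (n : G) * x * (n : G)⁻¹ = x := by
  constructor
  · intro h
    constructor
    · have := congrArg (fun σ : Equiv.Perm (T3 z x) => ((σ ⟨z, Or.inl rfl⟩ : T3 z x) : G)) h
      simpa [permHom_apply] using this
    · have := congrArg (fun σ : Equiv.Perm (T3 z x) => ((σ ⟨x, Or.inr (Or.inl rfl)⟩ : T3 z x) : G)) h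
      simpa [permHom_apply] using this
  · rintro ⟨h1, h2⟩
    ext t
    rw [permHom_apply]
    simp only [Equiv.Perm.coe_one, id_eq]
    rcases t.2 with h | h | h
    · rw [h]; exact h1
    · rw [h]; exact h2
    · rw [h]
      have : (n : G) * (z * x) * (n : G)⁻¹ = ((n : G) * z * (n : G)⁻¹) * ((n : G) * x * (n : G)⁻¹) := by
        group
      rw [this, h1, h2]

include hz1 hx1 hxz in
theorem e3_bijective :
    Function.Bijective (![⟨z, Or.inl rfl⟩, ⟨x, Or.inr (Or.inl rfl)⟩,
      ⟨z * x, Or.inr (Or.inr rfl)⟩] : Fin 3 → T3 z x) := by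
  have hzxz : z * x ≠ z := fun h => hx1 (mul_eq_left.mp h)
  have hzxx : z * x ≠ x := fun h => hz1 (mul_eq_right.mp h)
  constructor
  · intro i j hij
    have h1 := congrArg (fun t : T3 z x => (t : G)) hij
    fin_cases i <;> fin_cases j
    · rfl
    · exact absurd (h1 : z = x).symm hxz
    · exact absurd (h1 : z = z * x).symm hzxz
    · exact absurd (h1 : x = z) hxz
    · rfl
    · exact absurd (h1 : x = z * x).symm hzxx
    · exact absurd (h1 : z * x = z) hzxz
    · exact absurd (h1 : z * x = x) hzxx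
    · rfl
  · rintro ⟨v, hv⟩
    rcases hv with h | h | h
    · exact ⟨0, by apply Subtype.ext; simp [h]⟩
    · exact ⟨1, by apply Subtype.ext; simp [h]⟩
    · exact ⟨2, by apply Subtype.ext; simp [h]⟩

/-- The induced homomorphism to `S₃`. -/
noncomputable def psiN :
    Subgroup.normalizer (fourSub z x hz2 hx2 hzx : Set G) →* Equiv.Perm (Fin 3) :=
  (Equiv.permCongrHom (Equiv.ofBijective _ (e3_bijective hz1 hx1 hxz)).symm).toMonoidHom.comp
    (permHom hz2 hx2 hzx hz1 hx1 hxz)

theorem psiN_eq_one_iff (n : Subgroup.normalizer (fourSub z x hz2 hx2 hzx : Set G)) :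
    psiN hz2 hx2 hzx hz1 hx1 hxz n = 1 ↔
      (n : G) * z * (n : G)⁻¹ = z ∧ (n : G) * x * (n : G)⁻¹ = x := by
  rw [← permHom_eq_one_iff hz2 hx2 hzx hz1 hx1 hxz]
  unfold psiN
  simp only [MonoidHom.coe_comp, Function.comp_apply, MulEquiv.coe_toMonoidHom]
  exact MulEquiv.map_eq_one_iff _

end S3act

set_option maxRecDepth 100000 in
/-- `S₃` has no nontrivial normal 2-subgroup. -/
theorem S3_normal_two_trivial (N : Subgroup (Equiv.Perm (Fin 3))) [hN : N.Normal]
    (h2 : IsPGroup 2 N) : N = ⊥ := by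
  rw [eq_bot_iff]
  intro σ hσ
  rw [Subgroup.mem_bot]
  by_contra hne
  have h6 : ∀ τ : Equiv.Perm (Fin 3), τ ^ 6 = 1 := by decide
  have hpow : ∀ τ ∈ N, τ ^ 2 = 1 := by
    intro τ hτ
    obtain ⟨k, hk⟩ := h2 ⟨τ, hτ⟩
    have hk' : τ ^ (2 ^ k) = 1 := by
      have := congrArg Subtype.val hk
      simpa using this
    have h1 : orderOf τ ∣ 2 ^ k := orderOf_dvd_of_pow_eq_one hk'
    have h3 : orderOf τ ∣ 6 := orderOf_dvd_of_pow_eq_one (h6 τ)
    have hc : Nat.Coprime (2 ^ k) 3 := by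
      apply Nat.Coprime.pow_left
      norm_num
    have hc' : Nat.Coprime (orderOf τ) 3 := Nat.Coprime.coprime_dvd_left h1 hc
    have h3' : orderOf τ ∣ 2 * 3 := h3
    have h5 : orderOf τ ∣ 2 := hc'.dvd_of_dvd_mul_right h3'
    exact orderOf_dvd_iff_pow_eq_one.mp h5
  have key : ∀ σ : Equiv.Perm (Fin 3), σ ^ 2 = 1 → σ ≠ 1 →
      ∃ τ : Equiv.Perm (Fin 3), (σ * (τ * σ * τ⁻¹)) ^ 2 ≠ 1 := by decide
  obtain ⟨τ, hτ⟩ := key σ (hpow σ hσ) hne
  exact hτ (hpow _ (N.mul_mem hσ (hN.conj_mem σ hσ τ)))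

end Cfsg.Agent.Helper3.LargeX
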