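import Mathlib
import Cfsg.Agent.Helper3.LargeXQ

set_option autoImplicit false

namespace Cfsg.Agent.Helper3.LargeX

variable {G : Type*} [Group G]

namespace XS

variable {Q P : Subgroup G} {z x g : G}

/-- The four-group `V = ⟨z, x⟩`. -/
def V (s : XS Q P z x g) : Subgroup G := fourSub z x s.hQ.z_sq s.x_sq s.zx_comm

theorem mem_V (s : XS Q P z x g) {v : G} : v ∈ s.V ↔ v = 1 ∨ v = z ∨ v = x ∨ v = z * x := Iff.rfl

theorem Q_le_N [Finite G] (s : XS Q P z x g) : Q ≤ Subgroup.normalizer (s.V : Set G) := by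
  intro q hq
  apply mem_normalizer_of_maps
  intro v hv
  have hqz := s.hQ.conj_z hq
  have hmul : q * (z * x) * q⁻¹ = (q * z * q⁻¹) * (q * x * q⁻¹) := by group
  rcases s.mem_V.mp hv with h | h | h | h
  · rw [h]; simp [s.V.one_mem]
  · rw [h, hqz]; exact s.mem_V.mpr (Or.inr (Or.inl rfl))
  · rw [h]
    rcases s.hQ.comm_or hq s.hxQ with h1 | h1
    · rw [LX.conj_eq_of_comm h1]; exact s.mem_V.mpr (Or.inr (Or.inr (Or.inl rfl)))
    · rw [h1]; exact s.mem_V.mpr (Or.inr (Or.inr (Or.inr rfl)))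
  · rw [h, hmul, hqz]
    rcases s.hQ.comm_or hq s.hxQ with h1 | h1
    · rw [LX.conj_eq_of_comm h1]; exact s.mem_V.mpr (Or.inr (Or.inr (Or.inr rfl)))
    · rw [h1, ← mul_assoc, s.hQ.z_sq, one_mul]; exact s.mem_V.mpr (Or.inr (Or.inr (Or.inl rfl)))

theorem P_le_N [Finite G] (s : XS Q P z x g) : P ≤ Subgroup.normalizer (s.V : Set G) := by
  intro p hp
  apply mem_normalizer_of_maps
  intro v hv
  have hpx := s.hP.conj_z hp
  have hmul : p * (z * x) * p⁻¹ = (p * z * p⁻¹) * (p * x * p⁻¹) := by group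
  rcases s.mem_V.mp hv with h | h | h | h
  · rw [h]; simp [s.V.one_mem]
  · rw [h]
    rcases s.hP.comm_or hp s.hzP with h1 | h1
    · rw [LX.conj_eq_of_comm h1]; exact s.mem_V.mpr (Or.inr (Or.inl rfl))
    · rw [h1, ← s.zx_comm]; exact s.mem_V.mpr (Or.inr (Or.inr (Or.inr rfl)))
  · rw [h, hpx]; exact s.mem_V.mpr (Or.inr (Or.inr (Or.inl rfl)))
  · rw [h, hmul, hpx]
    rcases s.hP.comm_or hp s.hzP with h1 | h1
    · rw [LX.conj_eq_of_comm h1]; exact s.mem_V.mpr (Or.inr (Or.inr (Or.inr rfl)))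
    · rw [h1, mul_assoc, s.zx_comm, ← mul_assoc, s.x_sq, one_mul]
      exact s.mem_V.mpr (Or.inr (Or.inl rfl))

theorem X_le_N [Finite G] (s : XS Q P z x g) : s.X ≤ Subgroup.normalizer (s.V : Set G) :=
  sup_le s.Q_le_N s.P_le_N

/-- The action homomorphism `X → S₃`. -/
noncomputable def psi [Finite G] (s : XS Q P z x g) : s.X →* Equiv.Perm (Fin 3) :=
  (psiN s.hQ.z_sq s.x_sq s.zx_comm s.hQ.z_ne s.x_ne s.hxz).comp (Subgroup.inclusion s.X_le_N)

theorem psi_eq_one_iff [Finite G] (s : XS Q P z x g) (y : s.X) :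
    s.psi y = 1 ↔ (y : G) * z * (y : G)⁻¹ = z ∧ (y : G) * x * (y : G)⁻¹ = x := by
  unfold psi
  rw [MonoidHom.comp_apply, psiN_eq_one_iff]
  rfl

theorem psiN_eq_one_iff' [Finite G] (s : XS Q P z x g)
    (n : Subgroup.normalizer (s.V : Set G)) :
    psiN s.hQ.z_sq s.x_sq s.zx_comm s.hQ.z_ne s.x_ne s.hxz n = 1 ↔
      (n : G) * z * (n : G)⁻¹ = z ∧ (n : G) * x * (n : G)⁻¹ = x :=
  psiN_eq_one_iff _ _ _ _ _ _ n

namespace Gens

variable {s : XS Q P z x g} {q0 p0 : G}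

theorem psi_ker [Finite G] (t : s.Gens q0 p0) : s.psi.ker = s.R.subgroupOf s.X := by
  ext y
  rw [MonoidHom.mem_ker, s.psi_eq_one_iff, Subgroup.mem_subgroupOf]
  constructor
  · rintro ⟨h1, h2⟩
    apply t.cent_mem_R y.2
    · have : (y : G) * z = ((y : G) * z * (y : G)⁻¹) * y := by group
      rw [this, h1]
    · have : (y : G) * x = ((y : G) * x * (y : G)⁻¹) * y := by group
      rw [this, h2]
  · intro h
    exact ⟨LX.conj_eq_of_comm (s.R_comm_z h), LX.conj_eq_of_comm (s.R_comm_x h)⟩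

theorem psi_surjective [Finite G] (t : s.Gens q0 p0) : Function.Surjective s.psi := by
  rw [← MonoidHom.range_eq_top]
  apply Subgroup.eq_top_of_card_eq
  have h6 : Nat.card (Equiv.Perm (Fin 3)) = 6 := by
    rw [Nat.card_perm]; simp; rfl
  rw [h6]
  have hle : Nat.card s.psi.range ≤ 6 := by
    rw [← h6]; exact Subgroup.card_le_card_group _
  -- element of order 2
  have h2 : 2 ∣ Nat.card s.psi.range := by
    have ha2 : (s.psi ⟨q0, t.hq0X⟩) ^ 2 = 1 := by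
      rw [← map_pow, ← MonoidHom.mem_ker, t.psi_ker, Subgroup.mem_subgroupOf]
      show (q0 ^ 2 : G) ∈ s.R
      rw [pow_two]
      exact s.RQ_le_R (s.q0_sq t.hq0 t.hq0x)
    have ha1 : s.psi ⟨q0, t.hq0X⟩ ≠ 1 := by
      intro h1
      rw [s.psi_eq_one_iff] at h1
      have := h1.2
      simp only at this
      rw [t.hq0x] at this
      exact s.hQ.z_ne (mul_eq_right.mp this)
    have : Fact (Nat.Prime 2) := ⟨Nat.prime_two⟩
    have ho := orderOf_eq_prime ha2 ha1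
    have hmem : s.psi ⟨q0, t.hq0X⟩ ∈ s.psi.range := ⟨_, rfl⟩
    have := orderOf_dvd_natCard (⟨_, hmem⟩ : s.psi.range)
    rwa [Subgroup.orderOf_mk, ho] at this
  have h3 : 3 ∣ Nat.card s.psi.range := by
    have hyX : p0 * q0 ∈ s.X := s.X.mul_mem t.hp0X t.hq0X
    have hyx : (p0 * q0) * x * (p0 * q0)⁻¹ = z := by
      have : (p0 * q0) * x * (p0 * q0)⁻¹ = p0 * (q0 * x * q0⁻¹) * p0⁻¹ := by group
      rw [this, t.hq0x, t.hp0zx]
    have hyz : (p0 * q0) * z * (p0 * q0)⁻¹ = z * x := by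
      have : (p0 * q0) * z * (p0 * q0)⁻¹ = p0 * (q0 * z * q0⁻¹) * p0⁻¹ := by group
      rw [this, t.hq0z, t.hp0z, s.zx_comm]
    have hyzx : (p0 * q0) * (z * x) * (p0 * q0)⁻¹ = x := by
      have : (p0 * q0) * (z * x) * (p0 * q0)⁻¹
          = ((p0 * q0) * z * (p0 * q0)⁻¹) * ((p0 * q0) * x * (p0 * q0)⁻¹) := by group
      rw [this, hyz, hyx, s.zx_comm, mul_assoc, s.hQ.z_sq, mul_one]
    have hb3 : (s.psi ⟨p0 * q0, hyX⟩) ^ 3 = 1 := by
      rw [← map_pow, s.psi_eq_one_iff]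
      show ((p0 * q0) ^ 3 : G) * z * ((p0 * q0) ^ 3 : G)⁻¹ = z ∧
        ((p0 * q0) ^ 3 : G) * x * ((p0 * q0) ^ 3 : G)⁻¹ = x
      constructor
      · have : ((p0 * q0) ^ 3 : G) * z * ((p0 * q0) ^ 3 : G)⁻¹
            = (p0 * q0) * ((p0 * q0) * ((p0 * q0) * z * (p0 * q0)⁻¹) * (p0 * q0)⁻¹) * (p0 * q0)⁻¹ := by
          rw [pow_succ, pow_two]; group
        rw [this, hyz, hyzx, hyx]
      · have : ((p0 * q0) ^ 3 : G) * x * ((p0 * q0) ^ 3 : G)⁻¹
            = (p0 * q0) * ((p0 * q0) * ((p0 * q0) * x * (p0 * q0)⁻¹) * (p0 * q0)⁻¹) * (p0 * q0)⁻¹ := by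
          rw [pow_succ, pow_two]; group
        rw [this, hyx, hyz, hyzx]
    have hb1 : s.psi ⟨p0 * q0, hyX⟩ ≠ 1 := by
      intro h1
      rw [s.psi_eq_one_iff] at h1
      have := h1.2
      simp only at this
      rw [hyx] at this
      exact s.hxz this.symm
    have : Fact (Nat.Prime 3) := ⟨Nat.prime_three⟩
    have ho := orderOf_eq_prime hb3 hb1
    have hmem : s.psi ⟨p0 * q0, hyX⟩ ∈ s.psi.range := ⟨_, rfl⟩
    have := orderOf_dvd_natCard (⟨_, hmem⟩ : s.psi.range)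
    rwa [Subgroup.orderOf_mk, ho] at this
  have h6' : 6 ∣ Nat.card s.psi.range :=
    Nat.Coprime.mul_dvd_of_dvd_of_dvd (by norm_num : Nat.Coprime 2 3) h2 h3
  have hpos : 0 < Nat.card s.psi.range := Nat.card_pos
  have := Nat.le_of_dvd hpos h6'
  omega

end Gens

end XS

end Cfsg.Agent.Helper3.LargeX
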