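import Mathlib
import Cfsg.Agent.Helper3.LargeXR

set_option autoImplicit false

namespace Cfsg.Agent.Helper3.LargeX

variable {G : Type*} [Group G]

namespace XS

variable {Q P : Subgroup G} {z x g : G}

theorem V_eq_closure (s : XS Q P z x g) : s.V = Subgroup.closure ({z, x} : Set G) :=
  (closure_pair_eq_fourSub z x s.hQ.z_sq s.x_sq s.zx_comm).symm

theorem mem_centralizer_V (s : XS Q P z x g) {c : G} :
    c ∈ Subgroup.centralizer (s.V : Set G) ↔ c * z = z * c ∧ c * x = x * c := by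
  rw [s.V_eq_closure]
  exact mem_centralizer_closure_pair z x c

theorem mem_CzCV (s : XS Q P z x g) {c : G} :
    c ∈ Subgroup.centralizer ({z} : Set G) ⊓ Subgroup.centralizer (s.V : Set G) ↔
      c * z = z * c ∧ c * x = x * c := by
  rw [Subgroup.mem_inf, s.mem_centralizer_V, Subgroup.mem_centralizer_singleton_iff]
  tauto

theorem R_isPGroup [Finite G] (s : XS Q P z x g) : IsPGroup 2 s.R := by
  unfold R
  apply IsPGroup.to_sup_of_normal_left' (s.hP.pgrp.to_le s.RP_le) (s.hQ.pgrp.to_le s.RQ_le)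
  intro b hb
  apply mem_normalizer_of_maps
  intro a ha
  exact s.conj_mem_RP (s.RQ_comm_z hb) (s.RQ_comm_x hb) ha

theorem thm6 (s : XS Q P z x g) :
    s.R ≤ Subgroup.centralizer ({z} : Set G) ⊓ Subgroup.centralizer (s.V : Set G) := by
  intro r hr
  rw [s.mem_CzCV]
  exact ⟨s.R_comm_z hr, s.R_comm_x hr⟩

/-- Conjugates of `Q` by elements sending `z` into `V` lie in `X`. -/
theorem conjQ_le_X (s : XS Q P z x g) {q0 : G} (hq0 : q0 ∈ Q) (hq0x : q0 * x * q0⁻¹ = z * x)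
    {h : G} (hh : h * z * h⁻¹ = z ∨ h * z * h⁻¹ = x ∨ h * z * h⁻¹ = z * x)
    {q : G} (hq : q ∈ Q) : h * q * h⁻¹ ∈ s.X := by
  -- general: if h z h⁻¹ = k z k⁻¹ then h q h⁻¹ ∈ k Q k⁻¹
  have key : ∀ k : G, h * z * h⁻¹ = k * z * k⁻¹ → k⁻¹ * (h * q * h⁻¹) * k ∈ Q := by
    intro k hk
    have hc : (k⁻¹ * h) * z = z * (k⁻¹ * h) := by
      have e : (k⁻¹ * h) * z * (k⁻¹ * h)⁻¹ = z := by
        have : (k⁻¹ * h) * z * (k⁻¹ * h)⁻¹ = k⁻¹ * (h * z * h⁻¹) * k := by group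
        rw [this, hk]; group
      calc (k⁻¹ * h) * z = ((k⁻¹ * h) * z * (k⁻¹ * h)⁻¹) * (k⁻¹ * h) := by group
        _ = z * (k⁻¹ * h) := by rw [e]
    have := s.hQ.norm _ hc q hq
    have e : k⁻¹ * h * q * (k⁻¹ * h)⁻¹ = k⁻¹ * (h * q * h⁻¹) * k := by group
    rwa [e] at this
  rcases hh with h1 | h1 | h1
  · have := key 1 (by rw [h1]; group)
    apply s.Q_le_X
    simpa using this
  · have := key g (by rw [h1, s.hxdef])
    apply s.P_le_X
    rw [s.hPdef, mem_conj_iff]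
    exact this
  · have := key (q0 * g) (by
      rw [h1, ← hq0x, s.hxdef]; group)
    -- h q h⁻¹ ∈ q0 P q0⁻¹
    have hP : g * ((q0 * g)⁻¹ * (h * q * h⁻¹) * (q0 * g)) * g⁻¹ ∈ P := by
      rw [s.hPdef]
      exact conj_mem_conj Q g _ this
    have e : h * q * h⁻¹
        = q0 * (g * ((q0 * g)⁻¹ * (h * q * h⁻¹) * (q0 * g)) * g⁻¹) * q0⁻¹ := by group
    rw [e]
    exact s.X.mul_mem (s.X.mul_mem (s.Q_le_X hq0) (s.P_le_X hP)) (s.X.inv_mem (s.Q_le_X hq0))

namespace Gens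

variable {s : XS Q P z x g} {q0 p0 : G}

theorem thm8 [Finite G] (t : s.Gens q0 p0) :
    s.X ⊓ (Subgroup.centralizer ({z} : Set G) ⊓ Subgroup.centralizer (s.V : Set G)) = s.R := by
  apply le_antisymm
  · intro y hy
    rw [Subgroup.mem_inf, s.mem_CzCV] at hy
    exact t.cent_mem_R hy.1 hy.2.1 hy.2.2
  · exact le_inf s.R_le_X s.thm6

theorem thm1 [Finite G] (t : s.Gens q0 p0) :
    s.R = s.X ⊓ Subgroup.centralizer (s.V : Set G) := by
  apply le_antisymm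
  · exact le_inf s.R_le_X (le_trans s.thm6 inf_le_right)
  · intro y hy
    rw [Subgroup.mem_inf, s.mem_centralizer_V] at hy
    exact t.cent_mem_R hy.1 hy.2.1 hy.2.2

theorem thm2 [Finite G] (t : s.Gens q0 p0) :
    s.R = (Cfsg.pCore 2 ↥s.X).map s.X.subtype := by
  have hker := t.psi_ker
  have hn : (s.R.subgroupOf s.X).Normal := by
    rw [← hker]; infer_instance
  apply le_antisymm
  · intro r hr
    have h1 : s.R.subgroupOf s.X ≤ Cfsg.pCore 2 ↥s.X :=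
      Cfsg.Agent.Helper9.le_pCore _ hn (s.R_isPGroup.comap_subtype)
    exact ⟨⟨r, s.R_le_X hr⟩, h1 (by rw [Subgroup.mem_subgroupOf]; exact hr), rfl⟩
  · have : Fact (Nat.Prime 2) := ⟨Nat.prime_two⟩
    have hO : (Cfsg.pCore 2 ↥s.X).Normal := Cfsg.Agent.Helper9.pCore_normal
    have hOp : IsPGroup 2 (Cfsg.pCore 2 ↥s.X) := Cfsg.Agent.Helper9.pCore_isPGroup
    have h1 : ((Cfsg.pCore 2 ↥s.X).map s.psi).Normal := hO.map s.psi t.psi_surjective
    have h2 : IsPGroup 2 ((Cfsg.pCore 2 ↥s.X).map s.psi) := hOp.map s.psi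
    have h3 := S3_normal_two_trivial _ h2
    rw [Subgroup.map_eq_bot_iff, hker] at h3
    rintro y ⟨y', hy', rfl⟩
    have := h3 hy'
    rw [Subgroup.mem_subgroupOf] at this
    exact this

theorem thm3 [Finite G] (t : s.Gens q0 p0) :
    ∃ h : (s.R.subgroupOf s.X).Normal,
      Nonempty (↥s.X ⧸ s.R.subgroupOf s.X ≃* Equiv.Perm (Fin 3)) := by
  have hker := t.psi_ker
  have hn : (s.R.subgroupOf s.X).Normal := by
    rw [← hker]; infer_instance
  refine ⟨hn, ⟨?_⟩⟩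
  exact (QuotientGroup.quotientMulEquivOfEq hker.symm).trans
    (QuotientGroup.quotientKerEquivOfSurjective s.psi t.psi_surjective)

theorem thm4 [Finite G] (t : s.Gens q0 p0) :
    Subgroup.normalizer (s.V : Set G) =
      s.X ⊔ (Subgroup.centralizer ({z} : Set G) ⊓ Subgroup.centralizer (s.V : Set G)) := by
  apply le_antisymm
  · intro n hn
    obtain ⟨y, hy⟩ := t.psi_surjective
      (psiN s.hQ.z_sq s.x_sq s.zx_comm s.hQ.z_ne s.x_ne s.hxz ⟨n, hn⟩)
    have hyN : (y : G) ∈ Subgroup.normalizer (s.V : Set G) := s.X_le_N y.2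
    have h1 : psiN s.hQ.z_sq s.x_sq s.zx_comm s.hQ.z_ne s.x_ne s.hxz
        (⟨(y : G), hyN⟩⁻¹ * ⟨n, hn⟩) = 1 := by
      rw [map_mul, map_inv]
      have : psiN s.hQ.z_sq s.x_sq s.zx_comm s.hQ.z_ne s.x_ne s.hxz ⟨(y : G), hyN⟩ = s.psi y := rfl
      rw [this, hy]; group
    replace h1 := (s.psiN_eq_one_iff' _).mp h1
    have h2 : (y : G)⁻¹ * n ∈
        Subgroup.centralizer ({z} : Set G) ⊓ Subgroup.centralizer (s.V : Set G) := by
      rw [s.mem_CzCV]
      obtain ⟨h3, h4⟩ := h1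
      constructor
      · have e : ((y : G)⁻¹ * n) * z = (((y : G)⁻¹ * n) * z * ((y : G)⁻¹ * n)⁻¹) * ((y : G)⁻¹ * n) := by
          group
        rw [e]
        have : ((y : G)⁻¹ * n) * z * ((y : G)⁻¹ * n)⁻¹ = z := h3
        rw [this]
      · have e : ((y : G)⁻¹ * n) * x = (((y : G)⁻¹ * n) * x * ((y : G)⁻¹ * n)⁻¹) * ((y : G)⁻¹ * n) := by
          group
        rw [e]
        have : ((y : G)⁻¹ * n) * x * ((y : G)⁻¹ * n)⁻¹ = x := h4
        rw [this]
    have : n = (y : G) * ((y : G)⁻¹ * n) := by group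
    rw [this]
    exact Subgroup.mul_mem _ (Subgroup.mem_sup_left y.2) (Subgroup.mem_sup_right h2)
  · apply sup_le s.X_le_N
    exact le_trans inf_le_right (Subgroup.centralizer_le_normalizer _)

theorem thm5 [Finite G] (t : s.Gens q0 p0) :
    ∀ y ∈ Subgroup.normalizer (s.V : Set G), ∀ a ∈ s.X, y * a * y⁻¹ ∈ s.X := by
  intro y hy a ha
  -- the image of z and x under y
  have hmove : ∀ v : G, (v = z ∨ v = x) →
      y * v * y⁻¹ = z ∨ y * v * y⁻¹ = x ∨ y * v * y⁻¹ = z * x := by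
    intro v hv
    have hvV : v ∈ s.V := by
      rcases hv with h | h
      · exact s.mem_V.mpr (Or.inr (Or.inl h))
      · exact s.mem_V.mpr (Or.inr (Or.inr (Or.inl h)))
    have h1 := (Subgroup.mem_normalizer_iff.mp hy v).mp hvV
    rcases s.mem_V.mp h1 with h2 | h2
    · exfalso
      have : v = y⁻¹ * (y * v * y⁻¹) * y := by group
      rw [h2] at this
      have hv1 : v = 1 := by rw [this]; group
      rcases hv with h | h
      · exact s.hQ.z_ne (h ▸ hv1)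
      · exact s.x_ne (h ▸ hv1)
    · exact h2
  have hmap : s.X.map (MulAut.conj y).toMonoidHom ≤ s.X := by
    unfold X
    rw [Subgroup.map_sup]
    apply sup_le
    · apply map_conj_le
      intro q hq
      exact s.conjQ_le_X t.hq0 t.hq0x (hmove z (Or.inl rfl)) hq
    · apply map_conj_le
      intro p hp
      rw [s.hPdef, mem_conj_iff] at hp
      have hyg : (y * g) * z * (y * g)⁻¹ = z ∨ (y * g) * z * (y * g)⁻¹ = x ∨
          (y * g) * z * (y * g)⁻¹ = z * x := by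
        have e : (y * g) * z * (y * g)⁻¹ = y * (g * z * g⁻¹) * y⁻¹ := by group
        rw [e, ← s.hxdef]
        exact hmove x (Or.inr rfl)
      have := s.conjQ_le_X t.hq0 t.hq0x hyg hp
      have e : (y * g) * (g⁻¹ * p * g) * (y * g)⁻¹ = y * p * y⁻¹ := by group
      rwa [e] at this
  exact hmap ⟨a, ha, rfl⟩

theorem thm7 [Finite G] (t : s.Gens q0 p0) :
    ∀ a ∈ s.X, ∀ c ∈ Subgroup.centralizer ({z} : Set G) ⊓ Subgroup.centralizer (s.V : Set G),
      a * c * a⁻¹ * c⁻¹ ∈ s.R := by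
  intro a ha c hc
  rw [s.mem_CzCV] at hc
  obtain ⟨hcz, hcx⟩ := hc
  have hcz' : c⁻¹ * z = z * c⁻¹ := by
    calc c⁻¹ * z = c⁻¹ * (z * c) * c⁻¹ := by group
      _ = c⁻¹ * (c * z) * c⁻¹ := by rw [hcz]
      _ = z * c⁻¹ := by group
  have hcx' : c⁻¹ * x = x * c⁻¹ := by
    calc c⁻¹ * x = c⁻¹ * (x * c) * c⁻¹ := by group
      _ = c⁻¹ * (c * x) * c⁻¹ := by rw [hcx]
      _ = x * c⁻¹ := by group
  have hX : s.X = Subgroup.closure ((Q : Set G) ∪ (P : Set G)) := Subgroup.sup_eq_closure Q P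
  rw [hX] at ha
  have hQ : ∀ q ∈ Q, q * c * q⁻¹ * c⁻¹ ∈ s.R := by
    intro q hq
    apply s.RQ_le_R
    have h1 : c * q⁻¹ * c⁻¹ ∈ Q := s.hQ.norm c hcz q⁻¹ (Q.inv_mem hq)
    have e : q * c * q⁻¹ * c⁻¹ = q * (c * q⁻¹ * c⁻¹) := by group
    have hmem : q * c * q⁻¹ * c⁻¹ ∈ Q := by rw [e]; exact Q.mul_mem hq h1
    rcases s.hQ.comm_or hq s.hxQ with h2 | h2
    · -- q commutes with x
      rw [s.mem_RQ]
      refine ⟨hmem, ?_⟩
      have h2' : q⁻¹ * x = x * q⁻¹ := by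
        calc q⁻¹ * x = q⁻¹ * (x * q) * q⁻¹ := by group
          _ = q⁻¹ * (q * x) * q⁻¹ := by rw [h2]
          _ = x * q⁻¹ := by group
      calc q * c * q⁻¹ * c⁻¹ * x = q * c * q⁻¹ * (c⁻¹ * x) := by group
        _ = q * c * q⁻¹ * (x * c⁻¹) := by rw [hcx']
        _ = q * c * (q⁻¹ * x) * c⁻¹ := by group
        _ = q * c * (x * q⁻¹) * c⁻¹ := by rw [h2']
        _ = q * (c * x) * q⁻¹ * c⁻¹ := by group
        _ = q * (x * c) * q⁻¹ * c⁻¹ := by rw [hcx]
        _ = (q * x) * c * q⁻¹ * c⁻¹ := by group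
        _ = (x * q) * c * q⁻¹ * c⁻¹ := by rw [h2]
        _ = x * (q * c * q⁻¹ * c⁻¹) := by group
    · -- q flips x; then c q⁻¹ c⁻¹ flips x too, product fixes
      have h3 : (c * q⁻¹ * c⁻¹) * x * (c * q⁻¹ * c⁻¹)⁻¹ = z * x := by
        have e1 : (c * q⁻¹ * c⁻¹) * x * (c * q⁻¹ * c⁻¹)⁻¹
            = c * (q⁻¹ * (c⁻¹ * x * c) * q) * c⁻¹ := by group
        have e2 : c⁻¹ * x * c = x := by rw [hcx']; group
        rw [e1, e2, s.hQ.inv_conj hq h2]
        calc c * (z * x) * c⁻¹ = (c * z) * x * c⁻¹ := by group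
          _ = (z * c) * x * c⁻¹ := by rw [hcz]
          _ = z * (c * x) * c⁻¹ := by group
          _ = z * (x * c) * c⁻¹ := by rw [hcx]
          _ = z * x := by group
      have h4 := s.hQ.mul_comm_of_conj (Q.inv_mem hq) (by rw [inv_inv]; exact s.hQ.inv_conj hq h2) h3
      rw [inv_inv] at h4
      rw [s.mem_RQ]
      refine ⟨hmem, ?_⟩
      rw [e]; exact h4
  have hP : ∀ p ∈ P, p * c * p⁻¹ * c⁻¹ ∈ s.R := by
    intro p hp
    apply s.RP_le_R
    have h1 : c * p⁻¹ * c⁻¹ ∈ P := s.hP.norm c hcx p⁻¹ (P.inv_mem hp)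
    have e : p * c * p⁻¹ * c⁻¹ = p * (c * p⁻¹ * c⁻¹) := by group
    have hmem : p * c * p⁻¹ * c⁻¹ ∈ P := by rw [e]; exact P.mul_mem hp h1
    rcases s.hP.comm_or hp s.hzP with h2 | h2
    · rw [s.mem_RP]
      refine ⟨hmem, ?_⟩
      have h2' : p⁻¹ * z = z * p⁻¹ := by
        calc p⁻¹ * z = p⁻¹ * (z * p) * p⁻¹ := by group
          _ = p⁻¹ * (p * z) * p⁻¹ := by rw [h2]
          _ = z * p⁻¹ := by group
      calc p * c * p⁻¹ * c⁻¹ * z = p * c * p⁻¹ * (c⁻¹ * z) := by group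
        _ = p * c * p⁻¹ * (z * c⁻¹) := by rw [hcz']
        _ = p * c * (p⁻¹ * z) * c⁻¹ := by group
        _ = p * c * (z * p⁻¹) * c⁻¹ := by rw [h2']
        _ = p * (c * z) * p⁻¹ * c⁻¹ := by group
        _ = p * (z * c) * p⁻¹ * c⁻¹ := by rw [hcz]
        _ = (p * z) * c * p⁻¹ * c⁻¹ := by group
        _ = (z * p) * c * p⁻¹ * c⁻¹ := by rw [h2]
        _ = z * (p * c * p⁻¹ * c⁻¹) := by group
    · have h3 : (c * p⁻¹ * c⁻¹) * z * (c * p⁻¹ * c⁻¹)⁻¹ = x * z := by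
        have e1 : (c * p⁻¹ * c⁻¹) * z * (c * p⁻¹ * c⁻¹)⁻¹
            = c * (p⁻¹ * (c⁻¹ * z * c) * p) * c⁻¹ := by group
        have e2 : c⁻¹ * z * c = z := by rw [hcz']; group
        rw [e1, e2, s.hP.inv_conj hp h2]
        calc c * (x * z) * c⁻¹ = (c * x) * z * c⁻¹ := by group
          _ = (x * c) * z * c⁻¹ := by rw [hcx]
          _ = x * (c * z) * c⁻¹ := by group
          _ = x * (z * c) * c⁻¹ := by rw [hcz]
          _ = x * z := by group
      have h4 := s.hP.mul_comm_of_conj (P.inv_mem hp) (by rw [inv_inv]; exact s.hP.inv_conj hp h2) h3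
      rw [inv_inv] at h4
      rw [s.mem_RP]
      refine ⟨hmem, ?_⟩
      rw [e]; exact h4
  -- closure induction with X-membership carried along
  have key : ∀ a ∈ Subgroup.closure ((Q : Set G) ∪ (P : Set G)),
      a ∈ s.X ∧ a * c * a⁻¹ * c⁻¹ ∈ s.R := by
    intro a ha
    induction ha using Subgroup.closure_induction with
    | mem a ha =>
      rcases ha with ha | ha
      · exact ⟨s.Q_le_X ha, hQ a ha⟩
      · exact ⟨s.P_le_X ha, hP a ha⟩
    | one =>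
      refine ⟨s.X.one_mem, ?_⟩
      have : (1 : G) * c * 1⁻¹ * c⁻¹ = 1 := by group
      rw [this]; exact s.R.one_mem
    | mul a b _ _ iha ihb =>
      refine ⟨s.X.mul_mem iha.1 ihb.1, ?_⟩
      have e : a * b * c * (a * b)⁻¹ * c⁻¹
          = (a * (b * c * b⁻¹ * c⁻¹) * a⁻¹) * (a * c * a⁻¹ * c⁻¹) := by group
      rw [e]
      exact s.R.mul_mem (s.conj_mem_R iha.1 ihb.2) iha.2
    | inv a _ iha =>
      refine ⟨s.X.inv_mem iha.1, ?_⟩
      have e : a⁻¹ * c * a⁻¹⁻¹ * c⁻¹ = a⁻¹ * (a * c * a⁻¹ * c⁻¹)⁻¹ * a := by group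
      rw [e]
      exact s.conj_mem_R' iha.1 (s.R.inv_mem iha.2)
  exact (key a ha).2

end Gens

end XS

end Cfsg.Agent.Helper3.LargeX
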