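import Mathlib
import Cfsg.Agent.Helper1.PGroup
import Cfsg.Agent.Helper3.LargeXS

set_option autoImplicit false

namespace Cfsg.Agent.Helper3.LargeX

variable {G : Type*} [Group G]

/-- Squares in an extraspecial 2-group lie in the centre. -/
theorem sq_of_extraspecial [Finite G] (Q : Subgroup G) (hE : Cfsg.IsExtraspecial 2 ↥Q) (z : G)
    (hZ : ∀ y, y ∈ (Subgroup.center ↥Q).map Q.subtype ↔ y = 1 ∨ y = z) :
    ∀ a ∈ Q, a * a = 1 ∨ a * a = z := by
  intro a ha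
  obtain ⟨⟨hp, hfr, -⟩, -⟩ := hE
  have : Fact (Nat.Prime 2) := ⟨Nat.prime_two⟩
  have h1 := Cfsg.Agent.Helper1.IsPGroup.pow_mem_frattini hp (⟨a, ha⟩ : Q)
  rw [hfr] at h1
  have h2 : (a * a : G) ∈ (Subgroup.center ↥Q).map Q.subtype := by
    refine ⟨_, h1, ?_⟩
    simp [pow_two]
  exact (hZ _).mp h2

namespace XS

variable {Q P : Subgroup G} {z x g : G}

/-- `E = Q ∩ P`. -/
def E (_ : XS Q P z x g) : Subgroup G := Q ⊓ P

theorem E_le_RQ (s : XS Q P z x g) : s.E ≤ s.RQ := by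
  intro e he
  have he' := Subgroup.mem_inf.mp he
  exact s.mem_RQ.mpr ⟨he'.1, s.hP.z_comm e he'.2⟩

theorem E_le_RP (s : XS Q P z x g) : s.E ≤ s.RP := by
  intro e he
  have he' := Subgroup.mem_inf.mp he
  exact s.mem_RP.mpr ⟨he'.2, s.hQ.z_comm e he'.1⟩

theorem E_le_R (s : XS Q P z x g) : s.E ≤ s.R := le_trans s.E_le_RQ s.RQ_le_R

theorem thm6' (s : XS Q P z x g) : s.RP ⊓ s.RQ = s.E := by
  apply le_antisymm
  · intro a ha
    have ha' := Subgroup.mem_inf.mp ha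
    exact Subgroup.mem_inf.mpr ⟨s.RQ_le ha'.2, s.RP_le ha'.1⟩
  · exact le_inf s.E_le_RP s.E_le_RQ

theorem V_le_E (s : XS Q P z x g) : s.V ≤ s.E := by
  intro v hv
  have hz : z ∈ s.E := Subgroup.mem_inf.mpr ⟨s.hQ.z_mem, s.hzP⟩
  have hx : x ∈ s.E := Subgroup.mem_inf.mpr ⟨s.hxQ, s.hP.z_mem⟩
  rcases s.mem_V.mp hv with h | h | h | h
  · rw [h]; exact s.E.one_mem
  · rw [h]; exact hz
  · rw [h]; exact hx
  · rw [h]; exact s.E.mul_mem hz hx

/-- The transported square condition. -/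
theorem sq_P (s : XS Q P z x g) (hsq : ∀ a ∈ Q, a * a = 1 ∨ a * a = z) :
    ∀ a ∈ P, a * a = 1 ∨ a * a = x := by
  intro a ha
  rw [s.hPdef, mem_conj_iff] at ha
  have e : a * a = g * ((g⁻¹ * a * g) * (g⁻¹ * a * g)) * g⁻¹ := by group
  rcases hsq _ ha with h | h
  · left; rw [e, h]; group
  · right; rw [e, h, s.hxdef]

theorem E_comm (s : XS Q P z x g) {a b : G} (ha : a ∈ s.E) (hb : b ∈ s.E) : a * b = b * a := by
  have ha' := Subgroup.mem_inf.mp ha
  have hb' := Subgroup.mem_inf.mp hb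
  rcases s.hQ.comm a ha'.1 b hb'.1 with h1 | h1
  · have : a * b = (a * b * a⁻¹ * b⁻¹) * b * a := by group
    rw [this, h1, one_mul]
  · exfalso
    rcases s.hP.comm a ha'.2 b hb'.2 with h2 | h2
    · rw [h1] at h2; exact s.hQ.z_ne h2
    · rw [h1] at h2; exact s.hxz h2.symm

theorem thm4' (s : XS Q P z x g) (hsq : ∀ a ∈ Q, a * a = 1 ∨ a * a = z) :
    Cfsg.IsElementaryAbelian 2 s.E := by
  constructor
  · constructor
    constructor
    intro a b
    apply Subtype.ext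
    exact s.E_comm a.2 b.2
  · intro a ha
    have ha' := Subgroup.mem_inf.mp ha
    rw [pow_two]
    rcases hsq a ha'.1 with h1 | h1
    · exact h1
    · exfalso
      rcases s.sq_P hsq a ha'.2 with h2 | h2
      · rw [h1] at h2; exact s.hQ.z_ne h2
      · rw [h1] at h2; exact s.hxz h2.symm

/-- Elements centralizing `z` and `x` normalize `E`. -/
theorem conj_mem_E (s : XS Q P z x g) {c e : G} (hcz : c * z = z * c) (hcx : c * x = x * c)
    (he : e ∈ s.E) : c * e * c⁻¹ ∈ s.E := by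
  have he' := Subgroup.mem_inf.mp he
  exact Subgroup.mem_inf.mpr ⟨s.hQ.norm c hcz e he'.1, s.hP.norm c hcx e he'.2⟩

theorem R_conj_mem_E (s : XS Q P z x g) {c e : G} (hc : c ∈ s.R) (he : e ∈ s.E) :
    c * e * c⁻¹ ∈ s.E := s.conj_mem_E (s.R_comm_z hc) (s.R_comm_x hc) he

/-- Commutators of generators of `R` lie in `E`. -/
theorem gen_comm_mem_E (s : XS Q P z x g) {a b : G} (ha : a ∈ s.RP ∨ a ∈ s.RQ)
    (hb : b ∈ s.RP ∨ b ∈ s.RQ) : a * b * a⁻¹ * b⁻¹ ∈ s.E := by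
  have hzE : z ∈ s.E := s.V_le_E (s.mem_V.mpr (Or.inr (Or.inl rfl)))
  have hxE : x ∈ s.E := s.V_le_E (s.mem_V.mpr (Or.inr (Or.inr (Or.inl rfl))))
  -- cross commutators
  have cross : ∀ a ∈ s.RP, ∀ b ∈ s.RQ, a * b * a⁻¹ * b⁻¹ ∈ s.E := by
    intro a ha b hb
    apply Subgroup.mem_inf.mpr
    constructor
    · have h1 := s.hQ.norm a (s.RP_comm_z ha) b (s.RQ_le hb)
      exact Q.mul_mem h1 (Q.inv_mem (s.RQ_le hb))
    · have h1 := s.hP.norm b (s.RQ_comm_x hb) a⁻¹ (P.inv_mem (s.RP_le ha))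
      have e : a * b * a⁻¹ * b⁻¹ = a * (b * a⁻¹ * b⁻¹) := by group
      rw [e]; exact P.mul_mem (s.RP_le ha) h1
  rcases ha with ha | ha
  · rcases hb with hb | hb
    · rcases s.hP.comm a (s.RP_le ha) b (s.RP_le hb) with h | h
      · rw [h]; exact s.E.one_mem
      · rw [h]; exact hxE
    · exact cross a ha b hb
  · rcases hb with hb | hb
    · have := s.E.inv_mem (cross b hb a ha)
      have e : (b * a * b⁻¹ * a⁻¹)⁻¹ = a * b * a⁻¹ * b⁻¹ := by group
      rwa [e] at this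
    · rcases s.hQ.comm a (s.RQ_le ha) b (s.RQ_le hb) with h | h
      · rw [h]; exact s.E.one_mem
      · rw [h]; exact hzE

theorem R_eq_closure (s : XS Q P z x g) :
    s.R = Subgroup.closure ((s.RP : Set G) ∪ (s.RQ : Set G)) := Subgroup.sup_eq_closure _ _

theorem comm_mem_E (s : XS Q P z x g) {a b : G} (ha : a ∈ s.R) (hb : b ∈ s.R) :
    a * b * a⁻¹ * b⁻¹ ∈ s.E := by
  -- step 1: a generator, b arbitrary
  have step1 : ∀ a : G, (a ∈ s.RP ∨ a ∈ s.RQ) →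
      ∀ b ∈ Subgroup.closure ((s.RP : Set G) ∪ (s.RQ : Set G)),
        b ∈ s.R ∧ a * b * a⁻¹ * b⁻¹ ∈ s.E := by
    intro a ha b hb
    induction hb using Subgroup.closure_induction with
    | mem b hb =>
      refine ⟨?_, s.gen_comm_mem_E ha hb⟩
      rcases hb with hb | hb
      · exact s.RP_le_R hb
      · exact s.RQ_le_R hb
    | one =>
      refine ⟨s.R.one_mem, ?_⟩
      have : a * 1 * a⁻¹ * (1 : G)⁻¹ = 1 := by group
      rw [this]; exact s.E.one_mem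
    | mul b c _ _ ihb ihc =>
      refine ⟨s.R.mul_mem ihb.1 ihc.1, ?_⟩
      have e : a * (b * c) * a⁻¹ * (b * c)⁻¹
          = (a * b * a⁻¹ * b⁻¹) * (b * (a * c * a⁻¹ * c⁻¹) * b⁻¹) := by group
      rw [e]
      exact s.E.mul_mem ihb.2 (s.R_conj_mem_E ihb.1 ihc.2)
    | inv b _ ihb =>
      refine ⟨s.R.inv_mem ihb.1, ?_⟩
      have e : a * b⁻¹ * a⁻¹ * b⁻¹⁻¹ = b⁻¹ * (a * b * a⁻¹ * b⁻¹)⁻¹ * b⁻¹⁻¹ := by group
      rw [e]
      exact s.R_conj_mem_E (s.R.inv_mem ihb.1) (s.E.inv_mem ihb.2)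
  rw [s.R_eq_closure] at ha
  have step2 : ∀ a ∈ Subgroup.closure ((s.RP : Set G) ∪ (s.RQ : Set G)),
      a ∈ s.R ∧ a * b * a⁻¹ * b⁻¹ ∈ s.E := by
    intro a ha
    induction ha using Subgroup.closure_induction with
    | mem a ha =>
      have hb' := hb
      rw [s.R_eq_closure] at hb'
      refine ⟨?_, (step1 a ha b hb').2⟩
      rcases ha with ha | ha
      · exact s.RP_le_R ha
      · exact s.RQ_le_R ha
    | one =>
      refine ⟨s.R.one_mem, ?_⟩
      have : (1 : G) * b * 1⁻¹ * b⁻¹ = 1 := by group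
      rw [this]; exact s.E.one_mem
    | mul a c _ _ iha ihc =>
      refine ⟨s.R.mul_mem iha.1 ihc.1, ?_⟩
      have e : a * c * b * (a * c)⁻¹ * b⁻¹
          = (a * (c * b * c⁻¹ * b⁻¹) * a⁻¹) * (a * b * a⁻¹ * b⁻¹) := by group
      rw [e]
      exact s.E.mul_mem (s.R_conj_mem_E iha.1 ihc.2) iha.2
    | inv a _ iha =>
      refine ⟨s.R.inv_mem iha.1, ?_⟩
      have e : a⁻¹ * b * a⁻¹⁻¹ * b⁻¹ = a⁻¹ * (a * b * a⁻¹ * b⁻¹)⁻¹ * a⁻¹⁻¹ := by group
      rw [e]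
      exact s.R_conj_mem_E (s.R.inv_mem iha.1) (s.E.inv_mem iha.2)
  exact (step2 a ha).2

theorem sq_mem_E (s : XS Q P z x g) (hsq : ∀ a ∈ Q, a * a = 1 ∨ a * a = z)
    {a : G} (ha : a ∈ s.R) : a * a ∈ s.E := by
  have hzE : z ∈ s.E := s.V_le_E (s.mem_V.mpr (Or.inr (Or.inl rfl)))
  have hxE : x ∈ s.E := s.V_le_E (s.mem_V.mpr (Or.inr (Or.inr (Or.inl rfl))))
  rw [s.R_eq_closure] at ha
  have key : ∀ a ∈ Subgroup.closure ((s.RP : Set G) ∪ (s.RQ : Set G)),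
      a ∈ s.R ∧ a * a ∈ s.E := by
    intro a ha
    induction ha using Subgroup.closure_induction with
    | mem a ha =>
      rcases ha with ha | ha
      · refine ⟨s.RP_le_R ha, ?_⟩
        rcases s.sq_P hsq a (s.RP_le ha) with h | h
        · rw [h]; exact s.E.one_mem
        · rw [h]; exact hxE
      · refine ⟨s.RQ_le_R ha, ?_⟩
        rcases hsq a (s.RQ_le ha) with h | h
        · rw [h]; exact s.E.one_mem
        · rw [h]; exact hzE
    | one =>
      refine ⟨s.R.one_mem, ?_⟩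
      rw [one_mul]; exact s.E.one_mem
    | mul a b _ _ iha ihb =>
      refine ⟨s.R.mul_mem iha.1 ihb.1, ?_⟩
      have e : a * b * (a * b) = (a * a) * (a⁻¹ * b * a⁻¹⁻¹ * b⁻¹) * (b * b) := by group
      rw [e]
      exact s.E.mul_mem (s.E.mul_mem iha.2 (s.comm_mem_E (s.R.inv_mem iha.1) ihb.1)) ihb.2
    | inv a _ iha =>
      refine ⟨s.R.inv_mem iha.1, ?_⟩
      have e : a⁻¹ * a⁻¹ = (a * a)⁻¹ := by group
      rw [e]; exact s.E.inv_mem iha.2
  exact (key a ha).2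

/-- `[X, E] ≤ V`. -/
theorem XE_comm_mem_V [Finite G] (s : XS Q P z x g) {a e : G} (ha : a ∈ s.X) (he : e ∈ s.E) :
    a * e * a⁻¹ * e⁻¹ ∈ s.V := by
  have he' := Subgroup.mem_inf.mp he
  have hX : s.X = Subgroup.closure ((Q : Set G) ∪ (P : Set G)) := Subgroup.sup_eq_closure Q P
  rw [hX] at ha
  have hNV : ∀ a ∈ s.X, ∀ v ∈ s.V, a * v * a⁻¹ ∈ s.V := by
    intro a ha v hv
    exact (Subgroup.mem_normalizer_iff.mp (s.X_le_N ha) v).mp hv
  have key : ∀ a ∈ Subgroup.closure ((Q : Set G) ∪ (P : Set G)),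
      a ∈ s.X ∧ a * e * a⁻¹ * e⁻¹ ∈ s.V := by
    intro a ha
    induction ha using Subgroup.closure_induction with
    | mem a ha =>
      rcases ha with ha | ha
      · refine ⟨s.Q_le_X ha, ?_⟩
        rcases s.hQ.comm a ha e he'.1 with h | h
        · rw [h]; exact s.V.one_mem
        · rw [h]; exact s.mem_V.mpr (Or.inr (Or.inl rfl))
      · refine ⟨s.P_le_X ha, ?_⟩
        rcases s.hP.comm a ha e he'.2 with h | h
        · rw [h]; exact s.V.one_mem
        · rw [h]; exact s.mem_V.mpr (Or.inr (Or.inr (Or.inl rfl)))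
    | one =>
      refine ⟨s.X.one_mem, ?_⟩
      have : (1 : G) * e * 1⁻¹ * e⁻¹ = 1 := by group
      rw [this]; exact s.V.one_mem
    | mul a b _ _ iha ihb =>
      refine ⟨s.X.mul_mem iha.1 ihb.1, ?_⟩
      have e1 : a * b * e * (a * b)⁻¹ * e⁻¹
          = (a * (b * e * b⁻¹ * e⁻¹) * a⁻¹) * (a * e * a⁻¹ * e⁻¹) := by group
      rw [e1]
      exact s.V.mul_mem (hNV a iha.1 _ ihb.2) iha.2
    | inv a _ iha =>
      refine ⟨s.X.inv_mem iha.1, ?_⟩
      have e1 : a⁻¹ * e * a⁻¹⁻¹ * e⁻¹ = a⁻¹ * (a * e * a⁻¹ * e⁻¹)⁻¹ * a⁻¹⁻¹ := by group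
      rw [e1]
      exact hNV a⁻¹ (s.X.inv_mem iha.1) _ (s.V.inv_mem iha.2)
  exact (key a ha).2

/-- The centre of `R` is `V`. -/
theorem center_R (s : XS Q P z x g) {c : G} (hc : c ∈ s.R) :
    (∀ r ∈ s.R, c * r = r * c) ↔ c ∈ s.V := by
  constructor
  · intro h
    have := s.hQ.mem_four_of_centralizes' s.hxQ s.x_sq s.x_ne s.hxz (s.R_comm_z hc)
      (fun r hr hrx => h r (s.RQ_le_R (s.mem_RQ.mpr ⟨hr, hrx⟩)))
    exact s.mem_V.mpr this
  · intro hv r hr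
    have hrz := s.R_comm_z hr
    have hrx := s.R_comm_x hr
    rcases s.mem_V.mp hv with h | h | h | h
    · rw [h]; simp
    · rw [h]; exact hrz.symm
    · rw [h]; exact hrx.symm
    · rw [h]
      calc z * x * r = z * (x * r) := by group
        _ = z * (r * x) := by rw [hrx]
        _ = (z * r) * x := by group
        _ = (r * z) * x := by rw [hrz]
        _ = r * (z * x) := by group

end XS

end Cfsg.Agent.Helper3.LargeX
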