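import Mathlib
import Cfsg.Agent.Helper3.LargeXB

set_option autoImplicit false

namespace Cfsg.Agent.Helper3.LargeX

variable {G : Type*} [Group G] {Q : Subgroup G} {z : G}

/-- From `y u y⁻¹ = z u` we get `u y u⁻¹ = z y`. -/
theorem LX.conj_swap (h : LX Q z) {u y : G} (_hu : u ∈ Q) (_hy : y ∈ Q)
    (hyu : y * u * y⁻¹ = z * u) : u * y * u⁻¹ = z * y := by
  have e1 : y * u = z * u * y := by
    have : y * u = (y * u * y⁻¹) * y := by group
    rw [this, hyu]
  have e2 : u * y = z * (y * u) := by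
    rw [e1, ← mul_assoc, ← mul_assoc, h.z_sq, one_mul]
  have : u * y * u⁻¹ = (u * y) * u⁻¹ := rfl
  rw [this, e2]; group

/-- Every element of `Q` can be corrected by an element of `{1, y, u, y u}` to centralize `u` and `y`. -/
theorem LX.exists_correction (h : LX Q z) {u y : G} (hu : u ∈ Q) (hy : y ∈ Q)
    (hyu : y * u * y⁻¹ = z * u) {q : G} (hq : q ∈ Q) :
    ∃ a : G, (a = 1 ∨ a = y ∨ a = u ∨ a = y * u) ∧ a ∈ Q ∧
      (a⁻¹ * q) * u = u * (a⁻¹ * q) ∧ (a⁻¹ * q) * y = y * (a⁻¹ * q) := by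
  have huy := h.conj_swap hu hy hyu
  have hyu' := h.inv_conj hy hyu
  have huy' := h.inv_conj hu huy
  -- step 1
  have s1 : ∃ a : G, (a = 1 ∨ a = y) ∧ a ∈ Q ∧ (a⁻¹ * q) * u = u * (a⁻¹ * q) := by
    rcases h.comm_or hq hu with h1 | h1
    · exact ⟨1, Or.inl rfl, Q.one_mem, by simpa using h1⟩
    · refine ⟨y, Or.inr rfl, hy, ?_⟩
      have e : (y⁻¹ * q) * u * (y⁻¹ * q)⁻¹ = y⁻¹ * (q * u * q⁻¹) * y := by group
      rw [h1] at e
      have e3 : y⁻¹ * (z * u) * y = u := by
        have e2 : y⁻¹ * (z * u) * y = (y⁻¹ * z * y) * (y⁻¹ * u * y) := by group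
        rw [e2, h.conj_z' hy, hyu', ← mul_assoc, h.z_sq, one_mul]
      rw [e3] at e
      have : (y⁻¹ * q) * u = ((y⁻¹ * q) * u * (y⁻¹ * q)⁻¹) * (y⁻¹ * q) := by group
      rw [this, e]
  obtain ⟨a, ha, haQ, hau⟩ := s1
  have hq1 : a⁻¹ * q ∈ Q := Q.mul_mem (Q.inv_mem haQ) hq
  rcases h.comm_or hq1 hy with h1 | h1
  · refine ⟨a, ?_, haQ, hau, h1⟩
    rcases ha with ha | ha
    · left; exact ha
    · right; left; exact ha
  · -- correct by u
    refine ⟨a * u, ?_, Q.mul_mem haQ hu, ?_, ?_⟩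
    · rcases ha with ha | ha
      · right; right; left; rw [ha, one_mul]
      · right; right; right; rw [ha]
    · have e : (a * u)⁻¹ * q = u⁻¹ * (a⁻¹ * q) := by group
      rw [e]
      calc u⁻¹ * (a⁻¹ * q) * u = u⁻¹ * ((a⁻¹ * q) * u) := by group
        _ = u⁻¹ * (u * (a⁻¹ * q)) := by rw [hau]
        _ = u * (u⁻¹ * (a⁻¹ * q)) := by group
    · have e : (a * u)⁻¹ * q = u⁻¹ * (a⁻¹ * q) := by group
      rw [e]
      have e1 : (u⁻¹ * (a⁻¹ * q)) * y * (u⁻¹ * (a⁻¹ * q))⁻¹ = u⁻¹ * ((a⁻¹ * q) * y * (a⁻¹ * q)⁻¹) * u := by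
        group
      rw [h1] at e1
      have e3 : u⁻¹ * (z * y) * u = y := by
        have e2 : u⁻¹ * (z * y) * u = (u⁻¹ * z * u) * (u⁻¹ * y * u) := by group
        rw [e2, h.conj_z' hu, huy', ← mul_assoc, h.z_sq, one_mul]
      rw [e3] at e1
      have : (u⁻¹ * (a⁻¹ * q)) * y = ((u⁻¹ * (a⁻¹ * q)) * y * (u⁻¹ * (a⁻¹ * q))⁻¹) * (u⁻¹ * (a⁻¹ * q)) := by
        group
      rw [this, e1]

/-- In an `LX`-group of order more than 8, the centralizer of a non-commuting pair is non-abelian. -/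
theorem LX.exists_noncomm_pair [Finite G] (h : LX Q z) {u y : G} (hu : u ∈ Q) (hy : y ∈ Q)
    (hyu : y * u * y⁻¹ = z * u) (hcard : 8 < Nat.card Q) :
    ∃ c ∈ Q, ∃ c' ∈ Q, c * u = u * c ∧ c * y = y * c ∧ c' * u = u * c' ∧ c' * y = y * c' ∧
      c * c' * c⁻¹ * c'⁻¹ = z := by
  classical
  by_contra hcon
  push Not at hcon
  have hab : ∀ c ∈ Q, ∀ c' ∈ Q, c * u = u * c → c * y = y * c → c' * u = u * c' → c' * y = y * c' →
      c * c' = c' * c := by
    intro c hc c' hc' h1 h2 h3 h4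
    rcases h.comm c hc c' hc' with h5 | h5
    · have : c * c' = (c * c' * c⁻¹ * c'⁻¹) * c' * c := by group
      rw [this, h5]; group
    · exact absurd h5 (hcon c hc c' hc' h1 h2 h3 h4)
  -- every corrected element is central
  have hcen : ∀ q ∈ Q, q * u = u * q → q * y = y * q → q = 1 ∨ q = z := by
    intro q hq hqu hqy
    apply h.cent q hq
    intro r hr
    obtain ⟨a, ha, haQ, hau, hay⟩ := h.exists_correction hu hy hyu hr
    have hr1 : a⁻¹ * r ∈ Q := Q.mul_mem (Q.inv_mem haQ) hr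
    have h1 := hab q hq _ hr1 hqu hqy hau hay
    have hqa : q * a = a * q := by
      rcases ha with ha | ha | ha | ha
      · rw [ha]; simp
      · rw [ha]; exact hqy
      · rw [ha]; exact hqu
      · rw [ha, ← mul_assoc, hqy, mul_assoc, hqu, ← mul_assoc]
    calc q * r = q * (a * (a⁻¹ * r)) := by group
      _ = (q * a) * (a⁻¹ * r) := by group
      _ = (a * q) * (a⁻¹ * r) := by rw [hqa]
      _ = a * (q * (a⁻¹ * r)) := by group
      _ = a * ((a⁻¹ * r) * q) := by rw [h1]
      _ = r * q := by group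
  let S : Finset G := {1, y, u, y * u, z, y * z, u * z, y * u * z}
  have hsub : (Q : Set G) ⊆ (S : Set G) := by
    intro q hq
    obtain ⟨a, ha, haQ, hau, hay⟩ := h.exists_correction hu hy hyu hq
    have hq1 : a⁻¹ * q ∈ Q := Q.mul_mem (Q.inv_mem haQ) hq
    have hqe : q = a * (a⁻¹ * q) := by group
    have hS : q ∈ S := by
      rcases hcen _ hq1 hau hay with h1 | h1
      · rw [h1, mul_one] at hqe
        rcases ha with ha | ha | ha | ha <;> rw [ha] at hqe <;> rw [hqe] <;> simp [S]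
      · rw [h1] at hqe
        rcases ha with ha | ha | ha | ha <;> rw [ha] at hqe <;> rw [hqe] <;> simp [S]
    exact hS
  have h1 : Nat.card Q ≤ S.card := by
    have : Nat.card Q = (Q : Set G).ncard := by
      rw [← Nat.card_coe_set_eq]; rfl
    rw [this]
    calc (Q : Set G).ncard ≤ (S : Set G).ncard := Set.ncard_le_ncard hsub (Finset.finite_toSet S)
      _ = S.card := Set.ncard_coe_finset S
  have h2 : S.card ≤ 8 := by
    show (insert 1 (insert y (insert u (insert (y * u) (insert z (insert (y * z) (insert (u * z) {y * u * z})))))) : Finset G).card ≤ 8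
    refine (Finset.card_insert_le _ _).trans ?_
    refine Nat.succ_le_succ ((Finset.card_insert_le _ _).trans ?_)
    refine Nat.succ_le_succ ((Finset.card_insert_le _ _).trans ?_)
    refine Nat.succ_le_succ ((Finset.card_insert_le _ _).trans ?_)
    refine Nat.succ_le_succ ((Finset.card_insert_le _ _).trans ?_)
    refine Nat.succ_le_succ ((Finset.card_insert_le _ _).trans ?_)
    refine Nat.succ_le_succ ((Finset.card_insert_le _ _).trans ?_)
    simp
  omega

/-- In the centralizer of a non-commuting pair there is an element of square `z`. -/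
theorem LX.exists_sq_z [Finite G] (h : LX Q z) (hsq : ∀ a ∈ Q, a * a = 1 ∨ a * a = z)
    {u y : G} (hu : u ∈ Q) (hy : y ∈ Q)
    (hyu : y * u * y⁻¹ = z * u) (hcard : 8 < Nat.card Q) :
    ∃ c ∈ Q, c * u = u * c ∧ c * y = y * c ∧ c * c = z := by
  obtain ⟨c, hc, c', hc', h1, h2, h3, h4, h5⟩ := h.exists_noncomm_pair hu hy hyu hcard
  rcases hsq c hc with hcc | hcc
  · rcases hsq c' hc' with hcc' | hcc'
    · refine ⟨c * c', Q.mul_mem hc hc', ?_, ?_, ?_⟩
      · rw [mul_assoc, h3, ← mul_assoc, h1, mul_assoc]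
      · rw [mul_assoc, h4, ← mul_assoc, h2, mul_assoc]
      · have e1 : c⁻¹ = c := inv_eq_of_mul_eq_one_left hcc
        have e2 : c'⁻¹ = c' := inv_eq_of_mul_eq_one_left hcc'
        rw [e1, e2] at h5
        rw [← h5]; group
    · exact ⟨c', hc', h3, h4, hcc'⟩
  · exact ⟨c, hc, h1, h2, hcc⟩

/-- In an `LX`-group of order more than 8 every subgroup not containing `Q` misses an involution of `Q`. -/
theorem LX.exists_involution_not_mem [Finite G] (h : LX Q z) (hsq : ∀ a ∈ Q, a * a = 1 ∨ a * a = z)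
    (hcard : 8 < Nat.card Q) (K : Subgroup G) {x : G} (hx : x ∈ Q) (hxK : x ∉ K) :
    ∃ e ∈ Q, e * e = 1 ∧ e ∉ K := by
  rcases hsq x hx with h1 | h1
  · exact ⟨x, hx, h1, hxK⟩
  have hx1 : x ≠ 1 := by
    intro h2
    rw [h2, one_mul] at h1
    exact h.z_ne h1.symm
  have hxz : x ≠ z := by
    intro h2
    rw [h2, h.z_sq] at h1
    exact h.z_ne h1.symm
  obtain ⟨y, hy, hyx⟩ := h.exists_noncomm hx hx1 hxz
  have hzx : z * x = x * z := (h.z_comm x hx).symm
  have hxyxy : (x * y) * (x * y) = z * z * (y * y) := by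
    calc (x * y) * (x * y) = x * (y * x * y⁻¹) * (y * y) := by group
      _ = x * (z * x) * (y * y) := by rw [hyx]
      _ = (x * z) * x * (y * y) := by group
      _ = (z * x) * x * (y * y) := by rw [hzx]
      _ = z * (x * x) * (y * y) := by group
      _ = z * z * (y * y) := by rw [h1]
  rcases hsq y hy with h2 | h2
  · by_cases hyK : y ∈ K
    · refine ⟨x * y, Q.mul_mem hx hy, ?_, ?_⟩
      · rw [hxyxy, h2, h.z_sq, one_mul]
      · intro h3
        apply hxK
        have : x = (x * y) * y⁻¹ := by group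
        rw [this]
        exact K.mul_mem h3 (K.inv_mem hyK)
    · exact ⟨y, hy, h2, hyK⟩
  · obtain ⟨c, hc, hcx, hcy, hcc⟩ := h.exists_sq_z hsq hx hy hyx hcard
    have hyc : (y * c) * (y * c) = 1 := by
      calc (y * c) * (y * c) = y * (c * y) * c := by group
        _ = y * (y * c) * c := by rw [hcy]
        _ = (y * y) * (c * c) := by group
        _ = 1 := by rw [h2, hcc, h.z_sq]
    have hcxy : c * (x * y) = (x * y) * c := by
      rw [← mul_assoc, hcx, mul_assoc, hcy, ← mul_assoc]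
    have hxyc : (x * y * c) * (x * y * c) = 1 := by
      calc (x * y * c) * (x * y * c) = (x * y) * (c * (x * y)) * c := by group
        _ = (x * y) * ((x * y) * c) * c := by rw [hcxy]
        _ = ((x * y) * (x * y)) * (c * c) := by group
        _ = 1 := by rw [hxyxy, h2, hcc, h.z_sq, one_mul, h.z_sq]
    by_cases hycK : y * c ∈ K
    · refine ⟨x * y * c, Q.mul_mem (Q.mul_mem hx hy) hc, hxyc, ?_⟩
      intro h3
      apply hxK
      have : x = (x * y * c) * (y * c)⁻¹ := by group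
      rw [this]
      exact K.mul_mem h3 (K.inv_mem hycK)
    · exact ⟨y * c, Q.mul_mem hy hc, hyc, hycK⟩

/-- An involution of `Q` outside `K` together with a non-commuting pair in its centralizer. -/
theorem LX.exists_good_involution [Finite G] (h : LX Q z) (hsq : ∀ a ∈ Q, a * a = 1 ∨ a * a = z)
    (hcard : 8 < Nat.card Q) (K : Subgroup G) (hzK : z ∈ K) {x : G} (hx : x ∈ Q) (hxK : x ∉ K) :
    ∃ e ∈ Q, e * e = 1 ∧ e ∉ K ∧ ∃ a ∈ Q, ∃ b ∈ Q, a * e = e * a ∧ b * e = e * b ∧
      a * b * a⁻¹ * b⁻¹ = z := by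
  obtain ⟨e, he, hee, heK⟩ := h.exists_involution_not_mem hsq hcard K hx hxK
  have he1 : e ≠ 1 := by
    intro h1
    apply heK
    rw [h1]; exact K.one_mem
  have hez : e ≠ z := by
    intro h1
    apply heK
    rw [h1]; exact hzK
  obtain ⟨y, hy, hye⟩ := h.exists_noncomm he he1 hez
  obtain ⟨c, hc, c', hc', h1, -, h3, -, h5⟩ := h.exists_noncomm_pair he hy hye hcard
  exact ⟨e, he, hee, heK, c, hc, c', hc', h1, h3, h5⟩

end Cfsg.Agent.Helper3.LargeX
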