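import Mathlib
import Cfsg.Agent.Helper5.ExtremalTransfer

set_option autoImplicit false

namespace Cfsg.Agent.Helper3.LargeX

open MulAction Subgroup

/-- Transfer of an involution into `±1`: if the transfer kills an involution `e` of `H` with `ϕ e = -1`, then a 2-subgroup
`C ≤ H` centralizing `e` fixes a coset `gH ≠ H` on which `e` again takes the value `-1`. -/
theorem exists_fixed_coset_of_transfer {G : Type*} [Group G] [Finite G] (H : Subgroup G) (ϕ : ↥H →* ℤˣ)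
    (e : G) (he2 : e ^ 2 = 1) (heH : e ∈ H) (hϕe : ϕ ⟨e, heH⟩ = -1)
    (htr : MonoidHom.transfer ϕ e = 1)
    (C : Subgroup G) (hCp : IsPGroup 2 C) (hCH : C ≤ H) (hCe : ∀ c ∈ C, c * e = e * c) :
    ∃ g : G, g ∉ H ∧ (∃ hmem : g⁻¹ * e * g ∈ H, ϕ ⟨g⁻¹ * e * g, hmem⟩ = -1) ∧
      ∀ c ∈ C, g⁻¹ * c * g ∈ H := by
  classical
  have : Fact (Nat.Prime 2) := ⟨Nat.prime_two⟩
  have : Fintype (Quotient (orbitRel (zpowers e) (G ⧸ H))) := Fintype.ofFinite _
  have : Fintype (G ⧸ H) := Fintype.ofFinite _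
  let ψ : G → ℤˣ := fun x => if h : x ∈ H then ϕ ⟨x, h⟩ else 1
  have hψH : ∀ (x : G) (hx : x ∈ H), ψ x = ϕ ⟨x, hx⟩ := by
    intro x hx
    simp only [ψ, dif_pos hx]
  have hψnH : ∀ (x : G), x ∉ H → ψ x = 1 := by
    intro x hx
    simp only [ψ, dif_neg hx]
  have hψconj : ∀ (x s : G), s ∈ H → ψ (s⁻¹ * x * s) = ψ x := by
    intro x s hs
    by_cases hx : x ∈ H
    · have hx' : s⁻¹ * x * s ∈ H := H.mul_mem (H.mul_mem (H.inv_mem hs) hx) hs
      rw [hψH _ hx', hψH _ hx]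
      have : (⟨s⁻¹ * x * s, hx'⟩ : ↥H) = (⟨s, hs⟩ : ↥H)⁻¹ * ⟨x, hx⟩ * ⟨s, hs⟩ := by
        apply Subtype.ext; simp
      rw [this, map_mul, map_mul, map_inv]
      rw [mul_comm ((ϕ ⟨s, hs⟩)⁻¹), mul_assoc, inv_mul_cancel, mul_one]
    · have hx' : s⁻¹ * x * s ∉ H := by
        intro h
        apply hx
        have : x = s * (s⁻¹ * x * s) * s⁻¹ := by group
        rw [this]
        exact H.mul_mem (H.mul_mem hs h) (H.inv_mem hs)
      rw [hψnH _ hx', hψnH _ hx]
  let P : G → Prop := fun g => ψ (g⁻¹ * e * g) = 1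
  have hPmem : ∀ g : G, ¬ P g → g⁻¹ * e * g ∈ H := by
    intro g hg
    by_contra h
    exact hg (hψnH _ h)
  have hPinv : ∀ (g s : G), s ∈ H → (P (g * s) ↔ P g) := by
    intro g s hs
    have e1 : (g * s)⁻¹ * e * (g * s) = s⁻¹ * (g⁻¹ * e * g) * s := by group
    show ψ ((g * s)⁻¹ * e * (g * s)) = 1 ↔ ψ (g⁻¹ * e * g) = 1
    rw [e1, hψconj _ _ hs]
  have htr' := Cfsg.Agent.Helper5.transfer_involution_eq H ϕ e he2 (-1) P
    (fun g hmem hP => by
      have hP' : ψ (g⁻¹ * e * g) = 1 := hP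
      rw [← hψH _ hmem]; exact hP')
    (fun g hmem hP => by
      rcases Int.units_eq_one_or (ϕ ⟨g⁻¹ * e * g, hmem⟩) with h | h
      · exact absurd (show ψ (g⁻¹ * e * g) = 1 by rw [hψH _ hmem]; exact h) hP
      · exact h)
  rw [htr] at htr'
  set N := (Finset.univ.filter
      (fun q : Quotient (orbitRel (zpowers e) (G ⧸ H)) =>
        Function.minimalPeriod (e • ·) q.out = 1 ∧ ¬ P q.out.out)).card with hN
  have hNeven : Even N := by
    have h1 : (-1 : ℤˣ) ≠ 1 := by decide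
    exact (neg_one_pow_eq_one_iff_even h1).mp htr'.symm
  have hcard : (Finset.univ.filter (fun c : G ⧸ H =>
      ∃ g : G, (g : G ⧸ H) = c ∧ ¬ P g)).card = N := by
    symm
    apply Finset.card_bij (fun q _ => q.out)
    · intro q hq
      simp only [Finset.mem_filter, Finset.mem_univ, true_and] at hq ⊢
      exact ⟨q.out.out, QuotientGroup.out_eq' _, hq.2⟩
    · intro q _ q' _ h
      exact Quotient.out_injective h
    · intro c hc
      simp only [Finset.mem_filter, Finset.mem_univ, true_and] at hc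
      obtain ⟨g, rfl, hg⟩ := hc
      have hfix : e • ((g : G) : G ⧸ H) = ((g : G) : G ⧸ H) := by
        rw [MulAction.Quotient.smul_mk, QuotientGroup.eq]
        have h1 : g⁻¹ * e * g ∈ H := hPmem g hg
        have h2 := H.inv_mem h1
        have e' : (e • g)⁻¹ * g = (g⁻¹ * e * g)⁻¹ := by
          rw [smul_eq_mul]; group
        rw [e']; exact h2
      have hout := Cfsg.Agent.Helper5.out_mk_of_fixed H e _ hfix
      refine ⟨Quotient.mk'' ((g : G) : G ⧸ H), ?_, hout⟩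
      simp only [Finset.mem_filter, Finset.mem_univ, true_and]
      rw [hout]
      refine ⟨Function.minimalPeriod_eq_one_iff_isFixedPt.mpr hfix, ?_⟩
      set k := (((g : G) : G ⧸ H)).out with hk
      have hk1 : ((k : G) : G ⧸ H) = ((g : G) : G ⧸ H) :=
        QuotientGroup.out_eq' _
      have hk2 : g⁻¹ * k ∈ H := QuotientGroup.eq.mp hk1.symm
      have hk3 : k = g * (g⁻¹ * k) := by group
      rw [hk3]
      exact fun h => hg ((hPinv g _ hk2).mp h)
  let Xact : SubMulAction ↥C (G ⧸ H) :=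
    { carrier := {c | ∃ g : G, (g : G ⧸ H) = c ∧ ¬ P g}
      smul_mem' := by
        rintro ⟨r, hr⟩ c ⟨g, rfl, hg⟩
        refine ⟨r * g, rfl, ?_⟩
        have hre : r * e = e * r := hCe r hr
        show ¬ ψ ((r * g)⁻¹ * e * (r * g)) = 1
        have e' : (r * g)⁻¹ * e * (r * g) = g⁻¹ * e * g := by
          calc (r * g)⁻¹ * e * (r * g) = g⁻¹ * (r⁻¹ * (e * r)) * g := by group
            _ = g⁻¹ * (r⁻¹ * (r * e)) * g := by rw [hre]
            _ = g⁻¹ * e * g := by group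
        rw [e']; exact hg }
  have hXcard : Nat.card ↥Xact = N := by
    rw [← hcard, Nat.card_eq_fintype_card, ← Fintype.card_subtype]
    rfl
  have h1mem : (((1 : G) : G ⧸ H)) ∈ Xact := by
    refine ⟨1, rfl, ?_⟩
    show ¬ ψ ((1 : G)⁻¹ * e * 1) = 1
    have : (1 : G)⁻¹ * e * 1 = e := by group
    rw [this, hψH e heH, hϕe]
    decide
  have h1fix : (⟨((1 : G) : G ⧸ H), h1mem⟩ : ↥Xact) ∈ fixedPoints ↥C ↥Xact := by
    intro r
    apply Subtype.ext
    rw [SubMulAction.val_smul]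
    show (r : ↥C) • (((1 : G) : G ⧸ H)) = ((1 : G) : G ⧸ H)
    have : (r : ↥C) • (((1 : G) : G ⧸ H)) = (((r : G) * 1 : G) : G ⧸ H) := rfl
    rw [this, QuotientGroup.eq]
    have : ((r : G) * 1)⁻¹ * 1 = (r : G)⁻¹ := by group
    rw [this]
    exact H.inv_mem (hCH r.2)
  obtain ⟨b, hbfix, hb1⟩ := hCp.exists_fixed_point_of_prime_dvd_card_of_fixed_point
    (α := ↥Xact) (by rw [hXcard]; exact hNeven.two_dvd) h1fix
  obtain ⟨g, hgb, hPg⟩ := b.2
  have hgH : g ∉ H := by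
    intro hg
    apply hb1
    apply Subtype.ext
    show ((1 : G) : G ⧸ H) = (b : G ⧸ H)
    rw [← hgb, QuotientGroup.eq]
    simpa using hg
  have hRg : ∀ r ∈ C, g⁻¹ * r * g ∈ H := by
    intro r hr
    have h1 := congrArg Subtype.val (hbfix ⟨r, hr⟩)
    rw [SubMulAction.val_smul] at h1
    have h2 : r • ((g : G) : G ⧸ H) = ((g : G) : G ⧸ H) := by
      rw [hgb]; exact h1
    rw [MulAction.Quotient.smul_mk, QuotientGroup.eq] at h2
    have h3 := H.inv_mem h2
    have e' : ((r • g)⁻¹ * g)⁻¹ = g⁻¹ * r * g := by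
      rw [smul_eq_mul]; group
    rw [e'] at h3; exact h3
  refine ⟨g, hgH, ⟨hPmem g hPg, ?_⟩, hRg⟩
  rcases Int.units_eq_one_or (ϕ ⟨g⁻¹ * e * g, hPmem g hPg⟩) with h | h
  · exact absurd (show ψ (g⁻¹ * e * g) = 1 by rw [hψH _ (hPmem g hPg)]; exact h) hPg
  · exact h

end Cfsg.Agent.Helper3.LargeX
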