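import Mathlib
import Cfsg.Agent.Helper3.LargeXC

set_option autoImplicit false

namespace Cfsg.Agent.Helper3.LargeY

open Cfsg.Agent.Helper3.LargeX

variable {G : Type*} [Group G]

/-- Abstract data of a 2-subgroup `Q` of symplectic type and exponent 4 with central involution `z`. -/
structure LY (Q : Subgroup G) (z : G) : Prop where
  z_ne : z ≠ 1
  z_sq : z * z = 1
  z_mem : z ∈ Q
  z_comm : ∀ q ∈ Q, q * z = z * q
  comm : ∀ a ∈ Q, ∀ b ∈ Q, a * b * a⁻¹ * b⁻¹ = 1 ∨ a * b * a⁻¹ * b⁻¹ = z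
  cent : ∀ a ∈ Q, (∀ b ∈ Q, a * b = b * a) → a * a = 1 → a = 1 ∨ a = z
  selfC : Subgroup.centralizer (Q : Set G) ≤ Q
  norm : ∀ c : G, c * z = z * c → ∀ q ∈ Q, c * q * c⁻¹ ∈ Q
  pgrp : IsPGroup 2 Q

theorem LY.conj {Q : Subgroup G} {z : G} (h : LY Q z) (g : G) :
    LY (Q.map (MulAut.conj g).toMonoidHom) (g * z * g⁻¹) := by
  refine ⟨?_, ?_, ?_, ?_, ?_, ?_, ?_, ?_, ?_⟩
  · intro h1
    apply h.z_ne
    have : z = g⁻¹ * (g * z * g⁻¹) * g := by group
    rw [this, h1]; group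
  · have : g * z * g⁻¹ * (g * z * g⁻¹) = g * (z * z) * g⁻¹ := by group
    rw [this, h.z_sq]; group
  · exact conj_mem_conj Q g z h.z_mem
  · intro q hq
    rw [mem_conj_iff] at hq
    have h1 := h.z_comm _ hq
    have : q = g * (g⁻¹ * q * g) * g⁻¹ := by group
    rw [this]
    have e1 : g * (g⁻¹ * q * g) * g⁻¹ * (g * z * g⁻¹) = g * ((g⁻¹ * q * g) * z) * g⁻¹ := by group
    have e2 : g * z * g⁻¹ * (g * (g⁻¹ * q * g) * g⁻¹) = g * (z * (g⁻¹ * q * g)) * g⁻¹ := by group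
    rw [e1, e2, h1]
  · intro a ha b hb
    rw [mem_conj_iff] at ha hb
    have h1 := h.comm _ ha _ hb
    have e : a * b * a⁻¹ * b⁻¹ =
        g * ((g⁻¹ * a * g) * (g⁻¹ * b * g) * (g⁻¹ * a * g)⁻¹ * (g⁻¹ * b * g)⁻¹) * g⁻¹ := by group
    rcases h1 with h1 | h1
    · left; rw [e, h1]; group
    · right; rw [e, h1]
  · intro a ha hcomm haa
    rw [mem_conj_iff] at ha
    have h1 := h.cent _ ha (by
      intro b hb
      have hb' : g * b * g⁻¹ ∈ Q.map (MulAut.conj g).toMonoidHom := conj_mem_conj Q g b hb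
      have := hcomm _ hb'
      have e1 : g⁻¹ * a * g * b = g⁻¹ * (a * (g * b * g⁻¹)) * g := by group
      have e2 : b * (g⁻¹ * a * g) = g⁻¹ * ((g * b * g⁻¹) * a) * g := by group
      rw [e1, e2, this]) (by
      have e1 : g⁻¹ * a * g * (g⁻¹ * a * g) = g⁻¹ * (a * a) * g := by group
      rw [e1, haa]; group)
    rcases h1 with h1 | h1
    · left
      have : a = g * (g⁻¹ * a * g) * g⁻¹ := by group
      rw [this, h1]; group
    · right
      have : a = g * (g⁻¹ * a * g) * g⁻¹ := by group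
      rw [this, h1]
  · intro c hc
    rw [mem_conj_iff]
    apply h.selfC
    rw [Subgroup.mem_centralizer_iff] at hc ⊢
    intro q hq
    have hq' : g * q * g⁻¹ ∈ Q.map (MulAut.conj g).toMonoidHom := conj_mem_conj Q g q hq
    have := hc _ hq'
    have e1 : q * (g⁻¹ * c * g) = g⁻¹ * ((g * q * g⁻¹) * c) * g := by group
    have e2 : g⁻¹ * c * g * q = g⁻¹ * (c * (g * q * g⁻¹)) * g := by group
    rw [e1, e2, this]
  · intro c hc q hq
    rw [mem_conj_iff] at hq ⊢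
    have hc' : (g⁻¹ * c * g) * z = z * (g⁻¹ * c * g) := by
      have e1 : (g⁻¹ * c * g) * z = g⁻¹ * (c * (g * z * g⁻¹)) * g := by group
      have e2 : z * (g⁻¹ * c * g) = g⁻¹ * ((g * z * g⁻¹) * c) * g := by group
      rw [e1, e2, hc]
    have := h.norm _ hc' _ hq
    have e : g⁻¹ * (c * q * c⁻¹) * g = g⁻¹ * c * g * (g⁻¹ * q * g) * (g⁻¹ * c * g)⁻¹ := by group
    rw [e]; exact this
  · exact h.pgrp.map _

end Cfsg.Agent.Helper3.LargeY
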