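import Mathlib
import Cfsg.Agent.Helper3.LargeYB

set_option autoImplicit false

namespace Cfsg.Agent.Helper3.LargeY

open Cfsg.Agent.Helper3.LargeX

variable {G : Type*} [Group G]

/-- Orthogonality is symmetric. -/
theorem LY.main [Finite G] {Q : Subgroup G} {z : G} (h : LY Q z) (g : G)
    (hx : g * z * g⁻¹ ∈ Q) : z ∈ Q.map (MulAut.conj g).toMonoidHom := by
  have hP := h.conj g
  set x := g * z * g⁻¹ with hxdef
  set P := Q.map (MulAut.conj g).toMonoidHom with hPdef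
  by_cases hxz : x = z
  · rw [mem_conj_iff]
    have : g⁻¹ * z * g = g⁻¹ * x * g := by rw [hxz]
    rw [this, hxdef]
    have : g⁻¹ * (g * z * g⁻¹) * g = z := by group
    rw [this]; exact h.z_mem
  have hx1 : x ≠ 1 := hP.z_ne
  have hx2 : x * x = 1 := hP.z_sq
  have : Fact (Nat.Prime 2) := ⟨Nat.prime_two⟩
  have hzx : z * x = x * z := (h.z_comm x hx).symm
  -- subgroups
  set Cx := Subgroup.centralizer ({x} : Set G) with hCx
  set Cz := Subgroup.centralizer ({z} : Set G) with hCz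
  have memCx : ∀ a : G, a ∈ Cx ↔ a * x = x * a := fun a => Subgroup.mem_centralizer_singleton_iff
  have memCz : ∀ a : G, a ∈ Cz ↔ a * z = z * a := fun a => Subgroup.mem_centralizer_singleton_iff
  have hRC : Q ⊓ Cx ≤ Cx ⊓ Cz := by
    intro r hr
    rw [Subgroup.mem_inf] at hr ⊢
    exact ⟨hr.2, (memCz r).mpr (h.z_comm r hr.1)⟩
  obtain ⟨D, hRD, hDC, hDp, hDmax⟩ := exists_max_pgroup hRC (h.pgrp.to_le inf_le_left)
  obtain ⟨T, hDT, hTC, hTp, hTmax⟩ := exists_max_pgroup (le_trans hDC inf_le_left) hDp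
  -- P ≤ T
  have hPCx : P ≤ Cx := by
    intro q hq
    exact (memCx q).mpr (hP.z_comm q hq)
  have hPT : P ≤ T := by
    have hnorm : T ≤ Subgroup.normalizer (P : Set G) := by
      intro c hc
      have hcx : c * x = x * c := (memCx c).mp (hTC hc)
      rw [Subgroup.mem_normalizer_iff]
      intro q
      constructor
      · intro hq; exact hP.norm c hcx q hq
      · intro hq
        have hcx' : c⁻¹ * x = x * c⁻¹ := by
          calc c⁻¹ * x = c⁻¹ * (x * c) * c⁻¹ := by group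
            _ = c⁻¹ * (c * x) * c⁻¹ := by rw [hcx]
            _ = x * c⁻¹ := by group
        have := hP.norm c⁻¹ hcx' _ hq
        have e : c⁻¹ * (c * q * c⁻¹) * c⁻¹⁻¹ = q := by group
        rwa [e] at this
    have h1 : IsPGroup 2 (P ⊔ T : Subgroup G) := hP.pgrp.to_sup_of_normal_left' hTp hnorm
    have h2 := hTmax (P ⊔ T) le_sup_right (sup_le hPCx hTC) h1
    exact le_trans le_sup_left h2
  by_cases hDTeq : D = T
  · -- z centralizes P
    apply hP.selfC
    rw [Subgroup.mem_centralizer_iff]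
    intro q hq
    have h1 : q ∈ D := by rw [hDTeq]; exact hPT hq
    exact (memCz q).mp (Subgroup.mem_inf.mp (hDC h1)).2
  -- otherwise
  obtain ⟨t, htT, htD, htn⟩ := exists_normalizing hTp hDT hDTeq
  have htx : t * x = x * t := (memCx t).mp (hTC htT)
  have hTCz : T ⊓ Cz ≤ D := by
    apply hDmax
    · intro d hd
      exact Subgroup.mem_inf.mpr ⟨hDT hd, (Subgroup.mem_inf.mp (hDC hd)).2⟩
    · intro d hd
      rw [Subgroup.mem_inf] at hd
      exact Subgroup.mem_inf.mpr ⟨hTC hd.1, hd.2⟩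
    · exact hTp.to_le inf_le_left
  have htz : t * z ≠ z * t := by
    intro h1
    apply htD
    apply hTCz
    exact Subgroup.mem_inf.mpr ⟨htT, (memCz t).mpr h1⟩
  have hzD : z ∈ D := by
    apply hRD
    exact Subgroup.mem_inf.mpr ⟨h.z_mem, (memCx z).mpr hzx⟩
  have hz'D : t * z * t⁻¹ ∈ D := (htn z).mp hzD
  have hz'comm : ∀ d ∈ D, (t * z * t⁻¹) * d = d * (t * z * t⁻¹) := by
    intro d hd
    have h1 : t⁻¹ * d * t ∈ D := by
      rw [htn]
      have : t * (t⁻¹ * d * t) * t⁻¹ = d := by group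
      rw [this]; exact hd
    have h2 := (memCz _).mp (Subgroup.mem_inf.mp (hDC h1)).2
    calc (t * z * t⁻¹) * d = t * (z * (t⁻¹ * d * t)) * t⁻¹ := by group
      _ = t * ((t⁻¹ * d * t) * z) * t⁻¹ := by rw [h2]
      _ = d * (t * z * t⁻¹) := by group
  have hc2 : (t * z * t⁻¹) * (t * z * t⁻¹) = 1 := by
    have e : (t * z * t⁻¹) * (t * z * t⁻¹) = t * (z * z) * t⁻¹ := by group
    rw [e, h.z_sq]; group
  have h4 := h.mem_four_of_centralizes' hx hx2 hx1 hxz (hz'comm z hzD) hc2 (by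
    intro r hr hrx
    apply hz'comm
    apply hRD
    exact Subgroup.mem_inf.mpr ⟨hr, (memCx r).mpr hrx⟩)
  have htzt : t * z * t⁻¹ = z * x := by
    rcases h4 with h5 | h5 | h5 | h5
    · exfalso
      apply h.z_ne
      have : z = t⁻¹ * (t * z * t⁻¹) * t := by group
      rw [this, h5]; group
    · exfalso
      apply htz
      have : t * z = (t * z * t⁻¹) * t := by group
      rw [this, h5]
    · exfalso
      apply hxz
      have e1 : z = t⁻¹ * (t * z * t⁻¹) * t := by group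
      have e2 : t⁻¹ * x * t = x := by
        calc t⁻¹ * x * t = t⁻¹ * (x * t) := by group
          _ = t⁻¹ * (t * x) := by rw [htx]
          _ = x := by group
      rw [e1, h5, e2]
    · exact h5
  obtain ⟨q0, hq0, hq0x⟩ := h.exists_noncomm hx hx2 hx1 hxz
  have htxt : t * x * t⁻¹ = x := by rw [htx]; group
  have htzt' : t⁻¹ * z * t = z * x := by
    have e : t * (z * x) * t⁻¹ = z := by
      calc t * (z * x) * t⁻¹ = (t * z * t⁻¹) * (t * x * t⁻¹) := by group
        _ = z * x * x := by rw [htzt, htxt]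
        _ = z * (x * x) := by group
        _ = z := by rw [hx2]; group
    have : t⁻¹ * z * t = t⁻¹ * (t * (z * x) * t⁻¹) * t := by rw [e]
    rw [this]; group
  have htxt' : t⁻¹ * x * t = x := by
    calc t⁻¹ * x * t = t⁻¹ * (x * t) := by group
      _ = t⁻¹ * (t * x) := by rw [htx]
      _ = x := by group
  have hq0zx : q0 * (z * x) * q0⁻¹ = x := by
    calc q0 * (z * x) * q0⁻¹ = (q0 * z * q0⁻¹) * (q0 * x * q0⁻¹) := by group
      _ = z * (z * x) := by rw [h.conj_z hq0, hq0x]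
      _ = (z * z) * x := by group
      _ = x := by rw [h.z_sq]; group
  -- the swapping element
  have hhx : (t * q0 * t⁻¹) * x * (t * q0 * t⁻¹)⁻¹ = z := by
    calc (t * q0 * t⁻¹) * x * (t * q0 * t⁻¹)⁻¹ = t * (q0 * (t⁻¹ * x * t) * q0⁻¹) * t⁻¹ := by group
      _ = t * (z * x) * t⁻¹ := by rw [htxt', hq0x]
      _ = (t * z * t⁻¹) * (t * x * t⁻¹) := by group
      _ = z * x * x := by rw [htzt, htxt]
      _ = z * (x * x) := by group
      _ = z := by rw [hx2]; group
  have hhz : (t * q0 * t⁻¹) * z * (t * q0 * t⁻¹)⁻¹ = x := by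
    calc (t * q0 * t⁻¹) * z * (t * q0 * t⁻¹)⁻¹ = t * (q0 * (t⁻¹ * z * t) * q0⁻¹) * t⁻¹ := by group
      _ = t * x * t⁻¹ := by rw [htzt', hq0zx]
      _ = x := htxt
  rw [mem_conj_iff]
  have hcomm : (g⁻¹ * (t * q0 * t⁻¹)) * z = z * (g⁻¹ * (t * q0 * t⁻¹)) := by
    have e : (g⁻¹ * (t * q0 * t⁻¹)) * z * (g⁻¹ * (t * q0 * t⁻¹))⁻¹ = z := by
      calc (g⁻¹ * (t * q0 * t⁻¹)) * z * (g⁻¹ * (t * q0 * t⁻¹))⁻¹
          = g⁻¹ * ((t * q0 * t⁻¹) * z * (t * q0 * t⁻¹)⁻¹) * g := by group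
        _ = g⁻¹ * x * g := by rw [hhz]
        _ = z := by rw [hxdef]; group
    calc (g⁻¹ * (t * q0 * t⁻¹)) * z
        = ((g⁻¹ * (t * q0 * t⁻¹)) * z * (g⁻¹ * (t * q0 * t⁻¹))⁻¹) * (g⁻¹ * (t * q0 * t⁻¹)) := by
          group
      _ = z * (g⁻¹ * (t * q0 * t⁻¹)) := by rw [e]
  have := h.norm _ hcomm x hx
  have e : g⁻¹ * (t * q0 * t⁻¹) * x * (g⁻¹ * (t * q0 * t⁻¹))⁻¹
      = g⁻¹ * ((t * q0 * t⁻¹) * x * (t * q0 * t⁻¹)⁻¹) * g := by group
  rw [e, hhx] at this
  exact this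

end Cfsg.Agent.Helper3.LargeY
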