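import Mathlib
import Cfsg.Agent.Helper3.LargeYC

set_option autoImplicit false

namespace Cfsg.Agent.Helper3.LargeY

open Cfsg.Agent.Helper3.LargeX

variable {G : Type*} [Group G]

theorem four_closure {z x : G} (hz2 : z * z = 1) (hx2 : x * x = 1) (hzx : z * x = x * z) :
    ∀ u ∈ Subgroup.closure ({z, x} : Set G), u = 1 ∨ u = z ∨ u = x ∨ u = z * x := by
  have hzzw : ∀ w : G, z * (z * w) = w := fun w => by rw [← mul_assoc, hz2, one_mul]
  have hxxw : ∀ w : G, x * (x * w) = w := fun w => by rw [← mul_assoc, hx2, one_mul]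
  have hxz : x * z = z * x := hzx.symm
  have hxzw : ∀ w : G, x * (z * w) = z * (x * w) := fun w => by
    rw [← mul_assoc, hxz, mul_assoc]
  have hzi : z⁻¹ = z := inv_eq_of_mul_eq_one_left hz2
  have hxi : x⁻¹ = x := inv_eq_of_mul_eq_one_left hx2
  intro u hu
  induction hu using Subgroup.closure_induction with
  | mem y hy =>
    rcases hy with hy | hy
    · right; left; exact hy
    · rw [Set.mem_singleton_iff] at hy
      right; right; left; exact hy
  | one => left; rfl
  | mul a b _ _ ha hb =>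
    rcases ha with rfl | rfl | rfl | rfl <;> rcases hb with rfl | rfl | rfl | rfl <;>
      simp only [mul_assoc, one_mul, mul_one, hz2, hx2, hxz, hzzw, hxzw] <;> simp
  | inv a _ ha =>
    rcases ha with rfl | rfl | rfl | rfl
    · left; simp
    · right; left; exact hzi
    · right; right; left; exact hxi
    · right; right; right
      rw [mul_inv_rev, hzi, hxi, hxz]

theorem LY.sym3 [Finite G] {Q : Subgroup G} {z : G} (h : LY Q z) (g : G)
    (hx : g * z * g⁻¹ ∈ Q) (hne : g * z * g⁻¹ ≠ z) :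
    z ∈ Q.map (MulAut.conj g).toMonoidHom ∧
      ∀ u ∈ Subgroup.closure ({z, g * z * g⁻¹} : Set G),
        ∀ v ∈ Subgroup.closure ({z, g * z * g⁻¹} : Set G), u ≠ 1 → v ≠ 1 → u ≠ v →
          ∃ y ∈ Q ⊔ Q.map (MulAut.conj g).toMonoidHom,
            y * z * y⁻¹ = u ∧ y * (g * z * g⁻¹) * y⁻¹ = v := by
  have hP := h.conj g
  have hzP := h.main g hx
  refine ⟨hzP, ?_⟩
  set x := g * z * g⁻¹ with hxdef
  set P := Q.map (MulAut.conj g).toMonoidHom with hPdef
  have hx1 : x ≠ 1 := hP.z_ne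
  have hx2 : x * x = 1 := hP.z_sq
  have hz2 : z * z = 1 := h.z_sq
  have hzx : z * x = x * z := (h.z_comm x hx).symm
  obtain ⟨a, haQ, hax⟩ := h.exists_noncomm hx hx2 hx1 hne
  obtain ⟨b, hbP, hbz⟩ := hP.exists_noncomm hzP hz2 h.z_ne (Ne.symm hne)
  have A1 : a * z * a⁻¹ = z := h.conj_z haQ
  have A2 : a * x * a⁻¹ = z * x := hax
  have A3 : a * (z * x) * a⁻¹ = x := by
    have e : a * (z * x) * a⁻¹ = (a * z * a⁻¹) * (a * x * a⁻¹) := by group
    rw [e, A1, A2, ← mul_assoc, hz2, one_mul]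
  have B1 : b * x * b⁻¹ = x := hP.conj_z hbP
  have B2 : b * z * b⁻¹ = z * x := by rw [hbz, hzx]
  have B3 : b * (z * x) * b⁻¹ = z := by
    have e : b * (z * x) * b⁻¹ = (b * z * b⁻¹) * (b * x * b⁻¹) := by group
    rw [e, B1, B2, mul_assoc, hx2, mul_one]
  have haX : a ∈ Q ⊔ P := (le_sup_left : Q ≤ Q ⊔ P) haQ
  have hbX : b ∈ Q ⊔ P := (le_sup_right : P ≤ Q ⊔ P) hbP
  have hzzx : z * x ≠ z := by
    intro h1
    apply hx1
    have : x = z⁻¹ * (z * x) := by group
    rw [this, h1]; group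
  have hzxx : z * x ≠ x := by
    intro h1
    apply h.z_ne
    have : z = (z * x) * x⁻¹ := by group
    rw [this, h1]; group
  have hzx1 : z * x ≠ 1 := by
    intro h1
    apply hne
    have : x = z⁻¹ * (z * x) := by group
    rw [this, h1, mul_one]
    exact inv_eq_of_mul_eq_one_left hz2
  intro u hu v hv hu1 hv1 huv
  have hu4 := four_closure hz2 hx2 hzx u hu
  have hv4 := four_closure hz2 hx2 hzx v hv
  rcases hu4 with hu4 | hu4 | hu4 | hu4
  · exact absurd hu4 hu1
  · -- u = z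
    rcases hv4 with hv4 | hv4 | hv4 | hv4
    · exact absurd hv4 hv1
    · exact absurd (hu4.trans hv4.symm) huv
    · rw [hu4, hv4]
      exact ⟨1, Subgroup.one_mem _, by group, by group⟩
    · rw [hu4, hv4]
      exact ⟨a, haX, A1, A2⟩
  · -- u = x
    rcases hv4 with hv4 | hv4 | hv4 | hv4
    · exact absurd hv4 hv1
    · -- (x, z) : a * b * a
      rw [hu4, hv4]
      refine ⟨a * b * a, Subgroup.mul_mem _ (Subgroup.mul_mem _ haX hbX) haX, ?_, ?_⟩
      · have e : a * b * a * z * (a * b * a)⁻¹ = a * (b * (a * z * a⁻¹) * b⁻¹) * a⁻¹ := by group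
        rw [e, A1, B2, A3]
      · have e : a * b * a * x * (a * b * a)⁻¹ = a * (b * (a * x * a⁻¹) * b⁻¹) * a⁻¹ := by group
        rw [e, A2, B3, A1]
    · exact absurd (hu4.trans hv4.symm) huv
    · -- (x, z x) : a * b
      rw [hu4, hv4]
      refine ⟨a * b, Subgroup.mul_mem _ haX hbX, ?_, ?_⟩
      · have e : a * b * z * (a * b)⁻¹ = a * (b * z * b⁻¹) * a⁻¹ := by group
        rw [e, B2, A3]
      · have e : a * b * x * (a * b)⁻¹ = a * (b * x * b⁻¹) * a⁻¹ := by group
        rw [e, B1, A2]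
  · -- u = z x
    rcases hv4 with hv4 | hv4 | hv4 | hv4
    · exact absurd hv4 hv1
    · -- (z x, z) : b * a
      rw [hu4, hv4]
      refine ⟨b * a, Subgroup.mul_mem _ hbX haX, ?_, ?_⟩
      · have e : b * a * z * (b * a)⁻¹ = b * (a * z * a⁻¹) * b⁻¹ := by group
        rw [e, A1, B2]
      · have e : b * a * x * (b * a)⁻¹ = b * (a * x * a⁻¹) * b⁻¹ := by group
        rw [e, A2, B3]
    · rw [hu4, hv4]
      exact ⟨b, hbX, B2, B1⟩
    · exact absurd (hu4.trans hv4.symm) huv

end Cfsg.Agent.Helper3.LargeY
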