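import Mathlib
import Cfsg.Agent.Helper3.LargeYD
import Cfsg.Agent.Helper3.SympTC
import Cfsg.Agent.Helper2.Layer3
import Cfsg.Agent.Helper2.Layer

set_option autoImplicit false

namespace Cfsg.Agent.Helper3.LargeY

open Cfsg.Agent.Helper3.LargeX

variable {G : Type*} [Group G]

/-- The generalized Fitting subgroup of an involution centralizer, when of symplectic type and
exponent dividing `4`, satisfies the abstract hypotheses `LY`. -/
theorem ly_of_setting [Finite G] (z : G) (hz : orderOf z = 2)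
    (hQ : Cfsg.IsOfSymplecticType
      ↥(Cfsg.generalizedFittingSubgroup ↥(Subgroup.centralizer ({z} : Set G))))
    (h4 : ∀ q ∈ (Cfsg.generalizedFittingSubgroup ↥(Subgroup.centralizer ({z} : Set G))).map
      (Subgroup.centralizer ({z} : Set G)).subtype, q ^ 4 = 1) :
    LY ((Cfsg.generalizedFittingSubgroup ↥(Subgroup.centralizer ({z} : Set G))).map
      (Subgroup.centralizer ({z} : Set G)).subtype) z := by
  set H := Subgroup.centralizer ({z} : Set G) with hH
  set F := Cfsg.generalizedFittingSubgroup ↥H with hF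
  have hz1 : z ≠ 1 := by
    intro h1
    rw [h1, orderOf_one] at hz
    omega
  have hzsq : z * z = 1 := by
    have := pow_orderOf_eq_one z
    rw [hz, pow_two] at this
    exact this
  have memH : ∀ c : G, c ∈ H ↔ c * z = z * c := fun c => Subgroup.mem_centralizer_singleton_iff
  have hzH : z ∈ H := (memH z).mpr rfl
  have hselfC : Subgroup.centralizer (F : Set ↥H) ≤ F :=
    Cfsg.Agent.Helper2.centralizer_generalizedFittingSubgroup_le
  have hzF : (⟨z, hzH⟩ : ↥H) ∈ F := by
    apply hselfC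
    rw [Subgroup.mem_centralizer_iff]
    intro c _
    apply Subtype.ext
    exact (memH c).mp c.2
  have hFn : F.Normal := inferInstance
  have memQ : ∀ q : G, q ∈ F.map H.subtype ↔ ∃ f : ↥F, ((f : ↥H) : G) = q := by
    intro q
    constructor
    · rintro ⟨y, hy, rfl⟩
      exact ⟨⟨y, hy⟩, rfl⟩
    · rintro ⟨f, rfl⟩
      exact ⟨f.1, f.2, rfl⟩
  set zt : ↥F := ⟨⟨z, hzH⟩, hzF⟩ with hzt
  have hztord : orderOf zt = 2 := by
    rw [← hz, ← Subgroup.orderOf_coe, ← Subgroup.orderOf_coe]
  have hztc : zt ∈ Subgroup.center ↥F := by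
    rw [Subgroup.mem_center_iff]
    intro q
    apply Subtype.ext
    apply Subtype.ext
    exact (memH _).mp q.1.2
  have h4' : ∀ q : ↥F, q ^ 4 = 1 := by
    intro q
    apply Subtype.ext
    apply Subtype.ext
    have := h4 ((q : ↥H) : G) ((memQ _).mpr ⟨q, rfl⟩)
    simpa using this
  have hcommF := Cfsg.Agent.Helper3.SympT.comm_or_of_symplectic hQ h4' zt hztord hztc
  have hcenne : Subgroup.center ↥F ≠ ⊥ := by
    intro hbot
    rw [hbot, Subgroup.mem_bot] at hztc
    apply hz1
    have := congrArg (fun f : ↥F => ((f : ↥H) : G)) hztc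
    exact this
  have hcenF := (Cfsg.Agent.Lead.symplectic_char_abelian_involution hQ (Subgroup.center ↥F)
    inferInstance zt hztord hztc hcenne).2
  refine ⟨hz1, hzsq, (memQ z).mpr ⟨zt, rfl⟩, ?_, ?_, ?_, ?_, ?_, hQ.1.map _⟩
  · intro q hq
    obtain ⟨f, rfl⟩ := (memQ q).mp hq
    exact (memH _).mp f.1.2
  · intro a ha b hb
    obtain ⟨a', rfl⟩ := (memQ a).mp ha
    obtain ⟨b', rfl⟩ := (memQ b).mp hb
    rcases hcommF a' b' with h1 | h1
    · left
      have := congrArg (fun f : ↥F => ((f : ↥H) : G)) h1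
      simpa using this
    · right
      have := congrArg (fun f : ↥F => ((f : ↥H) : G)) h1
      simpa using this
  · intro a ha hac haa
    obtain ⟨a', rfl⟩ := (memQ a).mp ha
    have h1 : a' ∈ Subgroup.center ↥F := by
      rw [Subgroup.mem_center_iff]
      intro q
      apply Subtype.ext
      apply Subtype.ext
      exact (hac _ ((memQ _).mpr ⟨q, rfl⟩)).symm
    have h2 : a' ^ 2 = 1 := by
      apply Subtype.ext
      apply Subtype.ext
      rw [pow_two]
      simpa using haa
    rcases hcenF a' h1 h2 with h3 | h3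
    · left
      rw [h3]; rfl
    · right
      rw [h3]
  · intro c hc
    rw [Subgroup.mem_centralizer_iff] at hc
    have hcH : c ∈ H := (memH c).mpr (hc z ((memQ z).mpr ⟨zt, rfl⟩)).symm
    have h1 : (⟨c, hcH⟩ : ↥H) ∈ F := by
      apply hselfC
      rw [Subgroup.mem_centralizer_iff]
      intro f hf
      apply Subtype.ext
      exact hc _ ((memQ _).mpr ⟨⟨f, hf⟩, rfl⟩)
    exact (memQ c).mpr ⟨⟨⟨c, hcH⟩, h1⟩, rfl⟩
  · intro c hc q hq
    obtain ⟨f, rfl⟩ := (memQ q).mp hq
    have hcH : c ∈ H := (memH c).mpr hc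
    have h1 := hFn.conj_mem f.1 f.2 ⟨c, hcH⟩
    exact (memQ _).mpr ⟨⟨_, h1⟩, rfl⟩

end Cfsg.Agent.Helper3.LargeY
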