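import Mathlib
import Cfsg.Prelude.Def_MonsterType
import Cfsg.Agent.Helper3.ExtraCore
import Cfsg.Agent.Helper2.CyclicSylow2

/-!
Helper library (helper3): large extraspecial 2-subgroups, elementwise setup and basic lemmas.
-/

set_option autoImplicit false

namespace Cfsg.Agent.Helper3.Lxs

variable {G : Type*} [Group G]

/-- Elementwise consequences of `IsLargeExtraspecial Q` with `Z(Q) = ⟨z⟩`. -/
structure Setup (Q : Subgroup G) (z : G) : Prop where
  z_ne : z ≠ 1
  z_sq : z * z = 1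
  z_mem : z ∈ Q
  cent : ∀ g : G, (∀ q ∈ Q, g * q = q * g) → g = 1 ∨ g = z
  comm : ∀ a ∈ Q, ∀ b ∈ Q, a * b * a⁻¹ * b⁻¹ = 1 ∨ a * b * a⁻¹ * b⁻¹ = z
  sq : ∀ a ∈ Q, a * a = 1 ∨ a * a = z
  zc : ∀ q ∈ Q, q * z = z * q
  nrm : ∀ g : G, g * z = z * g → ∀ q ∈ Q, g * q * g⁻¹ ∈ Q
  odd : ∀ K : Subgroup G, Odd (Nat.card K) → (∀ q ∈ Q, ∀ k ∈ K, q * k * q⁻¹ ∈ K) → K = ⊥
  pgrp : IsPGroup 2 Q

theorem mem_zpowers_of_sq {z : G} (hz : z * z = 1) {x : G} (hx : x ∈ Subgroup.zpowers z) :
    x = 1 ∨ x = z := by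
  obtain ⟨k, rfl⟩ := Subgroup.mem_zpowers_iff.mp hx
  have h2 : z ^ (2 : ℤ) = 1 := by
    rw [zpow_ofNat, pow_two]; exact hz
  rcases Int.emod_two_eq_zero_or_one k with h | h
  · left
    have : k = 2 * (k / 2) := by omega
    rw [this, zpow_mul, h2, one_zpow]
  · right
    have : k = 2 * (k / 2) + 1 := by omega
    rw [this, zpow_add, zpow_mul, h2, one_zpow, one_mul, zpow_one]

theorem setup_of_large [Finite G] (Q : Subgroup G) (hQ : Cfsg.IsLargeExtraspecial Q) (z : G)
    (hz : ((Subgroup.center ↥Q).map Q.subtype) = Subgroup.zpowers z) : Setup Q z := by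
  obtain ⟨hES, hCQ, hNQ, hOdd⟩ := hQ
  have : Fact (Nat.Prime 2) := ⟨Nat.prime_two⟩
  have hIC := Cfsg.Agent.Helper3.Extra.inClass_of_isExtraspecial hES
  have hcard : Nat.card (Subgroup.zpowers z) = 2 := by
    rw [← hz, Subgroup.card_map_of_injective Q.subtype_injective]
    exact hIC.card_center
  have hord : orderOf z = 2 := by rw [← Nat.card_zpowers]; exact hcard
  have hzne : z ≠ 1 := by
    intro h; rw [h, orderOf_one] at hord; omega
  have hzsq : z * z = 1 := by
    rw [← pow_two, ← hord]; exact pow_orderOf_eq_one z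
  have hzmem' : z ∈ (Subgroup.center ↥Q).map Q.subtype := by
    rw [hz]; exact Subgroup.mem_zpowers z
  obtain ⟨zc, hzc, hzc'⟩ := hzmem'
  have hzQ : z ∈ Q := by rw [← hzc']; exact zc.2
  have hmemz : ∀ x : G, x ∈ (Subgroup.center ↥Q).map Q.subtype → x = 1 ∨ x = z := by
    intro x hx
    rw [hz] at hx
    exact mem_zpowers_of_sq hzsq hx
  have hzcomm : ∀ q ∈ Q, q * z = z * q := by
    intro q hq
    have h1 := Subgroup.mem_center_iff.mp hzc ⟨q, hq⟩
    have h2 := congrArg (fun t : ↥Q => (t : G)) h1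
    simp only [Subgroup.coe_mul] at h2
    rw [← hzc']
    exact h2
  refine ⟨hzne, hzsq, hzQ, ?_, ?_, ?_, hzcomm, ?_, ?_, hES.1.1⟩
  · intro g hg
    apply hmemz
    rw [← hCQ, Subgroup.mem_centralizer_iff]
    intro q hq
    exact (hg q hq).symm
  · intro a ha b hb
    apply hmemz
    have h1 := hIC.comm_mem ⟨a, ha⟩ ⟨b, hb⟩
    refine ⟨_, h1, ?_⟩
    simp [commutatorElement_def]
  · intro a ha
    apply hmemz
    have h1 := hIC.pow_mem ⟨a, ha⟩
    refine ⟨_, h1, ?_⟩
    simp [pow_two]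
  · intro g hg q hq
    have hgN : g ∈ Subgroup.normalizer (Q : Set G) := by
      apply hNQ
      rw [Subgroup.mem_centralizer_iff]
      intro x hx
      rcases hmemz x hx with rfl | rfl
      · simp
      · exact hg.symm
    exact (Subgroup.mem_normalizer_iff.mp hgN q).mp hq
  · intro K hK hinv
    apply hOdd K hK
    intro q hq
    rw [Subgroup.mem_normalizer_iff]
    intro k
    constructor
    · intro hk; exact hinv q hq k hk
    · intro hk
      have := hinv q⁻¹ (Q.inv_mem hq) _ hk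
      simpa [mul_assoc] using this

namespace Setup

variable {Q : Subgroup G} {z : G}

theorem z_inv (hS : Setup Q z) : z⁻¹ = z := by
  have := hS.z_sq
  exact inv_eq_of_mul_eq_one_left this

/-- A `Q`-invariant subgroup meeting `Q` nontrivially contains `z`. -/
theorem mem_of_invariant (hS : Setup Q z) (N : Subgroup G)
    (hN : ∀ q ∈ Q, ∀ n ∈ N, q * n * q⁻¹ ∈ N) {x : G} (hxN : x ∈ N) (hxQ : x ∈ Q) (hx1 : x ≠ 1) :
    z ∈ N := by
  by_cases hxz : x = z
  · rw [← hxz]; exact hxN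
  · have hnc : ¬ ∀ q ∈ Q, x * q = q * x := by
      intro h
      rcases hS.cent x h with h1 | h1
      · exact hx1 h1
      · exact hxz h1
    push Not at hnc
    obtain ⟨q, hq, hne⟩ := hnc
    rcases hS.comm q hq x hxQ with h | h
    · exfalso; apply hne
      have : q * x = x * q := by
        have h2 : q * x * q⁻¹ * x⁻¹ * (x * q) = x * q := by rw [h, one_mul]
        rw [← h2]; group
      exact this.symm
    · rw [← h]
      have h1 : q * x * q⁻¹ ∈ N := hN q hq x hxN
      have := N.mul_mem h1 (N.inv_mem hxN)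
      exact this

/-- A noncentral element of `Q` is conjugate in `Q` to its product with `z`. -/
theorem exists_conj_eq_mul (hS : Setup Q z) {p : G} (hpQ : p ∈ Q) (hp1 : p ≠ 1) (hpz : p ≠ z) :
    ∃ w ∈ Q, w * p * w⁻¹ = z * p := by
  have hnc : ¬ ∀ q ∈ Q, p * q = q * p := by
    intro h
    rcases hS.cent p h with h1 | h1
    · exact hp1 h1
    · exact hpz h1
  push Not at hnc
  obtain ⟨q, hq, hne⟩ := hnc
  refine ⟨q, hq, ?_⟩
  rcases hS.comm q hq p hpQ with h | h
  · exfalso; apply hne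
    have : q * p = p * q := by
      have h2 : q * p * q⁻¹ * p⁻¹ * (p * q) = p * q := by rw [h, one_mul]
      rw [← h2]; group
    exact this.symm
  · rw [← h]; group

end Setup

/-- An involutory automorphism (conjugation by `z` with `z² = 1`) without nontrivial fixed points on a
finite subgroup `L` forces `L` to be abelian. -/
theorem commute_of_fixedPointFree [Finite G] (L : Subgroup G) (z : G) (hz : z * z = 1)
    (hzL : ∀ x ∈ L, z * x * z⁻¹ ∈ L) (hfpf : ∀ x ∈ L, z * x = x * z → x = 1) :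
    ∀ a ∈ L, ∀ b ∈ L, a * b = b * a := by
  have hzinv : z⁻¹ = z := inv_eq_of_mul_eq_one_left hz
  -- the map x ↦ x⁻¹ * z x z⁻¹ is injective on L, hence surjective
  let f : ↥L → ↥L := fun x => ⟨(x : G)⁻¹ * (z * x * z⁻¹), L.mul_mem (L.inv_mem x.2) (hzL x x.2)⟩
  have hinj : Function.Injective f := by
    intro x y hxy
    have h1 : (x : G)⁻¹ * (z * x * z⁻¹) = (y : G)⁻¹ * (z * y * z⁻¹) :=
      congrArg (fun t : ↥L => (t : G)) hxy
    have h2 : z * ((y : G) * (x : G)⁻¹) = ((y : G) * (x : G)⁻¹) * z := by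
      have e1 : (y : G) * (x : G)⁻¹ = z * y * z⁻¹ * (z * x * z⁻¹)⁻¹ := by
        have : (y : G) * ((x : G)⁻¹ * (z * x * z⁻¹)) = z * y * z⁻¹ := by
          rw [h1]; group
        rw [← this]; group
      have e2 : z * y * z⁻¹ * (z * x * z⁻¹)⁻¹ = z * ((y : G) * (x : G)⁻¹) * z⁻¹ := by group
      rw [e2] at e1
      calc z * ((y : G) * (x : G)⁻¹) = z * ((y : G) * (x : G)⁻¹) * z⁻¹ * z := by group
        _ = ((y : G) * (x : G)⁻¹) * z := by rw [← e1]
    have h3 := hfpf _ (L.mul_mem y.2 (L.inv_mem x.2)) h2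
    apply Subtype.ext
    have : (y : G) = x := by
      have := mul_inv_eq_one.mp h3
      exact this
    exact this.symm
  have hsurj : Function.Surjective f := Finite.surjective_of_injective hinj
  -- z inverts every element of L
  have hinv : ∀ a ∈ L, z * a * z⁻¹ = a⁻¹ := by
    intro a ha
    obtain ⟨x, hx⟩ := hsurj ⟨a, ha⟩
    have hx' : (x : G)⁻¹ * (z * x * z⁻¹) = a := congrArg (fun t : ↥L => (t : G)) hx
    rw [← hx']
    have e1 : z * ((x : G)⁻¹ * (z * x * z⁻¹)) * z⁻¹ = z * (x : G)⁻¹ * z * x * (z * z)⁻¹ := by group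
    have e2 : ((x : G)⁻¹ * (z * x * z⁻¹))⁻¹ = z * (x : G)⁻¹ * z⁻¹ * x := by group
    rw [e1, e2, hz, inv_one, mul_one, hzinv]
  intro a ha b hb
  have h1 := hinv (a * b) (L.mul_mem ha hb)
  have h2 : z * (a * b) * z⁻¹ = (z * a * z⁻¹) * (z * b * z⁻¹) := by group
  rw [h2, hinv a ha, hinv b hb] at h1
  have h3 : a⁻¹ * b⁻¹ = (a * b)⁻¹ := h1
  have h4 : (a⁻¹ * b⁻¹)⁻¹ = a * b := by rw [h3, inv_inv]
  rw [← h4]; group

/-- A finite simple group (as a subgroup `L`) with an element `a ≠ 1` whose centralizer in `L` is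
`{1, a}` is commutative. -/
theorem commute_of_centralizer_card_two [Finite G] (L : Subgroup G) (hL : IsSimpleGroup ↥L)
    (a : G) (haL : a ∈ L) (ha1 : a ≠ 1)
    (hC : ∀ x ∈ L, x * a = a * x → x = 1 ∨ x = a) : ∀ x ∈ L, ∀ y ∈ L, x * y = y * x := by
  have : Fact (Nat.Prime 2) := ⟨Nat.prime_two⟩
  -- a² = 1
  have hasq : a * a = 1 := by
    rcases hC (a * a) (L.mul_mem haL haL) (by group) with h | h
    · exact h
    · exfalso; apply ha1
      have : a * a * a⁻¹ = a * a⁻¹ := by rw [h]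
      simpa using this
  let a' : ↥L := ⟨a, haL⟩
  have ha'1 : a' ≠ 1 := fun h => ha1 (congrArg (fun t : ↥L => (t : G)) h)
  have ha'sq : a' ^ 2 = 1 := by
    apply Subtype.ext
    rw [Subgroup.coe_pow, pow_two]; exact hasq
  have hord : orderOf a' = 2 := orderOf_eq_prime ha'sq ha'1
  have hzp : IsPGroup 2 (Subgroup.zpowers a') := by
    apply IsPGroup.of_card (n := 1)
    rw [Nat.card_zpowers, hord, pow_one]
  obtain ⟨T, hT⟩ := hzp.exists_le_sylow
  have haT : a' ∈ (T : Subgroup ↥L) := hT (Subgroup.mem_zpowers a')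
  have hTnt : Nontrivial (T : Subgroup ↥L) := by
    refine ⟨⟨⟨a', haT⟩, 1, ?_⟩⟩
    intro h
    exact ha'1 (congrArg (fun t : (T : Subgroup ↥L) => (t : ↥L)) h)
  have hcen := IsPGroup.center_nontrivial (T.isPGroup')
  obtain ⟨c, hc1⟩ := exists_ne (1 : Subgroup.center (T : Subgroup ↥L))
  -- c is central in T, c ≠ 1, so c = a'
  have hcT : ∀ t : (T : Subgroup ↥L), t * (c : (T : Subgroup ↥L)) = (c : (T : Subgroup ↥L)) * t := by
    intro t
    exact Subgroup.mem_center_iff.mp c.2 t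
  have hca : ((c : (T : Subgroup ↥L)) : ↥L) = a' := by
    have h1 := hcT ⟨a', haT⟩
    have h2 : (a' : ↥L) * ((c : (T : Subgroup ↥L)) : ↥L) = ((c : (T : Subgroup ↥L)) : ↥L) * a' :=
      congrArg (fun t : (T : Subgroup ↥L) => (t : ↥L)) h1
    have h3 : (a : G) * (((c : (T : Subgroup ↥L)) : ↥L) : G) =
        (((c : (T : Subgroup ↥L)) : ↥L) : G) * a :=
      congrArg (fun t : ↥L => (t : G)) h2
    rcases hC _ (((c : (T : Subgroup ↥L)) : ↥L)).2 h3.symm with h | h
    · exfalso; apply hc1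
      apply Subtype.ext; apply Subtype.ext; apply Subtype.ext
      exact h
    · apply Subtype.ext; exact h
  -- every element of T is 1 or a'
  have hTel : ∀ t ∈ (T : Subgroup ↥L), t = 1 ∨ t = a' := by
    intro t ht
    have h1 := hcT ⟨t, ht⟩
    have h2 : t * ((c : (T : Subgroup ↥L)) : ↥L) = ((c : (T : Subgroup ↥L)) : ↥L) * t :=
      congrArg (fun s : (T : Subgroup ↥L) => (s : ↥L)) h1
    rw [hca] at h2
    have h3 : (t : G) * a = a * (t : G) := congrArg (fun s : ↥L => (s : G)) h2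
    rcases hC _ t.2 h3 with h | h
    · left; apply Subtype.ext; exact h
    · right; apply Subtype.ext; exact h
  have hTcyc : IsCyclic (T : Subgroup ↥L) := by
    refine ⟨⟨⟨a', haT⟩, ?_⟩⟩
    intro t
    rcases hTel t t.2 with h | h
    · refine ⟨0, ?_⟩
      apply Subtype.ext
      simp [h]
    · refine ⟨1, ?_⟩
      apply Subtype.ext
      simp [h]
  have heven : Even (Nat.card ↥L) := by
    have := orderOf_dvd_natCard a'
    rw [hord] at this
    exact even_iff_two_dvd.mpr this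
  obtain ⟨H, hH⟩ := Cfsg.Agent.Helper2.exists_index_two_of_cyclic_sylow_two heven T hTcyc
  have hHn : H.Normal := Subgroup.normal_of_index_eq_two hH
  have hHbot : H = ⊥ := by
    rcases hHn.eq_bot_or_eq_top with h | h
    · exact h
    · exfalso; rw [h, Subgroup.index_top] at hH; omega
  have hcardL : Nat.card ↥L = 2 := by
    rw [← Subgroup.index_bot, ← hHbot]; exact hH
  have hcyc : IsCyclic ↥L := isCyclic_of_prime_card hcardL
  intro x hx y hy
  have hmc : IsMulCommutative ↥L := IsCyclic.isMulCommutative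
  have h1 : (⟨x, hx⟩ : ↥L) * ⟨y, hy⟩ = ⟨y, hy⟩ * ⟨x, hx⟩ := hmc.is_comm.comm _ _
  exact congrArg (fun s : ↥L => (s : G)) h1

end Cfsg.Agent.Helper3.Lxs
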