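import Mathlib
import Cfsg.Prelude.Def_MonsterType
import Cfsg.Prelude.Def_Local
import Cfsg.Agent.Helper3.LxsA
import Cfsg.Agent.Helper2.Layer4
import Cfsg.Agent.Helper5.CompComm

/-!
Helper library (helper3): large extraspecial 2-subgroups, the case `O₂(G) ≠ 1`, and generalities on
commuting subgroups.
-/

set_option autoImplicit false

namespace Cfsg.Agent.Helper3.Lxs

open Cfsg.Agent.Helper1 Cfsg.Agent.Helper2

variable {G : Type*} [Group G]

/-- Elements of the join of two elementwise commuting subgroups are products. -/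
theorem mem_sup_of_commute (A B : Subgroup G) (hc : ∀ a ∈ A, ∀ b ∈ B, a * b = b * a) {x : G}
    (hx : x ∈ A ⊔ B) : ∃ a ∈ A, ∃ b ∈ B, x = a * b := by
  rw [Subgroup.sup_eq_closure] at hx
  induction hx using Subgroup.closure_induction with
  | mem x hx =>
    rcases hx with h | h
    · exact ⟨x, h, 1, B.one_mem, by simp⟩
    · exact ⟨1, A.one_mem, x, h, by simp⟩
  | one => exact ⟨1, A.one_mem, 1, B.one_mem, by simp⟩
  | mul x y _ _ hx hy =>
    obtain ⟨a, ha, b, hb, rfl⟩ := hx
    obtain ⟨a', ha', b', hb', rfl⟩ := hy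
    refine ⟨a * a', A.mul_mem ha ha', b * b', B.mul_mem hb hb', ?_⟩
    have := hc a' ha' b hb
    calc a * b * (a' * b') = a * (b * a') * b' := by group
      _ = a * (a' * b) * b' := by rw [this]
      _ = a * a' * (b * b') := by group
  | inv x _ hx =>
    obtain ⟨a, ha, b, hb, rfl⟩ := hx
    refine ⟨a⁻¹, A.inv_mem ha, b⁻¹, B.inv_mem hb, ?_⟩
    have := hc a ha b hb
    calc (a * b)⁻¹ = (b * a)⁻¹ := by rw [this]
      _ = a⁻¹ * b⁻¹ := by group

/-- Uniqueness of the decomposition in a product of two subgroups with trivial intersection. -/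
theorem decomp_unique (A B : Subgroup G) (hinf : A ⊓ B = ⊥) {a₁ a₂ b₁ b₂ : G}
    (ha₁ : a₁ ∈ A) (ha₂ : a₂ ∈ A) (hb₁ : b₁ ∈ B) (hb₂ : b₂ ∈ B) (h : a₁ * b₁ = a₂ * b₂) :
    a₁ = a₂ ∧ b₁ = b₂ := by
  have h1 : a₂⁻¹ * a₁ = b₂ * b₁⁻¹ := by
    have : a₂⁻¹ * (a₁ * b₁) * b₁⁻¹ = a₂⁻¹ * (a₂ * b₂) * b₁⁻¹ := by rw [h]
    calc a₂⁻¹ * a₁ = a₂⁻¹ * (a₁ * b₁) * b₁⁻¹ := by group
      _ = a₂⁻¹ * (a₂ * b₂) * b₁⁻¹ := this
      _ = b₂ * b₁⁻¹ := by group
  have h2 : a₂⁻¹ * a₁ ∈ A ⊓ B := by
    refine ⟨A.mul_mem (A.inv_mem ha₂) ha₁, ?_⟩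
    rw [h1]; exact B.mul_mem hb₂ (B.inv_mem hb₁)
  rw [hinf, Subgroup.mem_bot] at h2
  have h3 : a₁ = a₂ := by
    have := inv_mul_eq_one.mp h2
    exact this.symm
  refine ⟨h3, ?_⟩
  rw [h3] at h
  exact mul_left_cancel h

/-- a nontrivial normal subgroup of a finite `p`-group meets the centre nontrivially -/
theorem normal_meets_center {P : Type*} [Group P] [Finite P] {p : ℕ} [hp : Fact p.Prime]
    (hP : IsPGroup p P) (M : Subgroup P) [hM : M.Normal] (hMne : M ≠ ⊥) :
    ∃ b ∈ M, b ≠ 1 ∧ ∀ g : P, g * b = b * g := by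
  have hP' : IsPGroup p (ConjAct P) := hP
  have hcard : p ∣ Nat.card M := by
    obtain ⟨k, hk⟩ := (hP.to_subgroup M).exists_card_eq
    have hk0 : k ≠ 0 := by
      rintro rfl
      rw [pow_zero] at hk
      exact hMne (Subgroup.card_eq_one.1 hk)
    rw [hk]
    exact dvd_pow_self p hk0
  have h1 : (1 : M) ∈ MulAction.fixedPoints (ConjAct P) M := by
    intro g
    exact smul_one g
  obtain ⟨b, hb, hne⟩ := hP'.exists_fixed_point_of_prime_dvd_card_of_fixed_point M hcard h1
  refine ⟨(b : P), b.2, ?_, ?_⟩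
  · intro h
    apply hne
    exact (Subtype.ext h).symm
  · intro g
    have h2 := hb (ConjAct.toConjAct g)
    have h3 := congrArg Subtype.val h2
    rw [ConjAct.Subgroup.val_conj_smul, ConjAct.smul_def, ConjAct.ofConjAct_toConjAct] at h3
    calc g * b = g * b * g⁻¹ * g := by group
      _ = b * g := by rw [h3]

variable {Q : Subgroup G} {z : G}

/-- Normal subgroups of odd order are trivial. -/
theorem Setup.normal_odd_eq_bot (hS : Setup Q z) (N : Subgroup G) [hN : N.Normal]
    (hodd : Odd (Nat.card N)) : N = ⊥ :=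
  hS.odd N hodd (fun q _ n hn => hN.conj_mem n hn q)

/-- `O_p(G) = 1` for odd `p`. -/
theorem Setup.pCore_odd_eq_bot [Finite G] (hS : Setup Q z) (p : ℕ) [hp : Fact p.Prime] (hp2 : p ≠ 2) :
    Cfsg.pCore p G = ⊥ := by
  apply hS.normal_odd_eq_bot
  obtain ⟨k, hk⟩ := (pCore_isPGroup (G := G) p).exists_card_eq
  rw [hk]
  apply Odd.pow
  exact hp.out.odd_of_ne_two hp2

/-- `F(G) = O₂(G)`. -/
theorem Setup.fitting_eq [Finite G] (hS : Setup Q z) : Cfsg.fittingSubgroup G = Cfsg.pCore 2 G := by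
  rw [fittingSubgroup_eq_fitJoin]
  apply le_antisymm
  · apply iSup_le
    intro p
    have : Fact (p : ℕ).Prime := ⟨p.2⟩
    by_cases hp2 : (p : ℕ) = 2
    · rw [hp2]
    · rw [hS.pCore_odd_eq_bot (p : ℕ) hp2]; exact bot_le
  · exact le_iSup (fun q : Nat.Primes => Cfsg.pCore (q : ℕ) G) ⟨2, Nat.prime_two⟩

theorem Setup.isSolvable (hS : Setup Q z) [Finite G] : Group.IsSolvable ↥Q := by
  have : Fact (Nat.Prime 2) := ⟨Nat.prime_two⟩
  have := hS.pgrp.isNilpotent
  infer_instance

/-- A component of `G` does not centralize `z`. -/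
theorem Setup.component_not_centralize [Finite G] (hS : Setup Q z) {K : Subgroup G}
    (hK : Cfsg.IsComponent K) : ¬ ∀ k ∈ K, k * z = z * k := by
  intro hKz
  have hKN : K ≤ Subgroup.normalizer (Q : Set G) := by
    intro k hk
    rw [Subgroup.mem_normalizer_iff]
    intro q
    constructor
    · intro hq; exact hS.nrm k (hKz k hk) q hq
    · intro hq
      have hk' : k⁻¹ * z = z * k⁻¹ := by
        have := hKz k hk
        calc k⁻¹ * z = k⁻¹ * (z * k) * k⁻¹ := by group
          _ = k⁻¹ * (k * z) * k⁻¹ := by rw [this]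
          _ = z * k⁻¹ := by group
      have := hS.nrm k⁻¹ hk' _ hq
      simpa [mul_assoc] using this
  have h1 := component_commutator_solvable_eq_bot K Q hK hS.isSolvable hKN
  rw [Subgroup.commutator_eq_bot_iff_le_centralizer] at h1
  have h2 : ∀ k ∈ K, k = 1 ∨ k = z := by
    intro k hk
    apply hS.cent
    intro q hq
    have := Subgroup.mem_centralizer_iff.mp (h1 hk) q hq
    exact this.symm
  apply component_not_commutative hK
  intro a ha b hb
  rcases h2 a ha with rfl | rfl <;> rcases h2 b hb with rfl | rfl <;> simp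

/-- The case `O₂(G) ≠ 1`. -/
theorem Setup.case_pCore_ne_bot [Finite G] (hS : Setup Q z) (hO : Cfsg.pCore 2 G ≠ ⊥)
    (M : Subgroup G) (hM : M = Subgroup.normalClosure ({z} : Set G)) :
    IsMulCommutative ↥M ∧ Cfsg.generalizedFittingSubgroup G = Cfsg.pCore 2 G := by
  have : Fact (Nat.Prime 2) := ⟨Nat.prime_two⟩
  obtain ⟨R, hR⟩ : ∃ R : Subgroup G, R = Cfsg.pCore 2 G := ⟨_, rfl⟩
  have hRn : R.Normal := by rw [hR]; infer_instance
  have hRp : IsPGroup 2 R := by rw [hR]; exact pCore_isPGroup 2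
  have hRne : R ≠ ⊥ := by rw [hR]; exact hO
  -- z ∈ R and z centralizes R
  have hQR : IsPGroup 2 (Q ⊔ R : Subgroup G) := IsPGroup.to_sup_of_normal_right hS.pgrp hRp
  have hnorm : (R.subgroupOf (Q ⊔ R)).Normal := hRn.subgroupOf _
  have hne : R.subgroupOf (Q ⊔ R) ≠ ⊥ := by
    intro h
    apply hRne
    rw [Subgroup.subgroupOf_eq_bot] at h
    rw [disjoint_iff, inf_of_le_left le_sup_right] at h
    exact h
  obtain ⟨b, hbR, hb1, hbc⟩ := normal_meets_center hQR (R.subgroupOf (Q ⊔ R)) hne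
  have hbz : (b : G) = z := by
    have hcen : ∀ q ∈ Q, (b : G) * q = q * (b : G) := by
      intro q hq
      have := hbc ⟨q, (le_sup_left : Q ≤ Q ⊔ R) hq⟩
      have h2 := congrArg (fun t : ↥(Q ⊔ R) => (t : G)) this
      exact h2.symm
    rcases hS.cent _ hcen with h | h
    · exfalso; apply hb1; exact Subtype.ext h
    · exact h
  have hzR : z ∈ R := by
    rw [← hbz]; exact Subgroup.mem_subgroupOf.mp hbR
  have hzc : ∀ r ∈ R, r * z = z * r := by
    intro r hr
    have := hbc ⟨r, (le_sup_right : R ≤ Q ⊔ R) hr⟩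
    have h2 := congrArg (fun t : ↥(Q ⊔ R) => (t : G)) this
    rw [← hbz]; exact h2
  -- Z(R) as a normal subgroup of G
  have hcn : (Subgroup.centralizer (R : Set G)).Normal := Subgroup.normal_centralizer
  obtain ⟨ZR, hZR⟩ : ∃ ZR : Subgroup G, ZR = R ⊓ Subgroup.centralizer (R : Set G) := ⟨_, rfl⟩
  have hZRn : ZR.Normal := by rw [hZR]; infer_instance
  have hzZR : z ∈ ZR := by
    rw [hZR]
    refine Subgroup.mem_inf.mpr ⟨hzR, ?_⟩
    rw [Subgroup.mem_centralizer_iff]
    intro r hr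
    exact hzc r hr
  have hMZR : M ≤ ZR := by
    rw [hM]
    apply Subgroup.normalClosure_le_normal
    intro x hx
    rw [Set.mem_singleton_iff] at hx
    rw [hx]; exact hzZR
  refine ⟨⟨⟨fun a b => ?_⟩⟩, ?_⟩
  · apply Subtype.ext
    have ha := hMZR a.2
    have hb := hMZR b.2
    rw [hZR] at ha hb
    have := Subgroup.mem_centralizer_iff.mp hb.2 _ ha.1
    exact this
  · -- F*(G) = O₂(G)
    have hlayer : Cfsg.layer G = ⊥ := by
      rw [eq_bot_iff]
      apply sSup_le
      intro K hK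
      exfalso
      apply hS.component_not_centralize hK
      have hRsolv : Group.IsSolvable ↥R := by
        have := hRp.isNilpotent
        infer_instance
      have h1 := component_commutator_solvable_eq_bot K R hK hRsolv
        (by rw [Subgroup.normalizer_eq_top]; exact le_top)
      rw [Subgroup.commutator_eq_bot_iff_le_centralizer] at h1
      intro k hk
      have := Subgroup.mem_centralizer_iff.mp (h1 hk) z hzR
      exact this.symm
    unfold Cfsg.generalizedFittingSubgroup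
    rw [hlayer, bot_sup_eq, hS.fitting_eq]

end Cfsg.Agent.Helper3.Lxs
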