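import Mathlib
import Cfsg.Prelude.Def_MonsterType
import Cfsg.Prelude.Def_Local
import Cfsg.Agent.Helper3.LxsB

/-!
Helper library (helper3): large extraspecial 2-subgroups, the case `O₂(G) = 1`: generalities on the
components.
-/

set_option autoImplicit false

namespace Cfsg.Agent.Helper3.Lxs

open Cfsg.Agent.Helper1 Cfsg.Agent.Helper2 Cfsg.Agent.Helper5

variable {G : Type*} [Group G] {Q : Subgroup G} {z : G}

/-- A `Q`-invariant noncommutative subgroup contains `z`. -/
theorem Setup.mem_of_invariant_noncomm [Finite G] (hS : Setup Q z) (N : Subgroup G)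
    (hinv : ∀ q ∈ Q, ∀ n ∈ N, q * n * q⁻¹ ∈ N) (hnc : ¬ ∀ a ∈ N, ∀ b ∈ N, a * b = b * a) :
    z ∈ N := by
  by_contra hzN
  have hNQ : ∀ x ∈ N, x ∈ Q → x = 1 := by
    intro x hxN hxQ
    by_contra hx1
    exact hzN (hS.mem_of_invariant N hinv hxN hxQ hx1)
  have hfix : ∀ x ∈ N, z * x = x * z → x = 1 := by
    intro x hxN hxz
    have hcen : ∀ q ∈ Q, x * q = q * x := by
      intro q hq
      have h1 : x * q * x⁻¹ ∈ Q := hS.nrm x hxz.symm q hq
      have h2 : x * q * x⁻¹ * q⁻¹ ∈ Q := Q.mul_mem h1 (Q.inv_mem hq)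
      have h3 : x * q * x⁻¹ * q⁻¹ ∈ N := by
        have : x * q * x⁻¹ * q⁻¹ = x * (q * x⁻¹ * q⁻¹) := by group
        rw [this]; exact N.mul_mem hxN (hinv q hq _ (N.inv_mem hxN))
      have h4 := hNQ _ h3 h2
      calc x * q = x * q * x⁻¹ * q⁻¹ * (q * x) := by group
        _ = q * x := by rw [h4, one_mul]
    rcases hS.cent x hcen with h | h
    · exact h
    · exfalso; apply hzN; rw [← h]; exact hxN
  have hzN' : ∀ x ∈ N, z * x * z⁻¹ ∈ N := hinv z hS.z_mem
  exact hnc (commute_of_fixedPointFree N z hS.z_sq hzN' hfix)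

section ctx

variable [Finite G]

theorem Setup.fitting_eq_bot (hS : Setup Q z) (hO : Cfsg.pCore 2 G = ⊥) :
    Cfsg.fittingSubgroup G = ⊥ := by
  rw [hS.fitting_eq, hO]

theorem Setup.genFit_eq_layer (hS : Setup Q z) (hO : Cfsg.pCore 2 G = ⊥) :
    Cfsg.generalizedFittingSubgroup G = Cfsg.layer G := by
  unfold Cfsg.generalizedFittingSubgroup
  rw [hS.fitting_eq_bot hO, sup_bot_eq]

theorem Setup.centralizer_layer_le (hS : Setup Q z) (hO : Cfsg.pCore 2 G = ⊥) :
    Subgroup.centralizer (Cfsg.layer G : Set G) ≤ Cfsg.layer G := by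
  have := centralizer_generalizedFittingSubgroup_le (G := G)
  rw [hS.genFit_eq_layer hO] at this
  exact this

theorem Setup.center_layer (hS : Setup Q z) (hO : Cfsg.pCore 2 G = ⊥) (c : G)
    (hc : c ∈ Cfsg.layer G) (hcc : ∀ e ∈ Cfsg.layer G, c * e = e * c) : c = 1 := by
  have h := center_layer_eq (G := G)
  rw [hS.fitting_eq_bot hO, bot_inf_eq] at h
  have h1 : c ∈ (Subgroup.center ↥(Cfsg.layer G)).map (Cfsg.layer G).subtype := by
    refine ⟨⟨c, hc⟩, ?_, rfl⟩
    rw [SetLike.mem_coe, Subgroup.mem_center_iff]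
    intro g
    apply Subtype.ext
    exact (hcc g g.2).symm
  rw [h, Subgroup.mem_bot] at h1
  exact h1

theorem comp_comm {K K' : Subgroup G} (hK : Cfsg.IsComponent K) (hK' : Cfsg.IsComponent K')
    (hne : K ≠ K') : ∀ x ∈ K, ∀ y ∈ K', x * y = y * x := by
  have h := components_commute hK hK' hne
  rw [Subgroup.commutator_eq_bot_iff_le_centralizer] at h
  intro x hx y hy
  exact (Subgroup.mem_centralizer_iff.mp (h hx) y hy).symm

theorem Setup.comp_center (hS : Setup Q z) (hO : Cfsg.pCore 2 G = ⊥) {K : Subgroup G}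
    (hK : Cfsg.IsComponent K) (c : G) (hc : c ∈ K) (hcc : ∀ k ∈ K, c * k = k * c) : c = 1 := by
  apply hS.center_layer hO c (component_le_layer hK hc)
  have hle : Cfsg.layer G ≤ Subgroup.centralizer ({c} : Set G) := by
    apply sSup_le
    intro K' hK' x hx
    rw [Subgroup.mem_centralizer_singleton_iff]
    by_cases h : K' = K
    · rw [h] at hx; exact (hcc x hx).symm
    · exact comp_comm hK' hK h x hx c hc
  intro e he
  have := Subgroup.mem_centralizer_singleton_iff.mp (hle he)
  exact this.symm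

theorem Setup.comp_inf_centralizer (hS : Setup Q z) (hO : Cfsg.pCore 2 G = ⊥) {K : Subgroup G}
    (hK : Cfsg.IsComponent K) : K ⊓ Subgroup.centralizer (K : Set G) = ⊥ := by
  rw [eq_bot_iff]
  intro c hc
  rw [Subgroup.mem_bot]
  obtain ⟨hcK, hcC⟩ := Subgroup.mem_inf.mp hc
  apply hS.comp_center hO hK c hcK
  intro k hk
  exact (Subgroup.mem_centralizer_iff.mp hcC k hk).symm

theorem Setup.comp_simple (hS : Setup Q z) (hO : Cfsg.pCore 2 G = ⊥) {K : Subgroup G}
    (hK : Cfsg.IsComponent K) : IsSimpleGroup ↥K := by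
  have hcen : Subgroup.center ↥K = ⊥ := by
    rw [eq_bot_iff]
    intro c hc
    rw [Subgroup.mem_bot]
    apply Subtype.ext
    apply hS.comp_center hO hK c c.2
    intro k hk
    have := Subgroup.mem_center_iff.mp hc ⟨k, hk⟩
    exact (congrArg (fun t : ↥K => (t : G)) this).symm
  have hsimp : IsSimpleGroup (↥K ⧸ Subgroup.center ↥K) := hK.2.2
  have hnt : Nontrivial ↥K := (Subgroup.nontrivial_iff_ne_bot K).mpr (component_ne_bot hK)
  let f : ↥K ⧸ Subgroup.center ↥K →* ↥K :=
    QuotientGroup.lift (Subgroup.center ↥K) (MonoidHom.id ↥K) (by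
      intro x hx
      rw [hcen, Subgroup.mem_bot] at hx
      rw [hx]; rfl)
  have hf : Function.Surjective f := by
    intro x
    exact ⟨QuotientGroup.mk x, rfl⟩
  exact IsSimpleGroup.isSimpleGroup_of_surjective f hf

theorem layer_le_sup_centralizer {K : Subgroup G} (hK : Cfsg.IsComponent K) :
    Cfsg.layer G ≤ K ⊔ Subgroup.centralizer (K : Set G) := by
  apply sSup_le
  intro K' hK'
  by_cases h : K' = K
  · rw [h]; exact le_sup_left
  · refine le_trans ?_ le_sup_right
    intro x hx
    rw [Subgroup.mem_centralizer_iff]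
    intro k hk
    exact comp_comm hK hK' (Ne.symm h) k hk x hx

theorem Setup.exists_component (hS : Setup Q z) (hO : Cfsg.pCore 2 G = ⊥) :
    ∃ K : Subgroup G, Cfsg.IsComponent K := by
  by_contra hcon
  push Not at hcon
  have hbot : Cfsg.layer G = ⊥ := by
    rw [eq_bot_iff]
    apply sSup_le
    intro K hK
    exact absurd hK (hcon K)
  have h := hS.centralizer_layer_le hO
  rw [hbot] at h
  have hz : z ∈ Subgroup.centralizer ((⊥ : Subgroup G) : Set G) := by
    rw [Subgroup.mem_centralizer_iff]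
    intro x hx
    have : x = 1 := hx
    rw [this]; simp
  have := h hz
  rw [Subgroup.mem_bot] at this
  exact hS.z_ne this

theorem Setup.z_mem_layer (hS : Setup Q z) (hO : Cfsg.pCore 2 G = ⊥) : z ∈ Cfsg.layer G := by
  apply hS.mem_of_invariant_noncomm
  · intro q _ n hn
    exact (layer_normal (G := G)).conj_mem n hn q
  · intro hcomm
    obtain ⟨K, hK⟩ := hS.exists_component hO
    apply component_not_commutative hK
    intro a ha b hb
    exact hcomm a (component_le_layer hK ha) b (component_le_layer hK hb)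

theorem Setup.layer_normalizes (hS : Setup Q z) (hO : Cfsg.pCore 2 G = ⊥) {K : Subgroup G}
    (hK : Cfsg.IsComponent K) : ∀ e ∈ Cfsg.layer G, ∀ k ∈ K, e * k * e⁻¹ ∈ K := by
  intro e he k hk
  have h1 := genFitting_le_normalizer_component hK
  rw [hS.genFit_eq_layer hO] at h1
  exact (Subgroup.mem_normalizer_iff.mp (h1 he) k).mp hk

/-- A `Q`-invariant component contains `z`. -/
theorem Setup.mem_component_of_invariant (hS : Setup Q z) {K : Subgroup G}
    (hK : Cfsg.IsComponent K) (hinv : ∀ q ∈ Q, ∀ k ∈ K, q * k * q⁻¹ ∈ K) : z ∈ K :=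
  hS.mem_of_invariant_noncomm K hinv (component_not_commutative hK)

/-- Each conjugate of a component is the component itself or commutes with it. -/
theorem comp_conj_or {K : Subgroup G} (hK : Cfsg.IsComponent K) (g : G) :
    (∀ x ∈ K, g * x * g⁻¹ ∈ K) ∨
      (∀ x ∈ K, ∀ y ∈ K, x * (g * y * g⁻¹) = (g * y * g⁻¹) * x) := by
  by_cases h : cj g K = K
  · left
    intro x hx
    rw [← h]
    exact conj_mem_cj K g x hx
  · right
    intro x hx y hy
    exact comp_comm hK (isComponent_cj hK g) (Ne.symm h) x hx _ (conj_mem_cj K g y hy)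

end ctx

end Cfsg.Agent.Helper3.Lxs
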