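import Mathlib
import Cfsg.Prelude.Def_MonsterType
import Cfsg.Prelude.Def_Local
import Cfsg.Agent.Helper3.LxsA

/-!
Helper library (helper3): large extraspecial 2-subgroups, the case `O₂(G) = 1`: a component `L` moved
by an element `u` of `Q` (elementwise context).
-/

set_option autoImplicit false

namespace Cfsg.Agent.Helper3.Lxs

variable {G : Type*} [Group G]

/-- Context: `L` is a simple component with trivial centre, `u ∈ Q` moves `L`, and `z = a * b` with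
`a ∈ L` and `b` centralizing `L`. -/
structure PairCtx (Q : Subgroup G) (z : G) (L : Subgroup G) (u a b : G) : Prop where
  S : Setup Q z
  hu : u ∈ Q
  comp : ∀ g : G, (∀ x ∈ L, g * x * g⁻¹ ∈ L) ∨
      (∀ x ∈ L, ∀ y ∈ L, x * (g * y * g⁻¹) = (g * y * g⁻¹) * x)
  hne : ¬ ∀ x ∈ L, u * x * u⁻¹ ∈ L
  cL : ∀ c ∈ L, (∀ x ∈ L, c * x = x * c) → c = 1
  ha : a ∈ L
  hb : ∀ x ∈ L, x * b = b * x
  hz : z = a * b
  ncz : ¬ ∀ x ∈ L, x * z = z * x
  simple : IsSimpleGroup ↥L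
  nc : ¬ ∀ x ∈ L, ∀ y ∈ L, x * y = y * x
  zL : ∀ x ∈ L, z * x * z⁻¹ ∈ L

namespace PairCtx

variable {Q : Subgroup G} {z : G} {L : Subgroup G} {u a b : G}

theorem comm_u (h : PairCtx Q z L u a b) :
    ∀ x ∈ L, ∀ y ∈ L, x * (u * y * u⁻¹) = (u * y * u⁻¹) * x := by
  rcases h.comp u with h1 | h1
  · exact absurd h1 h.hne
  · exact h1

theorem inf_u (h : PairCtx Q z L u a b) : ∀ x ∈ L, ∀ y ∈ L, x = u * y * u⁻¹ → x = 1 := by
  intro x hx y hy hxy
  apply h.cL x hx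
  intro l hl
  rw [hxy]
  exact (h.comm_u l hl y hy).symm

/-- uniqueness of the decomposition `L × C(L)` -/
theorem uniq' (h : PairCtx Q z L u a b) {l₁ l₂ c₁ c₂ : G} (hl₁ : l₁ ∈ L) (hl₂ : l₂ ∈ L)
    (hc₁ : ∀ x ∈ L, x * c₁ = c₁ * x) (hc₂ : ∀ x ∈ L, x * c₂ = c₂ * x)
    (heq : l₁ * c₁ = l₂ * c₂) : l₁ = l₂ ∧ c₁ = c₂ := by
  have h1 : l₂⁻¹ * l₁ = c₂ * c₁⁻¹ := by
    calc l₂⁻¹ * l₁ = l₂⁻¹ * (l₁ * c₁) * c₁⁻¹ := by group
      _ = l₂⁻¹ * (l₂ * c₂) * c₁⁻¹ := by rw [heq]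
      _ = c₂ * c₁⁻¹ := by group
  have h2 : l₂⁻¹ * l₁ = 1 := by
    apply h.cL _ (L.mul_mem (L.inv_mem hl₂) hl₁)
    intro x hx
    rw [h1]
    have e1 := hc₁ x hx
    have e2 := hc₂ x hx
    have e3 : x * c₁⁻¹ = c₁⁻¹ * x := by
      calc x * c₁⁻¹ = c₁⁻¹ * (c₁ * x) * c₁⁻¹ := by group
        _ = c₁⁻¹ * (x * c₁) * c₁⁻¹ := by rw [e1]
        _ = c₁⁻¹ * x := by group
    calc c₂ * c₁⁻¹ * x = c₂ * (c₁⁻¹ * x) := by group
      _ = c₂ * (x * c₁⁻¹) := by rw [e3]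
      _ = (c₂ * x) * c₁⁻¹ := by group
      _ = (x * c₂) * c₁⁻¹ := by rw [e2]
      _ = x * (c₂ * c₁⁻¹) := by group
  have h3 : l₁ = l₂ := by
    have := inv_mul_eq_one.mp h2
    exact this.symm
  refine ⟨h3, ?_⟩
  rw [h3] at heq
  exact mul_left_cancel heq

theorem uniq (h : PairCtx Q z L u a b) {l c : G} (hl : l ∈ L) (hc : ∀ x ∈ L, x * c = c * x)
    (heq : z = l * c) : l = a ∧ c = b :=
  h.uniq' hl h.ha hc h.hb (by rw [← heq, h.hz])

theorem a_comm_b (h : PairCtx Q z L u a b) : a * b = b * a := h.hb a h.ha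

theorem comm_iff (h : PairCtx Q z L u a b) {x : G} (hx : x ∈ L) :
    x * z = z * x ↔ x * a = a * x := by
  have hxb := h.hb x hx
  rw [h.hz]
  constructor
  · intro h1
    have : x * a * b = a * x * b := by
      calc x * a * b = x * (a * b) := by group
        _ = a * b * x := h1
        _ = a * (b * x) := by group
        _ = a * (x * b) := by rw [hxb]
        _ = a * x * b := by group
    exact mul_right_cancel this
  · intro h1
    calc x * (a * b) = (x * a) * b := by group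
      _ = (a * x) * b := by rw [h1]
      _ = a * (x * b) := by group
      _ = a * (b * x) := by rw [hxb]
      _ = a * b * x := by group

theorem a_ne (h : PairCtx Q z L u a b) : a ≠ 1 := by
  intro ha1
  apply h.ncz
  intro x hx
  rw [h.comm_iff hx, ha1]
  simp

theorem z_notin (h : PairCtx Q z L u a b) : z ∉ L := by
  intro hzL
  apply h.ncz
  intro x hx
  -- z commutes with u x u⁻¹, and u commutes with z
  have h1 := h.comm_u z hzL x hx
  have h2 := h.S.zc u h.hu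
  have h3 : u⁻¹ * z = z * u⁻¹ := by
    calc u⁻¹ * z = u⁻¹ * (z * u) * u⁻¹ := by group
      _ = u⁻¹ * (u * z) * u⁻¹ := by rw [h2]
      _ = z * u⁻¹ := by group
  calc x * z = u⁻¹ * ((u * x * u⁻¹) * z) * u * (u⁻¹ * z⁻¹ * u * z) := by group
    _ = u⁻¹ * (z * (u * x * u⁻¹)) * u * (u⁻¹ * z⁻¹ * u * z) := by rw [h1]
    _ = (u⁻¹ * z) * u * x * (u⁻¹ * z⁻¹ * (u * z)) := by group
    _ = (z * u⁻¹) * u * x * (u⁻¹ * z⁻¹ * (z * u)) := by rw [h3, h2]
    _ = z * x := by group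

theorem a_sq (h : PairCtx Q z L u a b) : a * a = 1 := by
  have hzz := h.S.z_sq
  rw [h.hz] at hzz
  have hab := h.a_comm_b
  have h1 : (a * a) * (b * b) = 1 := by
    calc (a * a) * (b * b) = a * (a * b) * b := by group
      _ = a * (b * a) * b := by rw [hab]
      _ = (a * b) * (a * b) := by group
      _ = 1 := hzz
  apply h.cL _ (L.mul_mem h.ha h.ha)
  intro x hx
  have e : a * a = (b * b)⁻¹ := eq_inv_of_mul_eq_one_left h1
  rw [e]
  have hxb := h.hb x hx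
  have hxbb : x * (b * b) = (b * b) * x := by
    calc x * (b * b) = (x * b) * b := by group
      _ = (b * x) * b := by rw [hxb]
      _ = b * (x * b) := by group
      _ = b * (b * x) := by rw [hxb]
      _ = (b * b) * x := by group
  calc (b * b)⁻¹ * x = (b * b)⁻¹ * (x * (b * b)) * (b * b)⁻¹ := by group
    _ = (b * b)⁻¹ * ((b * b) * x) * (b * b)⁻¹ := by rw [hxbb]
    _ = x * (b * b)⁻¹ := by group

theorem a_inv (h : PairCtx Q z L u a b) : a⁻¹ = a := inv_eq_of_mul_eq_one_left h.a_sq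

theorem px_mem (h : PairCtx Q z L u a b) {x : G} (hx : x ∈ L) (hxa : x * a = a * x) :
    x⁻¹ * (u * x * u⁻¹) ∈ Q := by
  have hxz : x * z = z * x := (h.comm_iff hx).mpr hxa
  have hxz' : x⁻¹ * z = z * x⁻¹ := by
    calc x⁻¹ * z = x⁻¹ * (z * x) * x⁻¹ := by group
      _ = x⁻¹ * (x * z) * x⁻¹ := by rw [hxz]
      _ = z * x⁻¹ := by group
  have h1 := h.S.nrm x⁻¹ hxz' u h.hu
  rw [inv_inv] at h1
  have h2 := Q.mul_mem h1 (Q.inv_mem h.hu)
  have e : x⁻¹ * u * x * u⁻¹ = x⁻¹ * (u * x * u⁻¹) := by group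
  rw [e] at h2
  exact h2

/-- `x⁻¹ * u x u⁻¹ = 1` forces `x = 1`. -/
theorem px_eq_one (h : PairCtx Q z L u a b) {x y : G} (hx : x ∈ L) (hy : y ∈ L)
    (hp : x * (u * y * u⁻¹) = 1) : x = 1 ∧ y = 1 := by
  have h1 : x = u * y⁻¹ * u⁻¹ := by
    have := eq_inv_of_mul_eq_one_left hp
    rw [this]; group
  have hx1 := h.inf_u x hx y⁻¹ (L.inv_mem hy) h1
  refine ⟨hx1, ?_⟩
  rw [hx1, one_mul] at hp
  have : y = u⁻¹ * (u * y * u⁻¹) * u := by group
  rw [this, hp]; group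

theorem conj_comm_L (h : PairCtx Q z L u a b) {y : G} (hy : y ∈ L) :
    ∀ x ∈ L, x * (u * y * u⁻¹) = (u * y * u⁻¹) * x := fun x hx => h.comm_u x hx y hy

/-- the sub-case `L ∩ Q ≠ 1` -/
theorem exists_of_inter (h : PairCtx Q z L u a b) {r : G} (hrL : r ∈ L) (hrQ : r ∈ Q)
    (hr1 : r ≠ 1) :
    ∃ w ∈ Q, (¬ ∀ x ∈ L, w * x * w⁻¹ ∈ L) ∧ ∃ l ∈ L, ∃ l' ∈ L, z = l * (w * l' * w⁻¹) := by
  have hrz : r ≠ z := fun e => h.z_notin (e ▸ hrL)
  obtain ⟨w, hw, hwr⟩ := h.S.exists_conj_eq_mul hrQ hr1 hrz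
  have hz' : z = w * r * w⁻¹ * r⁻¹ := by rw [hwr]; group
  have hnw : ¬ ∀ x ∈ L, w * x * w⁻¹ ∈ L := by
    intro hn
    apply h.z_notin
    rw [hz']
    exact L.mul_mem (hn r hrL) (L.inv_mem hrL)
  refine ⟨w, hw, hnw, r⁻¹, L.inv_mem hrL, r, hrL, ?_⟩
  rcases h.comp w with h1 | h1
  · exact absurd h1 hnw
  · rw [hz']
    exact (h1 r⁻¹ (L.inv_mem hrL) r hrL).symm

/-- the sub-case `L ∩ Q = 1`: if `z ∉ L × uLu⁻¹` then `C_L(a) = {1, a}` -/
theorem eq_a_of_noninter (h : PairCtx Q z L u a b) (hLQ : ∀ r ∈ L, r ∈ Q → r = 1)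
    (hcon : ∀ l ∈ L, ∀ l' ∈ L, z ≠ l * (u * l' * u⁻¹)) {x : G} (hxL : x ∈ L)
    (hxa : x * a = a * x) (hx1 : x ≠ 1) : x = a := by
  have hS := h.S
  have hxz : x * z = z * x := (h.comm_iff hxL).mpr hxa
  obtain ⟨p, hp⟩ : ∃ p : G, p = x⁻¹ * (u * x * u⁻¹) := ⟨_, rfl⟩
  have hpQ : p ∈ Q := by rw [hp]; exact h.px_mem hxL hxa
  have hp1 : p ≠ 1 := by
    intro e
    rw [hp] at e
    have := (h.px_eq_one (L.inv_mem hxL) hxL e).2
    exact hx1 this
  have hpz : p ≠ z := by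
    intro e
    exact hcon x⁻¹ (L.inv_mem hxL) x hxL (by rw [← e, hp])
  have hcx := h.comm_u x⁻¹ (L.inv_mem hxL) x hxL
  have hpp' : p * p = (x⁻¹ * x⁻¹) * (u * (x * x) * u⁻¹) := by
    rw [hp]
    calc x⁻¹ * (u * x * u⁻¹) * (x⁻¹ * (u * x * u⁻¹))
        = x⁻¹ * ((u * x * u⁻¹) * x⁻¹) * (u * x * u⁻¹) := by group
      _ = x⁻¹ * (x⁻¹ * (u * x * u⁻¹)) * (u * x * u⁻¹) := by rw [hcx]
      _ = (x⁻¹ * x⁻¹) * (u * (x * x) * u⁻¹) := by group
  have hpp : p * p = 1 := by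
    rcases hS.sq p hpQ with e | e
    · exact e
    · exfalso
      exact hcon (x⁻¹ * x⁻¹) (L.mul_mem (L.inv_mem hxL) (L.inv_mem hxL)) (x * x)
        (L.mul_mem hxL hxL) (by rw [← e, hpp'])
  have hxx : x * x = 1 := by
    rw [hpp'] at hpp
    exact (h.px_eq_one (L.mul_mem (L.inv_mem hxL) (L.inv_mem hxL)) (L.mul_mem hxL hxL) hpp).2
  have hxinv : x⁻¹ = x := inv_eq_of_mul_eq_one_left hxx
  obtain ⟨w, hw, hwp⟩ := hS.exists_conj_eq_mul hpQ hp1 hpz
  -- elements of Q normalizing L commute with x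
  have hcommQ : ∀ v ∈ Q, (∀ y ∈ L, v * y * v⁻¹ ∈ L) → v * x = x * v := by
    intro v hv hvL
    have h1 : x * v * x⁻¹ ∈ Q := hS.nrm x hxz v hv
    have h2 : x * v * x⁻¹ * v⁻¹ ∈ Q := Q.mul_mem h1 (Q.inv_mem hv)
    have h3 : x * v * x⁻¹ * v⁻¹ ∈ L := by
      have : x * v * x⁻¹ * v⁻¹ = x * (v * x⁻¹ * v⁻¹) := by group
      rw [this]; exact L.mul_mem hxL (hvL _ (L.inv_mem hxL))
    have h4 := hLQ _ h3 h2
    calc v * x = (x * v * x⁻¹ * v⁻¹)⁻¹ * (x * v) := by group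
      _ = x * v := by rw [h4, inv_one, one_mul]
  have hzu : z * u = u * z := (hS.zc u h.hu).symm
  -- elements of Q commuting with x commute with p
  have hvp : ∀ v ∈ Q, v * x = x * v → v * p = p * v := by
    intro v hv hvx
    have hvx' : v * x * v⁻¹ = x := by rw [hvx]; group
    have hvxi : v * x⁻¹ * v⁻¹ = x⁻¹ := by
      have : v * x⁻¹ * v⁻¹ = (v * x * v⁻¹)⁻¹ := by group
      rw [this, hvx']
    have key : (v * u) * x * (v * u)⁻¹ = u * x * u⁻¹ := by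
      rcases hS.comm v hv u h.hu with e | e
      · have hvu : v * u = u * v := by
          calc v * u = (v * u * v⁻¹ * u⁻¹) * (u * v) := by group
            _ = u * v := by rw [e, one_mul]
        rw [hvu]
        calc u * v * x * (u * v)⁻¹ = u * (v * x * v⁻¹) * u⁻¹ := by group
          _ = u * x * u⁻¹ := by rw [hvx']
      · have hvu : v * u = z * (u * v) := by
          calc v * u = (v * u * v⁻¹ * u⁻¹) * (u * v) := by group
            _ = z * (u * v) := by rw [e]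
        rw [hvu]
        have hzx : z * x * z⁻¹ = x := by rw [← hxz]; group
        calc z * (u * v) * x * (z * (u * v))⁻¹
            = (z * u) * (v * x * v⁻¹) * (z * u)⁻¹ := by group
          _ = (u * z) * x * (u * z)⁻¹ := by rw [hvx', hzu]
          _ = u * (z * x * z⁻¹) * u⁻¹ := by group
          _ = u * x * u⁻¹ := by rw [hzx]
    have hconj : v * p * v⁻¹ = p := by
      rw [hp]
      calc v * (x⁻¹ * (u * x * u⁻¹)) * v⁻¹
          = (v * x⁻¹ * v⁻¹) * ((v * u) * x * (v * u)⁻¹) := by group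
        _ = x⁻¹ * (u * x * u⁻¹) := by rw [hvxi, key]
    calc v * p = (v * p * v⁻¹) * v := by group
      _ = p * v := by rw [hconj]
  -- u commutes with p
  have hup : u * p = p * u := by
    have huux : (u * u) * x * (u * u)⁻¹ = x := by
      rcases hS.sq u h.hu with e | e
      · rw [e]; group
      · rw [e, ← hxz]; group
    have hconj : u * p * u⁻¹ = p := by
      rw [hp, hxinv]
      calc u * (x * (u * x * u⁻¹)) * u⁻¹ = (u * x * u⁻¹) * ((u * u) * x * (u * u)⁻¹) := by group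
        _ = (u * x * u⁻¹) * x := by rw [huux]
        _ = x * (u * x * u⁻¹) := (h.comm_u x hxL x hxL).symm
    calc u * p = (u * p * u⁻¹) * u := by group
      _ = p * u := by rw [hconj]
  have hwne : w * p ≠ p * w := by
    intro e
    have : w * p * w⁻¹ = p := by rw [e]; group
    rw [this] at hwp
    apply hS.z_ne
    calc z = (z * p) * p⁻¹ := by group
      _ = p * p⁻¹ := by rw [← hwp]
      _ = 1 := by group
  rcases h.comp w with hw1 | hw1
  · exact absurd (hvp w hw (hcommQ w hw hw1)) hwne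
  rcases h.comp (w * u) with hw2 | hw2
  · exfalso
    have h1 := hvp (w * u) (Q.mul_mem hw h.hu) (hcommQ (w * u) (Q.mul_mem hw h.hu) hw2)
    apply hwne
    have hup' : u⁻¹ * p = p * u⁻¹ := by
      calc u⁻¹ * p = u⁻¹ * (p * u) * u⁻¹ := by group
        _ = u⁻¹ * (u * p) * u⁻¹ := by rw [hup]
        _ = p * u⁻¹ := by group
    calc w * p = (w * u) * (u⁻¹ * p) := by group
      _ = (w * u) * (p * u⁻¹) := by rw [hup']
      _ = ((w * u) * p) * u⁻¹ := by group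
      _ = (p * (w * u)) * u⁻¹ := by rw [h1]
      _ = p * w := by group
  · -- neither w nor w*u normalizes L
    obtain ⟨c, hc⟩ : ∃ c : G, c = (w * x⁻¹ * w⁻¹) * ((w * u) * x * (w * u)⁻¹) * (u * x⁻¹ * u⁻¹) :=
      ⟨_, rfl⟩
    have hcL : ∀ y ∈ L, y * c = c * y := by
      intro y hy
      have e1 := hw1 y hy x⁻¹ (L.inv_mem hxL)
      have e2 := hw2 y hy x hxL
      have e3 := h.comm_u y hy x⁻¹ (L.inv_mem hxL)
      rw [hc]
      calc y * ((w * x⁻¹ * w⁻¹) * ((w * u) * x * (w * u)⁻¹) * (u * x⁻¹ * u⁻¹))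
          = (y * (w * x⁻¹ * w⁻¹)) * ((w * u) * x * (w * u)⁻¹) * (u * x⁻¹ * u⁻¹) := by group
        _ = ((w * x⁻¹ * w⁻¹) * y) * ((w * u) * x * (w * u)⁻¹) * (u * x⁻¹ * u⁻¹) := by rw [e1]
        _ = (w * x⁻¹ * w⁻¹) * (y * ((w * u) * x * (w * u)⁻¹)) * (u * x⁻¹ * u⁻¹) := by group
        _ = (w * x⁻¹ * w⁻¹) * (((w * u) * x * (w * u)⁻¹) * y) * (u * x⁻¹ * u⁻¹) := by rw [e2]
        _ = (w * x⁻¹ * w⁻¹) * ((w * u) * x * (w * u)⁻¹) * (y * (u * x⁻¹ * u⁻¹)) := by group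
        _ = (w * x⁻¹ * w⁻¹) * ((w * u) * x * (w * u)⁻¹) * ((u * x⁻¹ * u⁻¹) * y) := by rw [e3]
        _ = (w * x⁻¹ * w⁻¹) * ((w * u) * x * (w * u)⁻¹) * (u * x⁻¹ * u⁻¹) * y := by group
    have hzc : z = x * c := by
      have e1 : z = (w * p * w⁻¹) * p⁻¹ := by rw [hwp]; group
      have e2 : (w * p * w⁻¹) * p⁻¹ = c * x := by
        rw [hp, hc]; group
      rw [e1, e2]
      exact (hcL x hxL).symm
    exact (h.uniq hxL hcL hzc).1

/-- The centralizer of `a` in `L` is not `{1, a}`. -/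
theorem not_card_two [Finite G] (h : PairCtx Q z L u a b) :
    ¬ ∀ x ∈ L, x * a = a * x → x = 1 ∨ x = a := by
  intro hC
  exact h.nc (commute_of_centralizer_card_two L h.simple a h.ha h.a_ne hC)

/-- Some element of `Q` moves `L` with `z ∈ L × wLw⁻¹`. -/
theorem exists_pair [Finite G] (h : PairCtx Q z L u a b) :
    ∃ w ∈ Q, (¬ ∀ x ∈ L, w * x * w⁻¹ ∈ L) ∧ ∃ l ∈ L, ∃ l' ∈ L, z = l * (w * l' * w⁻¹) := by
  by_cases hex : ∃ r ∈ L, r ∈ Q ∧ r ≠ 1
  · obtain ⟨r, hrL, hrQ, hr1⟩ := hex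
    exact h.exists_of_inter hrL hrQ hr1
  · push Not at hex
    by_contra hcon0
    push Not at hcon0
    have hne' := h.hne
    push Not at hne'
    have hcon : ∀ l ∈ L, ∀ l' ∈ L, z ≠ l * (u * l' * u⁻¹) := hcon0 u h.hu hne'
    apply h.not_card_two
    intro x hxL hxa
    by_cases hx1 : x = 1
    · left; exact hx1
    · right; exact h.eq_a_of_noninter hex hcon hxL hxa hx1

end PairCtx

end Cfsg.Agent.Helper3.Lxs
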