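import Mathlib
import Cfsg.Prelude.Def_MonsterType
import Cfsg.Prelude.Def_Local
import Cfsg.Agent.Helper3.LxsD

/-!
Helper library (helper3): large extraspecial 2-subgroups, the case `O₂(G) = 1`: the product
`L × uLu⁻¹` (elementwise context, continued).
-/

set_option autoImplicit false

namespace Cfsg.Agent.Helper3.Lxs

variable {G : Type*} [Group G]

namespace PairCtx

variable {Q : Subgroup G} {z : G} {L : Subgroup G} {u a b : G}

/-- The homomorphism `L × L → G`, `(l, m) ↦ l * u m u⁻¹`. -/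
noncomputable def phi (h : PairCtx Q z L u a b) : ↥L × ↥L →* G :=
  MonoidHom.noncommCoprod L.subtype ((MulAut.conj u).toMonoidHom.comp L.subtype)
    (fun m n => h.comm_u m m.2 n n.2)

theorem phi_apply (h : PairCtx Q z L u a b) (m n : ↥L) :
    h.phi (m, n) = (m : G) * (u * (n : G) * u⁻¹) := rfl

theorem phi_eq_one (h : PairCtx Q z L u a b) {m n : ↥L} (hmn : h.phi (m, n) = 1) :
    m = 1 ∧ n = 1 := by
  rw [phi_apply] at hmn
  have := h.px_eq_one m.2 n.2 hmn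
  exact ⟨Subtype.ext this.1, Subtype.ext this.2⟩

theorem phi_injective (h : PairCtx Q z L u a b) : Function.Injective h.phi := by
  rw [injective_iff_map_eq_one]
  rintro ⟨m, n⟩ hmn
  obtain ⟨h1, h2⟩ := h.phi_eq_one hmn
  rw [h1, h2]; rfl

/-- Under `z ∈ L × uLu⁻¹`: `b = u a u⁻¹`. -/
theorem b_eq (h : PairCtx Q z L u a b)
    (hzz : ∃ l ∈ L, ∃ l' ∈ L, z = l * (u * l' * u⁻¹)) : b = u * a * u⁻¹ := by
  obtain ⟨l, hl, l', hl', hzl⟩ := hzz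
  have h1 := h.uniq hl (h.conj_comm_L hl') hzl
  have hubL : u * b * u⁻¹ ∈ L := by
    rw [← h1.2]
    have : u * (u * l' * u⁻¹) * u⁻¹ = (u * u) * l' * (u * u)⁻¹ := by group
    rw [this]
    rcases h.S.sq u h.hu with e | e
    · rw [e]; simpa using hl'
    · rw [e]; exact h.zL l' hl'
  have hzu : u * z * u⁻¹ = z := by rw [h.S.zc u h.hu]; group
  have hz2 : z = (u * b * u⁻¹) * (u * a * u⁻¹) := by
    have e1 : u * z * u⁻¹ = (u * a * u⁻¹) * (u * b * u⁻¹) := by rw [h.hz]; group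
    rw [← hzu, e1]
    exact (h.comm_u _ hubL a h.ha).symm
  have h2 := h.uniq hubL (h.conj_comm_L h.ha) hz2
  exact h2.2.symm

theorem z_eq_phi (h : PairCtx Q z L u a b) (hbu : b = u * a * u⁻¹) :
    z = h.phi (⟨a, h.ha⟩, ⟨a, h.ha⟩) := by
  show z = a * (u * a * u⁻¹)
  exact h.hz.trans (by rw [hbu])

/-- elements of `C_L(a)` are 2-elements -/
theorem two_pow (h : PairCtx Q z L u a b) {x : G} (hxL : x ∈ L) (hxa : x * a = a * x) :
    ∃ n : ℕ, x ^ (2 ^ n) = 1 := by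
  have hpQ := h.px_mem hxL hxa
  obtain ⟨n, hn⟩ := h.S.pgrp ⟨_, hpQ⟩
  have hn' : (x⁻¹ * (u * x * u⁻¹)) ^ (2 ^ n) = 1 := by
    have := congrArg (fun t : ↥Q => (t : G)) hn
    simpa using this
  have hcomm : Commute x⁻¹ (u * x * u⁻¹) := h.comm_u x⁻¹ (L.inv_mem hxL) x hxL
  rw [hcomm.mul_pow, conj_pow] at hn'
  have := (h.px_eq_one (L.pow_mem (L.inv_mem hxL) _) (L.pow_mem hxL _) hn').2
  exact ⟨n, this⟩

/-- centralizer of `z` in `L × uLu⁻¹` -/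
theorem cent_decomp (h : PairCtx Q z L u a b) (hbu : b = u * a * u⁻¹) {l l' : G} (hl : l ∈ L)
    (hl' : l' ∈ L) (hc : (l * (u * l' * u⁻¹)) * z = z * (l * (u * l' * u⁻¹))) :
    l * a = a * l ∧ l' * a = a * l' := by
  have hy : l * (u * l' * u⁻¹) = h.phi (⟨l, hl⟩, ⟨l', hl'⟩) := rfl
  have hz' := h.z_eq_phi hbu
  have hc' : h.phi (⟨l, hl⟩, ⟨l', hl'⟩) * h.phi (⟨a, h.ha⟩, ⟨a, h.ha⟩) =
      h.phi (⟨a, h.ha⟩, ⟨a, h.ha⟩) * h.phi (⟨l, hl⟩, ⟨l', hl'⟩) := by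
    rw [← hz', ← hy]; exact hc
  rw [← map_mul, ← map_mul] at hc'
  have h1 := h.phi_injective hc'
  rw [Prod.mk_mul_mk, Prod.mk_mul_mk, Prod.mk.injEq] at h1
  exact ⟨congrArg (fun t : ↥L => (t : G)) h1.1, congrArg (fun t : ↥L => (t : G)) h1.2⟩

/-- elements of the centralizer of `z` in `L × uLu⁻¹` are 2-elements -/
theorem two_pow_pair (h : PairCtx Q z L u a b) (hbu : b = u * a * u⁻¹) {l l' : G} (hl : l ∈ L)
    (hl' : l' ∈ L) (hc : (l * (u * l' * u⁻¹)) * z = z * (l * (u * l' * u⁻¹))) :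
    ∃ N : ℕ, (l * (u * l' * u⁻¹)) ^ (2 ^ N) = 1 := by
  obtain ⟨h1, h2⟩ := h.cent_decomp hbu hl hl' hc
  obtain ⟨n, hn⟩ := h.two_pow hl h1
  obtain ⟨k, hk⟩ := h.two_pow hl' h2
  refine ⟨n + k, ?_⟩
  have hcomm : Commute l (u * l' * u⁻¹) := h.comm_u l hl l' hl'
  rw [hcomm.mul_pow, conj_pow]
  have e1 : l ^ (2 ^ (n + k)) = 1 := by
    rw [pow_add, pow_mul, hn, one_pow]
  have e2 : l' ^ (2 ^ (n + k)) = 1 := by
    rw [pow_add, mul_comm, pow_mul, hk, one_pow]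
  rw [e1, e2]; group

theorem inv_comm_a (h : PairCtx Q z L u a b) {x : G} (hxa : x * a = a * x) :
    x⁻¹ * a = a * x⁻¹ := by
  calc x⁻¹ * a = x⁻¹ * (a * x) * x⁻¹ := by group
    _ = x⁻¹ * (x * a) * x⁻¹ := by rw [hxa]
    _ = a * x⁻¹ := by group

/-- `q ∈ {1, z}` of the form `φ(m, n)` has `m ∈ {1, a}`. -/
theorem fst_of_phi_mem (h : PairCtx Q z L u a b) (hbu : b = u * a * u⁻¹) {m n : ↥L}
    (hq : h.phi (m, n) = 1 ∨ h.phi (m, n) = z) : (m : G) = 1 ∨ (m : G) = a := by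
  rcases hq with e | e
  · left
    exact congrArg (fun t : ↥L => (t : G)) (h.phi_eq_one e).1
  · right
    have e' : h.phi (m, n) = h.phi (⟨a, h.ha⟩, ⟨a, h.ha⟩) := e.trans (h.z_eq_phi hbu)
    have := h.phi_injective e'
    rw [Prod.mk.injEq] at this
    exact congrArg (fun t : ↥L => (t : G)) this.1

/-- squares in `C_L(a)` lie in `{1, a}` -/
theorem sq_mem (h : PairCtx Q z L u a b) (hbu : b = u * a * u⁻¹) {x : G} (hxL : x ∈ L)
    (hxa : x * a = a * x) : x * x = 1 ∨ x * x = a := by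
  -- p = φ(x, x⁻¹) ∈ Q
  have hxi : x⁻¹ ∈ L := L.inv_mem hxL
  have hpQ := h.px_mem hxi (h.inv_comm_a hxa)
  rw [inv_inv] at hpQ
  have hp : x * (u * x⁻¹ * u⁻¹) = h.phi (⟨x, hxL⟩, ⟨x⁻¹, hxi⟩) := rfl
  have h1 := h.S.sq _ hpQ
  rw [hp, ← map_mul, Prod.mk_mul_mk] at h1
  exact h.fst_of_phi_mem hbu h1

/-- commutators in `C_L(a)` lie in `{1, a}` -/
theorem comm_mem (h : PairCtx Q z L u a b) (hbu : b = u * a * u⁻¹) {x y : G} (hxL : x ∈ L)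
    (hxa : x * a = a * x) (hyL : y ∈ L) (hya : y * a = a * y) :
    x * y * x⁻¹ * y⁻¹ = 1 ∨ x * y * x⁻¹ * y⁻¹ = a := by
  have hxi : x⁻¹ ∈ L := L.inv_mem hxL
  have hyi : y⁻¹ ∈ L := L.inv_mem hyL
  have hpQ := h.px_mem hxi (h.inv_comm_a hxa)
  have hqQ := h.px_mem hyi (h.inv_comm_a hya)
  rw [inv_inv] at hpQ hqQ
  have hp : x * (u * x⁻¹ * u⁻¹) = h.phi (⟨x, hxL⟩, ⟨x⁻¹, hxi⟩) := rfl
  have hq : y * (u * y⁻¹ * u⁻¹) = h.phi (⟨y, hyL⟩, ⟨y⁻¹, hyi⟩) := rfl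
  have h1 := h.S.comm _ hpQ _ hqQ
  rw [hp, hq, ← map_inv, ← map_inv, ← map_mul, ← map_mul, ← map_mul, Prod.inv_mk, Prod.inv_mk,
    Prod.mk_mul_mk, Prod.mk_mul_mk, Prod.mk_mul_mk] at h1
  exact h.fst_of_phi_mem hbu h1

/-- `C_L(a)` is not contained in `Q`. -/
theorem not_sub_Q [Finite G] (h : PairCtx Q z L u a b) : ¬ ∀ x ∈ L, x * a = a * x → x ∈ Q := by
  intro hsub
  apply h.not_card_two
  intro x hxL hxa
  have hxQ := hsub x hxL hxa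
  have h1 := h.S.comm x⁻¹ (Q.inv_mem hxQ) u h.hu
  rw [inv_inv] at h1
  have e : x⁻¹ * u * x * u⁻¹ = x⁻¹ * (u * x * u⁻¹) := by group
  rw [e] at h1
  rcases h1 with h2 | h2
  · left
    exact (h.px_eq_one (L.inv_mem hxL) hxL h2).2
  · right
    have := (h.uniq (L.inv_mem hxL) (h.conj_comm_L hxL) h2.symm).1
    rw [← h.a_inv, ← this, inv_inv]

end PairCtx

end Cfsg.Agent.Helper3.Lxs
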