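import Mathlib
import Cfsg.Prelude.Def_MonsterType
import Cfsg.Prelude.Def_Local
import Cfsg.Agent.Helper3.LxsC
import Cfsg.Agent.Helper3.LxsE
import Cfsg.Agent.Helper1.Subnormal
import Cfsg.Agent.Helper5.FrattiniLe

/-!
Helper library (helper3): large extraspecial 2-subgroups: the structure of the normal closure of the
centre (final assembly).
-/

set_option autoImplicit false

namespace Cfsg.Agent.Helper3.Lxs

open Cfsg.Agent.Helper1 Cfsg.Agent.Helper2 Cfsg.Agent.Helper5

variable {G : Type*} [Group G] [Finite G] {Q : Subgroup G} {z : G}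

theorem Setup.final_single (hS : Setup Q z) (hO : Cfsg.pCore 2 G = ⊥) {L : Subgroup G}
    (hL : Cfsg.IsComponent L) (hzL : z ∈ L) (M : Subgroup G)
    (hM : M = Subgroup.normalClosure ({z} : Set G)) :
    M = Cfsg.generalizedFittingSubgroup G ∧ IsSimpleGroup ↥M ∧ ¬ IsMulCommutative ↥M := by
  have hlayer : Cfsg.layer G = L := by
    apply le_antisymm
    · apply sSup_le
      intro K hK
      by_cases h : K = L
      · rw [h]
      · exfalso
        apply hS.component_not_centralize hK
        intro k hk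
        exact comp_comm hK hL h k hk z hzL
    · exact component_le_layer hL
  have hsimple := hS.comp_simple hO hL
  have hMn : M.Normal := by rw [hM]; exact Subgroup.normalClosure_normal
  have hzM : z ∈ M := by
    rw [hM]; exact Subgroup.subset_normalClosure (Set.mem_singleton z)
  have hML : M = L := by
    apply le_antisymm
    · rw [hM, ← hlayer]
      apply Subgroup.normalClosure_le_normal
      intro x hx
      rw [Set.mem_singleton_iff] at hx
      rw [hx, hlayer]; exact hzL
    · have hn : (M.subgroupOf L).Normal := hMn.subgroupOf L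
      rcases hn.eq_bot_or_eq_top with h | h
      · exfalso
        have h1 : (⟨z, hzL⟩ : ↥L) ∈ M.subgroupOf L := Subgroup.mem_subgroupOf.mpr hzM
        rw [h, Subgroup.mem_bot] at h1
        exact hS.z_ne (congrArg (fun t : ↥L => (t : G)) h1)
      · exact Subgroup.subgroupOf_eq_top.mp h
  refine ⟨by rw [hML, hS.genFit_eq_layer hO, hlayer], by rw [hML]; exact hsimple, ?_⟩
  rw [hML]
  intro hc
  apply component_not_commutative hL
  intro a ha b hb
  have := hc.is_comm.comm ⟨a, ha⟩ ⟨b, hb⟩
  exact congrArg (fun t : ↥L => (t : G)) this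

theorem Setup.final_pair (hS : Setup Q z) (hO : Cfsg.pCore 2 G = ⊥) {L : Subgroup G}
    (hL : Cfsg.IsComponent L) {u a b : G} (h : PairCtx Q z L u a b)
    (hzz : ∃ l ∈ L, ∃ l' ∈ L, z = l * (u * l' * u⁻¹)) (M : Subgroup G)
    (hM : M = Subgroup.normalClosure ({z} : Set G)) :
    M = Cfsg.generalizedFittingSubgroup G ∧ ∃ (L : Subgroup G) (u : G), u ∈ Q ∧
      IsSimpleGroup ↥L ∧ ¬ IsMulCommutative ↥L ∧
      L ⊓ (L).map (MulAut.conj u).toMonoidHom = ⊥ ∧
      (∀ x ∈ L, ∀ y ∈ (L).map (MulAut.conj u).toMonoidHom, x * y = y * x) ∧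
      L ⊔ (L).map (MulAut.conj u).toMonoidHom = M ∧
      ∃ z₁ ∈ L, z = z₁ * (u * z₁ * u⁻¹) ∧
        (∃ R : Sylow 2 ↥L, (R : Subgroup ↥L) =
            (Subgroup.centralizer ({z₁} : Set G)).subgroupOf L ∧
          (frattini ↥(R : Subgroup ↥L)).map ((L.subtype).comp (R : Subgroup ↥L).subtype) ≤
            Subgroup.zpowers z₁) ∧
        Q ≠ (Cfsg.pCore 2 ↥(Subgroup.centralizer ({z} : Set G))).map
          (Subgroup.centralizer ({z} : Set G)).subtype := by
  have : Fact (Nat.Prime 2) := ⟨Nat.prime_two⟩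
  have hsimple : IsSimpleGroup ↥L := h.simple
  have hbu := h.b_eq hzz
  obtain ⟨L', hL'def⟩ : ∃ L' : Subgroup G, L' = cj u L := ⟨_, rfl⟩
  have hL' : Cfsg.IsComponent L' := by rw [hL'def]; exact isComponent_cj hL u
  have hLL' : L' ≠ L := by
    intro e
    apply h.hne
    intro x hx
    rw [← e, hL'def]
    exact conj_mem_cj L u x hx
  have hcomm : ∀ x ∈ L, ∀ y ∈ L', x * y = y * x := comp_comm hL hL' (Ne.symm hLL')
  have hmemL' : ∀ y ∈ L', ∃ x ∈ L, y = u * x * u⁻¹ := by
    intro y hy
    rw [hL'def, mem_cj_iff] at hy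
    exact ⟨_, hy, by group⟩
  have hconjL' : ∀ x ∈ L, u * x * u⁻¹ ∈ L' := by
    intro x hx
    rw [hL'def]; exact conj_mem_cj L u x hx
  have hinf : L ⊓ L' = ⊥ := by
    rw [eq_bot_iff]
    intro x hx
    obtain ⟨hx1, hx2⟩ := Subgroup.mem_inf.mp hx
    obtain ⟨y, hy, hxy⟩ := hmemL' x hx2
    rw [Subgroup.mem_bot]
    exact h.inf_u x hx1 y hy hxy
  have hbL' : b ∈ L' := by rw [hbu]; exact hconjL' a h.ha
  have hlayer : Cfsg.layer G = L ⊔ L' := by
    apply le_antisymm
    · apply sSup_le
      intro K hK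
      by_cases h1 : K = L
      · rw [h1]; exact le_sup_left
      by_cases h2 : K = L'
      · rw [h2]; exact le_sup_right
      exfalso
      apply hS.component_not_centralize hK
      intro k hk
      have e1 := comp_comm hK hL h1 k hk a h.ha
      have e2 := comp_comm hK hL' h2 k hk b hbL'
      calc k * z = (k * a) * b := by rw [h.hz]; group
        _ = a * (k * b) := by rw [e1]; group
        _ = z * k := by rw [e2, h.hz]; group
    · exact sup_le (component_le_layer hL) (component_le_layer hL')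
  have hMn : M.Normal := by rw [hM]; exact Subgroup.normalClosure_normal
  have hzM : z ∈ M := by
    rw [hM]; exact Subgroup.subset_normalClosure (Set.mem_singleton z)
  have hzlayer := hS.z_mem_layer hO
  have hMlayer : M = Cfsg.layer G := by
    apply le_antisymm
    · rw [hM]
      apply Subgroup.normalClosure_le_normal
      intro x hx
      rw [Set.mem_singleton_iff] at hx
      rw [hx]; exact hzlayer
    · rw [hlayer]
      have hLM : L ≤ M := by
        have hn : (M.subgroupOf L).Normal := hMn.subgroupOf L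
        have hex : ∃ l ∈ L, a * l ≠ l * a := by
          by_contra hcon
          push Not at hcon
          exact h.a_ne (h.cL a h.ha hcon)
        obtain ⟨l, hl, hla⟩ := hex
        have hcM : l * z * l⁻¹ * z⁻¹ ∈ M := M.mul_mem (hMn.conj_mem z hzM l) (M.inv_mem hzM)
        have hce : l * z * l⁻¹ * z⁻¹ = l * a * l⁻¹ * a⁻¹ := by
          have e1 : l⁻¹ * b = b * l⁻¹ := h.hb _ (L.inv_mem hl)
          calc l * z * l⁻¹ * z⁻¹ = l * a * (b * l⁻¹) * b⁻¹ * a⁻¹ := by rw [h.hz]; group
            _ = l * a * (l⁻¹ * b) * b⁻¹ * a⁻¹ := by rw [e1]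
            _ = l * a * l⁻¹ * a⁻¹ := by group
        have hcL : l * a * l⁻¹ * a⁻¹ ∈ L :=
          L.mul_mem (L.mul_mem (L.mul_mem hl h.ha) (L.inv_mem hl)) (L.inv_mem h.ha)
        have hc1 : l * a * l⁻¹ * a⁻¹ ≠ 1 := by
          intro e
          apply hla
          calc a * l = (l * a * l⁻¹ * a⁻¹)⁻¹ * (l * a) := by group
            _ = l * a := by rw [e, inv_one, one_mul]
        rcases hn.eq_bot_or_eq_top with h1 | h1
        · exfalso
          have hcM' : l * a * l⁻¹ * a⁻¹ ∈ M := by rw [← hce]; exact hcM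
          have h2 : (⟨l * a * l⁻¹ * a⁻¹, hcL⟩ : ↥L) ∈ M.subgroupOf L := by
            rw [Subgroup.mem_subgroupOf]; exact hcM'
          rw [h1, Subgroup.mem_bot] at h2
          exact hc1 (congrArg (fun t : ↥L => (t : G)) h2)
        · exact Subgroup.subgroupOf_eq_top.mp h1
      apply sup_le hLM
      intro y hy
      obtain ⟨x, hx, rfl⟩ := hmemL' y hy
      exact hMn.conj_mem x (hLM hx) u
  -- Sylow 2-subgroup containing Q
  obtain ⟨T, hQT⟩ := hS.pgrp.exists_le_sylow
  have hTz : ∀ t ∈ (T : Subgroup G), t * z = z * t := by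
    have hzT : z ∈ (T : Subgroup G) := hQT hS.z_mem
    have hnt : Nontrivial ↥(T : Subgroup G) := by
      refine ⟨⟨⟨z, hzT⟩, 1, ?_⟩⟩
      intro e
      exact hS.z_ne (congrArg (fun t : ↥(T : Subgroup G) => (t : G)) e)
    have hcen := IsPGroup.center_nontrivial (T.isPGroup')
    obtain ⟨c, hc1⟩ := exists_ne (1 : Subgroup.center ↥(T : Subgroup G))
    have hcT : ∀ t : ↥(T : Subgroup G), t * (c : ↥(T : Subgroup G)) = (c : ↥(T : Subgroup G)) * t :=
      fun t => Subgroup.mem_center_iff.mp c.2 t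
    have hcz : ((c : ↥(T : Subgroup G)) : G) = z := by
      have hcen' : ∀ q ∈ Q, ((c : ↥(T : Subgroup G)) : G) * q = q * ((c : ↥(T : Subgroup G)) : G) := by
        intro q hq
        have := hcT ⟨q, hQT hq⟩
        exact (congrArg (fun t : ↥(T : Subgroup G) => (t : G)) this).symm
      rcases hS.cent _ hcen' with e | e
      · exfalso; apply hc1
        apply Subtype.ext; apply Subtype.ext; exact e
      · exact e
    intro t ht
    have := hcT ⟨t, ht⟩
    rw [← hcz]
    exact congrArg (fun t : ↥(T : Subgroup G) => (t : G)) this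
  obtain ⟨Y, hYdef⟩ : ∃ Y : Subgroup G, Y = Cfsg.layer G ⊓ Subgroup.centralizer ({z} : Set G) :=
    ⟨_, rfl⟩
  have hmemY : ∀ y : G, y ∈ Y ↔ y ∈ Cfsg.layer G ∧ y * z = z * y := by
    intro y
    rw [hYdef, Subgroup.mem_inf, Subgroup.mem_centralizer_singleton_iff]
  have hY2' : ∀ y ∈ Y, ∃ N : ℕ, y ^ (2 ^ N) = 1 := by
    intro y hy
    obtain ⟨hyE, hyz⟩ := (hmemY y).mp hy
    rw [hlayer] at hyE
    obtain ⟨l, hl, m, hm, rfl⟩ := mem_sup_of_commute L L' hcomm hyE
    obtain ⟨l', hl', rfl⟩ := hmemL' m hm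
    exact h.two_pow_pair hbu hl hl' hyz
  have hY2 : IsPGroup 2 ↥Y := by
    intro y
    obtain ⟨N, hN⟩ := hY2' y y.2
    refine ⟨N, ?_⟩
    apply Subtype.ext
    rw [Subgroup.coe_pow, hN]; rfl
  have hlayern : (Cfsg.layer G).Normal := layer_normal
  have hconjY : ∀ t : G, t * z = z * t → ∀ y ∈ Y, t * y * t⁻¹ ∈ Y := by
    intro t ht y hy
    obtain ⟨hyE, hyz⟩ := (hmemY y).mp hy
    rw [hmemY]
    refine ⟨hlayern.conj_mem y hyE t, ?_⟩
    have ht' : t⁻¹ * z = z * t⁻¹ := by
      calc t⁻¹ * z = t⁻¹ * (z * t) * t⁻¹ := by group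
        _ = t⁻¹ * (t * z) * t⁻¹ := by rw [ht]
        _ = z * t⁻¹ := by group
    calc t * y * t⁻¹ * z = t * y * (t⁻¹ * z) := by group
      _ = t * (y * z) * t⁻¹ := by rw [ht']; group
      _ = (t * z) * y * t⁻¹ := by rw [hyz]; group
      _ = z * (t * y * t⁻¹) := by rw [ht]; group
  have hYT : Y ≤ (T : Subgroup G) := by
    have hTN : (T : Subgroup G) ≤ Subgroup.normalizer (Y : Set G) := by
      intro t ht
      rw [Subgroup.mem_normalizer_iff]
      intro y
      constructor
      · intro hy; exact hconjY t (hTz t ht) y hy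
      · intro hy
        have ht' : t⁻¹ * z = z * t⁻¹ := by
          have := hTz t ht
          calc t⁻¹ * z = t⁻¹ * (z * t) * t⁻¹ := by group
            _ = t⁻¹ * (t * z) * t⁻¹ := by rw [this]
            _ = z * t⁻¹ := by group
        have := hconjY t⁻¹ ht' _ hy
        simpa [mul_assoc] using this
    have h1 : IsPGroup 2 ↥((T : Subgroup G) ⊔ Y) := IsPGroup.to_sup_of_normal_right' T.isPGroup' hY2 hTN
    have h2 := T.is_maximal' h1 le_sup_left
    rw [← h2]; exact le_sup_right
  obtain ⟨R, hR⟩ := sylow_inf_subnormal 2 L hL.1 T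
  have hReq : (R : Subgroup ↥L) = (Subgroup.centralizer ({a} : Set G)).subgroupOf L := by
    rw [hR]
    ext ⟨l, hl⟩
    rw [Subgroup.mem_subgroupOf, Subgroup.mem_subgroupOf, Subgroup.mem_centralizer_singleton_iff]
    constructor
    · intro hlT
      exact (h.comm_iff hl).mp (hTz l hlT)
    · intro hla
      apply hYT
      rw [hmemY]
      exact ⟨component_le_layer hL hl, (h.comm_iff hl).mpr hla⟩
  have hRa : ∀ x : ↥(R : Subgroup ↥L), ((x : ↥L) : G) * a = a * ((x : ↥L) : G) := by
    intro x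
    have h1 : (x : ↥L) ∈ (Subgroup.centralizer ({a} : Set G)).subgroupOf L := by
      rw [← hReq]; exact x.2
    rw [Subgroup.mem_subgroupOf, Subgroup.mem_centralizer_singleton_iff] at h1
    exact h1
  have hmemza : ∀ g : G, g = 1 ∨ g = a → g ∈ Subgroup.zpowers a := by
    intro g hg
    rcases hg with rfl | rfl
    · exact Subgroup.one_mem _
    · exact Subgroup.mem_zpowers _
  have hfrat : (frattini ↥(R : Subgroup ↥L)).map ((L.subtype).comp (R : Subgroup ↥L).subtype) ≤
      Subgroup.zpowers a := by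
    rw [Subgroup.map_le_iff_le_comap]
    apply frattini_le_of_forall (p := 2)
    · intro x
      rw [Subgroup.mem_comap]
      apply hmemza
      have := h.sq_mem hbu (x : ↥L).2 (hRa x)
      simpa [pow_two] using this
    · intro x y
      rw [Subgroup.mem_comap]
      apply hmemza
      have := h.comm_mem hbu (x : ↥L).2 (hRa x) (y : ↥L).2 (hRa y)
      simpa using this
  have hQne : Q ≠ (Cfsg.pCore 2 ↥(Subgroup.centralizer ({z} : Set G))).map
      (Subgroup.centralizer ({z} : Set G)).subtype := by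
    intro e
    apply h.not_sub_Q
    intro x hxL hxa
    obtain ⟨C, hC⟩ : ∃ C : Subgroup G, C = Subgroup.centralizer ({z} : Set G) := ⟨_, rfl⟩
    rw [← hC] at e
    have hxz : x * z = z * x := (h.comm_iff hxL).mpr hxa
    have hxC : x ∈ C := by
      rw [hC, Subgroup.mem_centralizer_singleton_iff]; exact hxz
    have hNn : ((Cfsg.layer G).subgroupOf C).Normal := hlayern.subgroupOf C
    have hN2 : IsPGroup 2 ↥((Cfsg.layer G).subgroupOf C) := by
      rintro ⟨⟨g, hgC⟩, hgN⟩
      have hgE : g ∈ Cfsg.layer G := Subgroup.mem_subgroupOf.mp hgN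
      have hgz : g * z = z * g := by
        rw [hC, Subgroup.mem_centralizer_singleton_iff] at hgC; exact hgC
      obtain ⟨N, hN⟩ := hY2' g ((hmemY g).mpr ⟨hgE, hgz⟩)
      refine ⟨N, ?_⟩
      apply Subtype.ext; apply Subtype.ext
      rw [Subgroup.coe_pow, Subgroup.coe_pow]
      exact hN
    have hle := le_pCore hNn hN2
    have hx' : (⟨x, hxC⟩ : ↥C) ∈ (Cfsg.layer G).subgroupOf C :=
      Subgroup.mem_subgroupOf.mpr (component_le_layer hL hxL)
    rw [e]
    exact ⟨⟨x, hxC⟩, hle hx', rfl⟩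
  have hzeq : z = a * (u * a * u⁻¹) := by rw [← hbu]; exact h.hz
  refine ⟨by rw [hMlayer, hS.genFit_eq_layer hO], L, u, h.hu, h.simple, ?_, ?_, ?_, ?_, a, h.ha,
    hzeq, ⟨R, hReq, hfrat⟩, hQne⟩
  · intro hc
    apply h.nc
    intro x hx y hy
    have := hc.is_comm.comm ⟨x, hx⟩ ⟨y, hy⟩
    exact congrArg (fun t : ↥L => (t : G)) this
  · rw [← hinf, hL'def]
  · intro x hx y hy
    exact hcomm x hx y (by rw [hL'def]; exact hy)
  · rw [hMlayer, hlayer, hL'def]

/-- The structure theorem for the normal closure of the centre of a large extraspecial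
2-subgroup. -/
theorem Setup.main (hS : Setup Q z) (M : Subgroup G)
    (hM : M = Subgroup.normalClosure ({z} : Set G)) :
    Q.Normal ∨ (IsMulCommutative ↥M ∧ Cfsg.generalizedFittingSubgroup G = Cfsg.pCore 2 G) ∨
    (M = Cfsg.generalizedFittingSubgroup G ∧ IsSimpleGroup ↥M ∧ ¬ IsMulCommutative ↥M) ∨
    (M = Cfsg.generalizedFittingSubgroup G ∧ ∃ (L : Subgroup G) (u : G), u ∈ Q ∧
      IsSimpleGroup ↥L ∧ ¬ IsMulCommutative ↥L ∧
      L ⊓ (L).map (MulAut.conj u).toMonoidHom = ⊥ ∧
      (∀ x ∈ L, ∀ y ∈ (L).map (MulAut.conj u).toMonoidHom, x * y = y * x) ∧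
      L ⊔ (L).map (MulAut.conj u).toMonoidHom = M ∧
      ∃ z₁ ∈ L, z = z₁ * (u * z₁ * u⁻¹) ∧
        (∃ R : Sylow 2 ↥L, (R : Subgroup ↥L) =
            (Subgroup.centralizer ({z₁} : Set G)).subgroupOf L ∧
          (frattini ↥(R : Subgroup ↥L)).map ((L.subtype).comp (R : Subgroup ↥L).subtype) ≤
            Subgroup.zpowers z₁) ∧
        Q ≠ (Cfsg.pCore 2 ↥(Subgroup.centralizer ({z} : Set G))).map
          (Subgroup.centralizer ({z} : Set G)).subtype) := by
  by_cases hO : Cfsg.pCore 2 G = ⊥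
  · obtain ⟨L, hL⟩ := hS.exists_component hO
    by_cases hinv : ∀ q ∈ Q, ∀ k ∈ L, q * k * q⁻¹ ∈ L
    · right; right; left
      exact hS.final_single hO hL (hS.mem_component_of_invariant hL hinv) M hM
    · right; right; right
      push Not at hinv
      obtain ⟨u₀, hu₀, k, hk, hku⟩ := hinv
      have hzE := layer_le_sup_centralizer hL (hS.z_mem_layer hO)
      obtain ⟨a, ha, b, hb, hzab⟩ := mem_sup_of_commute L (Subgroup.centralizer (L : Set G))
        (fun x hx y hy => (Subgroup.mem_centralizer_iff.mp hy x hx)) hzE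
      have hbL : ∀ x ∈ L, x * b = b * x :=
        fun x hx => (Subgroup.mem_centralizer_iff.mp hb x hx)
      have hctx : ∀ w ∈ Q, (¬ ∀ x ∈ L, w * x * w⁻¹ ∈ L) → PairCtx Q z L w a b := by
        intro w hw hnw
        exact
          { S := hS
            hu := hw
            comp := comp_conj_or hL
            hne := hnw
            cL := fun c hc hcc => hS.comp_center hO hL c hc hcc
            ha := ha
            hb := hbL
            hz := hzab
            ncz := hS.component_not_centralize hL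
            simple := hS.comp_simple hO hL
            nc := component_not_commutative hL
            zL := hS.layer_normalizes hO hL z (hS.z_mem_layer hO) }
      have h0 := hctx u₀ hu₀ (fun hall => hku (hall k hk))
      obtain ⟨w, hw, hnw, hzz⟩ := h0.exists_pair
      exact hS.final_pair hO hL (hctx w hw hnw) hzz M hM
  · right; left
    exact hS.case_pCore_ne_bot hO M hM

end Cfsg.Agent.Helper3.Lxs
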