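import Mathlib
import Cfsg.Prelude.Def_Characters
import Cfsg.Agent.Helper6.ColumnOrth
import Cfsg.Agent.Helper6.Linear
import Cfsg.Agent.Helper6.IrrBasis
import Cfsg.Agent.Helper4.M11_Eig10

/-!
# M11 cluster, piece C10-COUNT (helper3; architect helper2)

If `z` has order 10 and `C_G(z^j)` has order 10 for `j = 1, 3, 7, 9`, then column orthogonality
gives `∑_χ ∑_j |χ(z^j)|² = 40`.  Together with the eigenvalue inequality `eig10` (helper4) this
contradicts the existence of three characters of degree 10 vanishing on the 5-elements `z^(2k)`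
whose values `a_i` at the involution `z^5` satisfy `∑ |a_i| (10 - |a_i|) ≥ 40`.
-/

set_option autoImplicit false
set_option linter.style.haveILetI false

namespace Cfsg.Agent.Helper2.M11

open scoped ComplexConjugate
open Cfsg.Agent.Helper6 Module

universe u

variable {G : Type u} [Group G]

/-- The sum of the squared absolute values of `χ` at `z, z^3, z^7, z^9`. -/
noncomputable def h3_oddSq (z : G) (χ : G → ℂ) : ℝ :=
  ‖χ z‖ ^ 2 + ‖χ (z ^ 3)‖ ^ 2 + ‖χ (z ^ 7)‖ ^ 2 + ‖χ (z ^ 9)‖ ^ 2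

theorem h3_oddSq_nonneg (z : G) (χ : G → ℂ) : 0 ≤ h3_oddSq z χ := by
  unfold h3_oddSq
  positivity

/-- Second orthogonality relation at `(g, g)` in real form. -/
theorem h3_sum_norm_sq [Fintype G] [Fintype (Cfsg.IrrCharacter G)] (g : G) :
    ∑ χ : Cfsg.IrrCharacter G, ‖(χ : G → ℂ) g‖ ^ 2 =
      (Nat.card (Subgroup.centralizer ({g} : Set G)) : ℝ) := by
  classical
  have h := column_orthogonality_aux g g
  rw [if_pos (IsConj.refl g)] at h
  have hterm : ∀ χ : Cfsg.IrrCharacter G,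
      (χ : G → ℂ) g * conj ((χ : G → ℂ) g) = ((‖(χ : G → ℂ) g‖ ^ 2 : ℝ) : ℂ) := by
    intro χ
    rw [Complex.mul_conj, Complex.normSq_eq_norm_sq]
  simp_rw [hterm] at h
  rw [← Complex.ofReal_sum] at h
  have h2 : ((Nat.card (Subgroup.centralizer ({g} : Set G)) : ℂ)) =
      (((Nat.card (Subgroup.centralizer ({g} : Set G)) : ℝ)) : ℂ) := by
    push_cast; rfl
  rw [h2] at h
  exact Complex.ofReal_injective h

/-- **The 40-count.**  If the centralizers of `z, z^3, z^7, z^9` all have order 10, then for any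
set `S` of irreducible characters, `∑_{χ ∈ S} ∑_{j = 1,3,7,9} |χ(z^j)|² ≤ 40`. -/
theorem h3_count40 [Fintype G] [Fintype (Cfsg.IrrCharacter G)] (z : G)
    (hC1 : Nat.card (Subgroup.centralizer ({z} : Set G)) = 10)
    (hC3 : Nat.card (Subgroup.centralizer ({z ^ 3} : Set G)) = 10)
    (hC7 : Nat.card (Subgroup.centralizer ({z ^ 7} : Set G)) = 10)
    (hC9 : Nat.card (Subgroup.centralizer ({z ^ 9} : Set G)) = 10)
    (S : Finset (Cfsg.IrrCharacter G)) :
    ∑ χ ∈ S, h3_oddSq z (χ : G → ℂ) ≤ 40 := by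
  classical
  have htot : ∑ χ : Cfsg.IrrCharacter G, h3_oddSq z (χ : G → ℂ) = 40 := by
    unfold h3_oddSq
    rw [Finset.sum_add_distrib, Finset.sum_add_distrib, Finset.sum_add_distrib,
      h3_sum_norm_sq z, h3_sum_norm_sq (z ^ 3), h3_sum_norm_sq (z ^ 7), h3_sum_norm_sq (z ^ 9),
      hC1, hC3, hC7, hC9]
    norm_num
  rw [← htot]
  exact Finset.sum_le_sum_of_subset_of_nonneg (Finset.subset_univ S)
    (fun χ _ _ => h3_oddSq_nonneg z _)

/-- The trivial character is irreducible. -/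
theorem h3_isIrr_one : Cfsg.IsIrrCharacter G (fun _ => (1 : ℂ)) := by
  have := isIrrCharacter_of_hom (1 : G →* ℂˣ)
  simpa using this

/-- The eigenvalue inequality `eig10` for an irreducible character of degree 10. -/
theorem h3_eig10_irr [Finite G] (χ : Cfsg.IrrCharacter G) (z : G) (hz : z ^ 10 = 1)
    (hdeg : (χ : G → ℂ) 1 = 10)
    (h2 : (χ : G → ℂ) (z ^ 2) = 0) (h4 : (χ : G → ℂ) (z ^ 4) = 0)
    (h6 : (χ : G → ℂ) (z ^ 6) = 0) (h8 : (χ : G → ℂ) (z ^ 8) = 0)
    (a : ℤ) (ha : (χ : G → ℂ) (z ^ 5) = (a : ℂ)) :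
    ((|a| * (10 - |a|) : ℤ) : ℝ) ≤ h3_oddSq z (χ : G → ℂ) := by
  obtain ⟨n, ρ, _, hρ⟩ := χ.2
  have hdim : Module.finrank ℂ (Fin n → ℂ) = 10 := by
    have h1 : ρ.character 1 = (Module.finrank ℂ (Fin n → ℂ) : ℂ) := Representation.char_one ρ
    rw [hρ, hdeg] at h1
    have : ((10 : ℕ) : ℂ) = (Module.finrank ℂ (Fin n → ℂ) : ℂ) := by
      rw [← h1]; norm_num
    exact (Nat.cast_injective this).symm
  unfold h3_oddSq
  rw [← hρ]
  rw [← hρ] at h2 h4 h6 h8 ha
  exact eig10 ρ z hz hdim h2 h4 h6 h8 a ha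

/-- **C10, case A.**  No element `z` of order 10 with `|C(z^j)| = 10` (`j = 1,3,7,9`) can exist
if there are three distinct irreducible characters of degree 10 vanishing at `z^2, z^4, z^6, z^8`
whose integer values `a i` at `z^5` satisfy `40 ≤ ∑ |a i| (10 - |a i|)`. -/
theorem h3_no_order10_caseA [Finite G] (z : G) (hz : z ^ 10 = 1)
    (hC1 : Nat.card (Subgroup.centralizer ({z} : Set G)) = 10)
    (hC3 : Nat.card (Subgroup.centralizer ({z ^ 3} : Set G)) = 10)
    (hC7 : Nat.card (Subgroup.centralizer ({z ^ 7} : Set G)) = 10)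
    (hC9 : Nat.card (Subgroup.centralizer ({z ^ 9} : Set G)) = 10)
    (X : Fin 3 → Cfsg.IrrCharacter G) (hX : Function.Injective X)
    (hdeg : ∀ i, (X i : G → ℂ) 1 = 10)
    (h2 : ∀ i, (X i : G → ℂ) (z ^ 2) = 0) (h4 : ∀ i, (X i : G → ℂ) (z ^ 4) = 0)
    (h6 : ∀ i, (X i : G → ℂ) (z ^ 6) = 0) (h8 : ∀ i, (X i : G → ℂ) (z ^ 8) = 0)
    (a : Fin 3 → ℤ) (ha : ∀ i, (X i : G → ℂ) (z ^ 5) = (a i : ℂ))
    (hsum : 40 ≤ ∑ i, |a i| * (10 - |a i|)) : False := by
  classical
  haveI : Fintype G := Fintype.ofFinite G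
  haveI : Finite (Cfsg.IrrCharacter G) := irr_finite
  haveI : Fintype (Cfsg.IrrCharacter G) := Fintype.ofFinite _
  set t : Cfsg.IrrCharacter G := ⟨fun _ => (1 : ℂ), h3_isIrr_one⟩ with ht
  have htX : t ∉ Finset.univ.image X := by
    intro hmem
    obtain ⟨i, _, hi⟩ := Finset.mem_image.1 hmem
    have h1 := hdeg i
    rw [hi] at h1
    norm_num [ht] at h1
  have hcount := h3_count40 z hC1 hC3 hC7 hC9 (insert t (Finset.univ.image X))
  rw [Finset.sum_insert htX, Finset.sum_image (fun i _ j _ h => hX h)] at hcount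
  have htriv : h3_oddSq z (t : G → ℂ) = 4 := by
    unfold h3_oddSq
    norm_num [ht]
  have hlow : ((∑ i, |a i| * (10 - |a i|) : ℤ) : ℝ) ≤ ∑ i, h3_oddSq z (X i : G → ℂ) := by
    rw [Int.cast_sum]
    apply Finset.sum_le_sum
    intro i _
    exact h3_eig10_irr (X i) z hz (hdeg i) (h2 i) (h4 i) (h6 i) (h8 i) (a i) (ha i)
  have h40 : (40 : ℝ) ≤ ((∑ i, |a i| * (10 - |a i|) : ℤ) : ℝ) := by
    have : ((40 : ℤ) : ℝ) ≤ ((∑ i, |a i| * (10 - |a i|) : ℤ) : ℝ) := Int.cast_le.2 hsum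
    simpa using this
  rw [htriv] at hcount
  linarith

end Cfsg.Agent.Helper2.M11
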