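import Mathlib
import Cfsg.Agent.Helper3.M11_C10
import Cfsg.Agent.Helper4.M11_Eig5

/-!
# M11 cluster, piece C10-COUNT, case B (helper3; architect helper2)

The same 40-count as in `M11_C10.lean`, now with two characters of degree 5 (whose restriction to
`⟨z^2⟩` is regular) and two characters of degree 10 vanishing on the 5-elements `z^(2k)`.
-/

set_option autoImplicit false
set_option linter.style.haveILetI false

namespace Cfsg.Agent.Helper2.M11

open scoped ComplexConjugate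
open Cfsg.Agent.Helper6 Module

universe u

variable {G : Type u} [Group G]

/-- The eigenvalue equality `eig10_deg5` for an irreducible character of degree 5. -/
theorem h3_eig5_irr [Finite G] (χ : Cfsg.IrrCharacter G) (z : G) (hz : z ^ 10 = 1)
    (hdeg : (χ : G → ℂ) 1 = 5)
    (h2 : (χ : G → ℂ) (z ^ 2) = 0) (h4 : (χ : G → ℂ) (z ^ 4) = 0)
    (h6 : (χ : G → ℂ) (z ^ 6) = 0) (h8 : (χ : G → ℂ) (z ^ 8) = 0)
    (a : ℤ) (ha : (χ : G → ℂ) (z ^ 5) = (a : ℂ)) :
    h3_oddSq z (χ : G → ℂ) = 25 - (a : ℝ) ^ 2 := by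
  obtain ⟨n, ρ, _, hρ⟩ := χ.2
  have hdim : Module.finrank ℂ (Fin n → ℂ) = 5 := by
    have h1 : ρ.character 1 = (Module.finrank ℂ (Fin n → ℂ) : ℂ) := Representation.char_one ρ
    rw [hρ, hdeg] at h1
    have : ((5 : ℕ) : ℂ) = (Module.finrank ℂ (Fin n → ℂ) : ℂ) := by
      rw [← h1]; norm_num
    exact (Nat.cast_injective this).symm
  unfold h3_oddSq
  rw [← hρ]
  rw [← hρ] at h2 h4 h6 h8 ha
  exact eig10_deg5 ρ z hz hdim h2 h4 h6 h8 a ha

/-- **C10, case B.**  No element `z` with `z ^ 10 = 1` and `|C(z^j)| = 10` (`j = 1,3,7,9`) can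
exist if there are two distinct irreducible characters of degree 5 and two distinct irreducible
characters of degree 10, all vanishing at `z^2, z^4, z^6, z^8`, whose integer values `l i`, `a i`
at `z^5` satisfy `36 < ∑ (25 - l i ^ 2) + ∑ |a i| (10 - |a i|)`. -/
theorem h3_no_order10_caseB [Finite G] (z : G) (hz : z ^ 10 = 1)
    (hC1 : Nat.card (Subgroup.centralizer ({z} : Set G)) = 10)
    (hC3 : Nat.card (Subgroup.centralizer ({z ^ 3} : Set G)) = 10)
    (hC7 : Nat.card (Subgroup.centralizer ({z ^ 7} : Set G)) = 10)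
    (hC9 : Nat.card (Subgroup.centralizer ({z ^ 9} : Set G)) = 10)
    (L : Fin 2 → Cfsg.IrrCharacter G) (hL : Function.Injective L)
    (hLdeg : ∀ i, (L i : G → ℂ) 1 = 5)
    (hL2 : ∀ i, (L i : G → ℂ) (z ^ 2) = 0) (hL4 : ∀ i, (L i : G → ℂ) (z ^ 4) = 0)
    (hL6 : ∀ i, (L i : G → ℂ) (z ^ 6) = 0) (hL8 : ∀ i, (L i : G → ℂ) (z ^ 8) = 0)
    (l : Fin 2 → ℤ) (hl : ∀ i, (L i : G → ℂ) (z ^ 5) = (l i : ℂ))
    (X : Fin 2 → Cfsg.IrrCharacter G) (hX : Function.Injective X)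
    (hdeg : ∀ i, (X i : G → ℂ) 1 = 10)
    (h2 : ∀ i, (X i : G → ℂ) (z ^ 2) = 0) (h4 : ∀ i, (X i : G → ℂ) (z ^ 4) = 0)
    (h6 : ∀ i, (X i : G → ℂ) (z ^ 6) = 0) (h8 : ∀ i, (X i : G → ℂ) (z ^ 8) = 0)
    (a : Fin 2 → ℤ) (ha : ∀ i, (X i : G → ℂ) (z ^ 5) = (a i : ℂ))
    (hsum : 36 < ∑ i, (25 - l i ^ 2) + ∑ i, |a i| * (10 - |a i|)) : False := by
  classical
  haveI : Fintype G := Fintype.ofFinite G
  haveI : Finite (Cfsg.IrrCharacter G) := irr_finite
  haveI : Fintype (Cfsg.IrrCharacter G) := Fintype.ofFinite _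
  set t : Cfsg.IrrCharacter G := ⟨fun _ => (1 : ℂ), h3_isIrr_one⟩ with ht
  have hdisj : Disjoint (Finset.univ.image L) (Finset.univ.image X) := by
    rw [Finset.disjoint_left]
    intro χ h1 h2'
    obtain ⟨i, _, hi⟩ := Finset.mem_image.1 h1
    obtain ⟨j, _, hj⟩ := Finset.mem_image.1 h2'
    have e1 := hLdeg i
    have e2 := hdeg j
    rw [hi] at e1
    rw [hj, e1] at e2
    norm_num at e2
  have htLX : t ∉ Finset.univ.image L ∪ Finset.univ.image X := by
    intro hmem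
    rcases Finset.mem_union.1 hmem with hmem | hmem
    · obtain ⟨i, _, hi⟩ := Finset.mem_image.1 hmem
      have h1 := hLdeg i
      rw [hi] at h1
      norm_num [ht] at h1
    · obtain ⟨i, _, hi⟩ := Finset.mem_image.1 hmem
      have h1 := hdeg i
      rw [hi] at h1
      norm_num [ht] at h1
  have hcount := h3_count40 z hC1 hC3 hC7 hC9
    (insert t (Finset.univ.image L ∪ Finset.univ.image X))
  rw [Finset.sum_insert htLX, Finset.sum_union hdisj,
    Finset.sum_image (fun i _ j _ h => hL h), Finset.sum_image (fun i _ j _ h => hX h)] at hcount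
  have htriv : h3_oddSq z (t : G → ℂ) = 4 := by
    unfold h3_oddSq
    norm_num [ht]
  have hlowX : ((∑ i, |a i| * (10 - |a i|) : ℤ) : ℝ) ≤ ∑ i, h3_oddSq z (X i : G → ℂ) := by
    rw [Int.cast_sum]
    apply Finset.sum_le_sum
    intro i _
    exact h3_eig10_irr (X i) z hz (hdeg i) (h2 i) (h4 i) (h6 i) (h8 i) (a i) (ha i)
  have hlowL : ((∑ i, (25 - l i ^ 2) : ℤ) : ℝ) = ∑ i, h3_oddSq z (L i : G → ℂ) := by
    rw [Int.cast_sum]
    apply Finset.sum_congr rfl
    intro i _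
    rw [h3_eig5_irr (L i) z hz (hLdeg i) (hL2 i) (hL4 i) (hL6 i) (hL8 i) (l i) (hl i)]
    push_cast
    ring
  have h36 : ((36 : ℤ) : ℝ) <
      ((∑ i, (25 - l i ^ 2) + ∑ i, |a i| * (10 - |a i|) : ℤ) : ℝ) := Int.cast_lt.2 hsum
  rw [Int.cast_add] at h36
  rw [htriv] at hcount
  have h36' : (36 : ℝ) < ((∑ i, (25 - l i ^ 2) : ℤ) : ℝ) +
      ((∑ i, |a i| * (10 - |a i|) : ℤ) : ℝ) := by
    simpa using h36
  linarith

end Cfsg.Agent.Helper2.M11
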