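import Mathlib
import Cfsg.Agent.Helper2.M11_Case
import Cfsg.Agent.Helper8.M11_InvA
import Cfsg.Agent.Helper1.M11_C10g
import Cfsg.Agent.Helper3.M11_C10
import Cfsg.Agent.Helper3.M11_L1
import Cfsg.Agent.Helper6.BlockPart

/-!
# M11 cluster, C10 assembly in case A (helper3; architect helper2)

In case A the Sylow 5-subgroups of a simple group of order 7920 are self-centralizing.  The
Diophantine kernel `kerA_720` (helper9) enters as the hypothesis `hker`.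
-/

set_option autoImplicit false
set_option linter.style.haveILetI false
set_option maxHeartbeats 800000

namespace Cfsg.Agent.Helper2.M11

open scoped ComplexConjugate
open Cfsg.Agent.Helper6

universe u

variable {G : Type u} [Group G]

/-- the value of an irreducible character at `1` from its degree -/
theorem h3_val_one (χ : Cfsg.IrrCharacter G) (n : ℕ)
    (h : Cfsg.charDegree (χ : G → ℂ) = n) : (χ : G → ℂ) 1 = (n : ℂ) := by
  rw [← charDegree_cast_of_isCharacter (IsIrrCharacter.isCharacter χ.2), h]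

/-- the squared norm of an integer -/
theorem h3_norm_int_sq (a : ℤ) : ‖(a : ℂ)‖ ^ 2 = ((a ^ 2 : ℤ) : ℝ) := by
  rw [Complex.norm_intCast, sq_abs]
  push_cast
  ring

/-- The norm bound: in case A the seven characters of the principal block contribute
`1 + Σ aᵢ² + b² + 2 ℓ²` to `|C(u)|`. -/
theorem h3_norm_bound_caseA [Fintype G] [Fintype (Cfsg.IrrCharacter G)] {K : Subgroup G}
    (A : CaseA K) (u : G) (a₁ a₂ a₃ b ℓ : ℤ)
    (hX1 : (A.X₁ : G → ℂ) u = a₁) (hX2 : (A.X₂ : G → ℂ) u = a₂) (hX3 : (A.X₃ : G → ℂ) u = a₃)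
    (hY : (A.Y : G → ℂ) u = b) (hL0 : (A.Λ₀ : G → ℂ) u = ℓ) (hL1 : (A.Λ₁ : G → ℂ) u = ℓ) :
    ((1 + a₁ ^ 2 + a₂ ^ 2 + a₃ ^ 2 + b ^ 2 + 2 * ℓ ^ 2 : ℤ) : ℝ) ≤
      (Nat.card (Subgroup.centralizer ({u} : Set G)) : ℝ) := by
  classical
  rw [← h3_sum_norm_sq u]
  have hsub : ∑ χ ∈ [triv G, A.Λ₀, A.Λ₁, A.Y, A.X₁, A.X₂, A.X₃].toFinset,
      ‖(χ : G → ℂ) u‖ ^ 2 ≤ ∑ χ : Cfsg.IrrCharacter G, ‖(χ : G → ℂ) u‖ ^ 2 :=
    Finset.sum_le_sum_of_subset_of_nonneg (Finset.subset_univ _)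
      (fun χ _ _ => by positivity)
  refine le_trans (le_of_eq ?_) hsub
  rw [List.sum_toFinset _ A.nodup]
  simp only [List.map_cons, List.map_nil, List.sum_cons, List.sum_nil]
  rw [hX1, hX2, hX3, hY, hL0, hL1]
  have ht : ((triv G : Cfsg.IrrCharacter G) : G → ℂ) u = ((1 : ℤ) : ℂ) := by
    simp [triv]
  rw [ht]
  simp only [h3_norm_int_sq]
  push_cast
  ring

/-- **C10, case A.**  With the Diophantine kernel `hker`, the Sylow 5-subgroups are
self-centralizing in case A. -/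
theorem h3_c10_caseA [Finite G] (hG : Cfsg.IsM11 G) (P : Sylow 11 G)
    (A : CaseA (P : Subgroup G))
    (hker : ∀ a₁ a₂ a₃ b ℓ : ℤ, b = a₁ + a₂ + a₃ + ℓ - 1 →
      720 + 16 * b ^ 2 = 72 * (a₁ ^ 2 + a₂ ^ 2 + a₃ ^ 2) + 45 * ℓ ^ 2 →
      Even a₁ → Even a₂ → Even a₃ → Odd b → Even ℓ →
      1 + a₁ ^ 2 + a₂ ^ 2 + a₃ ^ 2 + b ^ 2 + 2 * ℓ ^ 2 ≤ 720 →
      40 ≤ |a₁| * (10 - |a₁|) + |a₂| * (10 - |a₂|) + |a₃| * (10 - |a₃|))
    (Q : Sylow 5 G) :
    Subgroup.centralizer ((Q : Subgroup G) : Set G) = (Q : Subgroup G) := by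
  classical
  by_contra hne
  haveI : Fintype G := Fintype.ofFinite G
  haveI : Finite (Cfsg.IrrCharacter G) := irr_finite
  haveI : Fintype (Cfsg.IrrCharacter G) := Fintype.ofFinite _
  haveI : Fact (Nat.Prime 11) := ⟨by norm_num⟩
  obtain ⟨z, hz10, hzN, hzC⟩ := exists_order10 hG P ⟨Q, hne⟩
  have hz10' : z ^ 10 = 1 := by rw [← hz10]; exact pow_orderOf_eq_one z
  have hu : orderOf (z ^ 5) = 2 := by
    rw [orderOf_pow' z (by norm_num), hz10]
    rfl
  -- a generator of `P`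
  have hP11 : Nat.card (P : Subgroup G) = 11 := card_sylow11_subgroup hG.2 P
  obtain ⟨s, hs⟩ : ∃ s : (P : Subgroup G), orderOf s = 11 :=
    exists_prime_orderOf_dvd_card' 11 (by rw [hP11])
  have hsP : (s : G) ∈ (P : Subgroup G) := s.2
  have hs11 : orderOf (s : G) = 11 := by rw [Subgroup.orderOf_coe]; exact hs
  obtain ⟨a₁, a₂, a₃, b, ℓ, hX1, hX2, hX3, hY, hL0, hL1, e1, e2, p1, p2, p3, p4, p5⟩ :=
    inv_caseA A (s : G) hsP hs11 (fun g hg => no_invert hG (s : G) hs11 g hg) (z ^ 5) hu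
  -- norm bound
  have hnorm : 1 + a₁ ^ 2 + a₂ ^ 2 + a₃ ^ 2 + b ^ 2 + 2 * ℓ ^ 2 ≤ 720 := by
    have h1 := h3_norm_bound_caseA A (z ^ 5) a₁ a₂ a₃ b ℓ hX1 hX2 hX3 hY hL0 hL1
    have h2 : (Nat.card (Subgroup.centralizer ({z ^ 5} : Set G)) : ℝ) ≤ 720 := by
      exact_mod_cast card_centralizer_involution_le_720 hG (z ^ 5) hu
    have h3 : ((1 + a₁ ^ 2 + a₂ ^ 2 + a₃ ^ 2 + b ^ 2 + 2 * ℓ ^ 2 : ℤ) : ℝ) ≤ ((720 : ℤ) : ℝ) := by
      push_cast at h1 ⊢
      linarith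
    exact Int.cast_le.1 h3
  have h40 := hker a₁ a₂ a₃ b ℓ e1 e2 p1 p2 p3 p4 p5 hnorm
  -- vanishing at the 5-elements `z ^ (2 k)`
  have hvan : ∀ k : ℕ, orderOf (z ^ (2 * k)) = 5 →
      z ^ (2 * k) ∈ Subgroup.normalizer (((P : Subgroup G)) : Set G) ∧
        z ^ (2 * k) ∉ (P : Subgroup G) := by
    intro k hk
    constructor
    · rw [pow_mul]
      exact Subgroup.pow_mem _ hzN k
    · intro hmem
      have hd : orderOf (⟨z ^ (2 * k), hmem⟩ : (P : Subgroup G)) ∣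
          Nat.card (P : Subgroup G) := orderOf_dvd_natCard _
      rw [hP11, Subgroup.orderOf_mk, hk] at hd
      norm_num at hd
  have ho2 : orderOf (z ^ (2 * 1)) = 5 := by rw [orderOf_pow' z (by norm_num), hz10]; rfl
  have ho4 : orderOf (z ^ (2 * 2)) = 5 := by rw [orderOf_pow' z (by norm_num), hz10]; rfl
  have ho6 : orderOf (z ^ (2 * 3)) = 5 := by rw [orderOf_pow' z (by norm_num), hz10]; rfl
  have ho8 : orderOf (z ^ (2 * 4)) = 5 := by rw [orderOf_pow' z (by norm_num), hz10]; rfl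
  have hne12 : A.X₁ ≠ A.X₂ := by
    have := A.nodup
    simp only [List.nodup_cons, List.mem_cons, not_or] at this
    tauto
  have hne13 : A.X₁ ≠ A.X₃ := by
    have := A.nodup
    simp only [List.nodup_cons, List.mem_cons, not_or] at this
    tauto
  have hne23 : A.X₂ ≠ A.X₃ := by
    have := A.nodup
    simp only [List.nodup_cons, List.mem_cons, not_or] at this
    tauto
  have hinj : Function.Injective (![A.X₁, A.X₂, A.X₃] : Fin 3 → Cfsg.IrrCharacter G) := by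
    intro i j hij
    fin_cases i <;> fin_cases j <;> simp_all
  apply h3_no_order10_caseA z hz10'
    (by simpa using hzC 1 (by decide)) (hzC 3 (by decide)) (hzC 7 (by decide))
    (hzC 9 (by decide)) ![A.X₁, A.X₂, A.X₃] hinj ?_ ?_ ?_ ?_ ?_ ![a₁, a₂, a₃] ?_ ?_
  · intro i
    fin_cases i
    · exact_mod_cast h3_val_one A.X₁ 10 A.degX₁
    · exact_mod_cast h3_val_one A.X₂ 10 A.degX₂
    · exact_mod_cast h3_val_one A.X₃ 10 A.degX₃
  · intro i
    have h := hvan 1 ho2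
    fin_cases i
    · exact A.vanX₁ _ h.1 h.2
    · exact A.vanX₂ _ h.1 h.2
    · exact A.vanX₃ _ h.1 h.2
  · intro i
    have h := hvan 2 ho4
    fin_cases i
    · exact A.vanX₁ _ h.1 h.2
    · exact A.vanX₂ _ h.1 h.2
    · exact A.vanX₃ _ h.1 h.2
  · intro i
    have h := hvan 3 ho6
    fin_cases i
    · exact A.vanX₁ _ h.1 h.2
    · exact A.vanX₂ _ h.1 h.2
    · exact A.vanX₃ _ h.1 h.2
  · intro i
    have h := hvan 4 ho8
    fin_cases i
    · exact A.vanX₁ _ h.1 h.2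
    · exact A.vanX₂ _ h.1 h.2
    · exact A.vanX₃ _ h.1 h.2
  · intro i
    fin_cases i
    · exact hX1
    · exact hX2
    · exact hX3
  · rw [Fin.sum_univ_three]
    exact h40

end Cfsg.Agent.Helper2.M11
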