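import Mathlib
import Cfsg.Agent.Helper2.M11_Case
import Cfsg.Agent.Helper4.M11_InvB
import Cfsg.Agent.Helper1.M11_C10g
import Cfsg.Agent.Helper3.M11_C10B
import Cfsg.Agent.Helper3.M11_C10asmA
import Cfsg.Agent.Helper1.M11_Strict

/-!
# M11 cluster, C10 assembly in case B (helper3; architect helper2)

In case B the Sylow 5-subgroups of a simple group of order 7920 are self-centralizing.  The
Diophantine kernel `kerB_720` (helper9) enters as the hypothesis `hker`.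
-/

set_option autoImplicit false
set_option linter.style.haveILetI false
set_option maxHeartbeats 800000

namespace Cfsg.Agent.Helper2.M11

open scoped ComplexConjugate
open Cfsg.Agent.Helper6

universe u

variable {G : Type u} [Group G]

/-- The norm bound in case B. -/
theorem h3_norm_bound_caseB [Fintype G] [Fintype (Cfsg.IrrCharacter G)] {K : Subgroup G}
    (B : CaseB K) (u : G) (y₁ y₂ a₁ a₂ ℓ : ℤ)
    (hY1 : (B.Y₁ : G → ℂ) u = y₁) (hY2 : (B.Y₂ : G → ℂ) u = y₂)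
    (hX1 : (B.X₁ : G → ℂ) u = a₁) (hX2 : (B.X₂ : G → ℂ) u = a₂)
    (hL0 : (B.Λ₀ : G → ℂ) u = ℓ) (hL1 : (B.Λ₁ : G → ℂ) u = ℓ) :
    ((1 + y₁ ^ 2 + y₂ ^ 2 + a₁ ^ 2 + a₂ ^ 2 + 2 * ℓ ^ 2 : ℤ) : ℝ) ≤
      (Nat.card (Subgroup.centralizer ({u} : Set G)) : ℝ) := by
  classical
  rw [← h3_sum_norm_sq u]
  have hsub : ∑ χ ∈ [triv G, B.Λ₀, B.Λ₁, B.Y₁, B.Y₂, B.X₁, B.X₂].toFinset,
      ‖(χ : G → ℂ) u‖ ^ 2 ≤ ∑ χ : Cfsg.IrrCharacter G, ‖(χ : G → ℂ) u‖ ^ 2 :=
    Finset.sum_le_sum_of_subset_of_nonneg (Finset.subset_univ _)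
      (fun χ _ _ => by positivity)
  refine le_trans (le_of_eq ?_) hsub
  rw [List.sum_toFinset _ B.nodup]
  simp only [List.map_cons, List.map_nil, List.sum_cons, List.sum_nil]
  rw [hX1, hX2, hY1, hY2, hL0, hL1]
  have ht : ((triv G : Cfsg.IrrCharacter G) : G → ℂ) u = ((1 : ℤ) : ℂ) := by
    simp [triv]
  rw [ht]
  simp only [h3_norm_int_sq]
  push_cast
  ring

/-- **C10, case B.**  With the Diophantine kernel `hker`, the Sylow 5-subgroups are
self-centralizing in case B. -/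
theorem h3_c10_caseB [Finite G] (hG : Cfsg.IsM11 G) (P : Sylow 11 G)
    (B : CaseB (P : Subgroup G))
    (hker : ∀ y₁ y₂ a₁ a₂ ℓ : ℤ, 1 + y₁ + y₂ - a₁ - a₂ - ℓ = 0 →
      60 + 5 * (y₁ ^ 2 + y₂ ^ 2) = 6 * (a₁ ^ 2 + a₂ ^ 2) + 12 * ℓ ^ 2 →
      Even y₁ → Even y₂ → Even a₁ → Even a₂ → Odd ℓ →
      |y₁| < 12 → |y₂| < 12 → |a₁| < 10 → |a₂| < 10 → |ℓ| < 5 →
      37 ≤ 2 * (25 - ℓ ^ 2) + |a₁| * (10 - |a₁|) + |a₂| * (10 - |a₂|))
    (Q : Sylow 5 G) :
    Subgroup.centralizer ((Q : Subgroup G) : Set G) = (Q : Subgroup G) := by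
  classical
  by_contra hne
  haveI : Fintype G := Fintype.ofFinite G
  haveI : Finite (Cfsg.IrrCharacter G) := irr_finite
  haveI : Fintype (Cfsg.IrrCharacter G) := Fintype.ofFinite _
  haveI : Fact (Nat.Prime 11) := ⟨by norm_num⟩
  obtain ⟨z, hz10, hzN, hzC⟩ := exists_order10 hG P ⟨Q, hne⟩
  have hz10' : z ^ 10 = 1 := by rw [← hz10]; exact pow_orderOf_eq_one z
  have hu : orderOf (z ^ 5) = 2 := by
    rw [orderOf_pow' z (by norm_num), hz10]
    rfl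
  have hP11 : Nat.card (P : Subgroup G) = 11 := card_sylow11_subgroup hG.2 P
  obtain ⟨s, hs⟩ : ∃ s : (P : Subgroup G), orderOf s = 11 :=
    exists_prime_orderOf_dvd_card' 11 (by rw [hP11])
  have hsP : (s : G) ∈ (P : Subgroup G) := s.2
  have hs11 : orderOf (s : G) = 11 := by rw [Subgroup.orderOf_coe]; exact hs
  obtain ⟨y₁, y₂, a₁, a₂, ℓ, hY1, hY2, hX1, hX2, hL0, hL1, e1, e2, p1, p2, p3, p4, p5⟩ :=
    inv_caseB B (s : G) hsP hs11 (fun g hg => no_invert hG (s : G) hs11 g hg) (z ^ 5) hu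
  have hu1 : z ^ 5 ≠ 1 := by
    intro h
    rw [h, orderOf_one] at hu
    norm_num at hu
  have b1 : |y₁| < 12 := by
    have := h1_int_abs_lt_of_simple hG.1 B.Y₁ 12 (h3_val_one B.Y₁ 12 B.degY₁) (by norm_num)
      (z ^ 5) hu1 y₁ hY1
    exact_mod_cast this
  have b2 : |y₂| < 12 := by
    have := h1_int_abs_lt_of_simple hG.1 B.Y₂ 12 (h3_val_one B.Y₂ 12 B.degY₂) (by norm_num)
      (z ^ 5) hu1 y₂ hY2
    exact_mod_cast this
  have b3 : |a₁| < 10 := by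
    have := h1_int_abs_lt_of_simple hG.1 B.X₁ 10 (h3_val_one B.X₁ 10 B.degX₁) (by norm_num)
      (z ^ 5) hu1 a₁ hX1
    exact_mod_cast this
  have b4 : |a₂| < 10 := by
    have := h1_int_abs_lt_of_simple hG.1 B.X₂ 10 (h3_val_one B.X₂ 10 B.degX₂) (by norm_num)
      (z ^ 5) hu1 a₂ hX2
    exact_mod_cast this
  have b5 : |ℓ| < 5 := by
    have := h1_int_abs_lt_of_simple hG.1 B.Λ₀ 5 (h3_val_one B.Λ₀ 5 B.degΛ₀) (by norm_num)
      (z ^ 5) hu1 ℓ hL0
    exact_mod_cast this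
  have h37 := hker y₁ y₂ a₁ a₂ ℓ e1 e2 p1 p2 p3 p4 p5 b1 b2 b3 b4 b5
  have hvan : ∀ k : ℕ, orderOf (z ^ (2 * k)) = 5 →
      z ^ (2 * k) ∈ Subgroup.normalizer (((P : Subgroup G)) : Set G) ∧
        z ^ (2 * k) ∉ (P : Subgroup G) := by
    intro k hk
    constructor
    · rw [pow_mul]
      exact Subgroup.pow_mem _ hzN k
    · intro hmem
      have hd : orderOf (⟨z ^ (2 * k), hmem⟩ : (P : Subgroup G)) ∣
          Nat.card (P : Subgroup G) := orderOf_dvd_natCard _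
      rw [hP11, Subgroup.orderOf_mk, hk] at hd
      norm_num at hd
  have ho2 : orderOf (z ^ (2 * 1)) = 5 := by rw [orderOf_pow' z (by norm_num), hz10]; rfl
  have ho4 : orderOf (z ^ (2 * 2)) = 5 := by rw [orderOf_pow' z (by norm_num), hz10]; rfl
  have ho6 : orderOf (z ^ (2 * 3)) = 5 := by rw [orderOf_pow' z (by norm_num), hz10]; rfl
  have ho8 : orderOf (z ^ (2 * 4)) = 5 := by rw [orderOf_pow' z (by norm_num), hz10]; rfl
  have hneL : B.Λ₀ ≠ B.Λ₁ := by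
    have := B.nodup
    simp only [List.nodup_cons, List.mem_cons, not_or] at this
    tauto
  have hneX : B.X₁ ≠ B.X₂ := by
    have := B.nodup
    simp only [List.nodup_cons, List.mem_cons, not_or] at this
    tauto
  have hinjL : Function.Injective (![B.Λ₀, B.Λ₁] : Fin 2 → Cfsg.IrrCharacter G) := by
    intro i j hij
    fin_cases i <;> fin_cases j <;> simp_all
  have hinjX : Function.Injective (![B.X₁, B.X₂] : Fin 2 → Cfsg.IrrCharacter G) := by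
    intro i j hij
    fin_cases i <;> fin_cases j <;> simp_all
  apply h3_no_order10_caseB z hz10'
    (by simpa using hzC 1 (by decide)) (hzC 3 (by decide)) (hzC 7 (by decide))
    (hzC 9 (by decide)) ![B.Λ₀, B.Λ₁] hinjL ?_ ?_ ?_ ?_ ?_ ![ℓ, ℓ] ?_
    ![B.X₁, B.X₂] hinjX ?_ ?_ ?_ ?_ ?_ ![a₁, a₂] ?_ ?_
  · intro i
    fin_cases i
    · exact_mod_cast h3_val_one B.Λ₀ 5 B.degΛ₀
    · exact_mod_cast h3_val_one B.Λ₁ 5 B.degΛ₁
  · intro i
    have h := hvan 1 ho2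
    fin_cases i
    · exact B.vanΛ₀ _ h.1 h.2
    · exact B.vanΛ₁ _ h.1 h.2
  · intro i
    have h := hvan 2 ho4
    fin_cases i
    · exact B.vanΛ₀ _ h.1 h.2
    · exact B.vanΛ₁ _ h.1 h.2
  · intro i
    have h := hvan 3 ho6
    fin_cases i
    · exact B.vanΛ₀ _ h.1 h.2
    · exact B.vanΛ₁ _ h.1 h.2
  · intro i
    have h := hvan 4 ho8
    fin_cases i
    · exact B.vanΛ₀ _ h.1 h.2
    · exact B.vanΛ₁ _ h.1 h.2
  · intro i
    fin_cases i
    · exact hL0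
    · exact hL1
  · intro i
    fin_cases i
    · exact_mod_cast h3_val_one B.X₁ 10 B.degX₁
    · exact_mod_cast h3_val_one B.X₂ 10 B.degX₂
  · intro i
    have h := hvan 1 ho2
    fin_cases i
    · exact B.vanX₁ _ h.1 h.2
    · exact B.vanX₂ _ h.1 h.2
  · intro i
    have h := hvan 2 ho4
    fin_cases i
    · exact B.vanX₁ _ h.1 h.2
    · exact B.vanX₂ _ h.1 h.2
  · intro i
    have h := hvan 3 ho6
    fin_cases i
    · exact B.vanX₁ _ h.1 h.2
    · exact B.vanX₂ _ h.1 h.2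
  · intro i
    have h := hvan 4 ho8
    fin_cases i
    · exact B.vanX₁ _ h.1 h.2
    · exact B.vanX₂ _ h.1 h.2
  · intro i
    fin_cases i
    · exact hX1
    · exact hX2
  · rw [Fin.sum_univ_two, Fin.sum_univ_two]
    show 36 < (25 - ℓ ^ 2) + (25 - ℓ ^ 2) + (|a₁| * (10 - |a₁|) + |a₂| * (10 - |a₂|))
    linarith

end Cfsg.Agent.Helper2.M11
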