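import Mathlib
import Cfsg.Agent.Helper2.M11_Setup
import Cfsg.Agent.Helper2.M11_Ker
import Cfsg.Agent.Helper3.M11_C10asmA
import Cfsg.Agent.Helper3.M11_C10asmB

/-!
# M11 cluster, C10 final: Sylow 5-subgroups of a simple group of order 7920 are self-centralizing
(helper3; architect helper2)
-/

set_option autoImplicit false

namespace Cfsg.Agent.Helper2.M11

/-- **C10.**  In a simple group of order 7920 every Sylow 5-subgroup is self-centralizing. -/
theorem centralizer_sylow5 {G : Type*} [Group G] [Finite G] (hG : Cfsg.IsM11 G)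
    (Q : Sylow 5 G) :
    Subgroup.centralizer ((Q : Subgroup G) : Set G) = (Q : Subgroup G) := by
  haveI : Fact (Nat.Prime 11) := ⟨by norm_num⟩
  obtain ⟨P⟩ : Nonempty (Sylow 11 G) := inferInstance
  rcases exists_case hG P with ⟨⟨A⟩⟩ | ⟨⟨B⟩⟩
  · exact h3_c10_caseA hG P A kerA_720 Q
  · exact h3_c10_caseB hG P B kerB Q

end Cfsg.Agent.Helper2.M11
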