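import Mathlib
import Cfsg.Prelude.Def_Characters

/-!
# M11 cluster, piece VAN5 (helper3; architect helper2)

A generic vanishing lemma: if the restriction of a character `χ` to a finite subgroup `K` has no
trivial constituent (`∑_{k ∈ K} χ k = 0`) and `g` normalizes `K` acting fixed-point-freely, then
`χ g = 0`.
-/

set_option autoImplicit false
set_option linter.style.haveILetI false

namespace Cfsg.Agent.Helper2.M11

open Module

universe u

variable {G : Type u} [Group G]

/-- If `g` normalizes the finite subgroup `K` and acts on it without nontrivial fixed points,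
then every class function `χ` satisfies `∑_{k ∈ K} χ (k g) = |K| χ g`. -/
theorem h3_sum_mul_of_fpf (χ : G → ℂ) (hcl : ∀ a b : G, χ (b * a * b⁻¹) = χ a)
    (K : Subgroup G) [Fintype K] (g : G)
    (hnorm : ∀ k ∈ K, g * k * g⁻¹ ∈ K) (hfix : ∀ k ∈ K, g * k * g⁻¹ = k → k = 1) :
    ∑ k : K, χ ((k : G) * g) = (Fintype.card K : ℂ) * χ g := by
  classical
  -- the map `k ↦ k * (g * k * g⁻¹)⁻¹`
  let φ : K → K := fun k => ⟨(k : G) * (g * (k : G) * g⁻¹)⁻¹,
    K.mul_mem k.2 (K.inv_mem (hnorm k k.2))⟩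
  have hφg : ∀ k : K, ((φ k : K) : G) * g = (k : G) * g * (k : G)⁻¹ := by
    intro k
    show (k : G) * (g * (k : G) * g⁻¹)⁻¹ * g = (k : G) * g * (k : G)⁻¹
    group
  have hinj : Function.Injective φ := by
    intro k k' h
    have h1 : ((φ k : K) : G) * g = ((φ k' : K) : G) * g := by rw [h]
    rw [hφg, hφg] at h1
    -- `m = k'⁻¹ k` commutes with `g`
    have hm : ((k' : G)⁻¹ * (k : G)) ∈ K := K.mul_mem (K.inv_mem k'.2) k.2
    have hcomm : g * ((k' : G)⁻¹ * (k : G)) * g⁻¹ = (k' : G)⁻¹ * (k : G) := by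
      have h2 : (k' : G)⁻¹ * ((k : G) * g * (k : G)⁻¹) * (k : G) =
          (k' : G)⁻¹ * ((k' : G) * g * (k' : G)⁻¹) * (k : G) := by rw [h1]
      have h3 : (k' : G)⁻¹ * (k : G) * g = g * ((k' : G)⁻¹ * (k : G)) := by
        calc (k' : G)⁻¹ * (k : G) * g
            = (k' : G)⁻¹ * ((k : G) * g * (k : G)⁻¹) * (k : G) := by group
          _ = (k' : G)⁻¹ * ((k' : G) * g * (k' : G)⁻¹) * (k : G) := h2
          _ = g * ((k' : G)⁻¹ * (k : G)) := by group
      rw [← h3]
      group
    have h1' := hfix _ hm hcomm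
    apply Subtype.ext
    have : (k : G) = (k' : G) * ((k' : G)⁻¹ * (k : G)) := by group
    rw [this, h1', mul_one]
  have hbij : Function.Bijective φ := Finite.injective_iff_bijective.1 hinj
  have hsum : ∑ k : K, χ (((φ k : K) : G) * g) = ∑ k : K, χ ((k : G) * g) :=
    Fintype.sum_bijective φ hbij _ _ (fun _ => rfl)
  rw [← hsum]
  have hterm : ∀ k : K, χ (((φ k : K) : G) * g) = χ g := by
    intro k
    rw [hφg, hcl]
  simp_rw [hterm]
  rw [Finset.sum_const, Finset.card_univ, nsmul_eq_mul]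

/-- **VAN5 (generic).**  If `∑_{k ∈ K} χ k = 0` for a character `χ` and a finite subgroup `K`,
and `g` normalizes `K` acting fixed-point-freely, then `χ g = 0`. -/
theorem h3_vanish_of_fpf (χ : G → ℂ) (hχ : Cfsg.IsCharacter G χ)
    (K : Subgroup G) [Fintype K] (hsum : ∑ k : K, χ (k : G) = 0) (g : G)
    (hnorm : ∀ k ∈ K, g * k * g⁻¹ ∈ K) (hfix : ∀ k ∈ K, g * k * g⁻¹ = k → k = 1) :
    χ g = 0 := by
  classical
  obtain ⟨n, ρ, hρ⟩ := hχ
  have hcardne : (Fintype.card K : ℂ) ≠ 0 := by
    have : 0 < Fintype.card K := Fintype.card_pos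
    exact_mod_cast this.ne'
  -- the (unnormalized) averaging operator
  set E : (Fin n → ℂ) →ₗ[ℂ] (Fin n → ℂ) := ∑ k : K, ρ (k : G) with hE
  have hEE : E * E = (Fintype.card K : ℂ) • E := by
    rw [hE, Finset.sum_mul]
    have hrow : ∀ k : K, ρ (k : G) * ∑ l : K, ρ (l : G) = ∑ l : K, ρ (l : G) := by
      intro k
      rw [Finset.mul_sum]
      have : ∀ l : K, ρ (k : G) * ρ (l : G) = ρ (((k * l : K) : K) : G) := by
        intro l
        rw [Subgroup.coe_mul, map_mul]
      simp_rw [this]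
      exact Fintype.sum_equiv (Equiv.mulLeft k) _ _ (fun _ => rfl)
    simp_rw [hrow]
    rw [Finset.sum_const, Finset.card_univ, ← Nat.cast_smul_eq_nsmul ℂ]
  set e : (Fin n → ℂ) →ₗ[ℂ] (Fin n → ℂ) := (Fintype.card K : ℂ)⁻¹ • E with he
  have hidem : IsIdempotentElem e := by
    show e * e = e
    rw [he, smul_mul_smul_comm, hEE, smul_smul]
    congr 1
    field_simp
  have htrE : LinearMap.trace ℂ (Fin n → ℂ) E = 0 := by
    rw [hE, map_sum]
    have : ∀ k : K, LinearMap.trace ℂ (Fin n → ℂ) (ρ (k : G)) = χ (k : G) := by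
      intro k
      rw [← hρ]; rfl
    simp_rw [this]
    exact hsum
  have htre : LinearMap.trace ℂ (Fin n → ℂ) e = 0 := by
    rw [he, map_smul, htrE, smul_zero]
  have he0 : e = 0 := (LinearMap.IsIdempotentElem.trace_eq_zero_iff hidem).1 htre
  have hE0 : E = 0 := by
    have : (Fintype.card K : ℂ) • e = E := by
      rw [he, smul_smul, mul_inv_cancel₀ hcardne, one_smul]
    rw [← this, he0, smul_zero]
  -- trace of `E * ρ g`
  have htr : LinearMap.trace ℂ (Fin n → ℂ) (E * ρ g) = ∑ k : K, χ ((k : G) * g) := by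
    rw [hE, Finset.sum_mul, map_sum]
    apply Finset.sum_congr rfl
    intro k _
    rw [← map_mul, ← hρ]; rfl
  rw [hE0, zero_mul, map_zero] at htr
  have hcl : ∀ a b : G, χ (b * a * b⁻¹) = χ a := by
    intro a b
    rw [← hρ]
    exact Representation.char_conj ρ a b
  have hkey := h3_sum_mul_of_fpf χ hcl K g hnorm hfix
  rw [← htr] at hkey
  have := mul_eq_zero.1 hkey.symm
  rcases this with h | h
  · exact absurd h hcardne
  · exact h

/-- **VAN5 for a subgroup of prime order 11.**  If `χ` is constant `= c` on `K \ {1}`,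
`|K| = 11`, `χ 1 + 10 c = 0`, and `q ∈ N(K)` does not centralize `K`, then `χ q = 0`. -/
theorem h3_vanish_eleven [Finite G] (χ : G → ℂ) (hχ : Cfsg.IsCharacter G χ)
    (K : Subgroup G) (hK : Nat.card K = 11) (c : ℂ)
    (hconst : ∀ k ∈ K, k ≠ 1 → χ k = c) (hdeg : χ 1 + 10 * c = 0)
    (q : G) (hqN : q ∈ Subgroup.normalizer (K : Set G))
    (hqC : q ∉ Subgroup.centralizer (K : Set G)) : χ q = 0 := by
  classical
  haveI : Fintype K := Fintype.ofFinite K
  have hcard : Fintype.card K = 11 := by rw [← Nat.card_eq_fintype_card, hK]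
  have hnorm : ∀ k ∈ K, q * k * q⁻¹ ∈ K := by
    intro k hk
    exact (Subgroup.mem_normalizer_iff.1 hqN k).1 hk
  -- fixed points form a proper subgroup of a group of prime order
  have hfix : ∀ k ∈ K, q * k * q⁻¹ = k → k = 1 := by
    intro k hk hqk
    by_contra hk1
    apply hqC
    haveI : Fact (Nat.Prime 11) := ⟨by norm_num⟩
    -- `K` is generated by `k`
    have hko : orderOf (⟨k, hk⟩ : K) = 11 := by
      have hd : orderOf (⟨k, hk⟩ : K) ∣ 11 := hK ▸ orderOf_dvd_natCard _
      rcases (Nat.dvd_prime (by norm_num : Nat.Prime 11)).1 hd with h | h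
      · exfalso
        apply hk1
        have := orderOf_eq_one_iff.1 h
        exact congrArg Subtype.val this
      · exact h
    have hgen : ∀ x : K, x ∈ Subgroup.zpowers (⟨k, hk⟩ : K) := by
      intro x
      have htop : Subgroup.zpowers (⟨k, hk⟩ : K) = ⊤ := by
        apply Subgroup.eq_top_of_card_eq
        rw [Nat.card_zpowers, hko, hK]
      rw [htop]; exact Subgroup.mem_top x
    rw [Subgroup.mem_centralizer_iff]
    intro x hx
    obtain ⟨i, hi⟩ := Subgroup.mem_zpowers_iff.1 (hgen ⟨x, hx⟩)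
    have hxk : x = k ^ i := by
      have := congrArg Subtype.val hi
      simpa using this.symm
    have hcomm : q * k = k * q := by
      calc q * k = q * k * q⁻¹ * q := by group
        _ = k * q := by rw [hqk]
    rw [hxk]
    exact ((Commute.zpow_right (show Commute q k from hcomm) i).eq).symm
  apply h3_vanish_of_fpf χ hχ K _ q hnorm hfix
  -- the sum over `K`
  have hsplit : ∑ k : K, χ (k : G) = χ 1 + ∑ k ∈ Finset.univ.erase (1 : K), χ (k : G) := by
    rw [← Finset.add_sum_erase Finset.univ (fun k : K => χ (k : G)) (Finset.mem_univ (1 : K))]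
    rfl
  rw [hsplit]
  have hrest : ∑ k ∈ Finset.univ.erase (1 : K), χ (k : G) = 10 * c := by
    have : ∀ k ∈ Finset.univ.erase (1 : K), χ (k : G) = c := by
      intro k hk
      apply hconst k k.2
      intro h1
      exact (Finset.mem_erase.1 hk).1 (Subtype.ext h1)
    rw [Finset.sum_congr rfl this, Finset.sum_const, Finset.card_erase_of_mem (Finset.mem_univ _),
      Finset.card_univ, hcard]
    norm_num
  rw [hrest, hdeg]

end Cfsg.Agent.Helper2.M11
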