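import Mathlib
import Cfsg.Prelude.Def_Characters
import Cfsg.Agent.Helper3.M11_Van

/-!
# M11 cluster, piece VAN5, second part (helper3; architect helper2)

The sum of a character over a finite subgroup `K` is `|K|` times a natural number; hence two
characters `χ₀, χ₁` with `χ₀ + χ₁ = -1` on `K \ {1}`, `|K| = 11`, `χ₀ 1 + χ₁ 1 = 10` both restrict
to `K` without trivial constituent, and vanish on the elements normalizing but not centralizing
`K`.
-/

set_option autoImplicit false
set_option linter.style.haveILetI false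

namespace Cfsg.Agent.Helper2.M11

open Module

universe u

variable {G : Type u} [Group G]

/-- The sum of a character over a finite subgroup is `|K|` times a natural number (the
multiplicity of the trivial character in the restriction). -/
theorem h3_sum_eq_card_mul_nat (χ : G → ℂ) (hχ : Cfsg.IsCharacter G χ)
    (K : Subgroup G) [Fintype K] :
    ∃ m : ℕ, ∑ k : K, χ (k : G) = (Fintype.card K : ℂ) * (m : ℂ) := by
  classical
  obtain ⟨n, ρ, hρ⟩ := hχ
  have hcardne : (Fintype.card K : ℂ) ≠ 0 := by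
    have : 0 < Fintype.card K := Fintype.card_pos
    exact_mod_cast this.ne'
  set E : (Fin n → ℂ) →ₗ[ℂ] (Fin n → ℂ) := ∑ k : K, ρ (k : G) with hE
  have hEE : E * E = (Fintype.card K : ℂ) • E := by
    rw [hE, Finset.sum_mul]
    have hrow : ∀ k : K, ρ (k : G) * ∑ l : K, ρ (l : G) = ∑ l : K, ρ (l : G) := by
      intro k
      rw [Finset.mul_sum]
      have : ∀ l : K, ρ (k : G) * ρ (l : G) = ρ (((k * l : K) : K) : G) := by
        intro l
        rw [Subgroup.coe_mul, map_mul]
      simp_rw [this]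
      exact Fintype.sum_equiv (Equiv.mulLeft k) _ _ (fun _ => rfl)
    simp_rw [hrow]
    rw [Finset.sum_const, Finset.card_univ, ← Nat.cast_smul_eq_nsmul ℂ]
  set e : (Fin n → ℂ) →ₗ[ℂ] (Fin n → ℂ) := (Fintype.card K : ℂ)⁻¹ • E with he
  have hidem : IsIdempotentElem e := by
    show e * e = e
    rw [he, smul_mul_smul_comm, hEE, smul_smul]
    congr 1
    field_simp
  have htrE : LinearMap.trace ℂ (Fin n → ℂ) E = ∑ k : K, χ (k : G) := by
    rw [hE, map_sum]
    have : ∀ k : K, LinearMap.trace ℂ (Fin n → ℂ) (ρ (k : G)) = χ (k : G) := by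
      intro k
      rw [← hρ]; rfl
    simp_rw [this]
  have htre : LinearMap.trace ℂ (Fin n → ℂ) e =
      (finrank ℂ (LinearMap.range e) : ℂ) := (LinearMap.IsIdempotentElem.isProj_range e hidem).trace
  refine ⟨finrank ℂ (LinearMap.range e), ?_⟩
  rw [← htrE, ← htre, he, map_smul, smul_eq_mul, ← mul_assoc, mul_inv_cancel₀ hcardne, one_mul]

/-- **VAN5 for a pair.**  If `χ₀ + χ₁ = -1` on `K \ {1}`, `|K| = 11`, `χ₀ 1 + χ₁ 1 = 10`, and
`q ∈ N(K)` does not centralize `K`, then `χ₀ q = 0` and `χ₁ q = 0`. -/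
theorem h3_vanish_pair [Finite G] (χ₀ χ₁ : G → ℂ) (h₀ : Cfsg.IsCharacter G χ₀)
    (h₁ : Cfsg.IsCharacter G χ₁)
    (K : Subgroup G) (hK : Nat.card K = 11)
    (hsum : ∀ k ∈ K, k ≠ 1 → χ₀ k + χ₁ k = -1) (hdeg : χ₀ 1 + χ₁ 1 = 10)
    (q : G) (hqN : q ∈ Subgroup.normalizer (K : Set G))
    (hqC : q ∉ Subgroup.centralizer (K : Set G)) : χ₀ q = 0 ∧ χ₁ q = 0 := by
  classical
  haveI : Fintype K := Fintype.ofFinite K
  have hcard : Fintype.card K = 11 := by rw [← Nat.card_eq_fintype_card, hK]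
  have hnorm : ∀ k ∈ K, q * k * q⁻¹ ∈ K := by
    intro k hk
    exact (Subgroup.mem_normalizer_iff.1 hqN k).1 hk
  have hfix : ∀ k ∈ K, q * k * q⁻¹ = k → k = 1 := by
    intro k hk hqk
    by_contra hk1
    apply hqC
    haveI : Fact (Nat.Prime 11) := ⟨by norm_num⟩
    have hko : orderOf (⟨k, hk⟩ : K) = 11 := by
      have hd : orderOf (⟨k, hk⟩ : K) ∣ 11 := hK ▸ orderOf_dvd_natCard _
      rcases (Nat.dvd_prime (by norm_num : Nat.Prime 11)).1 hd with h | h
      · exfalso
        apply hk1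
        have := orderOf_eq_one_iff.1 h
        exact congrArg Subtype.val this
      · exact h
    have hgen : ∀ x : K, x ∈ Subgroup.zpowers (⟨k, hk⟩ : K) := by
      intro x
      have htop : Subgroup.zpowers (⟨k, hk⟩ : K) = ⊤ := by
        apply Subgroup.eq_top_of_card_eq
        rw [Nat.card_zpowers, hko, hK]
      rw [htop]; exact Subgroup.mem_top x
    rw [Subgroup.mem_centralizer_iff]
    intro x hx
    obtain ⟨i, hi⟩ := Subgroup.mem_zpowers_iff.1 (hgen ⟨x, hx⟩)
    have hxk : x = k ^ i := by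
      have := congrArg Subtype.val hi
      simpa using this.symm
    have hcomm : q * k = k * q := by
      calc q * k = q * k * q⁻¹ * q := by group
        _ = k * q := by rw [hqk]
    rw [hxk]
    exact ((Commute.zpow_right (show Commute q k from hcomm) i).eq).symm
  obtain ⟨m₀, hm₀⟩ := h3_sum_eq_card_mul_nat χ₀ h₀ K
  obtain ⟨m₁, hm₁⟩ := h3_sum_eq_card_mul_nat χ₁ h₁ K
  -- the two sums add up to zero
  have htot : ∑ k : K, (χ₀ (k : G) + χ₁ (k : G)) = 0 := by
    rw [← Finset.add_sum_erase Finset.univ (fun k : K => χ₀ (k : G) + χ₁ (k : G))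
      (Finset.mem_univ (1 : K))]
    have hrest : ∑ k ∈ Finset.univ.erase (1 : K), (χ₀ (k : G) + χ₁ (k : G)) = -10 := by
      have : ∀ k ∈ Finset.univ.erase (1 : K), χ₀ (k : G) + χ₁ (k : G) = -1 := by
        intro k hk
        apply hsum k k.2
        intro h1
        exact (Finset.mem_erase.1 hk).1 (Subtype.ext h1)
      rw [Finset.sum_congr rfl this, Finset.sum_const,
        Finset.card_erase_of_mem (Finset.mem_univ _), Finset.card_univ, hcard]
      norm_num
    rw [hrest]
    show χ₀ 1 + χ₁ 1 + -10 = 0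
    rw [hdeg]; norm_num
  rw [Finset.sum_add_distrib, hm₀, hm₁, hcard] at htot
  have hmm : m₀ + m₁ = 0 := by
    have h11 : ((11 : ℕ) : ℂ) * ((m₀ + m₁ : ℕ) : ℂ) = 0 := by
      push_cast
      rw [← htot]; ring
    have := mul_eq_zero.1 h11
    rcases this with h | h
    · norm_num at h
    · exact_mod_cast h
  have hm₀0 : m₀ = 0 := by omega
  have hm₁0 : m₁ = 0 := by omega
  refine ⟨h3_vanish_of_fpf χ₀ h₀ K ?_ q hnorm hfix, h3_vanish_of_fpf χ₁ h₁ K ?_ q hnorm hfix⟩
  · rw [hm₀, hm₀0]; simp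
  · rw [hm₁, hm₁0]; simp

end Cfsg.Agent.Helper2.M11
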