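import Mathlib

set_option autoImplicit false
set_option linter.unusedSectionVars false

/-!
# Marggraf's theorem, piece (C): a 3-cycle from `Alt(Γ)` on the complement of a Jordan set

`P` is a permutation group on `Ω`, `Δ` a Jordan set (`P_(Δᶜ)` is transitive on `Δ`), `2|Δ| < |Ω|`,
and the setwise stabiliser of `Δᶜ` induces at least `Alt(Δᶜ)` on `Δᶜ`.  Then `P` contains a
3-cycle.
-/

namespace Cfsg.Agent.Helper3.Marg

open Equiv Equiv.Perm

variable {Ω : Type*} [Fintype Ω] [DecidableEq Ω]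

/-- A permutation fixing the complement of `Δ` pointwise stabilises `Δ`. -/
theorem mem_iff_of_fix_compl (Δ : Set Ω) (k : Perm Ω) (hk : ∀ z ∉ Δ, k z = z) :
    ∀ x, k x ∈ Δ ↔ x ∈ Δ := by
  intro x
  constructor
  · intro h
    by_contra hx
    rw [hk x hx] at h
    exact hx h
  · intro hx
    by_contra h
    have h1 : k (k x) = k x := hk _ h
    have h2 : k x = x := k.injective h1
    rw [h2] at h
    exact h hx

/-- A permutation fixing `Δ` pointwise stabilises `Δ`. -/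
theorem mem_iff_of_fix (Δ : Set Ω) (σ : Perm Ω) (hσ : ∀ x ∈ Δ, σ x = x) :
    ∀ x, σ x ∈ Δ ↔ x ∈ Δ := by
  intro x
  have := mem_iff_of_fix_compl Δᶜ σ (fun z hz => hσ z (by simpa using hz)) x
  simp only [Set.mem_compl_iff] at this
  exact not_iff_not.mp this

/-- If `g` agrees with `σ` off `Δ` and `σ` fixes `Δ` pointwise, then `g` stabilises `Δ`. -/
theorem mem_iff_of_agree (Δ : Set Ω) (g σ : Perm Ω) (hσ : ∀ x ∈ Δ, σ x = x)
    (hg : ∀ z ∉ Δ, g z = σ z) : ∀ x, g x ∈ Δ ↔ x ∈ Δ := by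
  have hk : ∀ z ∉ Δ, (σ⁻¹ * g) z = z := by
    intro z hz
    rw [Perm.mul_apply, hg z hz]
    simp
  have h1 := mem_iff_of_fix_compl Δ (σ⁻¹ * g) hk
  have h2 := mem_iff_of_fix Δ σ hσ
  intro x
  have e : g x = σ ((σ⁻¹ * g) x) := by
    rw [Perm.mul_apply]
    simp
  rw [e, h2, h1]

/-- Two permutations agreeing on `Δ` and off `Δ` are equal. -/
theorem eq_of_agree (Δ : Set Ω) (g h : Perm Ω) (h1 : ∀ x ∈ Δ, g x = h x)
    (h2 : ∀ z ∉ Δ, g z = h z) : g = h := by
  ext x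
  by_cases hx : x ∈ Δ
  · exact h1 x hx
  · exact h2 x hx


/-- General case: `|Δᶜ| ≥ 5` and `|Alt(Δᶜ)| > |Sym(Δ)|`. -/
theorem exists_isThreeCycle_of_large (P : Subgroup (Perm Ω)) (Δ : Set Ω)
    (hA : ∀ σ : Perm Ω, (∀ x ∈ Δ, σ x = x) → Perm.sign σ = 1 → ∃ g ∈ P, ∀ z ∉ Δ, g z = σ z)
    (h5 : 5 ≤ Δᶜ.ncard) (hm : 2 * (Δ.ncard).factorial < (Δᶜ.ncard).factorial) :
    ∃ g ∈ P, g.IsThreeCycle := by
  classical
  have hcardT : Fintype.card {x : Ω // x ∉ Δ} = Δᶜ.ncard := by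
    rw [← Nat.card_eq_fintype_card]
    exact _root_.Nat.card_coe_set_eq (Δᶜ)
  have hcardD : Fintype.card {x : Ω // x ∈ Δ} = Δ.ncard := by
    rw [← Nat.card_eq_fintype_card]
    exact _root_.Nat.card_coe_set_eq Δ
  have hnt : Nontrivial {x : Ω // x ∉ Δ} := by
    rw [← Fintype.one_lt_card_iff_nontrivial, hcardT]; omega
  set φ : alternatingGroup {x : Ω // x ∉ Δ} →* Perm Ω :=
    (Perm.ofSubtype : Perm {x : Ω // x ∉ Δ} →* Perm Ω).comp
      (alternatingGroup {x : Ω // x ∉ Δ}).subtype with hφ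
  have hφdef : ∀ ρ : alternatingGroup {x : Ω // x ∉ Δ},
      φ ρ = Perm.ofSubtype (ρ : Perm {x : Ω // x ∉ Δ}) := fun ρ => rfl
  have hφfix : ∀ ρ : alternatingGroup {x : Ω // x ∉ Δ}, ∀ x ∈ Δ, φ ρ x = x := by
    intro ρ x hx
    rw [hφdef]
    exact Perm.ofSubtype_apply_of_not_mem _ (not_not.mpr hx)
  have hφsign : ∀ ρ : alternatingGroup {x : Ω // x ∉ Δ}, Perm.sign (φ ρ) = 1 := by
    intro ρ
    rw [hφdef, Perm.sign_ofSubtype]
    exact Perm.mem_alternatingGroup.mp ρ.2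
  have hφinj : Function.Injective φ := by
    intro a b hab
    rw [hφdef, hφdef] at hab
    exact Subtype.ext (Perm.ofSubtype_injective hab)
  -- normality
  have hnormal : (P.comap φ).Normal := by
    constructor
    intro τ hτ ρ
    rw [Subgroup.mem_comap] at hτ ⊢
    rw [map_mul, map_mul, map_inv]
    obtain ⟨g, hgP, hg⟩ := hA (φ ρ) (hφfix ρ) (hφsign ρ)
    obtain ⟨k, hkdef⟩ : ∃ k, k = (φ ρ)⁻¹ * g := ⟨_, rfl⟩
    have hk : ∀ z ∉ Δ, k z = z := by
      intro z hz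
      rw [hkdef, Perm.mul_apply, hg z hz]
      simp
    have hcomm : k * φ τ = φ τ * k := by
      apply Perm.Disjoint.commute
      intro x
      by_cases hx : x ∈ Δ
      · right; exact hφfix τ x hx
      · left; exact hk x hx
    have hgk : g = φ ρ * k := by rw [hkdef]; group
    have : φ ρ * φ τ * (φ ρ)⁻¹ = g * φ τ * g⁻¹ := by
      rw [hgk]
      have : k * φ τ * k⁻¹ = φ τ := by rw [hcomm]; group
      calc φ ρ * φ τ * (φ ρ)⁻¹ = φ ρ * (k * φ τ * k⁻¹) * (φ ρ)⁻¹ := by rw [this]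
        _ = φ ρ * k * φ τ * (φ ρ * k)⁻¹ := by group
    rw [this]
    exact P.mul_mem (P.mul_mem hgP hτ) (P.inv_mem hgP)
  -- nontriviality by pigeonhole
  choose gf hgfP hgf using fun ρ : alternatingGroup {x : Ω // x ∉ Δ} =>
    hA (φ ρ) (hφfix ρ) (hφsign ρ)
  have hstab : ∀ ρ x, gf ρ x ∈ Δ ↔ x ∈ Δ :=
    fun ρ => mem_iff_of_agree Δ (gf ρ) (φ ρ) (hφfix ρ) (hgf ρ)
  have hcardlt : Fintype.card (Perm {x : Ω // x ∈ Δ}) <
      Fintype.card (alternatingGroup {x : Ω // x ∉ Δ}) := by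
    have h2 := two_mul_card_alternatingGroup (α := {x : Ω // x ∉ Δ})
    rw [Fintype.card_perm, hcardT] at h2
    rw [Fintype.card_perm, hcardD]
    omega
  obtain ⟨ρ1, ρ2, hne, hf⟩ := Fintype.exists_ne_map_eq_of_card_lt
    (fun ρ : alternatingGroup {x : Ω // x ∉ Δ} =>
      (Perm.subtypePerm (gf ρ) (hstab ρ) : Perm {x : Ω // x ∈ Δ})) hcardlt
  have hagree : ∀ x ∈ Δ, gf ρ1 x = gf ρ2 x := by
    intro x hx
    have := congrArg (fun π : Perm {x : Ω // x ∈ Δ} => ((π ⟨x, hx⟩ : {x : Ω // x ∈ Δ}) : Ω)) hf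
    simpa using this
  have hprod : φ (ρ1⁻¹ * ρ2) = (gf ρ1)⁻¹ * gf ρ2 := by
    apply eq_of_agree Δ
    · intro x hx
      rw [hφfix _ x hx, Perm.mul_apply, ← hagree x hx]
      simp
    · intro z hz
      rw [map_mul, map_inv, Perm.mul_apply, Perm.mul_apply, hgf ρ2 z hz]
      obtain ⟨w, hwdef⟩ : ∃ w, w = (φ ρ1)⁻¹ (φ ρ2 z) := ⟨_, rfl⟩
      have hw : w ∉ Δ := by
        intro hwΔ
        have h1 : φ ρ1 w = w := hφfix ρ1 w hwΔ
        have h2 : φ ρ1 w = φ ρ2 z := by rw [hwdef]; simp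
        have h3 : φ ρ2 z ∈ Δ := by rw [← h2, h1]; exact hwΔ
        have h4 := (mem_iff_of_fix Δ (φ ρ2) (hφfix ρ2) z).mp h3
        exact hz h4
      have h2 : φ ρ1 w = φ ρ2 z := by rw [hwdef]; simp
      rw [← hwdef, ← h2, ← hgf ρ1 w hw]
      simp
  have hmem : ρ1⁻¹ * ρ2 ∈ P.comap φ := by
    rw [Subgroup.mem_comap, hprod]
    exact P.mul_mem (P.inv_mem (hgfP ρ1)) (hgfP ρ2)
  have hne1 : ρ1⁻¹ * ρ2 ≠ 1 := by
    intro h
    apply hne
    have := inv_mul_eq_one.mp h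
    exact this
  have hsimple : IsSimpleGroup (alternatingGroup {x : Ω // x ∉ Δ}) := by
    apply alternatingGroup.isSimpleGroup
    rw [Nat.card_eq_fintype_card, hcardT]
    exact h5
  have htop : P.comap φ = ⊤ := by
    rcases hnormal.eq_bot_or_eq_top with h | h
    · exfalso
      rw [h, Subgroup.mem_bot] at hmem
      exact hne1 hmem
    · exact h
  -- a 3-cycle
  obtain ⟨a, b, c, hab, hac, hbc⟩ : ∃ a b c : {x : Ω // x ∉ Δ}, a ≠ b ∧ a ≠ c ∧ b ≠ c := by
    rw [← Fintype.two_lt_card_iff, hcardT]; omega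
  have h3 : (swap a b * swap a c).IsThreeCycle := Perm.isThreeCycle_swap_mul_swap_same hab hac hbc
  have hmemP : φ ⟨swap a b * swap a c, h3.mem_alternatingGroup⟩ ∈ P := by
    have : (⟨swap a b * swap a c, h3.mem_alternatingGroup⟩ :
        alternatingGroup {x : Ω // x ∉ Δ}) ∈ P.comap φ := by rw [htop]; exact Subgroup.mem_top _
    exact this
  refine ⟨_, hmemP, ?_⟩
  rw [hφdef]
  unfold Perm.IsThreeCycle
  rw [Perm.cycleType_ofSubtype]
  exact h3


/-- A permutation supported in a 3-element set and moving `x` is a 3-cycle or the swap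
`(x, g x)`. -/
theorem isThreeCycle_or_swap (g : Perm Ω) (s : Finset Ω) (hs : s.card ≤ 3)
    (hsupp : g.support ⊆ s) (x : Ω) (hx : g x ≠ x) : g.IsThreeCycle ∨ g = swap x (g x) := by
  have hne : g ≠ 1 := by
    intro h
    rw [h] at hx
    exact hx rfl
  have h2 := Perm.two_le_card_support_of_ne_one hne
  have h3 : g.support.card ≤ 3 := le_trans (Finset.card_le_card hsupp) hs
  rcases Nat.lt_or_ge g.support.card 3 with h | h
  · right
    have h2' : g.support.card = 2 := by omega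
    obtain ⟨a, b, hab, hg⟩ := Perm.card_support_eq_two.mp h2'
    have hxs : x ∈ g.support := Perm.mem_support.mpr hx
    rw [hg, Perm.support_swap hab] at hxs
    simp only [Finset.mem_insert, Finset.mem_singleton] at hxs
    rcases hxs with rfl | rfl
    · rw [hg, swap_apply_left]
    · rw [hg, swap_apply_right, swap_comm]
  · left
    exact _root_.card_support_eq_three_iff.mp (le_antisymm h3 h)

/-- Case `|Δ| = 3`. -/
theorem exists_isThreeCycle_of_card_three (P : Subgroup (Perm Ω)) (Δ : Set Ω)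
    (h3 : Δ.ncard = 3)
    (htr : ∀ x ∈ Δ, ∀ y ∈ Δ, ∃ g ∈ P, (∀ z ∉ Δ, g z = z) ∧ g x = y) :
    ∃ g ∈ P, g.IsThreeCycle := by
  obtain ⟨x, y, w, hxy, hxw, hyw, rfl⟩ := Set.ncard_eq_three.mp h3
  obtain ⟨g1, hg1P, hg1fix, hg1⟩ := htr x (by simp) y (by simp)
  obtain ⟨g2, hg2P, hg2fix, hg2⟩ := htr x (by simp) w (by simp)
  have hsupp : ∀ g : Perm Ω, (∀ z ∉ ({x, y, w} : Set Ω), g z = z) →
      g.support ⊆ ({x, y, w} : Finset Ω) := by
    intro g hg z hz
    rw [Perm.mem_support] at hz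
    by_contra hzn
    apply hz
    apply hg
    simpa using hzn
  have hcard : ({x, y, w} : Finset Ω).card ≤ 3 := Finset.card_le_three
  rcases isThreeCycle_or_swap g1 _ hcard (hsupp g1 hg1fix) x (by rw [hg1]; exact hxy.symm) with
    h | h
  · exact ⟨g1, hg1P, h⟩
  rcases isThreeCycle_or_swap g2 _ hcard (hsupp g2 hg2fix) x (by rw [hg2]; exact hxw.symm) with
    h' | h'
  · exact ⟨g2, hg2P, h'⟩
  rw [hg1] at h
  rw [hg2] at h'
  refine ⟨g1 * g2, P.mul_mem hg1P hg2P, ?_⟩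
  rw [h, h']
  exact Perm.isThreeCycle_swap_mul_swap_same hxy hxw hyw

/-- Case `|Δ| = 2`. -/
theorem exists_isThreeCycle_of_card_two (P : Subgroup (Perm Ω)) (Δ : Set Ω)
    (h2 : Δ.ncard = 2) (hn : 3 ≤ Δᶜ.ncard)
    (htr : ∀ x ∈ Δ, ∀ y ∈ Δ, ∃ g ∈ P, (∀ z ∉ Δ, g z = z) ∧ g x = y)
    (hA : ∀ σ : Perm Ω, (∀ x ∈ Δ, σ x = x) → Perm.sign σ = 1 → ∃ g ∈ P, ∀ z ∉ Δ, g z = σ z) :
    ∃ g ∈ P, g.IsThreeCycle := by
  classical
  obtain ⟨x, y, hxy, rfl⟩ := Set.ncard_eq_two.mp h2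
  obtain ⟨t, htP, htfix, htx⟩ := htr x (by simp) y (by simp)
  have htswap : t = swap x y := by
    have hsupp : t.support ⊆ ({x, y} : Finset Ω) := by
      intro z hz
      rw [Perm.mem_support] at hz
      by_contra hzn
      apply hz
      apply htfix
      simpa using hzn
    have hc : ({x, y} : Finset Ω).card ≤ 3 := le_trans Finset.card_le_two (by norm_num)
    rcases isThreeCycle_or_swap t _ hc hsupp x (by rw [htx]; exact hxy.symm) with h | h
    · exfalso
      have := _root_.card_support_eq_three_iff.mpr h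
      have h' := Finset.card_le_card hsupp
      have : ({x, y} : Finset Ω).card ≤ 2 := Finset.card_le_two
      omega
    · rw [htx] at h; exact h
  -- three points outside
  have hcardT : Fintype.card {z : Ω // z ∉ ({x, y} : Set Ω)} = ({x, y} : Set Ω)ᶜ.ncard := by
    rw [← Nat.card_eq_fintype_card]
    exact _root_.Nat.card_coe_set_eq (({x, y} : Set Ω)ᶜ)
  obtain ⟨a, b, c, hab, hac, hbc⟩ :
      ∃ a b c : {z : Ω // z ∉ ({x, y} : Set Ω)}, a ≠ b ∧ a ≠ c ∧ b ≠ c := by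
    rw [← Fintype.two_lt_card_iff, hcardT]; omega
  have hab' : (a : Ω) ≠ b := fun h => hab (Subtype.ext h)
  have hac' : (a : Ω) ≠ c := fun h => hac (Subtype.ext h)
  have hbc' : (b : Ω) ≠ c := fun h => hbc (Subtype.ext h)
  have hσ3 : (swap (a : Ω) b * swap (a : Ω) c).IsThreeCycle :=
    Perm.isThreeCycle_swap_mul_swap_same hab' hac' hbc'
  have hout : ∀ u ∈ ({x, y} : Set Ω), ∀ v : {z : Ω // z ∉ ({x, y} : Set Ω)}, u ≠ v := by
    intro u hu v huv
    exact v.2 (huv ▸ hu)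
  have hσfix : ∀ u ∈ ({x, y} : Set Ω), (swap (a : Ω) b * swap (a : Ω) c) u = u := by
    intro u hu
    rw [Perm.mul_apply, swap_apply_of_ne_of_ne (hout u hu a) (hout u hu c),
      swap_apply_of_ne_of_ne (hout u hu a) (hout u hu b)]
  obtain ⟨g, hgP, hg⟩ := hA _ hσfix hσ3.sign
  have hstab := mem_iff_of_agree _ g _ hσfix hg
  have hgx : g x = x ∨ g x = y := by
    have := (hstab x).mpr (by simp)
    simpa using this
  have hgy : g y = x ∨ g y = y := by
    have := (hstab y).mpr (by simp)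
    simpa using this
  rcases hgx with hgx | hgx
  · have hgy' : g y = y := by
      rcases hgy with h | h
      · exfalso
        exact hxy (g.injective (hgx.trans h.symm))
      · exact h
    refine ⟨g, hgP, ?_⟩
    have : g = swap (a : Ω) b * swap (a : Ω) c := by
      apply eq_of_agree ({x, y} : Set Ω)
      · intro u hu
        rw [hσfix u hu]
        rcases hu with rfl | rfl
        · exact hgx
        · exact hgy'
      · exact hg
    rw [this]; exact hσ3
  · have hgy' : g y = x := by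
      rcases hgy with h | h
      · exact h
      · exfalso
        exact hxy (g.injective (hgx.trans h.symm))
    refine ⟨g * t, P.mul_mem hgP htP, ?_⟩
    have : g * t = swap (a : Ω) b * swap (a : Ω) c := by
      apply eq_of_agree ({x, y} : Set Ω)
      · intro u hu
        rw [hσfix u hu, Perm.mul_apply, htswap]
        rcases hu with rfl | rfl
        · rw [swap_apply_left]; exact hgy'
        · rw [swap_apply_right]; exact hgx
      · intro z hz
        rw [Perm.mul_apply, htfix z hz]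
        exact hg z hz
    rw [this]; exact hσ3

/-- **(C)**, permutation group version. -/
theorem exists_isThreeCycle_perm (P : Subgroup (Perm Ω)) (Δ : Set Ω)
    (h1 : 1 < Δ.ncard) (h2 : 2 * Δ.ncard < Fintype.card Ω)
    (htr : ∀ x ∈ Δ, ∀ y ∈ Δ, ∃ g ∈ P, (∀ z ∉ Δ, g z = z) ∧ g x = y)
    (hA : ∀ σ : Perm Ω, (∀ x ∈ Δ, σ x = x) → Perm.sign σ = 1 → ∃ g ∈ P, ∀ z ∉ Δ, g z = σ z) :
    ∃ g ∈ P, g.IsThreeCycle := by
  have hcompl : Δ.ncard + Δᶜ.ncard = Fintype.card Ω := by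
    rw [← Nat.card_eq_fintype_card]
    exact Set.ncard_add_ncard_compl Δ
  rcases Nat.lt_or_ge Δ.ncard 4 with h4 | h4
  · rcases Nat.lt_or_ge Δ.ncard 3 with h3 | h3
    · exact exists_isThreeCycle_of_card_two P Δ (by omega) (by omega) htr hA
    · exact exists_isThreeCycle_of_card_three P Δ (by omega) htr
  · refine exists_isThreeCycle_of_large P Δ hA (by omega) ?_
    have hle : Δ.ncard + 1 ≤ Δᶜ.ncard := by omega
    have hf := Nat.factorial_le hle
    rw [Nat.factorial_succ] at hf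
    have hpos : 0 < (Δ.ncard).factorial := Nat.factorial_pos _
    nlinarith


section GroupAction

variable {G : Type*} [Group G] [MulAction G Ω]

/-- **(C)**: a Jordan set `Δ` with `2|Δ| < |Ω|` such that every even permutation supported off
`Δ` is induced (off `Δ`) by an element of `G`: then `G` contains a 3-cycle. -/
theorem exists_isThreeCycle (Δ : Set Ω) (h1 : 1 < Δ.ncard) (h2 : 2 * Δ.ncard < Fintype.card Ω)
    (htr : ∀ x ∈ Δ, ∀ y ∈ Δ, ∃ g : G, (∀ z ∉ Δ, g • z = z) ∧ g • x = y)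
    (hA : ∀ σ : Perm Ω, (∀ x ∈ Δ, σ x = x) → Perm.sign σ = 1 →
      ∃ g : G, ∀ z ∉ Δ, g • z = σ z) :
    ∃ g : G, (MulAction.toPerm g : Perm Ω).IsThreeCycle := by
  obtain ⟨p, ⟨g, rfl⟩, hp⟩ := exists_isThreeCycle_perm (MulAction.toPermHom G Ω).range Δ h1 h2
    (by
      intro x hx y hy
      obtain ⟨g, hg1, hg2⟩ := htr x hx y hy
      exact ⟨MulAction.toPermHom G Ω g, ⟨g, rfl⟩, hg1, hg2⟩)
    (by
      intro σ hσ hs
      obtain ⟨g, hg⟩ := hA σ hσ hs
      exact ⟨MulAction.toPermHom G Ω g, ⟨g, rfl⟩, hg⟩)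
  exact ⟨g, hp⟩

/-- Converter: the hypothesis `hA` of `exists_isThreeCycle` from its subtype form. -/
theorem hA_of_subtype (Δ : Set Ω) [Fintype {x : Ω // x ∉ Δ}]
    (h : ∀ τ : Perm {x : Ω // x ∉ Δ}, Perm.sign τ = 1 →
      ∃ g : G, ∀ z : {x : Ω // x ∉ Δ}, g • (z : Ω) = ((τ z : {x : Ω // x ∉ Δ}) : Ω)) :
    ∀ σ : Perm Ω, (∀ x ∈ Δ, σ x = x) → Perm.sign σ = 1 → ∃ g : G, ∀ z ∉ Δ, g • z = σ z := by
  classical
  intro σ hσ hs
  have hstab : ∀ x, σ x ∉ Δ ↔ x ∉ Δ := fun x => not_congr (mem_iff_of_fix Δ σ hσ x)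
  have hof : Perm.ofSubtype (Perm.subtypePerm (p := fun x => x ∉ Δ) σ hstab) = σ := by
    apply Perm.ofSubtype_subtypePerm
    intro x hx
    by_contra hxn
    exact hx (hσ x hxn)
  have hsign : Perm.sign (Perm.subtypePerm (p := fun x => x ∉ Δ) σ hstab) = 1 := by
    rw [← Perm.sign_ofSubtype, hof, hs]
  obtain ⟨g, hg⟩ := h _ hsign
  refine ⟨g, fun z hz => ?_⟩
  have := hg ⟨z, hz⟩
  simpa using this

/-- **(C')**: a primitive group containing a 3-cycle induces every even permutation. -/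
theorem forall_even_of_isThreeCycle (hprim : MulAction.IsPreprimitive G Ω)
    (h3 : ∃ g : G, (MulAction.toPerm g : Perm Ω).IsThreeCycle) :
    ∀ σ : Perm Ω, Perm.sign σ = 1 → ∃ x : G, (MulAction.toPerm x : Perm Ω) = σ := by
  obtain ⟨g, hg⟩ := h3
  let f : Ω →ₑ[(MulAction.toPermHom G Ω).rangeRestrict] Ω :=
    { toFun := id
      map_smul' := fun _ _ => rfl }
  have hP : MulAction.IsPreprimitive (MulAction.toPermHom G Ω).range Ω :=
    MulAction.IsPreprimitive.of_surjective (f := f) Function.surjective_id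
  have hle := alternatingGroup_le_of_isPreprimitive_of_isThreeCycle_mem hP hg ⟨g, rfl⟩
  intro σ hσ
  obtain ⟨x, hx⟩ := hle (Perm.mem_alternatingGroup.mpr hσ)
  exact ⟨x, hx⟩

end GroupAction

end Cfsg.Agent.Helper3.Marg
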