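import Mathlib
import Cfsg.Agent.Helper9.McLC.Main
import Cfsg.Agent.Helper3.FusLib

set_option autoImplicit false

/-!
The simplicity criterion for the 2-fusion system of the group of McLaughlin on 275 points: the
Sylow 2-subgroup of order 128 given by the chain of tables is generated by its involutions, which
are conjugate to its central involution, and it is its own normalizer.
-/

noncomputable section

namespace Cfsg.Agent.Helper3.McLFus

open Cfsg Cfsg.Agent.Helper9.OutG Cfsg.Agent.Helper9.J3 Cfsg.Agent.Helper9.PChain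
open Cfsg.Agent.Helper9.HeO Cfsg.Agent.Helper9.McLO Cfsg.Agent.Helper9.McLC
open Cfsg.Agent.Lead.SimpCrit Cfsg.Agent.Helper3.FusLib

/-- the order of the group. -/
theorem hN : Nat.card ↥(GS core) = 898128000 := mcl_iso.2

instance finGS : Finite ↥(GS core) := Nat.finite_of_card_ne_zero (by rw [hN]; norm_num)

/-- the subgroup of order 128. -/
abbrev P : Subgroup ↥(GS core) := SH core (S := dS) dS.k

/-- the central involution. -/
abbrev t : ↥(GS core) := tE core dS 0

theorem k_eq : dS.k = 7 := rfl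

theorem card_P : Nat.card ↥P = 2 ^ 7 := card_SH core sylOK hN

theorem t_mem : t ∈ P := tE_mem core (S := dS) (by decide)

/-- the check over a list of numbers. -/
def allN (p : ℕ → Bool) (l : List ℕ) : Bool := List.rec true (fun k _ ih => andB (p k) ih) l

theorem allN_true {p : ℕ → Bool} {l : List ℕ} (h : allN p l = true) : ∀ k ∈ l, p k = true := by
  induction l with
  | nil => intro k hk; exact absurd hk List.not_mem_nil
  | cons a l ih =>
    have h' : andB (p a) (allN p l) = true := h
    obtain ⟨h1, h2⟩ := andB_true h'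
    intro k hk
    rcases List.mem_cons.1 hk with rfl | hk
    · exact h1
    · exact ih h2 k hk

/-! ### the involutions generate the subgroup -/

/-- the codes of involutions that generate the subgroup. -/
def invL : List ℕ := [1, 2, 16, 21, 74, 76, 100, 105, 116, 124, 125]

/-- the generators as products of involutions. -/
def genL : List (List ℕ) := [[1], [2], [21, 16], [124, 116], [16], [125, 76], [105, 100, 74]]

/-- the check that a code is the code of an involution. -/
def invChk (e : ℕ) : Bool :=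
  andB (allB (fun x => Nat.beq (nfF dD dS 7 e (nfF dD dS 7 e x)) x) 275)
    (notB (allB (fun x => Nat.beq (nfF dD dS 7 e x) x) 275))

set_option maxRecDepth 1000000 in
theorem inv_b : allN invChk invL = true := by decide +kernel

theorem order_inv {e : ℕ} (he : e ∈ invL) : orderOf (nfG core dS 7 e) = 2 := by
  obtain ⟨h1, h2⟩ := andB_true (allN_true inv_b e he)
  have : Fact (Nat.Prime 2) := ⟨Nat.prime_two⟩
  apply orderOf_eq_prime
  · rw [pow_two]
    exact eq_of_allB core (Comp.coe_mul core (comp_nfG core dS 7 e) (comp_nfG core dS 7 e))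
      Comp.one h1
  · intro h
    have h3 := notB_true h2
    have h4 : allB (fun x => Nat.beq (nfF dD dS 7 e x) x) 275 = true := by
      apply allB_of_forall
      intro i hi
      have h5 : (nfG core dS 7 e).1 = (1 : Equiv.Perm (Fin dD.n)) := by rw [h]; rfl
      have h6 := Comp.all_of_eq (comp_nfG core dS 7 e) Comp.one h5 (x := i) hi
      change Nat.beq (nfF dD dS 7 e i) i = true
      rw [h6, Nat.beq_refl]
    rw [h4] at h3
    exact Bool.noConfusion h3

/-- the image of a point under a product of normal forms. -/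
def prodF (es : List ℕ) (x : ℕ) : ℕ :=
  List.rec (motive := fun _ => ℕ → ℕ) (fun x => x) (fun e _ ih x => nfF dD dS 7 e (ih x)) es x

/-- a product of normal forms. -/
def prodG (es : List ℕ) : ↥(GS core) := (es.map (nfG core dS 7)).prod

theorem comp_prodG (es : List ℕ) : Comp (prodG es).1 (prodF es) := by
  induction es with
  | nil => exact fun _ => rfl
  | cons e es ih =>
    have e1 : prodG (e :: es) = nfG core dS 7 e * prodG es := by
      unfold prodG
      rw [List.map_cons, List.prod_cons]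
    rw [e1]
    intro x
    exact Comp.coe_mul core (comp_nfG core dS 7 e) ih x

/-- the check of a generator. -/
def genChk (j : ℕ) : Bool :=
  andB (allB (fun x => Nat.beq (tF dD dS j x) (prodF (nthW genL j) x)) 275)
    (allN (fun e => memN e invL) (nthW genL j))

set_option maxRecDepth 1000000 in
theorem gen_b : allB genChk 7 = true := by decide +kernel

/-- the involutions of the subgroup that are conjugate to the central involution. -/
def conjSet : Set ↥(GS core) := {y | y ∈ P ∧ ∃ g : ↥(GS core), y = g * t * g⁻¹}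

theorem nfG_mem_conjSet {e : ℕ} (he : e ∈ invL) : nfG core dS 7 e ∈ conjSet := by
  refine ⟨nfE_mem (tE core dS) 7 e, ?_⟩
  have hlen : iWs.length = 2 ^ dS.k := by
    rw [Nat.eq_of_beq_eq_true ilen]
    decide
  have h1 := inv_conj core sylOK hN iWs hlen (by decide) inv_c (nfG core dS 7 e) (order_inv he)
  obtain ⟨c, hc⟩ := isConj_iff.mp h1
  refine ⟨c⁻¹, ?_⟩
  change nfG core dS 7 e = c⁻¹ * tE core dS 0 * c⁻¹⁻¹
  rw [← hc]
  group

theorem tE_mem_closure {j : ℕ} (hj : j < 7) : tE core dS j ∈ Subgroup.closure conjSet := by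
  obtain ⟨h1, h2⟩ := andB_true (allB_true gen_b hj)
  have e1 : tE core dS j = prodG (nthW genL j) :=
    eq_of_allB core (comp_tE core dS j) (comp_prodG _) h1
  rw [e1]
  unfold prodG
  apply Subgroup.list_prod_mem
  intro x hx
  obtain ⟨e, he, rfl⟩ := List.mem_map.1 hx
  exact Subgroup.subset_closure (nfG_mem_conjSet (memN_true (allN_true h2 e he)))

theorem P_le_closure : P ≤ Subgroup.closure conjSet := by
  change chainH (tE core dS) dS.k ≤ _
  unfold chainH
  rw [Subgroup.closure_le]
  rintro x ⟨j, hj, rfl⟩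
  exact tE_mem_closure hj

/-! ### the normalizer -/

/-- the images of the points under the generators of the subgroup are the points: the only point
fixed by the subgroup. -/
def fixChk (x : ℕ) : Bool :=
  orB (Nat.beq x 0) (notB (allB (fun j => Nat.beq (tF dD dS j x) x) 7))

set_option maxRecDepth 1000000 in
theorem fix_b : andB (allB fixChk 275) (allB (fun j => Nat.beq (tF dD dS j 0) 0) 7) = true := by
  decide +kernel

/-- the first point. -/
def pt0 : Fin dD.n := ⟨0, by decide⟩

theorem P_fix {s : ↥(GS core)} (hs : s ∈ P) : s.1 pt0 = pt0 := by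
  have hle : P ≤ (MulAction.stabilizer (Equiv.Perm (Fin dD.n)) pt0).comap (GS core).subtype := by
    change chainH (tE core dS) dS.k ≤ _
    unfold chainH
    rw [Subgroup.closure_le]
    rintro x ⟨j, hj, rfl⟩
    change (tE core dS j).1 pt0 = pt0
    apply Fin.ext
    rw [comp_tE core dS j pt0]
    exact Nat.eq_of_beq_eq_true (allB_true (andB_true fix_b).2 hj)
  exact hle hs

theorem eq_pt0_of_fix {x : Fin dD.n} (hx : ∀ s ∈ P, s.1 x = x) : x = pt0 := by
  have h1 := allB_true (andB_true fix_b).1 x.isLt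
  rcases orB_true h1 with h2 | h2
  · exact Fin.ext (Nat.eq_of_beq_eq_true h2)
  · exfalso
    have h3 := notB_true h2
    have h4 : allB (fun j => Nat.beq (tF dD dS j x.val) x.val) 7 = true := by
      apply allB_of_forall
      intro j hj
      have h5 := hx (tE core dS j) (tE_mem core (S := dS) hj)
      have h6 := comp_tE core dS j x
      rw [h5] at h6
      change Nat.beq (tF dD dS j x.val) x.val = true
      rw [← h6, Nat.beq_refl]
    rw [h4] at h3
    exact Bool.noConfusion h3

/-- the normalizer of the subgroup. -/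
abbrev NP : Subgroup ↥(GS core) := Subgroup.normalizer (P : Set ↥(GS core))

/-- the centralizer of the involution. -/
abbrev CT : Subgroup ↥(GS core) := Subgroup.centralizer ({t} : Set ↥(GS core))

/-- the elements of the centralizer of the involution that fix the first point. -/
abbrev DT : Subgroup ↥(GS core) :=
  CT ⊓ (MulAction.stabilizer (Equiv.Perm (Fin dD.n)) pt0).comap (GS core).subtype

theorem conj_mem_P {m : ↥(GS core)} (hm : m ∈ NP) {s : ↥(GS core)} (hs : s ∈ P) :
    m * s * m⁻¹ ∈ P := (Subgroup.mem_normalizer_iff.mp hm s).mp hs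

theorem conj_mem_P' {m : ↥(GS core)} (hm : m ∈ NP) {s : ↥(GS core)} (hs : s ∈ P) :
    m⁻¹ * s * m ∈ P := by
  have := conj_mem_P (NP.inv_mem hm) hs
  rwa [inv_inv] at this

theorem NP_le_DT : NP ≤ DT := by
  intro m hm
  have hmC : m ∈ CT := by
    -- `m` centralizes the involution
    rw [Subgroup.mem_centralizer_singleton_iff]
    have h1 : m * t * m⁻¹ ∈ P := conj_mem_P hm t_mem
    have h2 : ∀ y ∈ P, m * t * m⁻¹ * y = y * (m * t * m⁻¹) := by
      intro y hy
      have h3 := tE_zero_comm core sylOK hN (conj_mem_P' hm hy)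
      change t * (m⁻¹ * y * m) = m⁻¹ * y * m * t at h3
      calc m * t * m⁻¹ * y = m * (t * (m⁻¹ * y * m)) * m⁻¹ := by group
        _ = m * (m⁻¹ * y * m * t) * m⁻¹ := by rw [h3]
        _ = y * (m * t * m⁻¹) := by group
    rcases center_cases core sylOK hN h1 h2 with h4 | h4
    · exfalso
      apply tE_zero_ne_one core sylOK
      have : tE core dS 0 = m⁻¹ * (m * t * m⁻¹) * m := by group
      rw [this, h4]
      group
    · have : m * t = (m * t * m⁻¹) * m := by group
      rw [this, h4]
  refine ⟨hmC, ?_⟩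
  · -- `m` fixes the first point
    change m.1 pt0 = pt0
    apply eq_pt0_of_fix
    intro s hs
    have h1 := P_fix (conj_mem_P' hm hs)
    have h2 : ((m⁻¹ * s * m : ↥(GS core)) : Equiv.Perm (Fin dD.n)) pt0 =
        (m.1)⁻¹ (s.1 (m.1 pt0)) := rfl
    rw [h2] at h1
    have h3 := congrArg m.1 h1
    simpa using h3

/-- the order of the centralizer of the involution. -/
theorem card_CT : Nat.card ↥CT ≤ 40320 := by
  have ht : El cD cTab cF.kt ∈ GS core := by
    rw [kt_eq]
    exact (tE core dS 0).2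
  have e2 := Cfsg.Agent.Helper9.HeC.centralizerSubgroup (GS core) (El cD cTab cF.kt) ht
  have e3 : (⟨El cD cTab cF.kt, ht⟩ : ↥(GS core)) = t := Subtype.ext kt_eq
  rw [e3] at e2
  rw [Nat.card_congr e2.toEquiv, ← grp_eq]
  exact cen_le

/-- the words of elements of the centralizer of the involution that map the first point to
different points. -/
def cWs : List (List ℕ) :=
  [[], [51, 27, 46, 1, 33, 24, 33, 0, 41, 27, 24, 27, 46, 1, 33, 24, 33, 0, 41, 27, 24, 27, 46, 1, 33], [51, 48, 28, 60, 31, 24, 31, 59, 28, 39, 24, 48, 28, 60, 31, 24, 31, 59, 28, 39, 24, 48, 28, 60, 31], [36, 54, 51, 48, 24, 39, 51, 55, 37, 24, 36, 54, 51, 48], [54, 48, 28, 60, 31, 24, 31, 59, 28, 39, 24, 48, 28, 60, 31, 24, 31, 59, 28, 39, 24, 48, 28, 60, 31], [54, 27, 46, 1, 33, 24, 33, 0, 41, 27, 24, 27, 46, 1, 33, 24, 33, 0, 41, 27, 24, 27, 46, 1, 33], [48, 28, 60, 31, 24, 31, 59, 28, 39, 24, 48, 28, 60, 31, 24, 31, 59, 28, 39, 24, 48, 28, 60, 31, 36, 54, 51, 48, 24, 39, 51, 55, 37, 24, 36, 54, 51, 48, 36,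 54, 51, 48, 24, 39, 51, 55, 37, 24, 36, 54, 51, 48], [22, 14, 43, 14, 24, 15, 44, 15, 23, 24, 22, 14, 43, 14], [56, 52, 36, 54, 51, 48, 24, 39, 51, 55, 37, 24, 36, 54, 51, 48], [52, 44, 28, 17, 24, 16, 28, 43, 24, 44, 28, 17, 24, 16, 28, 43, 24, 44, 28, 17], [27, 46, 1, 33, 24, 33, 0, 41, 27, 24, 27, 46, 1, 33, 24, 33, 0, 41, 27, 24, 27, 46, 1, 33], [36, 54, 51, 48, 24, 39, 51, 55, 37, 24, 36, 54, 51, 48, 27, 46, 1, 33, 24, 33, 0, 41, 27, 24, 27, 46, 1, 33, 24, 33, 0, 41, 27, 24, 27, 46, 1, 33], [59, 48, 28, 60, 31, 24, 31, 59, 28, 39, 24, 48, 28, 60, 31, 24, 31, 59, 28, 39, 24, 48, 28, 60, 31], [56, 36, 54, 51, 48, 24, 39, 51, 55, 37, 24, 36, 54, 51, 48], [51, 36, 54, 51, 48, 24, 39, 51, 55, 37, 24, 36, 54, 51, 48], [48, 28, 60, 31, 24, 31, 59, 28, 39, 24, 48, 28, 60, 31, 24, 31, 59, 28, 39, 24, 48, 28, 60, 31], [44, 28, 17, 24, 16, 28, 43, 24, 44, 28, 17, 24, 16, 28, 43, 24, 44, 28, 17, 36, 54, 51, 48, 24, 39, 51, 55, 37, 24, 36, 54, 51, 48], [57, 44, 28, 17, 24, 16, 28, 43, 24, 44,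 28, 17, 24, 16, 28, 43, 24, 44, 28, 17], [48, 28, 60, 31, 24, 31, 59, 28, 39, 24, 48, 28, 60, 31, 24, 31, 59, 28, 39, 24, 48, 28, 60, 31, 56, 36, 54, 51, 48, 24, 39, 51, 55, 37, 24, 36, 54, 51, 48], [36, 54, 51, 48, 24, 39, 51, 55, 37, 24, 36, 54, 51, 48, 36, 54, 51, 48, 24, 39, 51, 55, 37, 24, 36, 54, 51, 48], [44, 28, 17, 24, 16, 28, 43, 24, 44, 28, 17, 24, 16, 28, 43, 24, 44, 28, 17, 44, 28, 17, 24, 16, 28, 43, 24, 44, 28, 17, 24, 16, 28, 43, 24, 44, 28, 17], [27, 46, 1, 33, 24, 33, 0, 41, 27, 24, 27, 46, 1, 33, 24, 33, 0, 41, 27, 24, 27, 46, 1, 33, 36, 54, 51, 48, 24, 39, 51, 55, 37, 24, 36, 54, 51, 48, 36, 54, 51, 48, 24, 39, 51, 55, 37, 24, 36, 54, 51, 48], [22, 14, 43, 14, 24, 15, 44, 15, 23, 24, 22, 14, 43, 14, 56, 36, 54, 51, 48, 24, 39, 51, 55, 37, 24, 36, 54, 51, 48], [52, 51, 36, 54, 51, 48, 24, 39, 51, 55, 37, 24, 36, 54, 51, 48], [22, 14, 43, 14, 24, 15, 44, 15, 23, 24, 22, 14, 43, 14, 36, 54, 51, 48, 24, 39, 51, 55, 37, 24, 36, 54, 51, 48], [56, 44, 28, 17, 24, 16, 28,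 43, 24, 44, 28, 17, 24, 16, 28, 43, 24, 44, 28, 17], [59, 36, 54, 51, 48, 24, 39, 51, 55, 37, 24, 36, 54, 51, 48], [44, 28, 17, 24, 16, 28, 43, 24, 44, 28, 17, 24, 16, 28, 43, 24, 44, 28, 17], [27, 46, 1, 33, 24, 33, 0, 41, 27, 24, 27, 46, 1, 33, 24, 33, 0, 41, 27, 24, 27, 46, 1, 33, 36, 54, 51, 48, 24, 39, 51, 55, 37, 24, 36, 54, 51, 48], [37, 60, 6, 57, 24, 58, 7, 59, 36, 24, 37, 60, 6, 57, 24, 58, 7, 59, 36, 24, 37, 60, 6, 57, 51, 36, 54, 51, 48, 24, 39, 51, 55, 37, 24, 36, 54, 51, 48], [27, 46, 1, 33, 24, 33, 0, 41, 27, 24, 27, 46, 1, 33, 24, 33, 0, 41, 27, 24, 27, 46, 1, 33, 59, 36, 54, 51, 48, 24, 39, 51, 55, 37, 24, 36, 54, 51, 48], [60, 56, 24, 36, 54, 51, 48, 24, 39, 51, 55, 37, 24, 36, 54, 51, 48], [22, 14, 43, 14, 24, 15, 44, 15, 23, 24, 22, 14, 43, 14, 44, 28, 17, 24, 16, 28, 43, 24, 44, 28, 17, 24, 16, 28, 43, 24, 44, 28, 17], [52, 36, 54, 51, 48, 24, 39, 51, 55, 37, 24, 36, 54, 51, 48], [22, 14, 43, 14, 24, 15, 44, 15, 23, 24, 22, 14, 43, 14, 51, 36, 54, 51, 48, 24, 39,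 51, 55, 37, 24, 36, 54, 51, 48]]

/-- the words of elements of the centralizer of the involution that fix the first point, no two in
the same coset of the normalizer. -/
def dWs : List (List ℕ) :=
  [[], [16, 7, 31, 24, 31, 6, 17, 24, 16, 7, 31, 24, 31, 6, 17, 24, 16, 7, 31], [37, 60, 6, 57, 24, 58, 7, 59, 36, 24, 37, 60, 6, 57, 24, 58, 7, 59, 36, 24, 37, 60, 6, 57], [39, 51, 55, 37, 24, 36, 54, 51, 48, 24, 39, 51, 55, 37, 53, 54, 36, 54, 51, 48, 24, 39, 51, 55, 37, 24, 36, 54, 51, 48], [16, 28, 43, 24, 44, 28, 17, 24, 16, 28, 43, 24, 44, 28, 17, 24, 16, 28, 43, 57, 36, 54, 51, 48, 24, 39, 51, 55, 37, 24, 36, 54, 51, 48]]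

/-- the check that a word commutes with the involution. -/
def commChkW (w : List ℕ) : Bool :=
  allB (fun x => Nat.beq (evalT dD w (tF dD dS 0 x)) (tF dD dS 0 (evalT dD w x))) 275

/-- the check over a list of words. -/
def allWs (p : List ℕ → Bool) (l : List (List ℕ)) : Bool :=
  List.rec true (fun w _ ih => andB (p w) ih) l

theorem allWs_true {p : List ℕ → Bool} {l : List (List ℕ)} (h : allWs p l = true) :
    ∀ i, i < l.length → p (nthW l i) = true := by
  induction l with
  | nil => intro i hi; exact absurd hi (Nat.not_lt_zero _)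
  | cons a l ih =>
    have h' : andB (p a) (allWs p l) = true := h
    obtain ⟨h1, h2⟩ := andB_true h'
    intro i hi
    cases i with
    | zero => exact h1
    | succ i => exact ih h2 i (Nat.lt_of_succ_lt_succ hi)

set_option maxRecDepth 1000000 in
theorem c_comm_b : allWs commChkW cWs = true := by decide +kernel

set_option maxRecDepth 1000000 in
theorem d_comm_b : allWs (fun w => andB (commChkW w) (Nat.beq (evalT dD w 0) 0)) dWs = true := by
  decide +kernel

theorem gW_mem_CT {w : List ℕ} (h : commChkW w = true) : gW core w ∈ CT := by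
  rw [Subgroup.mem_centralizer_singleton_iff]
  exact eq_of_allB core (Comp.coe_mul core (comp_gW core w) (comp_tE core dS 0))
    (Comp.coe_mul core (comp_tE core dS 0) (comp_gW core w)) h

theorem cWs_len : cWs.length = 35 := by decide

theorem dWs_len : dWs.length = 5 := by decide

/-- the images of the first point are different. -/
def imgL : List ℕ := cWs.map (fun w => evalT dD w 0)

set_option maxRecDepth 1000000 in
theorem img_nodup : imgL.Nodup := by decide +kernel

theorem img_ne {i j : ℕ} (hi : i < 35) (hj : j < 35) (hij : i ≠ j) :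
    evalT dD (nthW cWs i) 0 ≠ evalT dD (nthW cWs j) 0 := by
  intro h
  have hl : imgL.length = 35 := by
    unfold imgL
    rw [List.length_map, cWs_len]
  have h1 : imgL[i]'(by rw [hl]; exact hi) = imgL[j]'(by rw [hl]; exact hj) := by
    unfold imgL
    rw [List.getElem_map, List.getElem_map]
    have e1 : cWs[i]'(by rw [cWs_len]; exact hi) = nthW cWs i := by
      rw [nthW_eq, List.getD_eq_getElem _ _ (by rw [cWs_len]; exact hi)]
    have e2 : cWs[j]'(by rw [cWs_len]; exact hj) = nthW cWs j := by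
      rw [nthW_eq, List.getD_eq_getElem _ _ (by rw [cWs_len]; exact hj)]
    rw [e1, e2]
    exact h
  exact hij ((List.Nodup.getElem_inj_iff img_nodup).mp h1)

theorem card_DT : 35 * Nat.card ↥DT ≤ Nat.card ↥CT := by
  apply card_mul_le_of_cosets DT CT inf_le_left 35 (fun i => gW core (nthW cWs i))
  · intro i hi
    exact gW_mem_CT (allWs_true c_comm_b i (by rw [cWs_len]; exact hi))
  · intro i j hi hj hij hmem
    apply img_ne hi hj hij
    have h1 : ((gW core (nthW cWs i))⁻¹ * gW core (nthW cWs j)).1 pt0 = pt0 := hmem.2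
    have h2 : (gW core (nthW cWs j)).1 pt0 = (gW core (nthW cWs i)).1 pt0 := by
      have h3 : ((gW core (nthW cWs i))⁻¹ * gW core (nthW cWs j)).1 pt0 =
          ((gW core (nthW cWs i)).1)⁻¹ ((gW core (nthW cWs j)).1 pt0) := rfl
      rw [h3] at h1
      have h4 := congrArg (gW core (nthW cWs i)).1 h1
      simpa using h4
    have h5 : ((gW core (nthW cWs i)).1 pt0).val = evalT dD (nthW cWs i) 0 :=
      comp_gW core (nthW cWs i) pt0
    have h6 : ((gW core (nthW cWs j)).1 pt0).val = evalT dD (nthW cWs j) 0 :=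
      comp_gW core (nthW cWs j) pt0
    rw [h2] at h6
    rw [← h5, ← h6]

/-- the image of a point under the conjugate of a generator by the quotient of two words. -/
def conjF (a b : List ℕ) (s x : ℕ) : ℕ :=
  evalI dD a (evalT dD b (tF dD dS s (evalI dD b (evalT dD a x))))

/-- the check that the conjugate of a generator by the quotient of two words is not in the
subgroup. -/
def nonMem (a b : List ℕ) (s : ℕ) : Bool :=
  allB (fun e => notB (allB (fun x => Nat.beq (nfF dD dS 7 e x) (conjF a b s x)) 275)) 128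

theorem not_mem_NP {a b : List ℕ} {s : ℕ} (hs : s < 7) (h : nonMem a b s = true) :
    (gW core a)⁻¹ * gW core b ∉ NP := by
  intro hmem
  have h1 := conj_mem_P hmem (tE_mem core (S := dS) hs)
  obtain ⟨e, he, h2⟩ := mem_SH core sylOK hN le_rfl h1
  have h3 := notB_true (allB_true h he)
  have c1 : Comp ((gW core a)⁻¹ * gW core b).1 (fun z => evalI dD a (evalT dD b z)) :=
    Comp.coe_mul core (comp_gW_inv core a) (comp_gW core b)
  have e4 : ((gW core a)⁻¹ * gW core b)⁻¹ = (gW core b)⁻¹ * gW core a := by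
    rw [mul_inv_rev, inv_inv]
  have c2 : Comp (((gW core a)⁻¹ * gW core b)⁻¹).1 (fun z => evalI dD b (evalT dD a z)) := by
    rw [e4]
    exact Comp.coe_mul core (comp_gW_inv core b) (comp_gW core a)
  have c3 : Comp ((gW core a)⁻¹ * gW core b * tE core dS s * ((gW core a)⁻¹ * gW core b)⁻¹).1
      (conjF a b s) := by
    intro x
    exact Comp.coe_mul core (Comp.coe_mul core c1 (comp_tE core dS s)) c2 x
  have h4 : allB (fun x => Nat.beq (nfF dD dS 7 e x) (conjF a b s x)) 275 = true := by
    apply allB_of_forall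
    intro i hi
    have h5 := Comp.all_of_eq c3 (comp_nfG core dS dS.k e) (congrArg Subtype.val h2) (x := i) hi
    change Nat.beq (nfF dD dS 7 e i) (conjF a b s i) = true
    rw [h5]
    exact Nat.beq_refl _
  rw [h4] at h3
  exact Bool.noConfusion h3

set_option maxRecDepth 1000000 in
theorem non_b : allB (fun i => allB (fun j => orB (Nat.beq i j)
    (nonMem (nthW dWs i) (nthW dWs j) 3)) 5) 5 = true := by decide +kernel

theorem gW_mem_DT {w : List ℕ}
    (h : andB (commChkW w) (Nat.beq (evalT dD w 0) 0) = true) : gW core w ∈ DT := by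
  obtain ⟨h1, h2⟩ := andB_true h
  refine ⟨gW_mem_CT h1, ?_⟩
  change (gW core w).1 pt0 = pt0
  apply Fin.ext
  rw [comp_gW core w pt0]
  exact Nat.eq_of_beq_eq_true h2

theorem card_NP : 5 * Nat.card ↥NP ≤ Nat.card ↥DT := by
  apply card_mul_le_of_cosets NP DT NP_le_DT 5 (fun i => gW core (nthW dWs i))
  · intro i hi
    exact gW_mem_DT (allWs_true d_comm_b i (by rw [dWs_len]; exact hi))
  · intro i j hi hj hij
    rcases orB_true (allB_true (allB_true non_b hi) hj) with h1 | h1
    · exact absurd (Nat.eq_of_beq_eq_true h1) hij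
    · exact not_mem_NP (by norm_num) h1

/-- the subgroup is its own normalizer. -/
theorem NP_le_P : NP ≤ P := by
  have h1 : P ≤ NP := Subgroup.le_normalizer
  have h2 : Nat.card ↥NP ≤ 230 := by
    have := card_NP
    have := card_DT
    have := card_CT
    omega
  have h3 : Nat.card ↥P ∣ Nat.card ↥NP := Subgroup.card_dvd_of_le h1
  rw [card_P] at h3
  obtain ⟨q, hq⟩ := h3
  have hq1 : q = 1 := by
    have hpos : 0 < Nat.card ↥NP := Nat.card_pos
    rcases Nat.lt_or_ge q 1 with h | h
    · have : q = 0 := by omega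
      rw [this] at hq
      omega
    · rcases Nat.lt_or_ge q 2 with h' | h'
      · omega
      · exfalso
        have : 2 ^ 7 * 2 ≤ 2 ^ 7 * q := Nat.mul_le_mul_left _ h'
        omega
  have h4 : Nat.card ↥NP ≤ Nat.card ↥P := by rw [hq, hq1, card_P, mul_one]
  exact (Subgroup.eq_of_le_of_card_ge h1 h4).ge

/-! ### the criterion -/

/-- the Sylow subgroup. -/
def S₀ : Sylow 2 ↥(GS core) :=
  have : Fact (Nat.Prime 2) := ⟨Nat.prime_two⟩
  Sylow.ofCard P (by rw [card_P, factorization_two_card core sylOK hN]; rfl)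

theorem S₀_coe : (S₀ : Subgroup ↥(GS core)) = P := rfl

/-- the criterion for the group of the tables. -/
theorem crit_S₀ : Crit 2 (S₀ : Subgroup ↥(GS core)) := by
  have : Fact (Nat.Prime 2) := ⟨Nat.prime_two⟩
  rw [S₀_coe]
  apply crit_of_self_normalizing 2 P
  · exact IsPGroup.of_card card_P
  · exact NP_le_P
  · intro x hx hx1 hxc
    have h1 : x = t := by
      rcases center_cases core sylOK hN hx (fun y hy => (hxc y hy).symm) with h | h
      · exact absurd h hx1
      · exact h
    rw [h1]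
    exact P_le_closure

theorem S₀_ne_bot : (S₀ : Subgroup ↥(GS core)) ≠ ⊥ := by
  rw [S₀_coe]
  intro h
  have := card_P
  rw [h, Subgroup.card_bot] at this
  norm_num at this

/-- the 2-fusion system of a group isomorphic to the group of McLaughlin is simple. -/
theorem fusion_simple {G : Type*} [Group G] [Finite G] (hG : Cfsg.Spor.IsoMcL G) (S : Sylow 2 G) :
    (Cfsg.groupFusionSystem (S : Subgroup G)).IsSimple 2 := by
  have : Fact (Nat.Prime 2) := ⟨Nat.prime_two⟩
  obtain ⟨e⟩ := hG
  obtain ⟨⟨e2⟩, -⟩ := mcl_iso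
  exact isSimple_of_equiv 2 S₀ S₀_ne_bot crit_S₀ (e.trans e2).symm S

end Cfsg.Agent.Helper3.McLFus

end
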