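import Mathlib
import Cfsg.Agent.Helper7.Transvections

set_option autoImplicit false

/-!
# `SL(W)` (abstract) is generated by transvections  (piece H1 of S5075)
-/

namespace Cfsg.Agent.Helper3.McL

open Module

variable {F W : Type*} [Field F] [AddCommGroup W] [Module F W]

/-- Matrix of the transvection `x ↦ x + a * x_j • b i` in the basis `b`. -/
theorem toMatrix_transvection {ι : Type*} [Fintype ι] [DecidableEq ι] (b : Basis ι F W)
    {i j : ι} (a : F) (h0 : (a • b.coord j) (b i) = 0) :
    LinearMap.toMatrix b b ((LinearEquiv.transvection h0 : W ≃ₗ[F] W) : W →ₗ[F] W) =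
      (1 : Matrix ι ι F) + Matrix.single i j a := by
  ext x y
  rw [LinearMap.toMatrix_apply]
  simp only [LinearEquiv.coe_coe, LinearEquiv.transvection.apply, LinearMap.smul_apply,
    Basis.coord_apply, Basis.repr_self, map_add, map_smul, Finsupp.coe_add, Finsupp.coe_smul,
    Pi.add_apply, Pi.smul_apply, smul_eq_mul, Matrix.add_apply, Matrix.one_apply,
    Matrix.single_apply, Finsupp.single_apply]
  by_cases hxy : x = y
  · subst hxy
    by_cases hjx : j = x
    · subst hjx
      by_cases hij : i = j
      · subst hij; simp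
      · simp [hij]
    · have hxj : ¬ x = j := fun h => hjx h.symm
      simp [hjx, hxj]
  · have hyx : ¬ y = x := fun h => hxy h.symm
    by_cases hjy : j = y
    · subst hjy
      by_cases hix : i = x
      · subst hix; simp [hxy, hyx]
      · simp [hxy, hyx, hix]
    · have hyj : ¬ y = j := fun h => hjy h.symm
      simp [hxy, hyx, hjy, hyj]

variable [FiniteDimensional F W]

/-- **H1**: a subgroup of `GL(W)` containing all transvections contains every element of
determinant one. -/
theorem mem_of_det_eq_one (K : Subgroup (W ≃ₗ[F] W))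
    (hK : ∀ (φ : Module.Dual F W) (v : W) (h : φ v = 0), LinearEquiv.transvection h ∈ K)
    (f : W ≃ₗ[F] W) (hf : LinearMap.det (f : W →ₗ[F] W) = 1) : f ∈ K := by
  classical
  let b : Basis (Module.Free.ChooseBasisIndex F W) F W := Module.Free.chooseBasis F W
  have hinj : ∀ g₁ g₂ : W ≃ₗ[F] W, LinearMap.toMatrix b b (g₁ : W →ₗ[F] W) =
      LinearMap.toMatrix b b (g₂ : W →ₗ[F] W) → g₁ = g₂ := by
    intro g₁ g₂ h
    exact LinearEquiv.toLinearMap_injective ((LinearMap.toMatrix b b).injective h)
  by_cases hnt : Nontrivial (Module.Free.ChooseBasisIndex F W)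
  · have key : ∀ M : Matrix.SpecialLinearGroup (Module.Free.ChooseBasisIndex F W) F,
        ∀ g : W ≃ₗ[F] W, LinearMap.toMatrix b b (g : W →ₗ[F] W) = M.1 → g ∈ K := by
      intro M
      refine Cfsg.Agent.Helper7.Transv.transvection_induction
        (fun M => ∀ g : W ≃ₗ[F] W, LinearMap.toMatrix b b (g : W →ₗ[F] W) = M.1 → g ∈ K)
        ?_ ?_ M
      · intro i j hij a g hg
        have h0 : (a • b.coord j) (b i) = 0 := by
          simp [Basis.coord_apply, Basis.repr_self, hij]
        have hge : g = LinearEquiv.transvection h0 := by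
          apply hinj
          rw [hg, toMatrix_transvection b a h0]
          rfl
        rw [hge]
        exact hK _ _ _
      · intro A B hA hB g hg
        have hAu : IsUnit A.1.det := by rw [A.2]; exact isUnit_one
        have hBu : IsUnit B.1.det := by rw [B.2]; exact isUnit_one
        have hgA : LinearMap.toMatrix b b
            ((Matrix.toLinearEquiv b A.1 hAu : W ≃ₗ[F] W) : W →ₗ[F] W) = A.1 := by
          have : ((Matrix.toLinearEquiv b A.1 hAu : W ≃ₗ[F] W) : W →ₗ[F] W) =
              Matrix.toLin b b A.1 := rfl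
          rw [this, LinearMap.toMatrix_toLin]
        have hgB : LinearMap.toMatrix b b
            ((Matrix.toLinearEquiv b B.1 hBu : W ≃ₗ[F] W) : W →ₗ[F] W) = B.1 := by
          have : ((Matrix.toLinearEquiv b B.1 hBu : W ≃ₗ[F] W) : W →ₗ[F] W) =
              Matrix.toLin b b B.1 := rfl
          rw [this, LinearMap.toMatrix_toLin]
        have hge : g = Matrix.toLinearEquiv b A.1 hAu * Matrix.toLinearEquiv b B.1 hBu := by
          apply hinj
          rw [hg]
          have : ((Matrix.toLinearEquiv b A.1 hAu * Matrix.toLinearEquiv b B.1 hBu :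
              W ≃ₗ[F] W) : W →ₗ[F] W) =
              ((Matrix.toLinearEquiv b A.1 hAu : W ≃ₗ[F] W) : W →ₗ[F] W) ∘ₗ
                ((Matrix.toLinearEquiv b B.1 hBu : W ≃ₗ[F] W) : W →ₗ[F] W) := rfl
          rw [this, LinearMap.toMatrix_comp b b b, hgA, hgB]
          rfl
        rw [hge]
        exact K.mul_mem (hA _ hgA) (hB _ hgB)
    exact key ⟨LinearMap.toMatrix b b (f : W →ₗ[F] W), by
      rw [LinearMap.det_toMatrix]; exact hf⟩ f rfl
  · rw [not_nontrivial_iff_subsingleton] at hnt
    have h1 : f = 1 := by
      apply hinj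
      have hd : (LinearMap.toMatrix b b (f : W →ₗ[F] W)).det = 1 := by
        rw [LinearMap.det_toMatrix]; exact hf
      ext x y
      have hxy : x = y := Subsingleton.elim _ _
      subst hxy
      rw [Matrix.det_eq_elem_of_subsingleton _ x] at hd
      rw [hd]
      have : ((1 : W ≃ₗ[F] W) : W →ₗ[F] W) = LinearMap.id := rfl
      rw [this, LinearMap.toMatrix_id, Matrix.one_apply_eq]
    rw [h1]
    exact K.one_mem

end Cfsg.Agent.Helper3.McL
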