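import Mathlib

set_option autoImplicit false

/-!
# `Sp(W, B)` (abstract) is generated by symplectic transvections  (piece H2 of S5075)
-/

namespace Cfsg.Agent.Helper3.McL

open Module

variable {F W : Type*} [Field F] [AddCommGroup W] [Module F W]

/-- The fixed space of a linear equivalence. -/
def fixS (f : W ≃ₗ[F] W) : Submodule F W := LinearMap.ker ((f : W →ₗ[F] W) - LinearMap.id)

theorem mem_fixS {f : W ≃ₗ[F] W} {x : W} : x ∈ fixS f ↔ f x = x := by
  unfold fixS
  rw [LinearMap.mem_ker, LinearMap.sub_apply, LinearMap.id_apply, sub_eq_zero]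
  rfl

variable (B : LinearMap.BilinForm F W)

theorem alt_swap (hB : B.IsAlt) (x y : W) : B x y = - B y x := (hB.neg_eq y x).symm

theorem sympTransv_zero (hB : B.IsAlt) (c : F) (v : W) : (c • B v) v = 0 := by
  rw [LinearMap.smul_apply, hB.self_eq_zero, smul_zero]

theorem sympTransv_apply (c : F) (v : W) (h : (c • B v) v = 0) (x : W) :
    LinearEquiv.transvection h x = x + (c * B v x) • v := by
  rw [LinearEquiv.transvection.apply, LinearMap.smul_apply, smul_eq_mul]

theorem sympTransv_fix (c : F) (v : W) (h : (c • B v) v = 0) (y : W) (hy : B v y = 0) :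
    LinearEquiv.transvection h y = y := by
  rw [sympTransv_apply, hy, mul_zero, zero_smul, add_zero]

theorem sympTransv_isom (hB : B.IsAlt) (c : F) (v : W) (h : (c • B v) v = 0) (x y : W) :
    B (LinearEquiv.transvection h x) (LinearEquiv.transvection h y) = B x y := by
  rw [sympTransv_apply, sympTransv_apply]
  simp only [map_add, map_smul, LinearMap.add_apply, LinearMap.smul_apply, smul_eq_mul,
    hB.self_eq_zero, mul_zero, add_zero]
  rw [alt_swap B hB x v]
  ring

/-- The symplectic transvection along `b - a` moving `a` to `b` when `B b a ≠ 0`. -/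
theorem sympTransv_move (hB : B.IsAlt) (a b : W) (hab : B b a ≠ 0)
    (h : ((B b a)⁻¹ • B (b - a)) (b - a) = 0) :
    LinearEquiv.transvection h a = b := by
  rw [sympTransv_apply]
  have : B (b - a) a = B b a := by
    rw [map_sub, LinearMap.sub_apply, hB.self_eq_zero, sub_zero]
  rw [this, inv_mul_cancel₀ hab, one_smul]
  abel

/-- Two nonzero functionals have a common non-vanishing point, relative to a submodule. -/
theorem exists_both_ne (N : Submodule F W) (φ ψ : W →ₗ[F] F)
    (hφ : ∃ w ∈ N, φ w ≠ 0) (hψ : ∃ w ∈ N, ψ w ≠ 0) : ∃ w ∈ N, φ w ≠ 0 ∧ ψ w ≠ 0 := by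
  obtain ⟨w₁, hw₁, h₁⟩ := hφ
  obtain ⟨w₂, hw₂, h₂⟩ := hψ
  by_cases h3 : ψ w₁ = 0
  · by_cases h4 : φ w₂ = 0
    · refine ⟨w₁ + w₂, N.add_mem hw₁ hw₂, ?_, ?_⟩
      · rw [map_add, h4, add_zero]; exact h₁
      · rw [map_add, h3, zero_add]; exact h₂
    · exact ⟨w₂, hw₂, h4, h₂⟩
  · exact ⟨w₁, hw₁, h₁, h3⟩

variable [FiniteDimensional F W]

/-- One step: enlarge the fixed space of an isometry by multiplying with (at most two)
symplectic transvections. -/
theorem exists_step (hB : B.IsAlt) (hnd : B.Nondegenerate) (K : Subgroup (W ≃ₗ[F] W))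
    (hK : ∀ (c : F) (v : W) (h : (c • B v) v = 0), LinearEquiv.transvection h ∈ K)
    (f : W ≃ₗ[F] W) (hf : ∀ x y, B (f x) (f y) = B x y) (hne : fixS f ≠ ⊤) :
    ∃ t ∈ K, (∀ x y, B (t x) (t y) = B x y) ∧ fixS f < fixS (t * f) := by
  obtain ⟨x, hx⟩ : ∃ x, x ∉ fixS f := by
    by_contra hcon
    push Not at hcon
    exact hne (eq_top_iff.mpr fun x _ => hcon x)
  have hfx : f x ≠ x := fun h => hx (mem_fixS.mpr h)
  -- `f x - x` is orthogonal to the fixed space
  have horth : ∀ y ∈ fixS f, B (x - f x) y = 0 := by
    intro y hy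
    have hy' : f y = y := mem_fixS.mp hy
    rw [map_sub, LinearMap.sub_apply]
    nth_rewrite 2 [← hy']
    rw [hf, sub_self]
  by_cases hcase : B x (f x) = 0
  · -- two transvections
    have hffx : f x ∉ fixS f := by
      intro h
      have := mem_fixS.mp h
      exact hfx (f.injective this)
    have hOO := LinearMap.BilinForm.orthogonal_orthogonal hnd hB.isRefl (fixS f)
    have hex : ∀ a : W, a ∉ fixS f → ∃ w ∈ B.orthogonal (fixS f), B a w ≠ 0 := by
      intro a ha
      by_contra hcon
      push Not at hcon
      apply ha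
      rw [← hOO, LinearMap.BilinForm.mem_orthogonal_iff]
      intro n hn
      rw [alt_swap B hB, hcon n hn, neg_zero]
    obtain ⟨w, hw, hw1, hw2⟩ := exists_both_ne (B.orthogonal (fixS f)) (B x) (B (f x))
      (hex x hx) (hex (f x) hffx)
    rw [LinearMap.BilinForm.mem_orthogonal_iff] at hw
    have hwy : ∀ y ∈ fixS f, B w y = 0 := by
      intro y hy
      rw [alt_swap B hB, hw y hy, neg_zero]
    -- z = x + w
    have h1ne : B (x + w) (f x) ≠ 0 := by
      rw [map_add, LinearMap.add_apply, hcase, zero_add, alt_swap B hB]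
      exact neg_ne_zero.mpr hw2
    have h2ne : B x (x + w) ≠ 0 := by
      rw [map_add, hB.self_eq_zero, zero_add]
      exact hw1
    have hz1 := sympTransv_zero B hB (B (x + w) (f x))⁻¹ ((x + w) - f x)
    have hz2 := sympTransv_zero B hB (B x (x + w))⁻¹ (x - (x + w))
    have hm1 := sympTransv_move B hB (f x) (x + w) h1ne hz1
    have hm2 := sympTransv_move B hB (x + w) x h2ne hz2
    refine ⟨LinearEquiv.transvection hz2 * LinearEquiv.transvection hz1,
      K.mul_mem (hK _ _ _) (hK _ _ _), ?_, ?_⟩
    · intro a b
      rw [LinearEquiv.mul_apply, LinearEquiv.mul_apply, sympTransv_isom B hB, sympTransv_isom B hB]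
    · have hfixy : ∀ y ∈ fixS f,
          (LinearEquiv.transvection hz2 * LinearEquiv.transvection hz1 * f) y = y := by
        intro y hy
        have hy' : f y = y := mem_fixS.mp hy
        rw [LinearEquiv.mul_apply, LinearEquiv.mul_apply, hy']
        rw [sympTransv_fix B _ _ hz1 y, sympTransv_fix B _ _ hz2 y]
        · have : x - (x + w) = -w := by abel
          rw [this, map_neg, LinearMap.neg_apply, hwy y hy, neg_zero]
        · have : x + w - f x = (x - f x) + w := by abel
          rw [this, map_add, LinearMap.add_apply, horth y hy, hwy y hy, add_zero]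
      have hfixx : (LinearEquiv.transvection hz2 * LinearEquiv.transvection hz1 * f) x = x := by
        rw [LinearEquiv.mul_apply, LinearEquiv.mul_apply, hm1, hm2]
      refine lt_of_le_of_ne (fun y hy => mem_fixS.mpr (hfixy y hy)) ?_
      intro heq
      apply hx
      rw [heq]
      exact mem_fixS.mpr hfixx
  · -- one transvection
    have hz := sympTransv_zero B hB (B x (f x))⁻¹ (x - f x)
    have hm := sympTransv_move B hB (f x) x hcase hz
    refine ⟨LinearEquiv.transvection hz, hK _ _ _, sympTransv_isom B hB _ _ hz, ?_⟩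
    have hfixy : ∀ y ∈ fixS f, (LinearEquiv.transvection hz * f) y = y := by
      intro y hy
      have hy' : f y = y := mem_fixS.mp hy
      rw [LinearEquiv.mul_apply, hy', sympTransv_fix B _ _ hz y (horth y hy)]
    have hfixx : (LinearEquiv.transvection hz * f) x = x := by
      rw [LinearEquiv.mul_apply, hm]
    refine lt_of_le_of_ne (fun y hy => mem_fixS.mpr (hfixy y hy)) ?_
    intro heq
    apply hx
    rw [heq]
    exact mem_fixS.mpr hfixx

/-- **H2**: a subgroup of `GL(W)` containing all symplectic transvections contains every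
isometry of the nondegenerate alternating form `B`. -/
theorem mem_of_isometry (B : LinearMap.BilinForm F W) (hB : B.IsAlt) (hnd : B.Nondegenerate)
    (K : Subgroup (W ≃ₗ[F] W))
    (hK : ∀ (c : F) (v : W) (h : (c • B v) v = 0), LinearEquiv.transvection h ∈ K)
    (f : W ≃ₗ[F] W) (hf : ∀ x y, B (f x) (f y) = B x y) : f ∈ K := by
  have key : ∀ n : ℕ, ∀ f : W ≃ₗ[F] W, (∀ x y, B (f x) (f y) = B x y) →
      finrank F W - finrank F (fixS f) = n → f ∈ K := by
    intro n
    induction n using Nat.strong_induction_on with
    | _ n ih =>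
      intro f hf hn
      by_cases htop : fixS f = ⊤
      · have : f = 1 := by
          ext x
          have : x ∈ fixS f := by rw [htop]; exact Submodule.mem_top
          exact mem_fixS.mp this
        rw [this]
        exact K.one_mem
      · obtain ⟨t, htK, htiso, hlt⟩ := exists_step B hB hnd K hK f hf htop
        have hlt' := Submodule.finrank_lt_finrank_of_lt hlt
        have hle : finrank F (fixS (t * f)) ≤ finrank F W := Submodule.finrank_le _
        have hmem : t * f ∈ K := by
          refine ih (finrank F W - finrank F (fixS (t * f))) (by omega) (t * f) ?_ rfl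
          intro a b
          rw [LinearEquiv.mul_apply, LinearEquiv.mul_apply, htiso, hf]
        have : f = t⁻¹ * (t * f) := by group
        rw [this]
        exact K.mul_mem (K.inv_mem htK) hmem
  exact key _ f hf rfl

end Cfsg.Agent.Helper3.McL
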