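import Cfsg.Agent.Helper7.McLK
import Cfsg.Agent.Helper3.McLGenA
import Cfsg.Agent.Helper3.McLGenB

set_option autoImplicit false

/-!
# McLaughlin's theorem: the local range theorem (piece P of S5075)

For a complete structure `CS H S N`, the group `KS H S` fixes `N` pointwise, stabilises `S`, and
induces on `S` exactly `SL(S)` or `Sp(S, B')`.
-/

namespace Cfsg.Agent.Helper3.McL

open Module Cfsg.Agent.Helper7.McL

variable {F V : Type*} [Field F] [AddCommGroup V] [Module F V]

/-- Restriction of a linear equivalence stabilising `S` (in both directions) to `S`. -/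
def resEquiv (S : Submodule F V) (g : V ≃ₗ[F] V) (h1 : ∀ s ∈ S, g s ∈ S)
    (h2 : ∀ s ∈ S, g⁻¹ s ∈ S) : ↥S ≃ₗ[F] ↥S :=
  LinearEquiv.ofLinearMap ((g : V →ₗ[F] V).restrict h1) (((g⁻¹ : V ≃ₗ[F] V) : V →ₗ[F] V).restrict h2)
    (by
      ext x
      simp only [LinearMap.coe_comp, Function.comp_apply, LinearMap.coe_restrict_apply,
        LinearEquiv.coe_coe, LinearMap.id_coe, id_eq]
      rw [← LinearEquiv.mul_apply, mul_inv_cancel]
      rfl)
    (by
      ext x
      simp only [LinearMap.coe_comp, Function.comp_apply, LinearMap.coe_restrict_apply,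
        LinearEquiv.coe_coe, LinearMap.id_coe, id_eq]
      rw [← LinearEquiv.mul_apply, inv_mul_cancel]
      rfl)

theorem resEquiv_coe (S : Submodule F V) (g : V ≃ₗ[F] V) (h1 : ∀ s ∈ S, g s ∈ S)
    (h2 : ∀ s ∈ S, g⁻¹ s ∈ S) (x : ↥S) : ((resEquiv S g h1 h2 x : ↥S) : V) = g (x : V) := rfl

variable {H : Subgroup (V ≃ₗ[F] V)} {S N : Submodule F V}

theorem KS_fix_N (hcs : CS H S N) : ∀ h ∈ KS H S, ∀ z ∈ N, h z = z := by
  intro h hh
  unfold KS at hh
  induction hh using Subgroup.closure_induction with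
  | mem g hg =>
    obtain ⟨φ, s, hs, hr, rfl⟩ := hg
    intro z hz
    by_cases hs0 : s = 0
    · subst hs0; simp
    · rw [tv_apply hr.1, hcs.ax_N s hs hs0 φ hr z hz, zero_smul, add_zero]
  | one => intro z _; rfl
  | mul x y _ _ hx hy =>
    intro z hz
    rw [LinearEquiv.mul_apply, hy z hz, hx z hz]
  | inv x _ hx =>
    intro z hz
    have := hx z hz
    calc x⁻¹ z = x⁻¹ (x z) := by rw [this]
      _ = z := by rw [← LinearEquiv.mul_apply, inv_mul_cancel]; rfl

theorem KS_stab_S : ∀ h ∈ KS H S, (∀ s ∈ S, h s ∈ S) ∧ (∀ s ∈ S, h⁻¹ s ∈ S) := by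
  intro h hh
  unfold KS at hh
  induction hh using Subgroup.closure_induction with
  | mem g hg =>
    obtain ⟨φ, s, hs, hr, rfl⟩ := hg
    constructor
    · intro x hx
      rw [tv_apply hr.1]
      exact S.add_mem hx (S.smul_mem _ hs)
    · intro x hx
      rw [tv_inv hr.1, tv_apply (by simp [hr.1])]
      exact S.add_mem hx (S.smul_mem _ hs)
  | one =>
    constructor
    · intro x hx; exact hx
    · intro x hx; rw [inv_one]; exact hx
  | mul x y _ _ hx hy =>
    constructor
    · intro s hs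
      rw [LinearEquiv.mul_apply]
      exact hx.1 _ (hy.1 s hs)
    · intro s hs
      rw [mul_inv_rev, LinearEquiv.mul_apply]
      exact hy.2 _ (hx.2 s hs)
  | inv x _ hx =>
    constructor
    · exact hx.2
    · rw [inv_inv]; exact hx.1

/-- The restriction homomorphism `KS H S → GL(S)`. -/
def rhoKS (H : Subgroup (V ≃ₗ[F] V)) (S : Submodule F V) : ↥(KS H S) →* (↥S ≃ₗ[F] ↥S) where
  toFun h := resEquiv S (h : V ≃ₗ[F] V) (KS_stab_S _ h.2).1 (KS_stab_S _ h.2).2
  map_one' := by
    ext x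
    rfl
  map_mul' := by
    intro a b
    ext x
    rfl

theorem rhoKS_coe (h : ↥(KS H S)) (v : ↥S) :
    ((rhoKS H S h v : ↥S) : V) = (h : V ≃ₗ[F] V) (v : V) := rfl

/-- To show `range ≤ G`, it suffices to treat the generators. -/
theorem rhoKS_range_le (G : Subgroup (↥S ≃ₗ[F] ↥S))
    (hgen : ∀ (φ : Dual F V) (s : V) (hs : s ∈ S) (hr : Rl H φ s),
      rhoKS H S ⟨tv φ s, tv_mem_KS hs hr⟩ ∈ G) : (rhoKS H S).range ≤ G := by
  rintro _ ⟨⟨h, hh⟩, rfl⟩
  have hh' := hh
  unfold KS at hh'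
  induction hh' using Subgroup.closure_induction with
  | mem g hg =>
    obtain ⟨φ, s, hs, hr, rfl⟩ := hg
    exact hgen φ s hs hr
  | one =>
    have : (⟨1, hh⟩ : ↥(KS H S)) = 1 := rfl
    rw [this, map_one]
    exact G.one_mem
  | mul x y hx hy ihx ihy =>
    have hx' : x ∈ KS H S := hx
    have hy' : y ∈ KS H S := hy
    have : (⟨x * y, hh⟩ : ↥(KS H S)) = ⟨x, hx'⟩ * ⟨y, hy'⟩ := rfl
    rw [this, map_mul]
    exact G.mul_mem (ihx hx') (ihy hy')
  | inv x hx ihx =>
    have hx' : x ∈ KS H S := hx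
    have : (⟨x⁻¹, hh⟩ : ↥(KS H S)) = (⟨x, hx'⟩ : ↥(KS H S))⁻¹ := rfl
    rw [this, map_inv]
    exact G.inv_mem (ihx hx')


/-- The image of a generator under `rhoKS` is the restricted transvection. -/
theorem rhoKS_tv {φ : Dual F V} {s : V} (hs : s ∈ S) (hr : Rl H φ s)
    (h0 : (φ ∘ₗ S.subtype) (⟨s, hs⟩ : ↥S) = 0) :
    rhoKS H S ⟨tv φ s, tv_mem_KS hs hr⟩ = LinearEquiv.transvection h0 := by
  ext x
  rw [rhoKS_coe]
  change tv φ s (x : V) = ((LinearEquiv.transvection h0 x : ↥S) : V)
  rw [tv_apply hr.1, LinearEquiv.transvection.apply]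
  rfl

variable [FiniteDimensional F V]

/-- **Piece P** (local range theorem). -/
theorem CS.exists_rho (hH : Hyp H) (hcs : CS H S N) :
    (∀ h ∈ KS H S, ∀ z ∈ N, h z = z) ∧ (∀ h ∈ KS H S, ∀ s ∈ S, h s ∈ S) ∧
    ∃ ρ : ↥(KS H S) →* (↥S ≃ₗ[F] ↥S),
      (∀ (h : ↥(KS H S)) (v : ↥S), ((ρ h v : ↥S) : V) = (h : V ≃ₗ[F] V) (v : V)) ∧
      ((ρ.range : Set (↥S ≃ₗ[F] ↥S)) =
          {f : ↥S ≃ₗ[F] ↥S | LinearMap.det (f : ↥S →ₗ[F] ↥S) = 1} ∨
        ∃ B : LinearMap.BilinForm F ↥S, B.IsAlt ∧ B.Nondegenerate ∧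
          (ρ.range : Set (↥S ≃ₗ[F] ↥S)) =
            {f : ↥S ≃ₗ[F] ↥S | ∀ x y, B (f x) (f y) = B x y}) := by
  refine ⟨KS_fix_N hcs, fun h hh => (KS_stab_S h hh).1, rhoKS H S, rhoKS_coe, ?_⟩
  rcases hcs.type with hSL | ⟨B, hBalt, hBN, hBrl⟩
  · left
    ext f
    simp only [SetLike.mem_coe, Set.mem_ofPred_eq]
    constructor
    · intro hf
      have hle := rhoKS_range_le (H := H) (S := S)
        (MonoidHom.ker (LinearEquiv.det : (↥S ≃ₗ[F] ↥S) →* Fˣ)) ?_ hf
      · rw [MonoidHom.mem_ker] at hle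
        rw [← LinearEquiv.coe_det, hle, Units.val_one]
      · intro φ s hs hr
        have h0 : (φ ∘ₗ S.subtype) (⟨s, hs⟩ : ↥S) = 0 := hr.1
        rw [rhoKS_tv hs hr h0, MonoidHom.mem_ker]
        exact LinearEquiv.transvection.det_eq_one h0
    · intro hf
      refine mem_of_det_eq_one (rhoKS H S).range ?_ f hf
      intro ξ v h
      by_cases hv : v = 0
      · subst hv
        rw [LinearEquiv.transvection.of_right_eq_zero]
        exact (rhoKS H S).range.one_mem
      · have hv' : (v : V) ≠ 0 := fun h0 => hv (Subtype.ext h0)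
        set φ : Dual F V := ξ ∘ₗ (S.projectionOnto N hcs.compl) with hφ
        have hφS : ∀ x : ↥S, φ (x : V) = ξ x := by
          intro x
          rw [hφ, LinearMap.comp_apply, Submodule.projectionOnto_apply_left]
        have hφN : ∀ z ∈ N, φ z = 0 := by
          intro z hz
          rw [hφ, LinearMap.comp_apply, Submodule.projectionOnto_apply_of_mem_right hcs.compl hz,
            map_zero]
        have hφv : φ (v : V) = 0 := by rw [hφS, h]
        have hr : Rl H φ (v : V) := hSL (v : V) v.2 hv' φ hφN hφv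
        have h0 : (φ ∘ₗ S.subtype) (⟨(v : V), v.2⟩ : ↥S) = 0 := hr.1
        refine ⟨⟨tv φ (v : V), tv_mem_KS v.2 hr⟩, ?_⟩
        rw [rhoKS_tv v.2 hr h0]
        ext x
        rw [LinearEquiv.transvection.apply, LinearEquiv.transvection.apply]
        have : (φ ∘ₗ S.subtype) x = ξ x := hφS x
        rw [this]
  · right
    have hBN0 : ∀ n ∈ N, ∀ x : V, B n x = 0 := by
      intro n hn x
      rw [(hBN n).mpr hn]
      rfl
    have hBN1 : ∀ n ∈ N, ∀ x : V, B x n = 0 := by
      intro n hn x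
      rw [alt_swap B hBalt, hBN0 n hn, neg_zero]
    have halt' : (B.restrict S).IsAlt := by
      intro x
      exact hBalt (x : V)
    have hnd' : (B.restrict S).Nondegenerate := by
      refine (LinearMap.IsRefl.nondegenerate_iff_separatingLeft halt'.isRefl).mpr ?_
      intro x hx
      have hxN : (x : V) ∈ N := by
        rw [← hBN]
        ext v
        obtain ⟨s, hs, n, hn, rfl⟩ : ∃ s ∈ S, ∃ n ∈ N, s + n = v := by
          have : v ∈ S ⊔ N := by rw [hcs.compl.sup_eq_top]; exact Submodule.mem_top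
          obtain ⟨s, hs, n, hn, h⟩ := Submodule.mem_sup.mp this
          exact ⟨s, hs, n, hn, h⟩
        rw [map_add, hBN1 n hn, add_zero]
        exact hx ⟨s, hs⟩
      have : (x : V) ∈ S ⊓ N := ⟨x.2, hxN⟩
      rw [hcs.compl.inf_eq_bot, Submodule.mem_bot] at this
      exact Subtype.ext this
    refine ⟨B.restrict S, halt', hnd', ?_⟩
    ext f
    simp only [SetLike.mem_coe, Set.mem_ofPred_eq]
    constructor
    · intro hf
      let G : Subgroup (↥S ≃ₗ[F] ↥S) :=
        { carrier := {f | ∀ x y, (B.restrict S) (f x) (f y) = (B.restrict S) x y}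
          mul_mem' := by
            intro a b ha hb x y
            rw [LinearEquiv.mul_apply, LinearEquiv.mul_apply, ha, hb]
          one_mem' := by intro x y; rfl
          inv_mem' := by
            intro a ha x y
            have := ha (a⁻¹ x) (a⁻¹ y)
            rw [← LinearEquiv.mul_apply, ← LinearEquiv.mul_apply, mul_inv_cancel] at this
            exact this.symm }
      have hle := rhoKS_range_le (H := H) (S := S) G ?_ hf
      · exact hle
      · intro φ s hs hr
        by_cases hs0 : s = 0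
        · subst hs0
          have : (⟨tv φ (0 : V), tv_mem_KS hs hr⟩ : ↥(KS H S)) = 1 := by
            apply Subtype.ext
            simp
          rw [this, map_one]
          exact G.one_mem
        · obtain ⟨c, rfl⟩ := (hBrl s hs hs0 φ).mp hr
          intro x y
          change B ((rhoKS H S ⟨tv (c • B s) s, _⟩ x : ↥S) : V)
            ((rhoKS H S ⟨tv (c • B s) s, _⟩ y : ↥S) : V) = B (x : V) (y : V)
          rw [rhoKS_coe, rhoKS_coe]
          change B (tv (c • B s) s (x : V)) (tv (c • B s) s (y : V)) = _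
          rw [tv_eq hr.1]
          exact sympTransv_isom B hBalt c s hr.1 _ _
    · intro hf
      refine mem_of_isometry (B.restrict S) halt' hnd' (rhoKS H S).range ?_ f hf
      intro c v h
      by_cases hv : v = 0
      · subst hv
        rw [LinearEquiv.transvection.of_right_eq_zero]
        exact (rhoKS H S).range.one_mem
      · have hv' : (v : V) ≠ 0 := fun h0 => hv (Subtype.ext h0)
        have hr : Rl H (c • B (v : V)) (v : V) := (hBrl (v : V) v.2 hv' _).mpr ⟨c, rfl⟩
        have h0 : ((c • B (v : V)) ∘ₗ S.subtype) (⟨(v : V), v.2⟩ : ↥S) = 0 := hr.1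
        refine ⟨⟨tv (c • B (v : V)) (v : V), tv_mem_KS v.2 hr⟩, ?_⟩
        rw [rhoKS_tv v.2 hr h0]
        ext x
        rw [LinearEquiv.transvection.apply, LinearEquiv.transvection.apply]
        rfl

end Cfsg.Agent.Helper3.McL
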