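import Mathlib
import Cfsg.Prelude.Def_OddOrderLocal

set_option autoImplicit false

namespace Cfsg.Agent.Helper3.Meta2Ess

variable {M : Type*} [Group M]

/-- A metacyclic 2-group `M` has no abelian subgroup `H` of index two in which every element of
order at most two is a square, while every element outside `H` induces on `H` an automorphism
that is nontrivial modulo squares. -/
theorem no_homocyclic_aux [Finite M] (hM : IsPGroup 2 M) (hmeta : Cfsg.IsMetacyclic M)
    (H : Subgroup M) (hidx : H.index = 2) (hab : ∀ x ∈ H, ∀ y ∈ H, x * y = y * x)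
    (hsq : ∀ h ∈ H, h ^ 2 = 1 → ∃ h' ∈ H, h = h' ^ 2)
    (hact : ∀ t : M, t ∉ H → ∃ h ∈ H, ¬ ∃ h' ∈ H, t * h * t⁻¹ * h⁻¹ = h' ^ 2) : False := by
  obtain ⟨N, hNn, hNc, hQc⟩ := hmeta
  have := hNn
  have hHn : H.Normal := Subgroup.normal_of_index_eq_two hidx
  -- generator of N
  obtain ⟨⟨a, haN⟩, ha⟩ := hNc.exists_generator
  have hNa : ∀ n ∈ N, ∃ i : ℤ, n = a ^ i := by
    intro n hn
    obtain ⟨i, hi⟩ := Subgroup.mem_zpowers_iff.1 (ha ⟨n, hn⟩)
    refine ⟨i, ?_⟩
    have := congrArg Subtype.val hi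
    simpa using this.symm
  -- generator of M/N
  obtain ⟨gbar, hgbar⟩ := hQc.exists_generator
  obtain ⟨g, rfl⟩ := QuotientGroup.mk_surjective gbar
  have hMg : ∀ x : M, ∃ k : ℤ, ∃ n ∈ N, x = g ^ k * n := by
    intro x
    obtain ⟨k, hk⟩ := Subgroup.mem_zpowers_iff.1 (hgbar (x : M ⧸ N))
    have h1 : ((g ^ k : M) : M ⧸ N) = (x : M ⧸ N) := by
      rw [← hk]; rfl
    rw [QuotientGroup.eq] at h1
    exact ⟨k, (g ^ k)⁻¹ * x, h1, by group⟩
  -- commutators lie in N
  have hcomm : ∀ x y : M, x * y * x⁻¹ * y⁻¹ ∈ N := by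
    intro x y
    rw [← QuotientGroup.eq_one_iff]
    simp only [QuotientGroup.mk_mul, QuotientGroup.mk_inv]
    have hc : ∀ u v : M ⧸ N, u * v = v * u := fun u v => hQc.commGroup.mul_comm u v
    rw [hc (x : M ⧸ N) (y : M ⧸ N)]
    group
  -- squares of elements lie in H
  have hsqH : ∀ x : M, x * x ∈ H := fun x => Subgroup.mul_self_mem_of_index_two hidx x
  -- conjugation by t inverts commutators [t, h]
  have hinv : ∀ t : M, ∀ h ∈ H, t * (t * h * t⁻¹ * h⁻¹) * t⁻¹ = (t * h * t⁻¹ * h⁻¹)⁻¹ := by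
    intro t h hh
    have h1 : (t * t) * h = h * (t * t) := hab _ (hsqH t) _ hh
    have h2 : t * t * h * t⁻¹ * t⁻¹ = h := by
      rw [h1]; group
    calc t * (t * h * t⁻¹ * h⁻¹) * t⁻¹ = (t * t * h * t⁻¹ * t⁻¹) * (t * h⁻¹ * t⁻¹) := by group
      _ = h * (t * h⁻¹ * t⁻¹) := by rw [h2]
      _ = (t * h * t⁻¹ * h⁻¹)⁻¹ := by group
  by_cases haH : a ∈ H
  · -- Case 2: N ≤ H
    have hNH : N ≤ H := by
      intro n hn
      obtain ⟨i, rfl⟩ := hNa n hn
      exact H.zpow_mem haH i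
    have hgH : g ∉ H := by
      intro hg
      have : H = ⊤ := by
        rw [eq_top_iff]
        intro x _
        obtain ⟨k, n, hn, rfl⟩ := hMg x
        exact H.mul_mem (H.zpow_mem hg k) (hNH hn)
      rw [this, Subgroup.index_top] at hidx
      omega
    obtain ⟨h, hh, hns⟩ := hact g hgH
    apply hns
    obtain ⟨k, n, hn, rfl⟩ := hMg h
    obtain ⟨i, rfl⟩ := hNa n hn
    -- g commutes with g ^ k, so the commutator is [g, a ^ i]
    have e1 : g * (g ^ k * a ^ i) * g⁻¹ * (g ^ k * a ^ i)⁻¹ =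
        g ^ k * (g * a ^ i * g⁻¹ * (a ^ i)⁻¹) * (g ^ k)⁻¹ := by
      have : g * g ^ k = g ^ k * g := (Commute.refl g).zpow_right k |>.eq
      calc g * (g ^ k * a ^ i) * g⁻¹ * (g ^ k * a ^ i)⁻¹
          = (g * g ^ k) * a ^ i * g⁻¹ * (a ^ i)⁻¹ * (g ^ k)⁻¹ := by group
        _ = (g ^ k * g) * a ^ i * g⁻¹ * (a ^ i)⁻¹ * (g ^ k)⁻¹ := by rw [this]
        _ = _ := by group
    rw [e1]
    -- the commutator [g, a ^ i] is the square of an element of N
    have hw : ∃ w ∈ N, g * a ^ i * g⁻¹ * (a ^ i)⁻¹ = w ^ 2 := by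
      obtain ⟨j, hj⟩ := hNa _ (hNn.conj_mem a haN g)
      have hconj : g * a ^ i * g⁻¹ = (a ^ j) ^ i := by
        rw [← hj, conj_zpow]
      rcases Int.even_or_odd j with ⟨m, hm⟩ | ⟨m, hm⟩
      · -- j even forces a = 1
        obtain ⟨e, he⟩ := (IsPGroup.iff_orderOf.1 hM) a
        have hord : orderOf (a ^ j) = orderOf a := by
          rw [← hj]
          exact (MulAut.conj g).orderOf_eq a
        have ha1 : a = 1 := by
          rcases Nat.eq_zero_or_pos e with he0 | hepos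
          · rw [he0, pow_zero, orderOf_eq_one_iff] at he
            exact he
          · exfalso
            have h1 : (a ^ j) ^ (2 ^ (e - 1) : ℕ) = 1 := by
              have h2 : j * ((2 ^ (e - 1) : ℕ) : ℤ) = ((2 ^ e : ℕ) : ℤ) * m := by
                have h3 : (2 : ℤ) ^ e = 2 ^ (e - 1) * 2 := by
                  rw [← pow_succ]; congr 1; omega
                push_cast
                rw [hm, h3]; ring
              rw [← zpow_natCast, ← zpow_mul, h2, zpow_mul, zpow_natCast, ← he,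
                pow_orderOf_eq_one, one_zpow]
            have h4 := orderOf_dvd_of_pow_eq_one h1
            rw [hord, he] at h4
            have h5 := Nat.le_of_dvd (by positivity) h4
            have h6 : 2 ^ (e - 1) < 2 ^ e := Nat.pow_lt_pow_right (by norm_num) (by omega)
            omega
        refine ⟨1, N.one_mem, ?_⟩
        rw [ha1]; simp
      · refine ⟨a ^ (m * i), N.zpow_mem haN _, ?_⟩
        rw [hconj, ← zpow_mul, ← zpow_neg, ← zpow_add, ← zpow_natCast, ← zpow_mul, hm]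
        congr 1
        push_cast
        ring
    obtain ⟨w, hwN, hw⟩ := hw
    refine ⟨g ^ k * w * (g ^ k)⁻¹, hNH (hNn.conj_mem w hwN (g ^ k)), ?_⟩
    rw [hw, conj_pow]
  · -- Case 1: a ∉ H
    obtain ⟨h, hh, hns⟩ := hact a haH
    apply hns
    have hyN : a * h * a⁻¹ * h⁻¹ ∈ N := hcomm a h
    obtain ⟨i, hi⟩ := hNa _ hyN
    have hyH : a * h * a⁻¹ * h⁻¹ ∈ H :=
      H.mul_mem (hHn.conj_mem h hh a) (H.inv_mem hh)
    have h1 : a * (a * h * a⁻¹ * h⁻¹) * a⁻¹ = a * h * a⁻¹ * h⁻¹ := by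
      rw [hi]
      have : a * a ^ i = a ^ i * a := (Commute.refl a).zpow_right i |>.eq
      rw [this]; group
    have h2 := hinv a h hh
    rw [h1] at h2
    have h3 : (a * h * a⁻¹ * h⁻¹) ^ 2 = 1 := by
      rw [sq]
      nth_rewrite 1 [h2]
      group
    exact hsq _ hyH h3

end Cfsg.Agent.Helper3.Meta2Ess
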