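import Mathlib
import Cfsg.Prelude.Def_OddOrderLocal
import Cfsg.Agent.Helper4.HallEnumC

set_option autoImplicit false

namespace Cfsg.Agent.Helper3.Meta2Str

variable {P : Type*} [Group P]

/-- In a metacyclic 2-group containing a nonabelian subgroup of order 8 some element has a
centralizer of order at most 4. -/
theorem exists_centralizer_le_four [Finite P] (hP : IsPGroup 2 P) (hm : Cfsg.IsMetacyclic P)
    (B : Subgroup P) (hB : Nat.card B = 8) (hna : ∃ x ∈ B, ∃ y ∈ B, x * y ≠ y * x) :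
    ∃ y : P, Nat.card (Subgroup.centralizer ({y} : Set P)) ≤ 4 := by
  classical
  obtain ⟨N, hNn, hNc, hQc⟩ := hm
  have := hNn
  -- generator of N
  obtain ⟨⟨a, haN⟩, ha⟩ := hNc.exists_generator
  have hNa : ∀ n ∈ N, ∃ i : ℤ, n = a ^ i := by
    intro n hn
    obtain ⟨i, hi⟩ := Subgroup.mem_zpowers_iff.1 (ha ⟨n, hn⟩)
    refine ⟨i, ?_⟩
    have := congrArg Subtype.val hi
    simpa using this.symm
  have hNab : ∀ u ∈ N, ∀ v ∈ N, u * v = v * u := by
    intro u hu v hv
    obtain ⟨i, rfl⟩ := hNa u hu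
    obtain ⟨j, rfl⟩ := hNa v hv
    rw [← zpow_add, ← zpow_add, add_comm]
  -- conjugates of elements of N are powers
  have hconj : ∀ u ∈ N, ∀ g : P, ∃ j : ℤ, g * u * g⁻¹ = u ^ j := by
    intro u hu g
    obtain ⟨i, rfl⟩ := hNa u hu
    obtain ⟨j, hj⟩ := hNa _ (hNn.conj_mem a haN g)
    refine ⟨j, ?_⟩
    rw [← conj_zpow, hj, ← zpow_mul, ← zpow_mul, mul_comm]
  -- generator of P/N
  obtain ⟨gbar, hgbar⟩ := hQc.exists_generator
  obtain ⟨g, rfl⟩ := QuotientGroup.mk_surjective gbar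
  have hPg : ∀ x : P, ∃ k : ℤ, ∃ n ∈ N, x = g ^ k * n := by
    intro x
    obtain ⟨k, hk⟩ := Subgroup.mem_zpowers_iff.1 (hgbar (x : P ⧸ N))
    have h1 : ((g ^ k : P) : P ⧸ N) = (x : P ⧸ N) := by
      rw [← hk]; rfl
    rw [QuotientGroup.eq] at h1
    exact ⟨k, (g ^ k)⁻¹ * x, h1, by group⟩
  -- Step 1: a noncentral element of B inside N
  have hstep1 : ∃ r ∈ B, r ∈ N ∧ ∃ y ∈ B, y * r ≠ r * y := by
    by_contra hcon
    push Not at hcon
    haveI : IsCyclic (B.map (QuotientGroup.mk' N)) := inferInstance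
    obtain ⟨⟨bbar, hbbar⟩, hgen⟩ := IsCyclic.exists_generator (α := ↥(B.map (QuotientGroup.mk' N)))
    obtain ⟨b₀, hb₀B, rfl⟩ := Subgroup.mem_map.1 hbbar
    have hdec : ∀ b ∈ B, ∃ k : ℤ, ∃ n ∈ N, n ∈ B ∧ b = b₀ ^ k * n := by
      intro b hb
      have hbm : (QuotientGroup.mk' N b) ∈ B.map (QuotientGroup.mk' N) :=
        Subgroup.mem_map_of_mem _ hb
      obtain ⟨k, hk⟩ := Subgroup.mem_zpowers_iff.1 (hgen ⟨_, hbm⟩)
      have hk' := congrArg Subtype.val hk
      rw [Subgroup.coe_zpow] at hk'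
      have h1 : ((b₀ ^ k : P) : P ⧸ N) = (b : P ⧸ N) := by
        rw [QuotientGroup.mk_zpow]; exact hk'
      rw [QuotientGroup.eq] at h1
      exact ⟨k, (b₀ ^ k)⁻¹ * b, h1, B.mul_mem (B.inv_mem (B.zpow_mem hb₀B k)) hb, by group⟩
    obtain ⟨x, hx, y, hy, hxy⟩ := hna
    apply hxy
    obtain ⟨k, n, hnN, hnB, rfl⟩ := hdec x hx
    obtain ⟨l, n', hn'N, hn'B, rfl⟩ := hdec y hy
    have e1 : n * b₀ ^ l = b₀ ^ l * n := (hcon n hnB hnN (b₀ ^ l) (B.zpow_mem hb₀B l)).symm
    have e2 : n' * b₀ ^ k = b₀ ^ k * n' := (hcon n' hn'B hn'N (b₀ ^ k) (B.zpow_mem hb₀B k)).symm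
    have e3 : n * n' = n' * n := hNab n hnN n' hn'N
    have e4 : b₀ ^ k * b₀ ^ l = b₀ ^ l * b₀ ^ k := by
      rw [← zpow_add, ← zpow_add, add_comm]
    calc b₀ ^ k * n * (b₀ ^ l * n') = b₀ ^ k * (n * b₀ ^ l) * n' := by group
      _ = b₀ ^ k * (b₀ ^ l * n) * n' := by rw [e1]
      _ = (b₀ ^ k * b₀ ^ l) * (n * n') := by group
      _ = (b₀ ^ l * b₀ ^ k) * (n' * n) := by rw [e4, e3]
      _ = b₀ ^ l * (b₀ ^ k * n') * n := by group
      _ = b₀ ^ l * (n' * b₀ ^ k) * n := by rw [e2]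
      _ = b₀ ^ l * n' * (b₀ ^ k * n) := by group
  obtain ⟨r, hrB, hrN, y, hyB, hyr⟩ := hstep1
  have hr8 : r ^ 8 = 1 := by
    have h0 : (⟨r, hrB⟩ : B) ^ Nat.card B = 1 := pow_card_eq_one'
    rw [hB] at h0
    have := congrArg Subtype.val h0
    simpa using this
  have hyr' : y * r * y⁻¹ ≠ r := by
    intro h
    apply hyr
    calc y * r = (y * r * y⁻¹) * y := by group
      _ = r * y := by rw [h]
  have hr2 : r ^ 2 ≠ 1 := by
    intro h2
    obtain ⟨j, hj⟩ := hconj r hrN y
    rcases Int.even_or_odd j with ⟨m, hm⟩ | ⟨m, hm⟩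
    · have h3 : r ^ j = 1 := by
        rw [hm, ← two_mul, zpow_mul, zpow_ofNat, h2, one_zpow]
      rw [h3] at hj
      have h4 : r = 1 := by simpa using hj
      apply hyr'
      rw [h4]; group
    · have h3 : r ^ j = r := by
        rw [hm, zpow_add, zpow_mul, zpow_ofNat, h2, one_zpow, one_mul, zpow_one]
      exact hyr' (hj.trans h3)
  have hr4 : r ^ 4 = 1 := by
    by_contra h4
    have hord : orderOf r = 8 := by
      have hd : orderOf r ∣ 2 ^ 3 := orderOf_dvd_of_pow_eq_one hr8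
      obtain ⟨i, hi, hi2⟩ := (Nat.dvd_prime_pow Nat.prime_two).1 hd
      rcases Nat.lt_or_ge i 3 with h | h
      · exfalso
        apply h4
        have h5 : orderOf r ∣ 2 ^ 2 := by
          rw [hi2]; exact pow_dvd_pow 2 (by omega)
        exact orderOf_dvd_iff_pow_eq_one.1 h5
      · have : i = 3 := by omega
        rw [hi2, this]; norm_num
    have hz : Subgroup.zpowers r = B := by
      apply Subgroup.eq_of_le_of_card_ge (Subgroup.zpowers_le.2 hrB)
      rw [Nat.card_zpowers, hord, hB]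
    obtain ⟨x1, hx1, y1, hy1, hxy1⟩ := hna
    rw [← hz] at hx1 hy1
    obtain ⟨i1, rfl⟩ := Subgroup.mem_zpowers_iff.1 hx1
    obtain ⟨i2, rfl⟩ := Subgroup.mem_zpowers_iff.1 hy1
    apply hxy1
    rw [← zpow_add, ← zpow_add, add_comm]
  have hord4 : orderOf r = 4 := by
    have hd : orderOf r ∣ 2 ^ 2 := orderOf_dvd_of_pow_eq_one hr4
    obtain ⟨i, hi, hi2⟩ := (Nat.dvd_prime_pow Nat.prime_two).1 hd
    rcases Nat.lt_or_ge i 2 with h | h
    · exfalso
      apply hr2
      have h5 : orderOf r ∣ 2 ^ 1 := by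
        rw [hi2]; exact pow_dvd_pow 2 (by omega)
      exact orderOf_dvd_iff_pow_eq_one.1 h5
    · have : i = 2 := by omega
      rw [hi2, this]; norm_num
  -- every element centralizes or inverts r
  have hdich : ∀ c : P, c * r * c⁻¹ = r ∨ c * r * c⁻¹ = r⁻¹ := by
    intro c
    obtain ⟨j, hj⟩ := hconj r hrN c
    have hr4z : r ^ (4 : ℤ) = 1 := by exact_mod_cast hr4
    rw [zpow_eq_zpow_emod j hr4z] at hj
    have h1 : 0 ≤ j % 4 := Int.emod_nonneg _ (by norm_num)
    have h2 : j % 4 < 4 := Int.emod_lt_of_pos _ (by norm_num)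
    obtain ⟨ρ, hρ⟩ : ∃ ρ, ρ = j % 4 := ⟨_, rfl⟩
    rw [← hρ] at hj h1 h2
    interval_cases ρ
    · exfalso
      apply hr2
      have : r = 1 := by simpa using hj
      rw [this, one_pow]
    · left
      simpa using hj
    · exfalso
      apply hr2
      have h3 : (c * r * c⁻¹) ^ 2 = 1 := by
        rw [hj]
        have : (r ^ (2 : ℤ)) ^ 2 = r ^ 4 := by
          rw [zpow_ofNat, ← pow_mul]
        rw [this, hr4]
      rw [conj_pow] at h3
      simpa using h3
    · right
      rw [hj, eq_inv_iff_mul_eq_one]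
      have : r ^ (3 : ℤ) * r = r ^ 4 := by
        rw [zpow_ofNat, ← pow_succ]
      rw [this, hr4]
  have hyinv : y * r * y⁻¹ = r⁻¹ := (hdich y).resolve_left hyr'
  -- the centralizer of r
  have hCiff : ∀ x : P, x ∈ Subgroup.centralizer ({r} : Set P) ↔ x * r * x⁻¹ = r := by
    intro x
    rw [Subgroup.mem_centralizer_singleton_iff]
    constructor
    · intro h
      rw [h]; group
    · intro h
      calc x * r = (x * r * x⁻¹) * x := by group
        _ = r * x := by rw [h]
  have hNC : ∀ n ∈ N, n ∈ Subgroup.centralizer ({r} : Set P) := by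
    intro n hn
    rw [Subgroup.mem_centralizer_singleton_iff]
    exact hNab n hn r hrN
  have hyC : y ∉ Subgroup.centralizer ({r} : Set P) := fun h => hyr' ((hCiff y).1 h)
  have hgC : g ∉ Subgroup.centralizer ({r} : Set P) := by
    intro hg
    apply hyC
    obtain ⟨k, n, hn, rfl⟩ := hPg y
    exact Subgroup.mul_mem _ (Subgroup.zpow_mem _ hg k) (hNC n hn)
  have hgr : g * r * g⁻¹ = r⁻¹ := (hdich g).resolve_left (fun h => hgC ((hCiff g).2 h))
  have hg2C : g ^ 2 ∈ Subgroup.centralizer ({r} : Set P) := by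
    rw [hCiff]
    calc g ^ 2 * r * (g ^ 2)⁻¹ = g * (g * r * g⁻¹) * g⁻¹ := by rw [pow_two]; group
      _ = g * r⁻¹ * g⁻¹ := by rw [hgr]
      _ = (g * r * g⁻¹)⁻¹ := by group
      _ = r := by rw [hgr, inv_inv]
  -- y * y lies in N
  have hyyN : y * y ∈ N := by
    have hle : Subgroup.zpowers r ≤ B := Subgroup.zpowers_le.2 hrB
    have hidx : ((Subgroup.zpowers r).subgroupOf B).index = 2 := by
      have h1 := Subgroup.card_mul_index ((Subgroup.zpowers r).subgroupOf B)
      rw [Nat.card_congr (Subgroup.subgroupOfEquivOfLe hle).toEquiv, Nat.card_zpowers, hord4,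
        hB] at h1
      omega
    have h2 := Subgroup.mul_self_mem_of_index_two hidx (⟨y, hyB⟩ : B)
    rw [Subgroup.mem_subgroupOf] at h2
    have h3 : y * y ∈ Subgroup.zpowers r := by simpa using h2
    exact (Subgroup.zpowers_le.2 hrN) h3
  -- g ^ 2 lies in N
  have hg2N : g ^ 2 ∈ N := by
    obtain ⟨k, n, hn, hy⟩ := hPg y
    have hkodd : Odd k := by
      rcases Int.even_or_odd k with ⟨m, hm⟩ | h
      · exfalso
        apply hyC
        rw [hy]
        have : g ^ k = (g ^ 2) ^ m := by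
          rw [hm, ← two_mul, zpow_mul, zpow_ofNat]
        rw [this]
        exact Subgroup.mul_mem _ (Subgroup.zpow_mem _ hg2C m) (hNC n hn)
      · exact h
    have hq : IsPGroup 2 (P ⧸ N) := hP.to_quotient N
    obtain ⟨e, he⟩ := (IsPGroup.iff_orderOf.1 hq) ((g : P ⧸ N) ^ 2)
    have hu : ((g : P ⧸ N) ^ 2) ^ k = 1 := by
      have h1 : ((y * y : P) : P ⧸ N) = 1 := (QuotientGroup.eq_one_iff _).2 hyyN
      have h2 : ((y : P) : P ⧸ N) = (g : P ⧸ N) ^ k := by
        rw [hy, QuotientGroup.mk_mul, QuotientGroup.mk_zpow, (QuotientGroup.eq_one_iff n).2 hn,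
          mul_one]
      rw [QuotientGroup.mk_mul, h2] at h1
      rw [← zpow_natCast (g : P ⧸ N) 2, ← zpow_mul, Nat.cast_ofNat, two_mul, zpow_add]
      exact h1
    have hdvd : ((orderOf ((g : P ⧸ N) ^ 2) : ℕ) : ℤ) ∣ k := orderOf_dvd_iff_zpow_eq_one.2 hu
    rw [he] at hdvd
    rcases Nat.eq_zero_or_pos e with he0 | hepos
    · rw [he0, pow_zero, orderOf_eq_one_iff] at he
      rw [← QuotientGroup.mk_pow, QuotientGroup.eq_one_iff] at he
      exact he
    · exfalso
      have h2 : (2 : ℤ) ∣ k := by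
        refine dvd_trans ?_ hdvd
        push_cast
        exact dvd_pow_self 2 (by omega)
      obtain ⟨m, hm⟩ := hkodd
      omega
  -- the centralizer of r is N
  have hCN : ∀ x : P, x * r * x⁻¹ = r → x ∈ N := by
    intro x hx
    have hxC := (hCiff x).2 hx
    obtain ⟨k, n, hn, rfl⟩ := hPg x
    rcases Int.even_or_odd k with ⟨m, hm⟩ | ⟨m, hm⟩
    · have : g ^ k = (g ^ 2) ^ m := by
        rw [hm, ← two_mul, zpow_mul, zpow_ofNat]
      rw [this]
      exact N.mul_mem (N.zpow_mem hg2N m) hn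
    · exfalso
      apply hgC
      have e1 : g = ((g ^ 2) ^ m)⁻¹ * (g ^ k * n) * n⁻¹ := by
        have : g ^ k = (g ^ 2) ^ m * g := by
          rw [hm, zpow_add, zpow_mul, zpow_ofNat, zpow_one]
        rw [this]; group
      rw [e1]
      exact Subgroup.mul_mem _ (Subgroup.mul_mem _ (Subgroup.inv_mem _ (Subgroup.zpow_mem _ hg2C m))
        hxC) (Subgroup.inv_mem _ (hNC n hn))
  -- elements of equal order in N generate the same subgroup
  have hcyc : ∀ u ∈ N, ∀ v ∈ N, orderOf u = orderOf v → u ∈ Subgroup.zpowers v := by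
    intro u hu v hv huv
    haveI : IsCyclic N := hNc
    have h1 := Cfsg.Agent.Helper4.HallEnum.eq_of_card_eq_of_isCyclic
      ((Subgroup.zpowers u).subgroupOf N) ((Subgroup.zpowers v).subgroupOf N) (by
        rw [Nat.card_congr (Subgroup.subgroupOfEquivOfLe (Subgroup.zpowers_le.2 hu)).toEquiv,
          Nat.card_congr (Subgroup.subgroupOfEquivOfLe (Subgroup.zpowers_le.2 hv)).toEquiv,
          Nat.card_zpowers, Nat.card_zpowers, huv])
    have h2 : (⟨u, hu⟩ : N) ∈ (Subgroup.zpowers u).subgroupOf N := by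
      rw [Subgroup.mem_subgroupOf]
      exact Subgroup.mem_zpowers u
    rw [h1, Subgroup.mem_subgroupOf] at h2
    exact h2
  have hordr2 : orderOf (r ^ 2) = 2 := by
    rw [orderOf_pow_of_dvd (by norm_num) (by rw [hord4]; norm_num), hord4]
  -- elements of N commuting with y
  have hA : ∀ c ∈ N, c * y = y * c → c = 1 ∨ c = r ^ 2 := by
    intro c hcN hcy
    obtain ⟨e, he⟩ := (IsPGroup.iff_orderOf.1 hP) c
    rcases Nat.lt_or_ge e 2 with hlt | hge
    · rcases Nat.eq_zero_or_pos e with he0 | hepos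
      · left
        rw [he0, pow_zero, orderOf_eq_one_iff] at he
        exact he
      · right
        have he1 : e = 1 := by omega
        rw [he1, pow_one] at he
        have h1 := hcyc c hcN (r ^ 2) (N.pow_mem hrN 2) (by rw [he, hordr2])
        obtain ⟨i, hi⟩ := Subgroup.mem_zpowers_iff.1 h1
        have hr22 : (r ^ 2) ^ 2 = 1 := by rw [← pow_mul]; exact hr4
        rcases Int.even_or_odd i with ⟨m, hm⟩ | ⟨m, hm⟩
        · exfalso
          have : c = 1 := by
            rw [← hi, hm, ← two_mul, zpow_mul, zpow_ofNat, hr22, one_zpow]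
          rw [this, orderOf_one] at he
          omega
        · rw [← hi, hm, zpow_add, zpow_mul, zpow_ofNat, hr22, one_zpow, one_mul, zpow_one]
    · exfalso
      have hd : orderOf (c ^ 2 ^ (e - 2)) = 4 := by
        rw [orderOf_pow_of_dvd (by positivity) (by rw [he]; exact pow_dvd_pow 2 (by omega)), he]
        have : 2 ^ e = 2 ^ (e - 2) * 4 := by
          have : (4 : ℕ) = 2 ^ 2 := by norm_num
          rw [this, ← pow_add]; congr 1; omega
        rw [this, Nat.mul_div_cancel_left _ (by positivity)]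
      have h1 := hcyc r hrN (c ^ 2 ^ (e - 2)) (N.pow_mem hcN _) (by rw [hd, hord4])
      obtain ⟨i, hi⟩ := Subgroup.mem_zpowers_iff.1 h1
      apply hyr'
      have hcomm : Commute y c := hcy.symm
      have h2 : Commute y r := by
        rw [← hi]
        exact (hcomm.pow_right _).zpow_right i
      calc y * r * y⁻¹ = r * y * y⁻¹ := by rw [h2.eq]
        _ = r := by group
  refine ⟨y, ?_⟩
  have hsub : ((Subgroup.centralizer ({y} : Set P) : Subgroup P) : Set P) ⊆
      (({1, r ^ 2, y, y * r ^ 2} : Finset P) : Set P) := by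
    intro c hc
    rw [SetLike.mem_coe, Subgroup.mem_centralizer_singleton_iff] at hc
    by_cases hcN : c ∈ N
    · rcases hA c hcN hc with h | h <;> simp [h]
    · have h1 : c * r * c⁻¹ = r⁻¹ := (hdich c).resolve_left (fun h => hcN (hCN c h))
      have h2 : (y⁻¹ * c) * r * (y⁻¹ * c)⁻¹ = r := by
        have h3 : y⁻¹ * r⁻¹ * y = r := by
          rw [← hyinv]; group
        calc (y⁻¹ * c) * r * (y⁻¹ * c)⁻¹ = y⁻¹ * (c * r * c⁻¹) * y := by group
          _ = y⁻¹ * r⁻¹ * y := by rw [h1]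
          _ = r := h3
      have h4 : y⁻¹ * c ∈ N := hCN _ h2
      have h5 : (y⁻¹ * c) * y = y * (y⁻¹ * c) := by
        calc y⁻¹ * c * y = y⁻¹ * (c * y) := by group
          _ = y⁻¹ * (y * c) := by rw [hc]
          _ = y * (y⁻¹ * c) := by group
      rcases hA _ h4 h5 with h | h
      · have : c = y := by
          calc c = y * (y⁻¹ * c) := by group
            _ = y := by rw [h, mul_one]
        simp [this]
      · have : c = y * r ^ 2 := by
          calc c = y * (y⁻¹ * c) := by group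
            _ = y * r ^ 2 := by rw [h]
        simp [this]
  calc Nat.card (Subgroup.centralizer ({y} : Set P))
      = Set.ncard ((Subgroup.centralizer ({y} : Set P) : Subgroup P) : Set P) :=
        Nat.card_coe_set_eq _
    _ ≤ Set.ncard (({1, r ^ 2, y, y * r ^ 2} : Finset P) : Set P) :=
        Set.ncard_le_ncard hsub (Finset.finite_toSet _)
    _ = Finset.card ({1, r ^ 2, y, y * r ^ 2} : Finset P) := Set.ncard_coe_finset _
    _ ≤ 4 := Finset.card_le_four

end Cfsg.Agent.Helper3.Meta2Str
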