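import Mathlib
import Cfsg.Agent.Helper3.SchurMultA
set_option autoImplicit false
namespace Cfsg.Agent.Helper3.MetaCyc

/-- Multiplication by a unit as an automorphism of the (multiplicative) cyclic group `ZMod M`. -/
def unitAut (M : ℕ) : (ZMod M)ˣ →* MulAut (Multiplicative (ZMod M)) where
  toFun v :=
    { toFun := fun x => Multiplicative.ofAdd ((v : ZMod M) * Multiplicative.toAdd x)
      invFun := fun x => Multiplicative.ofAdd ((↑v⁻¹ : ZMod M) * Multiplicative.toAdd x)
      left_inv := fun x => by simp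
      right_inv := fun x => by simp
      map_mul' := fun x y => by simp [mul_add] }
  map_one' := by
    ext x
    simp
  map_mul' v w := by
    ext x
    simp [mul_assoc]

@[simp] theorem unitAut_apply (M : ℕ) (v : (ZMod M)ˣ) (x : Multiplicative (ZMod M)) :
    unitAut M v x = Multiplicative.ofAdd ((v : ZMod M) * Multiplicative.toAdd x) := rfl

/-- The action of `ℤ` on `ZMod M` by powers of a unit. -/
def act (M : ℕ) (v : (ZMod M)ˣ) : Multiplicative ℤ →* MulAut (Multiplicative (ZMod M)) :=
  (unitAut M).comp (zpowersHom _ v)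

theorem act_apply (M : ℕ) (v : (ZMod M)ˣ) (g : Multiplicative ℤ) (x : Multiplicative (ZMod M)) :
    act M v g x =
      Multiplicative.ofAdd (((v ^ (Multiplicative.toAdd g) : (ZMod M)ˣ) : ZMod M) *
        Multiplicative.toAdd x) := by
  change unitAut M (zpowersHom _ v g) x = _
  rw [zpowersHom_apply]
  rfl

/-- The split metacyclic group `ZMod M ⋊ ℤ`. -/
abbrev Split (M : ℕ) (v : (ZMod M)ˣ) := Multiplicative (ZMod M) ⋊[act M v] Multiplicative ℤ

variable (M N : ℕ) (v : (ZMod M)ˣ) (T : ZMod M)

/-- The central element `a^{-T} b^N`. -/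
def uElt : Split M v := ⟨Multiplicative.ofAdd (-T), Multiplicative.ofAdd (N : ℤ)⟩

theorem uElt_central (hv : v ^ N = 1) (hT : (v : ZMod M) * T = T) (y : Split M v) :
    uElt M N v T * y = y * uElt M N v T := by
  obtain ⟨x, j⟩ := y
  have hTz : ∀ i : ℤ, ((v ^ i : (ZMod M)ˣ) : ZMod M) * T = T := by
    intro i
    have h1 : ∀ k : ℕ, ((v ^ k : (ZMod M)ˣ) : ZMod M) * T = T := by
      intro k
      induction k with
      | zero => simp
      | succ k ih => rw [pow_succ, Units.val_mul, mul_assoc, hT, ih]
    rcases Int.eq_nat_or_neg i with ⟨k, rfl | rfl⟩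
    · simpa using h1 k
    · rw [zpow_neg, zpow_natCast]
      have := h1 k
      calc ((v ^ k)⁻¹ : (ZMod M)ˣ).val * T
          = ((v ^ k)⁻¹ : (ZMod M)ˣ).val * (((v ^ k : (ZMod M)ˣ) : ZMod M) * T) := by rw [this]
        _ = T := by rw [← mul_assoc, ← Units.val_mul, inv_mul_cancel, Units.val_one, one_mul]
  ext
  · simp only [uElt, SemidirectProduct.mul_left]
    rw [act_apply, act_apply]
    have h2 : (v ^ (N : ℤ) : (ZMod M)ˣ) = 1 := by rw [zpow_natCast, hv]
    simp only [toAdd_ofAdd, h2, Units.val_one, one_mul, mul_neg, hTz, toAdd_mul]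
    abel
  · simp only [uElt, SemidirectProduct.mul_right]
    rw [mul_comm]


/-- The cyclic central subgroup to be factored out. -/
def uSub : Subgroup (Split M v) := Subgroup.zpowers (uElt M N v T)

theorem uSub_normal (hv : v ^ N = 1) (hT : (v : ZMod M) * T = T) : (uSub M N v T).Normal := by
  apply Cfsg.Agent.Helper3.SchurMult.normal_of_le_center
  rw [uSub, Subgroup.zpowers_le, Subgroup.mem_center_iff]
  intro y
  exact (uElt_central M N v T hv hT y).symm

/-- **Model of a metacyclic group**: for parameters with `R ^ N ≡ 1 (mod M)` and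
`M ∣ T (R - 1)` there is a group with elements `A`, `B` satisfying the metacyclic relations in
which `A` has order exactly `M`. -/
theorem exists_model (M N R T : ℕ) (hM : 0 < M) (hN : 0 < N) (hR0 : 0 < R)
    (hR : R ^ N ≡ 1 [MOD M]) (hT : M ∣ T * (R - 1)) :
    ∃ (H : Type) (_ : Group H) (A B : H), A ^ M = 1 ∧ B ^ N = A ^ T ∧ B * A * B⁻¹ = A ^ R ∧
      orderOf A = M := by
  have hRz : ((R : ZMod M)) ^ N = 1 := by
    have := (ZMod.natCast_eq_natCast_iff _ _ _).2 hR
    simpa using this
  set v : (ZMod M)ˣ := Units.ofPowEqOne (R : ZMod M) N hRz hN.ne' with hvdef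
  have hv : v ^ N = 1 := Units.pow_ofPowEqOne hRz hN.ne'
  have hvval : (v : ZMod M) = (R : ZMod M) := rfl
  have hTz : (v : ZMod M) * (T : ZMod M) = (T : ZMod M) := by
    rw [hvval]
    have h1 : ((T * (R - 1) : ℕ) : ZMod M) = 0 := (ZMod.natCast_eq_zero_iff _ _).2 hT
    rw [Nat.cast_mul, Nat.cast_sub hR0, Nat.cast_one, mul_sub, mul_one, sub_eq_zero] at h1
    rw [mul_comm]; exact h1
  haveI := uSub_normal M N v (T : ZMod M) hv hTz
  have hA : ∀ i : ℕ, (SemidirectProduct.inl (Multiplicative.ofAdd (1 : ZMod M)) : Split M v) ^ i =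
      SemidirectProduct.inl (Multiplicative.ofAdd (i : ZMod M)) := by
    intro i
    rw [← map_pow (SemidirectProduct.inl : Multiplicative (ZMod M) →* Split M v), ← ofAdd_nsmul,
      nsmul_one]
  have hB : ∀ i : ℕ, (SemidirectProduct.inr (Multiplicative.ofAdd (1 : ℤ)) : Split M v) ^ i =
      SemidirectProduct.inr (Multiplicative.ofAdd (i : ℤ)) := by
    intro i
    rw [← map_pow (SemidirectProduct.inr : Multiplicative ℤ →* Split M v), ← ofAdd_nsmul,
      nsmul_one]
  refine ⟨Split M v ⧸ uSub M N v (T : ZMod M), inferInstance,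
    QuotientGroup.mk (SemidirectProduct.inl (Multiplicative.ofAdd 1)),
    QuotientGroup.mk (SemidirectProduct.inr (Multiplicative.ofAdd 1)), ?_, ?_, ?_, ?_⟩
  · rw [← QuotientGroup.mk_pow, hA, ZMod.natCast_self]
    simp
  · rw [← QuotientGroup.mk_pow, ← QuotientGroup.mk_pow, hA, hB, eq_comm, QuotientGroup.eq, uSub]
    have : (SemidirectProduct.inl (Multiplicative.ofAdd (T : ZMod M)) : Split M v)⁻¹ *
        SemidirectProduct.inr (Multiplicative.ofAdd ((N : ℕ) : ℤ)) = uElt M N v (T : ZMod M) := by
      rw [← map_inv, ← ofAdd_neg]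
      ext <;> simp [uElt]
    rw [this]
    exact Subgroup.mem_zpowers _
  · rw [← QuotientGroup.mk_pow, ← QuotientGroup.mk_inv, ← QuotientGroup.mk_mul,
      ← QuotientGroup.mk_mul, ← map_inv, ← SemidirectProduct.inl_aut, hA, act_apply]
    congr 2
    rw [toAdd_ofAdd, zpow_one, toAdd_ofAdd, mul_one, hvval]
  · rw [orderOf_eq_iff hM]
    constructor
    · rw [← QuotientGroup.mk_pow, hA, ZMod.natCast_self]
      simp
    · intro i hi hi0 h
      rw [← QuotientGroup.mk_pow, hA, QuotientGroup.eq_one_iff,
        uSub, Subgroup.mem_zpowers_iff] at h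
      obtain ⟨k, hk⟩ := h
      have h1 := congrArg SemidirectProduct.rightHom hk
      rw [map_zpow] at h1
      simp only [uElt, SemidirectProduct.rightHom_eq_right, SemidirectProduct.right_inl] at h1
      have h2 : k * (N : ℤ) = 0 := by
        have := congrArg Multiplicative.toAdd h1
        simpa using this
      have hk0 : k = 0 := by
        rcases mul_eq_zero.1 h2 with h3 | h3
        · exact h3
        · exact absurd (by exact_mod_cast h3) hN.ne'
      rw [hk0, zpow_zero] at hk
      have h4 := congrArg SemidirectProduct.left hk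
      simp only [SemidirectProduct.one_left, SemidirectProduct.left_inl] at h4
      have h5 : (i : ZMod M) = 0 := by
        have := congrArg Multiplicative.toAdd h4
        simpa using this.symm
      rw [ZMod.natCast_eq_zero_iff] at h5
      exact absurd (Nat.le_of_dvd hi0 h5) (not_le.2 hi)

end Cfsg.Agent.Helper3.MetaCyc
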