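import Mathlib
import Cfsg.Prelude.Def_OddOrderLocal

namespace Cfsg.Agent.Helper3.MetaOdd

open scoped commutatorElement

/-- geometric sum `1 + t + ... + t^(i-1)` -/
def sig (t i : ℕ) : ℕ := ∑ x ∈ Finset.range i, t ^ x

@[simp] theorem sig_zero (t : ℕ) : sig t 0 = 0 := by simp [sig]

theorem sig_succ (t i : ℕ) : sig t (i + 1) = sig t i + t ^ i := by
  simp [sig, Finset.sum_range_succ]

@[simp] theorem sig_one (t : ℕ) : sig t 1 = 1 := by simp [sig]

theorem sig_one_left (i : ℕ) : sig 1 i = i := by simp [sig]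

theorem sig_mul (t i : ℕ) (ht : 1 ≤ t) : (t - 1) * sig t i + 1 = t ^ i := by
  induction i with
  | zero => simp
  | succ i ih =>
    rw [sig_succ, mul_add, pow_succ]
    obtain ⟨s, rfl⟩ : ∃ s, t = s + 1 := ⟨t - 1, by omega⟩
    simp only [Nat.add_sub_cancel] at *
    nlinarith [ih]

theorem sig_add (t i k : ℕ) : sig t (i + k) = sig t i + t ^ i * sig t k := by
  induction k with
  | zero => simp
  | succ k ih =>
    rw [← add_assoc, sig_succ, ih, sig_succ, pow_add]; ring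

theorem sig_mul_comp (t i r : ℕ) : sig t (i * r) = sig t i * sig (t ^ i) r := by
  induction r with
  | zero => simp
  | succ r ih =>
    rw [mul_add, mul_one, sig_add, ih, sig_succ, ← pow_mul]; ring

theorem sig_pos (t i : ℕ) (hi : i ≠ 0) : 0 < sig t i := by
  obtain ⟨k, rfl⟩ : ∃ k, i = k + 1 := ⟨i - 1, by omega⟩
  rw [add_comm, sig_add]; simp

theorem padicValNat_sig {p : ℕ} [hp : Fact p.Prime] (hp2 : p ≠ 2) {t : ℕ} (ht : t % p = 1)
    (i : ℕ) (hi : i ≠ 0) : padicValNat p (sig t i) = padicValNat p i := by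
  have hodd : Odd p := hp.out.odd_of_ne_two hp2
  have ht1 : 1 ≤ t := by
    rcases Nat.eq_zero_or_pos t with rfl | h
    · simp at ht
    · exact h
  rcases eq_or_lt_of_le ht1 with h1 | h1
  · rw [← h1, sig_one_left]
  have hs := sig_mul t i ht1
  have hspos := sig_pos t i hi
  have hpt : ¬ p ∣ t := by
    intro h
    have := Nat.mod_eq_zero_of_dvd h
    omega
  have hpt1 : p ∣ t - 1 := by
    have : (t - 1) % p = 0 := by
      have h2 : t = p * (t / p) + 1 := by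
        have := Nat.div_add_mod t p; omega
      rw [h2]; simp
    exact Nat.dvd_of_mod_eq_zero this
  have hv := padicValNat.pow_sub_pow (p := p) hodd (x := t) (y := 1) h1 hpt1 hpt hi
  rw [one_pow] at hv
  have h3 : t ^ i - 1 = (t - 1) * sig t i := by omega
  rw [h3, padicValNat.mul (by omega) hspos.ne'] at hv
  omega

theorem pow_dvd_sig_iff {p : ℕ} [hp : Fact p.Prime] (hp2 : p ≠ 2) {t : ℕ} (ht : t % p = 1)
    (c i : ℕ) : p ^ c ∣ sig t i ↔ p ^ c ∣ i := by
  rcases Nat.eq_zero_or_pos i with rfl | hi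
  · simp
  rw [padicValNat_dvd_iff_le (sig_pos t i hi.ne').ne', padicValNat_dvd_iff_le hi.ne',
    padicValNat_sig hp2 ht i hi.ne']

variable {G : Type*} [Group G]

theorem conj_pow_aux {a b : G} {t : ℕ} (h : b * a * b⁻¹ = a ^ t) (l i : ℕ) :
    b ^ i * a ^ l * (b ^ i)⁻¹ = a ^ (l * t ^ i) := by
  induction i generalizing l with
  | zero => simp
  | succ i ih =>
    have h1 : b ^ (i + 1) * a ^ l * (b ^ (i + 1))⁻¹ = b ^ i * (b * a ^ l * b⁻¹) * (b ^ i)⁻¹ := by
      rw [pow_succ]; group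
    have h2 : b * a ^ l * b⁻¹ = (b * a * b⁻¹) ^ l := by
      rw [conj_pow]
    rw [h1, h2, h, ← pow_mul, ih, pow_succ]
    congr 1; ring

theorem modEq_cancel {p : ℕ} [hp : Fact p.Prime] (c m X Y : ℕ) (hc : c ≠ 0) :
    c * X ≡ c * Y [MOD p ^ m] ↔ X ≡ Y [MOD p ^ (m - padicValNat p c)] := by
  obtain ⟨e, w, hw, rfl⟩ := Nat.exists_eq_pow_mul_and_not_dvd hc p hp.out.ne_one
  have hw0 : w ≠ 0 := by rintro rfl; simp at hw
  have he : padicValNat p (p ^ e * w) = e := by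
    rw [padicValNat.mul (pow_ne_zero _ hp.out.ne_zero) hw0, padicValNat.prime_pow,
      padicValNat.eq_zero_of_not_dvd hw, add_zero]
  rw [he, Nat.modEq_iff_dvd, Nat.modEq_iff_dvd]
  push_cast
  have hcop : IsCoprime ((p : ℤ) ^ (m - e)) (w : ℤ) := by
    apply IsCoprime.pow_left
    rw [Int.isCoprime_iff_gcd_eq_one, Int.gcd_natCast_natCast]
    exact (Nat.Prime.coprime_iff_not_dvd hp.out).2 hw
  have key : (p : ℤ) ^ e * w * Y - p ^ e * w * X = p ^ e * (w * ((Y : ℤ) - X)) := by ring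
  rw [key]
  rcases le_total m e with hme | hme
  · rw [Nat.sub_eq_zero_of_le hme, pow_zero]
    simp only [one_dvd, iff_true]
    exact Dvd.dvd.mul_right (pow_dvd_pow _ hme) _
  · obtain ⟨d, rfl⟩ : ∃ d, m = e + d := ⟨m - e, by omega⟩
    rw [Nat.add_sub_cancel_left, pow_add] at *
    rw [mul_dvd_mul_iff_left (pow_ne_zero _ (by exact_mod_cast hp.out.ne_zero))]
    constructor
    · intro h; exact hcop.dvd_of_dvd_mul_left h
    · intro h; exact Dvd.dvd.mul_left h _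

theorem index_centralizer_eq [Finite G] (g : G) :
    (Subgroup.centralizer {g}).index = Set.ncard {y : G | ∃ x : G, x * g * x⁻¹ = y} := by
  have h := MulAction.index_stabilizer (ConjAct G) g
  rw [ConjAct.stabilizer_eq_centralizer] at h
  have h2 : MulAction.orbit (ConjAct G) g = {y : G | ∃ x : G, x * g * x⁻¹ = y} := by
    ext y
    rw [ConjAct.mem_orbit_conjAct, isConj_comm, isConj_iff]
    rfl
  rw [h2] at h
  exact h

theorem conj_inj_aux (c g : G) (l l' : ℕ) (h : l ≤ l')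
    (heq : c ^ l * g * (c ^ l)⁻¹ = c ^ l' * g * (c ^ l')⁻¹) :
    g * c ^ (l' - l) = c ^ (l' - l) * g := by
  obtain ⟨d, rfl⟩ : ∃ d, l' = l + d := ⟨l' - l, by omega⟩
  rw [Nat.add_sub_cancel_left]
  rw [pow_add] at heq
  have h1 : g = c ^ d * g * (c ^ d)⁻¹ := by
    have : (c ^ l)⁻¹ * (c ^ l * g * (c ^ l)⁻¹) * c ^ l =
        (c ^ l)⁻¹ * (c ^ l * c ^ d * g * (c ^ l * c ^ d)⁻¹) * c ^ l := by rw [heq]
    have e1 : (c ^ l)⁻¹ * (c ^ l * g * (c ^ l)⁻¹) * c ^ l = g := by group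
    have e2 : (c ^ l)⁻¹ * (c ^ l * c ^ d * g * (c ^ l * c ^ d)⁻¹) * c ^ l = c ^ d * g * (c ^ d)⁻¹ := by
      group
    rw [e1, e2] at this
    exact this
  calc g * c ^ d = (c ^ d * g * (c ^ d)⁻¹) * c ^ d := by rw [← h1]
    _ = c ^ d * g := by group

theorem lt_pow_padic {p : ℕ} [hp : Fact p.Prime] (d r : ℕ) (hd : d ≠ 0) (h : d < p ^ r) :
    padicValNat p d < r := by
  by_contra hcon
  push Not at hcon
  have h1 : p ^ r ∣ d := (padicValNat_dvd_iff_le hd).2 hcon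
  exact absurd (Nat.le_of_dvd (Nat.pos_of_ne_zero hd) h1) (by omega)

/-- Explicit data of a metacyclic `p`-group. -/
structure Data (G : Type*) [Group G] (p : ℕ) where
  a : G
  b : G
  t : ℕ
  m : ℕ
  ha : orderOf a = p ^ m
  hconj : b * a * b⁻¹ = a ^ t
  ht : t % p = 1
  ht1 : 1 < t
  hgen : ∀ g : G, ∃ j i : ℕ, g = a ^ j * b ^ i

namespace Data

variable {p : ℕ} [hp : Fact p.Prime] (D : Data G p)

/-- valuation of `t - 1` -/
noncomputable def e : ℕ := padicValNat p (D.t - 1)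

/-- `p ^ n` is the order of the commutator subgroup -/
noncomputable def n : ℕ := D.m - D.e

theorem conj_pow (l i : ℕ) : D.b ^ i * D.a ^ l * (D.b ^ i)⁻¹ = D.a ^ (l * D.t ^ i) :=
  conj_pow_aux D.hconj l i

theorem mul_form (j i l k : ℕ) :
    (D.a ^ j * D.b ^ i) * (D.a ^ l * D.b ^ k) = D.a ^ (j + l * D.t ^ i) * D.b ^ (i + k) := by
  have h := D.conj_pow l i
  have h1 : D.b ^ i * D.a ^ l = D.a ^ (l * D.t ^ i) * D.b ^ i := by
    rw [← h]; group
  calc (D.a ^ j * D.b ^ i) * (D.a ^ l * D.b ^ k)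
      = D.a ^ j * (D.b ^ i * D.a ^ l) * D.b ^ k := by group
    _ = D.a ^ j * (D.a ^ (l * D.t ^ i) * D.b ^ i) * D.b ^ k := by rw [h1]
    _ = D.a ^ (j + l * D.t ^ i) * D.b ^ (i + k) := by rw [pow_add, pow_add]; group

theorem t_pow (i : ℕ) : D.t ^ i = (D.t - 1) * sig D.t i + 1 :=
  (sig_mul D.t i D.ht1.le).symm

theorem a_pow_eq_iff (x y : ℕ) : D.a ^ x = D.a ^ y ↔ x ≡ y [MOD p ^ D.m] := by
  rw [pow_eq_pow_iff_modEq, D.ha]

theorem commute_iff (j i l k : ℕ) :
    (D.a ^ j * D.b ^ i) * (D.a ^ l * D.b ^ k) = (D.a ^ l * D.b ^ k) * (D.a ^ j * D.b ^ i) ↔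
      l * sig D.t i ≡ j * sig D.t k [MOD p ^ D.n] := by
  rw [mul_form, mul_form, add_comm k i, mul_left_inj, a_pow_eq_iff, t_pow, t_pow]
  have h1 : j + l * ((D.t - 1) * sig D.t i + 1) = (j + l) + (D.t - 1) * (l * sig D.t i) := by ring
  have h2 : l + j * ((D.t - 1) * sig D.t k + 1) = (j + l) + (D.t - 1) * (j * sig D.t k) := by ring
  rw [h1, h2]
  have h3 : (j + l) + (D.t - 1) * (l * sig D.t i) ≡ (j + l) + (D.t - 1) * (j * sig D.t k)
      [MOD p ^ D.m] ↔ (D.t - 1) * (l * sig D.t i) ≡ (D.t - 1) * (j * sig D.t k) [MOD p ^ D.m] :=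
    ⟨fun h => Nat.ModEq.add_left_cancel' _ h, fun h => Nat.ModEq.add_left _ h⟩
  rw [h3, modEq_cancel _ _ _ _ (by have := D.ht1; omega)]
  rfl

/-- conjugation formula -/
theorem conj_form (j i l k : ℕ) :
    (D.a ^ l * D.b ^ k) * (D.a ^ j * D.b ^ i) * (D.a ^ l * D.b ^ k)⁻¹ =
      D.a ^ ((D.t - 1) * (j * sig D.t k)) * (D.a ^ ((D.t - 1) * (l * sig D.t i)))⁻¹ *
        (D.a ^ j * D.b ^ i) := by
  have h1 := D.mul_form l k j i
  have h2 := D.mul_form j i l k
  have h3 : (D.a ^ l * D.b ^ k) * (D.a ^ j * D.b ^ i) * (D.a ^ l * D.b ^ k)⁻¹ =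
      ((D.a ^ l * D.b ^ k) * (D.a ^ j * D.b ^ i)) * ((D.a ^ j * D.b ^ i) * (D.a ^ l * D.b ^ k))⁻¹ *
        (D.a ^ j * D.b ^ i) := by group
  rw [h3, h1, h2, add_comm k i, t_pow, t_pow]
  have e1 : l + j * ((D.t - 1) * sig D.t k + 1) = (D.t - 1) * (j * sig D.t k) + (j + l) := by ring
  have e2 : j + l * ((D.t - 1) * sig D.t i + 1) = (D.t - 1) * (l * sig D.t i) + (j + l) := by ring
  rw [e1, e2, pow_add, pow_add D.a ((D.t - 1) * (l * sig D.t i))]
  group

theorem pow_form (j i r : ℕ) :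
    (D.a ^ j * D.b ^ i) ^ r = D.a ^ (j * sig (D.t ^ i) r) * D.b ^ (i * r) := by
  induction r with
  | zero => simp
  | succ r ih =>
    rw [pow_succ, ih, mul_form, sig_succ, ← pow_mul]
    congr 2; ring

theorem t_pow_mod (i : ℕ) : D.t ^ i % p = 1 := by
  rw [Nat.pow_mod, D.ht, one_pow]
  exact Nat.mod_eq_of_lt hp.out.one_lt

theorem t_sub_ne : D.t - 1 ≠ 0 := by have := D.ht1; omega

theorem orderOf_a_pow (c : ℕ) (hc : c ≠ 0) :
    orderOf (D.a ^ c) = p ^ (D.m - padicValNat p c) := by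
  obtain ⟨v, w, hw, rfl⟩ := Nat.exists_eq_pow_mul_and_not_dvd hc p hp.out.ne_one
  have hw0 : w ≠ 0 := by rintro rfl; simp at hw
  have hv : padicValNat p (p ^ v * w) = v := by
    rw [padicValNat.mul (pow_ne_zero _ hp.out.ne_zero) hw0, padicValNat.prime_pow,
      padicValNat.eq_zero_of_not_dvd hw, add_zero]
  rw [hv, orderOf_pow' _ hc, D.ha]
  have hcop : Nat.Coprime w (p ^ D.m) :=
    (Nat.Coprime.pow_left _ ((Nat.Prime.coprime_iff_not_dvd hp.out).2 hw)).symm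
  rw [Nat.Coprime.gcd_mul_right_cancel_right _ hcop]
  rcases le_total D.m v with h | h
  · rw [Nat.gcd_eq_left (pow_dvd_pow _ h), Nat.sub_eq_zero_of_le h, pow_zero,
      Nat.div_self (pow_pos hp.out.pos _)]
  · rw [Nat.gcd_eq_right (pow_dvd_pow _ h), Nat.pow_div h hp.out.pos]

theorem padic_t_mul (s : ℕ) : padicValNat p ((D.t - 1) * p ^ s) = D.e + s := by
  rw [padicValNat.mul D.t_sub_ne (pow_ne_zero _ hp.out.ne_zero), padicValNat.prime_pow]
  rfl

theorem card_W (s : ℕ) :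
    Nat.card (Subgroup.zpowers (D.a ^ ((D.t - 1) * p ^ s))) = p ^ (D.n - s) := by
  rw [Nat.card_zpowers, D.orderOf_a_pow _ (mul_ne_zero D.t_sub_ne (pow_ne_zero _ hp.out.ne_zero)),
    padic_t_mul]
  congr 1
  unfold n
  omega

theorem commutator_eq : commutator G = Subgroup.zpowers (D.a ^ (D.t - 1)) := by
  apply le_antisymm
  · rw [commutator_def, Subgroup.commutator_le]
    intro x _ y _
    obtain ⟨l, k, rfl⟩ := D.hgen x
    obtain ⟨j, i, rfl⟩ := D.hgen y
    rw [commutatorElement_def, D.conj_form]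
    have e1 : D.a ^ ((D.t - 1) * (j * sig D.t k)) * (D.a ^ ((D.t - 1) * (l * sig D.t i)))⁻¹ *
        (D.a ^ j * D.b ^ i) * (D.a ^ j * D.b ^ i)⁻¹ =
        D.a ^ ((D.t - 1) * (j * sig D.t k)) * (D.a ^ ((D.t - 1) * (l * sig D.t i)))⁻¹ := by group
    rw [e1, pow_mul D.a (D.t - 1) (j * sig D.t k), pow_mul D.a (D.t - 1) (l * sig D.t i)]
    exact mul_mem (Subgroup.pow_mem _ (Subgroup.mem_zpowers _) _)
      (inv_mem (Subgroup.pow_mem _ (Subgroup.mem_zpowers _) _))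
  · rw [Subgroup.zpowers_le]
    have h1 : D.a ^ (D.t - 1) = ⁅D.b, D.a⁆ := by
      rw [commutatorElement_def, D.hconj]
      have : D.t = (D.t - 1) + 1 := by have := D.ht1; omega
      conv_rhs => rw [this, pow_succ]
      group
    rw [h1, commutator_def]
    exact Subgroup.commutator_mem_commutator (Subgroup.mem_top _) (Subgroup.mem_top _)

theorem card_commutator : Nat.card (commutator G) = p ^ D.n := by
  rw [D.commutator_eq]
  have := D.card_W 0
  simpa using this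

theorem cls_le_of_dvd [Finite G] (hp2 : p ≠ 2) (s j i : ℕ) (hj : p ^ s ∣ j) (hi : p ^ s ∣ i) :
    (Subgroup.centralizer {D.a ^ j * D.b ^ i}).index ≤ p ^ (D.n - s) := by
  rw [index_centralizer_eq, ← D.card_W s, ← Nat.card_coe_set_eq]
  set W := Subgroup.zpowers (D.a ^ ((D.t - 1) * p ^ s)) with hW
  have hsub : ∀ y : {y : G | ∃ x : G, x * (D.a ^ j * D.b ^ i) * x⁻¹ = y},
      (y : G) * (D.a ^ j * D.b ^ i)⁻¹ ∈ W := by
    rintro ⟨y, x, rfl⟩
    obtain ⟨l, k, rfl⟩ := D.hgen x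
    simp only
    rw [D.conj_form]
    have e1 : D.a ^ ((D.t - 1) * (j * sig D.t k)) * (D.a ^ ((D.t - 1) * (l * sig D.t i)))⁻¹ *
        (D.a ^ j * D.b ^ i) * (D.a ^ j * D.b ^ i)⁻¹ =
        D.a ^ ((D.t - 1) * (j * sig D.t k)) * (D.a ^ ((D.t - 1) * (l * sig D.t i)))⁻¹ := by group
    rw [e1]
    obtain ⟨j', rfl⟩ := hj
    obtain ⟨σ', hσ'⟩ := (pow_dvd_sig_iff hp2 D.ht s i).2 hi
    rw [hσ']
    have e2 : (D.t - 1) * (p ^ s * j' * sig D.t k) = ((D.t - 1) * p ^ s) * (j' * sig D.t k) := by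
      ring
    have e3 : (D.t - 1) * (l * (p ^ s * σ')) = ((D.t - 1) * p ^ s) * (l * σ') := by ring
    rw [e2, e3, pow_mul D.a ((D.t - 1) * p ^ s) (j' * sig D.t k),
      pow_mul D.a ((D.t - 1) * p ^ s) (l * σ')]
    exact mul_mem (Subgroup.pow_mem _ (Subgroup.mem_zpowers _) _)
      (inv_mem (Subgroup.pow_mem _ (Subgroup.mem_zpowers _) _))
  apply Nat.card_le_card_of_injective (fun y => (⟨_, hsub y⟩ : W))
  intro y y' h
  have := congrArg Subtype.val h
  simp only at this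
  exact Subtype.ext (mul_right_cancel this)

theorem le_cls_of_i [Finite G] (hp2 : p ≠ 2) (j i : ℕ) (hi : i ≠ 0) :
    p ^ (D.n - padicValNat p i) ≤ (Subgroup.centralizer {D.a ^ j * D.b ^ i}).index := by
  rw [index_centralizer_eq, ← Nat.card_coe_set_eq]
  set N := p ^ (D.n - padicValNat p i) with hN
  have hcard : Nat.card (Fin N) = N := Nat.card_fin N
  rw [← hcard]
  apply Nat.card_le_card_of_injective
    (fun l : Fin N => (⟨D.a ^ (l : ℕ) * (D.a ^ j * D.b ^ i) * (D.a ^ (l : ℕ))⁻¹, ⟨_, rfl⟩⟩ :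
      {y : G | ∃ x : G, x * (D.a ^ j * D.b ^ i) * x⁻¹ = y}))
  have key : ∀ l l' : ℕ, l ≤ l' → l' < N →
      D.a ^ l * (D.a ^ j * D.b ^ i) * (D.a ^ l)⁻¹ = D.a ^ l' * (D.a ^ j * D.b ^ i) * (D.a ^ l')⁻¹ →
      l = l' := by
    intro l l' hll hl' heq
    by_contra hne
    have hd : l' - l ≠ 0 := by omega
    have h1 := conj_inj_aux _ _ _ _ hll heq
    have h2 : D.a ^ (l' - l) = D.a ^ (l' - l) * D.b ^ 0 := by simp
    rw [h2, D.commute_iff] at h1
    rw [sig_zero, mul_zero] at h1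
    have h3 : p ^ D.n ∣ (l' - l) * sig D.t i := (Nat.modEq_zero_iff_dvd).1 h1
    rw [padicValNat_dvd_iff_le (mul_ne_zero hd (sig_pos _ _ hi).ne'),
      padicValNat.mul hd (sig_pos _ _ hi).ne', padicValNat_sig hp2 D.ht i hi] at h3
    have h4 := lt_pow_padic (p := p) (l' - l) (D.n - padicValNat p i) hd (by omega)
    omega
  intro l l' h
  have h' := congrArg Subtype.val h
  simp only at h'
  rcases le_total (l : ℕ) (l' : ℕ) with hll | hll
  · exact Fin.ext (key _ _ hll l'.2 h')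
  · exact Fin.ext (key _ _ hll l.2 h'.symm).symm

theorem le_cls_of_j [Finite G] (hp2 : p ≠ 2) (j i : ℕ) (hj : j ≠ 0) :
    p ^ (D.n - padicValNat p j) ≤ (Subgroup.centralizer {D.a ^ j * D.b ^ i}).index := by
  rw [index_centralizer_eq, ← Nat.card_coe_set_eq]
  set N := p ^ (D.n - padicValNat p j) with hN
  have hcard : Nat.card (Fin N) = N := Nat.card_fin N
  rw [← hcard]
  apply Nat.card_le_card_of_injective
    (fun l : Fin N => (⟨D.b ^ (l : ℕ) * (D.a ^ j * D.b ^ i) * (D.b ^ (l : ℕ))⁻¹, ⟨_, rfl⟩⟩ :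
      {y : G | ∃ x : G, x * (D.a ^ j * D.b ^ i) * x⁻¹ = y}))
  have key : ∀ l l' : ℕ, l ≤ l' → l' < N →
      D.b ^ l * (D.a ^ j * D.b ^ i) * (D.b ^ l)⁻¹ = D.b ^ l' * (D.a ^ j * D.b ^ i) * (D.b ^ l')⁻¹ →
      l = l' := by
    intro l l' hll hl' heq
    by_contra hne
    have hd : l' - l ≠ 0 := by omega
    have h1 := conj_inj_aux _ _ _ _ hll heq
    have h2 : D.b ^ (l' - l) = D.a ^ 0 * D.b ^ (l' - l) := by simp
    rw [h2, D.commute_iff] at h1
    rw [zero_mul] at h1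
    have h3 : p ^ D.n ∣ j * sig D.t (l' - l) := (Nat.modEq_zero_iff_dvd).1 h1.symm
    rw [padicValNat_dvd_iff_le (mul_ne_zero hj (sig_pos _ _ hd).ne'),
      padicValNat.mul hj (sig_pos _ _ hd).ne', padicValNat_sig hp2 D.ht _ hd] at h3
    have h4 := lt_pow_padic (p := p) (l' - l) (D.n - padicValNat p j) hd (by omega)
    omega
  intro l l' h
  have h' := congrArg Subtype.val h
  simp only at h'
  rcases le_total (l : ℕ) (l' : ℕ) with hll | hll
  · exact Fin.ext (key _ _ hll l'.2 h')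
  · exact Fin.ext (key _ _ hll l.2 h'.symm).symm

theorem cls_le_iff [Finite G] (hp2 : p ≠ 2) (s j i : ℕ) (hs : s ≤ D.n) :
    (Subgroup.centralizer {D.a ^ j * D.b ^ i}).index ≤ p ^ (D.n - s) ↔ p ^ s ∣ j ∧ p ^ s ∣ i := by
  constructor
  · intro h
    constructor
    · by_contra hj
      have hj0 : j ≠ 0 := by rintro rfl; simp at hj
      have h1 := D.le_cls_of_j hp2 j i hj0
      have h2 : ¬ s ≤ padicValNat p j := fun h => hj ((padicValNat_dvd_iff_le hj0).2 h)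
      have h3 := (Nat.pow_le_pow_iff_right hp.out.one_lt).1 (h1.trans h)
      omega
    · by_contra hi
      have hi0 : i ≠ 0 := by rintro rfl; simp at hi
      have h1 := D.le_cls_of_i hp2 j i hi0
      have h2 : ¬ s ≤ padicValNat p i := fun h => hi ((padicValNat_dvd_iff_le hi0).2 h)
      have h3 := (Nat.pow_le_pow_iff_right hp.out.one_lt).1 (h1.trans h)
      omega
  · rintro ⟨hj, hi⟩
    exact D.cls_le_of_dvd hp2 s j i hj hi

theorem cls_eq [Finite G] (hG : IsPGroup p G) (hp2 : p ≠ 2) (s j i : ℕ) (hs : s ≤ D.n)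
    (h : p ^ s ∣ j ∧ p ^ s ∣ i) (h' : s < D.n → ¬ (p ^ (s + 1) ∣ j ∧ p ^ (s + 1) ∣ i)) :
    (Subgroup.centralizer {D.a ^ j * D.b ^ i}).index = p ^ (D.n - s) := by
  obtain ⟨c, hc⟩ := hG.index (Subgroup.centralizer {D.a ^ j * D.b ^ i})
  have h1 := (D.cls_le_iff hp2 s j i hs).2 h
  rw [hc] at h1 ⊢
  have h2 := (Nat.pow_le_pow_iff_right hp.out.one_lt).1 h1
  rcases eq_or_lt_of_le hs with hsn | hsn
  · have : c = 0 := by omega
    rw [this, hsn, Nat.sub_self]
  · have h3 := h' hsn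
    rw [← D.cls_le_iff hp2 (s + 1) j i hsn, hc, Nat.pow_le_pow_iff_right hp.out.one_lt] at h3
    congr 1
    omega

theorem cls_a [Finite G] (hG : IsPGroup p G) (hp2 : p ≠ 2) :
    (Subgroup.centralizer {D.a}).index = p ^ D.n := by
  have h := D.cls_eq hG hp2 0 1 0 (Nat.zero_le _) ⟨by simp, by simp⟩ (by
    intro _ h
    have := Nat.le_of_dvd one_pos h.1
    rw [zero_add, pow_one] at this
    have := hp.out.one_lt
    omega)
  simpa using h

theorem cls_b [Finite G] (hG : IsPGroup p G) (hp2 : p ≠ 2) :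
    (Subgroup.centralizer {D.b}).index = p ^ D.n := by
  have h := D.cls_eq hG hp2 0 0 1 (Nat.zero_le _) ⟨by simp, by simp⟩ (by
    intro _ h
    have := Nat.le_of_dvd one_pos h.2
    rw [zero_add, pow_one] at this
    have := hp.out.one_lt
    omega)
  simpa using h

theorem conj_a (g : G) : ∃ c : ℕ, g * D.a * g⁻¹ = D.a ^ c := by
  obtain ⟨l, k, rfl⟩ := D.hgen g
  refine ⟨D.t ^ k, ?_⟩
  have h := D.conj_pow 1 k
  rw [pow_one, one_mul] at h
  calc D.a ^ l * D.b ^ k * D.a * (D.a ^ l * D.b ^ k)⁻¹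
      = D.a ^ l * (D.b ^ k * D.a * (D.b ^ k)⁻¹) * (D.a ^ l)⁻¹ := by group
    _ = D.a ^ (D.t ^ k) := by
      rw [h, ← pow_add, mul_inv_eq_iff_eq_mul, ← pow_add, add_comm]

theorem normal_centralizer_a : (Subgroup.centralizer {D.a}).Normal := by
  constructor
  intro z hz g
  rw [Subgroup.mem_centralizer_singleton_iff] at hz ⊢
  obtain ⟨c, hc⟩ := D.conj_a g⁻¹
  rw [inv_inv] at hc
  have h1 : z * D.a ^ c = D.a ^ c * z := by
    have : Commute z D.a := hz
    exact (this.pow_right c).eq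
  rw [← hc] at h1
  symm
  calc D.a * (g * z * g⁻¹) = g * ((g⁻¹ * D.a * g) * z) * g⁻¹ := by group
    _ = g * (z * (g⁻¹ * D.a * g)) * g⁻¹ := by rw [h1]
    _ = g * z * g⁻¹ * D.a := by group

theorem center_eq :
    Subgroup.center G = Subgroup.centralizer {D.a} ⊓ Subgroup.centralizer {D.b} := by
  apply le_antisymm
  · exact le_inf (Subgroup.center_le_centralizer _) (Subgroup.center_le_centralizer _)
  · intro z hz
    rw [Subgroup.mem_inf, Subgroup.mem_centralizer_singleton_iff,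
      Subgroup.mem_centralizer_singleton_iff] at hz
    rw [Subgroup.mem_center_iff]
    intro g
    obtain ⟨j, i, rfl⟩ := D.hgen g
    have h1 : Commute (D.a ^ j) z := (show Commute z D.a from hz.1).symm.pow_left j
    have h2 : Commute (D.b ^ i) z := (show Commute z D.b from hz.2).symm.pow_left i
    exact (h1.mul_left h2).eq

theorem sup_centralizer :
    Subgroup.centralizer {D.b} ⊔ Subgroup.centralizer {D.a} = ⊤ := by
  rw [eq_top_iff]
  intro g _
  obtain ⟨j, i, rfl⟩ := D.hgen g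
  have h1 : D.a ^ j ∈ Subgroup.centralizer {D.a} := by
    rw [Subgroup.mem_centralizer_singleton_iff]
    exact ((Commute.refl D.a).pow_left j).eq
  have h2 : D.b ^ i ∈ Subgroup.centralizer {D.b} := by
    rw [Subgroup.mem_centralizer_singleton_iff]
    exact ((Commute.refl D.b).pow_left i).eq
  exact mul_mem (Subgroup.mem_sup_right h1) (Subgroup.mem_sup_left h2)

theorem index_center [Finite G] (hG : IsPGroup p G) (hp2 : p ≠ 2) :
    (Subgroup.center G).index = p ^ D.n * p ^ D.n := by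
  have := D.normal_centralizer_a
  rw [D.center_eq, ← Subgroup.relIndex_mul_index (inf_le_right), Subgroup.inf_relIndex_right,
    ← Subgroup.relIndex_sup_right, D.sup_centralizer, Subgroup.relIndex_top_right,
    D.cls_a hG hp2, D.cls_b hG hp2]

end Data

theorem exists_data [Finite G] {p : ℕ} [hp : Fact p.Prime] (hG : IsPGroup p G)
    (hmc : Cfsg.IsMetacyclic G) : Nonempty (Data G p) := by
  obtain ⟨N, hNn, hNc, hQc⟩ := hmc
  obtain ⟨a, ha⟩ := hNc.exists_generator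
  obtain ⟨b', hb'⟩ := hQc.exists_generator
  obtain ⟨b, rfl⟩ := QuotientGroup.mk_surjective b'
  have hfa : IsOfFinOrder (a : G) := isOfFinOrder_of_finite _
  have hfb : IsOfFinOrder b := isOfFinOrder_of_finite _
  have hN : ∀ x : G, x ∈ N → ∃ j : ℕ, x = (a : G) ^ j := by
    intro x hx
    have h1 : (⟨x, hx⟩ : N) ∈ Subgroup.zpowers a := ha _
    rw [← (isOfFinOrder_of_finite a).mem_powers_iff_mem_zpowers] at h1
    obtain ⟨j, hj⟩ := h1
    refine ⟨j, ?_⟩
    have := congrArg Subtype.val hj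
    simpa using this.symm
  have hdec : ∀ x : G, ∃ j i : ℕ, x = (a : G) ^ j * b ^ i := by
    intro x
    have h1 : (x : G ⧸ N) ∈ Subgroup.zpowers (b : G ⧸ N) := hb' _
    rw [← (isOfFinOrder_of_finite _).mem_powers_iff_mem_zpowers] at h1
    obtain ⟨i, hi⟩ := h1
    have h2 : ((b ^ i : G) : G ⧸ N) = (x : G ⧸ N) := by
      rw [← hi]; rfl
    rw [QuotientGroup.eq] at h2
    have h3 : x * (b ^ i)⁻¹ ∈ N := by
      have := hNn.conj_mem _ h2 (b ^ i)
      have e : b ^ i * ((b ^ i)⁻¹ * x) * (b ^ i)⁻¹ = x * (b ^ i)⁻¹ := by group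
      rwa [e] at this
    obtain ⟨j, hj⟩ := hN _ h3
    refine ⟨j, i, ?_⟩
    rw [← hj]; group
  obtain ⟨m, hm⟩ := (hG (a : G))
  obtain ⟨m, hm⟩ : ∃ m, orderOf (a : G) = p ^ m := by
    obtain ⟨k, hk⟩ := (Nat.dvd_prime_pow hp.out).1 (orderOf_dvd_of_pow_eq_one hm)
    exact ⟨k, hk.2⟩
  obtain ⟨t₀, ht₀⟩ := hN (b * a * b⁻¹) (hNn.conj_mem _ a.2 b)
  rcases Nat.eq_zero_or_pos m with rfl | hmpos
  · have ha1 : (a : G) = 1 := by
      rw [← orderOf_eq_one_iff, hm, pow_zero]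
    refine ⟨⟨a, b, p + 1, 0, hm, ?_, ?_, ?_, hdec⟩⟩
    · rw [ha1]; simp
    · rw [Nat.add_mod_left]; exact Nat.mod_eq_of_lt hp.out.one_lt
    · have := hp.out.pos; omega
  · have ht0p : t₀ % p = 1 := by
      obtain ⟨k, hk⟩ := hG b
      have h1 := conj_pow_aux ht₀ 1 (p ^ k)
      rw [hk] at h1
      simp only [one_mul, inv_one, mul_one, pow_one] at h1
      have h2 : (a : G) ^ 1 = (a : G) ^ (t₀ ^ p ^ k) := by rw [pow_one]; exact h1
      rw [pow_eq_pow_iff_modEq, hm] at h2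
      have h3 : 1 ≡ t₀ ^ p ^ k [MOD p] := h2.of_dvd (dvd_pow_self p hmpos.ne')
      have h4 : ((t₀ ^ p ^ k : ℕ) : ZMod p) = (t₀ : ZMod p) := by
        push_cast; exact ZMod.pow_card_pow _
      have h5 : ((1 : ℕ) : ZMod p) = ((t₀ ^ p ^ k : ℕ) : ZMod p) :=
        (ZMod.natCast_eq_natCast_iff _ _ _).2 h3
      rw [h4] at h5
      have h6 := (ZMod.natCast_eq_natCast_iff _ _ _).1 h5
      have h7 : 1 % p = t₀ % p := h6
      rw [Nat.mod_eq_of_lt hp.out.one_lt] at h7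
      exact h7.symm
    refine ⟨⟨a, b, t₀ + p ^ m, m, hm, ?_, ?_, ?_, hdec⟩⟩
    · rw [pow_add, ← hm, pow_orderOf_eq_one, mul_one]; exact ht₀
    · rw [Nat.add_mod, ht0p]
      have : p ^ m % p = 0 := Nat.mod_eq_zero_of_dvd (dvd_pow_self p hmpos.ne')
      rw [this, add_zero]
      exact Nat.mod_eq_of_lt hp.out.one_lt
    · have : 1 < p ^ m := Nat.one_lt_pow hmpos.ne' hp.out.one_lt
      omega


end Cfsg.Agent.Helper3.MetaOdd
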