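import Mathlib
import Cfsg.Agent.Helper3.MetaCycA
import Cfsg.Agent.Helper3.MetaOdd
set_option autoImplicit false
namespace Cfsg.Agent.Helper3.MetaCyc

/-- The relators of the metacyclic presentation. -/
def rels (M N R T : ℕ) : Set (FreeGroup Bool) :=
  {FreeGroup.of true ^ M, (FreeGroup.of false) ^ N * (FreeGroup.of true ^ T)⁻¹,
    FreeGroup.of false * FreeGroup.of true * (FreeGroup.of false)⁻¹ * (FreeGroup.of true ^ R)⁻¹}

/-- The metacyclic presented group. -/
abbrev P (M N R T : ℕ) := PresentedGroup (rels M N R T)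

variable {M N R T : ℕ}

/-- generator `a` -/
def ga (M N R T : ℕ) : P M N R T := PresentedGroup.of true
/-- generator `b` -/
def gb (M N R T : ℕ) : P M N R T := PresentedGroup.of false

theorem ga_pow : ga M N R T ^ M = 1 := by
  have : FreeGroup.of true ^ M ∈ rels M N R T := by simp [rels]
  have h := PresentedGroup.one_of_mem this
  rwa [map_pow] at h

theorem gb_pow : gb M N R T ^ N = ga M N R T ^ T := by
  have : (FreeGroup.of false) ^ N * (FreeGroup.of true ^ T)⁻¹ ∈ rels M N R T := by simp [rels]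
  have h := PresentedGroup.one_of_mem this
  rw [map_mul, map_inv, map_pow, map_pow, mul_inv_eq_one] at h
  exact h

theorem gb_conj : gb M N R T * ga M N R T * (gb M N R T)⁻¹ = ga M N R T ^ R := by
  have : FreeGroup.of false * FreeGroup.of true * (FreeGroup.of false)⁻¹ *
      (FreeGroup.of true ^ R)⁻¹ ∈ rels M N R T := by simp [rels]
  have h := PresentedGroup.one_of_mem this
  rw [map_mul, map_inv, map_pow, map_mul, map_mul, map_inv, mul_inv_eq_one] at h
  exact h

/-- Lifting the presentation to a group with elements satisfying the relations. -/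
def liftHom {H : Type*} [Group H] (A B : H) (h1 : A ^ M = 1) (h2 : B ^ N = A ^ T)
    (h3 : B * A * B⁻¹ = A ^ R) : P M N R T →* H :=
  PresentedGroup.toGroup (f := fun x : Bool => if x then A else B) (by
    intro r hr
    simp only [rels, Set.mem_insert_iff, Set.mem_singleton_iff] at hr
    rcases hr with rfl | rfl | rfl
    · simpa using h1
    · simp only [map_mul, map_inv, map_pow, FreeGroup.lift_apply_of]
      simp [h2]
    · simp only [map_mul, map_inv, map_pow, FreeGroup.lift_apply_of]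
      simp [h3])

@[simp] theorem liftHom_ga {H : Type*} [Group H] (A B : H) (h1 : A ^ M = 1) (h2 : B ^ N = A ^ T)
    (h3 : B * A * B⁻¹ = A ^ R) : liftHom A B h1 h2 h3 (ga M N R T) = A := by
  simp [liftHom, ga]

@[simp] theorem liftHom_gb {H : Type*} [Group H] (A B : H) (h1 : A ^ M = 1) (h2 : B ^ N = A ^ T)
    (h3 : B * A * B⁻¹ = A ^ R) : liftHom A B h1 h2 h3 (gb M N R T) = B := by
  simp [liftHom, gb]

theorem closure_gens : Subgroup.closure {ga M N R T, gb M N R T} = ⊤ := by
  rw [← PresentedGroup.closure_range_of (rels M N R T)]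
  congr 1
  ext x
  simp only [Set.mem_insert_iff, Set.mem_singleton_iff, Set.mem_range, Bool.exists_bool, ga, gb]
  tauto

theorem hom_ext {H : Type*} [Group H] {φ ψ : P M N R T →* H} (h1 : φ (ga M N R T) = ψ (ga M N R T))
    (h2 : φ (gb M N R T) = ψ (gb M N R T)) : φ = ψ := by
  apply PresentedGroup.ext
  intro x
  cases x
  · exact h2
  · exact h1

/-- The order of `a` in the presented metacyclic group is exactly `M`. -/
theorem orderOf_ga (hM : 0 < M) (hN : 0 < N) (hR0 : 0 < R)
    (hR : R ^ N ≡ 1 [MOD M]) (hT : M ∣ T * (R - 1)) : orderOf (ga M N R T) = M := by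
  obtain ⟨H, instH, A, B, h1, h2, h3, h4⟩ := exists_model M N R T hM hN hR0 hR hT
  apply Nat.dvd_antisymm (orderOf_dvd_of_pow_eq_one ga_pow)
  have h5 : orderOf (liftHom A B h1 h2 h3 (ga M N R T)) ∣ orderOf (ga M N R T) :=
    orderOf_map_dvd _ _
  rw [liftHom_ga, h4] at h5
  exact h5


theorem ga_pow_eq_of_modEq {x y : ℕ} (h : x ≡ y [MOD M]) :
    ga M N R T ^ x = ga M N R T ^ y :=
  pow_eq_pow_iff_modEq.2 (h.of_dvd (orderOf_dvd_of_pow_eq_one ga_pow))

theorem gb_inv_conj (hN : 0 < N) (hR : R ^ N ≡ 1 [MOD M]) :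
    (gb M N R T)⁻¹ * ga M N R T * gb M N R T = ga M N R T ^ (R ^ (N - 1)) := by
  have h1 : gb M N R T * ga M N R T ^ (R ^ (N - 1)) * (gb M N R T)⁻¹ = ga M N R T := by
    rw [← conj_pow, gb_conj, ← pow_mul, ← pow_succ', Nat.sub_add_cancel hN]
    have := ga_pow_eq_of_modEq (N := N) (R := R) (T := T) hR
    rw [this, pow_one]
  calc (gb M N R T)⁻¹ * ga M N R T * gb M N R T
      = (gb M N R T)⁻¹ * (gb M N R T * ga M N R T ^ (R ^ (N - 1)) * (gb M N R T)⁻¹) *
        gb M N R T := by rw [h1]
    _ = ga M N R T ^ (R ^ (N - 1)) := by group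

theorem zpowers_ga_normal (hN : 0 < N) (hR : R ^ N ≡ 1 [MOD M]) :
    (Subgroup.zpowers (ga M N R T)).Normal := by
  rw [← Subgroup.normalizer_eq_top_iff, eq_top_iff, ← closure_gens, Subgroup.closure_le]
  intro x hx
  rcases hx with rfl | rfl
  · exact Subgroup.le_normalizer (Subgroup.mem_zpowers _)
  · rw [SetLike.mem_coe, Subgroup.mem_normalizer_iff]
    intro y
    constructor
    · rintro ⟨k, rfl⟩
      rw [← conj_zpow, gb_conj]
      exact Subgroup.zpow_mem _ (Subgroup.pow_mem _ (Subgroup.mem_zpowers _) _) _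
    · rintro ⟨k, hk⟩
      have hk' : ga M N R T ^ k = gb M N R T * y * (gb M N R T)⁻¹ := hk
      have : y = (gb M N R T)⁻¹ * (ga M N R T) ^ k * gb M N R T := by
        rw [hk']; group
      rw [this]
      have h2 : (gb M N R T)⁻¹ * (ga M N R T) ^ k * gb M N R T =
          ((gb M N R T)⁻¹ * ga M N R T * ((gb M N R T)⁻¹)⁻¹) ^ k := by
        rw [conj_zpow, inv_inv]
      rw [h2, inv_inv, gb_inv_conj hN hR]
      exact Subgroup.zpow_mem _ (Subgroup.pow_mem _ (Subgroup.mem_zpowers _) _) _

theorem finite_P (hM : 0 < M) (hN : 0 < N) (hR : R ^ N ≡ 1 [MOD M]) : Finite (P M N R T) := by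
  haveI := zpowers_ga_normal (M := M) (N := N) (R := R) (T := T) hN hR
  set A := Subgroup.zpowers (ga M N R T) with hA
  have hfinA : Finite A :=
    (isOfFinOrder_iff_pow_eq_one.2 ⟨M, hM, ga_pow⟩).finite_zpowers
  have hbq : (QuotientGroup.mk (gb M N R T) : P M N R T ⧸ A) ^ N = 1 := by
    rw [← QuotientGroup.mk_pow, gb_pow, QuotientGroup.eq_one_iff]
    exact Subgroup.pow_mem _ (Subgroup.mem_zpowers _) _
  have htop : (⊤ : Subgroup (P M N R T ⧸ A)) ≤
      Subgroup.zpowers (QuotientGroup.mk (gb M N R T) : P M N R T ⧸ A) := by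
    rw [← Subgroup.map_top_of_surjective (QuotientGroup.mk' A) (QuotientGroup.mk'_surjective A),
      ← closure_gens, MonoidHom.map_closure, Subgroup.closure_le]
    rintro _ ⟨x, hx, rfl⟩
    rcases hx with rfl | rfl
    · have : (QuotientGroup.mk' A) (ga M N R T) = 1 := by
        rw [QuotientGroup.mk'_apply, QuotientGroup.eq_one_iff]
        exact Subgroup.mem_zpowers _
      rw [this]
      exact Subgroup.one_mem _
    · exact Subgroup.mem_zpowers _
  have hfinQ : Finite (P M N R T ⧸ A) := by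
    have h1 : Finite (Subgroup.zpowers (QuotientGroup.mk (gb M N R T) : P M N R T ⧸ A)) :=
      (isOfFinOrder_iff_pow_eq_one.2 ⟨N, hN, hbq⟩).finite_zpowers
    have h2 : Finite (⊤ : Subgroup (P M N R T ⧸ A)) :=
      Finite.of_injective (Subgroup.inclusion htop) (Subgroup.inclusion_injective htop)
    exact Finite.of_equiv _ Subgroup.topEquiv.toEquiv
  haveI : Finite (QuotientGroup.mk' A).ker := by
    rw [QuotientGroup.ker_mk']; exact hfinA
  exact Cfsg.Agent.Helper3.SchurMult.finite_of_finite_ker (QuotientGroup.mk' A)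

end Cfsg.Agent.Helper3.MetaCyc
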