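import Mathlib
import Cfsg.Agent.Helper3.MetaOdd
set_option autoImplicit false
namespace Cfsg.Agent.Helper3.MetaCyc

open Cfsg.Agent.Helper3.MetaOdd (sig sig_mul)

theorem exists_coprime_add_mul (x n m : ℕ) (hm : m ≠ 0) (hx : x.Coprime n) :
    ∃ k : ℕ, (x + k * n).Coprime m := by
  let ps : Finset ℕ := {p ∈ m.primeFactors | ¬p ∣ x}
  use ps.prod id
  apply Nat.coprime_of_dvd
  intro p pp hp hpn
  by_cases hpx : p ∣ x
  · have h := Nat.dvd_sub hp hpx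
    rw [add_comm, Nat.add_sub_cancel] at h
    rcases pp.dvd_mul.mp h with h | h
    · have ⟨q, hq, hq'⟩ := (pp.prime.dvd_finsetProd_iff id).mp h
      rw [Finset.mem_filter, Nat.mem_primeFactors,
        ← (Nat.prime_dvd_prime_iff_eq pp hq.1.1).mp hq'] at hq
      exact hq.2 hpx
    · exact Nat.Prime.not_coprime_iff_dvd.mpr ⟨p, pp, hpx, h⟩ hx
  · have pps : p ∈ ps := Finset.mem_filter.mpr ⟨Nat.mem_primeFactors.mpr ⟨pp, hpn, hm⟩, hpx⟩
    have h := Nat.dvd_sub hp ((Finset.dvd_prod_of_mem id pps).mul_right n)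
    rw [Nat.add_sub_cancel] at h
    contradiction

/-- Arithmetic data attached to the metacyclic parameters. -/
structure Arith (m n r l : ℕ) where
  hm : 0 < m
  hn : 0 < n
  hr : 0 < r
  hrn : r ^ n ≡ 1 [MOD m]

namespace Arith
variable {m n r l : ℕ} (D : Arith m n r l)

/-- `g = gcd(m, r-1)` -/
def g (_ : Arith m n r l) : ℕ := Nat.gcd m (r - 1)
/-- `m₁ = m / g` -/
def m₁ (_ : Arith m n r l) : ℕ := m / Nat.gcd m (r - 1)
/-- `u = (r-1) / g` -/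
def u (_ : Arith m n r l) : ℕ := (r - 1) / Nat.gcd m (r - 1)
/-- `s = 1 + r + ... + r^(n-1)` -/
def s (_ : Arith m n r l) : ℕ := ∑ i ∈ Finset.range n, r ^ i
/-- `h = g gcd(m,s) / m` -/
def h (_ : Arith m n r l) : ℕ := Nat.gcd m (r - 1) * Nat.gcd m (∑ i ∈ Finset.range n, r ^ i) / m
/-- the multiplier order -/
def e (_ : Arith m n r l) : ℕ := Nat.gcd l (Nat.gcd m (r - 1) * Nat.gcd m (∑ i ∈ Finset.range n, r ^ i) / m)
/-- `t = m l / g` -/
def t (_ : Arith m n r l) : ℕ := m * l / Nat.gcd m (r - 1)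

theorem g_pos : 0 < D.g := Nat.gcd_pos_of_pos_left _ D.hm

theorem m_eq : m = D.g * D.m₁ := (Nat.mul_div_cancel' (Nat.gcd_dvd_left m (r - 1))).symm

theorem r_eq : r - 1 = D.g * D.u := (Nat.mul_div_cancel' (Nat.gcd_dvd_right m (r - 1))).symm

theorem m₁_pos : 0 < D.m₁ := by
  have := D.m_eq
  have hm := D.hm
  rcases Nat.eq_zero_or_pos D.m₁ with h0 | h0
  · rw [h0, mul_zero] at this; omega
  · exact h0

theorem coprime : Nat.Coprime D.m₁ D.u :=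
  Nat.coprime_div_gcd_div_gcd D.g_pos

theorem t_eq : D.t = D.m₁ * l := by
  unfold t
  have h1 : m * l = Nat.gcd m (r - 1) * (D.m₁ * l) := by
    rw [← mul_assoc]
    congr 1
    exact D.m_eq
  rw [h1]
  exact Nat.mul_div_cancel_left _ D.g_pos

theorem s_mul : (r - 1) * D.s + 1 = r ^ n := sig_mul r n D.hr

theorem m_dvd : m ∣ (r - 1) * D.s := by
  have h1 := (Nat.modEq_iff_dvd' (Nat.one_le_pow _ _ D.hr)).1 D.hrn.symm
  have h2 : r ^ n - 1 = (r - 1) * D.s := by rw [← D.s_mul]; omega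
  rwa [h2] at h1

theorem m₁_dvd_s : D.m₁ ∣ D.s := by
  have h1 := D.m_dvd
  rw [D.r_eq] at h1
  nth_rewrite 1 [D.m_eq] at h1
  rw [mul_assoc] at h1
  have h2 := Nat.dvd_of_mul_dvd_mul_left D.g_pos h1
  exact D.coprime.dvd_of_dvd_mul_left h2

theorem h_mul : D.h * D.m₁ = Nat.gcd m D.s := by
  unfold h
  have h1 : D.m₁ ∣ Nat.gcd m D.s := Nat.dvd_gcd (Dvd.intro_left _ D.m_eq.symm) D.m₁_dvd_s
  have h2 : Nat.gcd m (r - 1) * Nat.gcd m (∑ i ∈ Finset.range n, r ^ i) / m =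
      Nat.gcd m D.s / D.m₁ := by
    nth_rewrite 3 [D.m_eq]
    exact Nat.mul_div_mul_left _ _ D.g_pos
  rw [h2, Nat.div_mul_cancel h1]

theorem e_dvd_l : D.e ∣ l := Nat.gcd_dvd_left _ _

theorem e_dvd_h : D.e ∣ D.h := Nat.gcd_dvd_right _ _

theorem h_dvd_g : D.h ∣ D.g := by
  have h1 : D.h * D.m₁ ∣ D.g * D.m₁ := by
    rw [D.h_mul, ← D.m_eq]; exact Nat.gcd_dvd_left _ _
  exact Nat.dvd_of_mul_dvd_mul_right D.m₁_pos h1

theorem e_dvd_g : D.e ∣ D.g := D.e_dvd_h.trans D.h_dvd_g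

theorem m₁e_dvd_s : D.m₁ * D.e ∣ D.s := by
  have h1 : D.m₁ * D.e ∣ D.m₁ * D.h := Nat.mul_dvd_mul_left _ D.e_dvd_h
  rw [mul_comm D.m₁ D.h, D.h_mul] at h1
  exact h1.trans (Nat.gcd_dvd_right _ _)

theorem m₁e_dvd_m : D.m₁ * D.e ∣ m := by
  have h1 : D.m₁ * D.g = m := by rw [mul_comm]; exact D.m_eq.symm
  exact (Nat.mul_dvd_mul_left _ D.e_dvd_g).trans (dvd_of_eq h1)

theorem h_pos : 0 < D.h := by
  rcases Nat.eq_zero_or_pos D.h with h0 | h0
  · have := D.h_mul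
    rw [h0, zero_mul] at this
    have := Nat.gcd_pos_of_pos_left D.s D.hm
    omega
  · exact h0

theorem e_pos : 0 < D.e := Nat.gcd_pos_of_pos_right _ D.h_pos

/-- `h = gcd(g, k)` with `k = s / m₁`. -/
theorem h_eq_gcd : D.h = Nat.gcd D.g (D.s / D.m₁) := by
  have h1 : D.g = m / D.m₁ := by
    nth_rewrite 2 [D.m_eq]
    rw [Nat.mul_div_cancel _ D.m₁_pos]
  rw [h1, Nat.gcd_div (Dvd.intro_left _ D.m_eq.symm) D.m₁_dvd_s, ← D.h_mul,
    Nat.mul_div_cancel _ D.m₁_pos]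

end Arith

end Cfsg.Agent.Helper3.MetaCyc
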