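import Mathlib
import Cfsg.Agent.Helper3.MetaCycB
import Cfsg.Agent.Helper3.MetaCycC
set_option autoImplicit false
namespace Cfsg.Agent.Helper3.MetaCyc

open Cfsg.Agent.Helper3.MetaOdd (sig sig_mul sig_succ)

theorem sig_modEq {R r m : ℕ} (h : R ≡ r [MOD m]) (n : ℕ) : sig R n ≡ sig r n [MOD m] := by
  induction n with
  | zero => simp [sig]; rfl
  | succ i ih =>
    rw [sig_succ, sig_succ]
    exact ih.add (h.pow i)

namespace Arith
variable {m n r l : ℕ} (D : Arith m n r l)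

theorem s_eq_sig : D.s = sig r n := rfl

/-- The parameter `x` defining the cover. -/
structure CoverData (D : Arith m n r l) where
  x : ℕ
  hU : Nat.Coprime (D.u + x * D.m₁) (D.m₁ * D.e)

theorem exists_coverData : Nonempty (CoverData D) := by
  obtain ⟨k, hk⟩ := exists_coprime_add_mul D.u D.m₁ (D.m₁ * D.e)
    (Nat.mul_ne_zero D.m₁_pos.ne' D.e_pos.ne') D.coprime.symm
  exact ⟨⟨k, hk⟩⟩

namespace CoverData
variable {D} (C : CoverData D)

/-- `U = u + x m₁` -/
def U (C : CoverData D) : ℕ := D.u + C.x * D.m₁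
/-- `R = r + m x` -/
def R (C : CoverData D) : ℕ := r + m * C.x
/-- `M = m e` -/
def M (_ : CoverData D) : ℕ := m * D.e

theorem R_pos : 0 < C.R := by unfold R; have := D.hr; omega

theorem M_pos : 0 < C.M := Nat.mul_pos D.hm D.e_pos

theorem R_sub : C.R - 1 = D.g * C.U := by
  have h1 : C.R - 1 = (r - 1) + m * C.x := by unfold R; have := D.hr; omega
  have h2 : m * C.x = D.g * D.m₁ * C.x := congrArg (· * C.x) D.m_eq
  rw [h1, D.r_eq, U, mul_add, h2]
  ring

theorem R_modEq : C.R ≡ r [MOD m] := by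
  unfold R
  exact (Nat.modEq_iff_dvd' (Nat.le_add_right _ _)).2 (by simp) |>.symm

theorem U_coprime_e : Nat.Coprime C.U D.e :=
  Nat.Coprime.coprime_dvd_right (Dvd.intro_left _ rfl) C.hU

theorem m₁e_dvd_sig : D.m₁ * D.e ∣ sig C.R n :=
  ((sig_modEq C.R_modEq n).dvd_iff D.m₁e_dvd_m).2 D.m₁e_dvd_s

theorem M_eq : C.M = D.g * (D.m₁ * D.e) := by
  unfold M
  have h2 : m * D.e = D.g * D.m₁ * D.e := congrArg (· * D.e) D.m_eq
  rw [h2]
  ring

theorem hRn : C.R ^ n ≡ 1 [MOD C.M] := by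
  have h1 : C.M ∣ C.R ^ n - 1 := by
    have h2 : C.R ^ n - 1 = (C.R - 1) * sig C.R n := by
      have := sig_mul C.R n C.R_pos
      omega
    rw [h2, C.R_sub, C.M_eq, mul_assoc]
    exact Nat.mul_dvd_mul_left _ (Dvd.dvd.mul_left C.m₁e_dvd_sig _)
  exact ((Nat.modEq_iff_dvd' (Nat.one_le_pow _ _ C.R_pos)).2 h1).symm

theorem hT : C.M ∣ D.t * (C.R - 1) := by
  rw [C.R_sub, D.t_eq]
  have h1 : D.m₁ * l * (D.g * C.U) = m * (l * C.U) := by
    have h2 : m * (l * C.U) = D.g * D.m₁ * (l * C.U) := congrArg (· * (l * C.U)) D.m_eq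
    rw [h2]
    ring
  rw [h1]
  exact Nat.mul_dvd_mul_left _ (Dvd.dvd.mul_right D.e_dvd_l _)

theorem e_dvd_R_sub : D.e ∣ C.R - 1 := by
  rw [C.R_sub]
  exact Dvd.dvd.mul_right D.e_dvd_g _

end CoverData

/-- the base parameters satisfy the model condition -/
theorem base_hT : m ∣ D.t * (r - 1) := by
  rw [D.t_eq, D.r_eq]
  have h1 : D.m₁ * l * (D.g * D.u) = m * (l * D.u) := by
    have h2 : m * (l * D.u) = D.g * D.m₁ * (l * D.u) := congrArg (· * (l * D.u)) D.m_eq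
    rw [h2]
    ring
  rw [h1]
  exact Dvd.intro _ rfl

end Arith

end Cfsg.Agent.Helper3.MetaCyc
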