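import Mathlib
import Cfsg.Agent.Helper3.MetaCycD
import Cfsg.Prelude.Def_KGroupFacts
set_option autoImplicit false
namespace Cfsg.Agent.Helper3.MetaCyc

open scoped commutatorElement

variable {m n r l : ℕ}

theorem exists_inv_mod (U e : ℕ) (he : 0 < e) (h : Nat.Coprime U e) :
    ∃ y : ℕ, U * y ≡ 1 [MOD e] := by
  haveI : NeZero e := ⟨he.ne'⟩
  let v := ZMod.unitOfCoprime U h
  refine ⟨((v⁻¹ : (ZMod e)ˣ) : ZMod e).val, ?_⟩
  rw [← ZMod.natCast_eq_natCast_iff, Nat.cast_mul, ZMod.natCast_zmod_val, Nat.cast_one]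
  have : (U : ZMod e) = (v : ZMod e) := rfl
  rw [this, ← Units.val_mul, mul_inv_cancel, Units.val_one]

/-- **The covering group** of the metacyclic group. -/
theorem exists_cover (D : Arith m n r l) :
    ∃ (Γ : Type) (_ : Group Γ) (_ : Finite Γ) (σ : Γ →* P m n r D.t),
      Cfsg.IsStemExtension σ ∧ Nonempty (σ.ker ≃* Multiplicative (ZMod D.e)) := by
  obtain ⟨C⟩ := D.exists_coverData
  have hfin : Finite (P C.M n C.R D.t) := finite_P C.M_pos D.hn C.hRn
  set α := ga C.M n C.R D.t with hα
  set β := gb C.M n C.R D.t with hβ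
  set a := ga m n r D.t with ha
  set b := gb m n r D.t with hb
  have hordα : orderOf α = C.M := orderOf_ga C.M_pos D.hn C.R_pos C.hRn C.hT
  have hαpow : ∀ {x y : ℕ}, x ≡ y [MOD C.M] → α ^ x = α ^ y := fun h => ga_pow_eq_of_modEq h
  -- σ
  have h1 : a ^ C.M = 1 := by
    change a ^ (m * D.e) = 1
    rw [pow_mul, ga_pow, one_pow]
  have h3 : b * a * b⁻¹ = a ^ C.R := by
    rw [gb_conj]
    exact (ga_pow_eq_of_modEq C.R_modEq).symm
  set σ : P C.M n C.R D.t →* P m n r D.t := liftHom a b h1 gb_pow h3 with hσ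
  have hσα : σ α = a := liftHom_ga a b h1 gb_pow h3
  have hσβ : σ β = b := liftHom_gb a b h1 gb_pow h3
  have hsurj : Function.Surjective σ := by
    rw [← MonoidHom.range_eq_top, eq_top_iff, ← closure_gens, Subgroup.closure_le]
    intro x hx
    rcases hx with rfl | rfl
    · exact ⟨α, hσα⟩
    · exact ⟨β, hσβ⟩
  -- z
  set z := α ^ m with hz
  have hz_ord : orderOf z = D.e := by
    rw [hz, orderOf_pow_of_dvd D.hm.ne' (by rw [hordα]; exact Dvd.intro _ rfl), hordα]
    exact Nat.mul_div_cancel_left _ D.hm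
  have hzβ : β * z * β⁻¹ = z := by
    rw [hz, ← conj_pow, gb_conj, ← pow_mul]
    apply hαpow
    -- C.R * m ≡ m mod m * e
    have h4 : C.R * m = m + (C.R - 1) * m := by
      have h41 : C.R = (C.R - 1) + 1 := by have := C.R_pos; omega
      calc C.R * m = ((C.R - 1) + 1) * m := by rw [← h41]
        _ = m + (C.R - 1) * m := by ring
    rw [h4]
    have h5 : C.M ∣ (C.R - 1) * m := by
      change m * D.e ∣ (C.R - 1) * m
      rw [mul_comm m]
      exact Nat.mul_dvd_mul_right C.e_dvd_R_sub _
    exact (Nat.modEq_iff_dvd' (Nat.le_add_right _ _)).2 (by simpa using h5) |>.symm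
  have hz_central : z ∈ Subgroup.center (P C.M n C.R D.t) := by
    rw [Subgroup.mem_center_iff]
    intro g
    have hg : g ∈ Subgroup.centralizer ({z} : Set (P C.M n C.R D.t)) := by
      have : (⊤ : Subgroup (P C.M n C.R D.t)) ≤ Subgroup.centralizer {z} := by
        rw [← closure_gens, Subgroup.closure_le]
        intro x hx
        rcases hx with rfl | rfl
        · rw [SetLike.mem_coe, Subgroup.mem_centralizer_iff]
          intro y hy
          rw [Set.mem_singleton_iff] at hy
          rw [hy, hz]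
          exact (pow_mul_comm' _ _)
        · rw [SetLike.mem_coe, Subgroup.mem_centralizer_iff]
          intro y hy
          rw [Set.mem_singleton_iff] at hy
          rw [hy]
          change z * β = β * z
          calc z * β = (β * z * β⁻¹) * β := by rw [hzβ]
            _ = β * z := by group
      exact this trivial
    rw [Subgroup.mem_centralizer_iff] at hg
    exact (hg z rfl).symm
  set Z := Subgroup.zpowers z with hZ
  have hZc : Z ≤ Subgroup.center (P C.M n C.R D.t) := by
    rw [hZ, Subgroup.zpowers_le]; exact hz_central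
  haveI hZn : Z.Normal := Cfsg.Agent.Helper3.SchurMult.normal_of_le_center Z hZc
  -- τ
  have hmkα : (QuotientGroup.mk α : P C.M n C.R D.t ⧸ Z) ^ m = 1 := by
    rw [← QuotientGroup.mk_pow, QuotientGroup.eq_one_iff]
    exact Subgroup.mem_zpowers _
  have t1 : (QuotientGroup.mk β : P C.M n C.R D.t ⧸ Z) ^ n = (QuotientGroup.mk α) ^ D.t := by
    rw [← QuotientGroup.mk_pow, ← QuotientGroup.mk_pow, gb_pow]
  have t2 : (QuotientGroup.mk β : P C.M n C.R D.t ⧸ Z) * QuotientGroup.mk α *
      (QuotientGroup.mk β)⁻¹ = (QuotientGroup.mk α) ^ r := by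
    rw [← QuotientGroup.mk_inv, ← QuotientGroup.mk_mul, ← QuotientGroup.mk_mul, gb_conj,
      QuotientGroup.mk_pow]
    change (QuotientGroup.mk α : P C.M n C.R D.t ⧸ Z) ^ (r + m * C.x) = _
    rw [pow_add, pow_mul, hmkα, one_pow, mul_one]
  set τ : P m n r D.t →* P C.M n C.R D.t ⧸ Z := liftHom _ _ hmkα t1 t2 with hτ
  have hcomp : τ.comp σ = QuotientGroup.mk' Z := by
    apply hom_ext
    · rw [MonoidHom.comp_apply]
      change τ (σ α) = _
      rw [hσα]
      exact liftHom_ga _ _ hmkα t1 t2
    · rw [MonoidHom.comp_apply]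
      change τ (σ β) = _
      rw [hσβ]
      exact liftHom_gb _ _ hmkα t1 t2
  have hker : σ.ker = Z := by
    apply le_antisymm
    · intro x hx
      rw [MonoidHom.mem_ker] at hx
      have : QuotientGroup.mk' Z x = 1 := by
        rw [← hcomp, MonoidHom.comp_apply, hx, map_one]
      rwa [QuotientGroup.mk'_apply, QuotientGroup.eq_one_iff] at this
    · rw [hZ, Subgroup.zpowers_le, MonoidHom.mem_ker, hz, map_pow, hσα, ga_pow]
  -- z ∈ commutator
  have hzcomm : z ∈ commutator (P C.M n C.R D.t) := by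
    have hc : α ^ (C.R - 1) ∈ commutator (P C.M n C.R D.t) := by
      have h6 : ⁅β, α⁆ = α ^ (C.R - 1) := by
        rw [commutatorElement_def, gb_conj, ← pow_sub_one_mul C.R_pos.ne' α, mul_inv_cancel_right]
      rw [← h6, commutator_def]
      exact Subgroup.commutator_mem_commutator trivial trivial
    obtain ⟨y, hy⟩ := exists_inv_mod C.U D.e D.e_pos C.U_coprime_e
    have h7 : z = (α ^ (C.R - 1)) ^ (D.m₁ * y) := by
      rw [hz, ← pow_mul]
      apply hαpow
      have h8 : (C.R - 1) * (D.m₁ * y) = m * (C.U * y) := by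
        rw [C.R_sub]
        have h9 : m * (C.U * y) = D.g * D.m₁ * (C.U * y) := congrArg (· * (C.U * y)) D.m_eq
        rw [h9]; ring
      rw [h8]
      have := Nat.ModEq.mul_left' m hy
      rw [mul_one] at this
      exact this.symm
    rw [h7]
    exact Subgroup.pow_mem _ hc _
  refine ⟨P C.M n C.R D.t, inferInstance, hfin, σ, ⟨hsurj, ?_, ?_⟩, ?_⟩
  · rw [hker]; exact hZc
  · rw [hker, hZ, Subgroup.zpowers_le]; exact hzcomm
  · have hcard : Nat.card Z = D.e := by rw [hZ, Nat.card_zpowers, hz_ord]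
    have e1 : Multiplicative (ZMod (Nat.card Z)) ≃* Z := zmodCyclicMulEquiv inferInstance
    have e2 : Multiplicative (ZMod (Nat.card Z)) ≃* Multiplicative (ZMod D.e) :=
      AddEquiv.toMultiplicative (ZMod.ringEquivCongr hcard).toAddEquiv
    exact ⟨(MulEquiv.subgroupCongr hker).trans (e1.symm.trans e2)⟩

end Cfsg.Agent.Helper3.MetaCyc
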