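import Mathlib
import Cfsg.Agent.Helper3.MetaCycE
import Cfsg.Agent.Helper3.CyclicExt
set_option autoImplicit false
namespace Cfsg.Agent.Helper3.MetaCyc

open scoped commutatorElement
open Cfsg.Agent.Helper3.MetaOdd (sig sig_succ conj_pow_aux)

variable {m n r l : ℕ}

/-- In any stem extension of the metacyclic group, the kernel is generated by an element killed
by the expected multiplier order. -/
theorem stem_ker_cyclic (D : Arith m n r l) {Γ : Type} [Group Γ]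
    (σ : Γ →* P m n r D.t) (hσ : Cfsg.IsStemExtension σ) :
    ∃ w : Γ, σ.ker = Subgroup.zpowers w ∧ w ^ D.e = 1 := by
  obtain ⟨hsurj, hcen, hcomm⟩ := hσ
  set a := ga m n r D.t with ha
  set b := gb m n r D.t with hb
  have horda : orderOf a = m := orderOf_ga D.hm D.hn D.hr D.hrn D.base_hT
  obtain ⟨α, hα⟩ := hsurj a
  obtain ⟨β, hβ⟩ := hsurj b
  have hZ : ∀ z ∈ σ.ker, ∀ g : Γ, g * z = z * g := fun z hz g =>
    Subgroup.mem_center_iff.1 (hcen hz) g
  haveI := zpowers_ga_normal (M := m) (N := n) (R := r) (T := D.t) D.hn D.hrn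
  set A : Subgroup Γ := (Subgroup.zpowers a).comap σ with hAdef
  haveI hAn : A.Normal := inferInstance
  have hαA : α ∈ A := by
    rw [hAdef, Subgroup.mem_comap, hα]; exact Subgroup.mem_zpowers _
  have hkerA : σ.ker ≤ A := by
    intro z hz
    rw [hAdef, Subgroup.mem_comap, MonoidHom.mem_ker.1 hz]
    exact Subgroup.one_mem _
  -- structure of A
  have hAstr : ∀ x ∈ A, ∃ k : ℤ, ∃ z ∈ σ.ker, x = α ^ k * z := by
    intro x hx
    rw [hAdef, Subgroup.mem_comap] at hx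
    obtain ⟨k, hk⟩ := hx
    have hk' : a ^ k = σ x := hk
    refine ⟨k, (α ^ k)⁻¹ * x, ?_, by group⟩
    rw [MonoidHom.mem_ker, map_mul, map_inv, map_zpow, hα, hk', inv_mul_cancel]
  have hAcomm : IsMulCommutative A := by
    refine ⟨⟨fun x y => ?_⟩⟩
    obtain ⟨i, z, hz, hx⟩ := hAstr x x.2
    obtain ⟨j, z', hz', hy⟩ := hAstr y y.2
    apply Subtype.ext
    change (x : Γ) * y = y * x
    rw [hx, hy]
    calc α ^ i * z * (α ^ j * z') = α ^ i * (z * α ^ j) * z' := by group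
      _ = α ^ i * (α ^ j * z) * z' := by rw [hZ z hz]
      _ = (α ^ i * α ^ j) * (z * z') := by group
      _ = (α ^ j * α ^ i) * (z' * z) := by rw [(Commute.refl α).zpow_zpow i j, hZ z hz z']
      _ = α ^ j * (α ^ i * z') * z := by group
      _ = α ^ j * (z' * α ^ i) * z := by rw [hZ z' hz']
      _ = α ^ j * z' * (α ^ i * z) := by group
  have hgen : A ⊔ Subgroup.zpowers β = ⊤ := by
    have h1 : (A ⊔ Subgroup.zpowers β).map σ = ⊤ := by
      rw [eq_top_iff, ← closure_gens, Subgroup.closure_le]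
      intro x hx
      rcases hx with rfl | rfl
      · exact ⟨α, Subgroup.mem_sup_left hαA, hα⟩
      · exact ⟨β, Subgroup.mem_sup_right (Subgroup.mem_zpowers _), hβ⟩
    have h2 := Subgroup.comap_map_eq σ (A ⊔ Subgroup.zpowers β)
    rw [h1, Subgroup.comap_top] at h2
    rw [h2]
    exact (sup_eq_left.2 (hkerA.trans le_sup_left)).symm
  have hcommeq := commutator_eq_commImage A hAcomm β hgen
  set c : Γ := β * α * β⁻¹ * α⁻¹ with hc
  have hβα : β * α * β⁻¹ = c * α := by rw [hc]; group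
  have hcA : c ∈ A := A.mul_mem (hAn.conj_mem α hαA β) (A.inv_mem hαA)
  have hcα : Commute c α := by
    have := hAcomm.is_comm.comm (⟨c, hcA⟩ : A) ⟨α, hαA⟩
    exact congrArg Subtype.val this
  -- commutator ≤ zpowers c
  have hcomm_le : commutator Γ ≤ Subgroup.zpowers c := by
    rw [hcommeq]
    intro y hy
    obtain ⟨x, hx, rfl⟩ := (mem_commImage A hAcomm β y).1 hy
    obtain ⟨k, z, hz, rfl⟩ := hAstr x hx
    refine ⟨k, ?_⟩
    change c ^ k = _
    have h1 : β * (α ^ k * z) * β⁻¹ * (α ^ k * z)⁻¹ = (β * α * β⁻¹) ^ k * (α ^ k)⁻¹ := by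
      rw [conj_zpow]
      calc β * (α ^ k * z) * β⁻¹ * (α ^ k * z)⁻¹ = β * α ^ k * (z * β⁻¹) * z⁻¹ * (α ^ k)⁻¹ := by
            group
        _ = β * α ^ k * (β⁻¹ * z) * z⁻¹ * (α ^ k)⁻¹ := by rw [hZ z hz β⁻¹]
        _ = β * α ^ k * β⁻¹ * (α ^ k)⁻¹ := by group
    rw [h1, hβα, hcα.mul_zpow, mul_inv_cancel_right]
  have hker_le : σ.ker ≤ Subgroup.zpowers c := hcomm.trans hcomm_le
  have hσc : σ c = a ^ (r - 1) := by
    rw [hc, map_mul, map_mul, map_mul, map_inv, map_inv, hα, hβ, gb_conj,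
      ← pow_sub_one_mul D.hr.ne' a, mul_inv_cancel_right]
  -- relations on c
  have hαm : α ^ m ∈ σ.ker := by rw [MonoidHom.mem_ker, map_pow, hα, ga_pow]
  have hconj_pow : ∀ k : ℕ, β * α ^ k * β⁻¹ = c ^ k * α ^ k := by
    intro k
    rw [← conj_pow, hβα, hcα.mul_pow]
  have hcm : c ^ m = 1 := by
    have h1 := hconj_pow m
    have h2 : β * α ^ m * β⁻¹ = α ^ m := by
      rw [hZ _ hαm β]; group
    rw [h2] at h1
    exact (mul_eq_right.1 h1.symm)
  have hct : c ^ D.t = 1 := by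
    have h1 := hconj_pow D.t
    -- α^t = β^n z'
    have hz' : (β ^ n)⁻¹ * α ^ D.t ∈ σ.ker := by
      rw [MonoidHom.mem_ker, map_mul, map_inv, map_pow, map_pow, hα, hβ, gb_pow, inv_mul_cancel]
    have h3 : α ^ D.t = β ^ n * ((β ^ n)⁻¹ * α ^ D.t) := by group
    have h2 : β * α ^ D.t * β⁻¹ = α ^ D.t := by
      rw [h3]
      set z' := (β ^ n)⁻¹ * α ^ D.t
      calc β * (β ^ n * z') * β⁻¹ = β * β ^ n * (z' * β⁻¹) := by group
        _ = β * β ^ n * (β⁻¹ * z') := by rw [hZ z' hz' β⁻¹]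
        _ = (β * β ^ n * β⁻¹) * z' := by group
        _ = β ^ n * z' := by
            congr 1
            rw [← pow_succ', pow_succ, mul_inv_cancel_right]
    rw [h2] at h1
    exact (mul_eq_right.1 h1.symm)
  have hβc : β * c * β⁻¹ = c ^ r := by
    -- z₁ := c * (α^(r-1))⁻¹ is central
    have hz₁ : c * (α ^ (r - 1))⁻¹ ∈ σ.ker := by
      rw [MonoidHom.mem_ker, map_mul, hσc, map_inv, map_pow, hα, mul_inv_cancel]
    set z₁ := c * (α ^ (r - 1))⁻¹ with hz₁def
    have hcz : c = z₁ * α ^ (r - 1) := by rw [hz₁def]; group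
    calc β * c * β⁻¹ = β * (z₁ * α ^ (r - 1)) * β⁻¹ := by rw [← hcz]
      _ = (β * z₁) * α ^ (r - 1) * β⁻¹ := by group
      _ = (z₁ * β) * α ^ (r - 1) * β⁻¹ := by rw [hZ z₁ hz₁ β]
      _ = z₁ * (β * α ^ (r - 1) * β⁻¹) := by group
      _ = z₁ * (c ^ (r - 1) * α ^ (r - 1)) := by rw [hconj_pow]
      _ = c ^ (r - 1) * (z₁ * α ^ (r - 1)) := by
          rw [← mul_assoc, ← hZ z₁ hz₁ (c ^ (r - 1)), mul_assoc]
      _ = c ^ (r - 1) * c := by rw [← hcz]
      _ = c ^ r := pow_sub_one_mul D.hr.ne' c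
  have hiter : ∀ i : ℕ, β ^ i * α * (β ^ i)⁻¹ = c ^ (sig r i) * α := by
    intro i
    induction i with
    | zero => simp [sig]
    | succ i ih =>
      have h1 : β ^ (i + 1) * α * (β ^ (i + 1))⁻¹ = β ^ i * (β * α * β⁻¹) * (β ^ i)⁻¹ := by
        rw [pow_succ]; group
      have h2 : β ^ i * c * (β ^ i)⁻¹ = c ^ (r ^ i) := by
        have := conj_pow_aux hβc 1 i
        simpa using this
      rw [h1, hβα]
      calc β ^ i * (c * α) * (β ^ i)⁻¹ = (β ^ i * c * (β ^ i)⁻¹) * (β ^ i * α * (β ^ i)⁻¹) := by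
            group
        _ = c ^ (r ^ i) * (c ^ (sig r i) * α) := by rw [h2, ih]
        _ = c ^ (sig r (i + 1)) * α := by
            rw [← mul_assoc, ← pow_add, sig_succ, add_comm]
  have hcs : c ^ D.s = 1 := by
    have h1 := hiter n
    have hz' : (β ^ n)⁻¹ * α ^ D.t ∈ σ.ker := by
      rw [MonoidHom.mem_ker, map_mul, map_inv, map_pow, map_pow, hα, hβ, gb_pow, inv_mul_cancel]
    -- β^n = α^t * z'' with z'' central
    set z' := (β ^ n)⁻¹ * α ^ D.t with hz'def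
    have h3 : β ^ n = α ^ D.t * z'⁻¹ := by rw [hz'def]; group
    have hz'inv : z'⁻¹ ∈ σ.ker := Subgroup.inv_mem _ hz'
    have h2 : β ^ n * α * (β ^ n)⁻¹ = α := by
      rw [h3]
      calc α ^ D.t * z'⁻¹ * α * (α ^ D.t * z'⁻¹)⁻¹
          = α ^ D.t * (z'⁻¹ * α) * z' * (α ^ D.t)⁻¹ := by group
        _ = α ^ D.t * (α * z'⁻¹) * z' * (α ^ D.t)⁻¹ := by rw [← hZ _ hz'inv α]
        _ = α ^ D.t * α * (α ^ D.t)⁻¹ := by group
        _ = α := by rw [← pow_succ, pow_succ', mul_inv_cancel_right]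
    rw [h2] at h1
    exact (mul_eq_right.1 h1.symm)
  -- w
  refine ⟨c ^ D.m₁, ?_, ?_⟩
  · apply le_antisymm
    · intro z hz
      obtain ⟨k, hk⟩ := hker_le hz
      have hk' : c ^ k = z := hk
      have h1 : a ^ ((r - 1 : ℕ) * k : ℤ) = 1 := by
        have := MonoidHom.mem_ker.1 hz
        rw [← hk', map_zpow, hσc, ← zpow_natCast, ← zpow_mul] at this
        exact this
      rw [← orderOf_dvd_iff_zpow_eq_one, horda] at h1
      -- m ∣ (r-1) k  ⇒ m₁ ∣ k
      have h2 : (D.m₁ : ℤ) ∣ k := by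
        have h3 : ((D.g * D.m₁ : ℕ) : ℤ) ∣ ((D.g * D.u : ℕ) : ℤ) * k := by
          rw [← D.m_eq, ← D.r_eq]; exact h1
        rw [Nat.cast_mul, Nat.cast_mul, mul_assoc] at h3
        have h4 : (D.m₁ : ℤ) ∣ (D.u : ℤ) * k :=
          Int.dvd_of_mul_dvd_mul_left (by exact_mod_cast D.g_pos.ne') h3
        have h5 : IsCoprime (D.m₁ : ℤ) (D.u : ℤ) := Nat.isCoprime_iff_coprime.2 D.coprime
        exact h5.dvd_of_dvd_mul_left h4
      obtain ⟨j, rfl⟩ := h2
      refine ⟨j, ?_⟩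
      change (c ^ D.m₁) ^ j = z
      rw [← hk', zpow_mul, zpow_natCast]
    · rw [Subgroup.zpowers_le, MonoidHom.mem_ker, map_pow, hσc, ← pow_mul]
      have h1 : (r - 1) * D.m₁ = m * D.u := by
        rw [D.r_eq]
        have h2 : m * D.u = D.g * D.m₁ * D.u := congrArg (· * D.u) D.m_eq
        rw [h2]; ring
      rw [h1, pow_mul, ga_pow, one_pow]
  · -- order of w divides e
    have ho1 : orderOf (c ^ D.m₁) ∣ l := by
      apply orderOf_dvd_of_pow_eq_one
      rw [← pow_mul, ← D.t_eq, hct]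
    have ho2 : orderOf (c ^ D.m₁) ∣ D.g := by
      apply orderOf_dvd_of_pow_eq_one
      rw [← pow_mul, mul_comm, ← D.m_eq, hcm]
    have ho3 : orderOf (c ^ D.m₁) ∣ D.s / D.m₁ := by
      apply orderOf_dvd_of_pow_eq_one
      rw [← pow_mul, Nat.mul_div_cancel' D.m₁_dvd_s, hcs]
    have ho4 : orderOf (c ^ D.m₁) ∣ D.e := by
      change _ ∣ Nat.gcd l D.h
      rw [D.h_eq_gcd]
      exact Nat.dvd_gcd ho1 (Nat.dvd_gcd ho2 ho3)
    exact orderOf_dvd_iff_pow_eq_one.1 ho4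

end Cfsg.Agent.Helper3.MetaCyc
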