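import Mathlib
import Cfsg.Agent.Helper3.MetaOdd

namespace Cfsg.Agent.Helper3.MetaOdd

namespace Data

variable {G : Type*} [Group G] {p : ℕ} [hp : Fact p.Prime] (D : Data G p)

theorem mem_agemo_of_form (s j i : ℕ) :
    D.a ^ (p ^ s * j) * D.b ^ (p ^ s * i) ∈ Subgroup.closure {x : G | ∃ y : G, y ^ p ^ s = x} := by
  apply mul_mem
  · apply Subgroup.subset_closure
    exact ⟨D.a ^ j, by rw [← pow_mul, mul_comm]⟩
  · apply Subgroup.subset_closure
    exact ⟨D.b ^ i, by rw [← pow_mul, mul_comm]⟩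

theorem pow_form_dvd (s j i r : ℕ) (hj : p ^ s ∣ j) (hi : p ^ s ∣ i) :
    ∃ j' i' : ℕ, (D.a ^ j * D.b ^ i) ^ r = D.a ^ (p ^ s * j') * D.b ^ (p ^ s * i') := by
  obtain ⟨j₁, rfl⟩ := hj
  obtain ⟨i₁, rfl⟩ := hi
  refine ⟨j₁ * sig (D.t ^ (p ^ s * i₁)) r, i₁ * r, ?_⟩
  rw [D.pow_form]
  congr 2 <;> ring

theorem mem_agemo_iff [Finite G] (hp2 : p ≠ 2) (s : ℕ) (g : G) :
    g ∈ Subgroup.closure {x : G | ∃ y : G, y ^ p ^ s = x} ↔
      ∃ j i : ℕ, g = D.a ^ (p ^ s * j) * D.b ^ (p ^ s * i) := by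
  constructor
  · intro hg
    induction hg using Subgroup.closure_induction with
    | mem x hx =>
      obtain ⟨y, rfl⟩ := hx
      obtain ⟨j, i, rfl⟩ := D.hgen y
      rw [D.pow_form]
      obtain ⟨σ', hσ'⟩ := (pow_dvd_sig_iff hp2 (D.t_pow_mod i) s (p ^ s)).2 dvd_rfl
      refine ⟨j * σ', i, ?_⟩
      rw [hσ']
      congr 2 <;> ring
    | one => exact ⟨0, 0, by simp⟩
    | mul x y _ _ hx hy =>
      obtain ⟨j, i, rfl⟩ := hx
      obtain ⟨l, k, rfl⟩ := hy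
      refine ⟨j + l * D.t ^ (p ^ s * i), i + k, ?_⟩
      rw [D.mul_form]
      congr 2 <;> ring
    | inv x _ hx =>
      obtain ⟨j, i, rfl⟩ := hx
      set x := D.a ^ (p ^ s * j) * D.b ^ (p ^ s * i) with hx
      have h1 : x⁻¹ = x ^ (orderOf x - 1) := by
        apply inv_eq_of_mul_eq_one_right
        rw [← pow_succ', Nat.sub_add_cancel (orderOf_pos x), pow_orderOf_eq_one]
      rw [h1, hx]
      exact D.pow_form_dvd s _ _ _ (dvd_mul_right _ _) (dvd_mul_right _ _)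
  · rintro ⟨j, i, rfl⟩
    exact D.mem_agemo_of_form s j i

theorem n_eq (n : ℕ) (h : Nat.card ↥(commutator G) = p ^ n) : D.n = n := by
  rw [D.card_commutator] at h
  exact Nat.pow_right_injective hp.out.two_le h

end Data

end Cfsg.Agent.Helper3.MetaOdd
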