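import Mathlib
import Cfsg.Agent.Helper3.MetaOdd2
import Cfsg.Agent.Helper5.FrattiniLe
import Cfsg.Agent.Helper4.FrattiniQuotient

namespace Cfsg.Agent.Helper3.MetaOdd

theorem sig_pow_eq {p : ℕ} [hp : Fact p.Prime] (hp2 : p ≠ 2) {t : ℕ} (ht : t % p = 1) (r : ℕ) :
    ∃ u, sig t (p ^ r) = p ^ r * u ∧ ¬ p ∣ u := by
  obtain ⟨u, hu⟩ := (pow_dvd_sig_iff hp2 ht r (p ^ r)).2 dvd_rfl
  refine ⟨u, hu, ?_⟩
  rintro ⟨v, rfl⟩
  have h1 : p ^ (r + 1) ∣ sig t (p ^ r) := ⟨v, by rw [hu, pow_succ]; ring⟩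
  rw [pow_dvd_sig_iff hp2 ht] at h1
  have := Nat.le_of_dvd (pow_pos hp.out.pos _) h1
  have h2 : p ^ r < p ^ (r + 1) := Nat.pow_lt_pow_right hp.out.one_lt (Nat.lt_succ_self r)
  omega

namespace Data

variable {G : Type*} [Group G] {p : ℕ} [hp : Fact p.Prime] (D : Data G p)

theorem mem_centralizer_iff (J I l k : ℕ) :
    D.a ^ l * D.b ^ k ∈ Subgroup.centralizer {D.a ^ J * D.b ^ I} ↔
      l * sig D.t I ≡ J * sig D.t k [MOD p ^ D.n] := by
  rw [Subgroup.mem_centralizer_singleton_iff, eq_comm, D.commute_iff]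

include D in
theorem frattini_eq [Finite G] (hG : IsPGroup p G) :
    frattini G = Subgroup.closure {x : G | ∃ y : G, y ^ p ^ 1 = x} := by
  apply le_antisymm
  · apply Cfsg.Agent.Helper5.frattini_le_of_forall (p := p)
    · intro x
      exact Subgroup.subset_closure ⟨x, by rw [pow_one]⟩
    · intro x y
      have h1 : x * y * x⁻¹ * y⁻¹ ∈ commutator G := by
        rw [commutator_def, ← commutatorElement_def]
        exact Subgroup.commutator_mem_commutator (Subgroup.mem_top _) (Subgroup.mem_top _)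
      rw [D.commutator_eq, Subgroup.mem_zpowers_iff] at h1
      obtain ⟨k, hk⟩ := h1
      rw [← hk]
      apply Subgroup.zpow_mem
      apply Subgroup.subset_closure
      have hdvd : p ∣ D.t - 1 := by
        have h2 : D.t = p * (D.t / p) + 1 := by
          have := Nat.div_add_mod D.t p
          have := D.ht
          omega
        exact ⟨D.t / p, by omega⟩
      obtain ⟨c, hc⟩ := hdvd
      exact ⟨D.a ^ c, by rw [pow_one, ← pow_mul, hc, mul_comm]⟩
  · rw [Subgroup.closure_le]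
    rintro x ⟨y, rfl⟩
    rw [pow_one]
    exact Cfsg.Agent.Helper4.pgroup_pow_mem_frattini hG y

end Data

end Cfsg.Agent.Helper3.MetaOdd
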