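import Mathlib
import Cfsg.Agent.Helper3.MetaOdd3

namespace Cfsg.Agent.Helper3.MetaOdd

namespace Data

variable {G : Type*} [Group G] {p : ℕ} [hp : Fact p.Prime] (D : Data G p)

theorem mem_center_iff_dvd [Finite G] (hp2 : p ≠ 2) (j i : ℕ) :
    D.a ^ j * D.b ^ i ∈ Subgroup.center G ↔ p ^ D.n ∣ j ∧ p ^ D.n ∣ i := by
  rw [← D.cls_le_iff hp2 D.n j i le_rfl, Nat.sub_self, pow_zero]
  have hpos : 0 < (Subgroup.centralizer ({D.a ^ j * D.b ^ i} : Set G)).index :=
    Nat.pos_of_ne_zero Subgroup.index_ne_zero_of_finite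
  constructor
  · intro h
    have h1 : Subgroup.centralizer ({D.a ^ j * D.b ^ i} : Set G) = ⊤ := by
      rw [eq_top_iff]
      intro x _
      rw [Subgroup.mem_centralizer_singleton_iff]
      exact (Subgroup.mem_center_iff.1 h x)
    rw [h1, Subgroup.index_top]
  · intro h
    have h1 : (Subgroup.centralizer ({D.a ^ j * D.b ^ i} : Set G)).index = 1 := by omega
    rw [Subgroup.index_eq_one] at h1
    rw [Subgroup.mem_center_iff]
    intro x
    have : x ∈ Subgroup.centralizer ({D.a ^ j * D.b ^ i} : Set G) := by rw [h1]; trivial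
    rw [Subgroup.mem_centralizer_singleton_iff] at this
    exact this

theorem centralizer_center_mul (z : G) (hz : z ∈ Subgroup.center G) (g : G) :
    Subgroup.centralizer ({z * g} : Set G) = Subgroup.centralizer ({g} : Set G) := by
  ext x
  rw [Subgroup.mem_centralizer_singleton_iff, Subgroup.mem_centralizer_singleton_iff]
  have hzx : x * z = z * x := (Subgroup.mem_center_iff.1 hz x)
  constructor
  · intro h
    have h1 : z * (x * g) = z * (g * x) := by
      calc z * (x * g) = x * z * g := by rw [hzx, mul_assoc]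
        _ = x * (z * g) := by rw [mul_assoc]
        _ = z * g * x := h
        _ = z * (g * x) := by rw [mul_assoc]
    exact mul_left_cancel h1
  · intro h
    calc x * (z * g) = z * (x * g) := by rw [← mul_assoc, hzx, mul_assoc]
      _ = z * (g * x) := by rw [h]
      _ = z * g * x := by rw [mul_assoc]

/-- the parametrisation `(z, j, i) ↦ z * a^j * b^i` -/
def param (x : ↥(Subgroup.center G) × (Fin (p ^ D.n) × Fin (p ^ D.n))) : G :=
  (x.1 : G) * (D.a ^ (x.2.1 : ℕ) * D.b ^ (x.2.2 : ℕ))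

theorem param_surjective [Finite G] (hp2 : p ≠ 2) : Function.Surjective D.param := by
  intro g
  obtain ⟨J, I, rfl⟩ := D.hgen g
  have hpos : 0 < p ^ D.n := pow_pos hp.out.pos _
  have hz : D.a ^ (p ^ D.n * (J / p ^ D.n)) * D.b ^ (p ^ D.n * (I / p ^ D.n)) ∈
      Subgroup.center G :=
    (D.mem_center_iff_dvd hp2 _ _).2 ⟨dvd_mul_right _ _, dvd_mul_right _ _⟩
  have hzb : D.b ^ (p ^ D.n * (I / p ^ D.n)) ∈ Subgroup.center G := by
    have := (D.mem_center_iff_dvd hp2 0 (p ^ D.n * (I / p ^ D.n))).2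
      ⟨dvd_zero _, dvd_mul_right _ _⟩
    simpa using this
  refine ⟨(⟨_, hz⟩, (⟨J % p ^ D.n, Nat.mod_lt _ hpos⟩, ⟨I % p ^ D.n, Nat.mod_lt _ hpos⟩)), ?_⟩
  unfold param
  simp only
  have hJ : J = p ^ D.n * (J / p ^ D.n) + J % p ^ D.n := (Nat.div_add_mod J _).symm
  have hI : I = I % p ^ D.n + p ^ D.n * (I / p ^ D.n) := by
    rw [add_comm]; exact (Nat.div_add_mod I _).symm
  conv_rhs => rw [hJ, hI]
  rw [pow_add, pow_add]
  have hcomm := Subgroup.mem_center_iff.1 hzb
  calc D.a ^ (p ^ D.n * (J / p ^ D.n)) * D.b ^ (p ^ D.n * (I / p ^ D.n)) *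
        (D.a ^ (J % p ^ D.n) * D.b ^ (I % p ^ D.n))
      = D.a ^ (p ^ D.n * (J / p ^ D.n)) * (D.b ^ (p ^ D.n * (I / p ^ D.n)) *
        (D.a ^ (J % p ^ D.n) * D.b ^ (I % p ^ D.n))) := by rw [mul_assoc]
    _ = D.a ^ (p ^ D.n * (J / p ^ D.n)) * ((D.a ^ (J % p ^ D.n) * D.b ^ (I % p ^ D.n)) *
        D.b ^ (p ^ D.n * (I / p ^ D.n))) := by rw [← hcomm]
    _ = _ := by group

theorem card_eq_center_mul [Finite G] (hG : IsPGroup p G) (hp2 : p ≠ 2) :
    Nat.card ↥(Subgroup.center G) * (p ^ D.n * p ^ D.n) = Nat.card G := by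
  rw [← D.index_center hG hp2]
  exact Subgroup.card_mul_index _

theorem param_bijective [Finite G] (hG : IsPGroup p G) (hp2 : p ≠ 2) :
    Function.Bijective D.param := by
  rw [Nat.bijective_iff_surjective_and_card]
  refine ⟨D.param_surjective hp2, ?_⟩
  rw [Nat.card_prod, Nat.card_prod, Nat.card_fin, D.card_eq_center_mul hG hp2]

theorem cls_param (x : ↥(Subgroup.center G) × (Fin (p ^ D.n) × Fin (p ^ D.n))) :
    (Subgroup.centralizer ({D.param x} : Set G)).index =
      (Subgroup.centralizer ({D.a ^ (x.2.1 : ℕ) * D.b ^ (x.2.2 : ℕ)} : Set G)).index := by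
  unfold param
  rw [centralizer_center_mul _ x.1.2]

theorem card_cls_le [Finite G] (hG : IsPGroup p G) (hp2 : p ≠ 2) (c : ℕ) (hc : c ≤ D.n) :
    Nat.card {g : G // (Subgroup.centralizer ({g} : Set G)).index ≤ p ^ c} =
      Nat.card ↥(Subgroup.center G) * (p ^ c * p ^ c) := by
  have hpos : 0 < p ^ (D.n - c) := pow_pos hp.out.pos _
  have hpn : p ^ D.n = p ^ (D.n - c) * p ^ c := by rw [← pow_add]; congr 1; omega
  have hlt : ∀ j : Fin (p ^ c), p ^ (D.n - c) * (j : ℕ) < p ^ D.n := by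
    intro j
    rw [hpn]
    exact Nat.mul_lt_mul_of_pos_left j.2 hpos
  have hmem : ∀ x : ↥(Subgroup.center G) × (Fin (p ^ c) × Fin (p ^ c)),
      (Subgroup.centralizer ({D.param (x.1, (⟨_, hlt x.2.1⟩, ⟨_, hlt x.2.2⟩))} : Set G)).index ≤
        p ^ c := by
    intro x
    rw [D.cls_param]
    have := D.cls_le_of_dvd hp2 (D.n - c) (p ^ (D.n - c) * (x.2.1 : ℕ)) (p ^ (D.n - c) * (x.2.2 : ℕ))
      (dvd_mul_right _ _) (dvd_mul_right _ _)
    rwa [Nat.sub_sub_self hc] at this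
  have hcard : Nat.card (↥(Subgroup.center G) × (Fin (p ^ c) × Fin (p ^ c))) =
      Nat.card ↥(Subgroup.center G) * (p ^ c * p ^ c) := by
    rw [Nat.card_prod, Nat.card_prod, Nat.card_fin]
  rw [← hcard]
  symm
  apply Nat.card_congr
  apply Equiv.ofBijective (fun x => (⟨_, hmem x⟩ :
    {g : G // (Subgroup.centralizer ({g} : Set G)).index ≤ p ^ c}))
  constructor
  · intro x y hxy
    have h1 := congrArg Subtype.val hxy
    simp only at h1
    have h2 := (D.param_bijective hG hp2).1 h1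
    simp only [Prod.mk.injEq, Fin.mk.injEq] at h2
    obtain ⟨h3, h4, h5⟩ := h2
    refine Prod.ext h3 (Prod.ext (Fin.ext ?_) (Fin.ext ?_))
    · exact Nat.eq_of_mul_eq_mul_left hpos h4
    · exact Nat.eq_of_mul_eq_mul_left hpos h5
  · rintro ⟨g, hg⟩
    obtain ⟨⟨z, J, I⟩, rfl⟩ := (D.param_bijective hG hp2).2 g
    rw [D.cls_param] at hg
    have h1 := (D.cls_le_iff hp2 (D.n - c) (J : ℕ) (I : ℕ) (Nat.sub_le _ _)).1
      (by rwa [Nat.sub_sub_self hc])
    obtain ⟨⟨j, hj⟩, ⟨i, hi⟩⟩ := h1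
    have hjlt : j < p ^ c := by
      have := J.2
      rw [hj, hpn] at this
      exact Nat.lt_of_mul_lt_mul_left this
    have hilt : i < p ^ c := by
      have := I.2
      rw [hi, hpn] at this
      exact Nat.lt_of_mul_lt_mul_left this
    refine ⟨(z, (⟨j, hjlt⟩, ⟨i, hilt⟩)), ?_⟩
    apply Subtype.ext
    simp only
    congr 3
    · exact Fin.ext hj.symm
    · exact Fin.ext hi.symm

end Data

end Cfsg.Agent.Helper3.MetaOdd
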