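import Mathlib
import Cfsg.Agent.Helper3.MetaOdd4

namespace Cfsg.Agent.Helper3.MetaOdd

/-- a power with exponent prime to `p` generates the same: extracting the `p`-part. -/
theorem pow_ppart_mem {G : Type*} [Group G] {p : ℕ} [hp : Fact p.Prime] (L : Subgroup G) (x : G)
    (r : ℕ) (hx : orderOf x = p ^ r) (i : ℕ) (hi : i ≠ 0) (h : x ^ i ∈ L) :
    x ^ (p ^ padicValNat p i) ∈ L := by
  obtain ⟨v, w, hw, rfl⟩ := Nat.exists_eq_pow_mul_and_not_dvd hi p hp.out.ne_one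
  have hw0 : w ≠ 0 := by rintro rfl; simp at hw
  have hv : padicValNat p (p ^ v * w) = v := by
    rw [padicValNat.mul (pow_ne_zero _ hp.out.ne_zero) hw0, padicValNat.prime_pow,
      padicValNat.eq_zero_of_not_dvd hw, add_zero]
  rw [hv]
  have hcop : Nat.Coprime w (p ^ r) :=
    (Nat.Coprime.pow_left _ ((Nat.Prime.coprime_iff_not_dvd hp.out).2 hw)).symm
  obtain ⟨w', -, hw'⟩ := Nat.exists_mul_mod_eq_of_coprime 1 hcop (pow_ne_zero _ hp.out.ne_zero)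
  have h1 : (x ^ (p ^ v * w)) ^ w' = x ^ (p ^ v) := by
    rw [← pow_mul, pow_eq_pow_iff_modEq, hx]
    have : p ^ v * w * w' = p ^ v * (w * w') := by ring
    rw [this]
    have h2 : w * w' ≡ 1 [MOD p ^ r] := hw'
    simpa using h2.mul_left (p ^ v)
  rw [← h1]
  exact Subgroup.pow_mem _ h _

namespace Data

variable {G : Type*} [Group G] {p : ℕ} [hp : Fact p.Prime] (D : Data G p)

theorem exists_alpha (L : Subgroup G) : ∃ v : ℕ, D.a ^ (p ^ v) ∈ L :=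
  ⟨D.m, by rw [← D.ha, pow_orderOf_eq_one]; exact one_mem _⟩

open Classical in
/-- `L ∩ ⟨a⟩ = ⟨a^(p^α)⟩` -/
noncomputable def alpha (L : Subgroup G) : ℕ := Nat.find (D.exists_alpha L)

theorem alpha_spec (L : Subgroup G) : D.a ^ (p ^ D.alpha L) ∈ L := by
  classical exact Nat.find_spec (D.exists_alpha L)

theorem alpha_le (L : Subgroup G) : D.alpha L ≤ D.m := by
  classical
  apply Nat.find_min' (D.exists_alpha L)
  rw [← D.ha, pow_orderOf_eq_one]; exact one_mem _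

theorem a_pow_mem_iff (L : Subgroup G) (j : ℕ) : D.a ^ j ∈ L ↔ p ^ D.alpha L ∣ j := by
  constructor
  · intro h
    rcases Nat.eq_zero_or_pos j with rfl | hj
    · exact dvd_zero _
    have h1 := pow_ppart_mem L D.a D.m D.ha j hj.ne' h
    have h2 : D.alpha L ≤ padicValNat p j := by
      classical exact Nat.find_min' (D.exists_alpha L) h1
    exact (pow_dvd_pow p h2).trans ((padicValNat_dvd_iff_le hj.ne').2 le_rfl)
  · rintro ⟨c, rfl⟩
    rw [pow_mul]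
    exact Subgroup.pow_mem _ (D.alpha_spec L) _

theorem exists_beta [Finite G] (hG : IsPGroup p G) (L : Subgroup G) :
    ∃ v : ℕ, ∃ j : ℕ, D.a ^ j * D.b ^ (p ^ v) ∈ L := by
  obtain ⟨k, hk⟩ := hG D.b
  exact ⟨k, 0, by rw [hk]; simp⟩

open Classical in
/-- the image of `L` in `G/⟨a⟩` is generated by `b^(p^β)` -/
noncomputable def beta [Finite G] (hG : IsPGroup p G) (L : Subgroup G) : ℕ :=
  Nat.find (D.exists_beta hG L)

theorem beta_spec [Finite G] (hG : IsPGroup p G) (L : Subgroup G) :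
    ∃ j : ℕ, D.a ^ j * D.b ^ (p ^ D.beta hG L) ∈ L := by
  classical exact Nat.find_spec (D.exists_beta hG L)

theorem b_exp_dvd [Finite G] (hG : IsPGroup p G) (L : Subgroup G) (j i : ℕ)
    (h : D.a ^ j * D.b ^ i ∈ L) : p ^ D.beta hG L ∣ i := by
  rcases Nat.eq_zero_or_pos i with rfl | hi
  · exact dvd_zero _
  obtain ⟨k, hk⟩ := hG D.b
  obtain ⟨k, hk⟩ : ∃ k, orderOf D.b = p ^ k := by
    obtain ⟨k', hk'⟩ := (Nat.dvd_prime_pow hp.out).1 (orderOf_dvd_of_pow_eq_one hk)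
    exact ⟨k', hk'.2⟩
  obtain ⟨v, w, hw, rfl⟩ := Nat.exists_eq_pow_mul_and_not_dvd hi.ne' p hp.out.ne_one
  have hcop : Nat.Coprime w (p ^ k) :=
    (Nat.Coprime.pow_left _ ((Nat.Prime.coprime_iff_not_dvd hp.out).2 hw)).symm
  obtain ⟨w', -, hw'⟩ := Nat.exists_mul_mod_eq_of_coprime 1 hcop (pow_ne_zero _ hp.out.ne_zero)
  have h1 := Subgroup.pow_mem _ h w'
  rw [D.pow_form] at h1
  have h2 : D.b ^ (p ^ v * w * w') = D.b ^ (p ^ v) := by
    rw [pow_eq_pow_iff_modEq, hk]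
    have : p ^ v * w * w' = p ^ v * (w * w') := by ring
    rw [this]
    have h2 : w * w' ≡ 1 [MOD p ^ k] := hw'
    simpa using h2.mul_left (p ^ v)
  rw [h2] at h1
  have h3 : D.beta hG L ≤ v := by
    classical exact Nat.find_min' (D.exists_beta hG L) ⟨_, h1⟩
  exact (pow_dvd_pow p h3).trans (dvd_mul_right _ _)

theorem normal_zpowers_a_pow (c : ℕ) : (Subgroup.zpowers (D.a ^ c)).Normal := by
  constructor
  intro z hz g
  rw [Subgroup.mem_zpowers_iff] at hz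
  obtain ⟨k, rfl⟩ := hz
  obtain ⟨x, hx⟩ := D.conj_a g
  have h1 : g * (D.a ^ c) ^ k * g⁻¹ = (g * D.a ^ c * g⁻¹) ^ k := by
    rw [conj_zpow]
  have h2 : g * D.a ^ c * g⁻¹ = (D.a ^ c) ^ x := by
    rw [← _root_.conj_pow, hx, ← pow_mul, ← pow_mul, mul_comm]
  rw [h1, h2]
  exact Subgroup.zpow_mem _ (Subgroup.pow_mem _ (Subgroup.mem_zpowers _) _) _

theorem a_inv_eq (c : ℕ) : (D.a ^ c)⁻¹ = D.a ^ (c * (p ^ D.m - 1)) := by
  apply inv_eq_of_mul_eq_one_right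
  rw [← pow_add]
  have hpos : 0 < p ^ D.m := pow_pos hp.out.pos _
  have : c + c * (p ^ D.m - 1) = p ^ D.m * c := by
    obtain ⟨s, hs⟩ : ∃ s, p ^ D.m = s + 1 := ⟨p ^ D.m - 1, by omega⟩
    rw [hs]; simp only [Nat.add_sub_cancel]; ring
  rw [this, pow_mul, ← D.ha, pow_orderOf_eq_one, one_pow]

/-- a chosen `j₀` with `a^j₀ b^(p^β) ∈ L` -/
noncomputable def j0 [Finite G] (hG : IsPGroup p G) (L : Subgroup G) : ℕ :=
  (D.beta_spec hG L).choose

theorem y_mem [Finite G] (hG : IsPGroup p G) (L : Subgroup G) :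
    D.a ^ D.j0 hG L * D.b ^ (p ^ D.beta hG L) ∈ L :=
  (D.beta_spec hG L).choose_spec

/-- every element of `G` is `a^J b^i y^q` with `i < p^β` -/
theorem decomp1 [Finite G] (hG : IsPGroup p G) (L : Subgroup G) (g : G) :
    ∃ J i q : ℕ, i < p ^ D.beta hG L ∧
      g = D.a ^ J * D.b ^ i * (D.a ^ D.j0 hG L * D.b ^ (p ^ D.beta hG L)) ^ q := by
  obtain ⟨j, I, rfl⟩ := D.hgen g
  have hpos : 0 < p ^ D.beta hG L := pow_pos hp.out.pos _
  set β := D.beta hG L with hβ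
  set q := I / p ^ β with hq
  set i := I % p ^ β with hi
  have hI : I = i + p ^ β * q := by rw [add_comm]; exact (Nat.div_add_mod I _).symm
  refine ⟨j + (D.j0 hG L * sig (D.t ^ p ^ β) q) * (p ^ D.m - 1) * D.t ^ i, i, q,
    Nat.mod_lt _ hpos, ?_⟩
  rw [D.pow_form, D.mul_form, ← hI]
  congr 1
  rw [D.a_pow_eq_iff]
  have hpm : 0 < p ^ D.m := pow_pos hp.out.pos _
  obtain ⟨s, hs⟩ : ∃ s, p ^ D.m = s + 1 := ⟨p ^ D.m - 1, by omega⟩
  set c := D.j0 hG L * sig (D.t ^ p ^ β) q with hc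
  have : j + c * (p ^ D.m - 1) * D.t ^ i + c * D.t ^ i = j + p ^ D.m * (c * D.t ^ i) := by
    rw [hs]; simp only [Nat.add_sub_cancel]; ring
  rw [this]
  exact (Nat.modEq_iff_dvd' (Nat.le_add_right _ _)).2 (by simp)

theorem conj_inv_a (g : G) (x : ℕ) : ∃ c : ℕ, g⁻¹ * D.a ^ x * g = D.a ^ c := by
  obtain ⟨c₀, hc₀⟩ := D.conj_a g⁻¹
  rw [inv_inv] at hc₀
  refine ⟨c₀ * x, ?_⟩
  have : g⁻¹ * D.a ^ x * g = (g⁻¹ * D.a * g) ^ x := by
    have := _root_.conj_pow (a := g⁻¹) (b := D.a) (i := x)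
    rw [inv_inv] at this
    exact this.symm
  rw [this, hc₀, ← pow_mul]

theorem Nα_le (L : Subgroup G) : Subgroup.zpowers (D.a ^ (p ^ D.alpha L)) ≤ L := by
  rw [Subgroup.zpowers_le]
  exact D.alpha_spec L

theorem mem_decomp [Finite G] (hG : IsPGroup p G) (L : Subgroup G) (x : G) (hx : x ∈ L) :
    ∃ r q : ℕ, x = (D.a ^ (p ^ D.alpha L)) ^ r *
      (D.a ^ D.j0 hG L * D.b ^ (p ^ D.beta hG L)) ^ q := by
  obtain ⟨J, i, q, hi, rfl⟩ := D.decomp1 hG L x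
  have hyq : (D.a ^ D.j0 hG L * D.b ^ (p ^ D.beta hG L)) ^ q ∈ L :=
    Subgroup.pow_mem _ (D.y_mem hG L) q
  have h1 : D.a ^ J * D.b ^ i ∈ L := by
    have := L.mul_mem hx (L.inv_mem hyq)
    rwa [mul_inv_cancel_right] at this
  have h2 := D.b_exp_dvd hG L J i h1
  have hi0 : i = 0 := Nat.eq_zero_of_dvd_of_lt h2 hi
  subst hi0
  rw [pow_zero, mul_one] at h1 ⊢
  obtain ⟨r, rfl⟩ := (D.a_pow_mem_iff L J).1 h1
  exact ⟨r, q, by rw [pow_mul]⟩

theorem inj_aux [Finite G] (hG : IsPGroup p G) (L : Subgroup G) (j i j' i' : ℕ)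
    (hj : j < p ^ D.alpha L) (hj' : j' < p ^ D.alpha L)
    (hi' : i' < p ^ D.beta hG L) (hii : i ≤ i')
    (h : (D.a ^ j * D.b ^ i)⁻¹ * (D.a ^ j' * D.b ^ i') ∈ L) : j = j' ∧ i = i' := by
  obtain ⟨d, rfl⟩ : ∃ d, i' = i + d := ⟨i' - i, by omega⟩
  obtain ⟨c, hc⟩ := D.conj_inv_a (D.b ^ i) (j' + j * (p ^ D.m - 1))
  have hz : (D.a ^ j * D.b ^ i)⁻¹ * (D.a ^ j' * D.b ^ (i + d)) = D.a ^ c * D.b ^ d := by
    rw [← hc, pow_add D.a j', ← D.a_inv_eq, pow_add D.b i d]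
    have : Commute (D.a ^ j') ((D.a ^ j)⁻¹) := ((Commute.refl D.a).pow_pow j' j).inv_right
    rw [this.eq]
    group
  rw [hz] at h
  have h1 := D.b_exp_dvd hG L c d h
  have hd0 : d = 0 := Nat.eq_zero_of_dvd_of_lt h1 (by omega)
  subst hd0
  refine ⟨?_, rfl⟩
  rw [pow_zero, mul_one] at h
  have h2 : D.a ^ c ∈ Subgroup.zpowers (D.a ^ (p ^ D.alpha L)) := by
    obtain ⟨r, rfl⟩ := (D.a_pow_mem_iff L c).1 h
    rw [pow_mul]
    exact Subgroup.pow_mem _ (Subgroup.mem_zpowers _) _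
  have hn := D.normal_zpowers_a_pow (p ^ D.alpha L)
  have h3 := hn.conj_mem _ h2 (D.b ^ i)
  rw [← hc] at h3
  have e1 : D.b ^ i * ((D.b ^ i)⁻¹ * D.a ^ (j' + j * (p ^ D.m - 1)) * D.b ^ i) * (D.b ^ i)⁻¹ =
      D.a ^ (j' + j * (p ^ D.m - 1)) := by group
  rw [e1] at h3
  have h4 := (D.a_pow_mem_iff L _).1 (D.Nα_le L h3)
  have hαm := D.alpha_le L
  have hpm : 0 < p ^ D.m := pow_pos hp.out.pos _
  obtain ⟨s, hs⟩ : ∃ s, p ^ D.m = s + 1 := ⟨p ^ D.m - 1, by omega⟩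
  have h5 : j' + j * (p ^ D.m - 1) + j = j' + p ^ D.m * j := by
    rw [hs]; simp only [Nat.add_sub_cancel]; ring
  have h6 : j' + j * (p ^ D.m - 1) ≡ 0 [MOD p ^ D.alpha L] := (Nat.modEq_zero_iff_dvd).2 h4
  have h7 : j' + p ^ D.m * j ≡ j [MOD p ^ D.alpha L] := by
    rw [← h5]
    simpa using h6.add_right j
  have h8 : j' + p ^ D.m * j ≡ j' [MOD p ^ D.alpha L] := by
    have : p ^ D.m * j ≡ 0 [MOD p ^ D.alpha L] :=
      (Nat.modEq_zero_iff_dvd).2 (Dvd.dvd.mul_right (pow_dvd_pow p hαm) _)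
    simpa using this.add_left j'
  exact (h7.symm.trans h8).eq_of_lt_of_lt hj hj'

theorem index_eq [Finite G] (hG : IsPGroup p G) (L : Subgroup G) :
    L.index = p ^ (D.alpha L + D.beta hG L) := by
  rw [Subgroup.index_eq_card]
  have hcard : Nat.card (Fin (p ^ D.alpha L) × Fin (p ^ D.beta hG L)) =
      p ^ (D.alpha L + D.beta hG L) := by
    rw [Nat.card_prod, Nat.card_fin, Nat.card_fin, pow_add]
  rw [← hcard]
  symm
  apply Nat.card_congr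
  apply Equiv.ofBijective
    (fun x : Fin (p ^ D.alpha L) × Fin (p ^ D.beta hG L) =>
      ((D.a ^ (x.1 : ℕ) * D.b ^ (x.2 : ℕ) : G) : G ⧸ L))
  constructor
  · rintro ⟨j, i⟩ ⟨j', i'⟩ h
    simp only at h
    rw [QuotientGroup.eq] at h
    rcases le_total (i : ℕ) (i' : ℕ) with hii | hii
    · obtain ⟨h1, h2⟩ := D.inj_aux hG L _ _ _ _ j.2 j'.2 i'.2 hii h
      exact Prod.ext (Fin.ext h1) (Fin.ext h2)
    · have h' := L.inv_mem h
      rw [mul_inv_rev, inv_inv] at h'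
      obtain ⟨h1, h2⟩ := D.inj_aux hG L _ _ _ _ j'.2 j.2 i.2 hii h'
      exact Prod.ext (Fin.ext h1.symm) (Fin.ext h2.symm)
  · intro gq
    obtain ⟨g, rfl⟩ := QuotientGroup.mk_surjective gq
    obtain ⟨J, i, q, hi, rfl⟩ := D.decomp1 hG L g
    have hpos : 0 < p ^ D.alpha L := pow_pos hp.out.pos _
    refine ⟨(⟨J % p ^ D.alpha L, Nat.mod_lt _ hpos⟩, ⟨i, hi⟩), ?_⟩
    simp only
    rw [QuotientGroup.eq]
    have hJ : J = J % p ^ D.alpha L + p ^ D.alpha L * (J / p ^ D.alpha L) :=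
      (Nat.mod_add_div J _).symm
    obtain ⟨c, hc⟩ := D.conj_inv_a (D.b ^ i) (p ^ D.alpha L * (J / p ^ D.alpha L))
    have hc' : D.a ^ c ∈ L := by
      apply D.Nα_le L
      have hn := D.normal_zpowers_a_pow (p ^ D.alpha L)
      have h1 : D.a ^ (p ^ D.alpha L * (J / p ^ D.alpha L)) ∈
          Subgroup.zpowers (D.a ^ (p ^ D.alpha L)) := by
        rw [pow_mul]; exact Subgroup.pow_mem _ (Subgroup.mem_zpowers _) _
      have h2 := hn.conj_mem _ h1 (D.b ^ i)⁻¹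
      rw [inv_inv, hc] at h2
      exact h2
    have hyq : (D.a ^ D.j0 hG L * D.b ^ (p ^ D.beta hG L)) ^ q ∈ L :=
      Subgroup.pow_mem _ (D.y_mem hG L) q
    have e : ∀ j Q : ℕ, J = j + Q → (D.a ^ j * D.b ^ i)⁻¹ *
        (D.a ^ J * D.b ^ i * (D.a ^ D.j0 hG L * D.b ^ (p ^ D.beta hG L)) ^ q) =
        (D.b ^ i)⁻¹ * D.a ^ Q * D.b ^ i * (D.a ^ D.j0 hG L * D.b ^ (p ^ D.beta hG L)) ^ q := by
      intro j Q h
      rw [h, pow_add]
      group
    rw [e _ _ hJ, hc]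
    exact L.mul_mem hc' hyq

theorem p_dvd_t_sub : p ∣ D.t - 1 := by
  have h2 : D.t = p * (D.t / p) + 1 := by
    have := Nat.div_add_mod D.t p
    have := D.ht
    omega
  exact ⟨D.t / p, by omega⟩

theorem p_not_dvd_t : ¬ p ∣ D.t := by
  intro h
  have := Nat.mod_eq_zero_of_dvd h
  have := D.ht
  omega

theorem conj_y (j₀ B x : ℕ) :
    (D.a ^ j₀ * D.b ^ B) * D.a ^ x * (D.a ^ j₀ * D.b ^ B)⁻¹ = (D.a ^ x) ^ (D.t ^ B) := by
  have h := D.conj_pow x B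
  calc (D.a ^ j₀ * D.b ^ B) * D.a ^ x * (D.a ^ j₀ * D.b ^ B)⁻¹
      = D.a ^ j₀ * (D.b ^ B * D.a ^ x * (D.b ^ B)⁻¹) * (D.a ^ j₀)⁻¹ := by group
    _ = (D.a ^ x) ^ (D.t ^ B) := by
      rw [h, ← pow_mul, ← pow_add, mul_inv_eq_iff_eq_mul, ← pow_add, add_comm]

/-- the explicit data of a subgroup -/
noncomputable def subData [Finite G] (hG : IsPGroup p G) (L : Subgroup G) : Data ↥L p where
  a := ⟨D.a ^ (p ^ D.alpha L), D.alpha_spec L⟩
  b := ⟨D.a ^ D.j0 hG L * D.b ^ (p ^ D.beta hG L), D.y_mem hG L⟩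
  t := D.t ^ (p ^ D.beta hG L)
  m := D.m - D.alpha L
  ha := by
    rw [Subgroup.orderOf_mk, D.orderOf_a_pow _ (pow_ne_zero _ hp.out.ne_zero),
      padicValNat.prime_pow]
  hconj := by
    apply Subtype.ext
    have := D.conj_y (D.j0 hG L) (p ^ D.beta hG L) (p ^ D.alpha L)
    simpa using this
  ht := D.t_pow_mod _
  ht1 := Nat.one_lt_pow (pow_ne_zero _ hp.out.ne_zero) D.ht1
  hgen := by
    rintro ⟨x, hx⟩
    obtain ⟨r, q, h⟩ := D.mem_decomp hG L x hx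
    exact ⟨r, q, Subtype.ext (by simpa using h)⟩

theorem subData_n [Finite G] (hp2 : p ≠ 2) (hG : IsPGroup p G) (L : Subgroup G) :
    (D.subData hG L).n = D.n - (D.alpha L + D.beta hG L) := by
  have hodd : Odd p := hp.out.odd_of_ne_two hp2
  have hv := padicValNat.pow_sub_pow (p := p) hodd (x := D.t) (y := 1) D.ht1 D.p_dvd_t_sub
    D.p_not_dvd_t (n := p ^ D.beta hG L) (pow_ne_zero _ hp.out.ne_zero)
  rw [one_pow, padicValNat.prime_pow] at hv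
  show (D.m - D.alpha L) - padicValNat p (D.t ^ p ^ D.beta hG L - 1) = _
  rw [hv]
  show _ = (D.m - padicValNat p (D.t - 1)) - _
  omega

end Data

end Cfsg.Agent.Helper3.MetaOdd
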