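import Mathlib
import Cfsg.Agent.Helper3.MetaOdd5

namespace Cfsg.Agent.Helper3.MetaOdd

namespace Data

variable {G : Type*} [Group G] {p : ℕ} [hp : Fact p.Prime] (D : Data G p)

theorem pow_dvd_cancel' (n s x : ℕ) (hs : s ≤ n) :
    p ^ n ∣ p ^ s * x ↔ p ^ (n - s) ∣ x := by
  obtain ⟨d, rfl⟩ : ∃ d, n = s + d := ⟨n - s, by omega⟩
  rw [Nat.add_sub_cancel_left, pow_add]
  exact Nat.mul_dvd_mul_iff_left (pow_pos hp.out.pos s)

/-- membership in the centralizer of a subgroup, in coordinates -/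
theorem mem_centralizer_sub_iff [Finite G] (hp2 : p ≠ 2) (hG : IsPGroup p G) (R : Subgroup G)
    (hαn : D.alpha R ≤ D.n) (l k : ℕ) :
    D.a ^ l * D.b ^ k ∈ Subgroup.centralizer (R : Set G) ↔
      p ^ (D.n - D.alpha R) ∣ k ∧
        D.j0 hG R * sig D.t k ≡ l * sig D.t (p ^ D.beta hG R) [MOD p ^ D.n] := by
  have hA : (D.a ^ l * D.b ^ k) * (D.a ^ (p ^ D.alpha R) * D.b ^ 0) =
      (D.a ^ (p ^ D.alpha R) * D.b ^ 0) * (D.a ^ l * D.b ^ k) ↔ p ^ (D.n - D.alpha R) ∣ k := by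
    rw [D.commute_iff, sig_zero, mul_zero, Nat.modEq_zero_iff_dvd, pow_dvd_cancel' _ _ _ hαn,
      pow_dvd_sig_iff hp2 D.ht]
  have hY := D.commute_iff l k (D.j0 hG R) (p ^ D.beta hG R)
  rw [← hA, ← hY]
  constructor
  · intro h
    rw [Subgroup.mem_centralizer_iff] at h
    constructor
    · have := h (D.a ^ (p ^ D.alpha R)) (D.alpha_spec R)
      rw [pow_zero, mul_one]
      exact this.symm
    · exact (h _ (D.y_mem hG R)).symm
  · rintro ⟨h1, h2⟩
    rw [pow_zero, mul_one] at h1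
    rw [Subgroup.mem_centralizer_iff]
    intro x hx
    obtain ⟨r, q, rfl⟩ := D.mem_decomp hG R x hx
    have c1 : Commute (D.a ^ l * D.b ^ k) (D.a ^ (p ^ D.alpha R)) := h1
    have c2 : Commute (D.a ^ l * D.b ^ k) (D.a ^ D.j0 hG R * D.b ^ (p ^ D.beta hG R)) := h2
    exact ((c1.pow_right r).mul_right (c2.pow_right q)).eq.symm

theorem alpha_le_n [Finite G] (hp2 : p ≠ 2) (R : Subgroup G) (hZ : Subgroup.center G ≤ R) :
    D.alpha R ≤ D.n := by
  have h1 : D.a ^ (p ^ D.n) * D.b ^ 0 ∈ Subgroup.center G :=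
    (D.mem_center_iff_dvd hp2 _ _).2 ⟨dvd_rfl, dvd_zero _⟩
  rw [pow_zero, mul_one] at h1
  have h2 := (D.a_pow_mem_iff R _).1 (hZ h1)
  exact (Nat.pow_dvd_pow_iff_le_right hp.out.one_lt).1 h2

theorem beta_le_n [Finite G] (hp2 : p ≠ 2) (hG : IsPGroup p G) (R : Subgroup G)
    (hZ : Subgroup.center G ≤ R) : D.beta hG R ≤ D.n := by
  have h1 : D.a ^ 0 * D.b ^ (p ^ D.n) ∈ Subgroup.center G :=
    (D.mem_center_iff_dvd hp2 _ _).2 ⟨dvd_zero _, dvd_rfl⟩
  have h2 := D.b_exp_dvd hG R _ _ (hZ h1)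
  exact (Nat.pow_dvd_pow_iff_le_right hp.out.one_lt).1 h2

/-- the key divisibility: `p^β ∣ j₀ p^(n-α)` when `Z(G) ≤ R` -/
theorem j0_dvd [Finite G] (hp2 : p ≠ 2) (hG : IsPGroup p G) (R : Subgroup G)
    (hZ : Subgroup.center G ≤ R) :
    p ^ D.beta hG R ∣ D.j0 hG R * p ^ (D.n - D.alpha R) := by
  have hαn := D.alpha_le_n hp2 R hZ
  have hβn := D.beta_le_n hp2 hG R hZ
  -- y^(p^(n-β)) ∈ R
  have hy := Subgroup.pow_mem _ (D.y_mem hG R) (p ^ (D.n - D.beta hG R))
  rw [D.pow_form] at hy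
  have hb : D.b ^ (p ^ D.beta hG R * p ^ (D.n - D.beta hG R)) ∈ R := by
    have h1 : D.a ^ 0 * D.b ^ (p ^ D.n) ∈ Subgroup.center G :=
      (D.mem_center_iff_dvd hp2 _ _).2 ⟨dvd_zero _, dvd_rfl⟩
    rw [pow_zero, one_mul] at h1
    have : p ^ D.beta hG R * p ^ (D.n - D.beta hG R) = p ^ D.n := by
      rw [← pow_add]; congr 1; omega
    rw [this]
    exact hZ h1
  have ha := R.mul_mem hy (R.inv_mem hb)
  rw [mul_inv_cancel_right] at ha
  have h2 := (D.a_pow_mem_iff R _).1 ha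
  obtain ⟨u, hu, hpu⟩ := sig_pow_eq hp2 (D.t_pow_mod (p ^ D.beta hG R)) (D.n - D.beta hG R)
  rw [hu] at h2
  -- p^α ∣ j₀ * p^(n-β) * u, u coprime
  have h3 : p ^ D.alpha R ∣ D.j0 hG R * p ^ (D.n - D.beta hG R) := by
    have hcop : Nat.Coprime (p ^ D.alpha R) u :=
      Nat.Coprime.pow_left _ ((Nat.Prime.coprime_iff_not_dvd hp.out).2 hpu)
    have : D.j0 hG R * (p ^ (D.n - D.beta hG R) * u) =
        (D.j0 hG R * p ^ (D.n - D.beta hG R)) * u := by ring
    rw [this] at h2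
    exact hcop.dvd_of_dvd_mul_right h2
  rcases Nat.eq_zero_or_pos (D.j0 hG R) with h0 | h0
  · rw [h0, zero_mul]; exact dvd_zero _
  · rw [padicValNat_dvd_iff_le (mul_ne_zero h0.ne' (pow_ne_zero _ hp.out.ne_zero)),
      padicValNat.mul h0.ne' (pow_ne_zero _ hp.out.ne_zero), padicValNat.prime_pow] at h3 ⊢
    omega

theorem alpha_centralizer [Finite G] (hp2 : p ≠ 2) (hG : IsPGroup p G) (R : Subgroup G)
    (hZ : Subgroup.center G ≤ R) :
    D.alpha (Subgroup.centralizer (R : Set G)) = D.n - D.beta hG R := by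
  have hαn := D.alpha_le_n hp2 R hZ
  have hβn := D.beta_le_n hp2 hG R hZ
  obtain ⟨u, hu, hpu⟩ := sig_pow_eq hp2 D.ht (D.beta hG R)
  have key : ∀ l : ℕ, D.a ^ l ∈ Subgroup.centralizer (R : Set G) ↔
      p ^ (D.n - D.beta hG R) ∣ l := by
    intro l
    have := D.mem_centralizer_sub_iff hp2 hG R hαn l 0
    rw [pow_zero, mul_one] at this
    rw [this, sig_zero, mul_zero, hu]
    simp only [dvd_zero, true_and]
    constructor
    · intro h
      have h1 : p ^ D.n ∣ l * (p ^ D.beta hG R * u) := (Nat.modEq_zero_iff_dvd).1 h.symm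
      have h2 : p ^ D.n ∣ p ^ D.beta hG R * (l * u) := by
        have : l * (p ^ D.beta hG R * u) = p ^ D.beta hG R * (l * u) := by ring
        rwa [this] at h1
      rw [pow_dvd_cancel' _ _ _ hβn] at h2
      have hcop : Nat.Coprime (p ^ (D.n - D.beta hG R)) u :=
        Nat.Coprime.pow_left _ ((Nat.Prime.coprime_iff_not_dvd hp.out).2 hpu)
      exact hcop.dvd_of_dvd_mul_right h2
    · rintro ⟨c, rfl⟩
      apply Nat.ModEq.symm
      apply (Nat.modEq_zero_iff_dvd).2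
      have : p ^ D.n = p ^ (D.n - D.beta hG R) * p ^ D.beta hG R := by
        rw [← pow_add]; congr 1; omega
      rw [this]
      exact ⟨c * u, by ring⟩
  have h1 := (key _).1 (D.alpha_spec (Subgroup.centralizer (R : Set G)))
  have h2 := (D.a_pow_mem_iff (Subgroup.centralizer (R : Set G)) _).1 ((key _).2 dvd_rfl)
  exact le_antisymm ((Nat.pow_dvd_pow_iff_le_right hp.out.one_lt).1 h2)
    ((Nat.pow_dvd_pow_iff_le_right hp.out.one_lt).1 h1)

theorem beta_centralizer [Finite G] (hp2 : p ≠ 2) (hG : IsPGroup p G) (R : Subgroup G)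
    (hZ : Subgroup.center G ≤ R) :
    D.beta hG (Subgroup.centralizer (R : Set G)) = D.n - D.alpha R := by
  have hαn := D.alpha_le_n hp2 R hZ
  have hβn := D.beta_le_n hp2 hG R hZ
  apply le_antisymm
  · -- exhibit an element
    obtain ⟨u, hu, hpu⟩ := sig_pow_eq hp2 D.ht (D.beta hG R)
    obtain ⟨u₂, hu₂, hpu₂⟩ := sig_pow_eq hp2 D.ht (D.n - D.alpha R)
    obtain ⟨w, hw⟩ := D.j0_dvd hp2 hG R hZ
    have hcopu : Nat.Coprime u (p ^ D.n) :=
      (Nat.Coprime.pow_left _ ((Nat.Prime.coprime_iff_not_dvd hp.out).2 hpu)).symm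
    obtain ⟨ū, -, hū⟩ := Nat.exists_mul_mod_eq_of_coprime 1 hcopu (pow_ne_zero _ hp.out.ne_zero)
    have hū' : u * ū ≡ 1 [MOD p ^ D.n] := hū
    have hmem : D.a ^ (w * u₂ * ū) * D.b ^ (p ^ (D.n - D.alpha R)) ∈
        Subgroup.centralizer (R : Set G) := by
      rw [D.mem_centralizer_sub_iff hp2 hG R hαn]
      refine ⟨dvd_rfl, ?_⟩
      rw [hu₂, hu]
      have e1 : D.j0 hG R * (p ^ (D.n - D.alpha R) * u₂) = p ^ D.beta hG R * w * u₂ := by
        rw [← mul_assoc, hw]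
      rw [e1]
      calc p ^ D.beta hG R * w * u₂ = (p ^ D.beta hG R * w * u₂) * 1 := by ring
        _ ≡ (p ^ D.beta hG R * w * u₂) * (u * ū) [MOD p ^ D.n] := (hū'.symm).mul_left _
        _ = w * u₂ * ū * (p ^ D.beta hG R * u) := by ring
    have := D.b_exp_dvd hG _ _ _ hmem
    exact (Nat.pow_dvd_pow_iff_le_right hp.out.one_lt).1 this
  · obtain ⟨j, hj⟩ := D.beta_spec hG (Subgroup.centralizer (R : Set G))
    have := ((D.mem_centralizer_sub_iff hp2 hG R hαn _ _).1 hj).1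
    exact (Nat.pow_dvd_pow_iff_le_right hp.out.one_lt).1 this

include D in
/-- the Chermak–Delgado measure is constant on subgroups containing the centre -/
theorem measure_eq [Finite G] (hp2 : p ≠ 2) (hG : IsPGroup p G) (R : Subgroup G)
    (hZ : Subgroup.center G ≤ R) :
    Nat.card ↥R * Nat.card ↥(Subgroup.centralizer (R : Set G)) =
      Nat.card G * Nat.card ↥(Subgroup.center G) := by
  have hαn := D.alpha_le_n hp2 R hZ
  have hβn := D.beta_le_n hp2 hG R hZ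
  have h1 := D.index_eq hG R
  have h2 := D.index_eq hG (Subgroup.centralizer (R : Set G))
  rw [D.alpha_centralizer hp2 hG R hZ, D.beta_centralizer hp2 hG R hZ] at h2
  have h3 := Subgroup.card_mul_index R
  have h4 := Subgroup.card_mul_index (Subgroup.centralizer (R : Set G))
  have h5 := D.card_eq_center_mul hG hp2
  rw [h1] at h3
  rw [h2] at h4
  have hpp : ∀ k, 0 < p ^ k := fun k => pow_pos hp.out.pos _
  have e : p ^ (D.alpha R + D.beta hG R) * p ^ (D.n - D.beta hG R + (D.n - D.alpha R)) =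
      p ^ D.n * p ^ D.n := by
    rw [← pow_add, ← pow_add]; congr 1; omega
  have h6 : (Nat.card ↥R * Nat.card ↥(Subgroup.centralizer (R : Set G))) * (p ^ D.n * p ^ D.n) =
      (Nat.card G * Nat.card ↥(Subgroup.center G)) * (p ^ D.n * p ^ D.n) := by
    calc (Nat.card ↥R * Nat.card ↥(Subgroup.centralizer (R : Set G))) * (p ^ D.n * p ^ D.n)
        = (Nat.card ↥R * p ^ (D.alpha R + D.beta hG R)) *
          (Nat.card ↥(Subgroup.centralizer (R : Set G)) *
            p ^ (D.n - D.beta hG R + (D.n - D.alpha R))) := by rw [← e]; ring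
      _ = Nat.card G * Nat.card G := by rw [h3, h4]
      _ = Nat.card G * (Nat.card ↥(Subgroup.center G) * (p ^ D.n * p ^ D.n)) := by rw [h5]
      _ = _ := by ring
  exact Nat.eq_of_mul_eq_mul_right (Nat.mul_pos (hpp _) (hpp _)) h6

end Data

end Cfsg.Agent.Helper3.MetaOdd
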