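import Mathlib
import Cfsg.Agent.Helper3.MetaOdd6

namespace Cfsg.Agent.Helper3.MetaOdd

namespace Data

variable {G : Type*} [Group G] {p : ℕ} [hp : Fact p.Prime] (D : Data G p)

/-- `p^k` is the order of `b` modulo `⟨a⟩` -/
noncomputable def kk [Finite G] (hG : IsPGroup p G) : ℕ := D.beta hG (Subgroup.zpowers D.a)

theorem a_pow_mem_A (j : ℕ) : D.a ^ j ∈ Subgroup.zpowers D.a :=
  Subgroup.pow_mem _ (Subgroup.mem_zpowers _) _

theorem b_mem_of_mul_mem (j i : ℕ) (h : D.a ^ j * D.b ^ i ∈ Subgroup.zpowers D.a) :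
    D.b ^ i ∈ Subgroup.zpowers D.a := by
  have := (Subgroup.zpowers D.a).mul_mem ((Subgroup.zpowers D.a).inv_mem (D.a_pow_mem_A j)) h
  rwa [inv_mul_cancel_left] at this

theorem b_pow_mem_A_iff [Finite G] (hG : IsPGroup p G) (i : ℕ) :
    D.b ^ i ∈ Subgroup.zpowers D.a ↔ p ^ D.kk hG ∣ i := by
  constructor
  · intro h
    have h1 : D.a ^ 0 * D.b ^ i ∈ Subgroup.zpowers D.a := by simpa using h
    exact D.b_exp_dvd hG _ _ _ h1
  · rintro ⟨q, rfl⟩
    obtain ⟨j, hj⟩ := D.beta_spec hG (Subgroup.zpowers D.a)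
    have h1 : D.b ^ (p ^ D.kk hG) ∈ Subgroup.zpowers D.a := by
      have := (Subgroup.zpowers D.a).mul_mem ((Subgroup.zpowers D.a).inv_mem (D.a_pow_mem_A j)) hj
      rwa [inv_mul_cancel_left] at this
    rw [pow_mul]
    exact Subgroup.pow_mem _ h1 _

theorem exists_c [Finite G] (hG : IsPGroup p G) : ∃ c : ℕ, D.b ^ (p ^ D.kk hG) = D.a ^ c := by
  have h := (D.b_pow_mem_A_iff hG (p ^ D.kk hG)).2 dvd_rfl
  rw [← (isOfFinOrder_of_finite D.a).mem_powers_iff_mem_zpowers] at h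
  obtain ⟨c, hc⟩ := h
  exact ⟨c, hc.symm⟩

theorem alpha_A : D.alpha (Subgroup.zpowers D.a) = 0 := by
  have h := (D.a_pow_mem_iff (Subgroup.zpowers D.a) 1).1 (by simp)
  have h1 := Nat.le_of_dvd one_pos h
  by_contra hne
  have : 1 < p ^ D.alpha (Subgroup.zpowers D.a) := Nat.one_lt_pow hne hp.out.one_lt
  omega

theorem card_G [Finite G] (hG : IsPGroup p G) : Nat.card G = p ^ (D.m + D.kk hG) := by
  have h1 := D.index_eq hG (Subgroup.zpowers D.a)
  rw [D.alpha_A, zero_add] at h1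
  have h2 := Subgroup.card_mul_index (Subgroup.zpowers D.a)
  rw [h1, Nat.card_zpowers, D.ha] at h2
  rw [← h2, pow_add]
  rfl

/-- order of an element `a^x b^(p^r)` whose `p^s`-th power is trivial, `r + s = k` -/
theorem orderOf_twist [Finite G] (hG : IsPGroup p G) (x r s : ℕ) (hrs : r + s = D.kk hG)
    (h1 : (D.a ^ x * D.b ^ (p ^ r)) ^ (p ^ s) = 1) :
    orderOf (D.a ^ x * D.b ^ (p ^ r)) = p ^ s := by
  apply Nat.dvd_antisymm (orderOf_dvd_of_pow_eq_one h1)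
  have h2 := pow_orderOf_eq_one (D.a ^ x * D.b ^ (p ^ r))
  rw [D.pow_form] at h2
  have h3 : D.b ^ (p ^ r * orderOf (D.a ^ x * D.b ^ (p ^ r))) ∈ Subgroup.zpowers D.a := by
    have h4 : D.a ^ (x * sig (D.t ^ p ^ r) (orderOf (D.a ^ x * D.b ^ (p ^ r)))) *
        D.b ^ (p ^ r * orderOf (D.a ^ x * D.b ^ (p ^ r))) ∈ Subgroup.zpowers D.a := by
      rw [h2]; exact one_mem _
    exact D.b_mem_of_mul_mem _ _ h4
  rw [D.b_pow_mem_A_iff hG, ← hrs, pow_add] at h3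
  exact (Nat.mul_dvd_mul_iff_left (pow_pos hp.out.pos r)).1 h3

theorem exists_neg_solve (u c' M : ℕ) (hcop : Nat.Coprime u M) (hM : M ≠ 0) :
    ∃ x, M ∣ u * x + c' := by
  obtain ⟨x, -, hx⟩ := Nat.exists_mul_mod_eq_of_coprime (c' * (M - 1)) hcop hM
  refine ⟨x, ?_⟩
  have h1 : u * x ≡ c' * (M - 1) [MOD M] := hx
  have h2 : u * x + c' ≡ c' * (M - 1) + c' [MOD M] := h1.add_right c'
  have h3 : c' * (M - 1) + c' = M * c' := by
    obtain ⟨s, rfl⟩ : ∃ s, M = s + 1 := ⟨M - 1, by omega⟩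
    simp only [Nat.add_sub_cancel]; ring
  rw [h3] at h2
  exact (Nat.modEq_zero_iff_dvd).1 (h2.trans ((Nat.modEq_zero_iff_dvd).2 (dvd_mul_right _ _)))

/-- split case -/
theorem factor_split [Finite G] (hG : IsPGroup p G) (c x : ℕ)
    (hc : D.b ^ (p ^ D.kk hG) = D.a ^ c) (hx : p ^ D.m ∣ x * sig D.t (p ^ D.kk hG) + c) :
    ∃ A B : Subgroup G, IsCyclic ↥A ∧ IsCyclic ↥B ∧ A ⊓ B = ⊥ ∧
      Nat.card ↥A * Nat.card ↥B = Nat.card G := by
  have hpow : (D.a ^ x * D.b ^ (p ^ 0)) ^ (p ^ D.kk hG) = 1 := by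
    rw [D.pow_form, pow_zero, pow_one, one_mul, hc, ← pow_add]
    obtain ⟨q, hq⟩ := hx
    rw [hq, pow_mul, ← D.ha, pow_orderOf_eq_one, one_pow]
  have hord := D.orderOf_twist hG x 0 (D.kk hG) (zero_add _) hpow
  refine ⟨Subgroup.zpowers D.a, Subgroup.zpowers (D.a ^ x * D.b ^ (p ^ 0)), inferInstance,
    inferInstance, ?_, ?_⟩
  · rw [eq_bot_iff]
    intro z hz
    rw [Subgroup.mem_inf] at hz
    obtain ⟨hzA, hzB⟩ := hz
    rw [← (isOfFinOrder_of_finite _).mem_powers_iff_mem_zpowers] at hzB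
    obtain ⟨i, rfl⟩ := hzB
    rw [Subgroup.mem_bot]
    beta_reduce at hzA ⊢
    rw [D.pow_form] at hzA
    have h1 := D.b_mem_of_mul_mem _ _ hzA
    rw [D.b_pow_mem_A_iff hG, pow_zero, one_mul] at h1
    obtain ⟨q, rfl⟩ := h1
    rw [pow_mul, hpow, one_pow]
  · rw [Nat.card_zpowers, Nat.card_zpowers, D.ha, hord, D.card_G hG, pow_add]

/-- an element of `⟨a⟩ ∩ ⟨b⟩` is a power of `a^c` -/
theorem a_mem_zpowers_b [Finite G] (hG : IsPGroup p G) (c v : ℕ)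
    (hc : D.b ^ (p ^ D.kk hG) = D.a ^ c) (hvc : p ^ v ∣ c) (hvm : v ≤ D.m) (y : ℕ)
    (h : D.a ^ y ∈ Subgroup.zpowers D.b) : p ^ v ∣ y := by
  rw [← (isOfFinOrder_of_finite _).mem_powers_iff_mem_zpowers] at h
  obtain ⟨i, hi⟩ := h
  have h1 : D.b ^ i ∈ Subgroup.zpowers D.a := by
    simp only at hi
    rw [hi]; exact D.a_pow_mem_A y
  rw [D.b_pow_mem_A_iff hG] at h1
  obtain ⟨q, rfl⟩ := h1
  simp only at hi
  rw [pow_mul, hc, ← pow_mul, D.a_pow_eq_iff] at hi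
  have h2 : c * q ≡ y [MOD p ^ v] := hi.of_dvd (pow_dvd_pow p hvm)
  have h3 : c * q ≡ 0 [MOD p ^ v] := (Nat.modEq_zero_iff_dvd).2 (Dvd.dvd.mul_right hvc _)
  exact (Nat.modEq_zero_iff_dvd).1 (h2.symm.trans h3)

/-- non-split case -/
theorem factor_nonsplit [Finite G] (hp2 : p ≠ 2) (hG : IsPGroup p G) (c' v : ℕ)
    (hc : D.b ^ (p ^ D.kk hG) = D.a ^ (p ^ v * c')) (hc' : ¬ p ∣ c') (hvk : v < D.kk hG)
    (hvm : v < D.m) :
    ∃ A B : Subgroup G, IsCyclic ↥A ∧ IsCyclic ↥B ∧ A ⊓ B = ⊥ ∧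
      Nat.card ↥A * Nat.card ↥B = Nat.card G := by
  set r := D.kk hG - v with hr
  have hrs : r + v = D.kk hG := by omega
  have hT : (D.t ^ p ^ r) % p = 1 := D.t_pow_mod _
  obtain ⟨u', hu', hpu'⟩ := sig_pow_eq hp2 hT v
  have hcop : Nat.Coprime u' (p ^ D.m) :=
    (Nat.Coprime.pow_left _ ((Nat.Prime.coprime_iff_not_dvd hp.out).2 hpu')).symm
  obtain ⟨x, hx⟩ := exists_neg_solve u' c' (p ^ D.m) hcop (pow_ne_zero _ hp.out.ne_zero)
  have hpx : ¬ p ∣ x := by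
    intro hd
    have h1 : p ∣ u' * x + c' := (dvd_pow_self p (by omega : D.m ≠ 0)).trans hx
    exact hc' ((Nat.dvd_add_right (Dvd.dvd.mul_left hd _)).1 h1)
  have hpow : (D.a ^ x * D.b ^ (p ^ r)) ^ (p ^ v) = 1 := by
    rw [D.pow_form, ← pow_add, hrs, hc, ← pow_add, hu']
    obtain ⟨q, hq⟩ := hx
    have : x * (p ^ v * u') + p ^ v * c' = p ^ D.m * (p ^ v * q) := by
      calc x * (p ^ v * u') + p ^ v * c' = p ^ v * (u' * x + c') := by ring
        _ = p ^ D.m * (p ^ v * q) := by rw [hq]; ring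
    rw [this, pow_mul, ← D.ha, pow_orderOf_eq_one, one_pow]
  have hord := D.orderOf_twist hG x r v hrs hpow
  -- order of b
  have hc0 : p ^ v * c' ≠ 0 := mul_ne_zero (pow_ne_zero _ hp.out.ne_zero)
    (by rintro rfl; exact hc' (dvd_zero _))
  have hvc : padicValNat p (p ^ v * c') = v := by
    rw [padicValNat.mul (pow_ne_zero _ hp.out.ne_zero) (by rintro rfl; exact hc' (dvd_zero _)),
      padicValNat.prime_pow, padicValNat.eq_zero_of_not_dvd hc', add_zero]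
  have hordb : orderOf D.b = p ^ (D.kk hG + (D.m - v)) := by
    obtain ⟨N, hN⟩ := hG D.b
    obtain ⟨N, hN⟩ : ∃ N, orderOf D.b = p ^ N := by
      obtain ⟨N', hN'⟩ := (Nat.dvd_prime_pow hp.out).1 (orderOf_dvd_of_pow_eq_one hN)
      exact ⟨N', hN'.2⟩
    have hkN : D.kk hG ≤ N := by
      have h1 : D.b ^ (p ^ N) ∈ Subgroup.zpowers D.a := by
        rw [← hN, pow_orderOf_eq_one]; exact one_mem _
      rw [D.b_pow_mem_A_iff hG] at h1
      exact (Nat.pow_dvd_pow_iff_le_right hp.out.one_lt).1 h1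
    have h2 : orderOf (D.b ^ (p ^ D.kk hG)) = p ^ (N - D.kk hG) := by
      rw [orderOf_pow' _ (pow_ne_zero _ hp.out.ne_zero), hN,
        Nat.gcd_eq_right (pow_dvd_pow p hkN), Nat.pow_div hkN hp.out.pos]
    rw [hc, D.orderOf_a_pow _ hc0, hvc] at h2
    have h3 := Nat.pow_right_injective hp.out.two_le h2
    rw [hN]
    congr 1
    omega
  refine ⟨Subgroup.zpowers (D.a ^ x * D.b ^ (p ^ r)), Subgroup.zpowers D.b, inferInstance,
    inferInstance, ?_, ?_⟩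
  · rw [eq_bot_iff]
    intro z hz
    rw [Subgroup.mem_inf] at hz
    obtain ⟨hzA, hzB⟩ := hz
    rw [← (isOfFinOrder_of_finite _).mem_powers_iff_mem_zpowers] at hzA
    obtain ⟨i, rfl⟩ := hzA
    rw [Subgroup.mem_bot]
    simp only at hzB
    rw [D.pow_form] at hzB
    have h1 : D.a ^ (x * sig (D.t ^ p ^ r) i) ∈ Subgroup.zpowers D.b := by
      have := (Subgroup.zpowers D.b).mul_mem hzB
        ((Subgroup.zpowers D.b).inv_mem (Subgroup.pow_mem _ (Subgroup.mem_zpowers D.b) (p ^ r * i)))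
      rwa [mul_inv_cancel_right] at this
    have h2 := D.a_mem_zpowers_b hG _ v hc (dvd_mul_right _ _) hvm.le _ h1
    have hcopx : Nat.Coprime (p ^ v) x :=
      Nat.Coprime.pow_left _ ((Nat.Prime.coprime_iff_not_dvd hp.out).2 hpx)
    have h3 := hcopx.dvd_of_dvd_mul_left h2
    rw [pow_dvd_sig_iff hp2 hT] at h3
    obtain ⟨q, rfl⟩ := h3
    simp only
    rw [pow_mul, hpow, one_pow]
  · rw [Nat.card_zpowers, Nat.card_zpowers, hord, hordb, D.card_G hG, ← pow_add]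
    congr 1
    omega

include D in
theorem exists_factorization [Finite G] (hp2 : p ≠ 2) (hG : IsPGroup p G) :
    ∃ A B : Subgroup G, IsCyclic ↥A ∧ IsCyclic ↥B ∧ A ⊓ B = ⊥ ∧
      Nat.card ↥A * Nat.card ↥B = Nat.card G := by
  obtain ⟨c, hc⟩ := D.exists_c hG
  obtain ⟨u, hu, hpu⟩ := sig_pow_eq hp2 D.ht (D.kk hG)
  by_cases hm : p ^ D.m ∣ c
  · exact D.factor_split hG c 0 hc (by simpa using hm)
  by_cases hk : p ^ D.kk hG ∣ c
  · obtain ⟨c₁, rfl⟩ := hk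
    have hcop : Nat.Coprime u (p ^ D.m) :=
      (Nat.Coprime.pow_left _ ((Nat.Prime.coprime_iff_not_dvd hp.out).2 hpu)).symm
    obtain ⟨x, hx⟩ := exists_neg_solve u c₁ (p ^ D.m) hcop (pow_ne_zero _ hp.out.ne_zero)
    apply D.factor_split hG _ x hc
    rw [hu]
    have : x * (p ^ D.kk hG * u) + p ^ D.kk hG * c₁ = p ^ D.kk hG * (u * x + c₁) := by ring
    rw [this]
    exact Dvd.dvd.mul_left hx _
  · have hc0 : c ≠ 0 := by rintro rfl; exact hm (dvd_zero _)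
    obtain ⟨v, c', hc', rfl⟩ := Nat.exists_eq_pow_mul_and_not_dvd hc0 p hp.out.ne_one
    have hvk : v < D.kk hG := by
      by_contra h
      push Not at h
      exact hk (Dvd.dvd.mul_right (pow_dvd_pow p h) _)
    have hvm : v < D.m := by
      by_contra h
      push Not at h
      exact hm (Dvd.dvd.mul_right (pow_dvd_pow p h) _)
    exact D.factor_nonsplit hp2 hG c' v hc hc' hvk hvm

end Data

end Cfsg.Agent.Helper3.MetaOdd
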