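import Mathlib
import Cfsg.Agent.Helper1.NilpCoprime
import Cfsg.Agent.S3889

/-!
# Nilpotent minimal covers (Bryce–Serena)

Lemmas on groups with trivial centre admitting a minimal cover by nilpotent subgroups, and the
behaviour of abelian non-normal Sylow subgroups with respect to such a cover.
-/

set_option autoImplicit false
set_option linter.unusedSectionVars false
set_option linter.unusedVariables false
set_option linter.style.haveILetI false

namespace Cfsg.Agent.Helper3.NilCover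

open Cfsg
open scoped Pointwise

universe u

variable {G : Type u} [Group G] [Finite G]

/-- a minimal cover by proper subgroups, all nilpotent -/
def IsNilMinCover (𝓐 : Finset (Subgroup G)) : Prop :=
  ((∀ A ∈ 𝓐, A ≠ ⊤) ∧ (∀ g : G, ∃ A ∈ 𝓐, g ∈ A)) ∧
    (∀ 𝓑 : Finset (Subgroup G), (∀ A ∈ 𝓑, A ≠ ⊤) ∧ (∀ g : G, ∃ A ∈ 𝓑, g ∈ A) → 𝓐.card ≤ 𝓑.card) ∧
    (∀ A ∈ 𝓐, Group.IsNilpotent ↥A)

/-- members of a minimal cover lying in a common proper subgroup: at most one. -/
theorem card_le_one_of_le {𝓐 : Finset (Subgroup G)} (h𝓐 : IsNilMinCover 𝓐)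
    (𝓒 : Finset (Subgroup G)) (h𝓒 : 𝓒 ⊆ 𝓐) (M : Subgroup G) (hM : M ≠ ⊤)
    (hle : ∀ A ∈ 𝓒, A ≤ M) : 𝓒.card ≤ 1 := by
  classical
  obtain ⟨⟨hprop, hcov⟩, hmin, -⟩ := h𝓐
  have h1 := hmin (insert M (𝓐 \ 𝓒)) ⟨?_, ?_⟩
  · have h2 : (insert M (𝓐 \ 𝓒)).card ≤ (𝓐 \ 𝓒).card + 1 := Finset.card_insert_le _ _
    have h3 : (𝓐 \ 𝓒).card = 𝓐.card - 𝓒.card := Finset.card_sdiff_of_subset h𝓒
    have h4 : 𝓒.card ≤ 𝓐.card := Finset.card_le_card h𝓒
    omega
  · intro A hA
    rcases Finset.mem_insert.mp hA with rfl | hA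
    · exact hM
    · exact hprop A (Finset.mem_sdiff.mp hA).1
  · intro g
    obtain ⟨A, hA, hgA⟩ := hcov g
    by_cases hAC : A ∈ 𝓒
    · exact ⟨M, Finset.mem_insert_self _ _, hle A hAC hgA⟩
    · exact ⟨A, Finset.mem_insert_of_mem (Finset.mem_sdiff.mpr ⟨hA, hAC⟩), hgA⟩

theorem eq_of_le_of_le {𝓐 : Finset (Subgroup G)} (h𝓐 : IsNilMinCover 𝓐) {A B : Subgroup G}
    (hA : A ∈ 𝓐) (hB : B ∈ 𝓐) (M : Subgroup G) (hM : M ≠ ⊤) (hAM : A ≤ M) (hBM : B ≤ M) :
    A = B := by
  classical
  by_contra hne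
  have h1 := card_le_one_of_le h𝓐 {A, B}
    (by
      intro X hX
      rcases Finset.mem_insert.mp hX with rfl | hX
      · exact hA
      · rw [Finset.mem_singleton.mp hX]; exact hB) M hM
    (by
      intro X hX
      rcases Finset.mem_insert.mp hX with rfl | hX
      · exact hAM
      · rw [Finset.mem_singleton.mp hX]; exact hBM)
  rw [Finset.card_pair hne] at h1
  omega

variable {p : ℕ} [hp : Fact p.Prime]

theorem mem_smul_sylow_iff (P : Sylow p G) (g u : G) :
    u ∈ ((g • P : Sylow p G) : Subgroup G) ↔ g⁻¹ * u * g ∈ (P : Subgroup G) := by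
  rw [Sylow.smul_def, Sylow.pointwise_smul_def, Subgroup.mem_pointwise_smul_iff_inv_smul_mem,
    MulAut.smul_def, MulAut.conj_inv_apply]

/-- if a Sylow `p`-subgroup is abelian, every `p`-subgroup is abelian. -/
theorem commute_of_isPGroup (P : Sylow p G) (hab : IsMulCommutative ↥(P : Subgroup G))
    (H : Subgroup G) (hH : IsPGroup p H) : ∀ u ∈ H, ∀ v ∈ H, u * v = v * u := by
  obtain ⟨Q, hQ⟩ := hH.exists_le_sylow
  obtain ⟨g, hg⟩ := MulAction.exists_smul_eq G P Q
  intro u hu v hv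
  have hu' : g⁻¹ * u * g ∈ (P : Subgroup G) := by
    rw [← mem_smul_sylow_iff, hg]; exact hQ hu
  have hv' : g⁻¹ * v * g ∈ (P : Subgroup G) := by
    rw [← mem_smul_sylow_iff, hg]; exact hQ hv
  have hc : g⁻¹ * u * g * (g⁻¹ * v * g) = g⁻¹ * v * g * (g⁻¹ * u * g) := by
    have h5 := congrArg (fun x : ↥(P : Subgroup G) => (x : G))
      (mul_comm' (⟨_, hu'⟩ : ↥(P : Subgroup G)) ⟨_, hv'⟩)
    exact h5
  calc u * v = g * (g⁻¹ * u * g * (g⁻¹ * v * g)) * g⁻¹ := by group
    _ = g * (g⁻¹ * v * g * (g⁻¹ * u * g)) * g⁻¹ := by rw [hc]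
    _ = v * u := by group

theorem orderOf_of_mem_sylow (P : Sylow p G) {x : G} (hx : x ∈ (P : Subgroup G)) :
    ∃ k : ℕ, orderOf x = p ^ k := by
  obtain ⟨k, hk⟩ := (IsPGroup.iff_orderOf.mp P.isPGroup') ⟨x, hx⟩
  exact ⟨k, by rw [← hk]; exact (Subgroup.orderOf_mk x hx).symm⟩

/-- a nilpotent subgroup containing a `p`-element `x` centralizes it, when Sylow `p`-subgroups are
abelian. -/
theorem le_centralizer_of_mem (P : Sylow p G) (hab : IsMulCommutative ↥(P : Subgroup G))
    (A : Subgroup G) (hnil : Group.IsNilpotent ↥A) (x : G) (hxA : x ∈ A) (k : ℕ)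
    (hx : orderOf x = p ^ k) : A ≤ Subgroup.centralizer {x} := by
  intro a ha
  have hx' : orderOf (⟨x, hxA⟩ : A) = p ^ k := by rw [← hx]; exact Subgroup.orderOf_mk x hxA
  have key : (⟨a, ha⟩ : A) ∈ Subgroup.centralizer ({(⟨x, hxA⟩ : A)} : Set A) := by
    apply Cfsg.Agent.Helper1.mem_of_forall_primePow_mem
    intro y hy hyp
    rw [isPrimePow_nat_iff] at hyp
    obtain ⟨q, j, hq, hj, hqj⟩ := hyp
    rw [Subgroup.mem_centralizer_singleton_iff]
    by_cases hqp : q = p
    · subst hqp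
      have S : Sylow q A := default
      have h1 := Cfsg.Agent.Helper1.mem_sylow_of_isNilpotent S (⟨x, hxA⟩ : A) k hx'
      have h2 := Cfsg.Agent.Helper1.mem_sylow_of_isNilpotent S y j hqj.symm
      have hSp : IsPGroup q ((S : Subgroup A).map A.subtype) := S.isPGroup'.map _
      have h3 := commute_of_isPGroup P hab _ hSp x ⟨⟨x, hxA⟩, h1, rfl⟩ (y : G) ⟨y, h2, rfl⟩
      apply Subtype.ext
      exact h3.symm
    · have hcop : (orderOf y).Coprime p := by
        rw [← hqj]
        exact Nat.Coprime.pow_left j ((Nat.coprime_primes hq hp.out).mpr hqp)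
      exact (Cfsg.Agent.Helper1.commute_of_pElement_of_coprime (⟨x, hxA⟩ : A) y k hx' hcop).symm
  rw [Subgroup.mem_centralizer_singleton_iff] at key ⊢
  exact congrArg Subtype.val key

/-- a non-trivial `p`-element lies in exactly one member. -/
theorem member_unique (hZ : Subgroup.center G = ⊥) {𝓐 : Finset (Subgroup G)}
    (h𝓐 : IsNilMinCover 𝓐) (P : Sylow p G) (hab : IsMulCommutative ↥(P : Subgroup G))
    (x : G) (hx1 : x ≠ 1) (k : ℕ) (hx : orderOf x = p ^ k) {A B : Subgroup G}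
    (hA : A ∈ 𝓐) (hB : B ∈ 𝓐) (hxA : x ∈ A) (hxB : x ∈ B) : A = B := by
  have hM : Subgroup.centralizer {x} ≠ ⊤ := by
    intro h
    have hxc : x ∈ Subgroup.center G := by
      rw [Subgroup.mem_center_iff]
      intro g
      have hg : g ∈ Subgroup.centralizer {x} := by rw [h]; exact Subgroup.mem_top g
      exact Subgroup.mem_centralizer_singleton_iff.mp hg
    rw [hZ, Subgroup.mem_bot] at hxc
    exact hx1 hxc
  exact eq_of_le_of_le h𝓐 hA hB _ hM
    (le_centralizer_of_mem P hab A (h𝓐.2.2 A hA) x hxA k hx)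
    (le_centralizer_of_mem P hab B (h𝓐.2.2 B hB) x hxB k hx)

/-- either the abelian Sylow subgroup is partitioned (hence elementary abelian of order `> p`),
or it lies in a member. -/
theorem dichotomy (hZ : Subgroup.center G = ⊥) {𝓐 : Finset (Subgroup G)}
    (h𝓐 : IsNilMinCover 𝓐) (P : Sylow p G) (hab : IsMulCommutative ↥(P : Subgroup G)) :
    (Cfsg.IsElementaryAbelian p (P : Subgroup G) ∧ p < Nat.card ↥(P : Subgroup G)) ∨
      ∃ A ∈ 𝓐, (P : Subgroup G) ≤ A := by
  by_cases hex : ∃ A ∈ 𝓐, (P : Subgroup G) ≤ A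
  · right; exact hex
  left
  push Not at hex
  letI : CommGroup ↥(P : Subgroup G) :=
    { (inferInstance : Group ↥(P : Subgroup G)) with mul_comm := fun a b => mul_comm' a b }
  have hcov : ∀ g : ↥(P : Subgroup G), ∃ B ∈ {B : Subgroup ↥(P : Subgroup G) |
      ∃ A ∈ 𝓐, B = A.subgroupOf (P : Subgroup G)}, g ∈ B := by
    intro g
    obtain ⟨A, hA, hgA⟩ := h𝓐.1.2 (g : G)
    exact ⟨A.subgroupOf (P : Subgroup G), ⟨A, hA, rfl⟩, Subgroup.mem_subgroupOf.mpr hgA⟩
  have hprop : ∀ B ∈ {B : Subgroup ↥(P : Subgroup G) |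
      ∃ A ∈ 𝓐, B = A.subgroupOf (P : Subgroup G)}, B ≠ ⊤ := by
    rintro B ⟨A, hA, rfl⟩ h
    exact hex A hA (Subgroup.subgroupOf_eq_top.mp h)
  have hprime := Cfsg.Agent.S3889.result (G := ↥(P : Subgroup G))
    {B | ∃ A ∈ 𝓐, B = A.subgroupOf (P : Subgroup G)} hprop hcov ?_
  · have hPp : IsPGroup p ↥(P : Subgroup G) := P.isPGroup'
    obtain ⟨n, hn⟩ := IsPGroup.iff_card.mp hPp
    have hdvd : Monoid.exponent ↥(P : Subgroup G) ∣ p ^ n := by
      rw [← hn]; exact Group.exponent_dvd_nat_card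
    have hexp : Monoid.exponent ↥(P : Subgroup G) = p :=
      (Nat.prime_dvd_prime_iff_eq hprime hp.out).mp (hprime.dvd_of_dvd_pow hdvd)
    refine ⟨⟨hab, ?_⟩, ?_⟩
    · intro a ha
      have h1 := Monoid.pow_exponent_eq_one (⟨a, ha⟩ : ↥(P : Subgroup G))
      rw [hexp] at h1
      exact congrArg Subtype.val h1
    · -- `P` is not cyclic
      have hncyc : ¬ IsCyclic ↥(P : Subgroup G) := by
        intro hc
        obtain ⟨g, hg⟩ := hc.exists_generator
        obtain ⟨B, hB, hgB⟩ := hcov g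
        apply hprop B hB
        rw [eq_top_iff]
        intro z _
        exact (Subgroup.zpowers_le.mpr hgB) (hg z)
      rw [hn]
      have hn2 : 2 ≤ n := by
        by_contra hlt
        push Not at hlt
        apply hncyc
        interval_cases n
        · rw [pow_zero] at hn
          haveI : Subsingleton ↥(P : Subgroup G) := (Nat.card_eq_one_iff_unique.mp hn).1
          exact isCyclic_of_subsingleton
        · rw [pow_one] at hn
          exact isCyclic_of_prime_card hn
      calc p = p ^ 1 := (pow_one p).symm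
        _ < p ^ n := Nat.pow_lt_pow_right hp.out.one_lt (by omega)
  · rintro B ⟨A, hA, rfl⟩ C ⟨A', hA', rfl⟩ hne
    rw [eq_bot_iff]
    intro z hz
    rw [Subgroup.mem_bot]
    by_contra hz1
    apply hne
    obtain ⟨k, hk⟩ := orderOf_of_mem_sylow P z.2
    have hzA : (z : G) ∈ A := Subgroup.mem_subgroupOf.mp hz.1
    have hzA' : (z : G) ∈ A' := Subgroup.mem_subgroupOf.mp hz.2
    have hz1' : (z : G) ≠ 1 := fun h => hz1 (Subtype.ext h)
    rw [member_unique hZ h𝓐 P hab (z : G) hz1' k hk hA hA' hzA hzA']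

/-- a `p`-element normalizing a Sylow `p`-subgroup lies in it. -/
theorem mem_of_mem_normalizer (P : Sylow p G) (x : G) (k : ℕ) (hx : orderOf x = p ^ k)
    (hxN : x ∈ Subgroup.normalizer ((P : Subgroup G) : Set G)) : x ∈ (P : Subgroup G) := by
  have hZ : IsPGroup p (Subgroup.zpowers x) := by
    apply IsPGroup.of_card (n := k)
    rw [Nat.card_zpowers, hx]
  have h1 : IsPGroup p ((P : Subgroup G) ⊔ Subgroup.zpowers x : Subgroup G) :=
    IsPGroup.to_sup_of_normal_left' P.isPGroup' hZ (Subgroup.zpowers_le.mpr hxN)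
  have h2 := P.is_maximal' h1 le_sup_left
  have h3 : x ∈ (P : Subgroup G) ⊔ Subgroup.zpowers x :=
    (le_sup_right : Subgroup.zpowers x ≤ _) (Subgroup.mem_zpowers x)
  rw [h2] at h3
  exact h3

/-- a member containing a non-trivial abelian Sylow subgroup is its centralizer. -/
theorem centralizer_eq (hZ : Subgroup.center G = ⊥) {𝓐 : Finset (Subgroup G)}
    (h𝓐 : IsNilMinCover 𝓐) (P : Sylow p G) (hab : IsMulCommutative ↥(P : Subgroup G))
    (hP1 : (P : Subgroup G) ≠ ⊥) {A : Subgroup G} (hA : A ∈ 𝓐) (hPA : (P : Subgroup G) ≤ A) :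
    Subgroup.centralizer ((P : Subgroup G) : Set G) = A := by
  apply le_antisymm
  · intro y hy
    obtain ⟨x, hxP, hx1⟩ : ∃ x ∈ (P : Subgroup G), x ≠ 1 := by
      by_contra hall
      push Not at hall
      apply hP1
      rw [eq_bot_iff]
      intro z hz
      exact Subgroup.mem_bot.mpr (hall z hz)
    obtain ⟨k, hk⟩ := orderOf_of_mem_sylow P hxP
    apply Cfsg.Agent.Helper1.mem_of_forall_primePow_mem
    intro w hw hwp
    have hwC : w ∈ Subgroup.centralizer ((P : Subgroup G) : Set G) :=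
      (Subgroup.zpowers_le.mpr hy) hw
    rw [isPrimePow_nat_iff] at hwp
    obtain ⟨q, j, hq, hj, hqj⟩ := hwp
    by_cases hqp : q = p
    · subst hqp
      apply hPA
      exact mem_of_mem_normalizer P w j hqj.symm (Subgroup.centralizer_le_normalizer _ hwC)
    · -- the element `x * w`
      have hcomm : Commute x w := by
        have := Subgroup.mem_centralizer_iff.mp hwC x hxP
        exact this
      obtain ⟨B, hB, hzB⟩ := h𝓐.1.2 (x * w)
      have hpow : (x * w) ^ (q ^ j) = x ^ (q ^ j) := by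
        rw [hcomm.mul_pow, hqj, pow_orderOf_eq_one, mul_one]
      have hxq1 : x ^ (q ^ j) ≠ 1 := by
        intro h
        have h1 : orderOf x ∣ q ^ j := orderOf_dvd_of_pow_eq_one h
        rw [hk] at h1
        have hk0 : k ≠ 0 := by
          rintro rfl
          rw [pow_zero, orderOf_eq_one_iff] at hk
          exact hx1 hk
        have h2 : p ∣ q ^ j := (dvd_pow_self p hk0).trans h1
        have h3 : p ∣ q := hp.out.dvd_of_dvd_pow h2
        exact hqp ((Nat.prime_dvd_prime_iff_eq hp.out hq).mp h3).symm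
      have hxqP : x ^ (q ^ j) ∈ (P : Subgroup G) := Subgroup.pow_mem _ hxP _
      obtain ⟨k', hk'⟩ := orderOf_of_mem_sylow P hxqP
      have hxqB : x ^ (q ^ j) ∈ B := by rw [← hpow]; exact B.pow_mem hzB _
      have hBA : B = A :=
        member_unique hZ h𝓐 P hab _ hxq1 k' hk' hB hA hxqB (hPA hxqP)
      have hxwA : x * w ∈ A := by rw [← hBA]; exact hzB
      have : w = x⁻¹ * (x * w) := by group
      rw [this]
      exact A.mul_mem (A.inv_mem (hPA hxP)) hxwA
  · intro a ha
    rw [Subgroup.mem_centralizer_iff]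
    intro x hx
    obtain ⟨k, hk⟩ := orderOf_of_mem_sylow P hx
    have h1 := le_centralizer_of_mem P hab A (h𝓐.2.2 A hA) x (hPA hx) k hk ha
    exact (Subgroup.mem_centralizer_singleton_iff.mp h1).symm

/-- two Sylow `p`-subgroups inside a nilpotent subgroup coincide. -/
theorem sylow_eq_of_le (Q₁ Q₂ : Sylow p G) (A : Subgroup G) (hnil : Group.IsNilpotent ↥A)
    (h1 : (Q₁ : Subgroup G) ≤ A) (h2 : (Q₂ : Subgroup G) ≤ A) : Q₁ = Q₂ := by
  have hle : (Q₂ : Subgroup G) ≤ Q₁ := by
    intro x hx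
    obtain ⟨k, hk⟩ := orderOf_of_mem_sylow Q₂ hx
    have hx' : orderOf (⟨x, h2 hx⟩ : A) = p ^ k := by
      rw [← hk]; exact Subgroup.orderOf_mk x (h2 hx)
    have h3 := Cfsg.Agent.Helper1.mem_sylow_of_isNilpotent (Q₁.subtype h1) (⟨x, h2 hx⟩ : A) k hx'
    have h4 : (⟨x, h2 hx⟩ : A) ∈ (Q₁ : Subgroup G).subgroupOf A := by
      rw [← Sylow.coe_subtype]; exact h3
    exact Subgroup.mem_subgroupOf.mp h4
  exact Sylow.ext (Q₂.is_maximal' Q₁.isPGroup' hle)

/-- conjugating an element of the centralizer of a conjugate Sylow subgroup. -/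
theorem conj_mem_centralizer (P : Sylow p G) (g y : G)
    (hy : y ∈ Subgroup.centralizer (((g • P : Sylow p G) : Subgroup G) : Set G)) :
    g⁻¹ * y * g ∈ Subgroup.centralizer ((P : Subgroup G) : Set G) := by
  rw [Subgroup.mem_centralizer_iff]
  intro x hx
  have hgx : g * x * g⁻¹ ∈ ((g • P : Sylow p G) : Subgroup G) := by
    rw [mem_smul_sylow_iff]
    have : g⁻¹ * (g * x * g⁻¹) * g = x := by group
    rw [this]; exact hx
  have h1 := Subgroup.mem_centralizer_iff.mp hy _ hgx
  calc x * (g⁻¹ * y * g) = g⁻¹ * (g * x * g⁻¹ * y) * g := by group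
    _ = g⁻¹ * (y * (g * x * g⁻¹)) * g := by rw [h1]
    _ = g⁻¹ * y * g * x := by group

/-- The main structure statement: an abelian non-normal Sylow subgroup which is not elementary
abelian of order `> p`. -/
theorem main (hZ : Subgroup.center G = ⊥) {𝓐 : Finset (Subgroup G)}
    (h𝓐 : IsNilMinCover 𝓐) (P : Sylow p G) (hab : IsMulCommutative ↥(P : Subgroup G))
    (hnn : ¬ (P : Subgroup G).Normal)
    (hnotEA : ¬ (Cfsg.IsElementaryAbelian p (P : Subgroup G) ∧ p < Nat.card ↥(P : Subgroup G))) :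
    ∃ A ∈ 𝓐, (P : Subgroup G) ≤ A ∧ Subgroup.centralizer ((P : Subgroup G) : Set G) = A ∧
      IsCoatom (Subgroup.normalizer ((P : Subgroup G) : Set G)) ∧
      (∀ g : G, g ∉ Subgroup.normalizer ((P : Subgroup G) : Set G) →
        ¬ p ∣ Nat.card ↥(Subgroup.normalizer ((P : Subgroup G) : Set G) ⊓
          (Subgroup.normalizer ((P : Subgroup G) : Set G)).map (MulAut.conj g).toMonoidHom)) ∧
      (∀ M : Subgroup G, IsCoatom M → A ≤ M →
        M = Subgroup.normalizer ((P : Subgroup G) : Set G)) := by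
  classical
  set N := Subgroup.normalizer ((P : Subgroup G) : Set G) with hN
  have hP1 : (P : Subgroup G) ≠ ⊥ := by
    intro h
    apply hnn
    rw [h]
    infer_instance
  have hNtop : N ≠ ⊤ := by
    intro h
    exact hnn (Subgroup.normalizer_eq_top_iff.mp h)
  -- every conjugate lies in a member
  have hconj : ∀ g : G, ∃ A ∈ 𝓐, ((g • P : Sylow p G) : Subgroup G) ≤ A := by
    intro g
    have habg : IsMulCommutative ↥((g • P : Sylow p G) : Subgroup G) := by
      refine ⟨⟨fun a b => Subtype.ext ?_⟩⟩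
      exact commute_of_isPGroup P hab _ (g • P : Sylow p G).isPGroup' a a.2 b b.2
    rcases dichotomy hZ h𝓐 (g • P : Sylow p G) habg with h | h
    · exfalso
      apply hnotEA
      refine ⟨⟨hab, ?_⟩, ?_⟩
      · intro a ha
        have hga : g * a * g⁻¹ ∈ ((g • P : Sylow p G) : Subgroup G) := by
          rw [mem_smul_sylow_iff]
          have : g⁻¹ * (g * a * g⁻¹) * g = a := by group
          rw [this]; exact ha
        have h1 := h.1.2 _ hga
        rw [conj_pow] at h1
        have : a ^ p = g⁻¹ * (g * a ^ p * g⁻¹) * g := by group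
        rw [this, h1]; group
      · have h2 := h.2
        rw [Sylow.card_eq_multiplicity] at h2 ⊢
        exact h2
    · exact h
  obtain ⟨A, hA, hPA⟩ : ∃ A ∈ 𝓐, (P : Subgroup G) ≤ A := by
    obtain ⟨A, hA, h⟩ := hconj 1
    rw [one_smul] at h
    exact ⟨A, hA, h⟩
  have hcent : Subgroup.centralizer ((P : Subgroup G) : Set G) = A :=
    centralizer_eq hZ h𝓐 P hab hP1 hA hPA
  have hAN : A ≤ N := by
    rw [← hcent]; exact Subgroup.centralizer_le_normalizer _
  -- a member containing `g • P` which equals `A` forces `g ∈ N`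
  have hkey : ∀ g : G, ∀ B ∈ 𝓐, ((g • P : Sylow p G) : Subgroup G) ≤ B → B = A → g ∈ N := by
    intro g B hB hgB hBA
    rw [hBA] at hgB
    have := sylow_eq_of_le (g • P : Sylow p G) P A (h𝓐.2.2 A hA) hgB hPA
    exact Sylow.smul_eq_iff_mem_normalizer.mp this
  -- the member containing `g • P` lies in any subgroup containing `A` and `g`
  have hsub : ∀ (M : Subgroup G) (g : G), A ≤ M → g ∈ M → ∀ B ∈ 𝓐,
      ((g • P : Sylow p G) : Subgroup G) ≤ B → B ≤ M := by
    intro M g hAM hgM B hB hgB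
    have habg : IsMulCommutative ↥((g • P : Sylow p G) : Subgroup G) := by
      refine ⟨⟨fun a b => Subtype.ext ?_⟩⟩
      exact commute_of_isPGroup P hab _ (g • P : Sylow p G).isPGroup' a a.2 b b.2
    have hgP1 : ((g • P : Sylow p G) : Subgroup G) ≠ ⊥ := by
      intro h
      apply hP1
      rw [eq_bot_iff]
      intro x hx
      have hgx : g * x * g⁻¹ ∈ ((g • P : Sylow p G) : Subgroup G) := by
        rw [mem_smul_sylow_iff]
        have : g⁻¹ * (g * x * g⁻¹) * g = x := by group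
        rw [this]; exact hx
      rw [h, Subgroup.mem_bot] at hgx
      rw [Subgroup.mem_bot]
      exact conj_eq_one_iff.mp hgx
    have hcB := centralizer_eq hZ h𝓐 (g • P : Sylow p G) habg hgP1 hB hgB
    intro y hy
    rw [← hcB] at hy
    have h1 := conj_mem_centralizer P g y hy
    rw [hcent] at h1
    have h2 : g⁻¹ * y * g ∈ M := hAM h1
    have : y = g * (g⁻¹ * y * g) * g⁻¹ := by group
    rw [this]
    exact M.mul_mem (M.mul_mem hgM h2) (M.inv_mem hgM)
  refine ⟨A, hA, hPA, hcent, ⟨hNtop, ?_⟩, ?_, ?_⟩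
  · -- maximality of `N`
    intro M hNM
    by_contra hMtop
    obtain ⟨m, hmM, hmN⟩ := Set.exists_of_ssubset hNM
    obtain ⟨B, hB, hmB⟩ := hconj m
    have hBM : B ≤ M := hsub M m (hAN.trans hNM.le) hmM B hB hmB
    have hBA : B = A := eq_of_le_of_le h𝓐 hB hA M hMtop hBM (hAN.trans hNM.le)
    exact hmN (hkey m B hB hmB hBA)
  · -- intersections of conjugates of `N`
    intro g hgN hdvd
    obtain ⟨x, hx⟩ := exists_prime_orderOf_dvd_card' (G := ↥(N ⊓ N.map (MulAut.conj g).toMonoidHom))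
      p hdvd
    have hxo : orderOf (x : G) = p ^ 1 := by rw [pow_one, ← hx]; exact Subgroup.orderOf_coe x
    have hx1 : (x : G) ≠ 1 := by
      intro h
      rw [h, orderOf_one, pow_one] at hxo
      exact hp.out.one_lt.ne hxo
    have hxP : (x : G) ∈ (P : Subgroup G) := mem_of_mem_normalizer P _ 1 hxo x.2.1
    obtain ⟨n, hnN, hnx⟩ := x.2.2
    have hnx' : g * n * g⁻¹ = (x : G) := hnx
    have hno : orderOf n = p ^ 1 := by
      rw [← hxo, ← hnx']
      exact ((MulAut.conj g).orderOf_eq n).symm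
    have hnP : n ∈ (P : Subgroup G) := mem_of_mem_normalizer P n 1 hno hnN
    have hxgP : (x : G) ∈ ((g • P : Sylow p G) : Subgroup G) := by
      rw [mem_smul_sylow_iff, ← hnx']
      have : g⁻¹ * (g * n * g⁻¹) * g = n := by group
      rw [this]; exact hnP
    obtain ⟨B, hB, hgB⟩ := hconj g
    have hBA : B = A := member_unique hZ h𝓐 P hab (x : G) hx1 1 hxo hB hA (hgB hxgP) (hPA hxP)
    exact hgN (hkey g B hB hgB hBA)
  · -- uniqueness of the maximal subgroup above `A`
    intro M hM hAM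
    have hMN : M ≤ N := by
      intro m hmM
      obtain ⟨B, hB, hmB⟩ := hconj m
      have hBM : B ≤ M := hsub M m hAM hmM B hB hmB
      have hBA : B = A := eq_of_le_of_le h𝓐 hB hA M hM.1 hBM hAM
      exact hkey m B hB hmB hBA
    rcases hM.le_iff.mp hMN with h | h
    · exact absurd h hNtop
    · exact h.symm

end Cfsg.Agent.Helper3.NilCover
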