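import Mathlib
import Cfsg.Agent.S3738

set_option autoImplicit false
set_option linter.style.haveILetI false
set_option linter.unusedSectionVars false
open Cfsg

/-!
helper3: an abelian group of order 9 acting on a 2-group all of whose abelian subgroups have rank at
most two cannot act "freely modulo a subgroup of order 3" (generalizing the core of S3738).
-/

namespace Cfsg.Agent.Helper3.NineAct
universe u

open Cfsg.Agent.Helper3.PRankNum Cfsg.Agent.S3738
open scoped commutatorElement Pointwise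

theorem coreGen {X : Type u} [Group X] [Finite X] (B A P : Subgroup X)
    (hBcard : Nat.card B = 9) (hBab : ∀ b ∈ B, ∀ b' ∈ B, b * b' = b' * b)
    (hAB : A ≤ B) (hAcard : Nat.card A = 3)
    (hP : IsPGroup 2 P) (hBP : B ≤ Subgroup.normalizer (P : Set X))
    (hfaith : ¬ A ≤ Subgroup.centralizer (P : Set X))
    (hfree : ∀ b ∈ B, b ≠ 1 → ∀ x ∈ P, b * x * b⁻¹ = x → x ∈ Subgroup.centralizer (A : Set X))
    (hrank : ∀ V : Subgroup X, V ≤ P → IsMulCommutative V → Cfsg.PRankLE 2 2 V) : False := by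
  classical
  haveI : Fact (Nat.Prime 2) := ⟨Nat.prime_two⟩
  have hBcent : B ≤ Subgroup.centralizer (A : Set X) := by
    intro b hb
    rw [Subgroup.mem_centralizer_iff]
    intro z hz
    exact hBab z (hAB hz) b hb
  have hAn : B ≤ Subgroup.normalizer (A : Set X) :=
    hBcent.trans (Subgroup.centralizer_le_normalizer _)
  have hAp : (Nat.card A).Coprime 2 := by rw [hAcard]; norm_num
  set 𝓕 : Set (Subgroup X) :=
    {U | U ≤ P ∧ B ≤ Subgroup.normalizer (U : Set X) ∧ ⁅U, A⁆ ≠ ⊥} with h𝓕
  have hPF : P ∈ 𝓕 := by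
    refine ⟨le_rfl, hBP, ?_⟩
    intro h
    rw [Subgroup.commutator_eq_bot_iff_le_centralizer] at h
    exact hfaith (Subgroup.le_centralizer_iff.mp h)
  obtain ⟨R, hR⟩ := Set.Finite.exists_minimal (Set.toFinite 𝓕) ⟨P, hPF⟩
  obtain ⟨hRP, hBR, hRA⟩ := hR.1
  have hRp : IsPGroup 2 R := hP.to_le hRP
  have hmin : ∀ U : Subgroup X, U < R → B ≤ Subgroup.normalizer (U : Set X) → ⁅U, A⁆ = ⊥ := by
    intro U hU hBU
    by_contra hne
    have : U ∈ 𝓕 := ⟨hU.le.trans hRP, hBU, hne⟩
    exact (not_le_of_gt hU) (hR.2 this hU.le)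
  obtain ⟨h1, h2, h3, -⟩ := Cfsg.Agent.S3736.result (p := 2) B A R hRp hBR hAB hAn hAp hRA hmin
  set Φ := (frattini ↥R).map R.subtype with hΦ
  have hΦR : Φ ≤ R := Subgroup.map_subtype_le _
  have hBΦ : B ≤ Subgroup.normalizer (Φ : Set X) :=
    hBR.trans (Cfsg.Agent.Helper1.le_normalizer_map_of_characteristic R (frattini ↥R))
  -- C_R(A) ≤ Φ
  set CRA := R ⊓ Subgroup.centralizer (A : Set X) with hCRA
  have hBCA : B ≤ Subgroup.normalizer ((Subgroup.centralizer (A : Set X) : Subgroup X) : Set X) :=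
    hBcent.trans Subgroup.le_normalizer
  have hBCRA : B ≤ Subgroup.normalizer (CRA : Set X) :=
    Cfsg.Agent.Helper1.le_normalizer_inf hBR hBCA
  have hCRAΦ : CRA ≤ Φ := by
    set U := Φ ⊔ CRA with hU
    have hUR : U ≤ R := sup_le hΦR inf_le_left
    have hBU : B ≤ Subgroup.normalizer (U : Set X) := by
      intro b hb
      apply Cfsg.Agent.Helper1.mem_normalizer_of_conj_smul_eq
      rw [hU, Subgroup.smul_sup,
        Cfsg.Agent.Helper1.conj_smul_eq_of_mem_normalizer (hBΦ hb),
        Cfsg.Agent.Helper1.conj_smul_eq_of_mem_normalizer (hBCRA hb)]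
    rcases h3 U le_sup_left hUR hBU with h | h
    · rw [← h]; exact le_sup_right
    · exfalso
      -- nongenerators
      have h4 : CRA.subgroupOf R ⊔ frattini ↥R = ⊤ := by
        have h5 : (frattini ↥R) = Φ.subgroupOf R := by
          rw [hΦ, Subgroup.subgroupOf, Subgroup.comap_map_eq_self_of_injective
            (Subgroup.subtype_injective R)]
        rw [h5, ← Subgroup.subgroupOf_sup inf_le_left hΦR, sup_comm, ← hU, h]
        exact Subgroup.subgroupOf_self R
      have h6 := frattini_nongenerating h4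
      rw [Subgroup.subgroupOf_eq_top] at h6
      apply hRA
      rw [Subgroup.commutator_eq_bot_iff_le_centralizer]
      exact h6.trans inf_le_right
  -- the free action of B on R \ Φ
  set S : Set X := (R : Set X) \ (Φ : Set X) with hS
  have hact : ∀ (b : B) (s : S), (b : X) * (s : X) * (b : X)⁻¹ ∈ S := by
    intro b s
    obtain ⟨hsR, hsΦ⟩ := s.2
    refine ⟨?_, ?_⟩
    · exact (Subgroup.mem_normalizer_iff.mp (hBR b.2) _).mp hsR
    · intro h
      exact hsΦ ((Subgroup.mem_normalizer_iff.mp (hBΦ b.2) _).mpr h)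
  letI actS : MulAction B S :=
    { smul := fun b s => ⟨(b : X) * (s : X) * (b : X)⁻¹, hact b s⟩
      one_smul := fun s => Subtype.ext (by
        change ((1 : B) : X) * (s : X) * ((1 : B) : X)⁻¹ = s
        simp)
      mul_smul := fun b b' s => Subtype.ext (by
        change ((b * b' : B) : X) * (s : X) * ((b * b' : B) : X)⁻¹ =
          (b : X) * ((b' : X) * (s : X) * (b' : X)⁻¹) * (b : X)⁻¹
        rw [Subgroup.coe_mul]
        group) }
  have hsmul : ∀ (b : B) (s : S), ((b • s : S) : X) = (b : X) * (s : X) * (b : X)⁻¹ :=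
    fun b s => rfl
  have hfree : ∀ b : B, b ≠ 1 → ∀ s : S, b • s ≠ s := by
    intro b hb1 s hbs
    have h4 : (b : X) * (s : X) * (b : X)⁻¹ = (s : X) := by
      rw [← hsmul, hbs]
    have hb1' : (b : X) ≠ 1 := fun h => hb1 (Subtype.ext h)
    have hsC : (s : X) ∈ CRA :=
      ⟨s.2.1, hfree (b : X) b.2 hb1' (s : X) (hRP s.2.1) h4⟩
    exact s.2.2 (hCRAΦ hsC)
  have h9S : 9 ∣ Nat.card S := by
    rw [← hBcard]
    exact card_dvd_of_free hfree
  -- sizes
  obtain ⟨r, hr⟩ := IsPGroup.iff_card.mp hRp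
  obtain ⟨l', hl'⟩ := IsPGroup.iff_card.mp (hRp.to_le hΦR)
  have hΦcard : Nat.card (frattini ↥R) = 2 ^ l' := by
    rw [← hl', hΦ, Subgroup.card_map_of_injective (Subgroup.subtype_injective R)]
  obtain ⟨n', hn'⟩ := IsPGroup.iff_card.mp (hRp.to_quotient (frattini ↥R))
  have hrn : r = n' + l' := by
    have h4 := Subgroup.card_eq_card_quotient_mul_card_subgroup (frattini ↥R)
    rw [hr, hn', hΦcard, ← pow_add] at h4
    exact Nat.pow_right_injective (le_refl 2) h4
  have hScard : Nat.card S = 2 ^ l' * (2 ^ n' - 1) := by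
    rw [Nat.card_coe_set_eq, hS, Set.ncard_sdiff (by exact_mod_cast hΦR)]
    have e1 : (R : Set X).ncard = 2 ^ r := by
      rw [← hr]; exact (Nat.card_coe_set_eq _).symm
    have e2 : (Φ : Set X).ncard = 2 ^ l' := by
      rw [← hl']; exact (Nat.card_coe_set_eq _).symm
    rw [e1, e2, hrn, pow_add, Nat.mul_sub, mul_one, mul_comm]
  have hn'0 : n' ≠ 0 := by
    intro h0
    rw [h0, pow_zero] at hn'
    have htop : frattini ↥R = ⊤ := by
      have : (frattini ↥R).index = 1 := by rw [Subgroup.index_eq_card]; exact hn'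
      exact Subgroup.index_eq_one.mp this
    have h4 : (⊥ : Subgroup ↥R) ⊔ frattini ↥R = ⊤ := by rw [htop, bot_sup_eq]
    have h5 := frattini_nongenerating h4
    apply hRA
    have hRbot : R = ⊥ := by
      rw [eq_bot_iff]
      intro x hx
      have : (⟨x, hx⟩ : ↥R) ∈ (⊥ : Subgroup ↥R) := by rw [h5]; exact Subgroup.mem_top _
      rw [Subgroup.mem_bot] at this
      exact Subgroup.mem_bot.mpr (congrArg Subtype.val this)
    rw [hRbot]
    exact Subgroup.commutator_bot_left A
  have hn6 : 6 ≤ n' := nine_dvd_imp (hScard ▸ h9S) hn'0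
  -- class and exponent of R
  have hcc : commutator ↥R ≤ Subgroup.center ↥R := by
    rcases h2 with ⟨hRc, -⟩ | ⟨-, -, hcc⟩
    · intro z _
      rw [Subgroup.mem_center_iff]
      intro g
      exact mul_comm' g z
    · rw [hcc]
  have hexp4 : ∀ x : ↥R, x ^ 4 = 1 := by
    rcases h2 with ⟨-, hRe⟩ | ⟨-, hfc, hcc'⟩
    · intro x
      apply Subtype.ext
      have := hRe x x.2
      rw [Subgroup.coe_pow, Subgroup.coe_one]
      calc (x : X) ^ 4 = ((x : X) ^ 2) ^ 2 := by rw [← pow_mul]
        _ = 1 := by rw [this, one_pow]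
    · exact pow_four_of_special hRp hfc hcc'
  have hS4054 := Cfsg.Agent.S4054.result (P := ↥R) hRp (class_le_two hRp hcc)
    (Monoid.exponent_dvd_of_forall_pow_eq_one hexp4)
  have hrR : Cfsg.pRank 2 ↥R ≤ 2 :=
    pRank_le_two P hrank R.subtype (Subgroup.subtype_injective R) (fun y => hRP y.2)
  have hrΦ : Cfsg.pRank 2 ↥(frattini ↥R) ≤ 2 :=
    pRank_le_two P hrank (R.subtype.comp (frattini ↥R).subtype)
      ((Subgroup.subtype_injective R).comp (Subgroup.subtype_injective _))
      (fun y => hRP (y : ↥R).2)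
  have hrq : Cfsg.pRank 2 (↥R ⧸ frattini ↥R) = n' := by
    apply pRank_eq_of_card (le_refl 2) _ _ hn'
    · intro x y
      induction x using QuotientGroup.induction_on with | _ x => ?_
      induction y using QuotientGroup.induction_on with | _ y => ?_
      rw [← QuotientGroup.mk_mul, ← QuotientGroup.mk_mul, QuotientGroup.eq]
      have e1 : (x * y)⁻¹ * (y * x) = y⁻¹ * x⁻¹ * y⁻¹⁻¹ * x⁻¹⁻¹ := by group
      rw [e1]
      apply Cfsg.Agent.Helper1.IsPGroup.commutator_le_frattini hRp
      rw [commutator_def, ← commutatorElement_def]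
      exact Subgroup.commutator_mem_commutator (Subgroup.mem_top _) (Subgroup.mem_top _)
    · intro x
      induction x using QuotientGroup.induction_on with | _ x => ?_
      rw [← QuotientGroup.mk_pow, QuotientGroup.eq_one_iff]
      exact Cfsg.Agent.Helper1.IsPGroup.pow_mem_frattini hRp x
  rw [hrq] at hS4054
  generalize Cfsg.pRank 2 ↥(frattini ↥R) = l at hS4054 hrΦ
  generalize Cfsg.pRank 2 ↥R = m at hS4054 hrR
  interval_cases l
  · simp only [zero_add, Nat.div_one, add_zero] at hS4054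
    omega
  · have : 3 ≤ n' / (1 + 1) := by
      rw [Nat.le_div_iff_mul_le (by norm_num)]; omega
    omega
  · have : 2 ≤ n' / (2 + 1) := by
      rw [Nat.le_div_iff_mul_le (by norm_num)]; omega
    omega


end Cfsg.Agent.Helper3.NineAct
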