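import Mathlib

set_option autoImplicit false

/-!
A verified depth-first search for the numbers of elements of each order in a finite group, from
the theorem of Frobenius at every divisor of the order, the divisibility by the totient and the
total number of elements.
-/

namespace Cfsg.Agent.Helper3.Nse

/-- the possible numbers of elements of order `d`, where `t` is the totient of `d`. -/
def opts (ev : List ℕ) (s2 d t : ℕ) : List ℕ :=
  if d = 1 then [1] else if d = 2 then [s2] else 0 :: ev.filter (fun v => t ∣ v)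

/-- the sum of the values already chosen at the divisors of `d`. -/
def psum (acc : List (ℕ × ℕ)) (d : ℕ) : ℕ :=
  ((acc.filter (fun x => x.1 ∣ d)).map Prod.snd).sum

/-- the search: all the assignments of values to the members of the list that satisfy the
congruences and the bound. -/
def search (ev : List ℕ) (s2 B : ℕ) :
    List (ℕ × ℕ) → List (ℕ × ℕ) → ℕ → List (List (ℕ × ℕ))
  | [], acc, _ => [acc]
  | (d, t) :: ds, acc, tot =>
    (opts ev s2 d t).flatMap fun v =>
      if d ∣ psum acc d + v ∧ tot + v ≤ B then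
        search ev s2 B ds (acc ++ [(d, v)]) (tot + v)
      else []

/-- what is known of the function counting the elements of each order. -/
structure Good (ev : List ℕ) (s2 : ℕ) (s : ℕ → ℕ) : Prop where
  h1 : s 1 = 1
  h2 : s 2 = s2
  hv : ∀ d, 2 < d → s d = 0 ∨ (s d ∈ ev ∧ Nat.totient d ∣ s d)

theorem mem_opts {ev : List ℕ} {s2 : ℕ} {s : ℕ → ℕ} (hs : Good ev s2 s) (d : ℕ) (hd : d ≠ 0) :
    s d ∈ opts ev s2 d (Nat.totient d) := by
  unfold opts
  by_cases h1 : d = 1
  · rw [if_pos h1, h1, hs.h1]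
    exact List.mem_singleton_self 1
  · rw [if_neg h1]
    by_cases h2 : d = 2
    · rw [if_pos h2, h2, hs.h2]
      exact List.mem_singleton_self _
    · rw [if_neg h2]
      rcases hs.hv d (by omega) with h | ⟨h, h'⟩
      · rw [h]
        exact List.mem_cons_self
      · apply List.mem_cons_of_mem
        rw [List.mem_filter]
        exact ⟨h, by simpa using h'⟩

theorem psum_map (s : ℕ → ℕ) (pre : List (ℕ × ℕ)) (d : ℕ) :
    psum (pre.map (fun x => (x.1, s x.1))) d
      = (((pre.map Prod.fst).filter (fun e => e ∣ d)).map s).sum := by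
  unfold psum
  induction pre with
  | nil => rfl
  | cons a pre ih =>
    simp only [List.map_cons, List.filter_cons]
    by_cases h : a.1 ∣ d
    · simp only [h, decide_true, if_true, List.map_cons, List.sum_cons]
      rw [ih]
    · simp only [h, decide_false, Bool.false_eq_true, if_false]
      rw [ih]

theorem psum_eq (s : ℕ → ℕ) (pre post : List (ℕ × ℕ)) (d t : ℕ) (hd : d ≠ 0)
    (hLp : (pre ++ (d, t) :: post).Pairwise (fun x y => ¬ y.1 ∣ x.1))
    (hLc : ∀ e, e ∣ d → ∃ y ∈ pre ++ (d, t) :: post, y.1 = e) :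
    psum (pre.map (fun x => (x.1, s x.1))) d = ∑ e ∈ d.properDivisors, s e := by
  rw [psum_map]
  rw [List.pairwise_append] at hLp
  obtain ⟨hpre, hpost, hcross⟩ := hLp
  rw [List.pairwise_cons] at hpost
  have hnd : ((pre.map Prod.fst).filter (fun e => e ∣ d)).Nodup := by
    apply List.Nodup.filter
    rw [List.nodup_iff_pairwise_ne, List.pairwise_map]
    refine hpre.imp ?_
    intro a b hab h
    exact hab (by rw [h])
  rw [← List.sum_toFinset _ hnd]
  apply Finset.sum_congr _ (fun _ _ => rfl)
  ext e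
  rw [List.mem_toFinset, List.mem_filter, Nat.mem_properDivisors, List.mem_map]
  constructor
  · rintro ⟨⟨x, hx, rfl⟩, he⟩
    have he' : x.1 ∣ d := by simpa using he
    refine ⟨he', lt_of_le_of_ne (Nat.le_of_dvd (Nat.pos_of_ne_zero hd) he') ?_⟩
    intro h
    have := hcross x hx (d, t) List.mem_cons_self
    apply this
    show d ∣ x.1
    rw [h]
  · rintro ⟨he, hlt⟩
    obtain ⟨y, hy, rfl⟩ := hLc e he
    refine ⟨?_, by simpa using he⟩
    rw [List.mem_append, List.mem_cons] at hy
    rcases hy with hy | rfl | hy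
    · exact ⟨y, hy, rfl⟩
    · exact absurd hlt (lt_irrefl _)
    · exact absurd he (hpost.1 y hy)

theorem search_sound_aux {ev : List ℕ} {s2 B : ℕ} {s : ℕ → ℕ} (hs : Good ev s2 s)
    (L : List (ℕ × ℕ))
    (hL0 : ∀ x ∈ L, x.1 ≠ 0)
    (hLt : ∀ x ∈ L, x.2 = Nat.totient x.1)
    (hLp : L.Pairwise (fun x y => ¬ y.1 ∣ x.1))
    (hLc : ∀ x ∈ L, ∀ e, e ∣ x.1 → ∃ y ∈ L, y.1 = e)
    (hfrob : ∀ x ∈ L, x.1 ∣ ∑ e ∈ x.1.divisors, s e)
    (hB : (L.map (fun x => s x.1)).sum ≤ B) :
    ∀ (post pre : List (ℕ × ℕ)), L = pre ++ post →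
      L.map (fun x => (x.1, s x.1)) ∈
        search ev s2 B post (pre.map (fun x => (x.1, s x.1))) ((pre.map (fun x => s x.1)).sum) := by
  intro post
  induction post with
  | nil =>
    intro pre hL
    rw [List.append_nil] at hL
    rw [hL]
    unfold search
    exact List.mem_singleton_self _
  | cons a ds ih =>
    intro pre hL
    obtain ⟨d, t⟩ := a
    have hmem : (d, t) ∈ L := by rw [hL]; simp
    have hd : d ≠ 0 := hL0 _ hmem
    have ht : t = Nat.totient d := hLt _ hmem
    unfold search
    rw [List.mem_flatMap]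
    refine ⟨s d, ?_, ?_⟩
    · rw [ht]
      exact mem_opts hs d hd
    · have hps := psum_eq s pre ds d t hd (hL ▸ hLp) (fun e he => hL ▸ hLc _ hmem e he)
      have hfr : d ∣ psum (pre.map (fun x => (x.1, s x.1))) d + s d := by
        have h3 := hfrob _ hmem
        rw [← Nat.insert_self_properDivisors hd,
          Finset.sum_insert Nat.self_notMem_properDivisors] at h3
        rw [hps, add_comm]
        exact h3
      have hle : (pre.map (fun x => s x.1)).sum + s d ≤ B := by
        refine le_trans ?_ hB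
        rw [hL, List.map_append, List.sum_append, List.map_cons, List.sum_cons]
        show _ ≤ _ + (s d + _)
        omega
      rw [if_pos ⟨hfr, hle⟩]
      have := ih (pre ++ [(d, t)]) (by rw [hL]; simp)
      simpa using this

theorem search_sound {ev : List ℕ} {s2 B : ℕ} {s : ℕ → ℕ} (hs : Good ev s2 s)
    (L : List (ℕ × ℕ))
    (hL0 : ∀ x ∈ L, x.1 ≠ 0)
    (hLt : ∀ x ∈ L, x.2 = Nat.totient x.1)
    (hLp : L.Pairwise (fun x y => ¬ y.1 ∣ x.1))
    (hLc : ∀ x ∈ L, ∀ e, e ∣ x.1 → ∃ y ∈ L, y.1 = e)
    (hfrob : ∀ x ∈ L, x.1 ∣ ∑ e ∈ x.1.divisors, s e)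
    (hB : (L.map (fun x => s x.1)).sum ≤ B) :
    L.map (fun x => (x.1, s x.1)) ∈ search ev s2 B L [] 0 :=
  search_sound_aux hs L hL0 hLt hLp hLc hfrob hB L [] rfl

end Cfsg.Agent.Helper3.Nse
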