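import Mathlib
import Cfsg.Agent.Helper3.NseA

set_option autoImplicit false

/-!
The divisors of `2 ^ 9 * 3 ^ 5 * 5 ^ 3 * 7 ^ 2` with their totients, in lexicographic order of the
exponents, and the properties of this list that the search needs.
-/

namespace Cfsg.Agent.Helper3.Nse

/-- the totient of `p ^ i` for a prime `p`. -/
def pp (p i : ℕ) : ℕ := if i = 0 then 1 else p ^ (i - 1) * (p - 1)

/-- the big modulus. -/
def MM : ℕ := 2 ^ 9 * 3 ^ 5 * 5 ^ 3 * 7 ^ 2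

/-- the list. -/
def LM : List (ℕ × ℕ) :=
  (List.range 10).flatMap fun i => (List.range 6).flatMap fun j => (List.range 4).flatMap fun k =>
    (List.range 3).map fun l =>
      (2 ^ i * 3 ^ j * 5 ^ k * 7 ^ l, pp 2 i * pp 3 j * pp 5 k * pp 7 l)

theorem mem_LM (x : ℕ × ℕ) : x ∈ LM ↔ ∃ i < 10, ∃ j < 6, ∃ k < 4, ∃ l < 3,
    (2 ^ i * 3 ^ j * 5 ^ k * 7 ^ l, pp 2 i * pp 3 j * pp 5 k * pp 7 l) = x := by
  unfold LM
  simp only [List.mem_flatMap, List.mem_map, List.mem_range]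

theorem totient_pp (p i : ℕ) (hp : p.Prime) : Nat.totient (p ^ i) = pp p i := by
  unfold pp
  by_cases h : i = 0
  · rw [if_pos h, h, pow_zero, Nat.totient_one]
  · rw [if_neg h, Nat.totient_prime_pow hp (Nat.pos_of_ne_zero h)]

theorem LM_tot : ∀ x ∈ LM, x.2 = Nat.totient x.1 := by
  intro x hx
  rw [mem_LM] at hx
  obtain ⟨i, -, j, -, k, -, l, -, rfl⟩ := hx
  show _ = Nat.totient (2 ^ i * 3 ^ j * 5 ^ k * 7 ^ l)
  have c23 : Nat.Coprime (2 ^ i) (3 ^ j) := Nat.Coprime.pow _ _ (by norm_num)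
  have c25 : Nat.Coprime (2 ^ i) (5 ^ k) := Nat.Coprime.pow _ _ (by norm_num)
  have c27 : Nat.Coprime (2 ^ i) (7 ^ l) := Nat.Coprime.pow _ _ (by norm_num)
  have c35 : Nat.Coprime (3 ^ j) (5 ^ k) := Nat.Coprime.pow _ _ (by norm_num)
  have c37 : Nat.Coprime (3 ^ j) (7 ^ l) := Nat.Coprime.pow _ _ (by norm_num)
  have c57 : Nat.Coprime (5 ^ k) (7 ^ l) := Nat.Coprime.pow _ _ (by norm_num)
  rw [Nat.totient_mul (Nat.Coprime.mul_left (Nat.Coprime.mul_left c27 c37) c57),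
    Nat.totient_mul (Nat.Coprime.mul_left c25 c35), Nat.totient_mul c23,
    totient_pp 2 i Nat.prime_two, totient_pp 3 j Nat.prime_three, totient_pp 5 k Nat.prime_five,
    totient_pp 7 l (by norm_num)]

theorem LM_ne0 : ∀ x ∈ LM, x.1 ≠ 0 := by
  intro x hx
  rw [mem_LM] at hx
  obtain ⟨i, -, j, -, k, -, l, -, rfl⟩ := hx
  show 2 ^ i * 3 ^ j * 5 ^ k * 7 ^ l ≠ 0
  positivity

theorem LM_dvd : ∀ x ∈ LM, x.1 ∣ MM := by
  intro x hx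
  rw [mem_LM] at hx
  obtain ⟨i, hi, j, hj, k, hk, l, hl, rfl⟩ := hx
  show 2 ^ i * 3 ^ j * 5 ^ k * 7 ^ l ∣ 2 ^ 9 * 3 ^ 5 * 5 ^ 3 * 7 ^ 2
  exact Nat.mul_dvd_mul (Nat.mul_dvd_mul (Nat.mul_dvd_mul (pow_dvd_pow 2 (by omega))
    (pow_dvd_pow 3 (by omega))) (pow_dvd_pow 5 (by omega))) (pow_dvd_pow 7 (by omega))

theorem LM_complete : ∀ e, e ∣ MM → ∃ x ∈ LM, x.1 = e := by
  intro e he
  unfold MM at he
  obtain ⟨e123, e4, h123, h4, rfl⟩ := (Nat.dvd_mul).1 he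
  obtain ⟨e12, e3, h12, h3, rfl⟩ := (Nat.dvd_mul).1 h123
  obtain ⟨e1, e2, h1, h2, rfl⟩ := (Nat.dvd_mul).1 h12
  obtain ⟨i, hi, rfl⟩ := (Nat.dvd_prime_pow Nat.prime_two).1 h1
  obtain ⟨j, hj, rfl⟩ := (Nat.dvd_prime_pow Nat.prime_three).1 h2
  obtain ⟨k, hk, rfl⟩ := (Nat.dvd_prime_pow Nat.prime_five).1 h3
  obtain ⟨l, hl, rfl⟩ := (Nat.dvd_prime_pow (by norm_num : Nat.Prime 7)).1 h4
  refine ⟨(2 ^ i * 3 ^ j * 5 ^ k * 7 ^ l, pp 2 i * pp 3 j * pp 5 k * pp 7 l), ?_, rfl⟩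
  rw [mem_LM]
  exact ⟨i, by omega, j, by omega, k, by omega, l, by omega, rfl⟩

set_option maxRecDepth 100000 in
theorem LM_pair : LM.Pairwise (fun x y => ¬ y.1 ∣ x.1) := by decide +kernel

/-- the part of the list at the divisors of `n`. -/
def Ln (n : ℕ) : List (ℕ × ℕ) := LM.filter (fun x => x.1 ∣ n)

theorem mem_Ln (n : ℕ) (x : ℕ × ℕ) : x ∈ Ln n ↔ x ∈ LM ∧ x.1 ∣ n := by
  unfold Ln
  rw [List.mem_filter]
  simp

theorem Ln_ne0 (n : ℕ) : ∀ x ∈ Ln n, x.1 ≠ 0 := fun x hx => LM_ne0 x ((mem_Ln n x).1 hx).1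

theorem Ln_tot (n : ℕ) : ∀ x ∈ Ln n, x.2 = Nat.totient x.1 :=
  fun x hx => LM_tot x ((mem_Ln n x).1 hx).1

theorem Ln_pair (n : ℕ) : (Ln n).Pairwise (fun x y => ¬ y.1 ∣ x.1) :=
  List.Pairwise.filter _ LM_pair

theorem Ln_complete (n : ℕ) (hn : n ∣ MM) : ∀ e, e ∣ n → ∃ x ∈ Ln n, x.1 = e := by
  intro e he
  obtain ⟨x, hx, rfl⟩ := LM_complete e (he.trans hn)
  exact ⟨x, (mem_Ln n x).2 ⟨hx, he⟩, rfl⟩

theorem Ln_closed (n : ℕ) (hn : n ∣ MM) : ∀ x ∈ Ln n, ∀ e, e ∣ x.1 → ∃ y ∈ Ln n, y.1 = e :=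
  fun x hx e he => Ln_complete n hn e (he.trans ((mem_Ln n x).1 hx).2)

theorem Ln_nodup (n : ℕ) : ((Ln n).map Prod.fst).Nodup := by
  rw [List.nodup_iff_pairwise_ne, List.pairwise_map]
  refine (Ln_pair n).imp ?_
  intro a b hab h
  exact hab (by rw [h])

theorem Ln_toFinset (n : ℕ) (hn : n ∣ MM) : ((Ln n).map Prod.fst).toFinset = n.divisors := by
  have hn0 : n ≠ 0 := by
    rintro rfl
    have : MM = 0 := Nat.eq_zero_of_zero_dvd hn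
    revert this
    decide
  ext e
  rw [List.mem_toFinset, List.mem_map, Nat.mem_divisors]
  constructor
  · rintro ⟨x, hx, rfl⟩
    exact ⟨((mem_Ln n x).1 hx).2, hn0⟩
  · rintro ⟨he, -⟩
    obtain ⟨x, hx, rfl⟩ := Ln_complete n hn e he
    exact ⟨x, hx, rfl⟩

theorem Ln_sum (n : ℕ) (hn : n ∣ MM) (f : ℕ → ℕ) :
    ((Ln n).map (fun x => f x.1)).sum = ∑ e ∈ n.divisors, f e := by
  rw [← Ln_toFinset n hn, List.sum_toFinset _ (Ln_nodup n), List.map_map]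
  rfl

end Cfsg.Agent.Helper3.Nse
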