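import Mathlib
import Cfsg.Agent.Helper3.NseB

set_option autoImplicit false

/-!
The searches for the alternating groups of degrees four, five and six.
-/

namespace Cfsg.Agent.Helper3.Nse

/-- the bound for the order. -/
def M8 : ℕ := 2 ^ 8 * 3 ^ 4 * 5 ^ 2 * 7

/-- the expected value at `d`. -/
def target (tv : List (ℕ × ℕ)) (d : ℕ) : ℕ :=
  ((tv.find? (fun x => x.1 == d)).map Prod.snd).getD 0

set_option maxRecDepth 100000 in
theorem chain4 : ∀ q ∈ [2 ^ 9, 3 ^ 5, 5 ^ 3, 7 ^ 2],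
    search [8] 3 (8 * (Ln q).length) (Ln q) [] 0 = [] := by decide +kernel

set_option maxRecDepth 100000 in
theorem chain5 : ∀ q ∈ [2 ^ 9, 3 ^ 5, 5 ^ 3, 7 ^ 2],
    search [20, 24] 15 (24 * (Ln q).length) (Ln q) [] 0 = [] := by decide +kernel

set_option maxRecDepth 100000 in
theorem chain6 : ∀ q ∈ [2 ^ 9, 3 ^ 5, 5 ^ 3, 7 ^ 2],
    search [80, 90, 144] 45 (144 * (Ln q).length) (Ln q) [] 0 = [] := by decide +kernel

set_option maxRecDepth 100000 in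
theorem all4 : ∀ x ∈ LM, x.1 ∣ M8 → 2 ∣ x.1 → ∀ r ∈ search [8] 3 x.1 (Ln x.1) [] 0,
    (r.map Prod.snd).sum = x.1 → (∀ v ∈ [8], v ∈ r.map Prod.snd) →
      x.1 = 12 ∧ ∀ y ∈ r, y.2 = target [(1, 1), (2, 3), (3, 8)] y.1 := by decide +kernel

set_option maxRecDepth 100000 in
theorem all5 : ∀ x ∈ LM, x.1 ∣ M8 → 2 ∣ x.1 → ∀ r ∈ search [20, 24] 15 x.1 (Ln x.1) [] 0,
    (r.map Prod.snd).sum = x.1 → (∀ v ∈ [20, 24], v ∈ r.map Prod.snd) →
      x.1 = 60 ∧ ∀ y ∈ r, y.2 = target [(1, 1), (2, 15), (3, 20), (5, 24)] y.1 := by decide +kernel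

set_option maxRecDepth 100000 in
theorem all6 : ∀ x ∈ LM, x.1 ∣ M8 → 2 ∣ x.1 → ∀ r ∈ search [80, 90, 144] 45 x.1 (Ln x.1) [] 0,
    (r.map Prod.snd).sum = x.1 → (∀ v ∈ [80, 90, 144], v ∈ r.map Prod.snd) →
      x.1 = 360 ∧ ∀ y ∈ r, y.2 = target [(1, 1), (2, 45), (3, 80), (4, 90), (5, 144)] y.1 := by
  decide +kernel

end Cfsg.Agent.Helper3.Nse
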