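import Mathlib
import Cfsg.Agent.S3995
import Cfsg.Agent.Helper3.NseD

set_option autoImplicit false

/-!
From a finite group whose numbers of elements of each order take prescribed values to the
arithmetic search.
-/

namespace Cfsg.Agent.Helper3.Nse

open Cfsg.Agent.S3995 (s)

universe u

/-- the hypothesis on the numbers of elements of each order. -/
structure NseHyp (G : Type u) [Group G] (ev : List ℕ) (s2 mx : ℕ) : Prop where
  hmem : ∀ g : G, s G (orderOf g) = 1 ∨ s G (orderOf g) = s2 ∨ s G (orderOf g) ∈ ev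
  hs2 : ∃ g : G, s G (orderOf g) = s2
  hev : ∀ v ∈ ev, ∃ g : G, s G (orderOf g) = v
  odd2 : s2 % 2 = 1
  ne1 : s2 ≠ 1
  even : ∀ v ∈ ev, v % 2 = 0
  hmx : 1 ≤ mx ∧ s2 ≤ mx ∧ ∀ v ∈ ev, v ≤ mx

variable {G : Type u} [Group G] [Finite G] {ev : List ℕ} {s2 mx : ℕ}

theorem s_even_of_gt (d : ℕ) (hd : 2 < d) : 2 ∣ s G d :=
  (Nat.totient_even hd).two_dvd.trans (Cfsg.Agent.S3995.totient_dvd_s d)

omit [Finite G] in
theorem exists_of_ne_zero {d : ℕ} (h : s G d ≠ 0) : ∃ g : G, orderOf g = d := by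
  by_contra hcon
  exact h (Cfsg.Agent.S3995.s_eq_zero (fun g hg => hcon ⟨g, hg⟩))

theorem s_two (H : NseHyp G ev s2 mx) : s G 2 = s2 := by
  obtain ⟨g, hg⟩ := H.hs2
  have h0 : orderOf g ≠ 0 := (orderOf_pos g).ne'
  by_cases h1 : orderOf g = 1
  · rw [h1, Cfsg.Agent.S3995.s_one] at hg
    exact absurd hg.symm H.ne1
  by_cases h2 : orderOf g = 2
  · rw [h2] at hg
    exact hg
  · exfalso
    have := s_even_of_gt (G := G) (orderOf g) (by omega)
    rw [hg] at this
    have := H.odd2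
    omega

theorem s_cases (H : NseHyp G ev s2 mx) (d : ℕ) (hd : 2 < d) :
    s G d = 0 ∨ (s G d ∈ ev ∧ Nat.totient d ∣ s G d) := by
  by_cases h : s G d = 0
  · left; exact h
  · right
    obtain ⟨g, rfl⟩ := exists_of_ne_zero h
    refine ⟨?_, Cfsg.Agent.S3995.totient_dvd_s _⟩
    have h2 := s_even_of_gt (G := G) (orderOf g) hd
    rcases H.hmem g with h1 | h1 | h1
    · rw [h1] at h2; omega
    · rw [h1] at h2
      have := H.odd2
      omega
    · exact h1

theorem good (H : NseHyp G ev s2 mx) : Good ev s2 (s G) where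
  h1 := Cfsg.Agent.S3995.s_one G
  h2 := s_two H
  hv := s_cases H

omit [Finite G] in
theorem s_le (H : NseHyp G ev s2 mx) (d : ℕ) : s G d ≤ mx := by
  by_cases h : s G d = 0
  · rw [h]; exact Nat.zero_le _
  · obtain ⟨g, rfl⟩ := exists_of_ne_zero h
    rcases H.hmem g with h1 | h1 | h1
    · rw [h1]; exact H.hmx.1
    · rw [h1]; exact H.hmx.2.1
    · exact H.hmx.2.2 _ h1

theorem card_ne_zero : Nat.card G ≠ 0 := Nat.card_pos.ne'

theorem frob' (d : ℕ) (hd : d ∣ Nat.card G) : d ∣ ∑ e ∈ d.divisors, s G e := by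
  have hd0 : d ≠ 0 := by
    rintro rfl
    exact card_ne_zero (G := G) (Nat.eq_zero_of_zero_dvd hd)
  exact Cfsg.Agent.S3995.frob d hd d.divisors (fun e => by
    rw [Nat.mem_divisors]
    exact ⟨fun h => ⟨h, hd0⟩, fun h => h.1⟩)

theorem sum_eq : ∑ e ∈ (Nat.card G).divisors, s G e = Nat.card G := by
  rw [← Cfsg.Agent.S3995.card_pow_eq_sum (G := G) (Nat.card G) (Nat.card G).divisors (fun e => by
    rw [Nat.mem_divisors]
    exact ⟨fun h => ⟨h, card_ne_zero⟩, fun h => h.1⟩)]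
  exact Nat.card_congr (Equiv.subtypeUnivEquiv (fun g => pow_card_eq_one'))

theorem two_dvd (H : NseHyp G ev s2 mx) : 2 ∣ Nat.card G := by
  have h : s G 2 ≠ 0 := by
    rw [s_two H]
    have := H.odd2
    omega
  obtain ⟨g, hg⟩ := exists_of_ne_zero h
  rw [← hg]
  exact orderOf_dvd_natCard g

theorem in_search (H : NseHyp G ev s2 mx) (q B : ℕ) (hq : q ∣ MM) (hqG : q ∣ Nat.card G)
    (hB : ((Ln q).map (fun x => s G x.1)).sum ≤ B) :
    (Ln q).map (fun x => (x.1, s G x.1)) ∈ search ev s2 B (Ln q) [] 0 :=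
  search_sound (good H) (Ln q) (Ln_ne0 q) (Ln_tot q) (Ln_pair q) (Ln_closed q hq)
    (fun x hx => frob' x.1 (((mem_Ln q x).1 hx).2.trans hqG)) hB

theorem not_dvd_of_chain (H : NseHyp G ev s2 mx) (q : ℕ) (hq : q ∣ MM)
    (h : search ev s2 (mx * (Ln q).length) (Ln q) [] 0 = []) : ¬ q ∣ Nat.card G := by
  intro hqG
  have := in_search H q (mx * (Ln q).length) hq hqG (by
    have : ∀ L : List (ℕ × ℕ), (L.map (fun x => s G x.1)).sum ≤ mx * L.length := by
      intro L
      induction L with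
      | nil => simp
      | cons a L ih =>
        rw [List.map_cons, List.sum_cons, List.length_cons]
        have := s_le H a.1
        nlinarith
    exact this _)
  rw [h] at this
  exact List.not_mem_nil this

theorem prime_cases (H : NseHyp G ev s2 mx) (p : ℕ) (hp : p.Prime) (hpG : p ∣ Nat.card G) :
    p < mx + 2 ∧ ∃ v ∈ 1 :: s2 :: ev, (p - 1) ∣ v ∧ p ∣ 1 + v := by
  have h1 := Cfsg.Agent.S3995.frob_p (G := G) p hp hpG
  haveI : Fact p.Prime := ⟨hp⟩
  obtain ⟨g, hg⟩ := exists_prime_orderOf_dvd_card' (G := G) p hpG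
  have h2 : Nat.totient p ∣ s G p := Cfsg.Agent.S3995.totient_dvd_s p
  rw [Nat.totient_prime hp] at h2
  have h3 := s_le H p
  refine ⟨?_, s G p, ?_, h2, h1⟩
  · have := Nat.le_of_dvd (by omega) h1
    omega
  · have := H.hmem g
    rw [hg] at this
    simp only [List.mem_cons]
    tauto

end Cfsg.Agent.Helper3.Nse
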