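import Mathlib
import Cfsg.Agent.Helper3.NseC

set_option autoImplicit false

/-!
The order of the group and the number of elements of each order, from the search.
-/

namespace Cfsg.Agent.Helper3.Nse

open Cfsg.Agent.S3995 (s)

universe u

theorem M8_ne_zero : M8 ≠ 0 := by decide

theorem dvd_M8 (n : ℕ) (hn : n ≠ 0)
    (hp : ∀ p, p.Prime → p ∣ n → p = 2 ∨ p = 3 ∨ p = 5 ∨ p = 7)
    (h2 : ¬ 2 ^ 9 ∣ n) (h3 : ¬ 3 ^ 5 ∣ n) (h5 : ¬ 5 ^ 3 ∣ n) (h7 : ¬ 7 ^ 2 ∣ n) : n ∣ M8 := by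
  rw [← Nat.factorization_prime_le_iff_dvd hn M8_ne_zero]
  intro p hpp
  by_cases hpn : p ∣ n
  · have key : ∀ (q e : ℕ), q.Prime → ¬ q ^ (e + 1) ∣ n → q ^ e ∣ M8 →
        n.factorization q ≤ M8.factorization q := by
      intro q e hq hnot hdvd
      have h1 : n.factorization q ≤ e := by
        by_contra hcon
        exact hnot ((hq.pow_dvd_iff_le_factorization hn).2 (by omega))
      have h2 : e ≤ M8.factorization q := (hq.pow_dvd_iff_le_factorization M8_ne_zero).1 hdvd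
      omega
    rcases hp p hpp hpn with rfl | rfl | rfl | rfl
    · exact key 2 8 hpp h2 (by decide)
    · exact key 3 4 hpp h3 (by decide)
    · exact key 5 2 hpp h5 (by decide)
    · exact key 7 1 hpp h7 (by decide)
  · rw [Nat.factorization_eq_zero_of_not_dvd hpn]
    exact Nat.zero_le _

variable {G : Type u} [Group G] [Finite G] {ev : List ℕ} {s2 mx : ℕ}

theorem main_arith (H : NseHyp G ev s2 mx) (n0 : ℕ) (tv : List (ℕ × ℕ))
    (hch : ∀ q ∈ [2 ^ 9, 3 ^ 5, 5 ^ 3, 7 ^ 2],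
      search ev s2 (mx * (Ln q).length) (Ln q) [] 0 = [])
    (hpr : ∀ p < mx + 2, 2 ≤ p → ∀ v ∈ 1 :: s2 :: ev, (p - 1) ∣ v → p ∣ 1 + v →
      (p = 2 ∨ p = 3 ∨ p = 5 ∨ p = 7) ∨ ∃ k < p, 2 ≤ k ∧ k ∣ p)
    (hall : ∀ x ∈ LM, x.1 ∣ M8 → 2 ∣ x.1 → ∀ r ∈ search ev s2 x.1 (Ln x.1) [] 0,
      (r.map Prod.snd).sum = x.1 → (∀ v ∈ ev, v ∈ r.map Prod.snd) →
        x.1 = n0 ∧ ∀ y ∈ r, y.2 = target tv y.1) :
    Nat.card G = n0 ∧ ∀ d, d ∣ n0 → s G d = target tv d := by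
  have hn : Nat.card G ≠ 0 := card_ne_zero
  have hp : ∀ p, p.Prime → p ∣ Nat.card G → p = 2 ∨ p = 3 ∨ p = 5 ∨ p = 7 := by
    intro p hpp hpG
    obtain ⟨hlt, v, hv, h1, h2⟩ := prime_cases H p hpp hpG
    rcases hpr p hlt hpp.two_le v hv h1 h2 with h | ⟨k, hk, hk2, hkp⟩
    · exact h
    · exfalso
      rcases (Nat.dvd_prime hpp).1 hkp with rfl | rfl
      · omega
      · omega
  have hMM : M8 ∣ MM := by decide
  have h2 : ¬ 2 ^ 9 ∣ Nat.card G :=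
    not_dvd_of_chain H _ (by decide) (hch _ (by simp))
  have h3 : ¬ 3 ^ 5 ∣ Nat.card G :=
    not_dvd_of_chain H _ (by decide) (hch _ (by simp))
  have h5 : ¬ 5 ^ 3 ∣ Nat.card G :=
    not_dvd_of_chain H _ (by decide) (hch _ (by simp))
  have h7 : ¬ 7 ^ 2 ∣ Nat.card G :=
    not_dvd_of_chain H _ (by decide) (hch _ (by simp))
  have hn8 : Nat.card G ∣ M8 := dvd_M8 _ hn hp h2 h3 h5 h7
  have hnM : Nat.card G ∣ MM := hn8.trans hMM
  obtain ⟨x, hx, hxn⟩ := LM_complete _ hnM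
  have hsum : ((Ln (Nat.card G)).map (fun x => s G x.1)).sum = Nat.card G := by
    rw [Ln_sum _ hnM (s G)]
    exact sum_eq
  have hin := in_search H (Nat.card G) (Nat.card G) hnM dvd_rfl hsum.le
  have hres := hall x hx (hxn ▸ hn8) (hxn ▸ two_dvd H)
    ((Ln (Nat.card G)).map (fun x => (x.1, s G x.1))) (hxn ▸ hin)
    (by
      rw [List.map_map, hxn]
      exact hsum)
    (by
      intro v hv
      obtain ⟨g, hg⟩ := H.hev v hv
      obtain ⟨y, hy, hy1⟩ := Ln_complete _ hnM (orderOf g) (orderOf_dvd_natCard g)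
      rw [List.map_map, List.mem_map]
      refine ⟨y, hy, ?_⟩
      show s G y.1 = v
      rw [hy1, hg])
  rw [hxn] at hres
  refine ⟨hres.1, ?_⟩
  intro d hd
  rw [← hres.1] at hd
  obtain ⟨y, hy, rfl⟩ := Ln_complete _ hnM d hd
  exact hres.2 (y.1, s G y.1) (List.mem_map.2 ⟨y, hy, rfl⟩)

end Cfsg.Agent.Helper3.Nse
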