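import Mathlib

set_option autoImplicit false

/-!
The numbers of solutions of `g ^ m = 1` in the alternating groups of degrees four, five and six.
-/

namespace Cfsg.Agent.Helper3.Nse

theorem cnt42 : Fintype.card {g : ↥(alternatingGroup (Fin 4)) // g ^ 2 = 1} = 4 := by
  decide +kernel
theorem cnt43 : Fintype.card {g : ↥(alternatingGroup (Fin 4)) // g ^ 3 = 1} = 9 := by
  decide +kernel
theorem cnt52 : Fintype.card {g : ↥(alternatingGroup (Fin 5)) // g ^ 2 = 1} = 16 := by
  decide +kernel
theorem cnt53 : Fintype.card {g : ↥(alternatingGroup (Fin 5)) // g ^ 3 = 1} = 21 := by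
  decide +kernel
theorem cnt55 : Fintype.card {g : ↥(alternatingGroup (Fin 5)) // g ^ 5 = 1} = 25 := by
  decide +kernel
set_option maxRecDepth 100000 in
theorem cnt62 : Fintype.card {g : ↥(alternatingGroup (Fin 6)) // g ^ 2 = 1} = 46 := by
  decide +kernel
set_option maxRecDepth 100000 in
theorem cnt63 : Fintype.card {g : ↥(alternatingGroup (Fin 6)) // g ^ 3 = 1} = 81 := by
  decide +kernel
set_option maxRecDepth 100000 in
theorem cnt64 : Fintype.card {g : ↥(alternatingGroup (Fin 6)) // g ^ 4 = 1} = 136 := by
  decide +kernel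
set_option maxRecDepth 100000 in
theorem cnt65 : Fintype.card {g : ↥(alternatingGroup (Fin 6)) // g ^ 5 = 1} = 145 := by
  decide +kernel

end Cfsg.Agent.Helper3.Nse
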