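import Mathlib
import Cfsg.Agent.S3995
import Cfsg.Agent.Helper3.NseF1

set_option autoImplicit false

/-!
The numbers of elements of each order in the alternating groups of degrees four, five and six.
-/

namespace Cfsg.Agent.Helper3.Nse

open Cfsg.Agent.S3995 (s)

universe u

section general

variable {A : Type u} [Group A] [Finite A]

theorem sum_s_le (S : Finset ℕ) : ∑ e ∈ S, s A e ≤ Nat.card A := by
  classical
  have : Fintype A := Fintype.ofFinite _
  have h1 : ∑ e ∈ S, s A e = (Finset.univ.filter (fun g : A => orderOf g ∈ S)).card := by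
    rw [Finset.card_eq_sum_card_fiberwise (f := fun g : A => orderOf g) (t := S)
      (fun g hg => by
        rw [Finset.mem_coe, Finset.mem_filter] at hg
        exact hg.2)]
    apply Finset.sum_congr rfl
    intro d hd
    unfold s
    rw [Nat.card_eq_fintype_card, Fintype.card_subtype]
    congr 1
    ext g
    simp only [Finset.mem_filter, Finset.mem_univ, true_and]
    constructor
    · intro h
      exact ⟨h ▸ hd, h⟩
    · exact fun h => h.2
  rw [h1, Nat.card_eq_fintype_card]
  exact Finset.card_le_univ _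

theorem orderOf_mem_of_sum (D : Finset ℕ) (hD : ∑ d ∈ D, s A d = Nat.card A) (g : A) :
    orderOf g ∈ D := by
  by_contra hcon
  have h1 := sum_s_le (A := A) (insert (orderOf g) D)
  rw [Finset.sum_insert hcon, hD] at h1
  have := Cfsg.Agent.S3995.s_pos g
  omega

theorem nse_eq (D : Finset ℕ) (hD : ∑ d ∈ D, s A d = Nat.card A) (hpos : ∀ d ∈ D, s A d ≠ 0) :
    ((fun m : ℕ => Nat.card {g : A // orderOf g = m}) '' Set.range (orderOf : A → ℕ))
      = ((D.image (s A) : Finset ℕ) : Set ℕ) := by
  ext v
  simp only [Set.mem_image, Set.mem_range, Finset.coe_image, Finset.mem_coe]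
  constructor
  · rintro ⟨m, ⟨g, rfl⟩, rfl⟩
    exact ⟨orderOf g, orderOf_mem_of_sum D hD g, rfl⟩
  · rintro ⟨d, hd, rfl⟩
    have h := hpos d hd
    have : ∃ g : A, orderOf g = d := by
      by_contra hcon
      exact h (Cfsg.Agent.S3995.s_eq_zero (fun g hg => hcon ⟨g, hg⟩))
    obtain ⟨g, hg⟩ := this
    exact ⟨d, ⟨g, hg⟩, rfl⟩

theorem s_prime (p c : ℕ) (hp : p.Prime) (hc : Nat.card {g : A // g ^ p = 1} = c) :
    s A p = c - 1 := by
  have h := Cfsg.Agent.S3995.card_pow_eq_sum (G := A) p {1, p} (by
    intro d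
    rw [Nat.dvd_prime hp]
    simp)
  rw [Finset.sum_pair hp.one_lt.ne, Cfsg.Agent.S3995.s_one, hc] at h
  omega

theorem s_four (c2 c4 : ℕ) (h2 : Nat.card {g : A // g ^ 2 = 1} = c2)
    (h4 : Nat.card {g : A // g ^ 4 = 1} = c4) : s A 4 = c4 - c2 := by
  have h := Cfsg.Agent.S3995.card_pow_eq_sum (G := A) 4 {1, 2, 4} (by
    intro d
    have : (4 : ℕ) = 2 ^ 2 := by norm_num
    rw [this, Nat.dvd_prime_pow Nat.prime_two]
    constructor
    · rintro ⟨i, hi, rfl⟩
      interval_cases i <;> simp
    · intro hd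
      simp only [Finset.mem_insert, Finset.mem_singleton] at hd
      rcases hd with rfl | rfl | rfl
      · exact ⟨0, by omega, by simp⟩
      · exact ⟨1, by omega, by simp⟩
      · exact ⟨2, le_refl _, by norm_num⟩)
  have h' := Cfsg.Agent.S3995.card_pow_eq_sum (G := A) 2 {1, 2} (by
    intro d
    rw [Nat.dvd_prime Nat.prime_two]
    simp)
  rw [Finset.sum_pair (by norm_num), h2] at h'
  rw [Finset.sum_insert (by simp), Finset.sum_pair (by norm_num), h4] at h
  omega

end general

theorem card_alt (n : ℕ) (hn : 2 ≤ n) :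
    2 * Nat.card ↥(alternatingGroup (Fin n)) = n.factorial := by
  have : Nontrivial (Fin n) := Fin.nontrivial_iff_two_le.2 hn
  rw [Nat.card_eq_fintype_card, two_mul_card_alternatingGroup, Fintype.card_perm, Fintype.card_fin]

theorem nse_alt4 :
    ((fun m : ℕ => Nat.card {g : ↥(alternatingGroup (Fin 4)) // orderOf g = m}) ''
      Set.range (orderOf : ↥(alternatingGroup (Fin 4)) → ℕ)) = {1, 3, 8} := by
  have e2 : s ↥(alternatingGroup (Fin 4)) 2 = 3 :=
    s_prime 2 4 Nat.prime_two (by rw [Nat.card_eq_fintype_card]; exact cnt42)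
  have e3 : s ↥(alternatingGroup (Fin 4)) 3 = 8 :=
    s_prime 3 9 Nat.prime_three (by rw [Nat.card_eq_fintype_card]; exact cnt43)
  have e1 := Cfsg.Agent.S3995.s_one ↥(alternatingGroup (Fin 4))
  have hc : Nat.card ↥(alternatingGroup (Fin 4)) = 12 := by
    have := card_alt 4 (by norm_num)
    have h4 : Nat.factorial 4 = 24 := by decide
    omega
  rw [nse_eq ({1, 2, 3} : Finset ℕ) (by
    rw [Finset.sum_insert (by simp), Finset.sum_pair (by norm_num), e1, e2, e3] ; omega)
    (by
      intro d hd
      simp only [Finset.mem_insert, Finset.mem_singleton] at hd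
      rcases hd with rfl | rfl | rfl <;> omega)]
  rw [Finset.image_insert, Finset.image_insert, Finset.image_singleton, e1, e2, e3]
  simp

theorem nse_alt5 :
    ((fun m : ℕ => Nat.card {g : ↥(alternatingGroup (Fin 5)) // orderOf g = m}) ''
      Set.range (orderOf : ↥(alternatingGroup (Fin 5)) → ℕ)) = {1, 15, 20, 24} := by
  have e2 : s ↥(alternatingGroup (Fin 5)) 2 = 15 :=
    s_prime 2 16 Nat.prime_two (by rw [Nat.card_eq_fintype_card]; exact cnt52)
  have e3 : s ↥(alternatingGroup (Fin 5)) 3 = 20 :=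
    s_prime 3 21 Nat.prime_three (by rw [Nat.card_eq_fintype_card]; exact cnt53)
  have e5 : s ↥(alternatingGroup (Fin 5)) 5 = 24 :=
    s_prime 5 25 Nat.prime_five (by rw [Nat.card_eq_fintype_card]; exact cnt55)
  have e1 := Cfsg.Agent.S3995.s_one ↥(alternatingGroup (Fin 5))
  have hc : Nat.card ↥(alternatingGroup (Fin 5)) = 60 := by
    have := card_alt 5 (by norm_num)
    have h4 : Nat.factorial 5 = 120 := by decide
    omega
  rw [nse_eq ({1, 2, 3, 5} : Finset ℕ) (by
    rw [Finset.sum_insert (by simp), Finset.sum_insert (by simp), Finset.sum_pair (by norm_num),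
      e1, e2, e3, e5] ; omega)
    (by
      intro d hd
      simp only [Finset.mem_insert, Finset.mem_singleton] at hd
      rcases hd with rfl | rfl | rfl | rfl <;> omega)]
  rw [Finset.image_insert, Finset.image_insert, Finset.image_insert, Finset.image_singleton,
    e1, e2, e3, e5]
  simp

theorem nse_alt6 :
    ((fun m : ℕ => Nat.card {g : ↥(alternatingGroup (Fin 6)) // orderOf g = m}) ''
      Set.range (orderOf : ↥(alternatingGroup (Fin 6)) → ℕ)) = {1, 45, 80, 90, 144} := by
  have e2 : s ↥(alternatingGroup (Fin 6)) 2 = 45 :=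
    s_prime 2 46 Nat.prime_two (by rw [Nat.card_eq_fintype_card]; exact cnt62)
  have e3 : s ↥(alternatingGroup (Fin 6)) 3 = 80 :=
    s_prime 3 81 Nat.prime_three (by rw [Nat.card_eq_fintype_card]; exact cnt63)
  have e4 : s ↥(alternatingGroup (Fin 6)) 4 = 90 :=
    s_four 46 136 (by rw [Nat.card_eq_fintype_card]; exact cnt62)
      (by rw [Nat.card_eq_fintype_card]; exact cnt64)
  have e5 : s ↥(alternatingGroup (Fin 6)) 5 = 144 :=
    s_prime 5 145 Nat.prime_five (by rw [Nat.card_eq_fintype_card]; exact cnt65)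
  have e1 := Cfsg.Agent.S3995.s_one ↥(alternatingGroup (Fin 6))
  have hc : Nat.card ↥(alternatingGroup (Fin 6)) = 360 := by
    have := card_alt 6 (by norm_num)
    have h4 : Nat.factorial 6 = 720 := by decide
    omega
  rw [nse_eq ({1, 2, 3, 4, 5} : Finset ℕ) (by
    rw [Finset.sum_insert (by simp), Finset.sum_insert (by simp), Finset.sum_insert (by simp),
      Finset.sum_pair (by norm_num), e1, e2, e3, e4, e5] ; omega)
    (by
      intro d hd
      simp only [Finset.mem_insert, Finset.mem_singleton] at hd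
      rcases hd with rfl | rfl | rfl | rfl | rfl <;> omega)]
  rw [Finset.image_insert, Finset.image_insert, Finset.image_insert, Finset.image_insert,
    Finset.image_singleton, e1, e2, e3, e4, e5]
  simp

end Cfsg.Agent.Helper3.Nse
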