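import Mathlib
import Cfsg.Agent.S3739
import Cfsg.Agent.S3995
import Cfsg.Agent.Helper2.SylowExact
import Cfsg.Agent.Helper3.NseF

set_option autoImplicit false

/-!
A group of order 60 or 360 with the numbers of elements of each order of the alternating group
of degree five or six is simple.
-/

namespace Cfsg.Agent.Helper3.Nse

open Cfsg.Agent.S3995 (s)

universe u

variable {G : Type u} [Group G] [Finite G]

omit [Finite G] in
/-- a normal subgroup of index prime to `p` contains the elements of order `p`. -/
theorem mem_of_not_dvd_index (K : Subgroup G) [K.Normal] (p : ℕ) (hp : p.Prime)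
    (hidx : ¬ p ∣ K.index) (y : G) (hy : orderOf y = p) : y ∈ K := by
  rw [← QuotientGroup.eq_one_iff]
  have h1 : orderOf (QuotientGroup.mk y : G ⧸ K) ∣ p := by
    apply orderOf_dvd_of_pow_eq_one
    rw [← QuotientGroup.mk_pow, ← hy, pow_orderOf_eq_one]
    rfl
  have h2 : orderOf (QuotientGroup.mk y : G ⧸ K) ∣ K.index := by
    rw [Subgroup.index_eq_card]
    exact orderOf_dvd_natCard _
  rcases (Nat.dvd_prime hp).1 h1 with h | h
  · exact orderOf_eq_one_iff.1 h
  · rw [h] at h2
    exact absurd h2 hidx

/-- a subgroup containing the elements of given orders is that large. -/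
theorem sum_s_le_card (K : Subgroup G) (S : Finset ℕ) (h : ∀ y : G, orderOf y ∈ S → y ∈ K) :
    ∑ e ∈ S, s G e ≤ Nat.card K := by
  classical
  have : Fintype G := Fintype.ofFinite _
  have h1 : ∑ e ∈ S, s G e = (Finset.univ.filter (fun g : G => orderOf g ∈ S)).card := by
    rw [Finset.card_eq_sum_card_fiberwise (f := fun g : G => orderOf g) (t := S)
      (fun g hg => by
        rw [Finset.mem_coe, Finset.mem_filter] at hg
        exact hg.2)]
    apply Finset.sum_congr rfl
    intro d hd
    unfold s
    rw [Nat.card_eq_fintype_card, Fintype.card_subtype]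
    congr 1
    ext g
    simp only [Finset.mem_filter, Finset.mem_univ, true_and]
    constructor
    · intro h
      exact ⟨h ▸ hd, h⟩
    · exact fun h => h.2
  rw [h1, Nat.card_eq_fintype_card, Fintype.card_subtype]
  apply Finset.card_le_card
  intro g hg
  rw [Finset.mem_filter] at hg ⊢
  exact ⟨hg.1, h g hg.2⟩

/-- an element of order five acts without fixed points on a normal subgroup of order prime to
five, when the orders of the elements are at most five. -/
theorem card_modEq_one_five (hord : ∀ g : G, orderOf g ≤ 5) (K : Subgroup G) [K.Normal] (x : G)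
    (hx : orderOf x = 5) (h5 : ¬ 5 ∣ Nat.card K) : Nat.card K ≡ 1 [MOD 5] := by
  have : Fact (Nat.Prime 5) := ⟨Nat.prime_five⟩
  have hp : IsPGroup 5 (Subgroup.zpowers x) :=
    IsPGroup.of_card (n := 1) (by rw [Nat.card_zpowers, hx, pow_one])
  have h1 := Cfsg.Agent.S3739.card_modEq_centralizer 5 x hp K (by
    rw [Subgroup.normalizer_eq_top]
    exact Subgroup.mem_top x)
  have h2 : K ⊓ Subgroup.centralizer {x} = ⊥ := by
    rw [eq_bot_iff]
    intro t ht
    rw [Subgroup.mem_inf, Subgroup.mem_centralizer_singleton_iff] at ht
    rw [Subgroup.mem_bot]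
    by_contra hne
    have hcop : Nat.Coprime (orderOf x) (orderOf t) := by
      rw [hx, Nat.Prime.coprime_iff_not_dvd Nat.prime_five]
      intro hd
      exact h5 (hd.trans (Subgroup.orderOf_dvd_natCard K ht.1))
    have hc : Commute x t := ht.2.symm
    have h3 := hc.orderOf_mul_eq_mul_orderOf_of_coprime hcop
    have h4 := hord (x * t)
    rw [h3, hx] at h4
    have h5 : orderOf t ≠ 1 := fun h => hne (orderOf_eq_one_iff.1 h)
    have h6 : 0 < orderOf t := orderOf_pos t
    omega
  rw [h2, Subgroup.card_bot] at h1
  exact h1

/-- a normal subgroup of order six gives a normal subgroup of order three. -/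
theorem exists_normal_three (K : Subgroup G) [K.Normal] (hK : Nat.card K = 6) :
    ∃ T : Subgroup G, T.Normal ∧ Nat.card T = 3 := by
  have : Fact (Nat.Prime 3) := ⟨Nat.prime_three⟩
  let P : Sylow 3 K := default
  have hP : Nat.card P = 3 :=
    Cfsg.Agent.Helper2.SylowExact.card_sylow_of_exact (m := 2) (by rw [hK]) (by norm_num) P
  have hidx : (P : Subgroup K).index = 2 := by
    have := Subgroup.card_mul_index (P : Subgroup K)
    rw [hK] at this
    have hP' : Nat.card (P : Subgroup K) = 3 := hP
    rw [hP'] at this
    omega
  have h1 : Nat.card (Sylow 3 K) ∣ 2 := hidx ▸ Sylow.card_dvd_index P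
  have h2 : Nat.card (Sylow 3 K) ≡ 1 [MOD 3] := card_sylow_modEq_one 3 K
  have h3 : Nat.card (Sylow 3 K) = 1 := by
    have := Nat.le_of_dvd (by norm_num) h1
    have hpos : 0 < Nat.card (Sylow 3 K) := Nat.card_pos
    unfold Nat.ModEq at h2
    interval_cases (Nat.card (Sylow 3 K)) <;> omega
  have : Subsingleton (Sylow 3 K) := (Nat.card_eq_one_iff_unique.1 h3).1
  have : (P : Subgroup K).Characteristic := Sylow.characteristic_of_subsingleton P
  refine ⟨(P : Subgroup K).map K.subtype, inferInstance, ?_⟩
  rw [Subgroup.card_map_of_injective K.subtype_injective]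
  exact hP

theorem simple60 (hc : Nat.card G = 60) (hord : ∀ g : G, orderOf g ≤ 5)
    (h3 : s G 3 = 20) (h5 : s G 5 = 24) : IsSimpleGroup G := by
  have e1 := Cfsg.Agent.S3995.s_one G
  have : Nontrivial G := Finite.one_lt_card_iff_nontrivial.1 (by rw [hc]; norm_num)
  obtain ⟨x, hx⟩ : ∃ x : G, orderOf x = 5 := by
    by_contra hcon
    have := Cfsg.Agent.S3995.s_eq_zero (G := G) (k := 5) (fun g hg => hcon ⟨g, hg⟩)
    omega
  refine ⟨fun K hK => ?_⟩
  have hk := Subgroup.card_mul_index K
  rw [hc] at hk
  have hidx0 : 0 < K.index := Nat.pos_of_ne_zero (Subgroup.index_ne_zero_of_finite)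
  have hk0 : 0 < Nat.card K := Nat.card_pos
  have three : ¬ 3 ∣ K.index → 1 + 20 ≤ Nat.card K := by
    intro hn
    have := sum_s_le_card K {1, 3} (by
      intro y hy
      simp only [Finset.mem_insert, Finset.mem_singleton] at hy
      rcases hy with hy | hy
      · rw [orderOf_eq_one_iff.1 hy]; exact K.one_mem
      · exact mem_of_not_dvd_index K 3 Nat.prime_three hn y hy)
    rw [Finset.sum_pair (by norm_num), e1, h3] at this
    exact this
  by_cases hd5 : 5 ∣ Nat.card K
  · have hn5 : ¬ 5 ∣ K.index := by
      rintro ⟨b, hb⟩
      obtain ⟨a, ha⟩ := hd5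
      rw [ha, hb] at hk
      have : 25 * (a * b) = 60 := by rw [← hk]; ring
      omega
    have h25 : 1 + 24 ≤ Nat.card K := by
      have := sum_s_le_card K {1, 5} (by
        intro y hy
        simp only [Finset.mem_insert, Finset.mem_singleton] at hy
        rcases hy with hy | hy
        · rw [orderOf_eq_one_iff.1 hy]; exact K.one_mem
        · exact mem_of_not_dvd_index K 5 Nat.prime_five hn5 y hy)
      rw [Finset.sum_pair (by norm_num), e1, h5] at this
      exact this
    have hi2 : K.index ≤ 2 := by
      by_contra hcon
      have : 25 * 3 ≤ Nat.card K * K.index := Nat.mul_le_mul h25 (by omega)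
      omega
    have : K.index = 1 ∨ K.index = 2 := by omega
    rcases this with h | h
    · right; exact Subgroup.index_eq_one.1 h
    · exfalso
      have hn3 : ¬ 3 ∣ K.index := by rw [h]; norm_num
      have := sum_s_le_card K {1, 3, 5} (by
        intro y hy
        simp only [Finset.mem_insert, Finset.mem_singleton] at hy
        rcases hy with hy | hy | hy
        · rw [orderOf_eq_one_iff.1 hy]; exact K.one_mem
        · exact mem_of_not_dvd_index K 3 Nat.prime_three hn3 y hy
        · exact mem_of_not_dvd_index K 5 Nat.prime_five hn5 y hy)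
      rw [Finset.sum_insert (by simp), Finset.sum_pair (by norm_num), e1, h3, h5] at this
      rw [h] at hk
      omega
  · have hmod := card_modEq_one_five hord K x hx hd5
    unfold Nat.ModEq at hmod
    have hle : Nat.card K ≤ 60 := Nat.le_of_dvd (by norm_num) (Dvd.intro _ hk)
    have hcases : Nat.card K = 1 ∨ Nat.card K = 6 := by
      generalize Nat.card K = k at *
      generalize K.index = i at *
      interval_cases k <;> omega
    rcases hcases with h | h
    · left; exact Subgroup.card_eq_one.1 h
    · exfalso
      rw [h] at hk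
      have hi : K.index = 10 := by omega
      have := three (by rw [hi]; norm_num)
      omega

theorem simple360 (hc : Nat.card G = 360) (hord : ∀ g : G, orderOf g ≤ 5)
    (h3 : s G 3 = 80) (h5 : s G 5 = 144) : IsSimpleGroup G := by
  have e1 := Cfsg.Agent.S3995.s_one G
  have : Nontrivial G := Finite.one_lt_card_iff_nontrivial.1 (by rw [hc]; norm_num)
  obtain ⟨x, hx⟩ : ∃ x : G, orderOf x = 5 := by
    by_contra hcon
    have := Cfsg.Agent.S3995.s_eq_zero (G := G) (k := 5) (fun g hg => hcon ⟨g, hg⟩)
    omega
  refine ⟨fun K hK => ?_⟩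
  have hk := Subgroup.card_mul_index K
  rw [hc] at hk
  have hidx0 : 0 < K.index := Nat.pos_of_ne_zero (Subgroup.index_ne_zero_of_finite)
  have hk0 : 0 < Nat.card K := Nat.card_pos
  have three : ¬ 3 ∣ K.index → 1 + 80 ≤ Nat.card K := by
    intro hn
    have := sum_s_le_card K {1, 3} (by
      intro y hy
      simp only [Finset.mem_insert, Finset.mem_singleton] at hy
      rcases hy with hy | hy
      · rw [orderOf_eq_one_iff.1 hy]; exact K.one_mem
      · exact mem_of_not_dvd_index K 3 Nat.prime_three hn y hy)
    rw [Finset.sum_pair (by norm_num), e1, h3] at this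
    exact this
  by_cases hd5 : 5 ∣ Nat.card K
  · have hn5 : ¬ 5 ∣ K.index := by
      rintro ⟨b, hb⟩
      obtain ⟨a, ha⟩ := hd5
      rw [ha, hb] at hk
      have : 25 * (a * b) = 360 := by rw [← hk]; ring
      omega
    have h25 : 1 + 144 ≤ Nat.card K := by
      have := sum_s_le_card K {1, 5} (by
        intro y hy
        simp only [Finset.mem_insert, Finset.mem_singleton] at hy
        rcases hy with hy | hy
        · rw [orderOf_eq_one_iff.1 hy]; exact K.one_mem
        · exact mem_of_not_dvd_index K 5 Nat.prime_five hn5 y hy)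
      rw [Finset.sum_pair (by norm_num), e1, h5] at this
      exact this
    have hi2 : K.index ≤ 2 := by
      by_contra hcon
      have : 145 * 3 ≤ Nat.card K * K.index := Nat.mul_le_mul h25 (by omega)
      omega
    have : K.index = 1 ∨ K.index = 2 := by omega
    rcases this with h | h
    · right; exact Subgroup.index_eq_one.1 h
    · exfalso
      have hn3 : ¬ 3 ∣ K.index := by rw [h]; norm_num
      have := sum_s_le_card K {1, 3, 5} (by
        intro y hy
        simp only [Finset.mem_insert, Finset.mem_singleton] at hy
        rcases hy with hy | hy | hy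
        · rw [orderOf_eq_one_iff.1 hy]; exact K.one_mem
        · exact mem_of_not_dvd_index K 3 Nat.prime_three hn3 y hy
        · exact mem_of_not_dvd_index K 5 Nat.prime_five hn5 y hy)
      rw [Finset.sum_insert (by simp), Finset.sum_pair (by norm_num), e1, h3, h5] at this
      rw [h] at hk
      omega
  · have hmod := card_modEq_one_five hord K x hx hd5
    unfold Nat.ModEq at hmod
    have hi5 : 5 ∣ K.index := by
      have h360 : (5 : ℕ) ∣ Nat.card K * K.index := by rw [hk]; norm_num
      rcases (Nat.Prime.dvd_mul Nat.prime_five).1 h360 with h | h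
      · exact absurd h hd5
      · exact h
    obtain ⟨j, hj⟩ := hi5
    have hk72 : Nat.card K * j = 72 := by
      rw [hj] at hk
      have : 5 * (Nat.card K * j) = 360 := by rw [← hk]; ring
      omega
    have hle : Nat.card K ≤ 72 := Nat.le_of_dvd (by norm_num) (Dvd.intro _ hk72)
    have hcases : Nat.card K = 1 ∨ Nat.card K = 6 ∨ Nat.card K = 36 := by
      generalize Nat.card K = k at *
      interval_cases k <;> omega
    rcases hcases with h | h | h
    · left; exact Subgroup.card_eq_one.1 h
    · exfalso
      obtain ⟨T, hT, hT3⟩ := exists_normal_three K h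
      have := card_modEq_one_five hord T x hx (by rw [hT3]; norm_num)
      rw [hT3] at this
      unfold Nat.ModEq at this
      omega
    · exfalso
      rw [h] at hk
      have hi : K.index = 10 := by omega
      have := three (by rw [hi]; norm_num)
      omega

end Cfsg.Agent.Helper3.Nse
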