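import Mathlib

set_option autoImplicit false

/-!
An element `e` with `e ^ 3 = 1` normalizing an abelian subgroup `B` of exponent `3` satisfies
`|B| ≤ |C_B(e)| ^ 3` (the commutator map `ν = e - 1` on `B` has `ν ^ 3 = 0`).
-/

namespace Cfsg.Agent.Helper3.NuCube

theorem aux_add {C : Type*} [AddCommGroup C] (a x1 x2 : C) :
    a - x2 - (x2 - x1) - (x2 - x1 - (x1 - a)) = 3 • x1 - 3 • x2 := by abel

theorem aux_mul {C : Type*} [CommGroup C] (a x1 x2 : C) :
    a / x2 / (x2 / x1) / (x2 / x1 / (x1 / a)) = x1 ^ 3 / x2 ^ 3 :=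
  aux_add (C := Additive C) (Additive.ofMul a) (Additive.ofMul x1) (Additive.ofMul x2)

/-- `ν = T / id` is nilpotent of index `3` when `T ^ 3 = id` and the group has exponent `3`. -/
theorem nu_cube {C : Type*} [CommGroup C] (T : C →* C) (hT : ∀ a, T (T (T a)) = a)
    (h3 : ∀ a : C, a ^ 3 = 1) (a : C) :
    (T / MonoidHom.id C) ((T / MonoidHom.id C) ((T / MonoidHom.id C) a)) = 1 := by
  simp only [MonoidHom.div_apply, MonoidHom.id_apply, map_div]
  rw [hT, aux_mul, h3, h3, div_one]

/-- kernels of composites. -/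
theorem card_ker_comp_le {B : Type*} [Group B] [Finite B] (f g : B →* B) :
    Nat.card (f.comp g).ker ≤ Nat.card f.ker * Nat.card g.ker := by
  let ψ : ↥(f.comp g).ker →* ↥f.ker :=
    (g.comp (f.comp g).ker.subtype).codRestrict f.ker (fun x => by
      have := x.2
      rw [MonoidHom.mem_ker] at this ⊢
      exact this)
  have h1 : Nat.card ↥(f.comp g).ker = Nat.card (↥(f.comp g).ker ⧸ ψ.ker) * Nat.card ψ.ker :=
    Subgroup.card_eq_card_quotient_mul_card_subgroup ψ.ker
  have h2 : Nat.card (↥(f.comp g).ker ⧸ ψ.ker) = Nat.card ψ.range :=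
    Nat.card_congr (QuotientGroup.quotientKerEquivRange ψ).toEquiv
  have h3 : Nat.card ψ.range ≤ Nat.card f.ker :=
    Nat.card_le_card_of_injective _ (Subgroup.subtype_injective ψ.range)
  have h4 : Nat.card ψ.ker ≤ Nat.card g.ker := by
    let ι : ↥ψ.ker → ↥g.ker := fun x => ⟨x.1.1, by
      have := x.2
      rw [MonoidHom.mem_ker] at this ⊢
      have h := congrArg Subtype.val this
      exact h⟩
    apply Nat.card_le_card_of_injective ι
    intro x y hxy
    apply Subtype.ext
    apply Subtype.ext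
    have h := congrArg Subtype.val hxy
    exact h
  rw [h1, h2]
  exact Nat.mul_le_mul h3 h4

variable {P : Type*} [Group P]

/-- main count -/
theorem card_le_cube (B : Subgroup P) [Finite B] (hB : ∀ a ∈ B, ∀ b ∈ B, a * b = b * a)
    (hB3 : ∀ a ∈ B, a ^ 3 = 1) (e : P) (he3 : e ^ 3 = 1) (he : ∀ a ∈ B, e * a * e⁻¹ ∈ B) :
    Nat.card B ≤ (Nat.card ↥(B ⊓ Subgroup.centralizer ({e} : Set P))) ^ 3 := by
  classical
  let _ : CommGroup ↥B :=
    { (inferInstance : Group ↥B) with
      mul_comm := fun a b => Subtype.ext (hB a a.2 b b.2) }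
  let T : ↥B →* ↥B :=
    { toFun := fun a => ⟨e * a * e⁻¹, he a a.2⟩
      map_one' := by apply Subtype.ext; simp
      map_mul' := fun a b => by
        apply Subtype.ext
        show e * ((a : P) * (b : P)) * e⁻¹ = (e * a * e⁻¹) * (e * b * e⁻¹)
        group }
  have hT : ∀ a, T (T (T a)) = a := by
    intro a
    apply Subtype.ext
    show e * (e * (e * (a : P) * e⁻¹) * e⁻¹) * e⁻¹ = a
    have h1 : e * (e * (e * (a : P) * e⁻¹) * e⁻¹) * e⁻¹ = (e * e * e) * a * (e * e * e)⁻¹ := by
      group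
    have h2 : e * e * e = 1 := by
      rw [← he3]; simp only [pow_succ, pow_zero, one_mul]
    rw [h1, h2]; group
  have h3 : ∀ a : ↥B, a ^ 3 = 1 := by
    intro a
    apply Subtype.ext
    rw [Subgroup.coe_pow, Subgroup.coe_one]
    exact hB3 a a.2
  set ν : ↥B →* ↥B := T / MonoidHom.id ↥B with hν
  have hcube : (ν.comp (ν.comp ν)).ker = ⊤ := by
    rw [eq_top_iff]
    intro a _
    rw [MonoidHom.mem_ker]
    exact nu_cube T hT h3 a
  have hfin : Finite ↥(B ⊓ Subgroup.centralizer ({e} : Set P)) :=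
    Finite.of_injective (Subgroup.inclusion (inf_le_left : B ⊓ Subgroup.centralizer ({e} : Set P) ≤ B))
      (Subgroup.inclusion_injective _)
  have hk : Nat.card ν.ker ≤ Nat.card ↥(B ⊓ Subgroup.centralizer ({e} : Set P)) := by
    let ι : ↥ν.ker → ↥(B ⊓ Subgroup.centralizer ({e} : Set P)) := fun x => ⟨x.1.1, by
      refine ⟨x.1.2, ?_⟩
      have := x.2
      rw [MonoidHom.mem_ker] at this
      change (T / MonoidHom.id ↥B) x.1 = 1 at this
      rw [MonoidHom.div_apply, MonoidHom.id_apply, div_eq_one] at this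
      have h := congrArg Subtype.val this
      have h' : e * (x.1 : P) * e⁻¹ = (x.1 : P) := h
      show (x.1 : P) ∈ Subgroup.centralizer ({e} : Set P)
      rw [Subgroup.mem_centralizer_iff]
      intro y hy
      rw [Set.mem_singleton_iff] at hy
      subst hy
      calc y * (x.1 : P) = (y * (x.1 : P) * y⁻¹) * y := by group
        _ = (x.1 : P) * y := by rw [h']⟩
    apply Nat.card_le_card_of_injective ι
    intro x y hxy
    apply Subtype.ext
    apply Subtype.ext
    have h := congrArg Subtype.val hxy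
    exact h
  have h1 := card_ker_comp_le ν (ν.comp ν)
  have h2 := card_ker_comp_le ν ν
  rw [hcube, Subgroup.card_top] at h1
  calc Nat.card ↥B ≤ Nat.card ν.ker * Nat.card (ν.comp ν).ker := h1
    _ ≤ Nat.card ν.ker * (Nat.card ν.ker * Nat.card ν.ker) := Nat.mul_le_mul_left _ h2
    _ = Nat.card ν.ker ^ 3 := by ring
    _ ≤ _ := Nat.pow_le_pow_left hk 3

end Cfsg.Agent.Helper3.NuCube
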