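import Mathlib
import Cfsg.Agent.Helper3.O8XMat

/-! generated checks of the action of the letters on the vectors -/

set_option autoImplicit false
set_option maxRecDepth 1000000

namespace Cfsg.Agent.Helper3.O8X

theorem spec_0 : ∀ v, v < 256 → SpecAt 0 v := by decide +kernel

theorem spec_1 : ∀ v, v < 256 → SpecAt 1 v := by decide +kernel

theorem spec_2 : ∀ v, v < 256 → SpecAt 2 v := by decide +kernel

theorem spec_3 : ∀ v, v < 256 → SpecAt 3 v := by decide +kernel

end Cfsg.Agent.Helper3.O8X
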