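import Mathlib
import Cfsg.Agent.Helper3.O8XMat

/-! generated checks of the action of the letters on the vectors -/

set_option autoImplicit false
set_option maxRecDepth 1000000

namespace Cfsg.Agent.Helper3.O8X

theorem spec_4 : ∀ v, v < 256 → SpecAt 4 v := by decide +kernel

theorem spec_5 : ∀ v, v < 256 → SpecAt 5 v := by decide +kernel

theorem spec_6 : ∀ v, v < 256 → SpecAt 6 v := by decide +kernel

theorem spec_7 : ∀ v, v < 256 → SpecAt 7 v := by decide +kernel

end Cfsg.Agent.Helper3.O8X
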