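import Mathlib
import Cfsg.Prelude.Def_Classical
import Cfsg.Agent.Helper3.O8XTb0
import Cfsg.Agent.Helper3.O8XTb1
import Cfsg.Agent.Helper5.LPC
import Cfsg.Agent.Helper5.LPS
import Cfsg.Agent.Helper5.StemPF
import Cfsg.Agent.Helper8.OmegaEven
import Cfsg.Agent.Helper8.StdForms
import Cfsg.Agent.S0287

/-!
# Generators of `Ω₈⁺(2)`

The four generators `a, b, c, d` of order 7 as elements of the commutator subgroup of the
orthogonal group of the form `Σ xᵢyᵢ` over the integers modulo 2, their relators, the action on the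
256 vectors as a permutation representation, and stabiliser chains: `a, b, c, d` generate the
group, and words in `a, b` spell at least 6048 elements.
-/

set_option autoImplicit false

namespace Cfsg.Agent.Helper3.O8X

open Cfsg.Agent.Helper5.LP Cfsg.Agent.Helper5.StemP Cfsg.Agent.Helper5.TC Cfsg.Agent.Helper5.TCI Matrix

/-- the orthogonal group. -/
abbrev OO : Subgroup (Matrix.GeneralLinearGroup I8 (ZMod 2)) :=
  Cfsg.isometryGroup (ZMod 2) (Cfsg.quadFormPlus 4 (ZMod 2))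

/-- the group: the commutator subgroup of the orthogonal group. -/
abbrev GG : Type := ↥(Cfsg.Omega (ZMod 2) (Cfsg.quadFormPlus 4 (ZMod 2)))

theorem tab_spec : ∀ c, c < 8 → ∀ v, v < 256 → SpecAt c v := by
  intro c hc v hv
  interval_cases c
  · exact spec_0 v hv
  · exact spec_1 v hv
  · exact spec_2 v hv
  · exact spec_3 v hv
  · exact spec_4 v hv
  · exact spec_5 v hv
  · exact spec_6 v hv
  · exact spec_7 v hv

/-! ### the numbering of the vectors -/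

theorem decF_injective : Function.Injective (fun v : Fin 256 => decN v.val) := by
  intro v w h
  have h1 := congrArg encN h
  simp only at h1
  rw [enc_dec v.val v.isLt, enc_dec w.val w.isLt] at h1
  exact Fin.ext h1

theorem decF_bijective : Function.Bijective (fun v : Fin 256 => decN v.val) := by
  rw [Fintype.bijective_iff_injective_and_card]
  refine ⟨decF_injective, ?_⟩
  rw [Fintype.card_fin, Fintype.card_fun, ZMod.card, Fintype.card_sum, Fintype.card_fin]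
  norm_num

/-- the numbering of the vectors. -/
noncomputable def eV : Fin 256 ≃ (I8 → ZMod 2) := Equiv.ofBijective _ decF_bijective

theorem eV_apply (v : Fin 256) : eV v = decN v.val := rfl

/-! ### the letters in the orthogonal group -/

/-- the letters, as invertible matrices. -/
def U (c : ℕ) : Matrix.GeneralLinearGroup I8 (ZMod 2) :=
  if h : c < 8 then
    ⟨N c, N (c + 1 - 2 * (c % 2)), N_inv c h, mul_eq_one_comm.mp (N_inv c h)⟩
  else 1

theorem U_val {c : ℕ} (hc : c < 8) :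
    ((U c : Matrix.GeneralLinearGroup I8 (ZMod 2)) : Matrix I8 I8 (ZMod 2)) = N c := by
  unfold U
  rw [dif_pos hc]

theorem U_mem (c : ℕ) : U c ∈ OO := by
  by_cases hc : c < 8
  · intro u _
    show Cfsg.quadFormPlus 4 (ZMod 2)
      (((U c : Matrix.GeneralLinearGroup I8 (ZMod 2)) : Matrix I8 I8 (ZMod 2)) *ᵥ u) =
        Cfsg.quadFormPlus 4 (ZMod 2) u
    obtain ⟨v, rfl⟩ := decF_bijective.2 u
    obtain ⟨h1, -, h3⟩ := tab_spec c hc v.val v.isLt
    rw [U_val hc]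
    show Cfsg.quadFormPlus 4 (ZMod 2) (N c *ᵥ decN v.val) = Cfsg.quadFormPlus 4 (ZMod 2) (decN v.val)
    rw [h1]
    exact h3
  · unfold U
    rw [dif_neg hc]
    exact Subgroup.one_mem _

/-- the letters, in the orthogonal group. -/
def S0 (c : ℕ) : ↥OO := ⟨U c, U_mem c⟩

theorem S0_val {c : ℕ} (hc : c < 8) :
    (((S0 c : ↥OO) : Matrix.GeneralLinearGroup I8 (ZMod 2)) : Matrix I8 I8 (ZMod 2)) = N c :=
  U_val hc

theorem OO_ext {x y : ↥OO}
    (h : ((x : Matrix.GeneralLinearGroup I8 (ZMod 2)) : Matrix I8 I8 (ZMod 2)) =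
      ((y : Matrix.GeneralLinearGroup I8 (ZMod 2)) : Matrix I8 I8 (ZMod 2))) : x = y :=
  Subtype.ext (Units.ext h)

theorem S0_mul_inv {c : ℕ} (hc : c < 8) : S0 c * S0 (c + 1 - 2 * (c % 2)) = 1 := by
  apply OO_ext
  have hc' : c + 1 - 2 * (c % 2) < 8 := by omega
  rw [Subgroup.coe_mul, Units.val_mul, S0_val hc, S0_val hc']
  exact N_inv c hc

theorem S0_pow (i : ℕ) : S0 (2 * i) ^ 7 = 1 := by
  by_cases hi : i < 4
  · apply OO_ext
    rw [SubmonoidClass.coe_pow, Units.val_pow_eq_pow_val, S0_val (by omega)]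
    have := N_pow i hi
    rwa [List.prod_replicate] at this
  · have : S0 (2 * i) = 1 := by
      apply Subtype.ext
      show U (2 * i) = 1
      unfold U
      rw [dif_neg (by omega)]
    rw [this, one_pow]

/-! ### the commutator subgroup -/

theorem quadFormPlus_eq : Cfsg.quadFormPlus 4 (ZMod 2) =
    ⇑(Cfsg.Agent.Helper8.StdForms.plusForm (ZMod 2) 4) :=
  funext fun v => (Cfsg.Agent.Helper8.StdForms.plusForm_apply (ZMod 2) 4 v).symm

theorem omega_index : (Cfsg.Omega (ZMod 2) (Cfsg.quadFormPlus 4 (ZMod 2))).index = 2 := by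
  rw [quadFormPlus_eq]
  refine (Cfsg.Agent.Helper8.OmegaEven.commutator_eq
    (Cfsg.Agent.Helper8.StdForms.plusForm (ZMod 2) 4) (by decide)
    (Cfsg.Agent.Helper8.StdForms.plusForm_nondeg (ZMod 2) 4) ?_ (Or.inr ?_)).1
  · rw [Fintype.card_sum, Fintype.card_fin]
    norm_num
  · rw [Fintype.card_sum, Fintype.card_fin]
    norm_num

theorem S0_mem_omega (i : ℕ) : S0 (2 * i) ∈ Cfsg.Omega (ZMod 2) (Cfsg.quadFormPlus 4 (ZMod 2)) := by
  have h2 := Subgroup.pow_index_mem (Cfsg.Omega (ZMod 2) (Cfsg.quadFormPlus 4 (ZMod 2)))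
    (S0 (2 * i))
  rw [omega_index] at h2
  have h8 : S0 (2 * i) = (S0 (2 * i) ^ 2) ^ 4 := by
    rw [← pow_mul, show 2 * 4 = 7 + 1 from rfl, pow_succ, S0_pow, one_mul]
  rw [h8]
  exact Subgroup.pow_mem _ h2 4

/-- the generators. -/
def g (i : ℕ) : GG := ⟨S0 (2 * i), S0_mem_omega i⟩

theorem lval_S : ∀ c, c < 8 → ((lval g c : GG) : ↥OO) = S0 c := by
  intro c hc
  obtain ⟨i, rfl | rfl⟩ : ∃ i, c = 2 * i ∨ c = 2 * i + 1 := ⟨c / 2, by omega⟩
  · rw [lval_even]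
    rfl
  · rw [lval_odd]
    have h := S0_mul_inv (c := 2 * i) (by omega)
    rw [show 2 * i + 1 - 2 * (2 * i % 2) = 2 * i + 1 by omega] at h
    rw [Subgroup.coe_inv]
    exact (eq_inv_of_mul_eq_one_right h).symm ▸ rfl

theorem word_val : ∀ l : List ℕ, (∀ c ∈ l, c < 8) →
    ((((l.map (lval g)).prod : GG) : ↥OO) : Matrix.GeneralLinearGroup I8 (ZMod 2)).val =
      (l.map N).prod
  | [], _ => by simp
  | c :: l, h => by
    rw [List.map_cons, List.prod_cons, List.map_cons, List.prod_cons, Subgroup.coe_mul,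
      Subgroup.coe_mul, Units.val_mul, lval_S c (h c List.mem_cons_self),
      S0_val (h c List.mem_cons_self),
      word_val l (fun c hc => h c (List.mem_cons_of_mem _ hc))]

theorem GG_ext {x y : GG}
    (h : (((x : ↥OO) : Matrix.GeneralLinearGroup I8 (ZMod 2)) : Matrix I8 I8 (ZMod 2)) =
      (((y : ↥OO) : Matrix.GeneralLinearGroup I8 (ZMod 2)) : Matrix I8 I8 (ZMod 2))) : x = y :=
  Subtype.ext (OO_ext h)

theorem CC_rel : ∀ r ∈ CC, (r.map (lval g)).prod = 1 := by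
  intro r hr
  apply GG_ext
  rw [word_val r (CC_lt r hr)]
  exact N_rels r hr

theorem g_pow : ∀ i, i < 4 → g i ^ mm i = 1 := by
  intro i _
  apply Subtype.ext
  show S0 (2 * i) ^ 7 = 1
  exact S0_pow i

/-! ### the action on the vectors -/

/-- the action of the invertible matrices on the vectors. -/
def toPermV : Matrix.GeneralLinearGroup I8 (ZMod 2) →* Equiv.Perm (I8 → ZMod 2) where
  toFun x :=
    { toFun := fun v => (x : Matrix I8 I8 (ZMod 2)) *ᵥ v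
      invFun := fun v => ((x⁻¹ : Matrix.GeneralLinearGroup I8 (ZMod 2)) : Matrix I8 I8 (ZMod 2)) *ᵥ v
      left_inv := by
        intro v
        show ((x⁻¹ : Matrix.GeneralLinearGroup I8 (ZMod 2)) : Matrix I8 I8 (ZMod 2)) *ᵥ
          ((x : Matrix I8 I8 (ZMod 2)) *ᵥ v) = v
        rw [Matrix.mulVec_mulVec, ← Units.val_mul, inv_mul_cancel]
        exact Matrix.one_mulVec v
      right_inv := by
        intro v
        show (x : Matrix I8 I8 (ZMod 2)) *ᵥ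
          (((x⁻¹ : Matrix.GeneralLinearGroup I8 (ZMod 2)) : Matrix I8 I8 (ZMod 2)) *ᵥ v) = v
        rw [Matrix.mulVec_mulVec, ← Units.val_mul, mul_inv_cancel]
        exact Matrix.one_mulVec v }
  map_one' := by
    apply Equiv.ext
    intro v
    exact Matrix.one_mulVec v
  map_mul' x y := by
    apply Equiv.ext
    intro v
    show ((x * y : Matrix.GeneralLinearGroup I8 (ZMod 2)) : Matrix I8 I8 (ZMod 2)) *ᵥ v =
      (x : Matrix I8 I8 (ZMod 2)) *ᵥ ((y : Matrix I8 I8 (ZMod 2)) *ᵥ v)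
    rw [Matrix.mulVec_mulVec]
    rfl

theorem toPermV_apply (x : Matrix.GeneralLinearGroup I8 (ZMod 2)) (v : I8 → ZMod 2) :
    toPermV x v = (x : Matrix I8 I8 (ZMod 2)) *ᵥ v := rfl

/-- the action of the group on the vectors. -/
def rhoV : GG →* Equiv.Perm (I8 → ZMod 2) :=
  toPermV.comp ((Subgroup.subtype OO).comp
    (Subgroup.subtype (Cfsg.Omega (ZMod 2) (Cfsg.quadFormPlus 4 (ZMod 2)))))

theorem rhoV_apply (x : GG) (v : I8 → ZMod 2) :
    rhoV x v = (((x : ↥OO) : Matrix.GeneralLinearGroup I8 (ZMod 2)) : Matrix I8 I8 (ZMod 2)) *ᵥ v :=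
  rfl

/-- the permutation representation on the numbers of the vectors. -/
noncomputable def rho : GG →* Equiv.Perm (Fin 256) :=
  (eV.symm.permCongrHom.toMonoidHom).comp rhoV

theorem rho_apply (x : GG) (v : Fin 256) : eV (rho x v) = rhoV x (eV v) := by
  show eV (eV.symm (rhoV x (eV.symm.symm v))) = _
  rw [Equiv.apply_symm_apply]
  rfl

theorem rho_S (c : ℕ) (hc : c < 8) (v : Fin 256) :
    (rho (lval g c) v).val = tabP c v.val := by
  obtain ⟨h1, h2, -⟩ := tab_spec c hc v.val v.isLt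
  have e1 : eV (rho (lval g c) v) = eV ⟨tabP c v.val, h2⟩ := by
    rw [rho_apply, rhoV_apply, lval_S c hc, S0_val hc, eV_apply, eV_apply]
    exact h1
  have e2 := eV.injective e1
  rw [e2]

theorem rho_word : ∀ l : List ℕ, (∀ c ∈ l, c < 8) → ∀ v : Fin 256,
    (rho ((l.map (lval g)).prod) v).val = actL tabP l v.val
  | [], _, v => by
    rw [List.map_nil, List.prod_nil, map_one]
    rfl
  | c :: l, h, v => by
    rw [List.map_cons, List.prod_cons, map_mul, Equiv.Perm.mul_apply,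
      rho_S c (h c List.mem_cons_self),
      rho_word l (fun c hc => h c (List.mem_cons_of_mem _ hc)) v]
    rfl

/-! ### the order -/

theorem card_OO : Nat.card ↥OO = 348364800 := by
  have h := Cfsg.Agent.S0287.result (F := ZMod 2) (q := 2) (by simp) 4 (by norm_num)
  rw [h]
  simp [Finset.prod_range_succ]

theorem card_GG : Nat.card GG = 174182400 := by
  have h := Subgroup.card_mul_index (Cfsg.Omega (ZMod 2) (Cfsg.quadFormPlus 4 (ZMod 2)))
  rw [omega_index, card_OO] at h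
  show Nat.card ↥(Cfsg.Omega (ZMod 2) (Cfsg.quadFormPlus 4 (ZMod 2))) = 174182400
  omega

instance finGG : Finite GG := Nat.finite_of_card_ne_zero (by rw [card_GG]; norm_num)

/-! ### stabiliser chains -/

/-- a level of the stabiliser chain. -/
def levelG0 : Level := (1, [[0], [1], [2], [3], [4], [5], [6], [7]], [(1, 0), (1, 1), (1, 2), (1, 3), (1, 4), (1, 5), (1, 6), (1, 7), (11, 0), (11, 2), (11, 3), (11, 5), (11, 6), (129, 1), (129, 2), (129, 3), (129, 5), (129, 6), (165, 0), (165, 1), (165, 5), (165, 7), (33, 0), (33, 1), (33, 3), (33, 6), (33, 7), (82, 0), (82, 3), (82, 4), (82, 6), (82, 7), (90, 0), (90, 1), (90, 2), (90, 6), (90, 7), (225, 0), (225, 4), (237, 4), (237, 7), (118, 6), (118, 7), (222, 0), (222, 6), (73, 0), (73, 1), (73, 5), (220, 3), (220, 5), (220, 6), (7, 6), (28, 5), (133, 6), (133, 7), (5, 7), (250, 0), (250, 1), (250, 2), (250, 5), (250, 6), (117, 0), (117, 1), (117, 2), (117,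 3), (117, 5), (240, 0), (240, 1), (240, 2), (240, 3), (240, 6), (30, 5), (30, 7), (171, 7), (60, 5), (60, 6), (60, 7), (161, 7), (160, 0), (160, 3), (160, 4), (160, 6), (104, 1), (104, 2), (104, 4), (104, 5), (104, 7), (18, 7), (24, 4), (24, 7), (111, 6), (111, 7), (144, 0), (144, 6), (15, 1), (15, 3), (105, 7), (52, 6), (207, 0), (207, 4), (207, 6), (55, 0), (55, 1), (55, 2), (180, 4), (41, 6), (132, 0), (132, 2), (132, 4), (132, 5), (88, 4), (131, 7), (14, 3), (14, 4), (14, 5), (14, 6), (126, 5), (126, 7), (231, 5), (150, 6), (208, 6), (155, 0), (155, 2), (155, 4), (63, 4), (195, 5), (195, 6), (20, 7), (95, 2), (95, 7), (230, 0), (230, 5), (252, 0), (192, 1)])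

/-- a level of the stabiliser chain. -/
def levelG1 : Level := (2, [[7,7,0], [7,4,1], [2,4,2]], [(2, 0), (2, 1), (2, 2), (10, 1), (10, 2), (97, 0), (97, 1), (97, 2), (234, 0), (234, 1), (234, 2), (14, 0), (14, 1), (14, 2), (236, 1), (236, 2), (40, 0), (40, 1), (40, 2), (130, 0), (130, 1), (130, 2), (135, 0), (135, 1), (135, 2), (193, 0), (193, 2), (205, 0), (205, 2), (66, 0), (66, 1), (4, 0), (4, 1), (4, 2), (174, 0), (174, 2), (132, 2), (12, 2), (192, 1), (192, 2), (96, 1), (133, 0), (133, 1), (133, 2), (102, 0), (224, 0), (33, 0), (33, 1), (194, 1), (194, 2), (231, 1), (231, 2), (171, 0), (171, 1), (164, 2), (161, 2), (75, 2), (8, 1), (134, 0), (41, 2), (206, 0), (206, 2), (237, 1), (37, 2), (235, 2), (45, 2), (73, 1), (111, 0), (103, 2)])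

/-- a level of the stabiliser chain. -/
def levelG2 : Level := (4, [[7,7,0,7,7,0], [3,5,3,0,5,7,0,2,4,2,7,7,0], [0,5,6,1,6,4,1,7,7,0,2,4,2], [0,5,6,2,4,2,7,4,1,7,4,1,7,4,1]], [(4, 0), (4, 1), (4, 2), (4, 3), (12, 2), (12, 3), (14, 0), (14, 2), (14, 3), (134, 0), (134, 2), (134, 3), (131, 3), (74, 1), (74, 3), (192, 1), (192, 2), (6, 2), (194, 1), (194, 2), (207, 2), (207, 3), (129, 3), (135, 0), (5, 0), (5, 1), (75, 2), (73, 2), (11, 3), (132, 3), (66, 1), (66, 3), (206, 2), (206, 3), (195, 2)])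

/-- a level of the stabiliser chain. -/
def levelG3 : Level := (8, [[3,5,3,0,5,7,0,2,4,2,7,7,0,7,7,0,7,7,0], [0,5,6,1,6,4,1,7,7,0,2,4,2,0,5,6,1,6,4,1,7,7,0,2,4,2,0,5,6,1,6,4,1,7,7,0,2,4,2], [3,5,3,1,6,6,0,5,7,0,7,4,1,1,6,6,1,6,6,3,5,3,0,5,7,0,2,4,2,7,7,0,0,5,6,1,6,4,1,7,7,0,2,4,2], [1,6,6,3,5,3,1,6,4,1,2,4,2,1,6,6,1,6,6,0,5,6,1,6,4,1,7,7,0,2,4,2,0,5,6,2,4,2,7,4,1,7,4,1,7,4,1], [1,6,6,3,5,3,1,6,4,1,2,4,2,0,5,6,0,5,6,0,5,6,3,5,3,7,4,1,7,7,0,7,7,0,0,5,6,2,4,2,7,4,1,7,4,1,7,4,1], [1,6,6,1,6,6,0,5,6,0,5,6,0,5,6,3,5,3,1,6,4,1,7,7,0,2,4,2,0,5,6,1,6,4,1,7,7,0,2,4,2,7,7,0,7,7,0]], [(8, 0), (8, 1), (8, 2), (8, 3), (10, 2), (15, 2), (9, 3)])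

/-- a level of the stabiliser chain. -/
def levelG4 : Level := (16, [[3,5,3,0,5,7,0,2,4,2,7,7,0,7,7,0,7,7,0,3,5,3,0,5,7,0,2,4,2,7,7,0,7,7,0,7,7,0], [1,6,6,1,6,6,1,6,6,3,5,3,1,6,4,1,2,4,2,1,6,6,1,6,6,0,5,6,0,5,6,0,5,6,3,5,3,1,6,4,1,7,7,0,2,4,2,0,5,6,1,6,4,1,7,7,0,2,4,2,7,7,0,7,7,0], [1,6,6,1,6,6,0,5,6,0,5,6,0,5,6,3,5,3,1,6,4,1,7,7,0,2,4,2,0,5,6,1,6,4,1,7,7,0,2,4,2,7,7,0,7,7,0,3,5,3,0,5,7,0,2,4,2,7,7,0,7,7,0,7,7,0], [1,6,6,1,6,6,1,6,6,3,5,3,1,6,4,1,2,4,2,1,6,6,3,5,3,1,6,4,1,2,4,2,0,5,6,0,5,6,0,5,6,3,5,3,7,4,1,7,7,0,7,7,0,0,5,6,2,4,2,7,4,1,7,4,1,7,4,1], [1,6,6,3,5,3,1,6,4,1,2,4,2,1,6,6,1,6,6,0,5,6,1,6,4,1,7,7,0,2,4,2,0,5,6,2,4,2,7,4,1,7,4,1,7,4,1,1,6,6,3,5,3,1,6,4,1,2,4,2,1,6,6,1,6,6,0,5,6,1,6,4,1,7,7,0,2,4,2,0,5,6,2,4,2,7,4,1,7,4,1,7,4,1], [0,5,6,0,5,6,0,5,6,3,5,3,7,4,1,3,5,3,1,6,6,0,5,7,0,7,4,1,7,7,0,7,7,0,3,5,3,0,5,7,0,2,4,2,7,7,0,0,5,6,1,6,4,1,7,7,0,2,4,2,0,5,6,1,6,4,1,7,7,0,2,4,2,0,5,6,1,6,4,1,7,7,0,0,5,7,0,2,4,2,7,7,0,7,7,0,7,7,0]],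 [(16, 0), (16, 4), (16, 5), (18, 4), (18, 5), (20, 5), (22, 5)])

/-- a level of the stabiliser chain. -/
def levelG5 : Level := (32, [[1,6,6,1,6,6,0,5,6,0,5,6,0,5,6,3,5,3,1,6,4,1,7,7,0,2,4,2,0,5,6,1,6,4,1,7,7,0,2,4,2,7,7,0,7,7,0,3,5,3,0,5,7,0,2,4,2,7,7,0,7,7,0,7,7,0], [1,6,6,1,6,6,1,6,6,3,5,3,1,6,4,1,2,4,2,1,6,6,1,6,6,1,6,6,3,5,3,1,6,4,1,2,4,2,1,6,6,1,6,6,1,6,6,3,5,3,1,6,4,1,2,4,2,1,6,6,1,6,6,0,5,6,0,5,6,0,5,6,3,5,3,1,6,4,1,7,7,0,2,4,2,0,5,6,1,6,4,1,7,7,0,2,4,2,7,7,0,7,7,0], [1,6,6,1,6,6,1,6,6,3,5,3,1,6,4,1,2,4,2,1,6,6,1,6,6,1,6,6,3,5,3,1,6,4,1,2,4,2,1,6,6,1,6,6,1,6,6,3,5,3,1,6,4,1,2,4,2,1,6,6,3,5,3,1,6,4,1,2,4,2,0,5,6,0,5,6,0,5,6,3,5,3,7,4,1,7,7,0,7,7,0,0,5,6,2,4,2,7,4,1,7,4,1,7,4,1]], [(32, 1), (32, 2), (36, 2)])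

/-- a level of the stabiliser chain. -/
def levelG6 : Level := (64, [[1,6,6,1,6,6,0,5,6,0,5,6,0,5,6,3,5,3,1,6,4,1,7,7,0,2,4,2,0,5,6,1,6,4,1,7,7,0,2,4,2,7,7,0,7,7,0,3,5,3,0,5,7,0,2,4,2,7,7,0,7,7,0,7,7,0]], [(64, 0)])

/-- the stabiliser chain. -/
def levelGs : List Level := [levelG0, levelG1, levelG2, levelG3, levelG4, levelG5, levelG6]

/-- a level of the stabiliser chain. -/
def levelU0 : Level := (1, [[0], [1], [2], [3]], [(1, 0), (1, 1), (1, 2), (1, 3), (11, 0), (11, 2), (11, 3), (129, 1), (129, 2), (129, 3), (165, 0), (165, 1), (33, 0), (33, 1), (33, 3), (118, 0), (118, 2), (222, 0), (222, 1), (73, 0), (73, 1), (28, 1), (28, 3), (133, 1), (5, 0), (65, 2), (65, 3), (97, 1), (171, 2), (60, 1), (60, 3), (126, 0), (231, 2), (220, 2), (237, 0)])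

/-- a level of the stabiliser chain. -/
def levelU1 : Level := (2, [[0,2,2,2], [0,0,3,0,0]], [(2, 0), (2, 1), (14, 0), (194, 0), (194, 1), (192, 1)])

/-- a level of the stabiliser chain. -/
def levelU2 : Level := (4, [[3,3,3,0,3,0,0,0,2,2,2], [0,0,3,0,0,0,2,2,2,0,0,3,0,0]], [(4, 0), (4, 1), (6, 1), (134, 0), (132, 0)])

/-- a level of the stabiliser chain. -/
def levelU3 : Level := (32, [[3,3,3,0,3,0,0,0,0,3,0,0,0,2,2,2], [3,3,3,1,1,1,2,1,2,2,2,0,0,3,0,0,0,2,2,2,0,0,3,0,0,0,0,3,0,0,0,2,2,2,0,0,3,0,0]], [(32, 0)])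

/-- a level of the stabiliser chain. -/
def levelU4 : Level := (64, [[3,3,3,1,1,1,2,1,1,1,1,2,1,1,1,1,2,1,2,2,2,0,0,3,0,0,0,2,2,2,0,0,3,0,0,0,0,3,0,0,0,2,2,2,0,0,3,0,0]], [(64, 0)])

/-- the stabiliser chain. -/
def levelUs : List Level := [levelU0, levelU1, levelU2, levelU3, levelU4]


set_option maxRecDepth 1000000 in
theorem chainG_ok : chainOK tabP (2 * 4) 256 [] levelGs = true :=
  chainOK_of_F (by decide +kernel)

theorem chainG_prod : chainProd levelGs = 174182400 := by decide +kernel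

set_option maxRecDepth 1000000 in
theorem chainU_ok : chainOK tabP (2 * 2) 256 [] levelUs = true :=
  chainOK_of_F (by decide +kernel)

theorem chainU_prod : chainProd levelUs = 6048 := by decide +kernel

/-- a group whose words act on a table as prescribed by a homomorphism to the group. -/
theorem actsOn_of_hom {P : Type*} [Group P] (π : P →* GG) (e : List ℕ → P) (k : ℕ) (hk : k ≤ 8)
    (he : ∀ l : List ℕ, (∀ c ∈ l, c < k) → π (e l) = (l.map (lval g)).prod) :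
    ActsOn (rho.comp π) e k tabP := by
  constructor
  intro l hl v
  rw [MonoidHom.comp_apply, he l hl]
  exact rho_word l (fun c hc => lt_of_lt_of_le (hl c hc) hk) v

/-- the four generators generate the group. -/
theorem g_closure : Subgroup.closure {y | ∃ i, i < 4 ∧ y = g i} = ⊤ := by
  classical
  set H : Subgroup GG := Subgroup.closure {y | ∃ i, i < 4 ∧ y = g i} with hH
  have hmem : ∀ l : List ℕ, (∀ c ∈ l, c < 2 * 4) → (l.map (lval g)).prod ∈ H := by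
    intro l hl
    apply Subgroup.list_prod_mem
    intro y hy
    obtain ⟨c, hc, rfl⟩ := List.mem_map.mp hy
    have hi : c / 2 < 4 := by have := hl c hc; omega
    unfold lval
    split_ifs
    · exact Subgroup.subset_closure ⟨c / 2, hi, rfl⟩
    · exact inv_mem (Subgroup.subset_closure ⟨c / 2, hi, rfl⟩)
  let e : List ℕ → H := fun l =>
    if h : ∀ c ∈ l, c < 2 * 4 then ⟨(l.map (lval g)).prod, hmem l h⟩ else 1
  have hA : ActsOn (rho.comp H.subtype) e (2 * 4) tabP := by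
    apply actsOn_of_hom H.subtype e (2 * 4) (by norm_num)
    intro l hl
    show ((e l : H) : GG) = _
    simp only [e]
    rw [dif_pos hl]
  have h1 := card_ge_of_chain hA levelGs chainG_ok
  rw [chainG_prod] at h1
  have h2 : Nat.card H ≤ Nat.card GG := Subgroup.card_le_card_group H
  exact Subgroup.eq_top_of_card_eq H (by rw [card_GG] at h2 ⊢; omega)

/-- the first generator has order 7. -/
theorem order_g0 : orderOf (g 0) = 7 := by
  have h7 : g 0 ^ 7 = 1 := g_pow 0 (by norm_num)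
  have hne : g 0 ≠ 1 := by
    intro h
    have h1 := S0_val (c := 0) (by norm_num)
    have h2 : S0 0 = ((g 0 : GG) : ↥OO) := rfl
    rw [h2, h] at h1
    exact N0_ne h1.symm
  have : Fact (Nat.Prime 7) := ⟨by norm_num⟩
  exact orderOf_eq_prime h7 hne

end Cfsg.Agent.Helper3.O8X
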