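import Mathlib
import Cfsg.Agent.Helper3.O8CovA
import Cfsg.Agent.Helper3.O8PBSum
import Cfsg.Agent.Helper3.LTCRel
import Cfsg.Agent.Helper5.LTCI

/-!
# The covering group of exponent 120 of the subgroup `Sp₆(2)` of `Ω₈⁺(2)`

Labelled Todd–Coxeter over the image of the covering group of the subgroup of order 6048
(240 cosets): the covering group of the subgroup generated by `a, b, c` has order at most
`2 * 1451520`, and all the central words but the first one have trivial value in it.
-/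

set_option autoImplicit false

namespace Cfsg.Agent.Helper3.O8P

open Cfsg Cfsg.Agent.Helper3.O8X Cfsg.Agent.Helper5.StemP Cfsg.Agent.Helper5.LP Cfsg.Agent.Helper5.LTC
  Cfsg.Agent.Helper5.TC Cfsg.Agent.Helper5.TCI

theorem CS2_lt : ∀ r ∈ CS ++ CS, ∀ c ∈ r, c < 2 * 3 := by
  intro r hr
  rcases List.mem_append.mp hr with h | h <;> exact CS_lt r h

theorem CS_rel : ∀ r ∈ CS, (r.map (lval g)).prod = 1 := fun r hr => CC_rel r (CS_sub r hr)

theorem CS2_rel : ∀ r ∈ CS ++ CS, (r.map (lval g)).prod = 1 := by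
  intro r hr
  rcases List.mem_append.mp hr with h | h <;> exact CS_rel r h

theorem g_pow3 : ∀ i, i < 3 → g i ^ mm i = 1 := fun i hi => g_pow i (by omega)

/-- the covering homomorphism of the subgroup `Sp₆(2)`. -/
noncomputable def piS : CovG 3 mm CS CS 120 →* GG :=
  coverHomU 3 mm CS CS 120 CS2_lt g g_pow3 CS2_rel

theorem piS_ev (l : List ℕ) (hl : ∀ c ∈ l, c < 2 * 3) :
    piS (ev (2 * 3) (coverRels 3 mm CS CS 120) l) = (l.map (lval g)).prod :=
  coverHomU_ev 3 mm CS CS 120 CS2_lt g g_pow3 CS2_rel l hl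

theorem CU_lt6 : ∀ r ∈ CU, ∀ c ∈ r, c < 2 * 3 := fun r hr c hc => by
  have := CU_lt r hr c hc
  omega

theorem evS_eq (l : List ℕ) (hl : ∀ c ∈ l, c < 2 * 2) :
    (l.map (lval (cgen 3 mm CS CS 120))).prod = ev (2 * 3) (coverRels 3 mm CS CS 120) l :=
  (ev_eq_prod 3 mm CS CS 120 l (fun c hc => by have := hl c hc; omega)).symm

theorem relsS_hold : ∀ l ∈ coverRels 2 mm CU CU 120,
    (l.map (lval (cgen 3 mm CS CS 120))).prod = 1 := by
  apply coverRels_hold
  · intro i hi
    exact cgen_pow 3 mm CS CS 120 (i := i) (by omega)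
  · intro r hr
    rw [evS_eq r (CU_lt r hr)]
    exact cover_center 3 mm CS CS 120 (CU_sub r hr) (CU_lt6 r hr)
  · intro r hr
    rw [evS_eq r (CU_lt r hr), ev_pow]
    exact ev_rel (mem_coverRels_T 3 mm CS CS 120 (CU_sub r hr))

/-- the natural map from the covering group of the subgroup of order 6048. -/
noncomputable def phiS : CovG 2 mm CU CU 120 →* CovG 3 mm CS CS 120 :=
  lift (lval (cgen 3 mm CS CS 120)) (coverRels_lt 2 mm CU CU 120 CU2_lt) relsS_hold

theorem phiS_ev (l : List ℕ) (hl : ∀ c ∈ l, c < 2 * 2) :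
    phiS (ev (2 * 2) (coverRels 2 mm CU CU 120) l) = ev (2 * 3) (coverRels 3 mm CS CS 120) l := by
  unfold phiS
  rw [lift_ev _ _ _ l hl, evS_eq l hl]

/-- the image of the covering group of the subgroup of order 6048. -/
noncomputable def kS : Subgroup (CovG 3 mm CS CS 120) := phiS.range

instance kS_fin : Finite kS :=
  Finite.of_surjective phiS.rangeRestrict phiS.rangeRestrict_surjective

theorem kS_card : Nat.card kS ≤ 6048 :=
  (Nat.card_le_card_of_surjective phiS.rangeRestrict phiS.rangeRestrict_surjective).trans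
    card_le_U.2

theorem compS_eq : piS.comp phiS = piU := by
  apply covG_hom_ext
  intro c hc
  have hl : ∀ c' ∈ [c], c' < 2 * 2 := by
    intro c' hc'
    rw [List.mem_singleton] at hc'
    omega
  have hl6 : ∀ c' ∈ [c], c' < 2 * 3 := fun c' hc' => by have := hl c' hc'; omega
  rw [MonoidHom.comp_apply, phiS_ev [c] hl, piS_ev [c] hl6, piU_ev [c] hl]

theorem kS_map_card : 6048 ≤ Nat.card (kS.map piS) := by
  have h : kS.map piS = piU.range := by
    unfold kS
    rw [← MonoidHom.range_comp, compS_eq]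
  rw [h]
  exact card_piU_range

theorem kS_inj : ∀ l, phi (zC 3 mm CS CS 120) l ∈ kS → phi (zC 3 mm CS CS 120) l = 1 := by
  intro l hl
  apply eq_one_of_map_card kS piS 6048 kS_card kS_map_card _ hl
  have hker : ∀ i, zC 3 mm CS CS 120 i ∈ piS.ker := by
    intro i
    unfold zC
    by_cases hi : i < CS.length
    · rw [List.getD_eq_getElem CS [] hi]
      exact coverHomU_ker 3 mm CS CS 120 CS2_lt g g_pow3 CS2_rel (List.getElem_mem hi)
    · rw [List.getD_eq_default CS [] (by omega), ev_nil]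
      exact Subgroup.one_mem _
  exact MonoidHom.mem_ker.mp (phi_mem _ hker l)

/-- the words of the subgroup of order 6048 are trivial in the covering group. -/
theorem evS_CU_eq_one : ∀ r ∈ CU, ev (2 * 3) (coverRels 3 mm CS CS 120) r = 1 := by
  intro r hr
  rw [← phiS_ev r (CU_lt r hr), ev_CU_eq_one r hr, map_one]

theorem zCS_tail : ∀ i, 6 ≤ i → zC 3 mm CS CS 120 i = 1 := by
  intro i hi
  unfold zC
  have e : CS.getD i [] = CU.getD (i - 6) [] := by
    rw [CS_eq]
    exact List.getD_append_right _ _ _ _ hi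
  rw [e]
  by_cases hlt : i - 6 < CU.length
  · rw [List.getD_eq_getElem CU [] hlt]
    exact evS_CU_eq_one _ (List.getElem_mem hlt)
  · rw [List.getD_eq_default CU [] (by omega), ev_nil]

theorem words_lt_B : ∀ wi, ∀ c ∈ O8PB.cert.W wi, c < 2 * 3 := by
  intro wi c hc
  have h : ∀ w ∈ O8PB.words, ∀ c ∈ w, c < 6 := by decide +kernel
  change c ∈ O8PB.words.getD wi [] at hc
  by_cases hwi : wi < O8PB.words.length
  · rw [List.getD_eq_getElem _ _ hwi] at hc
    exact h _ (List.getElem_mem hwi) c hc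
  · rw [List.getD_eq_default _ _ (by omega)] at hc
    simp at hc

set_option maxRecDepth 1000000 in
theorem wordOK_B : ∀ wi, wi < O8PB.cert.nrel →
    wordOK2 (coverRels 3 mm CS CS 120) CS 6 (O8PB.cert.W wi) (O8PB.cert.δ wi)
      (O8PB.origs.getD wi 0) = true := by decide +kernel

theorem subW0_B : O8PB.cert.W 99 = [0] := by decide +kernel

theorem subW1_B : O8PB.cert.W 100 = [2] := by decide +kernel

theorem letter_mem_kS (c : ℕ) (hc : c < 2 * 2) :
    ev (2 * 3) (coverRels 3 mm CS CS 120) [c] ∈ kS := by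
  refine ⟨ev (2 * 2) (coverRels 2 mm CU CU 120) [c], ?_⟩
  apply phiS_ev
  intro c' hc'
  rw [List.mem_singleton] at hc'
  omega

theorem hsubs_B : ∀ wi, O8PB.cert.nrel ≤ wi → wi < O8PB.cert.nw →
    ev (2 * 3) (coverRels 3 mm CS CS 120) (O8PB.cert.W wi) ∈ kS := by
  intro wi h1 h2
  have h1' : 99 ≤ wi := h1
  have h2' : wi < 101 := h2
  interval_cases wi
  · rw [subW0_B]
    exact letter_mem_kS 0 (by norm_num)
  · rw [subW1_B]
    exact letter_mem_kS 2 (by norm_num)

theorem card_le_S : Finite (CovG 3 mm CS CS 120) ∧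
    Nat.card (CovG 3 mm CS CS 120) ≤ 2903040 := by
  have h := covG_card_le_tail 3 mm CS CS 120 O8PB.cert rfl rfl rfl (by norm_num)
    (fun r hr => hr) CS_lt 6 (by norm_num) zCS_tail
    words_lt_B (fun wi => O8PB.origs.getD wi 0) wordOK_B kS hsubs_B
    kS_inj O8PB.hchk O8PB.tab (by decide +kernel) (by decide)
    O8PB.hT O8PB.js O8PB.hjs 0 2 (by norm_num) (by norm_num) O8PB.cs0 O8PB.h0
    (fun i => O8PB.as_.getD i 0) (fun i => O8PB.css.getD i []) O8PB.hgs
  refine ⟨h.1, h.2.trans ?_⟩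
  have hN : O8PB.tab.N = 240 := rfl
  rw [hN]
  calc Nat.card kS * 240 * 2 ≤ 6048 * 240 * 2 :=
        Nat.mul_le_mul_right _ (Nat.mul_le_mul_right _ kS_card)
    _ = 2903040 := by norm_num

instance fin_S : Finite (CovG 3 mm CS CS 120) := card_le_S.1

/-- all the central words but the first one have trivial value. -/
theorem zCS_eq_one : ∀ i, 1 ≤ i → zC 3 mm CS CS 120 i = 1 := by
  intro i hi
  by_cases h6 : 6 ≤ i
  · exact zCS_tail i h6
  · have h := (Cfsg.Agent.Helper3.LTCRel.covG_gens_tail 3 mm CS CS 120 O8PB.cert rfl rfl rfl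
      (by norm_num) (fun r hr => hr) CS_lt 6 (by norm_num) zCS_tail
      words_lt_B (fun wi => O8PB.origs.getD wi 0) wordOK_B kS hsubs_B
      kS_inj O8PB.hchk O8PB.js O8PB.hjs 0 2 (by norm_num) O8PB.cs0 O8PB.h0
      (fun i => O8PB.as_.getD i 0) (fun i => O8PB.css.getD i []) O8PB.hgs).2 i (by omega)
    rw [h]
    have e : O8PB.as_.getD i 0 = 0 := by
      have h5 : i < 6 := by omega
      interval_cases i <;> rfl
    rw [e, pow_zero]

end Cfsg.Agent.Helper3.O8P
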