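import Mathlib
import Cfsg.Agent.Helper3.O8CovB
import Cfsg.Agent.Helper3.O8PCSum
import Cfsg.Agent.Helper3.LTCRel
import Cfsg.Agent.Helper5.LTCI

/-!
# The covering group of exponent 120 of `Ω₈⁺(2)`: the order bound

Labelled Todd–Coxeter over the image of the covering group of the subgroup `Sp₆(2)` (120 cosets).
This image, of order at most `2 * 1451520`, may meet the central group: the relations among the
central elements hold modulo it only, and the covering group has order at most `4 * 174182400`.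
-/

set_option autoImplicit false

namespace Cfsg.Agent.Helper3.O8P

open Cfsg Cfsg.Agent.Helper3.O8X Cfsg.Agent.Helper5.StemP Cfsg.Agent.Helper5.LP Cfsg.Agent.Helper5.LTC
  Cfsg.Agent.Helper5.TC Cfsg.Agent.Helper5.TCI

theorem CC2_lt : ∀ r ∈ CC ++ CC, ∀ c ∈ r, c < 2 * 4 := by
  intro r hr
  rcases List.mem_append.mp hr with h | h <;> exact CC_lt r h

theorem CC2_rel : ∀ r ∈ CC ++ CC, (r.map (lval g)).prod = 1 := by
  intro r hr
  rcases List.mem_append.mp hr with h | h <;> exact CC_rel r h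

/-- the covering homomorphism. -/
noncomputable def piF : CovG 4 mm CC CC 120 →* GG :=
  coverHomU 4 mm CC CC 120 CC2_lt g g_pow CC2_rel

theorem piF_surj : Function.Surjective piF :=
  coverHomU_surjective 4 mm CC CC 120 CC2_lt g g_pow CC2_rel g_closure

theorem piF_ev (l : List ℕ) (hl : ∀ c ∈ l, c < 2 * 4) :
    piF (ev (2 * 4) (coverRels 4 mm CC CC 120) l) = (l.map (lval g)).prod :=
  coverHomU_ev 4 mm CC CC 120 CC2_lt g g_pow CC2_rel l hl

theorem CS_lt8 : ∀ r ∈ CS, ∀ c ∈ r, c < 2 * 4 := fun r hr c hc => by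
  have := CS_lt r hr c hc
  omega

theorem evF_eq (l : List ℕ) (hl : ∀ c ∈ l, c < 2 * 3) :
    (l.map (lval (cgen 4 mm CC CC 120))).prod = ev (2 * 4) (coverRels 4 mm CC CC 120) l :=
  (ev_eq_prod 4 mm CC CC 120 l (fun c hc => by have := hl c hc; omega)).symm

theorem relsF_hold : ∀ l ∈ coverRels 3 mm CS CS 120,
    (l.map (lval (cgen 4 mm CC CC 120))).prod = 1 := by
  apply coverRels_hold
  · intro i hi
    exact cgen_pow 4 mm CC CC 120 (i := i) (by omega)
  · intro r hr
    rw [evF_eq r (CS_lt r hr)]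
    exact cover_center 4 mm CC CC 120 (CS_sub r hr) (CS_lt8 r hr)
  · intro r hr
    rw [evF_eq r (CS_lt r hr), ev_pow]
    exact ev_rel (mem_coverRels_T 4 mm CC CC 120 (CS_sub r hr))

/-- the natural map from the covering group of the subgroup `Sp₆(2)`. -/
noncomputable def phiF : CovG 3 mm CS CS 120 →* CovG 4 mm CC CC 120 :=
  lift (lval (cgen 4 mm CC CC 120)) (coverRels_lt 3 mm CS CS 120 CS2_lt) relsF_hold

theorem phiF_ev (l : List ℕ) (hl : ∀ c ∈ l, c < 2 * 3) :
    phiF (ev (2 * 3) (coverRels 3 mm CS CS 120) l) = ev (2 * 4) (coverRels 4 mm CC CC 120) l := by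
  unfold phiF
  rw [lift_ev _ _ _ l hl, evF_eq l hl]

/-- the image of the covering group of the subgroup `Sp₆(2)`. -/
noncomputable def kF : Subgroup (CovG 4 mm CC CC 120) := phiF.range

instance kF_fin : Finite kF :=
  Finite.of_surjective phiF.rangeRestrict phiF.rangeRestrict_surjective

theorem kF_card : Nat.card kF ≤ 2903040 :=
  (Nat.card_le_card_of_surjective phiF.rangeRestrict phiF.rangeRestrict_surjective).trans
    card_le_S.2

/-- the words of the subgroup `Sp₆(2)` but the first one are trivial in the covering group. -/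
theorem zC_tail : ∀ i, 8 ≤ i → zC 4 mm CC CC 120 i = 1 := by
  intro i hi
  unfold zC
  have e : CC.getD i [] = CS.getD (i - 7) [] := by
    rw [CC_eq]
    exact List.getD_append_right _ _ _ _ (by show 7 ≤ i; omega)
  rw [e]
  by_cases hlt : i - 7 < CS.length
  · rw [List.getD_eq_getElem CS [] hlt]
    have h1 := zCS_eq_one (i - 7) (by omega)
    unfold zC at h1
    rw [List.getD_eq_getElem CS [] hlt] at h1
    rw [← phiF_ev _ (CS_lt _ (List.getElem_mem hlt)), h1, map_one]
  · rw [List.getD_eq_default CS [] (by omega), ev_nil]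

theorem words_lt_C : ∀ wi, ∀ c ∈ O8PC.cert.W wi, c < 2 * 4 := by
  intro wi c hc
  have h : ∀ w ∈ O8PC.words, ∀ c ∈ w, c < 8 := by decide +kernel
  change c ∈ O8PC.words.getD wi [] at hc
  by_cases hwi : wi < O8PC.words.length
  · rw [List.getD_eq_getElem _ _ hwi] at hc
    exact h _ (List.getElem_mem hwi) c hc
  · rw [List.getD_eq_default _ _ (by omega)] at hc
    simp at hc

set_option maxRecDepth 1000000 in
theorem wordOK_C : ∀ wi, wi < O8PC.cert.nrel →
    wordOK2 (coverRels 4 mm CC CC 120) CC 8 (O8PC.cert.W wi) (O8PC.cert.δ wi)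
      (O8PC.origs.getD wi 0) = true := by decide +kernel

theorem subW0_C : O8PC.cert.W 186 = [0] := by decide +kernel

theorem subW1_C : O8PC.cert.W 187 = [2] := by decide +kernel

theorem subW2_C : O8PC.cert.W 188 = [4] := by decide +kernel

theorem letter_mem_kF (c : ℕ) (hc : c < 2 * 3) :
    ev (2 * 4) (coverRels 4 mm CC CC 120) [c] ∈ kF := by
  refine ⟨ev (2 * 3) (coverRels 3 mm CS CS 120) [c], ?_⟩
  apply phiF_ev
  intro c' hc'
  rw [List.mem_singleton] at hc'
  omega

theorem hsubs_C : ∀ wi, O8PC.cert.nrel ≤ wi → wi < O8PC.cert.nw →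
    ev (2 * 4) (coverRels 4 mm CC CC 120) (O8PC.cert.W wi) ∈ kF := by
  intro wi h1 h2
  have h1' : 186 ≤ wi := h1
  have h2' : wi < 189 := h2
  interval_cases wi
  · rw [subW0_C]
    exact letter_mem_kF 0 (by norm_num)
  · rw [subW1_C]
    exact letter_mem_kF 2 (by norm_num)
  · rw [subW2_C]
    exact letter_mem_kF 4 (by norm_num)

theorem card_le_F : Finite (CovG 4 mm CC CC 120) ∧
    Nat.card (CovG 4 mm CC CC 120) ≤ 174182400 * 4 := by
  have h := Cfsg.Agent.Helper3.LTCRel.covG_card_le_tail_rel 4 mm CC CC 120 O8PC.cert rfl rfl rfl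
    (by norm_num) (fun r hr => hr) CC_lt 8 (by norm_num) zC_tail
    words_lt_C (fun wi => O8PC.origs.getD wi 0) wordOK_C kF hsubs_C
    O8PC.hchk O8PC.tab (by decide +kernel) (by decide)
    O8PC.hT O8PC.js O8PC.hjs 6 2 (by norm_num) (by norm_num) O8PC.cs0 O8PC.h0
    (fun i => O8PC.as_.getD i 0) (fun i => O8PC.css.getD i []) O8PC.hgs
  refine ⟨h.1, h.2.trans ?_⟩
  have hN : O8PC.tab.N = 120 := rfl
  rw [hN]
  calc Nat.card kF * 120 * 2 ≤ 2903040 * 120 * 2 :=
        Nat.mul_le_mul_right _ (Nat.mul_le_mul_right _ kF_card)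
    _ = 174182400 * 4 := by norm_num

instance fin_F : Finite (CovG 4 mm CC CC 120) := card_le_F.1

end Cfsg.Agent.Helper3.O8P
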