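import Mathlib
import Cfsg.Agent.Helper5.StemPK

/-!
# Recognition of central extensions with kernel `Cₙ × Cₙ`

A generalisation of `Cfsg.Agent.Helper5.StemP.stem_c4c4`: a central extension of order at most
`n² |G|` with two central elements of the kernel whose `n²` products `z₁ ^ a z₂ ^ b` are
distinguished by a function `pt`, which does not distinguish the `n`-th powers from the identity,
is a stem extension with kernel `Cₙ × Cₙ`, when the group is generated by elements of orders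
prime to `n`.
-/

set_option autoImplicit false

namespace Cfsg.Agent.Helper3.StemCC

open Cfsg.Agent.Helper5.StemP Cfsg.Agent.Helper3.SchurMult

universe u v

variable {G : Type v} [Group G] {E : Type u} [Group E]

theorem stem_cncn [Finite E] [Finite G] (n : ℕ) [NeZero n] (π : E →* G)
    (hπ : Function.Surjective π)
    (hcard : Nat.card E ≤ Nat.card G * (n * n))
    (z1 z2 : E) (hz1c : z1 ∈ Subgroup.center E) (hz2c : z2 ∈ Subgroup.center E)
    (hz1k : z1 ∈ π.ker) (hz2k : z2 ∈ π.ker)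
    (pt : E → ℕ)
    (hinj : ∀ a b a' b' : ℕ, a < n → b < n → a' < n → b' < n →
      pt (z1 ^ a * z2 ^ b) = pt (z1 ^ a' * z2 ^ b') → a = a' ∧ b = b')
    (h41 : pt (z1 ^ n) = pt 1) (h42 : pt (z2 ^ n) = pt 1)
    (S : Set E) (hS : Subgroup.closure S = ⊤) (M : ℕ) (hM : ∀ x ∈ S, x ^ M = 1)
    (hcop : M.Coprime n) :
    Cfsg.IsStemExtension π ∧ (∀ y ∈ π.ker, y ^ n = 1) ∧
      Nonempty (π.ker ≃* Multiplicative (ZMod n × ZMod n)) := by
  have hn : 0 < n := Nat.pos_of_ne_zero (NeZero.ne n)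
  have hkle : Nat.card π.ker ≤ n * n := by
    rw [card_eq_card_mul_ker π hπ] at hcard
    exact Nat.le_of_mul_le_mul_left hcard Nat.card_pos
  have hcomm : Commute z1 z2 := ((Subgroup.mem_center_iff.mp hz1c) z2).symm
  let f : Fin n × Fin n → π.ker := fun p =>
    ⟨z1 ^ p.1.val * z2 ^ p.2.val, mul_mem (pow_mem hz1k _) (pow_mem hz2k _)⟩
  have hf : Function.Injective f := by
    intro p q hpq
    have h1 : z1 ^ p.1.val * z2 ^ p.2.val = z1 ^ q.1.val * z2 ^ q.2.val :=
      congrArg Subtype.val hpq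
    have h2 := hinj _ _ _ _ p.1.2 p.2.2 q.1.2 q.2.2 (congrArg pt h1)
    exact Prod.ext (Fin.ext h2.1) (Fin.ext h2.2)
  have hcardf : Nat.card (Fin n × Fin n) = n * n := by
    rw [Nat.card_prod, Nat.card_fin]
  have hk16 : Nat.card π.ker = n * n := by
    apply le_antisymm hkle
    rw [← hcardf]
    exact Nat.card_le_card_of_injective f hf
  have hfb : Function.Bijective f := by
    apply Function.Injective.bijective_of_nat_card_le hf
    rw [hk16, hcardf]
  have hz1 : z1 ^ n = 1 := by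
    obtain ⟨p, hp⟩ := hfb.2 ⟨z1 ^ n, pow_mem hz1k n⟩
    have h1 : z1 ^ p.1.val * z2 ^ p.2.val = z1 ^ n := congrArg Subtype.val hp
    have h2 : pt (z1 ^ p.1.val * z2 ^ p.2.val) = pt (z1 ^ 0 * z2 ^ 0) := by
      rw [h1, h41, pow_zero, pow_zero, one_mul]
    have h3 := hinj _ _ _ _ p.1.2 p.2.2 hn hn h2
    rw [← h1, h3.1, h3.2, pow_zero, pow_zero, one_mul]
  have hz2 : z2 ^ n = 1 := by
    obtain ⟨p, hp⟩ := hfb.2 ⟨z2 ^ n, pow_mem hz2k n⟩
    have h1 : z1 ^ p.1.val * z2 ^ p.2.val = z2 ^ n := congrArg Subtype.val hp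
    have h2 : pt (z1 ^ p.1.val * z2 ^ p.2.val) = pt (z1 ^ 0 * z2 ^ 0) := by
      rw [h1, h42, pow_zero, pow_zero, one_mul]
    have h3 := hinj _ _ _ _ p.1.2 p.2.2 hn hn h2
    rw [← h1, h3.1, h3.2, pow_zero, pow_zero, one_mul]
  have hform : ∀ y ∈ π.ker, ∃ a b : ℕ, y = z1 ^ a * z2 ^ b := by
    intro y hy
    obtain ⟨p, hp⟩ := hfb.2 ⟨y, hy⟩
    exact ⟨p.1.val, p.2.val, (congrArg Subtype.val hp).symm⟩
  have hexp : ∀ y ∈ π.ker, y ^ n = 1 := by
    intro y hy
    obtain ⟨a, b, rfl⟩ := hform y hy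
    rw [(hcomm.pow_pow a b).mul_pow, ← pow_mul, ← pow_mul, mul_comm a n, mul_comm b n,
      pow_mul, pow_mul, hz1, hz2, one_pow, one_pow, one_mul]
  have hcen : π.ker ≤ Subgroup.center E := by
    intro y hy
    obtain ⟨a, b, rfl⟩ := hform y hy
    exact mul_mem (pow_mem hz1c _) (pow_mem hz2c _)
  have hstem : Cfsg.IsStemExtension π := by
    refine ⟨hπ, hcen, ?_⟩
    intro z hz
    rw [← Abelianization.ker_of, MonoidHom.mem_ker]
    have h1 : (Abelianization.of z) ^ M = 1 := abelianization_pow_eq_one S hS M hM _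
    have h2 : (Abelianization.of z) ^ n = 1 := by rw [← map_pow, hexp z hz, map_one]
    have h3 := pow_gcd_eq_one.mpr ⟨h1, h2⟩
    rwa [hcop, pow_one] at h3
  refine ⟨hstem, hexp, ?_⟩
  -- the isomorphism
  have hpm : ∀ (z : E), z ^ n = 1 → ∀ x y : ZMod n, z ^ (x + y).val = z ^ x.val * z ^ y.val := by
    intro z hz x y
    rw [ZMod.val_add, ← pow_add, pow_eq_pow_mod (x.val + y.val) hz]
  let ψ : Multiplicative (ZMod n × ZMod n) →* π.ker := MonoidHom.mk'
    (fun x => ⟨z1 ^ (Multiplicative.toAdd x).1.val * z2 ^ (Multiplicative.toAdd x).2.val,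
      mul_mem (pow_mem hz1k _) (pow_mem hz2k _)⟩)
    (by
      intro x y
      apply Subtype.ext
      change z1 ^ ((Multiplicative.toAdd x).1 + (Multiplicative.toAdd y).1).val *
        z2 ^ ((Multiplicative.toAdd x).2 + (Multiplicative.toAdd y).2).val =
        (z1 ^ (Multiplicative.toAdd x).1.val * z2 ^ (Multiplicative.toAdd x).2.val) *
        (z1 ^ (Multiplicative.toAdd y).1.val * z2 ^ (Multiplicative.toAdd y).2.val)
      rw [hpm z1 hz1, hpm z2 hz2]
      exact (hcomm.pow_pow _ _).mul_mul_mul_comm _ _)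
  have hψinj : Function.Injective ψ := by
    intro x y hxy
    have h1 : z1 ^ (Multiplicative.toAdd x).1.val * z2 ^ (Multiplicative.toAdd x).2.val =
        z1 ^ (Multiplicative.toAdd y).1.val * z2 ^ (Multiplicative.toAdd y).2.val :=
      congrArg Subtype.val hxy
    have h2 := hinj _ _ _ _ (ZMod.val_lt _) (ZMod.val_lt _) (ZMod.val_lt _) (ZMod.val_lt _)
      (congrArg pt h1)
    have h3 : (Multiplicative.toAdd x).1 = (Multiplicative.toAdd y).1 :=
      ZMod.val_injective n h2.1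
    have h4 : (Multiplicative.toAdd x).2 = (Multiplicative.toAdd y).2 :=
      ZMod.val_injective n h2.2
    exact Multiplicative.toAdd.injective (Prod.ext h3 h4)
  have hψbij : Function.Bijective ψ := by
    apply Function.Injective.bijective_of_nat_card_le hψinj
    rw [hk16]
    change n * n ≤ Nat.card (ZMod n × ZMod n)
    rw [Nat.card_prod, Nat.card_zmod]
  exact ⟨(MulEquiv.ofBijective ψ hψbij).symm⟩

end Cfsg.Agent.Helper3.StemCC
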