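import Mathlib
import Cfsg.Agent.Helper3.O8CovC
import Cfsg.Agent.Helper3.O8M1Sum
import Cfsg.Agent.Helper3.O8M2Sum
import Cfsg.Agent.Helper3.StemCC
import Cfsg.Agent.Helper4.StemX
import Cfsg.Agent.Helper5.LTCM
import Cfsg.Agent.Helper5.LPE
import Cfsg.Agent.Helper5.StemPL
import Cfsg.Agent.Helper5.StemPH
import Cfsg.Agent.Helper5.StemPI
import Cfsg.Agent.Helper5.StemPK
import Cfsg.Agent.Helper5.StemPM

/-!
# The Schur multiplier of `Ω₈⁺(2)` is `C₂ × C₂`

The covering group of exponent 120 of the presentation on four generators of order 7 has order at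
most `4 |Ω₈⁺(2)|` (labelled Todd–Coxeter over a double cover of `Sp₆(2)`), and two permutation
representations on 240 points each, on the cosets of the double covers of two subgroups `Sp₆(2)`
of different classes, separate the four products of two of its central elements: its kernel is
`C₂ × C₂`. Sylow 7-subgroups are cyclic.
-/

set_option autoImplicit false

namespace Cfsg.Agent.Helper3.O8

open Cfsg Cfsg.Agent.Helper3.O8X Cfsg.Agent.Helper3.O8P Cfsg.Agent.Helper5 Cfsg.Agent.Helper5.StemP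
  Cfsg.Agent.Helper5.LP Cfsg.Agent.Helper5.LTC Cfsg.Agent.Helper5.TC Cfsg.Agent.Helper5.TCI
  Cfsg.Agent.Helper3.SchurMult Cfsg.Agent.Helper4.StemX

/-- the word of the first central element: the relator of `Sp₆(2)` which does not hold in its
double cover. -/
def w1 : List ℕ := [0, 0, 5, 2, 0, 4, 4, 1, 1, 2, 0, 4]

/-- the word of the second central element. -/
def w2 : List ℕ := [0, 3, 5, 5, 2, 0, 7, 7, 5, 6, 4, 4]

theorem w1_mem : w1 ∈ CC := by decide

theorem w2_mem : w2 ∈ CC := by decide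

theorem w1_lt : ∀ c ∈ w1, c < 2 * 4 := CC_lt w1 w1_mem

theorem w2_lt : ∀ c ∈ w2, c < 2 * 4 := CC_lt w2 w2_mem

/-! ### the covering group of exponent 120 is a fourfold cover with kernel `C₂ × C₂` -/

theorem letters_P : LettersLt (2 * 4) (coverRels 4 mm CC CC 120) :=
  coverRels_lt 4 mm CC CC 120 CC2_lt

theorem relsFix_1 : RelsFix (coverRels 4 mm CC CC 120) 240 O8M1.mT := O8M1.relsFix

theorem tableOK_1 : TableOKI (2 * 4) 240 linv O8M1.mT := O8M1.tableOK

theorem relsFix_2 : RelsFix (coverRels 4 mm CC CC 120) 240 O8M2.mT := O8M2.relsFix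

theorem tableOK_2 : TableOKI (2 * 4) 240 linv O8M2.mT := O8M2.tableOK

/-- the word of `z₁ ^ a z₂ ^ b`. -/
def zw (a b : ℕ) : List ℕ := (List.replicate a w1).flatten ++ (List.replicate b w2).flatten

theorem ev_zw (a b : ℕ) : ev (2 * 4) (coverRels 4 mm CC CC 120) (zw a b) =
    ev (2 * 4) (coverRels 4 mm CC CC 120) w1 ^ a *
      ev (2 * 4) (coverRels 4 mm CC CC 120) w2 ^ b := by
  unfold zw
  rw [ev_append, ← ev_pow, ← ev_pow]

theorem zw_lt (a b : ℕ) : ∀ c ∈ zw a b, c < 2 * 4 := by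
  intro c hc
  unfold zw at hc
  rcases List.mem_append.mp hc with h | h
  · obtain ⟨l, hl, hcl⟩ := List.mem_flatten.mp h
    rw [List.eq_of_mem_replicate hl] at hcl
    exact w1_lt c hcl
  · obtain ⟨l, hl, hcl⟩ := List.mem_flatten.mp h
    rw [List.eq_of_mem_replicate hl] at hcl
    exact w2_lt c hcl

set_option synthInstance.maxSize 2048 in
set_option synthInstance.maxHeartbeats 200000 in
set_option maxRecDepth 1000000 in
theorem tabInj : ∀ a, a < 2 → ∀ b, b < 2 → ∀ a', a' < 2 → ∀ b', b' < 2 →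
    Nat.pair (actL O8M1.mT (zw a b) 0) (actL O8M2.mT (zw a b) 0) =
      Nat.pair (actL O8M1.mT (zw a' b') 0) (actL O8M2.mT (zw a' b') 0) →
    a = a' ∧ b = b' := by
  decide +kernel

set_option maxRecDepth 1000000 in
theorem tab21 : Nat.pair (actL O8M1.mT (zw 2 0) 0) (actL O8M2.mT (zw 2 0) 0) =
    Nat.pair 0 0 := by decide +kernel

set_option maxRecDepth 1000000 in
theorem tab22 : Nat.pair (actL O8M1.mT (zw 0 2) 0) (actL O8M2.mT (zw 0 2) 0) =
    Nat.pair 0 0 := by decide +kernel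

/-- the point function. -/
noncomputable def ptQ (x : CovG 4 mm CC CC 120) : ℕ :=
  Nat.pair
    ((tableHomI LTC.linv_linv (fun x hx => linv_lt hx) letters_P tableOK_1 relsFix_1 x)
      ⟨0, by norm_num⟩).val
    ((tableHomI LTC.linv_linv (fun x hx => linv_lt hx) letters_P tableOK_2 relsFix_2 x)
      ⟨0, by norm_num⟩).val

theorem ptQ_ev (l : List ℕ) (hl : ∀ c ∈ l, c < 2 * 4) :
    ptQ (ev (2 * 4) (coverRels 4 mm CC CC 120) l) =
      Nat.pair (actL O8M1.mT l 0) (actL O8M2.mT l 0) := by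
  unfold ptQ
  rw [(actsOn_tableHomI LTC.linv_linv (fun x hx => linv_lt hx) letters_P tableOK_1
      relsFix_1).act l hl ⟨0, by norm_num⟩,
    (actsOn_tableHomI LTC.linv_linv (fun x hx => linv_lt hx) letters_P tableOK_2
      relsFix_2).act l hl ⟨0, by norm_num⟩]

theorem ptQ_one : ptQ 1 = Nat.pair 0 0 := by
  have h := ptQ_ev [] (by simp)
  rw [ev_nil] at h
  exact h

theorem cgen_pow7 : ∀ x ∈ {x : CovG 4 mm CC CC 120 | ∃ i, i < 4 ∧ x = cgen 4 mm CC CC 120 i},
    x ^ 7 = 1 := by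
  rintro x ⟨i, hi, rfl⟩
  exact cgen_pow 4 mm CC CC 120 hi

theorem stem_F : Cfsg.IsStemExtension piF ∧ (∀ y ∈ piF.ker, y ^ 2 = 1) ∧
    Nonempty (piF.ker ≃* Multiplicative (ZMod 2 × ZMod 2)) := by
  refine Cfsg.Agent.Helper3.StemCC.stem_cncn 2 piF piF_surj
    (by rw [card_GG]; exact card_le_F.2)
    (ev (2 * 4) (coverRels 4 mm CC CC 120) w1) (ev (2 * 4) (coverRels 4 mm CC CC 120) w2)
    (cover_center 4 mm CC CC 120 w1_mem w1_lt)
    (cover_center 4 mm CC CC 120 w2_mem w2_lt)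
    (coverHomU_ker 4 mm CC CC 120 CC2_lt g g_pow CC2_rel w1_mem)
    (coverHomU_ker 4 mm CC CC 120 CC2_lt g g_pow CC2_rel w2_mem)
    ptQ ?_ ?_ ?_ _ (closure_cgen 4 mm CC CC 120) 7 cgen_pow7 (by decide)
  · intro a b a' b' ha hb ha' hb' h
    rw [← ev_zw, ← ev_zw, ptQ_ev _ (zw_lt a b), ptQ_ev _ (zw_lt a' b')] at h
    exact tabInj a ha b hb a' ha' b' hb' h
  · have h := ptQ_ev _ (zw_lt 2 0)
    rw [ev_zw, pow_zero, mul_one, tab21] at h
    rw [h, ptQ_one]
  · have h := ptQ_ev _ (zw_lt 0 2)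
    rw [ev_zw, pow_zero, one_mul, tab22] at h
    rw [h, ptQ_one]

theorem card_F : Nat.card (CovG 4 mm CC CC 120) = Nat.card GG * 4 := by
  have h1 := card_eq_card_mul_ker piF piF_surj
  obtain ⟨e⟩ := stem_F.2.2
  have h2 : Nat.card piF.ker = 4 := by
    rw [Nat.card_congr e.toEquiv]
    change Nat.card (ZMod 2 × ZMod 2) = 4
    rw [Nat.card_prod, Nat.card_zmod]
  rw [h1, h2]

/-! ### the bound for the stem extensions -/

theorem mm_cop2 : ∀ i, i < 4 → g i ^ mm i = 1 ∧ (mm i).Coprime (2 ^ 12) := by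
  intro i hi
  exact ⟨g_pow i hi, by show Nat.Coprime 7 _; decide⟩

theorem mm_cop3 : ∀ i, i < 4 → g i ^ mm i = 1 ∧ (mm i).Coprime (3 ^ 5) := by
  intro i hi
  exact ⟨g_pow i hi, by show Nat.Coprime 7 _; decide⟩

theorem mm_cop5 : ∀ i, i < 4 → g i ^ mm i = 1 ∧ (mm i).Coprime (5 ^ 2) := by
  intro i hi
  exact ⟨g_pow i hi, by show Nat.Coprime 7 _; decide⟩

theorem bound (Γ : Type) [Group Γ] [Finite Γ] (σ : Γ →* GG)
    (hσ : Cfsg.IsStemExtension σ) : Nat.card σ.ker ≤ 4 := by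
  have hc := hσ.2.1
  have : Finite (LPG (2 * 4) (coverRels 4 mm CC CC 120)) := card_le_F.1
  have hcard : Nat.card (LPG (2 * 4) (coverRels 4 mm CC CC 120)) ∣ Nat.card GG * 4 := by
    show Nat.card (CovG 4 mm CC CC 120) ∣ _
    rw [card_F]
  have h2 : Nat.card (qmap σ hc 42525).ker ∣ 4 :=
    card_qmap_ker_dvd_of_pow_dvd σ hσ hc 2 Nat.prime_two 12 3 42525 120 (by norm_num)
      (by rw [card_GG]; norm_num)
      4 mm CC CC CC2_lt g g_closure mm_cop2 CC2_rel 4 hcard (by decide)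
  have h3 : Nat.card (qmap σ hc 716800).ker ∣ 4 :=
    card_qmap_ker_dvd_of_pow_dvd σ hσ hc 3 Nat.prime_three 5 1 716800 120 (by norm_num)
      (by rw [card_GG]; norm_num)
      4 mm CC CC CC2_lt g g_closure mm_cop3 CC2_rel 4 hcard (by decide)
  have h5 : Nat.card (qmap σ hc 6967296).ker ∣ 4 :=
    card_qmap_ker_dvd_of_pow_dvd σ hσ hc 5 Nat.prime_five 2 1 6967296 120 (by norm_num)
      (by rw [card_GG]; norm_num)
      4 mm CC CC CC2_lt g g_closure mm_cop5 CC2_rel 4 hcard (by decide)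
  have h3' : Nat.card (qmap σ hc 716800).ker = 1 :=
    ker_trivial_of_coprime σ hσ hc 243 716800 4 (by rw [card_GG]) (by decide) h3
  have h5' : Nat.card (qmap σ hc 6967296).ker = 1 :=
    ker_trivial_of_coprime σ hσ hc 25 6967296 4 (by rw [card_GG]) (by decide) h5
  have h7 : ∀ z ∈ σ.ker, z ^ Nat.gcd (Nat.gcd 42525 716800) 6967296 = 1 → z = 1 := by
    intro z hz hz1
    have e7 : Nat.gcd (Nat.gcd 42525 716800) 6967296 = 7 := by decide
    rw [e7] at hz1
    refine eq_one_of_pow_eq_one σ hσ 7 ?_ z hz hz1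
    intro q hq hqd
    rw [card_GG, (Nat.prime_dvd_prime_iff_eq hq (by norm_num)).mp hqd]
    decide
  have h8 := card_ker_le_mul3 σ hc 42525 716800 6967296 h7
  calc Nat.card σ.ker ≤ Nat.card (qmap σ hc 42525).ker * Nat.card (qmap σ hc 716800).ker *
        Nat.card (qmap σ hc 6967296).ker := h8
    _ ≤ 4 * 1 * 1 := by
        rw [h3', h5']
        exact Nat.mul_le_mul (Nat.mul_le_mul (Nat.le_of_dvd (by norm_num) h2) le_rfl) le_rfl
    _ = 4 := by norm_num

/-- **The Schur multiplier of `Ω₈⁺(2)` is `C₂ × C₂`.** -/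
theorem main : Cfsg.HasSchurMultiplier GG (Multiplicative (ZMod 2 × ZMod 2)) := by
  have c4 : Nat.card (Multiplicative (ZMod 2 × ZMod 2)) = 4 := by
    change Nat.card (ZMod 2 × ZMod 2) = 4
    rw [Nat.card_prod, Nat.card_zmod]
  apply hasSchurMultiplier_of_exists_of_card_le
  · exact ⟨CovG 4 mm CC CC 120, inferInstance, card_le_F.1, piF, stem_F.1, stem_F.2.2⟩
  · intro Γ _ _ σ hσ
    rw [c4]
    exact bound Γ σ hσ

end Cfsg.Agent.Helper3.O8
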