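import Cfsg.Agent.Helper3.O8M1Dat

/-! generated permutation model of a central extension, checks: O8M1 -/

set_option autoImplicit false
set_option Elab.async false
set_option maxRecDepth 1000000

namespace Cfsg.Agent.Helper3.O8M1
open Cfsg.Agent.Helper5.LP Cfsg.Agent.Helper5.LTC Cfsg.Agent.Helper3.CovModel

theorem inv_0 : invAllK mT 240 120 0 8 = true := by decide +kernel

theorem pw_0 : fixAll mT (powRels 4 Cfsg.Agent.Helper3.O8X.mm) 120 0 = true := by decide +kernel

theorem sh_0 : shAll mT 120 2 LL 120 0 = true := by decide +kernel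

end Cfsg.Agent.Helper3.O8M1
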