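import Mathlib

set_option autoImplicit false

/-!
# Groups `G = K⟨d⟩` with `K` normal of odd order and index `2`: invariant Sylow subgroups
-/

namespace Cfsg.Agent.Helper3.OddProd

open scoped commutatorElement

variable {H : Type*} [Group H]

/-- If `H / N` is generated by the image of `a`, then `H' ≤ N`. -/
theorem commutator_le_of_gen (N : Subgroup H) [N.Normal] (a : H)
    (hgen : ∀ h : H, ∃ n ∈ N, ∃ k : ℤ, h = n * a ^ k) : commutator H ≤ N := by
  rw [commutator_def, Subgroup.commutator_le]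
  intro g _ h _
  rw [← QuotientGroup.eq_one_iff]
  show (QuotientGroup.mk' N) ⁅g, h⁆ = 1
  rw [map_commutatorElement]
  obtain ⟨n, hn, k, rfl⟩ := hgen g
  obtain ⟨m, hm, l, rfl⟩ := hgen h
  show ⁅((n * a ^ k : H) : H ⧸ N), ((m * a ^ l : H) : H ⧸ N)⁆ = 1
  have e1 : ((n * a ^ k : H) : H ⧸ N) = (a : H ⧸ N) ^ k := by
    rw [QuotientGroup.mk_mul, (QuotientGroup.eq_one_iff n).mpr hn, one_mul, QuotientGroup.mk_zpow]
  have e2 : ((m * a ^ l : H) : H ⧸ N) = (a : H ⧸ N) ^ l := by
    rw [QuotientGroup.mk_mul, (QuotientGroup.eq_one_iff m).mpr hm, one_mul, QuotientGroup.mk_zpow]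
  rw [e1, e2, commutatorElement_eq_one_iff_commute]
  exact (Commute.refl _).zpow_zpow k l

variable [Finite H]

omit [Finite H] in
/-- A subgroup not contained in a normal subgroup `K` of index `2` and odd order has odd index. -/
theorem odd_index_of_not_le (K : Subgroup H) [K.Normal] (hK2 : K.index = 2)
    (hKodd : Odd (Nat.card K)) (N : Subgroup H) (hN : ¬ N ≤ K) : Odd N.index := by
  have h1 : K.relIndex N ∣ 2 := hK2 ▸ Subgroup.relIndex_dvd_index_of_normal K N
  have h2 : K.relIndex N ≠ 1 := fun h => hN (Subgroup.relIndex_eq_one.mp h)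
  have h3 : K.relIndex N = 2 := by
    rcases (Nat.dvd_prime Nat.prime_two).mp h1 with h | h
    · exact absurd h h2
    · exact h
  have h4 : 2 ∣ Nat.card N := by
    rw [← h3]
    exact Subgroup.index_dvd_card _
  have h5 : N.index * Nat.card N = 2 * Nat.card K := by
    rw [mul_comm, Subgroup.card_mul_index, ← hK2, mul_comm, Subgroup.card_mul_index]
  obtain ⟨m, hm⟩ := h4
  rw [hm] at h5
  have h6 : N.index * m = Nat.card K := by
    have : 2 * (N.index * m) = 2 * Nat.card K := by rw [← h5]; ring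
    exact Nat.eq_of_mul_eq_mul_left (by norm_num) this
  exact (Nat.odd_mul.mp (h6 ▸ hKodd)).1

omit [Finite H] in
/-- elements of odd order lie in `K`. -/
theorem mem_of_odd_order (K : Subgroup H) [K.Normal] (hK2 : K.index = 2)
    (g : H) (hg : Odd (orderOf g)) : g ∈ K := by
  have h1 : g ^ 2 ∈ K := by
    rw [sq]; exact Subgroup.mul_self_mem_of_index_two hK2 g
  obtain ⟨m, hm⟩ := hg
  have h2 : g ^ (2 * m + 1) = 1 := hm ▸ pow_orderOf_eq_one g
  have h3 : g = (g ^ 2) ^ (m + 1) * (g ^ (2 * m + 1))⁻¹ := by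
    rw [← pow_mul, ← zpow_natCast, ← zpow_natCast, ← zpow_neg, ← zpow_add]
    have : ((2 * (m + 1) : ℕ) : ℤ) + -((2 * m + 1 : ℕ) : ℤ) = 1 := by push_cast; ring
    rw [this, zpow_one]
  rw [h3, h2, inv_one, mul_one]
  exact Subgroup.pow_mem _ h1 _

/-- For an odd prime `q`, an involution `d` normalises some Sylow `q`-subgroup. -/
theorem exists_invariant_sylow (K : Subgroup H) [K.Normal] (hK2 : K.index = 2)
    (hKodd : Odd (Nat.card K)) (d : H) (hd : d ^ 2 = 1) (q : ℕ) [hq : Fact q.Prime]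
    (hq2 : q ≠ 2) :
    ∃ Q : Sylow q H, d ∈ Subgroup.normalizer ((Q : Subgroup H) : Set H) := by
  classical
  have : Fact (Nat.Prime 2) := ⟨Nat.prime_two⟩
  have : Fintype (Sylow q H) := Fintype.ofFinite _
  obtain ⟨Q₀⟩ : Nonempty (Sylow q H) := inferInstance
  have hQK : (Q₀ : Subgroup H) ≤ K := by
    intro x hx
    apply mem_of_odd_order K hK2
    obtain ⟨k, hk⟩ := Q₀.2 ⟨x, hx⟩
    have hk' : x ^ q ^ k = 1 := by
      have := congrArg Subtype.val hk
      simpa using this
    obtain ⟨j, -, hj⟩ := (Nat.dvd_prime_pow hq.out).mp (orderOf_dvd_of_pow_eq_one hk')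
    rw [hj]
    exact Odd.pow (hq.out.odd_of_ne_two hq2)
  have hfr : Subgroup.normalizer ((Q₀ : Subgroup H) : Set H) ⊔ K = ⊤ :=
    Q₀.normalizer_sup_eq_top' hQK
  have hnot : ¬ Subgroup.normalizer ((Q₀ : Subgroup H) : Set H) ≤ K := by
    intro h
    rw [sup_of_le_right h] at hfr
    rw [hfr, Subgroup.index_top] at hK2
    omega
  have hodd : Odd (Fintype.card (Sylow q H)) := by
    rw [← Nat.card_eq_fintype_card, Q₀.card_eq_index_normalizer]
    exact odd_index_of_not_le K hK2 hKodd _ hnot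
  have h2 : ¬ 2 ∣ Fintype.card (Sylow q H) := by
    rw [← even_iff_two_dvd, Nat.not_even_iff_odd]; exact hodd
  have hσ : (MulAction.toPerm d : Equiv.Perm (Sylow q H)) ^ 2 ^ 1 = 1 := by
    rw [pow_one]
    ext Q : 1
    show d • d • Q = Q
    rw [smul_smul, ← sq, hd, one_smul]
  obtain ⟨Q, hQ⟩ := Equiv.Perm.exists_fixed_point_of_prime (n := 1) h2 hσ
  exact ⟨Q, Sylow.smul_eq_iff_mem_normalizer.mp hQ⟩

end Cfsg.Agent.Helper3.OddProd
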