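import Mathlib
import Cfsg.Prelude.Def_Characters
import Cfsg.Prelude.Def_Blocks
import Cfsg.Agent.Helper1.MinNonPNilp
import Cfsg.Agent.Helper1.NilpCoprime
import Cfsg.Agent.Helper6.ProdIrr
import Cfsg.Agent.Helper6.BrauerPerm2
import Cfsg.Agent.Helper6.IrrCount
import Cfsg.Agent.Helper6.BlockPart
import Cfsg.Agent.Helper6.DefectZeroBlock
import Cfsg.Agent.Helper6.IrrDegree

set_option autoImplicit false

namespace Cfsg.Agent.Helper3.OneNonlin

open Cfsg.Agent.Helper6

universe u

variable {G : Type u} [Group G]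

/-- degree of a product character -/
theorem charDegree_prod {A B : Type u} [Group A] [Group B] [Finite A] [Finite B]
    {φ : A → ℂ} {ψ : B → ℂ} (hφ : Cfsg.IsIrrCharacter A φ) (hψ : Cfsg.IsIrrCharacter B ψ) :
    Cfsg.charDegree (fun x : A × B => φ x.1 * ψ x.2) = Cfsg.charDegree φ * Cfsg.charDegree ψ := by
  have h1 := charDegree_cast_of_isCharacter (IsIrrCharacter.isCharacter (isIrrCharacter_prod hφ hψ))
  have h2 := charDegree_cast_of_isCharacter (IsIrrCharacter.isCharacter hφ)
  have h3 := charDegree_cast_of_isCharacter (IsIrrCharacter.isCharacter hψ)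
  have : ((Cfsg.charDegree (fun x : A × B => φ x.1 * ψ x.2) : ℕ) : ℂ) =
      ((Cfsg.charDegree φ * Cfsg.charDegree ψ : ℕ) : ℂ) := by
    rw [h1, Nat.cast_mul, h2, h3]
    rfl
  exact_mod_cast this

theorem charDegree_comp_mulEquiv {A B : Type u} [Group A] [Group B] (e : A ≃* B) (χ : B → ℂ) :
    Cfsg.charDegree (χ ∘ e) = Cfsg.charDegree χ := by
  unfold Cfsg.charDegree
  simp

/-- a nontrivial finite group has at least two irreducible characters -/
theorem exists_irr_ne {N : Type u} [Group N] [Finite N] (hN : Nontrivial N)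
    (β : Cfsg.IrrCharacter N) : ∃ β' : Cfsg.IrrCharacter N, β' ≠ β := by
  have : Finite (Cfsg.IrrCharacter N) := irr_finite
  have h1 : Nat.card (Cfsg.IrrCharacter N) = Nat.card (ConjClasses N) := card_irr_eq_card_conjClasses
  have h2 : Nontrivial (ConjClasses N) := by
    obtain ⟨n, hn⟩ := exists_ne (1 : N)
    refine ⟨⟨ConjClasses.mk n, ConjClasses.mk 1, ?_⟩⟩
    intro h
    rw [ConjClasses.mk_eq_mk_iff_isConj, isConj_one_left] at h
    exact hn h
  have h3 : 1 < Nat.card (ConjClasses N) := Finite.one_lt_card_iff_nontrivial.2 h2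
  rw [← h1] at h3
  have h4 : Nontrivial (Cfsg.IrrCharacter N) := Finite.one_lt_card_iff_nontrivial.1 h3
  exact exists_ne β

theorem isPGroup_of_unique [Finite G] [hnil : Group.IsNilpotent G] (p : ℕ) [hp : Fact p.Prime]
    (h : Nat.card {χ : Cfsg.IrrCharacter G // p ∣ Cfsg.charDegree (χ : G → ℂ)} = 1) :
    IsPGroup p G := by
  classical
  obtain ⟨P, N, hNn, hc⟩ := Cfsg.Agent.Helper1.hasNormalPComplement_of_isNilpotent hnil p
  have hc' : (P : Subgroup G).IsComplement' N := hc.symm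
  -- unique character
  obtain ⟨⟨χ₀, hχ₀⟩, huniq⟩ := (Nat.card_eq_one_iff_exists.1 h)
  have huniq' : ∀ χ : Cfsg.IrrCharacter G, p ∣ Cfsg.charDegree (χ : G → ℂ) → χ = χ₀ := by
    intro χ hχ
    have := huniq ⟨χ, hχ⟩
    exact congrArg Subtype.val this
  -- orders
  have hcard : Nat.card (P : Subgroup G) * Nat.card N = Nat.card G := hc'.card_mul_card
  have hNcop : (Nat.card N).Coprime p := by
    have h1 : Nat.card N = (P : Subgroup G).index := by
      have h2 := (P : Subgroup G).card_mul_index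
      exact Nat.eq_of_mul_eq_mul_left Nat.card_pos (hcard.trans h2.symm)
    rw [h1]
    exact (Nat.Coprime.symm ((Nat.Prime.coprime_iff_not_dvd hp.out).2 (Sylow.not_dvd_index P)))
  -- commuting
  have hcomm : ∀ (x : ↥(P : Subgroup G)) (n : ↥N), Commute ((P : Subgroup G).subtype x) (N.subtype n) := by
    intro x n
    obtain ⟨k, hk⟩ := (IsPGroup.iff_orderOf.1 P.2) x
    have hk' : orderOf (x : G) = p ^ k := by rw [← hk]; exact (Subgroup.orderOf_coe x)
    have hn : (orderOf (n : G)).Coprime p := by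
      have : orderOf (n : G) ∣ Nat.card N := by
        rw [Subgroup.orderOf_coe]; exact orderOf_dvd_natCard n
      exact Nat.Coprime.coprime_dvd_left this hNcop
    exact Cfsg.Agent.Helper1.commute_of_pElement_of_coprime (x : G) (n : G) k hk' hn
  set φ : ↥(P : Subgroup G) × ↥N →* G :=
    MonoidHom.noncommCoprod (P : Subgroup G).subtype N.subtype hcomm with hφ
  have hbij : Function.Bijective φ := hc'
  set e : (↥(P : Subgroup G) × ↥N) ≃* G := MulEquiv.ofBijective φ hbij with he
  -- N is trivial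
  have hNbot : N = ⊥ := by
    by_contra hne
    have hNnt : Nontrivial ↥N := (Subgroup.nontrivial_iff_ne_bot N).2 hne
    have hθ : Cfsg.IsIrrCharacter (↥(P : Subgroup G) × ↥N) ((χ₀ : G → ℂ) ∘ e) :=
      IsIrrCharacter.comp_mulEquiv e χ₀.2
    obtain ⟨α, β, hα, hβ, hαβ⟩ := (isIrrCharacter_prod_iff _).1 hθ
    have hdeg : Cfsg.charDegree (χ₀ : G → ℂ) = Cfsg.charDegree α * Cfsg.charDegree β := by
      rw [← charDegree_comp_mulEquiv e, hαβ, charDegree_prod hα hβ]
    have hβd : (Cfsg.charDegree β).Coprime p :=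
      Nat.Coprime.coprime_dvd_left (charDegree_dvd_card hβ) hNcop
    have hαd : p ∣ Cfsg.charDegree α := by
      rw [hdeg] at hχ₀
      exact (Nat.Coprime.symm hβd).dvd_of_dvd_mul_right hχ₀
    obtain ⟨β', hβ'⟩ := exists_irr_ne hNnt ⟨β, hβ⟩
    have hθ' : Cfsg.IsIrrCharacter (↥(P : Subgroup G) × ↥N)
        (fun x => α x.1 * (β' : ↥N → ℂ) x.2) := isIrrCharacter_prod hα β'.2
    have hχ' : Cfsg.IsIrrCharacter G ((fun x : ↥(P : Subgroup G) × ↥N => α x.1 * (β' : ↥N → ℂ) x.2) ∘ e.symm) :=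
      IsIrrCharacter.comp_mulEquiv e.symm hθ'
    have hdeg' : p ∣ Cfsg.charDegree
        ((fun x : ↥(P : Subgroup G) × ↥N => α x.1 * (β' : ↥N → ℂ) x.2) ∘ e.symm) := by
      rw [charDegree_comp_mulEquiv e.symm, charDegree_prod hα β'.2]
      exact Dvd.dvd.mul_right hαd _
    have heq := huniq' ⟨_, hχ'⟩ hdeg'
    have heq' : (fun x : ↥(P : Subgroup G) × ↥N => α x.1 * (β' : ↥N → ℂ) x.2) ∘ e.symm = (χ₀ : G → ℂ) :=
      congrArg Subtype.val heq
    apply hβ'
    apply Subtype.ext
    funext n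
    have h1 := congrFun heq' (e (1, n))
    have h2 := congrFun hαβ (1, n)
    simp only [Function.comp_apply, MulEquiv.symm_apply_apply] at h1 h2
    rw [h2] at h1
    have hα1 : α 1 ≠ 0 := IsIrrCharacter.apply_one_ne_zero hα
    exact mul_left_cancel₀ hα1 h1
  -- so P = ⊤
  have hPtop : (P : Subgroup G) = ⊤ := by
    apply (Subgroup.card_eq_iff_eq_top _).1
    rw [hNbot, Subgroup.card_bot, mul_one] at hcard
    exact hcard
  have := P.2
  intro g
  obtain ⟨k, hk⟩ := this ⟨g, by rw [hPtop]; exact Subgroup.mem_top g⟩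
  exact ⟨k, by simpa using congrArg Subtype.val hk⟩

end Cfsg.Agent.Helper3.OneNonlin
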