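import Mathlib
import Cfsg.Prelude.Def_Characters
import Cfsg.Prelude.Def_Blocks
import Cfsg.Prelude.Def_Transfer
import Cfsg.Agent.Helper6.IrrCount
import Cfsg.Agent.Helper6.Linear
import Cfsg.Agent.Helper6.BlockPart
import Cfsg.Agent.Helper6.DefectZeroBlock
import Cfsg.Agent.Helper6.IrrDegree
import Cfsg.Agent.Helper6.CentralBound
import Cfsg.Agent.Helper3.ExtraCore

set_option autoImplicit false

namespace Cfsg.Agent.Helper3.OneNonlin

open Cfsg.Agent.Helper6
open scoped commutatorElement

universe u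

variable {G : Type u} [Group G]

/-- counting: `|G| = [G : G'] + d²` when `χ₀` is the only nonlinear irreducible character -/
theorem card_eq_index_add_sq [Finite G]
    (h : Nat.card {χ : Cfsg.IrrCharacter G // ¬ ((χ : G → ℂ) 1 = 1)} = 1) :
    ∃ χ₀ : Cfsg.IrrCharacter G, ¬ ((χ₀ : G → ℂ) 1 = 1) ∧
      Nat.card G = (commutator G).index + (Cfsg.charDegree (χ₀ : G → ℂ)) ^ 2 := by
  classical
  haveI := Fintype.ofFinite G
  haveI : Finite (Cfsg.IrrCharacter G) := irr_finite
  haveI : Fintype (Cfsg.IrrCharacter G) := Fintype.ofFinite _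
  obtain ⟨⟨χ₀, hχ₀⟩, huniq⟩ := (Nat.card_eq_one_iff_exists.1 h)
  refine ⟨χ₀, hχ₀, ?_⟩
  have hsum := sum_sq_degrees (G := G)
  rw [← Finset.sum_filter_add_sum_filter_not Finset.univ
    (fun χ : Cfsg.IrrCharacter G => (χ : G → ℂ) 1 = 1)] at hsum
  have h1 : ∑ χ ∈ Finset.univ.filter (fun χ : Cfsg.IrrCharacter G => (χ : G → ℂ) 1 = 1),
      (χ : G → ℂ) 1 ^ 2 = ((commutator G).index : ℂ) := by
    have : ∀ χ ∈ Finset.univ.filter (fun χ : Cfsg.IrrCharacter G => (χ : G → ℂ) 1 = 1),
        (χ : G → ℂ) 1 ^ 2 = 1 := by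
      intro χ hχ
      rw [(Finset.mem_filter.1 hχ).2, one_pow]
    rw [Finset.sum_congr rfl this, Finset.sum_const, nsmul_eq_mul, mul_one]
    congr 1
    rw [← card_linear_irr (G := G), Nat.card_eq_fintype_card, Fintype.card_subtype]
  have h2 : Finset.univ.filter (fun χ : Cfsg.IrrCharacter G => ¬ (χ : G → ℂ) 1 = 1) = {χ₀} := by
    ext χ
    simp only [Finset.mem_filter, Finset.mem_univ, true_and, Finset.mem_singleton]
    constructor
    · intro hχ
      exact congrArg Subtype.val (huniq ⟨χ, hχ⟩)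
    · rintro rfl; exact hχ₀
  rw [h1, h2, Finset.sum_singleton] at hsum
  have h3 := charDegree_cast_of_isCharacter (IsIrrCharacter.isCharacter χ₀.2)
  rw [← h3] at hsum
  exact_mod_cast hsum.symm

/-- a subgroup of order 2: two non-identity elements coincide -/
theorem eq_of_card_two {H : Subgroup G} (hH : Nat.card H = 2) {a b : G} (ha : a ∈ H) (hb : b ∈ H)
    (ha1 : a ≠ 1) (hb1 : b ≠ 1) : a = b := by
  obtain ⟨y, -, hy⟩ := (Nat.card_eq_two_iff' (1 : H)).1 hH
  have h1 := hy ⟨a, ha⟩ (fun h => ha1 (congrArg Subtype.val h))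
  have h2 := hy ⟨b, hb⟩ (fun h => hb1 (congrArg Subtype.val h))
  exact congrArg Subtype.val (h1.trans h2.symm)

theorem main [Finite G] (p : ℕ) [hp : Fact p.Prime] (hP : IsPGroup p G)
    (h : Nat.card {χ : Cfsg.IrrCharacter G // ¬ ((χ : G → ℂ) 1 = 1)} = 1) :
    p = 2 ∧ Cfsg.IsExtraspecial 2 G := by
  classical
  obtain ⟨χ₀, hχ₀, hcard⟩ := card_eq_index_add_sq h
  set d := Cfsg.charDegree (χ₀ : G → ℂ) with hd
  set L := (commutator G).index with hL
  set c' := Nat.card (commutator G) with hc'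
  have hLc : L * c' = Nat.card G := by rw [hL, hc', mul_comm]; exact Subgroup.card_mul_index _
  obtain ⟨m, hm⟩ := IsPGroup.iff_card.1 hP
  have hdcast := charDegree_cast_of_isCharacter (IsIrrCharacter.isCharacter χ₀.2)
  have hd1 : d ≠ 1 := by
    intro h1
    apply hχ₀
    rw [← hdcast, ← hd, h1, Nat.cast_one]
  have hddvd : d ∣ p ^ m := by rw [← hm]; exact charDegree_dvd_card χ₀.2
  obtain ⟨a, -, hda⟩ := (Nat.dvd_prime_pow hp.out).1 hddvd
  have ha : a ≠ 0 := by
    intro h0; rw [h0, pow_zero] at hda; exact hd1 hda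
  have hdpos : 0 < d := by rw [hda]; exact pos_of_ne_zero (pow_ne_zero _ hp.out.ne_zero)
  have hcdvd : c' ∣ p ^ m := by rw [← hm]; exact Subgroup.card_subgroup_dvd_card _
  obtain ⟨c, -, hcc⟩ := (Nat.dvd_prime_pow hp.out).1 hcdvd
  have hLpos : 0 < L := Nat.pos_of_ne_zero (Subgroup.index_ne_zero_of_finite)
  -- `L * (c' - 1) = d ^ 2`
  have hc0 : c ≠ 0 := by
    intro h0
    rw [h0, pow_zero] at hcc
    rw [hcc, mul_one] at hLc
    have : d ^ 2 = 0 := by omega
    have := pow_eq_zero_iff (two_ne_zero) |>.1 this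
    omega
  have hpc : p ∣ c' := by rw [hcc]; exact dvd_pow_self p hc0
  have hc1 : 1 ≤ c' := by rw [hcc]; exact Nat.one_le_pow _ _ hp.out.pos
  have hkey : L * (c' - 1) = d ^ 2 := by
    have : L * (c' - 1) + L = L * c' := by
      rw [← Nat.mul_succ]; congr 1; omega
    omega
  have hdiv : (c' - 1) ∣ p ^ (2 * a) := by
    have : d ^ 2 = p ^ (2 * a) := by rw [hda, ← pow_mul, mul_comm]
    rw [← this, ← hkey]; exact dvd_mul_left _ _
  obtain ⟨j, -, hj⟩ := (Nat.dvd_prime_pow hp.out).1 hdiv
  have hj0 : j = 0 := by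
    by_contra hj0
    have h1 : p ∣ c' - 1 := by rw [hj]; exact dvd_pow_self p hj0
    have h2 : p ∣ 1 := by
      have := (Nat.dvd_sub hpc h1)
      have e : c' - (c' - 1) = 1 := by omega
      rwa [e] at this
    exact hp.out.one_lt.ne' (Nat.dvd_one.1 h2)
  rw [hj0, pow_zero] at hj
  have hc2 : c' = 2 := by omega
  have hp2 : p = 2 := by
    rw [hc2] at hpc
    exact (Nat.prime_dvd_prime_iff_eq hp.out Nat.prime_two).1 hpc
  have hLd : L = d ^ 2 := by rw [← hkey, hj, mul_one]
  have hG2 : Nat.card G = 2 * d ^ 2 := by rw [← hLc, hc2, hLd]; ring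
  refine ⟨hp2, ?_⟩
  -- commutator is central
  have hcomm_card : Nat.card (commutator G) = 2 := hc2
  have hcomm_le : commutator G ≤ Subgroup.center G := by
    intro z hz
    rw [Subgroup.mem_center_iff]
    intro g
    by_cases hz1 : z = 1
    · rw [hz1]; simp
    · have hconj : g * z * g⁻¹ ∈ commutator G :=
        (inferInstance : (commutator G).Normal).conj_mem z hz g
      have hne : g * z * g⁻¹ ≠ 1 := by
        intro h1
        apply hz1
        have : z = g⁻¹ * (g * z * g⁻¹) * g := by group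
        rw [this, h1]; group
      have := eq_of_card_two hcomm_card hconj hz hne hz1
      calc g * z = (g * z * g⁻¹) * g := by group
        _ = z * g := by rw [this]
  have hcommel : ∀ x y : G, ⁅x, y⁆ ∈ commutator G := by
    intro x y
    rw [commutator_def]
    exact Subgroup.commutator_mem_commutator (Subgroup.mem_top _) (Subgroup.mem_top _)
  -- centre has order 2
  have hZ : Nat.card (Subgroup.center G) = 2 := by
    apply le_antisymm
    · have hb := degree_bound_central_section (χ₀ : G → ℂ) χ₀.2 ⊥ ⊤ (Subgroup.center G) bot_le le_top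
        (by
          intro z hz g _
          rw [Subgroup.mem_bot]
          have := (Subgroup.mem_center_iff.1 hz) g
          calc z * g * z⁻¹ * g⁻¹ = (z * g) * z⁻¹ * g⁻¹ := by group
            _ = (g * z) * z⁻¹ * g⁻¹ := by rw [this]
            _ = 1 := by group)
        (by
          intro b hb
          rw [Subgroup.mem_bot] at hb
          rw [hb])
      rw [Subgroup.card_top] at hb
      have h1 : ‖(χ₀ : G → ℂ) 1‖ = (d : ℝ) := by
        rw [← hdcast, ← hd]; simp
      rw [h1] at hb
      have hb' : d ^ 2 * Nat.card G * Nat.card (Subgroup.center G) ≤ (Nat.card G) ^ 2 := by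
        exact_mod_cast hb
      have hGpos : 0 < Nat.card G := Nat.card_pos
      have hb'' : d ^ 2 * Nat.card (Subgroup.center G) ≤ Nat.card G := by
        have : (d ^ 2 * Nat.card (Subgroup.center G)) * Nat.card G ≤ Nat.card G * Nat.card G := by
          calc (d ^ 2 * Nat.card (Subgroup.center G)) * Nat.card G
              = d ^ 2 * Nat.card G * Nat.card (Subgroup.center G) := by ring
            _ ≤ (Nat.card G) ^ 2 := hb'
            _ = Nat.card G * Nat.card G := by ring
        exact Nat.le_of_mul_le_mul_right this hGpos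
      rw [hG2] at hb''
      have hd2 : 0 < d ^ 2 := pow_pos hdpos 2
      have : d ^ 2 * Nat.card (Subgroup.center G) ≤ d ^ 2 * 2 := by
        calc d ^ 2 * Nat.card (Subgroup.center G) ≤ 2 * d ^ 2 := hb''
          _ = d ^ 2 * 2 := by ring
      exact Nat.le_of_mul_le_mul_left this hd2
    · rw [← hcomm_card]
      exact Nat.le_of_dvd Nat.card_pos (Subgroup.card_dvd_of_le hcomm_le)
  have hin : Cfsg.Agent.Helper3.Extra.InClass 2 G := by
    refine ⟨hZ, fun x y => hcomm_le (hcommel x y), fun x => ?_⟩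
    rw [Subgroup.mem_center_iff]
    intro y
    -- `c = ⁅x, y⁆` central with `c ^ 2 = 1`
    have hcm := hcommel x y
    have hcz := Subgroup.mem_center_iff.1 (hcomm_le hcm)
    have hc2' : ⁅x, y⁆ ^ 2 = 1 := by
      have : (⟨⁅x, y⁆, hcm⟩ : commutator G) ^ Nat.card (commutator G) = 1 := pow_card_eq_one'
      rw [hcomm_card] at this
      exact congrArg Subtype.val this
    have hxy : x * y = ⁅x, y⁆ * y * x := by rw [commutatorElement_def]; group
    have hyx : y * x = ⁅x, y⁆⁻¹ * x * y := by rw [commutatorElement_def]; group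
    have hinv : ⁅x, y⁆⁻¹ = ⁅x, y⁆ := by
      rw [inv_eq_iff_mul_eq_one, ← pow_two, hc2']
    rw [hinv] at hyx
    clear hxy hinv hcm
    generalize ⁅x, y⁆ = c at hcz hc2' hyx
    calc y * x ^ 2 = (y * x) * x := by rw [pow_two, mul_assoc]
      _ = (c * x * y) * x := by rw [hyx]
      _ = c * x * (y * x) := by simp only [mul_assoc]
      _ = c * x * (c * x * y) := by rw [hyx]
      _ = c * (x * c) * x * y := by simp only [mul_assoc]
      _ = c * (c * x) * x * y := by rw [hcz x]
      _ = c ^ 2 * x ^ 2 * y := by simp only [pow_two, mul_assoc]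
      _ = x ^ 2 * y := by rw [hc2', one_mul]
  have hlt : 2 < Nat.card G := by
    rw [hG2]
    have : 2 ≤ d := by omega
    nlinarith
  exact hin.isExtraspecial hlt

end Cfsg.Agent.Helper3.OneNonlin
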