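import Mathlib

/-!
# The opposite-pair lemma (abstract group theory, via Burnside's transfer theorem)

`opp_false_top`: in a finite group `L`, let `E` be a non-trivial abelian `p`-subgroup which is a
self-normalising TI-subgroup (`x ∈ E ∖ 1`, `l⁻¹ x l ∈ E ⇒ l ∈ E`) and `E'` a `p`-subgroup of order
at least `3`.  Then some product `x * y`, `x ∈ E ∖ 1`, `y ∈ E' ∖ 1`, lies in a conjugate of `E`.
`opp_false`: the same for a finite subgroup `L` of an arbitrary group.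
-/

set_option autoImplicit false
set_option linter.unusedSectionVars false

namespace Cfsg.Agent.Helper3.OppPair

open Subgroup
open scoped Pointwise

section Top

variable {L : Type*} [Group L] [Finite L] {p : ℕ} [Fact p.Prime]

/-- `E` is self-normalising. -/
theorem normalizer_eq_self (E : Subgroup L) (hne : ∃ x ∈ E, x ≠ 1)
    (hTI : ∀ x ∈ E, x ≠ 1 → ∀ l : L, l⁻¹ * x * l ∈ E → l ∈ E) :
    normalizer (E : Set L) = E := by
  apply le_antisymm _ le_normalizer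
  intro l hl
  obtain ⟨x, hx, hx1⟩ := hne
  apply hTI x hx hx1
  have h1 := (mem_normalizer_iff.mp (inv_mem hl) x).mp hx
  rwa [inv_inv] at h1

theorem not_dvd_index (E : Subgroup L) (hE : IsPGroup p E) (hne : ∃ x ∈ E, x ≠ 1)
    (hTI : ∀ x ∈ E, x ≠ 1 → ∀ l : L, l⁻¹ * x * l ∈ E → l ∈ E) : ¬ p ∣ E.index := by
  obtain ⟨n, hn⟩ := IsPGroup.iff_card.mp hE
  have h1 := Sylow.card_quotient_normalizer_modEq_card_quotient (p := p) hn
  have hN := normalizer_eq_self E hne hTI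
  have h2 : Nat.card (↥(normalizer (E : Set L)) ⧸ E.comap (normalizer (E : Set L)).subtype) = 1 := by
    have h3 : E.comap (normalizer (E : Set L)).subtype = ⊤ := by
      rw [eq_top_iff]
      rintro ⟨y, hy⟩ -
      rw [mem_comap]
      rw [hN] at hy
      exact hy
    rw [h3, ← index_eq_card, index_top]
  rw [h2, ← index_eq_card] at h1
  intro hdvd
  have h4 : E.index ≡ 0 [MOD p] := (Nat.modEq_zero_iff_dvd).mpr hdvd
  have h5 : 1 ≡ 0 [MOD p] := h1.trans h4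
  have h6 : p ∣ 1 := (Nat.modEq_zero_iff_dvd).mp h5
  exact (Fact.out : p.Prime).one_lt.ne' (Nat.dvd_one.mp h6)

/-- **the opposite-pair lemma**, for a finite group. -/
theorem opp_false_top (E E' : Subgroup L) (hE : IsPGroup p E) (hE' : IsPGroup p E')
    (h3 : 3 ≤ Nat.card E') (hne : ∃ x ∈ E, x ≠ 1)
    (hab : ∀ x ∈ E, ∀ y ∈ E, x * y = y * x)
    (hTI : ∀ x ∈ E, x ≠ 1 → ∀ l : L, l⁻¹ * x * l ∈ E → l ∈ E)
    (hc : ∀ x ∈ E, x ≠ 1 → ∀ y ∈ E', y ≠ 1 → ∀ l : L, l⁻¹ * (x * y) * l ∉ E) : False := by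
  classical
  have hidx := not_dvd_index E hE hne hTI
  have hN := normalizer_eq_self E hne hTI
  set P : Sylow p L := hE.toSylow hidx with hPdef
  have hPE : (P : Subgroup L) = E := rfl
  have hmemP : ∀ z, z ∈ P ↔ z ∈ E := fun z => Iff.rfl
  have hP : normalizer (P : Set L) ≤ centralizer (P : Set L) := by
    intro l hl
    have hl' : l ∈ E := by
      have : l ∈ normalizer (E : Set L) := hl
      rwa [hN] at this
    rw [mem_centralizer_iff]
    intro y hy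
    exact hab y hy l hl'
  set φ := MonoidHom.transferSylow P hP with hφ
  have hcompl := MonoidHom.ker_transferSylow_isComplement' P hP
  have hdisjP : Disjoint φ.ker (P : Subgroup L) := hcompl.disjoint
  have hdisj' : Disjoint φ.ker E' := MonoidHom.ker_transferSylow_disjoint P hP E' hE'
  have hcop : ¬ p ∣ Nat.card φ.ker := MonoidHom.not_dvd_card_ker_transferSylow P hP
  obtain ⟨x, hx, hx1⟩ := hne
  have hφx : φ x ≠ 1 := by
    intro h0
    apply hx1
    have hxk : x ∈ φ.ker := MonoidHom.mem_ker.mpr h0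
    have := (disjoint_def.mp hdisjP) hxk hx
    exact this
  -- injectivity of `φ` on `E'`
  have hinj : ∀ y₁ ∈ E', ∀ y₂ ∈ E', φ y₁ = φ y₂ → y₁ = y₂ := by
    intro y₁ h1 y₂ h2 he
    have hk : y₁ * y₂⁻¹ ∈ φ.ker := by
      rw [MonoidHom.mem_ker, map_mul, map_inv, he, mul_inv_cancel]
    have := (disjoint_def.mp hdisj') hk (E'.mul_mem h1 (E'.inv_mem h2))
    exact mul_inv_eq_one.mp this
  -- two distinct non-trivial elements of `E'`
  have hex : ∃ y₁ ∈ E', ∃ y₂ ∈ E', y₁ ≠ 1 ∧ y₂ ≠ 1 ∧ y₁ ≠ y₂ := by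
    have : Fintype E' := Fintype.ofFinite _
    have h3' : 2 < Fintype.card E' := by
      rw [← Nat.card_eq_fintype_card]; omega
    obtain ⟨a, b, c, hab', hac, hbc⟩ := Fintype.two_lt_card_iff.mp h3'
    by_cases ha : a = 1
    · refine ⟨b, b.2, c, c.2, ?_, ?_, ?_⟩
      · intro hb; apply hab'; rw [ha]; exact (Subtype.ext hb).symm
      · intro hc'; apply hac; rw [ha]; exact (Subtype.ext hc').symm
      · intro h; exact hbc (Subtype.ext h)
    · by_cases hb : b = 1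
      · refine ⟨a, a.2, c, c.2, ?_, ?_, ?_⟩
        · intro h; exact ha (Subtype.ext h)
        · intro hc'; apply hbc; rw [hb]; exact (Subtype.ext hc').symm
        · intro h; exact hac (Subtype.ext h)
      · refine ⟨a, a.2, b, b.2, ?_, ?_, ?_⟩
        · intro h; exact ha (Subtype.ext h)
        · intro h; exact hb (Subtype.ext h)
        · intro h; exact hab' (Subtype.ext h)
  obtain ⟨y₁, hy₁, y₂, hy₂, hy₁1, hy₂1, hy12⟩ := hex
  -- choose `y` with `φ (x * y) ≠ 1`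
  obtain ⟨y, hy, hy1, hφxy⟩ : ∃ y ∈ E', y ≠ 1 ∧ φ (x * y) ≠ 1 := by
    by_cases h1 : φ (x * y₁) = 1
    · refine ⟨y₂, hy₂, hy₂1, fun h2 => hy12 (hinj y₁ hy₁ y₂ hy₂ ?_)⟩
      rw [map_mul] at h1 h2
      exact mul_left_cancel (h1.trans h2.symm)
    · exact ⟨y₁, hy₁, hy₁1, h1⟩
  set g := x * y with hg
  set N := Nat.card φ.ker with hNdef
  set g₁ := g ^ N with hg₁
  obtain ⟨n, hn⟩ := IsPGroup.iff_card.mp hE
  -- `g₁` is a `p`-element
  have hcardL : Nat.card L = N * p ^ n := by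
    have := hcompl.card_mul_card
    rw [← this, ← hn]
    rfl
  have hg₁p : g₁ ^ p ^ n = 1 := by
    rw [hg₁, ← pow_mul, ← hcardL]
    exact pow_card_eq_one'
  -- `g₁ ≠ 1`
  have hg₁1 : g₁ ≠ 1 := by
    intro h0
    have h1 : (φ g) ^ N = 1 := by rw [← map_pow, ← hg₁, h0, map_one]
    have h2 : orderOf (φ g) ∣ N := orderOf_dvd_of_pow_eq_one h1
    obtain ⟨k, hk⟩ := (IsPGroup.iff_orderOf.mp P.2) (φ g)
    rw [hk] at h2
    cases k with
    | zero =>
      rw [pow_zero, orderOf_eq_one_iff] at hk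
      exact hφxy hk
    | succ k =>
      exact hcop (dvd_trans (dvd_pow_self p (Nat.succ_ne_zero k)) h2)
  -- `g₁` lies in a conjugate of `E`
  have hzp : IsPGroup p (zpowers g₁) := by
    rintro ⟨z, hz⟩
    obtain ⟨j, rfl⟩ := mem_zpowers_iff.mp hz
    refine ⟨n, Subtype.ext ?_⟩
    rw [SubmonoidClass.coe_pow]
    show (g₁ ^ j) ^ p ^ n = 1
    rw [← zpow_natCast, ← zpow_mul, mul_comm, zpow_mul, zpow_natCast, hg₁p, one_zpow]
  obtain ⟨Q, hQ⟩ := hzp.exists_le_sylow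
  obtain ⟨l, hl⟩ := MulAction.exists_smul_eq L Q P
  have hg₁Q : g₁ ∈ Q := hQ (mem_zpowers g₁)
  have hx₁ : l * g₁ * l⁻¹ ∈ E := by
    have h1 : MulAut.conj l • g₁ ∈ MulAut.conj l • (Q : Subgroup L) :=
      Subgroup.smul_mem_pointwise_smul_iff.mpr hg₁Q
    rw [← Sylow.coe_subgroup_smul, hl, MulAut.smul_def, MulAut.conj_apply] at h1
    exact h1
  have hx₁1 : l * g₁ * l⁻¹ ≠ 1 := by
    intro h0
    apply hg₁1
    have : g₁ = l⁻¹ * (l * g₁ * l⁻¹) * l := by group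
    rw [this, h0]; group
  have hcomm : g * g₁ = g₁ * g := by
    rw [hg₁, ← pow_succ', ← pow_succ]
  have hm : l * g⁻¹ * l⁻¹ ∈ E := by
    apply hTI _ hx₁ hx₁1
    have e : (l * g⁻¹ * l⁻¹)⁻¹ * (l * g₁ * l⁻¹) * (l * g⁻¹ * l⁻¹) = l * (g * g₁ * g⁻¹) * l⁻¹ := by
      group
    rw [e, hcomm, mul_inv_cancel_right]
    exact hx₁
  have hfin : l⁻¹⁻¹ * (x * y) * l⁻¹ ∈ E := by
    have e : l⁻¹⁻¹ * (x * y) * l⁻¹ = (l * g⁻¹ * l⁻¹)⁻¹ := by
      rw [hg]; group
    rw [e]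
    exact E.inv_mem hm
  exact hc x hx hx1 y hy hy1 l⁻¹ hfin

end Top

section Rel

variable {G : Type*} [Group G]

/-- **the opposite-pair lemma**, for a finite subgroup `L` of a group `G`: hypotheses (a)+(b)
(`hTI`: an element `x ≠ 1` of `E` fixing the point `l E` of `L / E` forces `l ∈ E`) and (c)
(`hc`: no product `x * y` lies in a conjugate of `E`) are contradictory when `|E'| ≥ 3`. -/
theorem opp_false (L : Subgroup G) [Finite L] {p : ℕ} [Fact p.Prime]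
    (E E' : Subgroup G) (hEL : E ≤ L) (hE'L : E' ≤ L) (hE : IsPGroup p E) (hE' : IsPGroup p E')
    (h3 : 3 ≤ Nat.card E') (hne : ∃ x ∈ E, x ≠ 1)
    (hab : ∀ x ∈ E, ∀ y ∈ E, x * y = y * x)
    (hTI : ∀ x ∈ E, x ≠ 1 → ∀ l ∈ L, l⁻¹ * x * l ∈ E → l ∈ E)
    (hc : ∀ x ∈ E, x ≠ 1 → ∀ y ∈ E', y ≠ 1 → ∀ l ∈ L, l⁻¹ * (x * y) * l ∉ E) : False := by
  refine opp_false_top (L := ↥L) (p := p) (E.subgroupOf L) (E'.subgroupOf L) ?_ ?_ ?_ ?_ ?_ ?_ ?_
  · exact hE.comap_subtype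
  · exact hE'.comap_subtype
  · rw [Nat.card_congr (subgroupOfEquivOfLe hE'L).toEquiv]; exact h3
  · obtain ⟨x, hx, hx1⟩ := hne
    exact ⟨⟨x, hEL hx⟩, mem_subgroupOf.mpr hx, fun h => hx1 (congrArg Subtype.val h)⟩
  · rintro ⟨x, hxL⟩ hx ⟨y, hyL⟩ hy
    exact Subtype.ext (hab x (mem_subgroupOf.mp hx) y (mem_subgroupOf.mp hy))
  · rintro ⟨x, hxL⟩ hx hx1 ⟨l, hlL⟩ hl
    rw [mem_subgroupOf] at hx hl ⊢
    exact hTI x hx (fun h => hx1 (Subtype.ext h)) l hlL hl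
  · rintro ⟨x, hxL⟩ hx hx1 ⟨y, hyL⟩ hy hy1 ⟨l, hlL⟩ hl
    rw [mem_subgroupOf] at hx hy hl
    exact hc x hx (fun h => hx1 (Subtype.ext h)) y hy (fun h => hy1 (Subtype.ext h)) l hlL hl

end Rel

end Cfsg.Agent.Helper3.OppPair
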