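import Mathlib
import Cfsg.Agent.Helper8.Ord19Defs
import Cfsg.Agent.Helper1.Card
import Cfsg.Agent.Helper2.SmallOrder

/-!
# S4274, piece (3) `reduction` (helper3, for helper8's blueprint)
-/

set_option autoImplicit false

namespace Cfsg.Agent.Helper8.Ord19

universe u

open scoped Pointwise

set_option maxRecDepth 100000 in
theorem h3_two_primes : ∀ m ∈ Nat.divisors 9240, 19 ≤ m →
    (2 ∣ m ∧ (3 ∣ m ∨ 5 ∣ m ∨ 7 ∣ m ∨ 11 ∣ m)) ∨ (3 ∣ m ∧ (5 ∣ m ∨ 7 ∣ m ∨ 11 ∣ m)) ∨
    (5 ∣ m ∧ (7 ∣ m ∨ 11 ∣ m)) ∨ (7 ∣ m ∧ 11 ∣ m) := by decide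

/-- a prime power dividing `9240` is `< 19` -/
theorem h3_ppow_lt {r a : ℕ} (hr : r.Prime) (h : r ^ a ∣ 9240) : r ^ a < 19 := by
  by_contra hlt
  rw [not_lt] at hlt
  have hm : r ^ a ∈ Nat.divisors 9240 := Nat.mem_divisors.mpr ⟨h, by norm_num⟩
  have key : ∀ q q' : ℕ, q.Prime → q'.Prime → q ≠ q' → q ∣ r ^ a → q' ∣ r ^ a → False := by
    intro q q' hq hq' hne h1 h2
    have e1 : q = r := (Nat.prime_dvd_prime_iff_eq hq hr).mp (hq.dvd_of_dvd_pow h1)
    have e2 : q' = r := (Nat.prime_dvd_prime_iff_eq hq' hr).mp (hq'.dvd_of_dvd_pow h2)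
    exact hne (e1.trans e2.symm)
  have p2 : (2 : ℕ).Prime := by norm_num
  have p3 : (3 : ℕ).Prime := by norm_num
  have p5 : (5 : ℕ).Prime := by norm_num
  have p7 : (7 : ℕ).Prime := by norm_num
  have p11 : (11 : ℕ).Prime := by norm_num
  rcases h3_two_primes _ hm hlt with ⟨h1, h2 | h2 | h2 | h2⟩ | ⟨h1, h2 | h2 | h2⟩ |
    ⟨h1, h2 | h2⟩ | ⟨h1, h2⟩
  · exact key 2 3 p2 p3 (by norm_num) h1 h2
  · exact key 2 5 p2 p5 (by norm_num) h1 h2
  · exact key 2 7 p2 p7 (by norm_num) h1 h2
  · exact key 2 11 p2 p11 (by norm_num) h1 h2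
  · exact key 3 5 p3 p5 (by norm_num) h1 h2
  · exact key 3 7 p3 p7 (by norm_num) h1 h2
  · exact key 3 11 p3 p11 (by norm_num) h1 h2
  · exact key 5 7 p5 p7 (by norm_num) h1 h2
  · exact key 5 11 p5 p11 (by norm_num) h1 h2
  · exact key 7 11 p7 p11 (by norm_num) h1 h2

variable {H : Type u} [Group H] [Finite H]

/-- an element of order dividing `19` normalizing a subgroup of order `< 19` centralizes it -/
theorem h3_centralizes (R : Subgroup H) (hR : Nat.card R < 19) (y : H)
    (hyN : y ∈ Subgroup.normalizer (R : Set H)) (hy : y ^ 19 = 1) :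
    y ∈ Subgroup.centralizer (R : Set H) := by
  have hker : (⟨y, hyN⟩ : Subgroup.normalizer (R : Set H)) ∈ R.normalizerMonoidHom.ker := by
    rw [MonoidHom.mem_ker]
    have h1 : (R.normalizerMonoidHom ⟨y, hyN⟩) ^ 19 = 1 := by
      rw [← map_pow]
      have : (⟨y, hyN⟩ : Subgroup.normalizer (R : Set H)) ^ 19 = 1 := by
        apply Subtype.ext
        simpa using hy
      rw [this, map_one]
    have h2 : (R.normalizerMonoidHom ⟨y, hyN⟩) ^ (Nat.card (MulAut R)) = 1 := pow_card_eq_one'
    have h3 : Nat.card (MulAut R) ∣ (Nat.card R - 1).factorial :=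
      Cfsg.Agent.Helper2.SmallOrder.card_mulAut_dvd_factorial R
    have h4 : Nat.Coprime 19 (Nat.card (MulAut R)) := by
      apply Nat.Coprime.coprime_dvd_right h3
      rw [Nat.coprime_comm]
      apply Nat.Coprime.symm
      rw [Nat.Prime.coprime_iff_not_dvd (by norm_num)]
      intro h5
      have h6 := (Nat.Prime.dvd_factorial (by norm_num)).mp h5
      omega
    have h5 := pow_gcd_eq_one.mpr ⟨h1, h2⟩
    rw [Nat.Coprime.gcd_eq_one h4, pow_one] at h5
    exact h5
  rw [Subgroup.normalizerMonoidHom_ker, Subgroup.mem_subgroupOf] at hker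
  exact hker


/-- Frattini, order form: for `N ⊴ H` and a Sylow subgroup `S` of `N`,
`|H|` divides `|N| |N_H(S)|`. -/
theorem h3_frattini_card {l : ℕ} [Fact l.Prime] (N : Subgroup H) [N.Normal] (S : Sylow l N) :
    Nat.card H ∣ Nat.card N *
      Nat.card (Subgroup.normalizer (((S : Subgroup N).map N.subtype : Subgroup H) : Set H)) := by
  have hfrat := Sylow.normalizer_sup_eq_top S
  have h := Cfsg.Agent.Helper1.card_sup_mul_card_inf (N := N)
    (A := Subgroup.normalizer (((S : Subgroup N).map N.subtype : Subgroup H) : Set H))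
    Subgroup.le_normalizer_of_normal
  rw [sup_comm, hfrat, Subgroup.card_top] at h
  exact Dvd.intro _ h

theorem h3_sylow_map_card {l : ℕ} [Fact l.Prime] (N : Subgroup H) (S : Sylow l N) :
    Nat.card ((S : Subgroup N).map N.subtype : Subgroup H) =
      l ^ (Nat.card N).factorization l := by
  rw [Subgroup.card_map_of_injective N.subtype_injective]
  exact S.card_eq_multiplicity

theorem h3_prime19 : Nat.Prime 19 := by norm_num

theorem h3_not_dvd_9240 : ¬ 19 ∣ 9240 := by norm_num

/-- the Sylow `19`-subgroups of a group of order `19 d`, `d ∣ 9240`, have order `19` -/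
theorem h3_card_sylow19 {d : ℕ} (hd : d ∣ 9240) (hH : Nat.card H = 19 * d) (P : Sylow 19 H) :
    Nat.card P = 19 := by
  have : Fact (Nat.Prime 19) := ⟨h3_prime19⟩
  have hd0 : d ≠ 0 := by
    rintro rfl
    simp at hd
  have h0 : d.factorization 19 = 0 :=
    Nat.factorization_eq_zero_of_not_dvd (fun h => h3_not_dvd_9240 (h.trans hd))
  rw [Sylow.card_eq_multiplicity, hH, Nat.factorization_mul (by norm_num) hd0]
  simp [Nat.Prime.factorization_self h3_prime19, h0]

/-- a Sylow `19`-subgroup of order `19` is generated by a conjugate of any element of order `19` -/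
theorem h3_conj_into (P : Sylow 19 H) (hP : Nat.card P = 19) (y : H) (hy : orderOf y = 19) :
    ∃ g : H, (P : Subgroup H) = Subgroup.zpowers (g * y * g⁻¹) := by
  have : Fact (Nat.Prime 19) := ⟨h3_prime19⟩
  have hpg : IsPGroup 19 (Subgroup.zpowers y) := by
    apply IsPGroup.of_card (n := 1)
    rw [Nat.card_zpowers, hy, pow_one]
  obtain ⟨Q, hQ⟩ := hpg.exists_le_sylow
  obtain ⟨g, hg⟩ := MulAction.exists_smul_eq H Q P
  refine ⟨g, ?_⟩
  have hmem : g * y * g⁻¹ ∈ (P : Subgroup H) := by
    have h1 : MulAut.conj g • y ∈ MulAut.conj g • (Q : Subgroup H) :=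
      Subgroup.smul_mem_pointwise_smul _ _ _ (hQ (Subgroup.mem_zpowers y))
    rw [← Sylow.pointwise_smul_def, ← Sylow.smul_def, hg] at h1
    simpa [MulAut.smul_def] using h1
  have hord : orderOf (g * y * g⁻¹) = 19 := by
    have := orderOf_injective (MulAut.conj g).toMonoidHom (MulAut.conj g).injective y
    simpa [hy] using this
  symm
  apply Subgroup.eq_of_le_of_card_ge
  · rw [Subgroup.zpowers_le]; exact hmem
  · rw [Nat.card_zpowers, hord, hP]

/-- **The split case.** `N ⊴ H`, `|N| ∣ 9240`, `|H| = 19 |N|`: the Sylow `19`-subgroups are normal. -/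
theorem h3_split_normal (N : Subgroup H) [N.Normal] (hN : Nat.card N ∣ 9240)
    (hH : Nat.card H = 19 * Nat.card N) (P : Sylow 19 H) : (P : Subgroup H).Normal := by
  have : Fact (Nat.Prime 19) := ⟨h3_prime19⟩
  have hPcard := h3_card_sylow19 hN hH P
  have hcop : Nat.Coprime 19 (Nat.card N) := by
    rw [Nat.Prime.coprime_iff_not_dvd h3_prime19]
    exact fun h => h3_not_dvd_9240 (h.trans hN)
  -- `N` centralizes `P`
  have hcardC : Nat.card N ∣
      Nat.card (Subgroup.centralizer ((P : Subgroup H) : Set H) ⊓ N : Subgroup H) := by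
    rw [← Nat.factorization_prime_le_iff_dvd Nat.card_pos.ne' Nat.card_pos.ne']
    intro r hr
    have : Fact r.Prime := ⟨hr⟩
    rw [← Nat.Prime.pow_dvd_iff_le_factorization hr Nat.card_pos.ne']
    have R : Sylow r N := default
    have hfr := h3_frattini_card N R
    have hcard := h3_sylow_map_card N R
    obtain ⟨R', hR'⟩ : ∃ R' : Subgroup H, R' = (R : Subgroup N).map N.subtype := ⟨_, rfl⟩
    rw [← hR'] at hfr hcard
    have hR'N : R' ≤ N := by
      rw [hR']
      intro x hx
      obtain ⟨x', _, rfl⟩ := Subgroup.mem_map.mp hx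
      exact x'.2
    have hR'lt : Nat.card R' < 19 := by
      rw [hcard]
      apply h3_ppow_lt hr
      exact (Nat.ordProj_dvd _ _).trans hN
    have h19n : 19 ∣ Nat.card (Subgroup.normalizer (R' : Set H)) := by
      have h1 : 19 ∣ Nat.card N * Nat.card (Subgroup.normalizer (R' : Set H)) :=
        (Dvd.intro _ hH.symm).trans hfr
      exact hcop.dvd_of_dvd_mul_left h1
    obtain ⟨y, hy⟩ := exists_prime_orderOf_dvd_card' 19 h19n
    have hyo : orderOf (y : H) = 19 := by rw [Subgroup.orderOf_coe, hy]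
    have hy19 : (y : H) ^ 19 = 1 := by rw [← hyo]; exact pow_orderOf_eq_one _
    have hyC := h3_centralizes R' hR'lt (y : H) y.2 hy19
    obtain ⟨g, hg⟩ := h3_conj_into P hPcard (y : H) hyo
    -- the conjugate `g R' g⁻¹`
    have hle : R'.map (MulAut.conj g).toMonoidHom ≤
        Subgroup.centralizer ((P : Subgroup H) : Set H) ⊓ N := by
      intro x hx
      obtain ⟨x', hx', rfl⟩ := Subgroup.mem_map.mp hx
      have hcomm : x' * (y : H) = (y : H) * x' := (Subgroup.mem_centralizer_iff.mp hyC) x' hx'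
      rw [Subgroup.mem_inf]
      constructor
      · rw [hg, Subgroup.mem_centralizer_iff]
        intro w hw
        obtain ⟨k, rfl⟩ := Subgroup.mem_zpowers_iff.mp hw
        have hc1 : Commute (g * (y : H) * g⁻¹) ((MulAut.conj g).toMonoidHom x') := by
          show g * (y : H) * g⁻¹ * ((MulAut.conj g) x') = (MulAut.conj g) x' * (g * (y : H) * g⁻¹)
          rw [MulAut.conj_apply]
          calc g * (y : H) * g⁻¹ * (g * x' * g⁻¹) = g * ((y : H) * x') * g⁻¹ := by group
            _ = g * (x' * (y : H)) * g⁻¹ := by rw [hcomm]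
            _ = g * x' * g⁻¹ * (g * (y : H) * g⁻¹) := by group
        exact (hc1.zpow_left k).eq
      · show (MulAut.conj g) x' ∈ N
        rw [MulAut.conj_apply]
        exact ‹N.Normal›.conj_mem x' (hR'N hx') g
    have hcard2 : Nat.card (R'.map (MulAut.conj g).toMonoidHom) = Nat.card R' :=
      Subgroup.card_map_of_injective (MulAut.conj g).injective
    rw [← hcard, ← hcard2]
    exact Subgroup.card_dvd_of_le hle
  have hCN : Subgroup.centralizer ((P : Subgroup H) : Set H) ⊓ N = N := by
    apply Subgroup.eq_of_le_of_card_ge inf_le_right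
    exact Nat.le_of_dvd Nat.card_pos hcardC
  have hNC : N ≤ Subgroup.centralizer ((P : Subgroup H) : Set H) := by
    rw [← hCN]; exact inf_le_left
  have hNn : N ≤ Subgroup.normalizer ((P : Subgroup H) : Set H) :=
    hNC.trans (Subgroup.centralizer_le_normalizer _)
  have hPn : (P : Subgroup H) ≤ Subgroup.normalizer ((P : Subgroup H) : Set H) :=
    Subgroup.le_normalizer
  have h1 : Nat.card N ∣ Nat.card (Subgroup.normalizer ((P : Subgroup H) : Set H)) :=
    Subgroup.card_dvd_of_le hNn
  have h2 : 19 ∣ Nat.card (Subgroup.normalizer ((P : Subgroup H) : Set H)) := by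
    have h2' := Subgroup.card_dvd_of_le hPn
    rwa [hPcard] at h2'
  have h3 : 19 * Nat.card N ∣ Nat.card (Subgroup.normalizer ((P : Subgroup H) : Set H)) :=
    hcop.mul_dvd_of_dvd_of_dvd h2 h1
  rw [← hH] at h3
  rw [← Subgroup.normalizer_eq_top_iff]
  apply Subgroup.eq_top_of_card_eq
  exact Nat.dvd_antisymm (Subgroup.card_subgroup_dvd_card _) h3


/-- a proper normal subgroup of order divisible by `19` forces (by induction and Frattini)
the Sylow `19`-subgroups to be normal -/
theorem h3_of_normal_dvd {d : ℕ} (hd : d ∣ 9240) (hH : Nat.card H = 19 * d)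
    (IH : ∀ d' < d, d' ∣ 9240 → ∀ (K : Type u) [Group K] [Finite K], Nat.card K = 19 * d' →
      ∀ P : Sylow 19 K, (P : Subgroup K).Normal)
    (N : Subgroup H) [N.Normal] (hNtop : N ≠ ⊤) (h19 : 19 ∣ Nat.card N) (P : Sylow 19 H) :
    (P : Subgroup H).Normal := by
  have : Fact (Nat.Prime 19) := ⟨h3_prime19⟩
  have hPcard := h3_card_sylow19 hd hH P
  obtain ⟨d', hd'⟩ := h19
  have hcardeq : Nat.card H = Nat.card (H ⧸ N) * Nat.card N :=
    Subgroup.card_eq_card_quotient_mul_card_subgroup N
  have hq : d = Nat.card (H ⧸ N) * d' := by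
    rw [hH, hd'] at hcardeq
    have h1 : 19 * d = 19 * (Nat.card (H ⧸ N) * d') := by rw [hcardeq]; ring
    exact Nat.eq_of_mul_eq_mul_left (by norm_num) h1
  have hd'd : d' ∣ d := Dvd.intro_left _ hq.symm
  have hd0 : 0 < d := Nat.pos_of_dvd_of_pos hd (by norm_num)
  have hd'lt : d' < d := by
    rcases Nat.lt_or_ge d' d with h | h
    · exact h
    · exfalso
      apply hNtop
      apply Subgroup.eq_top_of_card_eq
      have h1 : d' = d := Nat.le_antisymm (Nat.le_of_dvd hd0 hd'd) h
      rw [hd', hH, h1]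
  have hqcop : Nat.Coprime 19 (Nat.card (H ⧸ N)) := by
    rw [Nat.Prime.coprime_iff_not_dvd h3_prime19]
    intro h
    exact h3_not_dvd_9240 ((h.trans (Dvd.intro _ hq.symm)).trans hd)
  have hPN : (P : Subgroup H) ≤ N := by
    intro x hx
    have h1 : x ^ 19 = 1 := by
      have h0 : (⟨x, hx⟩ : (P : Subgroup H)) ^ Nat.card (P : Subgroup H) = 1 := pow_card_eq_one'
      rw [hPcard] at h0
      have := congrArg Subtype.val h0
      simpa using this
    have h2 : (QuotientGroup.mk' N x) ^ 19 = 1 := by rw [← map_pow, h1, map_one]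
    have h3 : (QuotientGroup.mk' N x) ^ Nat.card (H ⧸ N) = 1 := pow_card_eq_one'
    have h4 := pow_gcd_eq_one.mpr ⟨h2, h3⟩
    rw [Nat.Coprime.gcd_eq_one hqcop, pow_one] at h4
    exact (QuotientGroup.eq_one_iff x).mp h4
  have hfrat := Sylow.normalizer_sup_eq_top' P hPN
  have hnorm := IH d' hd'lt (hd'd.trans hd) ↥N hd' (P.subtype hPN)
  have hNle : N ≤ Subgroup.normalizer ((P : Subgroup H) : Set H) := by
    rw [← Subgroup.normal_subgroupOf_iff_le_normalizer hPN, ← Sylow.coe_subtype]
    exact hnorm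
  have hfrat' : Subgroup.normalizer ((P : Subgroup H) : Set H) ⊔ N = ⊤ := hfrat
  rw [sup_eq_left.mpr hNle] at hfrat'
  exact Subgroup.normalizer_eq_top_iff.mp hfrat'

/-- the induction -/
theorem h3_main
    (hsimple : ∀ (K : Type u) [Group K] [Finite K] [IsSimpleGroup K] (d : ℕ), d ∣ 9240 → 1 < d →
      d < 9240 → Nat.card K = 19 * d → False) :
    ∀ d : ℕ, d ∣ 9240 → ∀ (K : Type u) [Group K] [Finite K], Nat.card K = 19 * d →
      (d = 9240 → ¬ IsSimpleGroup K) → ∀ P : Sylow 19 K, (P : Subgroup K).Normal := by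
  intro d
  induction d using Nat.strong_induction_on with
  | _ d IH =>
    intro hd K _ _ hK hns P
    have : Fact (Nat.Prime 19) := ⟨h3_prime19⟩
    have hdle : d ≤ 9240 := Nat.le_of_dvd (by norm_num) hd
    have hdpos : 0 < d := Nat.pos_of_dvd_of_pos hd (by norm_num)
    have IH' : ∀ d' < d, d' ∣ 9240 → ∀ (K' : Type u) [Group K'] [Finite K'],
        Nat.card K' = 19 * d' → ∀ P : Sylow 19 K', (P : Subgroup K').Normal := by
      intro d' hlt hd' K' _ _ hK' P'
      refine IH d' hlt hd' K' hK' ?_ P'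
      intro h9240
      omega
    by_cases hs : IsSimpleGroup K
    · have hd9240 : d ≠ 9240 := fun h => hns h hs
      by_cases hd1 : d = 1
      · have hPc := h3_card_sylow19 hd hK P
        have htop : (P : Subgroup K) = ⊤ := by
          apply Subgroup.eq_top_of_card_eq
          rw [hPc, hK, hd1]
        rw [htop]
        infer_instance
      · exfalso
        exact hsimple K d hd (by omega) (by omega) hK
    · have hnt : Nontrivial K := by
        rw [← Finite.one_lt_card_iff_nontrivial, hK]
        omega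
      obtain ⟨N, hNn, hNbot, hNtop⟩ : ∃ N : Subgroup K, N.Normal ∧ N ≠ ⊥ ∧ N ≠ ⊤ := by
        by_contra hno
        apply hs
        exact { exists_pair_ne := hnt.exists_pair_ne
                eq_bot_or_eq_top_of_normal := fun N hN => by
                  by_contra h
                  rw [not_or] at h
                  exact hno ⟨N, hN, h.1, h.2⟩ }
      by_cases h19 : 19 ∣ Nat.card N
      · exact h3_of_normal_dvd hd hK IH' N hNtop h19 P
      · -- pass to the quotient
        have hcardeq : Nat.card K = Nat.card (K ⧸ N) * Nat.card N :=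
          Subgroup.card_eq_card_quotient_mul_card_subgroup N
        have hcopN : Nat.Coprime (Nat.card N) 19 :=
          ((Nat.Prime.coprime_iff_not_dvd h3_prime19).mpr h19).symm
        have hNd : Nat.card N ∣ d := by
          have h1 : Nat.card N ∣ 19 * d := by
            rw [← hK]; exact Subgroup.card_subgroup_dvd_card N
          exact hcopN.dvd_of_dvd_mul_left h1
        obtain ⟨d'', hd''⟩ := hNd
        have hm1 : 1 < Nat.card N := N.one_lt_card_iff_ne_bot.mpr hNbot
        have hd''pos : 0 < d'' := by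
          rcases Nat.eq_zero_or_pos d'' with h | h
          · rw [h, mul_zero] at hd''; omega
          · exact h
        have hd''lt : d'' < d := by
          rw [hd'']
          calc d'' = 1 * d'' := (one_mul _).symm
            _ < Nat.card N * d'' := Nat.mul_lt_mul_of_pos_right hm1 hd''pos
        have hd''dvd : d'' ∣ 9240 := (Dvd.intro_left _ hd''.symm).trans hd
        have hQcard : Nat.card (K ⧸ N) = 19 * d'' := by
          rw [hK, hd''] at hcardeq
          have h1 : Nat.card (K ⧸ N) * Nat.card N = (19 * d'') * Nat.card N := by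
            rw [← hcardeq]; ring
          exact Nat.eq_of_mul_eq_mul_right (by omega) h1
        have Qb : Sylow 19 (K ⧸ N) := default
        have hQbn : (Qb : Subgroup (K ⧸ N)).Normal := IH' d'' hd''lt hd''dvd (K ⧸ N) hQcard Qb
        have hQbc : Nat.card Qb = 19 := h3_card_sylow19 hd''dvd hQcard Qb
        obtain ⟨X, hX⟩ : ∃ X : Subgroup K, X = (Qb : Subgroup (K ⧸ N)).comap (QuotientGroup.mk' N) :=
          ⟨_, rfl⟩
        have hXn : X.Normal := by rw [hX]; exact hQbn.comap _
        have hXidx : X.index = d'' := by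
          rw [hX, Subgroup.index_comap_of_surjective _ (QuotientGroup.mk'_surjective N)]
          have h1 := (Qb : Subgroup (K ⧸ N)).card_mul_index
          rw [hQbc, hQcard] at h1
          exact Nat.eq_of_mul_eq_mul_left (by norm_num) h1
        have hXcard : Nat.card X = 19 * Nat.card N := by
          have h1 := X.card_mul_index
          rw [hXidx, hK, hd''] at h1
          have h2 : Nat.card X * d'' = (19 * Nat.card N) * d'' := by rw [h1]; ring
          exact Nat.eq_of_mul_eq_mul_right hd''pos h2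
        by_cases hXtop : X = ⊤
        · have h1 : Nat.card K = 19 * Nat.card N := by
            rw [← hXcard, hXtop, Subgroup.card_top]
          have hNdvd : Nat.card N ∣ 9240 := (Dvd.intro _ hd''.symm).trans hd
          exact h3_split_normal N hNdvd h1 P
        · exact h3_of_normal_dvd hd hK IH' X hXtop (Dvd.intro _ hXcard.symm) P

/-- **Piece (3).** -/
theorem reduction {G : Type u} [Group G] [Finite G]
    (hsimple : ∀ (H : Type u) [Group H] [Finite H] [IsSimpleGroup H] (d : ℕ), d ∣ 9240 → 1 < d →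
      d < 9240 → Nat.card H = 19 * d → False)
    (hG : Nat.card G = 175560) :
    IsSimpleGroup G ∨ ∀ P : Sylow 19 G, (P : Subgroup G).Normal := by
  by_cases hs : IsSimpleGroup G
  · exact Or.inl hs
  · right
    exact h3_main hsimple 9240 (dvd_refl _) G (by rw [hG]) (fun _ => hs)

end Cfsg.Agent.Helper8.Ord19
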