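import Mathlib
import Cfsg.Agent.Helper2.SmallOrder
import Cfsg.Agent.Helper2.SylowExact2

set_option autoImplicit false

namespace Cfsg.Agent.Helper3.Ord360

open Subgroup

variable {G : Type*} [Group G]

/-- The numerical context: a group of order 360 with ten Sylow 3-subgroups meeting trivially. -/
structure Ctx (G : Type*) [Group G] : Prop where
  hcard : Nat.card G = 360
  hn3 : Nat.card (Sylow 3 G) = 10
  hTI : ∀ P P' : Sylow 3 G, P ≠ P' → (P : Subgroup G) ⊓ (P' : Subgroup G) = ⊥

theorem mem_smul_iff {p : ℕ} {g x : G} {P : Sylow p G} :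
    x ∈ ((g • P : Sylow p G) : Subgroup G) ↔ g⁻¹ * x * g ∈ (P : Subgroup G) := by
  rw [Sylow.coe_subgroup_smul, Subgroup.mem_pointwise_smul_iff_inv_smul_mem]
  simp [MulAut.smul_def]

variable [Finite G] [IsSimpleGroup G]

theorem six_le_index (c : Ctx G) (H : Subgroup G) (hH : H ≠ ⊤) : 6 ≤ H.index := by
  have h := Cfsg.Agent.Helper2.SmallOrder.card_dvd_factorial_index H hH
  rw [c.hcard] at h
  by_contra hlt
  push Not at hlt
  have hpos : H.index ≠ 0 := Subgroup.index_ne_zero_of_finite
  interval_cases H.index <;> first | exact absurd rfl hpos | (revert h; decide)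

theorem card_le_sixty (c : Ctx G) (H : Subgroup G) (hH : H ≠ ⊤) : Nat.card H ≤ 60 := by
  have h1 := six_le_index c H hH
  have h2 := H.card_mul_index
  rw [c.hcard] at h2
  nlinarith

theorem card_sylow3 (c : Ctx G) (P : Sylow 3 G) : Nat.card P = 9 := by
  have := Cfsg.Agent.Helper2.SylowExact.card_sylow_of_exact_pow (s := 3) (k := 2) (m := 40)
    (by rw [c.hcard]; norm_num) (by norm_num) P
  simpa using this

theorem card_sylow2 (c : Ctx G) (S : Sylow 2 G) : Nat.card S = 8 := by
  have := Cfsg.Agent.Helper2.SylowExact.card_sylow_of_exact_pow (s := 2) (k := 3) (m := 45)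
    (by rw [c.hcard]; norm_num) (by norm_num) S
  simpa using this

theorem card_normalizer3 (c : Ctx G) (P : Sylow 3 G) :
    Nat.card (normalizer ((P : Subgroup G) : Set G)) = 36 := by
  have h := Cfsg.Agent.Helper2.SmallOrder.card_normalizer_mul_card_sylow P
  rw [c.hn3, c.hcard] at h
  omega

theorem sylow3_comm (c : Ctx G) (P : Sylow 3 G) (x y : G) (hx : x ∈ (P : Subgroup G))
    (hy : y ∈ (P : Subgroup G)) : x * y = y * x := by
  have hP : Nat.card (P : Subgroup G) = 3 ^ 2 := by rw [card_sylow3 c P]; norm_num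
  have hc : IsMulCommutative (P : Subgroup G) := IsPGroup.isMulCommutative_of_card_eq_prime_sq hP
  have := hc.is_comm.comm ⟨x, hx⟩ ⟨y, hy⟩
  exact congrArg Subtype.val this

/-- Uniqueness of the Sylow 3-subgroup containing a nontrivial element. -/
theorem sylow3_unique (c : Ctx G) (P P' : Sylow 3 G) (y : G) (hy : y ≠ 1)
    (h1 : y ∈ (P : Subgroup G)) (h2 : y ∈ (P' : Subgroup G)) : P = P' := by
  by_contra hne
  have := c.hTI P P' hne
  have hmem : y ∈ (P : Subgroup G) ⊓ (P' : Subgroup G) := ⟨h1, h2⟩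
  rw [this, Subgroup.mem_bot] at hmem
  exact hy hmem

/-- An element conjugating a nontrivial element of `P` into `P` normalizes `P`. -/
theorem mem_normalizer_of_conj_mem (c : Ctx G) (P : Sylow 3 G) (y g : G) (hy : y ≠ 1)
    (h1 : y ∈ (P : Subgroup G)) (h2 : g * y * g⁻¹ ∈ (P : Subgroup G)) :
    g ∈ normalizer ((P : Subgroup G) : Set G) := by
  apply Sylow.smul_eq_iff_mem_normalizer.mp
  symm
  apply sylow3_unique c P (g • P) (g * y * g⁻¹) _ h2
  · rw [mem_smul_iff]
    have : g⁻¹ * (g * y * g⁻¹) * g = y := by group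
    rw [this]; exact h1
  · intro h
    apply hy
    have : y = g⁻¹ * (g * y * g⁻¹) * g := by group
    rw [this, h]; group

end Cfsg.Agent.Helper3.Ord360
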