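import Mathlib
import Cfsg.Agent.Helper3.Ord360A

set_option autoImplicit false

namespace Cfsg.Agent.Helper3.Ord360

open Subgroup

variable {G : Type*} [Group G] [Finite G] [IsSimpleGroup G]

/-- A Sylow 2-subgroup of `N_G(P)` containing a given involution. -/
theorem exists_four (c : Ctx G) (P : Sylow 3 G) (t : G) (ht : orderOf t = 2)
    (htN : t ∈ normalizer ((P : Subgroup G) : Set G)) :
    ∃ Q : Subgroup G, Q ≤ normalizer ((P : Subgroup G) : Set G) ∧ Nat.card Q = 4 ∧ t ∈ Q ∧
      ∀ a ∈ Q, ∀ b ∈ Q, a * b = b * a := by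
  obtain ⟨N, hN⟩ : ∃ N : Subgroup G, N = normalizer ((P : Subgroup G) : Set G) := ⟨_, rfl⟩
  rw [← hN] at htN ⊢
  have hNcard : Nat.card N = 36 := by rw [hN]; exact card_normalizer3 c P
  have hp2 : IsPGroup 2 (zpowers (⟨t, htN⟩ : N)) := by
    apply IsPGroup.of_card (n := 1)
    rw [Nat.card_zpowers, Subgroup.orderOf_mk, ht]; norm_num
  obtain ⟨Q', hQ'⟩ := hp2.exists_le_sylow
  have hQ'card : Nat.card Q' = 2 ^ 2 :=
    Cfsg.Agent.Helper2.SylowExact.card_sylow_of_exact_pow (s := 2) (k := 2) (m := 9)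
      (by rw [hNcard]; norm_num) (by norm_num) Q'
  have hQcard : Nat.card ((Q' : Subgroup N).map N.subtype) = 2 ^ 2 := by
    rw [Subgroup.card_map_of_injective N.subtype_injective, hQ'card]
  refine ⟨(Q' : Subgroup N).map N.subtype, Subgroup.map_subtype_le _, by rw [hQcard]; norm_num,
    ⟨⟨t, htN⟩, hQ' (mem_zpowers _), rfl⟩, ?_⟩
  have hc : IsMulCommutative ((Q' : Subgroup N).map N.subtype) :=
    IsPGroup.isMulCommutative_of_card_eq_prime_sq hQcard
  intro a ha b hb
  have := hc.is_comm.comm ⟨a, ha⟩ ⟨b, hb⟩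
  exact congrArg Subtype.val this

theorem centralizer_ne_top (c : Ctx G) (t : G) (ht : orderOf t = 2) :
    centralizer ({t} : Set G) ≠ ⊤ := by
  intro htop
  have hcen : ∀ g : G, g * t = t * g := by
    intro g
    have : g ∈ centralizer ({t} : Set G) := by rw [htop]; trivial
    exact (Subgroup.mem_centralizer_singleton_iff.mp this)
  have hnorm : (zpowers t).Normal := by
    refine ⟨fun x hx g => ?_⟩
    obtain ⟨k, rfl⟩ := Subgroup.mem_zpowers_iff.mp hx
    have h1 : g * t ^ k * g⁻¹ = t ^ k := by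
      have hk : Commute g (t ^ k) := (show Commute g t from hcen g).zpow_right k
      rw [hk.eq]; group
    rw [h1]; exact zpow_mem (mem_zpowers t) k
  rcases hnorm.eq_bot_or_eq_top with h | h
  · have : t = 1 := by
      have : t ∈ zpowers t := mem_zpowers t
      rw [h, Subgroup.mem_bot] at this; exact this
    rw [this, orderOf_one] at ht; omega
  · have h2 : Nat.card (zpowers t) = 2 := by rw [Nat.card_zpowers, ht]
    rw [h, Subgroup.card_top, c.hcard] at h2; omega

theorem three_dvd_orderOf (c : Ctx G) (P : Sylow 3 G) (y : G) (hy : y ≠ 1)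
    (hyP : y ∈ (P : Subgroup G)) : 3 ∣ orderOf y := by
  have h1 : orderOf y ∣ 9 := by
    rw [← card_sylow3 c P]; exact Subgroup.orderOf_dvd_natCard _ hyP
  have h2 : orderOf y ≠ 1 := by rwa [Ne, orderOf_eq_one_iff]
  have h3 : orderOf y ≤ 9 := Nat.le_of_dvd (by norm_num) h1
  have h4 := orderOf_pos y
  interval_cases orderOf y <;> omega

end Cfsg.Agent.Helper3.Ord360
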