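import Mathlib
import Cfsg.Agent.Helper3.Ord360B

set_option autoImplicit false

namespace Cfsg.Agent.Helper3.Ord360

open Subgroup

variable {G : Type*} [Group G] [Finite G] [IsSimpleGroup G]

/-- Claim X: an involution commuting with a nontrivial 3-element is not 2-central. -/
theorem claimX (c : Ctx G) (P : Sylow 3 G) (t y : G) (ht : orderOf t = 2) (hy : y ≠ 1)
    (hyP : y ∈ (P : Subgroup G)) (hcomm : t * y = y * t) :
    ¬ 8 ∣ Nat.card (centralizer ({t} : Set G)) := by
  intro h8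
  obtain ⟨C, hC⟩ : ∃ C : Subgroup G, C = centralizer ({t} : Set G) := ⟨_, rfl⟩
  obtain ⟨N, hN⟩ : ∃ N : Subgroup G, N = normalizer ((P : Subgroup G) : Set G) := ⟨_, rfl⟩
  rw [← hC] at h8
  have hCtop : C ≠ ⊤ := by rw [hC]; exact centralizer_ne_top c t ht
  have hCmem : ∀ g : G, g ∈ C ↔ g * t = t * g := by
    intro g; rw [hC]; exact Subgroup.mem_centralizer_singleton_iff
  have hNcard : Nat.card N = 36 := by rw [hN]; exact card_normalizer3 c P
  have htN : t ∈ N := by
    rw [hN]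
    apply mem_normalizer_of_conj_mem c P y t hy hyP
    have : t * y * t⁻¹ = y := by rw [hcomm]; group
    rw [this]; exact hyP
  have hyC : y ∈ C := by rw [hCmem]; exact hcomm.symm
  have h3 : 3 ∣ Nat.card C := dvd_trans (three_dvd_orderOf c P y hy hyP)
    (Subgroup.orderOf_dvd_natCard _ hyC)
  have hC60 : Nat.card C ≤ 60 := card_le_sixty c C hCtop
  have hCdvd : Nat.card C ∣ 360 := by rw [← c.hcard]; exact Subgroup.card_subgroup_dvd_card C
  have hC24 : Nat.card C = 24 := by
    have hpos : 0 < Nat.card C := Nat.card_pos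
    have h24 : 24 ∣ Nat.card C := by
      have : Nat.Coprime 8 3 := by norm_num
      exact this.mul_dvd_of_dvd_of_dvd h8 h3
    obtain ⟨k, hk⟩ := h24
    have hk' : k = 1 ∨ k = 2 := by omega
    rcases hk' with rfl | rfl
    · omega
    · rw [hk] at hCdvd; norm_num at hCdvd
  -- the four-group
  obtain ⟨Q, hQN, hQcard, htQ, hQcomm⟩ := exists_four c P t ht (by rw [← hN]; exact htN)
  rw [← hN] at hQN
  have hQC : Q ≤ C := fun q hq => by rw [hCmem]; exact hQcomm q hq t htQ
  -- K = C ⊓ N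
  have hK4 : 4 ∣ Nat.card (C ⊓ N : Subgroup G) := by
    rw [← hQcard]; exact Subgroup.card_dvd_of_le (le_inf hQC hQN)
  have hyN : y ∈ N := by rw [hN]; exact Subgroup.le_normalizer hyP
  have hK3 : 3 ∣ Nat.card (C ⊓ N : Subgroup G) := dvd_trans (three_dvd_orderOf c P y hy hyP)
    (Subgroup.orderOf_dvd_natCard _ (Subgroup.mem_inf.mpr ⟨hyC, hyN⟩))
  have hKC : Nat.card (C ⊓ N : Subgroup G) ∣ 24 := by
    rw [← hC24]; exact Subgroup.card_dvd_of_le inf_le_left
  have hKN : Nat.card (C ⊓ N : Subgroup G) ∣ 36 := by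
    rw [← hNcard]; exact Subgroup.card_dvd_of_le inf_le_right
  have hK12 : Nat.card (C ⊓ N : Subgroup G) = 12 := by
    have h12 : 12 ∣ Nat.card (C ⊓ N : Subgroup G) := by
      have : Nat.Coprime 4 3 := by norm_num
      exact this.mul_dvd_of_dvd_of_dvd hK4 hK3
    have hd : Nat.card (C ⊓ N : Subgroup G) ∣ 12 := by
      have := Nat.dvd_gcd hKC hKN
      norm_num at this
      exact this
    exact Nat.dvd_antisymm hd h12
  -- K is normal in C
  have hidx : ((C ⊓ N).subgroupOf C).index = 2 := by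
    have h1 := Subgroup.card_mul_index ((C ⊓ N).subgroupOf C)
    have h2 : Nat.card ((C ⊓ N).subgroupOf C) = Nat.card (C ⊓ N : Subgroup G) :=
      Nat.card_congr (Subgroup.subgroupOfEquivOfLe (inf_le_left : C ⊓ N ≤ C)).toEquiv
    rw [h2, hK12, hC24] at h1
    omega
  have hnorm : ((C ⊓ N).subgroupOf C).Normal := Subgroup.normal_of_index_eq_two hidx
  have hconjK : ∀ g ∈ C, ∀ k ∈ C ⊓ N, g * k * g⁻¹ ∈ C ⊓ N := by
    intro g hg k hk
    have hkC : k ∈ C := (Subgroup.mem_inf.mp hk).1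
    have := hnorm.conj_mem ⟨k, hkC⟩ (by rw [Subgroup.mem_subgroupOf]; exact hk) ⟨g, hg⟩
    rw [Subgroup.mem_subgroupOf] at this
    exact this
  -- Y = P ⊓ C
  obtain ⟨Y, hY⟩ : ∃ Y : Subgroup G, Y = (P : Subgroup G) ⊓ C := ⟨_, rfl⟩
  have hYP : Y ≤ (P : Subgroup G) := by rw [hY]; exact inf_le_left
  have hYC : Y ≤ C := by rw [hY]; exact inf_le_right
  have hYK : Y ≤ C ⊓ N := le_inf hYC (hYP.trans (by rw [hN]; exact Subgroup.le_normalizer))
  have hYp : IsPGroup 3 Y := P.isPGroup'.to_le hYP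
  have hyY : y ∈ Y := by rw [hY]; exact ⟨hyP, hyC⟩
  -- claim: C ≤ N
  have hCN : C ≤ N := by
    intro g hg
    rw [hN]
    apply mem_normalizer_of_conj_mem c P y g hy hyP
    -- R = g Y g⁻¹
    obtain ⟨R, hR⟩ : ∃ R : Subgroup G, R = Y.map (MulAut.conj g).toMonoidHom := ⟨_, rfl⟩
    have hRp : IsPGroup 3 R := by rw [hR]; exact hYp.map _
    have hRK : R ≤ C ⊓ N := by
      rw [hR]
      rintro x ⟨k, hk, rfl⟩
      exact hconjK g hg k (hYK hk)
    have hRnorm : R ≤ normalizer (Y : Set G) := by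
      intro r hr
      have hrK := hRK hr
      have hrC : r ∈ C := (Subgroup.mem_inf.mp hrK).1
      have hrN : r ∈ N := (Subgroup.mem_inf.mp hrK).2
      rw [Subgroup.mem_normalizer_iff]
      intro x
      rw [hY, Subgroup.mem_inf, Subgroup.mem_inf]
      rw [hN, Subgroup.mem_normalizer_iff] at hrN
      constructor
      · rintro ⟨h1, h2⟩
        exact ⟨(hrN x).mp h1, C.mul_mem (C.mul_mem hrC h2) (C.inv_mem hrC)⟩
      · rintro ⟨h1, h2⟩
        refine ⟨(hrN x).mpr h1, ?_⟩
        have : x = r⁻¹ * (r * x * r⁻¹) * r := by group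
        rw [this]
        exact C.mul_mem (C.mul_mem (C.inv_mem hrC) h2) hrC
    have hsup : IsPGroup 3 (Y ⊔ R : Subgroup G) := IsPGroup.to_sup_of_normal_left' hYp hRp hRnorm
    have hsupK : Y ⊔ R ≤ C ⊓ N := sup_le hYK hRK
    obtain ⟨n, hn⟩ := IsPGroup.iff_card.mp hsup
    have hsup12 : Nat.card (Y ⊔ R : Subgroup G) ∣ 12 := by
      rw [← hK12]; exact Subgroup.card_dvd_of_le hsupK
    have hsup3 : Nat.card (Y ⊔ R : Subgroup G) ∣ 3 := by
      rw [hn] at hsup12 ⊢
      have hcop : Nat.Coprime (3 ^ n) 4 := Nat.Coprime.pow_left n (by norm_num)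
      have : 3 ^ n ∣ 4 * 3 := by norm_num; exact hsup12
      exact hcop.dvd_of_dvd_mul_left this
    have hYne : Nat.card Y ≠ 1 := by
      intro h1
      have := Subgroup.card_eq_one.mp h1
      rw [this, Subgroup.mem_bot] at hyY
      exact hy hyY
    have hYle : Nat.card Y ∣ Nat.card (Y ⊔ R : Subgroup G) := Subgroup.card_dvd_of_le le_sup_left
    have hY3 : Nat.card Y = 3 := by
      have h3' : Nat.card Y ∣ 3 := dvd_trans hYle hsup3
      rcases (Nat.dvd_prime Nat.prime_three).mp h3' with h | h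
      · exact absurd h hYne
      · exact h
    have hsupc : Nat.card (Y ⊔ R : Subgroup G) = 3 := by
      rcases (Nat.dvd_prime Nat.prime_three).mp hsup3 with h | h
      · rw [h] at hYle; rw [hY3] at hYle; norm_num at hYle
      · exact h
    have hYeq : Y = Y ⊔ R :=
      Subgroup.eq_of_le_of_card_ge le_sup_left (by rw [hsupc, hY3])
    have hRY : R ≤ Y := by rw [hYeq]; exact le_sup_right
    have : g * y * g⁻¹ ∈ R := by rw [hR]; exact ⟨y, hyY, rfl⟩
    exact hYP (hRY this)
  have := Subgroup.card_dvd_of_le hCN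
  rw [hC24, hNcard] at this
  norm_num at this

end Cfsg.Agent.Helper3.Ord360
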