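import Mathlib
import Cfsg.Agent.Helper3.Ord360C

set_option autoImplicit false

namespace Cfsg.Agent.Helper3.Ord360

open Subgroup

variable {G : Type*} [Group G] [Finite G] [IsSimpleGroup G]

omit [Finite G] [IsSimpleGroup G] in
/-- A 3-element normalizing a Sylow 3-subgroup lies in it. -/
theorem mem_of_mem_normalizer (P : Sylow 3 G) (x : G)
    (hx : x ∈ normalizer ((P : Subgroup G) : Set G)) (h9 : x ^ 9 = 1) : x ∈ (P : Subgroup G) := by
  have hp : IsPGroup 3 (zpowers x) := by
    intro g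
    obtain ⟨k, hk⟩ := Subgroup.mem_zpowers_iff.mp g.2
    refine ⟨2, ?_⟩
    apply Subtype.ext
    rw [Subgroup.coe_pow, ← hk]
    show (x ^ k) ^ (3 ^ 2) = 1
    rw [← zpow_natCast, ← zpow_mul, mul_comm, zpow_mul, zpow_natCast]
    norm_num
    rw [h9, one_zpow]
  have h := hp.inf_normalizer_sylow P
  have hmem : x ∈ zpowers x ⊓ normalizer (P : Set G) :=
    ⟨mem_zpowers x, hx⟩
  rw [h] at hmem
  exact hmem.2

theorem pow_nine_eq_one (c : Ctx G) (P : Sylow 3 G) (x : G) (hx : x ∈ (P : Subgroup G)) :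
    x ^ 9 = 1 := by
  have h := pow_card_eq_one' (G := (P : Subgroup G)) (x := ⟨x, hx⟩)
  rw [card_sylow3 c P] at h
  exact congrArg Subtype.val h

/-- `P ∩ N(P') = 1` for distinct Sylow 3-subgroups. -/
theorem eq_one_of_smul_eq (c : Ctx G) (P P' : Sylow 3 G) (hne : P' ≠ P) (x : G)
    (hx : x ∈ (P : Subgroup G)) (hfix : x • P' = P') : x = 1 := by
  have h1 : x ∈ normalizer ((P' : Subgroup G) : Set G) := Sylow.smul_eq_iff_mem_normalizer.mp hfix
  have h2 : x ∈ (P' : Subgroup G) := mem_of_mem_normalizer P' x h1 (pow_nine_eq_one c P x hx)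
  by_contra hx1
  exact hne (sylow3_unique c P P' x hx1 hx h2).symm

/-- Claim R: `P` is transitive on the other nine Sylow 3-subgroups. -/
theorem exists_smul_eq (c : Ctx G) (P P' P'' : Sylow 3 G) (h1 : P' ≠ P) (h2 : P'' ≠ P) :
    ∃ x ∈ (P : Subgroup G), x • P' = P'' := by
  classical
  let f : ↥(P : Subgroup G) → {R : Sylow 3 G // R ≠ P} := fun x =>
    ⟨(x : G) • P', by
      intro h
      apply h1
      have hx : (x : G) • P = P :=
        Sylow.smul_eq_iff_mem_normalizer.mpr (Subgroup.le_normalizer x.2)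
      have : (x : G)⁻¹ • ((x : G) • P') = (x : G)⁻¹ • P := by rw [h]
      rw [inv_smul_smul] at this
      rw [this, inv_smul_eq_iff, hx]⟩
  have hinj : Function.Injective f := by
    intro a b hab
    have hab' : (a : G) • P' = (b : G) • P' := congrArg Subtype.val hab
    have h3 : ((b : G)⁻¹ * (a : G)) • P' = P' := by
      rw [mul_smul, hab', inv_smul_smul]
    have h4 := eq_one_of_smul_eq c P P' h1 ((b : G)⁻¹ * (a : G))
      ((P : Subgroup G).mul_mem ((P : Subgroup G).inv_mem b.2) a.2) h3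
    apply Subtype.ext
    have : (a : G) = (b : G) := by
      have := congrArg (fun u => (b : G) * u) h4
      simpa using this
    exact this
  have hcard : Nat.card {R : Sylow 3 G // R ≠ P} ≤ Nat.card (P : Subgroup G) := by
    rw [card_sylow3 c P]
    have h5 : Nat.card {R : Sylow 3 G // R ≠ P} = Nat.card (Sylow 3 G) - 1 := by
      haveI : Fintype (Sylow 3 G) := Fintype.ofFinite _
      rw [Nat.card_eq_fintype_card, Nat.card_eq_fintype_card]
      rw [Fintype.card_subtype_compl, Fintype.card_subtype_eq]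
    rw [h5, c.hn3]
  have hbij := hinj.bijective_of_nat_card_le hcard
  obtain ⟨x, hx⟩ := hbij.2 ⟨P'', h2⟩
  exact ⟨x, x.2, congrArg Subtype.val hx⟩

end Cfsg.Agent.Helper3.Ord360
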