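import Mathlib
import Cfsg.Agent.Helper3.Ord360D

set_option autoImplicit false

namespace Cfsg.Agent.Helper3.Ord360

open Subgroup

variable {G : Type*} [Group G] [Finite G] [IsSimpleGroup G]

/-- An element fixing every Sylow 3-subgroup is trivial. -/
theorem eq_one_of_forall_smul (c : Ctx G) (t : G) (h : ∀ P : Sylow 3 G, t • P = P) : t = 1 := by
  by_contra ht
  have hker : t ∈ (MulAction.toPermHom G (Sylow 3 G)).ker := by
    rw [MonoidHom.mem_ker]
    ext P
    simp [h P]
  rcases (MonoidHom.normal_ker (MulAction.toPermHom G (Sylow 3 G))).eq_bot_or_eq_top with hb | hb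
  · rw [hb, Subgroup.mem_bot] at hker; exact ht hker
  · have hall : ∀ (g : G) (P : Sylow 3 G), g • P = P := by
      intro g P
      have hg : g ∈ (MulAction.toPermHom G (Sylow 3 G)).ker := by rw [hb]; trivial
      rw [MonoidHom.mem_ker] at hg
      have := congrArg (fun σ : Equiv.Perm (Sylow 3 G) => σ P) hg
      simpa using this
    obtain ⟨P⟩ : Nonempty (Sylow 3 G) := inferInstance
    have htop : normalizer ((P : Subgroup G) : Set G) = ⊤ := by
      rw [eq_top_iff]
      intro g _
      exact Sylow.smul_eq_iff_mem_normalizer.mp (hall g P)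
    have := card_normalizer3 c P
    rw [htop, Subgroup.card_top, c.hcard] at this
    omega

/-- Claim Y: unless there is a subgroup of index 6, no involution commutes with a nontrivial
3-element. -/
theorem claimY (c : Ctx G) (hbad : ¬ ∃ H : Subgroup G, H.index = 6) (P : Sylow 3 G) (t y : G)
    (ht : orderOf t = 2) (hy : y ≠ 1) (hyP : y ∈ (P : Subgroup G)) (hcomm : t * y = y * t) :
    False := by
  obtain ⟨C, hC⟩ : ∃ C : Subgroup G, C = centralizer ({t} : Set G) := ⟨_, rfl⟩
  obtain ⟨N, hN⟩ : ∃ N : Subgroup G, N = normalizer ((P : Subgroup G) : Set G) := ⟨_, rfl⟩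
  have hX := claimX c P t y ht hy hyP hcomm
  rw [← hC] at hX
  have hCtop : C ≠ ⊤ := by rw [hC]; exact centralizer_ne_top c t ht
  have hCmem : ∀ g : G, g ∈ C ↔ g * t = t * g := by
    intro g; rw [hC]; exact Subgroup.mem_centralizer_singleton_iff
  have hNcard : Nat.card N = 36 := by rw [hN]; exact card_normalizer3 c P
  have hNmem : ∀ g : G, g ∈ N ↔ g • P = P := by
    intro g; rw [hN]; exact Sylow.smul_eq_iff_mem_normalizer.symm
  have htN : t ∈ N := by
    rw [hN]
    apply mem_normalizer_of_conj_mem c P y t hy hyP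
    have : t * y * t⁻¹ = y := by rw [hcomm]; group
    rw [this]; exact hyP
  have htt : t * t = 1 := by
    have := pow_orderOf_eq_one t
    rw [ht, pow_two] at this; exact this
  have htinv : t⁻¹ = t := inv_eq_of_mul_eq_one_right htt
  have ht1 : t ≠ 1 := by
    intro h; rw [h, orderOf_one] at ht; omega
  have hyC : y ∈ C := by rw [hCmem]; exact hcomm.symm
  obtain ⟨Q, hQN, hQcard, htQ, hQcomm⟩ := exists_four c P t ht (by rw [← hN]; exact htN)
  rw [← hN] at hQN
  have hQC : Q ≤ C := fun q hq => by rw [hCmem]; exact hQcomm q hq t htQ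
  have hQp : IsPGroup 2 Q := IsPGroup.of_card (n := 2) (by rw [hQcard]; norm_num)
  obtain ⟨S, hQS⟩ := hQp.exists_le_sylow
  have hScard : Nat.card (S : Subgroup G) = 8 := card_sylow2 c S
  -- an element of S outside C
  have hexs : ∃ s ∈ (S : Subgroup G), s ∉ C := by
    by_contra hcon
    push Not at hcon
    have hSC : (S : Subgroup G) ≤ C := hcon
    have := Subgroup.card_dvd_of_le hSC
    rw [hScard] at this
    exact hX this
  obtain ⟨s, hsS, hsC⟩ := hexs
  have hsQ : s ∉ Q := fun h => hsC (hQC h)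
  -- Q has index 2 in S
  have hidx : (Q.subgroupOf (S : Subgroup G)).index = 2 := by
    have h1 := Subgroup.card_mul_index (Q.subgroupOf (S : Subgroup G))
    have h2 : Nat.card (Q.subgroupOf (S : Subgroup G)) = Nat.card Q :=
      Nat.card_congr (Subgroup.subgroupOfEquivOfLe hQS).toEquiv
    rw [h2, hQcard, hScard] at h1
    omega
  have hnorm : (Q.subgroupOf (S : Subgroup G)).Normal := Subgroup.normal_of_index_eq_two hidx
  have hconjQ : ∀ g ∈ (S : Subgroup G), ∀ q ∈ Q, g * q * g⁻¹ ∈ Q := by
    intro g hg q hq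
    have := hnorm.conj_mem ⟨q, hQS hq⟩ (by rw [Subgroup.mem_subgroupOf]; exact hq) ⟨g, hg⟩
    rw [Subgroup.mem_subgroupOf] at this
    exact this
  have hs2 : s ^ 2 ∈ Q := by
    have := Subgroup.sq_mem_of_index_two hidx ⟨s, hsS⟩
    rw [Subgroup.mem_subgroupOf] at this
    exact this
  -- t' and z
  obtain ⟨t', ht'⟩ : ∃ t' : G, t' = s * t * s⁻¹ := ⟨_, rfl⟩
  have ht'Q : t' ∈ Q := by rw [ht']; exact hconjQ s hsS t htQ
  have ht'ne : t' ≠ t := by
    intro h
    apply hsC
    rw [hCmem]
    have : s * t * s⁻¹ = t := by rw [← ht']; exact h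
    calc s * t = (s * t * s⁻¹) * s := by group
      _ = t * s := by rw [this]
  have ht't' : t' * t' = 1 := by
    rw [ht']
    calc s * t * s⁻¹ * (s * t * s⁻¹) = s * (t * t) * s⁻¹ := by group
      _ = 1 := by rw [htt]; group
  have htt' : t * t' = t' * t := hQcomm t htQ t' ht'Q
  obtain ⟨z, hz⟩ : ∃ z : G, z = t * t' := ⟨_, rfl⟩
  have hzQ : z ∈ Q := by rw [hz]; exact Q.mul_mem htQ ht'Q
  have hz1 : z ≠ 1 := by
    intro h
    apply ht'ne
    rw [hz] at h
    have : t' = t⁻¹ := (inv_eq_of_mul_eq_one_right h).symm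
    rw [this, htinv]
  have hzz : z * z = 1 := by
    rw [hz]
    calc t * t' * (t * t') = t * (t' * t) * t' := by group
      _ = t * (t * t') * t' := by rw [htt']
      _ = (t * t) * (t' * t') := by group
      _ = 1 := by rw [htt, ht't']; group
  have hzord : orderOf z = 2 := by
    apply orderOf_eq_prime
    · rw [pow_two]; exact hzz
    · exact hz1
  have hzinv : z⁻¹ = z := inv_eq_of_mul_eq_one_right hzz
  -- s centralizes z
  have hst' : s * t' * s⁻¹ = t := by
    rw [ht']
    have hs2' : s * s ∈ Q := by rw [← pow_two]; exact hs2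
    have h1 : s * (s * t * s⁻¹) * s⁻¹ = (s * s) * t * (s * s)⁻¹ := by group
    rw [h1]
    have h2 : (s * s) * t = t * (s * s) := hQcomm _ hs2' t htQ
    rw [h2]; group
  have hsz : s * z = z * s := by
    have : s * z * s⁻¹ = z := by
      rw [hz]
      calc s * (t * t') * s⁻¹ = (s * t * s⁻¹) * (s * t' * s⁻¹) := by group
        _ = t' * t := by rw [← ht', hst']
        _ = t * t' := htt'.symm
    calc s * z = (s * z * s⁻¹) * s := by group
      _ = z * s := by rw [this]
  -- 8 divides |C(z)|
  have hT : Q ⊔ zpowers s ≤ centralizer ({z} : Set G) := by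
    apply sup_le
    · intro q hq
      rw [Subgroup.mem_centralizer_singleton_iff]
      exact hQcomm q hq z hzQ
    · rw [Subgroup.zpowers_le, Subgroup.mem_centralizer_singleton_iff]
      exact hsz
  have hTS : Q ⊔ zpowers s ≤ (S : Subgroup G) := sup_le hQS (by rw [Subgroup.zpowers_le]; exact hsS)
  have hTcard : Nat.card (Q ⊔ zpowers s : Subgroup G) = 8 := by
    have h1 : Nat.card Q ∣ Nat.card (Q ⊔ zpowers s : Subgroup G) :=
      Subgroup.card_dvd_of_le le_sup_left
    have h2 : Nat.card (Q ⊔ zpowers s : Subgroup G) ∣ 8 := by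
      rw [← hScard]; exact Subgroup.card_dvd_of_le hTS
    have h3 : Nat.card (Q ⊔ zpowers s : Subgroup G) ≠ 4 := by
      intro h4
      have : Q = Q ⊔ zpowers s := Subgroup.eq_of_le_of_card_ge le_sup_left (by rw [h4, hQcard])
      apply hsQ
      rw [this]
      exact (le_sup_right : zpowers s ≤ Q ⊔ zpowers s) (mem_zpowers s)
    rw [hQcard] at h1
    have h5 : Nat.card (Q ⊔ zpowers s : Subgroup G) ≤ 8 := Nat.le_of_dvd (by norm_num) h2
    obtain ⟨k, hk⟩ := h1
    have : k = 2 := by
      have hpos : 0 < Nat.card (Q ⊔ zpowers s : Subgroup G) := Nat.card_pos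
      have hk2 : k = 1 ∨ k = 2 := by omega
      rcases hk2 with rfl | rfl
      · omega
      · rfl
    omega
  have h8z : 8 ∣ Nat.card (centralizer ({z} : Set G)) := by
    rw [← hTcard]; exact Subgroup.card_dvd_of_le hT
  -- z commutes with no nontrivial 3-element
  have hzfree : ∀ (P₀ : Sylow 3 G) (w : G), w ∈ (P₀ : Subgroup G) → z * w = w * z → w = 1 := by
    intro P₀ w hw hzw
    by_contra hw1
    exact claimX c P₀ z w hzord hw1 hw hzw h8z
  -- the subgroup T is not inside N
  have hTN : ¬ (Q ⊔ zpowers s ≤ N) := by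
    intro h
    have := Subgroup.card_dvd_of_le h
    rw [hTcard, hNcard] at this
    norm_num at this
  have hsN : s ∉ N := by
    intro h
    apply hTN
    exact sup_le hQN (by rw [Subgroup.zpowers_le]; exact h)
  -- z inverts P
  have hzN : z ∈ N := hQN hzQ
  have hzinvP : ∀ x ∈ (P : Subgroup G), z * x * z⁻¹ = x⁻¹ := by
    intro x hx
    have hx' : z * x * z⁻¹ ∈ (P : Subgroup G) := by
      have := hzN
      rw [hN, Subgroup.mem_normalizer_iff] at this
      exact (this x).mp hx
    have hw : x * (z * x * z⁻¹) ∈ (P : Subgroup G) := (P : Subgroup G).mul_mem hx hx'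
    have hcw : z * (x * (z * x * z⁻¹)) = (x * (z * x * z⁻¹)) * z := by
      have hxc : x * (z * x * z⁻¹) = (z * x * z⁻¹) * x := sylow3_comm c P _ _ hx hx'
      calc z * (x * (z * x * z⁻¹)) = (z * x * z⁻¹) * (z * z) * x * z⁻¹ := by group
        _ = (z * x * z⁻¹) * x * z⁻¹ := by rw [hzz]; group
        _ = x * (z * x * z⁻¹) * z⁻¹ := by rw [← hxc]
        _ = x * (z * x * z⁻¹) * z := by rw [hzinv]
    have := hzfree P _ hw hcw
    exact (eq_inv_of_mul_eq_one_right this)
  -- order of C
  have h3 : 3 ∣ Nat.card C := dvd_trans (three_dvd_orderOf c P y hy hyP)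
    (Subgroup.orderOf_dvd_natCard _ hyC)
  have h4 : 4 ∣ Nat.card C := by rw [← hQcard]; exact Subgroup.card_dvd_of_le hQC
  have hC60 : Nat.card C ≤ 60 := card_le_sixty c C hCtop
  have hCdvd : Nat.card C ∣ 360 := by rw [← c.hcard]; exact Subgroup.card_subgroup_dvd_card C
  have h12 : 12 ∣ Nat.card C := by
    have : Nat.Coprime 4 3 := by norm_num
    exact this.mul_dvd_of_dvd_of_dvd h4 h3
  have hcases : Nat.card C = 12 ∨ Nat.card C = 36 ∨ Nat.card C = 60 := by
    obtain ⟨k, hk⟩ := h12
    have hpos : 0 < Nat.card C := Nat.card_pos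
    have hk5 : k = 1 ∨ k = 2 ∨ k = 3 ∨ k = 4 ∨ k = 5 := by omega
    rcases hk5 with rfl | rfl | rfl | rfl | rfl
    · left; omega
    · exfalso; apply hX; rw [hk]; norm_num
    · right; left; omega
    · exfalso; apply hX; rw [hk]; norm_num
    · right; right; omega
  -- s⁻¹ t s ∈ Q, so t normalizes s • P
  have hsinvS : s⁻¹ ∈ (S : Subgroup G) := (S : Subgroup G).inv_mem hsS
  have ht''Q : s⁻¹ * t * s ∈ Q := by
    have := hconjQ s⁻¹ hsinvS t htQ
    rwa [inv_inv] at this
  have htfixP' : t • (s • P) = s • P := by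
    have h1 : (s⁻¹ * t * s) • P = P := (hNmem _).mp (hQN ht''Q)
    calc t • (s • P) = (s * (s⁻¹ * t * s)) • P := by rw [← mul_smul]; congr 1; group
      _ = s • ((s⁻¹ * t * s) • P) := by rw [mul_smul]
      _ = s • P := by rw [h1]
  have hP'ne : s • P ≠ P := fun h => hsN ((hNmem s).mpr h)
  rcases hcases with h12' | h36 | h60
  · -- |C| = 12
    have hCN : C ≤ N := by
      have hK12 : 12 ∣ Nat.card (C ⊓ N : Subgroup G) := by
        have hK4 : 4 ∣ Nat.card (C ⊓ N : Subgroup G) := by
          rw [← hQcard]; exact Subgroup.card_dvd_of_le (le_inf hQC hQN)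
        have hyN : y ∈ N := by rw [hN]; exact Subgroup.le_normalizer hyP
        have hK3 : 3 ∣ Nat.card (C ⊓ N : Subgroup G) :=
          dvd_trans (three_dvd_orderOf c P y hy hyP)
            (Subgroup.orderOf_dvd_natCard _ (Subgroup.mem_inf.mpr ⟨hyC, hyN⟩))
        have : Nat.Coprime 4 3 := by norm_num
        exact this.mul_dvd_of_dvd_of_dvd hK4 hK3
      have hle : Nat.card C ≤ Nat.card (C ⊓ N : Subgroup G) := by
        rw [h12']; exact Nat.le_of_dvd Nat.card_pos hK12
      have : C ⊓ N = C := (Subgroup.eq_of_le_of_card_ge inf_le_left hle)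
      rw [← this]; exact inf_le_right
    -- t does not centralize P
    have hex : ∃ x ∈ (P : Subgroup G), t * x * t⁻¹ ≠ x := by
      by_contra hcon
      push Not at hcon
      have hPC : (P : Subgroup G) ≤ C := by
        intro x hx
        rw [hCmem]
        have := hcon x hx
        calc x * t = (t * x * t⁻¹) * t := by rw [this]
          _ = t * x := by group
      have := Subgroup.card_dvd_of_le hPC
      rw [card_sylow3 c P, h12'] at this
      norm_num at this
    obtain ⟨x, hxP, hxne⟩ := hex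
    have hx' : t * x * t⁻¹ ∈ (P : Subgroup G) := by
      have := htN
      rw [hN, Subgroup.mem_normalizer_iff] at this
      exact (this x).mp hxP
    obtain ⟨w, hw⟩ : ∃ w : G, w = x⁻¹ * (t * x * t⁻¹) := ⟨_, rfl⟩
    have hwP : w ∈ (P : Subgroup G) := by
      rw [hw]; exact (P : Subgroup G).mul_mem ((P : Subgroup G).inv_mem hxP) hx'
    have hw1 : w ≠ 1 := by
      intro h
      apply hxne
      rw [hw] at h
      have := eq_of_inv_mul_eq_one h  -- x = t x t⁻¹
      exact this.symm
    have htw : t * w * t⁻¹ = w⁻¹ := by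
      have hxc : x⁻¹ * (t * x * t⁻¹) = (t * x * t⁻¹) * x⁻¹ :=
        sylow3_comm c P _ _ ((P : Subgroup G).inv_mem hxP) hx'
      rw [hw]
      calc t * (x⁻¹ * (t * x * t⁻¹)) * t⁻¹ = (t * x * t⁻¹)⁻¹ * ((t * t) * x * (t * t)⁻¹) := by
            group
        _ = (t * x * t⁻¹)⁻¹ * x := by rw [htt]; group
        _ = (x⁻¹ * (t * x * t⁻¹))⁻¹ := by group
    -- t' centralizes w
    have ht'w : t' * w = w * t' := by
      have h1 : t' = t * z := by
        rw [hz]
        calc t' = (t * t) * t' := by rw [htt]; group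
          _ = t * (t * t') := by group
      have h2 : z * w * z⁻¹ = w⁻¹ := hzinvP w hwP
      have h3 : t' * w * t'⁻¹ = w := by
        rw [h1]
        calc t * z * w * (t * z)⁻¹ = t * (z * w * z⁻¹) * t⁻¹ := by group
          _ = t * w⁻¹ * t⁻¹ := by rw [h2]
          _ = (t * w * t⁻¹)⁻¹ := by group
          _ = w := by rw [htw, inv_inv]
      calc t' * w = (t' * w * t'⁻¹) * t' := by group
        _ = w * t' := by rw [h3]
    -- s⁻¹ w s ∈ C
    have hconjC : s⁻¹ * w * s ∈ C := by
      rw [hCmem]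
      have h1 : t = s⁻¹ * t' * s := by rw [ht']; group
      calc s⁻¹ * w * s * t = s⁻¹ * w * s * (s⁻¹ * t' * s) := by rw [← h1]
        _ = s⁻¹ * (w * t') * s := by group
        _ = s⁻¹ * (t' * w) * s := by rw [ht'w]
        _ = (s⁻¹ * t' * s) * (s⁻¹ * w * s) := by group
        _ = t * (s⁻¹ * w * s) := by rw [← h1]
    have h9 : (s⁻¹ * w * s) ^ 9 = 1 := by
      have := pow_nine_eq_one c P w hwP
      have h2 : (s⁻¹ * w * s) ^ 9 = s⁻¹ * w ^ 9 * s := by
        have : s⁻¹ * w * s = (MulAut.conj s⁻¹) w := by simp [MulAut.conj_apply]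
        rw [this, ← map_pow, MulAut.conj_apply, inv_inv]
      rw [h2, this]; group
    have hmemP : s⁻¹ * w * s ∈ (P : Subgroup G) :=
      mem_of_mem_normalizer P _ (by rw [← hN]; exact hCN hconjC) h9
    have hwP' : w ∈ ((s • P : Sylow 3 G) : Subgroup G) := by
      rw [mem_smul_iff]; exact hmemP
    exact hP'ne (sylow3_unique c P (s • P) w hw1 hwP hwP').symm
  · -- |C| = 36
    have hyC' : y ∈ C := hyC
    have hp3 : IsPGroup 3 (zpowers (⟨y, hyC⟩ : C)) := by
      have hpy : IsPGroup 3 (zpowers y) := P.isPGroup'.to_le (by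
        rw [Subgroup.zpowers_le]; exact hyP)
      have : zpowers (⟨y, hyC⟩ : C) = (zpowers y).subgroupOf C := by
        ext ⟨g, hg⟩
        rw [Subgroup.mem_subgroupOf, Subgroup.mem_zpowers_iff, Subgroup.mem_zpowers_iff]
        constructor
        · rintro ⟨k, hk⟩
          exact ⟨k, by simpa using congrArg Subtype.val hk⟩
        · rintro ⟨k, hk⟩
          exact ⟨k, Subtype.ext (by simpa using hk)⟩
      rw [this]
      exact hpy.comap_subtype
    obtain ⟨R', hR'⟩ := hp3.exists_le_sylow
    have hR'card : Nat.card R' = 3 ^ 2 :=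
      Cfsg.Agent.Helper2.SylowExact.card_sylow_of_exact_pow (s := 3) (k := 2) (m := 4)
        (by rw [h36]; norm_num) (by norm_num) R'
    obtain ⟨R, hR⟩ : ∃ R : Subgroup G, R = (R' : Subgroup C).map C.subtype := ⟨_, rfl⟩
    have hRcard : Nat.card R = 9 := by
      rw [hR, Subgroup.card_map_of_injective C.subtype_injective, hR'card]; norm_num
    have hRC : R ≤ C := by rw [hR]; exact Subgroup.map_subtype_le _
    have hyR : y ∈ R := by
      rw [hR]; exact ⟨⟨y, hyC⟩, hR' (mem_zpowers _), rfl⟩
    have hRp : IsPGroup 3 R := IsPGroup.of_card (n := 2) (by rw [hRcard]; norm_num)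
    obtain ⟨P₁, hRP₁⟩ := hRp.exists_le_sylow
    have hP₁ : P₁ = P := (sylow3_unique c P P₁ y hy hyP (hRP₁ hyR)).symm
    have hReq : R = (P : Subgroup G) := by
      rw [← hP₁]
      exact Subgroup.eq_of_le_of_card_ge hRP₁ (by rw [card_sylow3 c P₁, hRcard])
    have hPC : (P : Subgroup G) ≤ C := by rw [← hReq]; exact hRC
    -- t fixes every Sylow 3-subgroup
    have htP : t • P = P := (hNmem t).mp htN
    have hall : ∀ P'' : Sylow 3 G, t • P'' = P'' := by
      intro P''
      by_cases h : P'' = P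
      · rw [h]; exact htP
      · obtain ⟨x, hxP, hx⟩ := exists_smul_eq c P (s • P) P'' hP'ne h
        have hxt : x * t = t * x := (hCmem x).mp (hPC hxP)
        rw [← hx, ← mul_smul, ← hxt, mul_smul, htfixP']
    exact ht1 (eq_one_of_forall_smul c t hall)
  · -- |C| = 60
    apply hbad
    refine ⟨C, ?_⟩
    have := C.card_mul_index
    rw [h60, c.hcard] at this
    omega

end Cfsg.Agent.Helper3.Ord360
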