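import Mathlib
import Cfsg.Agent.Helper3.Ord360E
import Cfsg.Prelude.Def_LieExceptional

set_option autoImplicit false

namespace Cfsg.Agent.Helper3.Ord360

open Subgroup MulAction

variable {G : Type*} [Group G] [Finite G] [IsSimpleGroup G]

omit [Finite G] [IsSimpleGroup G] in
theorem mem_stab_iff (P : Sylow 3 G) (g : G) : g ∈ stabilizer G P ↔ g • P = P := Iff.rfl

/-- The two-point stabilizer has order 4. -/
theorem card_two_point (c : Ctx G) (a b : Sylow 3 G) (hab : a ≠ b) :
    Nat.card ↥(stabilizer G a ⊓ stabilizer G b) = 4 := by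
  classical
  obtain ⟨D, hD⟩ : ∃ D : Subgroup G, D = stabilizer G a ⊓ stabilizer G b := ⟨_, rfl⟩
  rw [← hD]
  have hDmem : ∀ g : G, g ∈ D ↔ g • a = a ∧ g • b = b := by
    intro g; rw [hD, Subgroup.mem_inf]; rfl
  obtain ⟨N, hN⟩ : ∃ N : Subgroup G, N = normalizer ((a : Subgroup G) : Set G) := ⟨_, rfl⟩
  have hNcard : Nat.card N = 36 := by rw [hN]; exact card_normalizer3 c a
  have hNmem : ∀ g : G, g ∈ N ↔ g • a = a := by
    intro g; rw [hN]; exact Sylow.smul_eq_iff_mem_normalizer.symm
  have haN : (a : Subgroup G) ≤ N := by rw [hN]; exact Subgroup.le_normalizer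
  have hDN : D ≤ N := fun g hg => (hNmem g).mpr ((hDmem g).mp hg).1
  let f : ↥(a : Subgroup G) × ↥D → ↥N := fun p =>
    ⟨(p.1 : G) * (p.2 : G), N.mul_mem (haN p.1.2) (hDN p.2.2)⟩
  have hinj : Function.Injective f := by
    rintro ⟨x, d⟩ ⟨x', d'⟩ h
    have h1 : (x : G) * (d : G) = (x' : G) * (d' : G) := congrArg Subtype.val h
    have h2 : (x' : G)⁻¹ * (x : G) = (d' : G) * (d : G)⁻¹ := by
      calc (x' : G)⁻¹ * (x : G) = (x' : G)⁻¹ * ((x : G) * (d : G)) * (d : G)⁻¹ := by group
        _ = (x' : G)⁻¹ * ((x' : G) * (d' : G)) * (d : G)⁻¹ := by rw [h1]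
        _ = (d' : G) * (d : G)⁻¹ := by group
    have h3 : (x' : G)⁻¹ * (x : G) ∈ (a : Subgroup G) :=
      (a : Subgroup G).mul_mem ((a : Subgroup G).inv_mem x'.2) x.2
    have h4 : (d' : G) * (d : G)⁻¹ ∈ D := D.mul_mem d'.2 (D.inv_mem d.2)
    have h5 : ((x' : G)⁻¹ * (x : G)) • b = b := by
      rw [h2]; exact ((hDmem _).mp h4).2
    have h6 := eq_one_of_smul_eq c a b hab.symm _ h3 h5
    have hx : (x : G) = (x' : G) := by
      have := congrArg (fun u => (x' : G) * u) h6
      simpa using this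
    have hd : (d : G) = (d' : G) := by
      rw [hx] at h1
      exact mul_left_cancel h1
    exact Prod.ext (Subtype.ext hx) (Subtype.ext hd)
  have hsurj : Function.Surjective f := by
    rintro ⟨n, hn⟩
    have hna : n • a = a := (hNmem n).mp hn
    have hnb : n • b ≠ a := by
      intro h
      apply hab
      have : n⁻¹ • (n • b) = n⁻¹ • a := by rw [h]
      rw [inv_smul_smul] at this
      rw [this]; symm
      rw [inv_smul_eq_iff, hna]
    obtain ⟨x, hxa, hx⟩ := exists_smul_eq c a b (n • b) hab.symm hnb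
    have hxa' : x • a = a := Sylow.smul_eq_iff_mem_normalizer.mpr (Subgroup.le_normalizer hxa)
    have hdD : x⁻¹ * n ∈ D := by
      rw [hDmem]
      constructor
      · rw [mul_smul, hna, inv_smul_eq_iff, hxa']
      · rw [mul_smul, inv_smul_eq_iff, hx]
    refine ⟨(⟨x, hxa⟩, ⟨x⁻¹ * n, hdD⟩), ?_⟩
    apply Subtype.ext
    show x * (x⁻¹ * n) = n
    group
  have hcard := Nat.card_congr (Equiv.ofBijective f ⟨hinj, hsurj⟩)
  rw [Nat.card_prod, card_sylow3 c a, hNcard] at hcard
  omega

/-- No involution fixes three Sylow 3-subgroups. -/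
theorem no_involution_three (c : Ctx G) (hbad : ¬ ∃ H : Subgroup G, H.index = 6)
    (a b d : Sylow 3 G) (hab : a ≠ b) (had : a ≠ d) (hbd : b ≠ d) (t : G) (ht : orderOf t = 2)
    (hta : t • a = a) (htb : t • b = b) (htd : t • d = d) : False := by
  obtain ⟨x, hxa, hx⟩ := exists_smul_eq c a b d hab.symm had.symm
  have hx1 : x ≠ 1 := by
    rintro rfl
    rw [one_smul] at hx
    exact hbd hx
  have htN : t ∈ normalizer ((a : Subgroup G) : Set G) := Sylow.smul_eq_iff_mem_normalizer.mp hta
  have hx' : t * x * t⁻¹ ∈ (a : Subgroup G) := (Subgroup.mem_normalizer_iff.mp htN x).mp hxa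
  have hu : x⁻¹ * (t * x * t⁻¹) ∈ (a : Subgroup G) :=
    (a : Subgroup G).mul_mem ((a : Subgroup G).inv_mem hxa) hx'
  have htb' : t⁻¹ • b = b := by rw [inv_smul_eq_iff, htb]
  have hxd : x⁻¹ • d = b := by rw [inv_smul_eq_iff, hx]
  have hub : (x⁻¹ * (t * x * t⁻¹)) • b = b := by
    rw [mul_smul, mul_smul, mul_smul, htb', hx, htd, hxd]
  have h1 := eq_one_of_smul_eq c a b hab.symm _ hu hub
  have h2 : t * x * t⁻¹ = x := by
    have := congrArg (fun v => x * v) h1
    simpa using this
  have h3 : t * x = x * t := by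
    calc t * x = (t * x * t⁻¹) * t := by group
      _ = x * t := by rw [h2]
  exact claimY c hbad a t x ht hx1 hxa h3

/-- The action on the ten Sylow 3-subgroups makes `G` a Zassenhaus group. -/
theorem zassenhaus (c : Ctx G) (hbad : ¬ ∃ H : Subgroup G, H.index = 6) :
    Cfsg.IsZassenhausGroup G (Sylow 3 G) := by
  classical
  have hnontriv : ∃ a b : Sylow 3 G, a ≠ b := by
    have h1 : 1 < Nat.card (Sylow 3 G) := by rw [c.hn3]; norm_num
    haveI : Nontrivial (Sylow 3 G) := Finite.one_lt_card_iff_nontrivial.mp h1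
    exact exists_pair_ne _
  refine ⟨⟨?_⟩, ?_, ?_, ?_, ?_⟩
  · -- faithful
    intro g h hgh
    have h1 : ∀ P : Sylow 3 G, (h⁻¹ * g) • P = P := by
      intro P
      rw [mul_smul, hgh P, inv_smul_smul]
    have := eq_one_of_forall_smul c _ h1
    calc g = h * (h⁻¹ * g) := by group
      _ = h := by rw [this, mul_one]
  · -- 2-transitive
    rw [MulAction.is_two_pretransitive_iff]
    intro a b a' b' hab ha'b'
    obtain ⟨g₁, hg₁⟩ := MulAction.exists_smul_eq G a a'
    have h1 : g₁ • b ≠ a' := by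
      intro h
      apply hab
      rw [← hg₁] at h
      exact (smul_left_cancel g₁ h).symm
    obtain ⟨x, hxa, hx⟩ := exists_smul_eq c a' (g₁ • b) b' h1 ha'b'.symm
    have hxa' : x • a' = a' := Sylow.smul_eq_iff_mem_normalizer.mpr (Subgroup.le_normalizer hxa)
    refine ⟨x * g₁, ?_, ?_⟩
    · rw [mul_smul, hg₁, hxa']
    · rw [mul_smul, hx]
  · -- three-point stabilizers are trivial
    intro g a b d hab hbd had hga hgb hgd
    by_contra hg1
    have hgD : g ∈ stabilizer G a ⊓ stabilizer G b := ⟨hga, hgb⟩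
    have hg4 : g ^ 4 = 1 := by
      have h := pow_card_eq_one' (G := ↥(stabilizer G a ⊓ stabilizer G b)) (x := ⟨g, hgD⟩)
      rw [card_two_point c a b hab] at h
      exact congrArg Subtype.val h
    have hpowfix : ∀ (P : Sylow 3 G) (k : ℕ), g • P = P → (g ^ k) • P = P := by
      intro P k hP
      induction k with
      | zero => simp
      | succ n ih => rw [pow_succ, mul_smul, hP, ih]
    by_cases hg2 : g ^ 2 = 1
    · have hord : orderOf g = 2 := orderOf_eq_prime hg2 hg1
      exact no_involution_three c hbad a b d hab had hbd g hord hga hgb hgd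
    · have hord : orderOf (g ^ 2) = 2 := by
        apply orderOf_eq_prime _ hg2
        rw [← pow_mul]; exact hg4
      exact no_involution_three c hbad a b d hab had hbd (g ^ 2) hord
        (hpowfix a 2 hga) (hpowfix b 2 hgb) (hpowfix d 2 hgd)
  · -- a nontrivial element fixing two points
    obtain ⟨a, b, hab⟩ := hnontriv
    have hcard := card_two_point c a b hab
    have hne : (stabilizer G a ⊓ stabilizer G b) ≠ ⊥ := by
      intro h
      rw [h, Subgroup.card_bot] at hcard
      omega
    obtain ⟨⟨g, hg⟩, hg1⟩ := Subgroup.ne_bot_iff_exists_ne_one.mp hne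
    exact ⟨g, fun h => hg1 (Subtype.ext h), a, b, hab, hg.1, hg.2⟩
  · -- no regular normal subgroup
    intro N hN hNtrans
    obtain ⟨a, b, hab⟩ := hnontriv
    rcases hN.eq_bot_or_eq_top with rfl | rfl
    · exfalso
      obtain ⟨n, hn⟩ := MulAction.exists_smul_eq (↥(⊥ : Subgroup G)) a b
      have hn1 : (n : G) = 1 := Subgroup.mem_bot.mp n.2
      have : (n : G) • a = b := hn
      rw [hn1, one_smul] at this
      exact hab this
    · have hane : (a : Subgroup G) ≠ ⊥ := by
        intro h
        have := card_sylow3 c a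
        rw [h, Subgroup.card_bot] at this
        omega
      obtain ⟨⟨x, hx⟩, hx1⟩ := Subgroup.ne_bot_iff_exists_ne_one.mp hane
      refine ⟨a, ?_⟩
      intro hbot
      have hmem : (⟨x, Subgroup.mem_top x⟩ : ↥(⊤ : Subgroup G)) ∈
          stabilizer ↥(⊤ : Subgroup G) a := by
        rw [MulAction.mem_stabilizer_iff]
        show x • a = a
        exact Sylow.smul_eq_iff_mem_normalizer.mpr (Subgroup.le_normalizer hx)
      rw [hbot, Subgroup.mem_bot] at hmem
      apply hx1
      apply Subtype.ext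
      have := congrArg (fun u : ↥(⊤ : Subgroup G) => (u : G)) hmem
      exact this

theorem two_point_even (c : Ctx G) (a b : Sylow 3 G) (hab : a ≠ b) :
    Even (Nat.card ↥(stabilizer G a ⊓ stabilizer G b)) := by
  rw [card_two_point c a b hab]
  decide

end Cfsg.Agent.Helper3.Ord360
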