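import Mathlib

set_option autoImplicit false

namespace Cfsg.Agent.Helper3.Ord4

open scoped commutatorElement

universe u
variable {N : Type u} [Group N]

theorem conj_of_mem_center {a : N} (ha : a ∈ Subgroup.center N) (w : N) : w * a * w⁻¹ = a := by
  rw [Subgroup.mem_center_iff.1 ha w, mul_inv_cancel_right]

theorem comm_mul_right (c z z' : N) : ⁅c, z * z'⁆ = ⁅c, z⁆ * (z * ⁅c, z'⁆ * z⁻¹) := by
  simp only [commutatorElement_def]; group

theorem comm_mul_left (c c' z : N) : ⁅c * c', z⁆ = (c * ⁅c', z⁆ * c⁻¹) * ⁅c, z⁆ := by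
  simp only [commutatorElement_def]; group

theorem comm_lin_right {c z z' : N} (h : ⁅c, z'⁆ ∈ Subgroup.center N) :
    ⁅c, z * z'⁆ = ⁅c, z⁆ * ⁅c, z'⁆ := by
  rw [comm_mul_right, conj_of_mem_center h]

theorem comm_lin_left {c c' z : N} (h : ⁅c', z⁆ ∈ Subgroup.center N) :
    ⁅c * c', z⁆ = ⁅c', z⁆ * ⁅c, z⁆ := by
  rw [comm_mul_left, conj_of_mem_center h]

theorem comm_cen_mul {k a z : N} (hk : k ∈ Subgroup.center N) : ⁅k * a, z⁆ = ⁅a, z⁆ := by
  have h1 : k * z = z * k := (Subgroup.mem_center_iff.1 hk z).symm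
  simp only [commutatorElement_def, mul_inv_rev]
  have h2 : k * a * z * (a⁻¹ * k⁻¹) * z⁻¹ = k * (a * z * a⁻¹ * z⁻¹) * (z * k⁻¹ * z⁻¹) := by group
  have h3 : z * k⁻¹ * z⁻¹ = k⁻¹ := conj_of_mem_center (Subgroup.inv_mem _ hk) z
  rw [h2, h3, Subgroup.mem_center_iff.1 hk (a * z * a⁻¹ * z⁻¹) |>.symm]
  group

theorem comm_inv_left {c z : N} (h : ⁅c, z⁆ ∈ Subgroup.center N) : ⁅c⁻¹, z⁆ = ⁅c, z⁆⁻¹ := by
  have h1 : ⁅c⁻¹ * c, z⁆ = ⁅c, z⁆ * ⁅c⁻¹, z⁆ := comm_lin_left h
  rw [inv_mul_cancel, commutatorElement_one_left] at h1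
  exact eq_inv_of_mul_eq_one_right h1.symm


/-- The key step: class `≤ 3` plus Engel-type conditions and a fixed-point-free `τ` of order `3`
give class `≤ 2`. -/
theorem lemmaK (τ : N ≃* N)
    (k1 : ∀ x y z : N, ⁅⁅x, y⁆, z⁆ ∈ Subgroup.center N)
    (k2 : ∀ x g : N, Commute x (g * x * g⁻¹))
    (k3 : ∀ x g : N, Commute x (g * τ x * g⁻¹))
    (k4 : ∀ c : N, τ c = c → c = 1)
    (k5 : ∀ x : N, τ (τ (τ x)) = x) :
    ∀ x y z : N, ⁅⁅x, y⁆, z⁆ = 1 := by
  have lin3 : ∀ x y z z' : N, ⁅⁅x, y⁆, z * z'⁆ = ⁅⁅x, y⁆, z⁆ * ⁅⁅x, y⁆, z'⁆ :=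
    fun x y z z' => comm_lin_right (k1 x y z')
  have lin1 : ∀ x x' y z : N, ⁅⁅x * x', y⁆, z⁆ = ⁅⁅x, y⁆, z⁆ * ⁅⁅x', y⁆, z⁆ := by
    intro x x' y z
    have h1 : ⁅x * x', y⁆ = ⁅x, ⁅x', y⁆⁆ * (⁅x', y⁆ * ⁅x, y⁆) := by
      simp only [commutatorElement_def]; group
    have h2 : ⁅x, ⁅x', y⁆⁆ ∈ Subgroup.center N := by
      rw [← commutatorElement_inv]
      exact Subgroup.inv_mem _ (k1 x' y x)
    rw [h1, comm_cen_mul h2, comm_lin_left (k1 x y z)]
  have anti : ∀ x y z : N, ⁅⁅y, x⁆, z⁆ = ⁅⁅x, y⁆, z⁆⁻¹ := by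
    intro x y z
    rw [← commutatorElement_inv x y]
    exact comm_inv_left (k1 x y z)
  have cc : ∀ x y z x' y' z' : N, ⁅⁅x, y⁆, z⁆ * ⁅⁅x', y'⁆, z'⁆ = ⁅⁅x', y'⁆, z'⁆ * ⁅⁅x, y⁆, z⁆ :=
    fun x y z x' y' z' => (Subgroup.mem_center_iff.1 (k1 x' y' z') _)
  have engel : ∀ x y : N, ⁅⁅x, y⁆, x⁆ = 1 := by
    intro x y
    rw [commutatorElement_eq_one_iff_commute]
    have h1 : ⁅x, y⁆ = x * (y * x * y⁻¹)⁻¹ := by
      simp only [commutatorElement_def]; group
    rw [h1]
    exact (Commute.refl x).mul_left ((k2 x y).symm.inv_left)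
  have engel' : ∀ x g : N, ⁅⁅τ x, g⁆, x⁆ = 1 := by
    intro x g
    rw [commutatorElement_eq_one_iff_commute]
    have h1 : ⁅τ x, g⁆ = (1 * τ x * 1⁻¹) * (g * τ x * g⁻¹)⁻¹ := by
      simp only [commutatorElement_def]; group
    rw [h1]
    exact ((k3 x 1).symm).mul_left ((k3 x g).symm.inv_left)
  have pol : ∀ x y z : N, ⁅⁅x, y⁆, z⁆ * ⁅⁅z, y⁆, x⁆ = 1 := by
    intro x y z
    have h := engel (x * z) y
    rw [lin3, lin1, lin1, engel x y, engel z y, one_mul, mul_one] at h
    rw [cc]; exact h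
  have pol' : ∀ x g z : N, ⁅⁅τ x, g⁆, z⁆ * ⁅⁅τ z, g⁆, x⁆ = 1 := by
    intro x g z
    have h := engel' (x * z) g
    rw [map_mul, lin3, lin1, lin1, engel' x g, engel' z g, one_mul, mul_one] at h
    rw [cc]; exact h
  have P1 : ∀ x y z : N, ⁅⁅τ x, y⁆, z⁆ = ⁅⁅x, y⁆, τ z⁆ := by
    intro x y z
    have h1 := pol' x y z
    have h2 := pol (τ z) y x
    rw [eq_inv_of_mul_eq_one_left h1, ← eq_inv_of_mul_eq_one_right h2]
  have P2 : ∀ x y z : N, ⁅⁅x, τ y⁆, z⁆ = ⁅⁅x, y⁆, τ z⁆ := by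
    intro x y z
    rw [anti (τ y) x z, P1, anti x y (τ z), inv_inv]
  intro x y z
  apply k4
  rw [map_commutatorElement, map_commutatorElement, P1, P2, k5]


theorem comm_of_norm3 (σ : N ≃* N) (h : ∀ x, x * σ x * σ (σ x) = 1) (x : N) :
    Commute x (σ x) := by
  have h1 := h x
  have h2 := h x⁻¹
  simp only [map_inv] at h2
  have e1 : σ (σ x) = (x * σ x)⁻¹ := eq_inv_of_mul_eq_one_right h1
  have e2 : (σ (σ x))⁻¹ = (x⁻¹ * (σ x)⁻¹)⁻¹ := eq_inv_of_mul_eq_one_right h2
  rw [e1, inv_inv] at e2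
  unfold Commute SemiconjBy
  rw [e2]; group

theorem cube_of_norm3 (σ : N ≃* N) (h : ∀ x, x * σ x * σ (σ x) = 1) (x : N) :
    σ (σ (σ x)) = x := by
  have h1 := h x
  have h2 := h (σ x)
  rw [mul_assoc] at h1
  exact (eq_inv_of_mul_eq_one_right h2).trans (eq_inv_of_mul_eq_one_left h1).symm

theorem eq_one_of_pow_three (hN : IsPGroup 2 N) (c : N) (h : c ^ 3 = 1) : c = 1 := by
  obtain ⟨k, hk⟩ := hN c
  have h1 : orderOf c ∣ 3 := orderOf_dvd_of_pow_eq_one h
  have h2 : orderOf c ∣ 2 ^ k := orderOf_dvd_of_pow_eq_one hk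
  have h3 : Nat.Coprime 3 (2 ^ k) := Nat.Coprime.pow_right k (by norm_num)
  have h4 : orderOf c ∣ 1 := by
    have := Nat.dvd_gcd h1 h2
    rwa [h3.gcd_eq_one] at this
  exact orderOf_eq_one_iff.1 (Nat.dvd_one.1 h4)

theorem class_two_aux : ∀ (n : ℕ) (N : Type u) [Group N] [Finite N], Nat.card N = n →
    IsPGroup 2 N → ∀ τ : N ≃* N,
    (∀ g x : N, x * (g * τ x * g⁻¹) * (g * τ (g * τ x * g⁻¹) * g⁻¹) = 1) →
    ∀ x y z : N, ⁅⁅x, y⁆, z⁆ = 1 := by
  intro n
  induction n using Nat.strong_induction_on with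
  | _ n ih =>
    intro N _ _ hcard hN τ hA
    by_cases htriv : Subsingleton N
    · intro x y z; exact Subsingleton.elim _ _
    rw [not_subsingleton_iff_nontrivial] at htriv
    have hZ : Nontrivial (Subgroup.center N) := hN.center_nontrivial
    have hchar : (Subgroup.center N).map (τ : N →* N) = Subgroup.center N :=
      Subgroup.characteristic_iff_map_eq.1 inferInstance τ
    have hlt : Nat.card (N ⧸ Subgroup.center N) < n := by
      have h1 := Subgroup.card_eq_card_quotient_mul_card_subgroup (Subgroup.center N)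
      have h2 : 1 < Nat.card (Subgroup.center N) := Finite.one_lt_card
      have h3 : 0 < Nat.card (N ⧸ Subgroup.center N) := Nat.card_pos
      rw [← hcard, h1]
      nlinarith
    have hq := ih _ hlt (N ⧸ Subgroup.center N) rfl (hN.to_quotient _)
      (QuotientGroup.congr (Subgroup.center N) (Subgroup.center N) τ hchar) (by
        intro g x
        induction g using QuotientGroup.induction_on with
        | H g =>
          induction x using QuotientGroup.induction_on with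
          | H x =>
            simp only [QuotientGroup.congr_mk, ← QuotientGroup.mk_mul, ← QuotientGroup.mk_inv]
            rw [hA]; rfl)
    have k1 : ∀ x y z : N, ⁅⁅x, y⁆, z⁆ ∈ Subgroup.center N := by
      intro x y z
      have : (QuotientGroup.mk' (Subgroup.center N)) ⁅⁅x, y⁆, z⁆ = 1 := by
        rw [map_commutatorElement, map_commutatorElement]; exact hq _ _ _
      exact (QuotientGroup.eq_one_iff _).1 this
    have hA1 : ∀ x : N, x * τ x * τ (τ x) = 1 := by
      intro x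
      have := hA 1 x
      simpa using this
    have k5 : ∀ x : N, τ (τ (τ x)) = x := cube_of_norm3 τ hA1
    have k4 : ∀ c : N, τ c = c → c = 1 := by
      intro c hc
      have := hA1 c
      rw [hc, hc] at this
      exact eq_one_of_pow_three hN c (by rw [pow_succ, pow_two]; exact this)
    have hσ : ∀ g x : N, Commute x (g * τ x * g⁻¹) := by
      intro g x
      have := comm_of_norm3 (τ.trans (MulAut.conj g)) (by
        intro y
        simp only [MulEquiv.trans_apply, MulAut.conj_apply]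
        exact hA g y) x
      simpa only [MulEquiv.trans_apply, MulAut.conj_apply] using this
    have hσ2 : ∀ g x : N, Commute x (g * τ (τ x) * g⁻¹) := by
      intro g x
      -- a := τ g⁻¹, a * τ a = g
      obtain ⟨a, ha⟩ : ∃ a, a = τ g⁻¹ := ⟨_, rfl⟩
      have hh : a * τ a = g := by
        have := hA1 g⁻¹
        rw [mul_assoc, ← ha] at this
        have h2 := eq_inv_of_mul_eq_one_right this
        rw [inv_inv] at h2
        exact h2
      have h1 := hσ a x
      have h2 := hA a x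
      have e1 := eq_inv_of_mul_eq_one_right h2
      have h3 : Commute x (a * τ (a * τ x * a⁻¹) * a⁻¹) := by
        rw [e1]
        exact ((Commute.refl x).mul_right h1).inv_right
      have e2 : a * τ (a * τ x * a⁻¹) * a⁻¹ = g * τ (τ x) * g⁻¹ := by
        rw [map_mul, map_mul, map_inv, ← hh]; group
      rwa [e2] at h3
    have k3 : ∀ x g : N, Commute x (g * τ x * g⁻¹) := fun x g => hσ g x
    have k2 : ∀ x g : N, Commute x (g * x * g⁻¹) := by
      intro x g
      have e : g * x * g⁻¹ = ((g * τ x * g⁻¹) * (g * τ (τ x) * g⁻¹))⁻¹ := by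
        have h1 := hA1 x
        rw [mul_assoc] at h1
        have h2 : τ x * τ (τ x) = x⁻¹ := eq_inv_of_mul_eq_one_right h1
        have : (g * τ x * g⁻¹) * (g * τ (τ x) * g⁻¹) = g * (τ x * τ (τ x)) * g⁻¹ := by group
        rw [this, h2]; group
      rw [e]
      exact ((hσ g x).mul_right (hσ2 g x)).inv_right
    exact lemmaK τ k1 k2 k3 k4 k5

/-- A finite `2`-group with an automorphism `τ` all of whose inner twists `σ = conj g ∘ τ`
satisfy `x σ(x) σ²(x) = 1` has class at most `2`. -/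
theorem class_two_of_twisted (N : Type u) [Group N] [Finite N] (hN : IsPGroup 2 N) (τ : N ≃* N)
    (hA : ∀ g x : N, x * (g * τ x * g⁻¹) * (g * τ (g * τ x * g⁻¹) * g⁻¹) = 1) :
    ∀ x y z : N, ⁅⁅x, y⁆, z⁆ = 1 :=
  class_two_aux _ N rfl hN τ hA


theorem exp_two_aux : ∀ (n : ℕ) (N : Type u) [Group N] [Finite N], Nat.card N = n →
    IsPGroup 2 N → ∀ τ υ : N ≃* N,
    (∀ x : N, x * τ x * τ (τ x) = 1) →
    (∀ x : N, (x * υ x) ^ 2 = 1) → (∀ x : N, (x * τ (υ x)) ^ 2 = 1) →
    (∀ x : N, (x * τ (τ (υ x))) ^ 2 = 1) →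
    ∀ x : N, x ^ 2 = 1 := by
  intro n
  induction n using Nat.strong_induction_on with
  | _ n ih =>
    intro N _ _ hcard hN τ υ hA hB0 hB1 hB2
    by_cases htriv : Subsingleton N
    · intro x; exact Subsingleton.elim _ _
    rw [not_subsingleton_iff_nontrivial] at htriv
    have hZ : Nontrivial (Subgroup.center N) := hN.center_nontrivial
    have hcharτ : (Subgroup.center N).map (τ : N →* N) = Subgroup.center N :=
      Subgroup.characteristic_iff_map_eq.1 inferInstance τ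
    have hcharυ : (Subgroup.center N).map (υ : N →* N) = Subgroup.center N :=
      Subgroup.characteristic_iff_map_eq.1 inferInstance υ
    have hlt : Nat.card (N ⧸ Subgroup.center N) < n := by
      have h1 := Subgroup.card_eq_card_quotient_mul_card_subgroup (Subgroup.center N)
      have h2 : 1 < Nat.card (Subgroup.center N) := Finite.one_lt_card
      have h3 : 0 < Nat.card (N ⧸ Subgroup.center N) := Nat.card_pos
      rw [← hcard, h1]
      nlinarith
    have hq := ih _ hlt (N ⧸ Subgroup.center N) rfl (hN.to_quotient _)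
      (QuotientGroup.congr (Subgroup.center N) (Subgroup.center N) τ hcharτ)
      (QuotientGroup.congr (Subgroup.center N) (Subgroup.center N) υ hcharυ)
      (by
        intro x
        induction x using QuotientGroup.induction_on with
        | H x =>
          simp only [QuotientGroup.congr_mk, ← QuotientGroup.mk_mul]
          rw [hA]; rfl)
      (by
        intro x
        induction x using QuotientGroup.induction_on with
        | H x =>
          simp only [QuotientGroup.congr_mk, ← QuotientGroup.mk_mul, ← QuotientGroup.mk_pow]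
          rw [hB0]; rfl)
      (by
        intro x
        induction x using QuotientGroup.induction_on with
        | H x =>
          simp only [QuotientGroup.congr_mk, ← QuotientGroup.mk_mul, ← QuotientGroup.mk_pow]
          rw [hB1]; rfl)
      (by
        intro x
        induction x using QuotientGroup.induction_on with
        | H x =>
          simp only [QuotientGroup.congr_mk, ← QuotientGroup.mk_mul, ← QuotientGroup.mk_pow]
          rw [hB2]; rfl)
    have sqc : ∀ x : N, x * x ∈ Subgroup.center N := by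
      intro x
      have : (QuotientGroup.mk' (Subgroup.center N)) (x * x) = 1 := by
        rw [map_mul, ← pow_two]; exact hq _
      exact (QuotientGroup.eq_one_iff _).1 this
    have cc : ∀ x y : N, ⁅x, y⁆ ∈ Subgroup.center N := by
      intro x y
      have hinv : ∀ a : N ⧸ Subgroup.center N, a⁻¹ = a := fun a =>
        inv_eq_of_mul_eq_one_right (by rw [← pow_two]; exact hq a)
      have : (QuotientGroup.mk' (Subgroup.center N)) ⁅x, y⁆ = 1 := by
        rw [map_commutatorElement, commutatorElement_def, hinv, hinv]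
        have := hq ((QuotientGroup.mk' (Subgroup.center N)) x * (QuotientGroup.mk' (Subgroup.center N)) y)
        rw [pow_two] at this
        rw [← this]; group
      exact (QuotientGroup.eq_one_iff _).1 this
    intro x
    -- the three relations
    have rel : ∀ m : N, (x * m) ^ 2 = 1 → ⁅m, x⁆ * (x * x) * (m * m) = 1 := by
      intro m hm
      have h1 : x * m * (x * m) = x * ⁅m, x⁆ * x * (m * m) := by
        simp only [commutatorElement_def]; group
      rw [pow_two, h1, Subgroup.mem_center_iff.1 (cc m x) x] at hm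
      rw [← hm]; group
    have r0 := rel _ (hB0 x)
    have r1 := rel _ (hB1 x)
    have r2 := rel _ (hB2 x)
    have hM : (υ x * υ x) * (τ (υ x) * τ (υ x)) * (τ (τ (υ x)) * τ (τ (υ x))) = 1 := by
      have := hA (υ x * υ x)
      simpa only [map_mul] using this
    have hC : ⁅τ (τ (υ x)), x⁆ * (⁅τ (υ x), x⁆ * ⁅υ x, x⁆) = 1 := by
      have h1 : ⁅υ x * τ (υ x) * τ (τ (υ x)), x⁆ =
          ⁅τ (τ (υ x)), x⁆ * (⁅τ (υ x), x⁆ * ⁅υ x, x⁆) := by
        rw [comm_lin_left (cc _ _), comm_lin_left (cc _ _)]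
      rw [← h1, hA, commutatorElement_one_left]
    -- move to the centre
    have key : (⟨x * x, sqc x⟩ : Subgroup.center N) ^ 3 = 1 := by
      have e0 : (⟨⁅υ x, x⁆, cc _ _⟩ : Subgroup.center N) * ⟨x * x, sqc x⟩ * ⟨υ x * υ x, sqc _⟩ = 1 :=
        Subtype.ext r0
      have e1 : (⟨⁅τ (υ x), x⁆, cc _ _⟩ : Subgroup.center N) * ⟨x * x, sqc x⟩ *
          ⟨τ (υ x) * τ (υ x), sqc _⟩ = 1 := Subtype.ext r1
      have e2 : (⟨⁅τ (τ (υ x)), x⁆, cc _ _⟩ : Subgroup.center N) * ⟨x * x, sqc x⟩ *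
          ⟨τ (τ (υ x)) * τ (τ (υ x)), sqc _⟩ = 1 := Subtype.ext r2
      have eM : (⟨υ x * υ x, sqc _⟩ : Subgroup.center N) * ⟨τ (υ x) * τ (υ x), sqc _⟩ *
          ⟨τ (τ (υ x)) * τ (τ (υ x)), sqc _⟩ = 1 := Subtype.ext hM
      have eC : (⟨⁅τ (τ (υ x)), x⁆, cc _ _⟩ : Subgroup.center N) *
          (⟨⁅τ (υ x), x⁆, cc _ _⟩ * ⟨⁅υ x, x⁆, cc _ _⟩) = 1 := Subtype.ext hC
      generalize (⟨⁅υ x, x⁆, cc _ _⟩ : Subgroup.center N) = C0 at *
      generalize (⟨⁅τ (υ x), x⁆, cc _ _⟩ : Subgroup.center N) = C1 at *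
      generalize (⟨⁅τ (τ (υ x)), x⁆, cc _ _⟩ : Subgroup.center N) = C2 at *
      generalize (⟨x * x, sqc x⟩ : Subgroup.center N) = S at *
      generalize (⟨υ x * υ x, sqc _⟩ : Subgroup.center N) = M0 at *
      generalize (⟨τ (υ x) * τ (υ x), sqc _⟩ : Subgroup.center N) = M1 at *
      generalize (⟨τ (τ (υ x)) * τ (τ (υ x)), sqc _⟩ : Subgroup.center N) = M2 at *
      have h : (C0 * S * M0) * (C1 * S * M1) * (C2 * S * M2) =
          (C2 * (C1 * C0)) * S ^ 3 * (M0 * M1 * M2) := by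
        rw [pow_succ, pow_two]; ac_rfl
      rw [e0, e1, e2, eC, eM] at h
      simpa using h.symm
    have key2 : (x * x) ^ 3 = 1 := by
      have := congrArg Subtype.val key
      simpa using this
    have := eq_one_of_pow_three hN (x * x) key2
    rw [pow_two]; exact this

/-- A finite `2`-group with automorphisms `τ`, `υ` such that `x τ(x) τ²(x) = 1` and
`(x · τⁱυ(x))² = 1` for `i = 0, 1, 2` has exponent at most `2`. -/
theorem exp_two_of_s3 (N : Type u) [Group N] [Finite N] (hN : IsPGroup 2 N) (τ υ : N ≃* N)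
    (hA : ∀ x : N, x * τ x * τ (τ x) = 1)
    (hB0 : ∀ x : N, (x * υ x) ^ 2 = 1) (hB1 : ∀ x : N, (x * τ (υ x)) ^ 2 = 1)
    (hB2 : ∀ x : N, (x * τ (τ (υ x))) ^ 2 = 1) : ∀ x : N, x ^ 2 = 1 :=
  exp_two_aux _ N rfl hN τ υ hA hB0 hB1 hB2

end Cfsg.Agent.Helper3.Ord4
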