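import Mathlib
import Cfsg.Agent.Helper1.SZ
import Cfsg.Agent.Helper1.Cores
import Cfsg.Agent.Helper4.PCore
import Cfsg.Agent.S0016
import Cfsg.Prelude.Def_Transfer

set_option autoImplicit false

namespace Cfsg.Agent.Helper3.Ord4

universe u

/-- All element orders lie in `{1, 2, 3, 4}`. -/
def O4 (G : Type*) [Group G] : Prop :=
  ∀ g : G, orderOf g = 1 ∨ orderOf g = 2 ∨ orderOf g = 3 ∨ orderOf g = 4

variable {G : Type u} [Group G]

theorem O4.of_surjective {H : Type*} [Group H] (h : O4 G) (f : G →* H)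
    (hf : Function.Surjective f) : O4 H := by
  intro y
  obtain ⟨x, rfl⟩ := hf y
  have h1 : orderOf (f x) ∣ orderOf x := orderOf_map_dvd f x
  rcases h x with h2 | h2 | h2 | h2 <;> rw [h2] at h1
  · left; exact Nat.dvd_one.1 h1
  · have := Nat.le_of_dvd (by norm_num) h1
    have hpos : orderOf (f x) ≠ 0 := fun h0 => by rw [h0] at h1; omega
    interval_cases (orderOf (f x)) <;> simp_all
  · have := Nat.le_of_dvd (by norm_num) h1
    have hpos : orderOf (f x) ≠ 0 := fun h0 => by rw [h0] at h1; omega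
    interval_cases (orderOf (f x)) <;> simp_all
  · have := Nat.le_of_dvd (by norm_num) h1
    have hpos : orderOf (f x) ≠ 0 := fun h0 => by rw [h0] at h1; omega
    interval_cases (orderOf (f x)) <;> simp_all

theorem O4.quotient (h : O4 G) (N : Subgroup G) [N.Normal] : O4 (G ⧸ N) :=
  h.of_surjective (QuotientGroup.mk' N) (QuotientGroup.mk'_surjective N)

theorem O4.pow_cases (h : O4 G) (g : G) : g ^ 3 = 1 ∨ g ^ 4 = 1 := by
  rcases h g with h1 | h1 | h1 | h1
  · left; rw [orderOf_eq_one_iff.1 h1, one_pow]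
  · right; exact orderOf_dvd_iff_pow_eq_one.1 (by rw [h1]; norm_num)
  · left; exact orderOf_dvd_iff_pow_eq_one.1 (by rw [h1])
  · right; exact orderOf_dvd_iff_pow_eq_one.1 (by rw [h1])

theorem O4.no6 (h : O4 G) {a b : G} (hc : Commute a b) (ha : orderOf a = 2)
    (hb : orderOf b = 3) : False := by
  have h1 : orderOf (a * b) = 6 := by
    rw [hc.orderOf_mul_eq_mul_orderOf_of_coprime (by rw [ha, hb]; norm_num), ha, hb]
  rcases h (a * b) with h2 | h2 | h2 | h2 <;> omega

/-- Commuting elements `a`, `b` with `a ^ 4 = 1` and `b ^ 3 = 1`: one of them is trivial. -/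
theorem O4.comm_trivial (h : O4 G) {a b : G} (hc : Commute a b) (ha : a ^ 4 = 1)
    (hb : b ^ 3 = 1) : a = 1 ∨ b = 1 := by
  by_contra hne
  push Not at hne
  have hb3 : orderOf b = 3 := orderOf_eq_prime hb hne.2
  by_cases ha2 : a ^ 2 = 1
  · exact h.no6 hc (orderOf_eq_prime ha2 hne.1) hb3
  · have h2 : orderOf (a ^ 2) = 2 := by
      apply orderOf_eq_prime _ ha2
      rw [← pow_mul]; exact ha
    exact h.no6 (hc.pow_left 2) h2 hb3

theorem eq_one_of_pgroup_pow {p m : ℕ} {H : Subgroup G} (hH : IsPGroup p H)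
    (hpm : Nat.Coprime p m) {c : G} (hc : c ∈ H) (h : c ^ m = 1) : c = 1 := by
  obtain ⟨k, hk⟩ := hH ⟨c, hc⟩
  have hk' : c ^ (p ^ k) = 1 := by
    have := congrArg Subtype.val hk
    simpa using this
  have h1 : orderOf c ∣ m := orderOf_dvd_of_pow_eq_one h
  have h2 : orderOf c ∣ p ^ k := orderOf_dvd_of_pow_eq_one hk'
  have h3 : Nat.Coprime (p ^ k) m := Nat.Coprime.pow_left k hpm
  have h4 : orderOf c ∣ 1 := by
    have := Nat.dvd_gcd h2 h1
    rwa [h3.gcd_eq_one] at this
  exact orderOf_eq_one_iff.1 (Nat.dvd_one.1 h4)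


/-- An `O4` group of order 6 is the symmetric group of degree 3. -/
theorem s3_of_card_six [Finite G] (hG : O4 G) (h6 : Nat.card G = 6) :
    Nonempty (G ≃* Equiv.Perm (Fin 3)) := by
  obtain ⟨t, ht⟩ := exists_prime_orderOf_dvd_card' (G := G) 2 (by rw [h6]; norm_num)
  obtain ⟨x, hx⟩ := exists_prime_orderOf_dvd_card' (G := G) 3 (by rw [h6]; norm_num)
  set H := Subgroup.zpowers t with hH
  have hHcard : Nat.card H = 2 := by rw [Nat.card_zpowers, ht]
  have hHidx : H.index = 3 := by
    have := Subgroup.card_mul_index H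
    rw [hHcard, h6] at this
    omega
  have hcore : H.normalCore = ⊥ := by
    rw [eq_bot_iff]
    intro g hg
    rw [Subgroup.mem_bot]
    by_contra hg1
    have hgH : g ∈ H := Subgroup.normalCore_le H hg
    have huniq := (Nat.card_eq_two_iff' (1 : H)).1 hHcard
    obtain ⟨y, -, hy⟩ := huniq
    have htH : t ∈ H := Subgroup.mem_zpowers t
    have ht1 : t ≠ 1 := by
      intro h
      rw [h, orderOf_one] at ht
      norm_num at ht
    have e1 : (⟨g, hgH⟩ : H) = y := hy _ (fun h => hg1 (congrArg Subtype.val h))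
    have e2 : (⟨t, htH⟩ : H) = y := hy _ (fun h => ht1 (congrArg Subtype.val h))
    have hgt : g = t := congrArg Subtype.val (e1.trans e2.symm)
    have hcent : ∀ c : G, c * t * c⁻¹ = t := by
      intro c
      have h1 : c * t * c⁻¹ ∈ H.normalCore := by
        rw [← hgt]
        exact (Subgroup.normalCore_normal H).conj_mem g hg c
      have h2 : c * t * c⁻¹ ∈ H := Subgroup.normalCore_le H h1
      have h3 : c * t * c⁻¹ ≠ 1 := by
        intro h
        apply ht1
        have : t = c⁻¹ * (c * t * c⁻¹) * c := by group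
        rw [this, h]
        group
      have e3 : (⟨c * t * c⁻¹, h2⟩ : H) = y := hy _ (fun h => h3 (congrArg Subtype.val h))
      exact congrArg Subtype.val (e3.trans e2.symm)
    have hcomm : Commute t x := by
      have := hcent x
      unfold Commute SemiconjBy
      calc t * x = x * t * x⁻¹ * x := by rw [this]
        _ = x * t := by group
    exact hG.no6 hcomm ht hx
  let φ : G →* Equiv.Perm (G ⧸ H) := MulAction.toPermHom G (G ⧸ H)
  have hker : φ.ker = ⊥ := by rw [← hcore, Subgroup.normalCore_eq_ker]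
  have hinj : Function.Injective φ := (MonoidHom.ker_eq_bot_iff φ).1 hker
  have hcard3 : Nat.card (G ⧸ H) = 3 := by rw [← Subgroup.index_eq_card]; exact hHidx
  have hcardP : Nat.card (Equiv.Perm (G ⧸ H)) = 6 := by
    rw [Nat.card_perm, hcard3]
    rfl
  have hbij : Function.Bijective φ :=
    hinj.bijective_of_nat_card_le (by rw [hcardP, h6])
  let e1 : G ≃* Equiv.Perm (G ⧸ H) := MulEquiv.ofBijective φ hbij
  let e2 : (G ⧸ H) ≃ Fin 3 := (Finite.equivFin (G ⧸ H)).trans (finCongr hcard3)
  exact ⟨e1.trans e2.permCongrHom⟩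

/-- A nontrivial solvable `O4` group without nontrivial normal `2`-subgroups and of order not
divisible by `9` has order `3` or `6`. -/
theorem card_three_or_six (Q : Type u) [Group Q] [Finite Q] (hQ : O4 Q) [Group.IsSolvable Q]
    [Nontrivial Q] (h2 : ∀ R : Subgroup Q, R.Normal → IsPGroup 2 R → R = ⊥)
    (h9 : ¬ 9 ∣ Nat.card Q) : Nat.card Q = 3 ∨ Nat.card Q = 6 := by
  obtain ⟨p, hp, R, hRn, hRne, hRp, -, -⟩ := Cfsg.Agent.Helper1.exists_normal_pgroup_of_solvable Q
  obtain ⟨r, hr1⟩ := (Subgroup.ne_bot_iff_exists_ne_one.1 hRne)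
  have hrR : (r : Q) ∈ R := r.2
  have hr1' : (r : Q) ≠ 1 := fun h => hr1 (Subtype.ext h)
  -- p = 3
  have hp3 : p = 3 := by
    by_contra hne
    obtain ⟨k, hk⟩ := hRp r
    have hk' : (r : Q) ^ (p ^ k) = 1 := by
      have := congrArg Subtype.val hk
      simpa using this
    have hd : orderOf (r : Q) ∣ p ^ k := orderOf_dvd_of_pow_eq_one hk'
    have ho1 : orderOf (r : Q) ≠ 1 := fun h => hr1' (orderOf_eq_one_iff.1 h)
    have hpd : p ∣ orderOf (r : Q) := by
      obtain ⟨j, -, hj⟩ := (Nat.dvd_prime_pow hp.out).1 hd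
      rw [hj]
      have : j ≠ 0 := by
        rintro rfl
        rw [pow_zero] at hj; exact ho1 hj
      exact dvd_pow_self p this
    have hp2 : p = 2 := by
      rcases hQ (r : Q) with h | h | h | h
      · exact absurd h ho1
      · rw [h] at hpd
        exact (Nat.prime_dvd_prime_iff_eq hp.out Nat.prime_two).1 hpd
      · rw [h] at hpd
        exact absurd ((Nat.prime_dvd_prime_iff_eq hp.out Nat.prime_three).1 hpd) hne
      · rw [h] at hpd
        have : p ∣ 2 ^ 2 := by norm_num; exact hpd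
        exact (Nat.prime_dvd_prime_iff_eq hp.out Nat.prime_two).1 (hp.out.dvd_of_dvd_pow this)
    subst hp2
    exact hRne (h2 R hRn hRp)
  subst hp3
  -- |R| = 3
  have hRcard : Nat.card R = 3 := by
    obtain ⟨k, hk⟩ := IsPGroup.iff_card.1 hRp
    have hdvd : Nat.card R ∣ Nat.card Q := Subgroup.card_subgroup_dvd_card R
    rcases k with _ | _ | k
    · exfalso
      rw [pow_zero] at hk
      exact hRne (Subgroup.card_eq_one.1 hk)
    · simpa using hk
    · exfalso
      apply h9
      rw [hk] at hdvd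
      exact dvd_trans ⟨3 ^ k, by ring⟩ hdvd
  set r' : Q := (r : Q) with hr'
  have hr3 : orderOf r' = 3 := by
    have h1 : orderOf r ∣ 3 := by rw [← hRcard]; exact orderOf_dvd_natCard r
    have h2 : orderOf r' = orderOf r := Subgroup.orderOf_coe r
    rw [h2]
    rcases (Nat.dvd_prime Nat.prime_three).1 h1 with h | h
    · exact absurd (orderOf_eq_one_iff.1 h) hr1
    · exact h
  have hRz : R = Subgroup.zpowers r' := by
    symm
    apply Subgroup.eq_of_le_of_card_ge
    · rw [Subgroup.zpowers_le]; exact hrR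
    · rw [Nat.card_zpowers, hr3, hRcard]
  have hconj : ∀ q : Q, q * r' * q⁻¹ = r' ∨ q * r' * q⁻¹ = r'⁻¹ := by
    intro q
    have h1 : q * r' * q⁻¹ ∈ Subgroup.zpowers r' := by
      rw [← hRz]; exact hRn.conj_mem _ hrR q
    obtain ⟨k, hk⟩ := Subgroup.mem_zpowers_iff.1 h1
    have h2 : r' ^ (k % 3) = r' ^ k := by
      have := zpow_mod_orderOf r' k
      rwa [hr3] at this
    have h3 : 0 ≤ k % 3 := Int.emod_nonneg _ (by norm_num)
    have h4 : k % 3 < 3 := Int.emod_lt_of_pos _ (by norm_num)
    have h5 : r' ^ 3 = 1 := by rw [← hr3]; exact pow_orderOf_eq_one r'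
    rw [← hk, ← h2]
    obtain ⟨j, hj⟩ : ∃ j : ℤ, j = k % 3 := ⟨_, rfl⟩
    rw [← hj] at h3 h4 ⊢
    interval_cases j
    · exfalso
      rw [← h2, ← hj, zpow_zero] at hk
      apply hr1'
      have : r' = q⁻¹ * (q * r' * q⁻¹) * q := by group
      rw [this, ← hk]; group
    · left; exact zpow_one r'
    · right
      have : r' ^ (2 : ℤ) * r' = 1 := by
        have : r' ^ (2 : ℤ) * r' = r' ^ 3 := by group
        rw [this, h5]
      exact eq_inv_of_mul_eq_one_left this
  -- the centralizer of r'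
  set C := Subgroup.centralizer ({r'} : Set Q) with hC
  have hCp : IsPGroup 3 C := by
    intro c
    refine ⟨1, ?_⟩
    have hcomm : Commute (c : Q) r' := by
      have := Subgroup.mem_centralizer_singleton_iff.1 c.2
      exact this
    have h5 : r' ^ 3 = 1 := by rw [← hr3]; exact pow_orderOf_eq_one r'
    rcases hQ.pow_cases (c : Q) with h | h
    · apply Subtype.ext
      simpa using h
    · rcases hQ.comm_trivial hcomm h h5 with h' | h'
      · apply Subtype.ext
        simp [h']
      · exact absurd h' hr1'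
  have hCcard : Nat.card C = 3 := by
    obtain ⟨k, hk⟩ := IsPGroup.iff_card.1 hCp
    have hdvd : Nat.card C ∣ Nat.card Q := Subgroup.card_subgroup_dvd_card C
    have hrC : r' ∈ C := by
      rw [hC, Subgroup.mem_centralizer_singleton_iff]
    rcases k with _ | _ | k
    · exfalso
      rw [pow_zero] at hk
      have := Subgroup.card_eq_one.1 hk
      rw [this, Subgroup.mem_bot] at hrC
      exact hr1' hrC
    · simpa using hk
    · exfalso
      apply h9
      rw [hk] at hdvd
      exact dvd_trans ⟨3 ^ k, by ring⟩ hdvd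
  have hidx : C.index = 1 ∨ C.index = 2 := by
    by_cases htop : C = ⊤
    · left; rw [htop, Subgroup.index_top]
    · right
      obtain ⟨a, -, ha⟩ := SetLike.exists_of_lt (lt_top_iff_ne_top.2 htop)
      have hmemC : ∀ b : Q, b ∈ C ↔ b * r' * b⁻¹ = r' := by
        intro b
        rw [hC, Subgroup.mem_centralizer_singleton_iff]
        constructor
        · intro h; rw [h, mul_inv_cancel_right]
        · intro h
          calc b * r' = b * r' * b⁻¹ * b := by group
            _ = r' * b := by rw [h]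
      have hne : r'⁻¹ ≠ r' := by
        intro h
        have : r' ^ 2 = 1 := by
          rw [pow_two]; nth_rewrite 1 [← h]; exact inv_mul_cancel r'
        have := orderOf_dvd_of_pow_eq_one this
        rw [hr3] at this
        norm_num at this
      have hainv : a * r' * a⁻¹ = r'⁻¹ := by
        rcases hconj a with h | h
        · exact absurd ((hmemC a).2 h) ha
        · exact h
      rw [Subgroup.index_eq_two_iff]
      refine ⟨a, fun b => ?_⟩
      have e : b * a * r' * (b * a)⁻¹ = (b * r' * b⁻¹)⁻¹ := by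
        calc b * a * r' * (b * a)⁻¹ = b * (a * r' * a⁻¹) * b⁻¹ := by group
          _ = (b * r' * b⁻¹)⁻¹ := by rw [hainv]; group
      rw [hmemC, hmemC, e]
      rcases hconj b with h | h
      · rw [h]
        exact Or.inr ⟨rfl, hne⟩
      · rw [h, inv_inv]
        exact Or.inl ⟨rfl, hne⟩
  have := Subgroup.card_mul_index C
  rw [hCcard] at this
  rcases hidx with h | h <;> rw [h] at this <;> omega


theorem orderOf_conj' (q z : G) : orderOf (q * z * q⁻¹) = orderOf z := by
  have := MulEquiv.orderOf_eq (MulAut.conj q) z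
  rwa [MulAut.conj_apply] at this

theorem sq_order_four {g : G} (hg : orderOf g = 4) : orderOf (g ^ 2) = 2 := by
  apply orderOf_eq_prime
  · have h4 : g ^ 4 = 1 := by rw [← hg]; exact pow_orderOf_eq_one g
    rw [← pow_mul]; exact h4
  · intro h
    have := orderOf_dvd_of_pow_eq_one h
    rw [hg] at this
    norm_num at this

/-- Case `O_3(G) ≠ 1`. -/
theorem case_three [Finite G] (hG : O4 G) (N : Subgroup G) [hNn : N.Normal]
    (hNdef : N = Cfsg.pCore 3 G) (hNne : N ≠ ⊥) (g4 : G) (hg4 : orderOf g4 = 4) :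
    Cfsg.IsElementaryAbelian 3 N ∧
      ((IsCyclic (G ⧸ N) ∧ N.index = 4) ∨ Nonempty (G ⧸ N ≃* QuaternionGroup 2)) := by
  have hNp : IsPGroup 3 N := by rw [hNdef]; exact Cfsg.Agent.Helper1.pCore_isPGroup 3
  have c32 : Nat.Coprime 3 2 := by norm_num
  have c34 : Nat.Coprime 3 4 := by norm_num
  -- involutions invert N
  have hinv : ∀ u : G, orderOf u = 2 → ∀ n ∈ N, u * n * u⁻¹ = n⁻¹ := by
    intro u hu n hn
    have hu2 : u ^ 2 = 1 := by rw [← hu]; exact pow_orderOf_eq_one u
    have huu : u * u = 1 := by rw [← pow_two]; exact hu2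
    have hui : u⁻¹ = u := inv_eq_of_mul_eq_one_right huu
    have huN : u ∉ N := by
      intro h
      have := eq_one_of_pgroup_pow hNp c32 h hu2
      rw [this, orderOf_one] at hu
      norm_num at hu
    have hww : (u * n) * (u * n) = (u * n * u⁻¹) * n := by
      calc (u * n) * (u * n) = (u * n * u⁻¹) * (u * u) * n := by group
        _ = (u * n * u⁻¹) * n := by rw [huu, mul_one]
    have hwwN : (u * n) * (u * n) ∈ N := by
      rw [hww]; exact N.mul_mem (hNn.conj_mem n hn u) hn
    rcases hG.pow_cases (u * n) with h | h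
    · exfalso
      apply huN
      have h1 : u * n = ((u * n) * (u * n))⁻¹ := by
        apply eq_inv_of_mul_eq_one_left
        rw [← h, pow_succ, pow_two]; group
      have h2 : u * n ∈ N := by rw [h1]; exact N.inv_mem hwwN
      have : u = (u * n) * n⁻¹ := by group
      rw [this]; exact N.mul_mem h2 (N.inv_mem hn)
    · have h1 : ((u * n) * (u * n)) ^ 2 = 1 := by
        rw [← pow_two, ← pow_mul]; exact h
      have h2 := eq_one_of_pgroup_pow hNp c32 hwwN h1
      rw [hww] at h2
      exact eq_inv_of_mul_eq_one_left h2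
  -- an involution
  set u := g4 ^ 2 with hu
  have huo : orderOf u = 2 := sq_order_four hg4
  have comm : ∀ a ∈ N, ∀ b ∈ N, a * b = b * a := by
    intro a ha b hb
    have h1 := hinv u huo a⁻¹ (N.inv_mem ha)
    have h2 := hinv u huo b⁻¹ (N.inv_mem hb)
    have h3 := hinv u huo (b * a)⁻¹ (N.inv_mem (N.mul_mem hb ha))
    rw [inv_inv] at h1 h2 h3
    calc a * b = (u * a⁻¹ * u⁻¹) * (u * b⁻¹ * u⁻¹) := by rw [h1, h2]
      _ = u * (b * a)⁻¹ * u⁻¹ := by group
      _ = b * a := h3
  have hexp : ∀ a ∈ N, a ^ 3 = 1 := by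
    intro a ha
    rcases hG.pow_cases a with h | h
    · exact h
    · rw [eq_one_of_pgroup_pow hNp c34 ha h, one_pow]
  have hEA : Cfsg.IsElementaryAbelian 3 N := by
    refine ⟨?_, hexp⟩
    constructor; constructor
    rintro ⟨x, hx⟩ ⟨y, hy⟩
    exact Subtype.ext (comm x hx y hy)
  refine ⟨hEA, ?_⟩
  -- the centralizer of N lies in N
  have hCN : Subgroup.centralizer (N : Set G) ≤ N := by
    have hCn : (Subgroup.centralizer (N : Set G)).Normal := inferInstance
    have hCp : IsPGroup 3 (Subgroup.centralizer (N : Set G)) := by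
      intro c
      refine ⟨1, ?_⟩
      obtain ⟨n, hn1⟩ := Subgroup.ne_bot_iff_exists_ne_one.1 hNne
      have hcomm : Commute (c : G) (n : G) := (Subgroup.mem_centralizer_iff.1 c.2 n n.2).symm
      apply Subtype.ext
      rw [pow_one, Subgroup.coe_pow, Subgroup.coe_one]
      rcases hG.pow_cases (c : G) with h | h
      · exact h
      · rcases hG.comm_trivial hcomm h (hexp n n.2) with h' | h'
        · rw [h', one_pow]
        · exact absurd (Subtype.ext h') hn1
    exact (Cfsg.Agent.Helper1.le_pCore hCn hCp).trans (le_of_eq hNdef.symm)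
  have hprod : ∀ x y : G, orderOf x = 2 → orderOf y = 2 → x * y ∈ N := by
    intro x y hx hy
    apply hCN
    rw [Subgroup.mem_centralizer_iff]
    intro n hn
    have h1 := hinv y hy n hn
    have h2 := hinv x hx n⁻¹ (N.inv_mem hn)
    rw [inv_inv] at h2
    have h3 : (x * y) * n * (x * y)⁻¹ = n := by
      calc (x * y) * n * (x * y)⁻¹ = x * (y * n * y⁻¹) * x⁻¹ := by group
        _ = n := by rw [h1, h2]
    calc n * (x * y) = ((x * y) * n * (x * y)⁻¹) * (x * y) := by rw [h3]
      _ = x * y * n := by group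
  -- the quotient
  have hQ : O4 (G ⧸ N) := hG.quotient N
  have hlift : ∀ a : G ⧸ N, orderOf a = 2 → ∃ x : G, (x : G ⧸ N) = a ∧ orderOf x = 2 := by
    intro a ha
    obtain ⟨x, rfl⟩ := QuotientGroup.mk_surjective a
    refine ⟨x, rfl, ?_⟩
    have ha2 : (x : G ⧸ N) ^ 2 = 1 := by rw [← ha]; exact pow_orderOf_eq_one _
    have ha1 : (x : G ⧸ N) ≠ 1 := by
      intro h
      rw [h, orderOf_one] at ha
      norm_num at ha
    have hx2N : x ^ 2 ∈ N := by
      rw [← QuotientGroup.eq_one_iff, QuotientGroup.mk_pow]; exact ha2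
    rcases hG.pow_cases x with h | h
    · exfalso
      apply ha1
      have h3 : (x : G ⧸ N) ^ 3 = 1 := by rw [← QuotientGroup.mk_pow, h]; rfl
      calc (x : G ⧸ N) = (x : G ⧸ N) ^ 3 * ((x : G ⧸ N) ^ 2)⁻¹ := by group
        _ = 1 := by rw [h3, ha2]; group
    · have h1 : (x ^ 2) ^ 2 = 1 := by rw [← pow_mul]; exact h
      have h2 := eq_one_of_pgroup_pow hNp c32 hx2N h1
      apply orderOf_eq_prime h2
      rintro rfl
      exact ha1 rfl
  have huniq : ∀ a b : G ⧸ N, orderOf a = 2 → orderOf b = 2 → a = b := by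
    intro a b ha hb
    obtain ⟨x, rfl, hx⟩ := hlift a ha
    obtain ⟨y, rfl, hy⟩ := hlift b hb
    have h1 : ((x * y : G) : G ⧸ N) = 1 := (QuotientGroup.eq_one_iff _).2 (hprod x y hx hy)
    rw [QuotientGroup.mk_mul] at h1
    have h2 : (y : G ⧸ N) * (y : G ⧸ N) = 1 := by
      rw [← pow_two, ← hb]; exact pow_orderOf_eq_one _
    calc (x : G ⧸ N) = (x : G ⧸ N) * ((y : G ⧸ N) * (y : G ⧸ N)) := by rw [h2, mul_one]
      _ = ((x : G ⧸ N) * (y : G ⧸ N)) * (y : G ⧸ N) := by group
      _ = (y : G ⧸ N) := by rw [h1, one_mul]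
  have huN : u ∉ N := by
    intro h
    have hu2 : u ^ 2 = 1 := by rw [← huo]; exact pow_orderOf_eq_one u
    have := eq_one_of_pgroup_pow hNp c32 h hu2
    rw [this, orderOf_one] at huo
    norm_num at huo
  set z : G ⧸ N := (u : G ⧸ N) with hz
  have hz1 : z ≠ 1 := fun h => huN ((QuotientGroup.eq_one_iff _).1 h)
  have hzo : orderOf z = 2 := by
    apply orderOf_eq_prime _ hz1
    rw [hz, ← QuotientGroup.mk_pow, ← huo, pow_orderOf_eq_one]; rfl
  set q4 : G ⧸ N := (g4 : G ⧸ N) with hq4
  have hq4o : orderOf q4 = 4 := by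
    have h1 : ¬ q4 ^ 2 ^ 1 = 1 := by
      rw [pow_one, hq4, ← QuotientGroup.mk_pow]; exact hz1
    have h2 : q4 ^ 2 ^ (1 + 1) = 1 := by
      have : (2 : ℕ) ^ (1 + 1) = 4 := by norm_num
      rw [this, hq4, ← QuotientGroup.mk_pow, ← hg4, pow_orderOf_eq_one]; rfl
    have := orderOf_eq_prime_pow h1 h2
    simpa using this
  have hzc : ∀ q : G ⧸ N, Commute z q := by
    intro q
    have h1 : orderOf (q * z * q⁻¹) = 2 := by rw [orderOf_conj', hzo]
    have h2 := huniq _ _ h1 hzo
    unfold Commute SemiconjBy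
    calc z * q = (q * z * q⁻¹) * q := by rw [h2]
      _ = q * z := by group
  have hno3 : ∀ b : G ⧸ N, orderOf b ≠ 3 := fun b hb => hQ.no6 (hzc b) hzo hb
  have hpow4 : ∀ q : G ⧸ N, q ^ 4 = 1 := by
    intro q
    rcases hQ q with h | h | h | h
    · rw [orderOf_eq_one_iff.1 h, one_pow]
    · exact orderOf_dvd_iff_pow_eq_one.1 (by rw [h]; norm_num)
    · exact absurd h (hno3 q)
    · exact orderOf_dvd_iff_pow_eq_one.1 (by rw [h])
  have hQp : IsPGroup 2 (G ⧸ N) := fun q => ⟨2, by norm_num; exact hpow4 q⟩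
  have hsub : ∀ H K : Subgroup (G ⧸ N), Nat.card H = 2 → Nat.card K = 2 → H = K := by
    have key : ∀ H : Subgroup (G ⧸ N), Nat.card H = 2 → H = Subgroup.zpowers z := by
      intro H hH
      have hne : H ≠ ⊥ := by
        intro h
        rw [h, Subgroup.card_bot] at hH
        norm_num at hH
      obtain ⟨a, ha1⟩ := Subgroup.ne_bot_iff_exists_ne_one.1 hne
      have hao : orderOf (a : G ⧸ N) = 2 := by
        rw [Subgroup.orderOf_coe]
        have h1 : orderOf a ∣ 2 := by rw [← hH]; exact orderOf_dvd_natCard a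
        rcases (Nat.dvd_prime Nat.prime_two).1 h1 with h | h
        · exact absurd (orderOf_eq_one_iff.1 h) ha1
        · exact h
      have haz : (a : G ⧸ N) = z := huniq _ _ hao hzo
      symm
      apply Subgroup.eq_of_le_of_card_ge
      · rw [Subgroup.zpowers_le, ← haz]; exact a.2
      · rw [Nat.card_zpowers, hzo, hH]
    intro H K hH hK
    rw [key H hH, key K hK]
  have hcyc : IsCyclic (G ⧸ N) → N.index = 4 := by
    intro hc
    obtain ⟨g, hg⟩ := hc.exists_generator
    have h1 : orderOf g = Nat.card (G ⧸ N) := orderOf_eq_card_of_forall_mem_zpowers hg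
    have h2 : 4 ∣ Nat.card (G ⧸ N) := by rw [← hq4o]; exact orderOf_dvd_natCard q4
    rw [Subgroup.index_eq_card, ← h1]
    rw [← h1] at h2
    rcases hQ g with h | h | h | h <;> rw [h] at h2 ⊢ <;> omega
  rcases Cfsg.Agent.S0016.result 2 hQp hsub with hc | ⟨-, n, ⟨e⟩⟩
  · exact Or.inl ⟨hc, hcyc hc⟩
  · have h1 : orderOf (e.symm (QuaternionGroup.a 1)) = 2 * 2 ^ n := by
      rw [MulEquiv.orderOf_eq, QuaternionGroup.orderOf_a_one]
    have hn : n ≤ 1 := by
      by_contra hcon
      push Not at hcon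
      have : 2 ^ 2 ≤ 2 ^ n := Nat.pow_le_pow_right (by norm_num) hcon
      rcases hQ (e.symm (QuaternionGroup.a 1)) with h | h | h | h <;> rw [h1] at h <;> omega
    interval_cases n
    · left
      have e' : (G ⧸ N) ≃* QuaternionGroup 1 := e
      have hc : IsCyclic (G ⧸ N) := by
        have := QuaternionGroup.quaternionGroup_one_isCyclic
        exact isCyclic_of_surjective e'.symm e'.symm.surjective
      exact ⟨hc, hcyc hc⟩
    · right
      exact ⟨e⟩

end Cfsg.Agent.Helper3.Ord4
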