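import Mathlib
import Cfsg.Agent.Helper3.Ord4A
import Cfsg.Agent.Helper3.Ord4B
import Cfsg.Agent.Helper1.FrobComplSylow

set_option autoImplicit false

namespace Cfsg.Agent.Helper3.Ord4

open scoped commutatorElement

universe u

variable {G : Type u} [Group G]

theorem perm3_invert : ∀ a b : Equiv.Perm (Fin 3), a ^ 2 = 1 → a ≠ 1 → b ^ 3 = 1 → b ≠ 1 →
    a * b * a⁻¹ = b⁻¹ := by decide

/-- `(x y)^3` expanded. -/
theorem cube_expand (x y : G) :
    x * (y * x * y⁻¹) * (y * (y * x * y⁻¹) * y⁻¹) = (x * y) ^ 3 * (y ^ 3)⁻¹ := by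
  rw [pow_succ, pow_two, pow_succ, pow_two]; group

theorem sq_expand (x w : G) (hw : w * w = 1) : (x * (w * x * w⁻¹)) ^ 2 = (x * w) ^ 4 := by
  have h1 : x * (w * x * w⁻¹) = (x * w) * (x * w) := by
    calc x * (w * x * w⁻¹) = x * w * x * (w * w) * w⁻¹ := by rw [hw, mul_one]; group
      _ = (x * w) * (x * w) := by group
  rw [h1, ← pow_two, ← pow_mul]


/-- Case `O_2(G) ≠ 1`. -/
theorem case_two [Finite G] (hG : O4 G) [Group.IsSolvable G] (N : Subgroup G) [hNn : N.Normal]
    (hNdef : N = Cfsg.pCore 2 G) (hNne : N ≠ ⊥) (g3 g4 : G) (hg3 : orderOf g3 = 3)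
    (hg4 : orderOf g4 = 4) :
    (IsPGroup 2 ↥N ∧ Monoid.exponent ↥N = 4 ∧ Group.nilpotencyClass ↥N ≤ 2 ∧ N.index = 3) ∨
      (Cfsg.IsElementaryAbelian 2 N ∧ Nonempty (G ⧸ N ≃* Equiv.Perm (Fin 3))) := by
  have hNp : IsPGroup 2 N := by rw [hNdef]; exact Cfsg.Agent.Helper1.pCore_isPGroup 2
  have c23 : Nat.Coprime 2 3 := by norm_num
  have c34 : Nat.Coprime 3 4 := by norm_num
  have h3N : ∀ g : G, g ^ 3 = 1 → g ∈ N → g = 1 := fun g h3 hg =>
    eq_one_of_pgroup_pow hNp c23 hg h3
  have hN4 : ∀ n ∈ N, n ^ 4 = 1 := by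
    intro n hn
    rcases hG.pow_cases n with h | h
    · rw [h3N n h hn, one_pow]
    · exact h
  have hg3c : g3 ^ 3 = 1 := by rw [← hg3]; exact pow_orderOf_eq_one g3
  have hg31 : g3 ≠ 1 := by
    intro h; rw [h, orderOf_one] at hg3; norm_num at hg3
  have hg3N : g3 ∉ N := fun h => hg31 (h3N g3 hg3c h)
  have hfpf : ∀ t : G, t ^ 3 = 1 → t ≠ 1 → ∀ n ∈ N, Commute n t → n = 1 := by
    intro t ht ht1 n hn hc
    rcases hG.comm_trivial hc (hN4 n hn) ht with h | h
    · exact h
    · exact absurd h ht1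
  -- (n t)^3 = 1
  have hcube : ∀ t : G, t ^ 3 = 1 → t ≠ 1 → ∀ n ∈ N, (n * t) ^ 3 = 1 := by
    intro t ht ht1 n hn
    rcases hG.pow_cases (n * t) with h | h
    · exact h
    · exfalso
      have h1 : ((n * t : G) : G ⧸ N) = (t : G ⧸ N) := by
        rw [QuotientGroup.mk_mul, (QuotientGroup.eq_one_iff n).2 hn, one_mul]
      have h2 : (t : G ⧸ N) ^ 4 = 1 := by
        rw [← h1, ← QuotientGroup.mk_pow, h]; rfl
      have h3 : (t : G ⧸ N) ^ 3 = 1 := by
        rw [← QuotientGroup.mk_pow, ht]; rfl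
      have h4 : (t : G ⧸ N) = 1 := by
        calc (t : G ⧸ N) = (t : G ⧸ N) ^ 4 * ((t : G ⧸ N) ^ 3)⁻¹ := by group
          _ = 1 := by rw [h2, h3]; group
      exact ht1 (h3N t ht ((QuotientGroup.eq_one_iff t).1 h4))
  -- Sylow 3-subgroups have order 3
  have h9 : ¬ 9 ∣ Nat.card G := by
    intro hdvd
    have : Fact (Nat.Prime 3) := ⟨Nat.prime_three⟩
    obtain ⟨T⟩ : Nonempty (Sylow 3 G) := inferInstance
    have hTcard : 9 ∣ Nat.card T := T.pow_dvd_card_of_pow_dvd_card (n := 2) (by norm_num; exact hdvd)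
    have hT3 : ∀ h ∈ (T : Subgroup G), h ^ 3 = 1 := by
      intro h hh
      rcases hG.pow_cases h with h' | h'
      · exact h'
      · rw [eq_one_of_pgroup_pow T.2 c34 hh h', one_pow]
    have hfpf' : ∀ h ∈ (T : Subgroup G), h ≠ 1 → N ⊓ Subgroup.centralizer {h} = ⊥ := by
      intro h hh h1
      rw [eq_bot_iff]
      intro x hx
      rw [Subgroup.mem_bot]
      have hxc : x * h = h * x := Subgroup.mem_centralizer_singleton_iff.1 hx.2
      exact hfpf h (hT3 h hh) h1 x hx.1 hxc
    have : Nontrivial (T : Subgroup G) := by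
      rw [← Finite.one_lt_card_iff_nontrivial]
      have := Nat.le_of_dvd Nat.card_pos hTcard
      omega
    have : Nontrivial (Subgroup.center (T : Subgroup G)) := T.2.center_nontrivial
    obtain ⟨s, hs1⟩ := exists_ne (1 : Subgroup.center (T : Subgroup G))
    have hsT : ((s : (T : Subgroup G)) : G) ∈ (T : Subgroup G) := (s : (T : Subgroup G)).2
    have hs1' : ((s : (T : Subgroup G)) : G) ≠ 1 := by
      intro h
      apply hs1
      apply Subtype.ext
      apply Subtype.ext
      exact h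
    have hle : (T : Subgroup G) ≤ Subgroup.zpowers ((s : (T : Subgroup G)) : G) := by
      intro t ht
      by_contra hnot
      refine Cfsg.Agent.Helper1.frobenius_complement_no_rank_two N (T : Subgroup G) hNne hfpf'
        (p := 3) ((s : (T : Subgroup G)) : G) t hsT ht ?_ (hT3 _ hsT) (hT3 t ht) hs1' hnot
      have := Subgroup.mem_center_iff.1 s.2 ⟨t, ht⟩
      have := congrArg Subtype.val this
      simpa using this.symm
    have h1 : Nat.card (T : Subgroup G) ≤ Nat.card (Subgroup.zpowers ((s : (T : Subgroup G)) : G)) :=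
      Subgroup.card_le_of_le hle
    rw [Nat.card_zpowers] at h1
    have h2 : orderOf ((s : (T : Subgroup G)) : G) ∣ 3 := orderOf_dvd_of_pow_eq_one (hT3 _ hsT)
    have h3 := Nat.le_of_dvd (by norm_num) h2
    have h4 := Nat.le_of_dvd Nat.card_pos hTcard
    omega
  -- the quotient
  have hQ : O4 (G ⧸ N) := hG.quotient N
  have : Nontrivial (G ⧸ N) := by
    refine ⟨⟨(g3 : G ⧸ N), 1, ?_⟩⟩
    intro h
    exact hg3N ((QuotientGroup.eq_one_iff g3).1 h)
  have hQ2 : ∀ R : Subgroup (G ⧸ N), R.Normal → IsPGroup 2 R → R = ⊥ := by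
    intro R hRn hRp
    have h1 : (R.comap (QuotientGroup.mk' N)).Normal := hRn.comap _
    have h2 : IsPGroup 2 (R.comap (QuotientGroup.mk' N)) := by
      apply hRp.comap_of_ker_isPGroup
      rw [QuotientGroup.ker_mk']
      exact hNp
    have h3 : R.comap (QuotientGroup.mk' N) ≤ N := by
      exact (Cfsg.Agent.Helper1.le_pCore h1 h2).trans (le_of_eq hNdef.symm)
    rw [eq_bot_iff]
    intro x hx
    obtain ⟨y, rfl⟩ := QuotientGroup.mk_surjective x
    rw [Subgroup.mem_bot]
    exact (QuotientGroup.eq_one_iff y).2 (h3 hx)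
  have hQ9 : ¬ 9 ∣ Nat.card (G ⧸ N) := fun h =>
    h9 (dvd_trans h (Subgroup.card_quotient_dvd_card N))
  rcases card_three_or_six (G ⧸ N) hQ hQ2 hQ9 with hc3 | hc6
  · -- index 3
    left
    have hidx : N.index = 3 := by rw [Subgroup.index_eq_card]; exact hc3
    have out3 : ∀ x : G, x ∉ N → x ^ 3 = 1 := by
      intro x hx
      rcases hG.pow_cases x with h | h
      · exact h
      · exfalso
        apply hx
        have h2 : (x : G ⧸ N) ^ 4 = 1 := by rw [← QuotientGroup.mk_pow, h]; rfl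
        have h3 : (x : G ⧸ N) ^ 3 = 1 := by rw [← hc3]; exact pow_card_eq_one'
        have h4 : (x : G ⧸ N) = 1 := by
          calc (x : G ⧸ N) = (x : G ⧸ N) ^ 4 * ((x : G ⧸ N) ^ 3)⁻¹ := by group
            _ = 1 := by rw [h2, h3]; group
        exact (QuotientGroup.eq_one_iff x).1 h4
    have hg4N : g4 ∈ N := by
      by_contra h
      have := orderOf_dvd_of_pow_eq_one (out3 g4 h)
      rw [hg4] at this
      norm_num at this
    refine ⟨hNp, ?_, ?_, hidx⟩
    · apply Nat.dvd_antisymm
      · apply Monoid.exponent_dvd_of_forall_pow_eq_one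
        intro n
        apply Subtype.ext
        rw [Subgroup.coe_pow, Subgroup.coe_one]
        exact hN4 n n.2
      · have h1 : orderOf (⟨g4, hg4N⟩ : N) = 4 := by
          rw [← Subgroup.orderOf_coe]; exact hg4
        rw [← h1]
        exact Monoid.order_dvd_exponent _
    · have key : ∀ x y z : N, ⁅⁅x, y⁆, z⁆ = 1 := by
        apply class_two_of_twisted N hNp (MulAut.conjNormal g3 : N ≃* N)
        intro g x
        apply Subtype.ext
        simp only [Subgroup.coe_mul, MulAut.conjNormal_apply, Subgroup.coe_inv, Subgroup.coe_one]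
        have hy : (g : G) * g3 ∉ N := by
          intro h
          apply hg3N
          have : g3 = (g : G)⁻¹ * ((g : G) * g3) := by group
          rw [this]; exact N.mul_mem (N.inv_mem g.2) h
        have hxy : (x : G) * ((g : G) * g3) ∉ N := by
          intro h
          apply hy
          have : (g : G) * g3 = (x : G)⁻¹ * ((x : G) * ((g : G) * g3)) := by group
          rw [this]; exact N.mul_mem (N.inv_mem x.2) h
        have e := cube_expand (x : G) ((g : G) * g3)
        rw [out3 _ hy, out3 _ hxy, inv_one, mul_one] at e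
        rw [← e]; group
      have : Group.IsNilpotent N := hNp.isNilpotent
      rw [← Subgroup.upperCentralSeries_eq_top_iff_nilpotencyClass_le, eq_top_iff]
      intro x _
      rw [Subgroup.mem_upperCentralSeries_succ_iff]
      intro y
      rw [Subgroup.upperCentralSeries_one, Subgroup.mem_center_iff]
      intro z
      have := key x y z
      rw [commutatorElement_eq_one_iff_commute] at this
      exact this.eq.symm
  · -- index 6
    right
    obtain ⟨e⟩ := s3_of_card_six hQ hc6
    refine ⟨?_, ⟨e⟩⟩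
    set t := g3 with ht
    -- an involution of the quotient
    obtain ⟨ub, hub⟩ := exists_prime_orderOf_dvd_card' (G := G ⧸ N) 2 (by rw [hc6]; norm_num)
    obtain ⟨u1, rfl⟩ := QuotientGroup.mk_surjective ub
    have hub2 : (u1 : G ⧸ N) ^ 2 = 1 := by rw [← hub]; exact pow_orderOf_eq_one _
    have hub1 : (u1 : G ⧸ N) ≠ 1 := by
      intro h; rw [h, orderOf_one] at hub; norm_num at hub
    have htb3 : (t : G ⧸ N) ^ 3 = 1 := by rw [← QuotientGroup.mk_pow, hg3c]; rfl
    have htb1 : (t : G ⧸ N) ≠ 1 := fun h => hg3N ((QuotientGroup.eq_one_iff t).1 h)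
    have hinvb : (u1 : G ⧸ N) * (t : G ⧸ N) * (u1 : G ⧸ N)⁻¹ = (t : G ⧸ N)⁻¹ := by
      apply e.injective
      rw [map_mul, map_mul, map_inv, map_inv]
      apply perm3_invert
      · rw [← map_pow, hub2, map_one]
      · intro h; exact hub1 (e.injective (by rw [h, map_one]))
      · rw [← map_pow, htb3, map_one]
      · intro h; exact htb1 (e.injective (by rw [h, map_one]))
    have hn1 : t * (u1 * t * u1⁻¹) ∈ N := by
      rw [← QuotientGroup.eq_one_iff]
      simp only [QuotientGroup.mk_mul, QuotientGroup.mk_inv]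
      rw [hinvb, mul_inv_cancel]
    -- the map n ↦ t n t⁻¹ n⁻¹ on N
    let f : N → N := fun n => ⟨t * n * t⁻¹ * n⁻¹, N.mul_mem (hNn.conj_mem n n.2 t) (N.inv_mem n.2)⟩
    have hfinj : Function.Injective f := by
      intro a b hab
      have h1 : t * (a : G) * t⁻¹ * (a : G)⁻¹ = t * (b : G) * t⁻¹ * (b : G)⁻¹ :=
        congrArg Subtype.val hab
      have h2 : Commute ((b : G)⁻¹ * (a : G)) t := by
        unfold Commute SemiconjBy
        have h3 : (a : G) * t⁻¹ * (a : G)⁻¹ = (b : G) * t⁻¹ * (b : G)⁻¹ := by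
          calc (a : G) * t⁻¹ * (a : G)⁻¹ = t⁻¹ * (t * (a : G) * t⁻¹ * (a : G)⁻¹) := by group
            _ = t⁻¹ * (t * (b : G) * t⁻¹ * (b : G)⁻¹) := by rw [h1]
            _ = (b : G) * t⁻¹ * (b : G)⁻¹ := by group
        calc (b : G)⁻¹ * (a : G) * t
            = (b : G)⁻¹ * ((a : G) * t⁻¹ * (a : G)⁻¹)⁻¹ * (a : G) := by group
          _ = (b : G)⁻¹ * ((b : G) * t⁻¹ * (b : G)⁻¹)⁻¹ * (a : G) := by rw [h3]
          _ = t * ((b : G)⁻¹ * (a : G)) := by group
      have h4 := hfpf t hg3c hg31 _ (N.mul_mem (N.inv_mem b.2) a.2) h2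
      apply Subtype.ext
      calc (a : G) = (b : G) * ((b : G)⁻¹ * (a : G)) := by group
        _ = (b : G) := by rw [h4, mul_one]
    have hfsurj : Function.Surjective f := Finite.injective_iff_surjective.1 hfinj
    obtain ⟨n, hn⟩ := hfsurj ⟨t * (u1 * t * u1⁻¹), hn1⟩
    have hn' : t * (n : G) * t⁻¹ * (n : G)⁻¹ = t * (u1 * t * u1⁻¹) := congrArg Subtype.val hn
    set u := (n : G)⁻¹ * u1 with hu
    have hut : u * t * u⁻¹ = t⁻¹ := by
      have h1 : u1 * t * u1⁻¹ = (n : G) * t⁻¹ * (n : G)⁻¹ := by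
        calc u1 * t * u1⁻¹ = t⁻¹ * (t * (u1 * t * u1⁻¹)) := by group
          _ = t⁻¹ * (t * (n : G) * t⁻¹ * (n : G)⁻¹) := by rw [hn']
          _ = (n : G) * t⁻¹ * (n : G)⁻¹ := by group
      calc u * t * u⁻¹ = (n : G)⁻¹ * (u1 * t * u1⁻¹) * (n : G) := by rw [hu]; group
        _ = t⁻¹ := by rw [h1]; group
    have huu : u * u = 1 := by
      have h1 : u * u ∈ N := by
        rw [← QuotientGroup.eq_one_iff]
        have h2 : ((u : G) : G ⧸ N) = (u1 : G ⧸ N) := by
          rw [hu, QuotientGroup.mk_mul, QuotientGroup.mk_inv,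
            (QuotientGroup.eq_one_iff (n : G)).2 n.2, inv_one, one_mul]
        rw [QuotientGroup.mk_mul, h2, ← pow_two, hub2]
      apply hfpf t hg3c hg31 _ h1
      unfold Commute SemiconjBy
      have h2 : u * t = t⁻¹ * u := by
        calc u * t = (u * t * u⁻¹) * u := by group
          _ = t⁻¹ * u := by rw [hut]
      have h3 : u * t⁻¹ = t * u := by
        calc u * t⁻¹ = (u * t * u⁻¹)⁻¹ * u := by group
          _ = t * u := by rw [hut, inv_inv]
      calc u * u * t = u * (u * t) := by group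
        _ = u * (t⁻¹ * u) := by rw [h2]
        _ = (u * t⁻¹) * u := by group
        _ = t * (u * u) := by rw [h3]; group
    -- elements inverting t
    have key4 : ∀ w : G, w * w = 1 → w * t * w⁻¹ = t⁻¹ → ∀ x ∈ N, (x * (w * x * w⁻¹)) ^ 2 = 1 := by
      intro w hww hwt x hx
      rw [sq_expand x w hww]
      rcases hG.pow_cases (x * w) with h | h
      · exfalso
        have h1 : ((x * w : G) : G ⧸ N) = (w : G ⧸ N) := by
          rw [QuotientGroup.mk_mul, (QuotientGroup.eq_one_iff x).2 hx, one_mul]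
        have h2 : (w : G ⧸ N) ^ 3 = 1 := by
          rw [← h1, ← QuotientGroup.mk_pow, h]; rfl
        have h3 : (w : G ⧸ N) ^ 2 = 1 := by
          rw [pow_two, ← QuotientGroup.mk_mul, hww]; rfl
        have h4 : (w : G ⧸ N) = 1 := by
          calc (w : G ⧸ N) = (w : G ⧸ N) ^ 3 * ((w : G ⧸ N) ^ 2)⁻¹ := by group
            _ = 1 := by rw [h2, h3]; group
        have hwN : w ∈ N := (QuotientGroup.eq_one_iff w).1 h4
        apply hg3N
        have h5 : w * (t * w⁻¹ * t⁻¹) ∈ N :=
          N.mul_mem hwN (hNn.conj_mem _ (N.inv_mem hwN) t)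
        have h6 : w * (t * w⁻¹ * t⁻¹) = t⁻¹ * t⁻¹ := by
          calc w * (t * w⁻¹ * t⁻¹) = (w * t * w⁻¹) * t⁻¹ := by group
            _ = t⁻¹ * t⁻¹ := by rw [hwt]
        have h7 : t⁻¹ * t⁻¹ = t := by
          have : t * t * t = 1 := by rw [← hg3c, pow_succ, pow_two]
          calc t⁻¹ * t⁻¹ = t⁻¹ * t⁻¹ * (t * t * t) := by rw [this, mul_one]
            _ = t := by group
        rw [h6, h7] at h5
        exact h5
      · exact h
    have ht3' : t * t * t = 1 := by rw [← hg3c, pow_succ, pow_two]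
    have hw1 : (t * u) * (t * u) = 1 ∧ (t * u) * t * (t * u)⁻¹ = t⁻¹ := by
      constructor
      · calc (t * u) * (t * u) = t * (u * t * u⁻¹) * (u * u) := by group
          _ = 1 := by rw [hut, huu]; group
      · calc (t * u) * t * (t * u)⁻¹ = t * (u * t * u⁻¹) * t⁻¹ := by group
          _ = t⁻¹ := by rw [hut]; group
    have hw2 : (t * t * u) * (t * t * u) = 1 ∧ (t * t * u) * t * (t * t * u)⁻¹ = t⁻¹ := by
      constructor
      · calc (t * t * u) * (t * t * u) = t * t * (u * t * u⁻¹) * (u * t * u⁻¹) * (u * u) := by group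
          _ = 1 := by rw [hut, huu]; group
      · calc (t * t * u) * t * (t * t * u)⁻¹ = t * t * (u * t * u⁻¹) * t⁻¹ * t⁻¹ := by group
          _ = t⁻¹ := by rw [hut]; group
    have hexp : ∀ x : N, x ^ 2 = 1 := by
      apply exp_two_of_s3 N hNp (MulAut.conjNormal t : N ≃* N) (MulAut.conjNormal u : N ≃* N)
      · intro x
        apply Subtype.ext
        simp only [Subgroup.coe_mul, MulAut.conjNormal_apply, Subgroup.coe_one]
        have e := cube_expand (x : G) t
        rw [hg3c, hcube t hg3c hg31 x x.2, inv_one, mul_one] at e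
        exact e
      · intro x
        apply Subtype.ext
        simp only [Subgroup.coe_mul, MulAut.conjNormal_apply, Subgroup.coe_one, Subgroup.coe_pow]
        exact key4 u huu hut x x.2
      · intro x
        apply Subtype.ext
        simp only [Subgroup.coe_mul, MulAut.conjNormal_apply, Subgroup.coe_one, Subgroup.coe_pow]
        have := key4 (t * u) hw1.1 hw1.2 x x.2
        rw [← this]; group
      · intro x
        apply Subtype.ext
        simp only [Subgroup.coe_mul, MulAut.conjNormal_apply, Subgroup.coe_one, Subgroup.coe_pow]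
        have := key4 (t * t * u) hw2.1 hw2.2 x x.2
        rw [← this]; group
    refine ⟨?_, ?_⟩
    · constructor; constructor
      intro a b
      have ha := hexp a
      have hb := hexp b
      have hab := hexp (a * b)
      rw [pow_two] at ha hb hab
      calc a * b = a * (a * b * (a * b)) * b := by rw [hab, mul_one]
        _ = (a * a) * (b * a) * (b * b) := by group
        _ = b * a := by rw [ha, hb, one_mul, mul_one]
    · intro a ha
      have := hexp ⟨a, ha⟩
      have := congrArg Subtype.val this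
      simpa using this

end Cfsg.Agent.Helper3.Ord4
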