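import Mathlib
import Cfsg.Agent.Helper1.CoreFree
import Cfsg.Agent.Helper4.SolvablePrimitive

/-! Helper library (helper3): finite solvable groups in which elements of the same order are
conjugate (part A: passage to the quotient by a minimal normal subgroup, counting bounds). -/

set_option autoImplicit false

namespace Cfsg.Agent.Helper3.OrderConj

universe u

variable {G : Type u} [Group G]

/-- Elements of the same order are conjugate. -/
def OC (G : Type u) [Group G] : Prop := ∀ x y : G, orderOf x = orderOf y → IsConj x y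

section Quot

variable (N : Subgroup G) [N.Normal] {q : ℕ}

theorem orderOf_dvd_mul (hexp : ∀ n ∈ N, n ^ q = 1) (x : G) :
    orderOf x ∣ orderOf (QuotientGroup.mk' N x) * q := by
  apply orderOf_dvd_of_pow_eq_one
  rw [pow_mul]
  apply hexp
  rw [← QuotientGroup.eq_one_iff, QuotientGroup.mk_pow]
  exact pow_orderOf_eq_one _

theorem orderOf_eq_mul_of_dvd [Finite G] (hexp : ∀ n ∈ N, n ^ q = 1)
    (hall : ∀ x : G, orderOf x = q → x ∈ N) (x : G) (h : q ∣ orderOf x) :
    orderOf x = orderOf (QuotientGroup.mk' N x) * q := by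
  apply Nat.dvd_antisymm (orderOf_dvd_mul N hexp x)
  obtain ⟨k, hk⟩ := h
  have hpos : 0 < orderOf x := orderOf_pos x
  have hkpos : 0 < k := by
    rcases Nat.eq_zero_or_pos k with h0 | h0
    · rw [h0, mul_zero] at hk; omega
    · exact h0
  have hqpos : 0 < q := by
    rcases Nat.eq_zero_or_pos q with h0 | h0
    · rw [h0, zero_mul] at hk; omega
    · exact h0
  have h1 : orderOf (x ^ k) = q := by
    rw [orderOf_pow_of_dvd hkpos.ne' ⟨q, by rw [hk, mul_comm]⟩, hk, Nat.mul_div_cancel _ hkpos]
  have h2 : x ^ k ∈ N := hall _ h1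
  have h3 : (QuotientGroup.mk' N x) ^ k = 1 := by
    rw [← map_pow]
    exact (QuotientGroup.eq_one_iff _).2 h2
  have h4 : orderOf (QuotientGroup.mk' N x) ∣ k := orderOf_dvd_of_pow_eq_one h3
  rw [hk, mul_comm q k]
  exact Nat.mul_dvd_mul_right h4 q

/-- The quotient by `N` (of exponent `q`, containing all elements of order `q`) is again OC. -/
theorem oc_quotient [Finite G] (hq : q.Prime) (hG : OC G) (hexp : ∀ n ∈ N, n ^ q = 1)
    (hall : ∀ x : G, orderOf x = q → x ∈ N) : OC (G ⧸ N) := by
  intro xb yb hxy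
  obtain ⟨x, rfl⟩ := QuotientGroup.mk'_surjective N xb
  obtain ⟨y, rfl⟩ := QuotientGroup.mk'_surjective N yb
  obtain ⟨m, hm⟩ : ∃ m, m = orderOf (QuotientGroup.mk' N x) := ⟨_, rfl⟩
  rw [← hm] at hxy
  by_cases hqm : q ∣ m
  · have h1 := orderOf_eq_mul_of_dvd N hexp hall x ((hm ▸ hqm).trans (orderOf_map_dvd _ x))
    have h2 := orderOf_eq_mul_of_dvd N hexp hall y ((hxy ▸ hqm).trans (orderOf_map_dvd _ y))
    have h3 : orderOf x = orderOf y := by rw [h1, h2, ← hm, ← hxy]
    exact (QuotientGroup.mk' N).map_isConj (hG x y h3)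
  · -- x^q and y^q both have order m
    have hcop : Nat.Coprime q m := (Nat.Prime.coprime_iff_not_dvd hq).2 hqm
    have key : ∀ z : G, orderOf (QuotientGroup.mk' N z) = m → orderOf (z ^ q) = m := by
      intro z hz
      have hzpos : 0 < orderOf z := orderOf_pos z
      by_cases hqz : q ∣ orderOf z
      · have h1 := orderOf_eq_mul_of_dvd N hexp hall z hqz
        rw [orderOf_pow_of_dvd hq.pos.ne' hqz, h1, hz, Nat.mul_div_cancel _ hq.pos]
      · have h1 : orderOf z = m := by
          have h2 := orderOf_dvd_mul N hexp z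
          rw [hz] at h2
          have hcz : Nat.Coprime (orderOf z) q :=
            ((Nat.Prime.coprime_iff_not_dvd hq).2 hqz).symm
          have h3 : orderOf z ∣ m := hcz.dvd_of_dvd_mul_right h2
          have h4 : m ∣ orderOf z := hz ▸ orderOf_map_dvd _ z
          exact Nat.dvd_antisymm h3 h4
        rw [Nat.Coprime.orderOf_pow]
        · exact h1
        · rw [h1]; exact hcop.symm
    have h1 : IsConj (x ^ q) (y ^ q) := hG _ _ (by rw [key x hm.symm, key y hxy.symm])
    have h2 : IsConj ((QuotientGroup.mk' N x) ^ q) ((QuotientGroup.mk' N y) ^ q) := by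
      have := (QuotientGroup.mk' N).map_isConj h1
      rwa [map_pow, map_pow] at this
    by_cases hm1 : m = 1
    · have e1 : QuotientGroup.mk' N x = 1 := orderOf_eq_one_iff.1 (hm ▸ hm1)
      have e2 : QuotientGroup.mk' N y = 1 := orderOf_eq_one_iff.1 (hxy ▸ hm1)
      rw [e1, e2]
    · have hmpos : 0 < m := hm ▸ orderOf_pos _
      have hm2 : 1 < m := by omega
      obtain ⟨a, -, ha⟩ := Nat.exists_mul_mod_eq_one_of_coprime hcop hm2
      have h3 := h2.pow a
      have e : ∀ z : G, orderOf (QuotientGroup.mk' N z) = m →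
          ((QuotientGroup.mk' N z) ^ q) ^ a = QuotientGroup.mk' N z := by
        intro z hz
        rw [← pow_mul, ← pow_mod_orderOf, hz, ha, pow_one]
      rw [e x hm.symm, e y hxy.symm] at h3
      exact h3

end Quot

end Cfsg.Agent.Helper3.OrderConj
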