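import Mathlib
import Cfsg.Agent.Helper3.OrderConjA

/-! Helper library (helper3): finite solvable groups in which elements of the same order are
conjugate (part B: class sizes and counting bounds). -/

set_option autoImplicit false

namespace Cfsg.Agent.Helper3.OrderConj

universe u

variable {G : Type u} [Group G]

theorem orderOf_eq_of_isConj {x y : G} (h : IsConj x y) : orderOf x = orderOf y := by
  obtain ⟨c, hc⟩ := h
  exact SemiconjBy.orderOf_eq (↑c) hc

theorem index_centralizer_eq [Finite G] (hG : OC G) (x0 : G) :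
    (Subgroup.centralizer {x0}).index = {x : G | orderOf x = orderOf x0}.ncard := by
  have e := Subgroup.index_comap_of_surjective (G := ConjAct G) (G' := G)
    (MulAction.stabilizer (ConjAct G) x0) (f := ConjAct.toConjAct.toMonoidHom)
    ConjAct.toConjAct.surjective
  rw [Subgroup.centralizer_eq_comap_stabilizer]
  refine e.trans ?_
  rw [MulAction.index_stabilizer]
  congr 1
  ext x
  rw [ConjAct.mem_orbit_conjAct, Set.mem_ofPred_eq]
  exact ⟨orderOf_eq_of_isConj, hG x x0⟩

theorem exists_orderOf_eq_of_ne_bot {N : Subgroup G} {q : ℕ} (hq : q.Prime)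
    (hexp : ∀ n ∈ N, n ^ q = 1) (hN : N ≠ ⊥) : ∃ n1 ∈ N, orderOf n1 = q := by
  obtain ⟨n1, hne⟩ := (Subgroup.ne_bot_iff_exists_ne_one).1 hN
  refine ⟨n1, n1.2, ?_⟩
  have h1 : orderOf (n1 : G) ∣ q := orderOf_dvd_of_pow_eq_one (hexp _ n1.2)
  rcases (Nat.dvd_prime hq).1 h1 with h | h
  · exfalso
    apply hne
    exact Subtype.ext (orderOf_eq_one_iff.1 h)
  · exact h

theorem mem_of_orderOf_eq (hG : OC G) (N : Subgroup G) [hN : N.Normal] {q : ℕ} {n1 : G}
    (hn1 : n1 ∈ N) (hn1q : orderOf n1 = q) : ∀ x : G, orderOf x = q → x ∈ N := by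
  intro x hx
  obtain ⟨c, hc⟩ := isConj_iff.1 (hG n1 x (by rw [hn1q, hx]))
  rw [← hc]
  exact hN.conj_mem _ hn1 c

theorem card_sub_one_dvd_index [Finite G] (hG : OC G) (N : Subgroup G) [hNn : N.Normal] {q : ℕ}
    (hq : q.Prime) (hexp : ∀ n ∈ N, n ^ q = 1) (hcomm : ∀ a ∈ N, ∀ b ∈ N, a * b = b * a)
    (hN : N ≠ ⊥) : (Nat.card N - 1) ∣ N.index := by
  obtain ⟨n1, hn1, hn1q⟩ := exists_orderOf_eq_of_ne_bot hq hexp hN
  have hall := mem_of_orderOf_eq hG N hn1 hn1q
  have h1 := index_centralizer_eq hG n1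
  have hS : {x : G | orderOf x = orderOf n1} = (N : Set G) \ {1} := by
    ext x
    rw [Set.mem_ofPred_eq, Set.mem_sdiff, Set.mem_singleton_iff, hn1q]
    constructor
    · intro hx
      refine ⟨hall x hx, ?_⟩
      rintro rfl
      rw [orderOf_one] at hx
      exact hq.one_lt.ne hx
    · rintro ⟨hxN, hx1⟩
      have h2 : orderOf x ∣ q := orderOf_dvd_of_pow_eq_one (hexp _ hxN)
      rcases (Nat.dvd_prime hq).1 h2 with h | h
      · exact absurd (orderOf_eq_one_iff.1 h) hx1
      · exact h
  rw [hS, Set.ncard_sdiff_singleton_of_mem (show (1 : G) ∈ (N : Set G) from N.one_mem)] at h1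
  have h3 : (N : Set G).ncard = Nat.card N := (Nat.card_coe_set_eq (N : Set G)).symm
  rw [h3] at h1
  rw [← h1]
  apply Subgroup.index_dvd_of_le
  intro n hn
  rw [Subgroup.mem_centralizer_iff]
  intro x hx
  rw [Set.mem_singleton_iff] at hx
  rw [hx]
  exact hcomm _ hn1 _ hn

/-- Counting bound: order-`q` elements of the quotient lift to elements of order `q ^ 2`, which form
a single class. -/
theorem card_bound [Finite G] (hG : OC G) (N : Subgroup G) [hNn : N.Normal] {q : ℕ} (_hq : q.Prime)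
    (hexp : ∀ n ∈ N, n ^ q = 1) (hall : ∀ x : G, orderOf x = q → x ∈ N)
    (T : Finset (G ⧸ N)) (hT : ∀ y ∈ T, orderOf y = q) :
    T.card * Nat.card N * (q * q) ≤ Nat.card G := by
  classical
  rcases T.eq_empty_or_nonempty with hemp | ⟨y0, hy0⟩
  · rw [hemp, Finset.card_empty, zero_mul, zero_mul]
    exact Nat.zero_le _
  have hlift : ∀ x : G, orderOf (QuotientGroup.mk' N x) = q → orderOf x = q * q := by
    intro x hx
    have h1 : q ∣ orderOf x := by
      rw [← hx]
      exact orderOf_map_dvd _ x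
    rw [orderOf_eq_mul_of_dvd N hexp hall x h1, hx]
  obtain ⟨x0, hx0⟩ := QuotientGroup.mk'_surjective N y0
  have hx0q : orderOf x0 = q * q := hlift x0 (by rw [hx0]; exact hT y0 hy0)
  have h1 := index_centralizer_eq hG x0
  -- injection T × N → S
  let S : Set G := {x : G | orderOf x = orderOf x0}
  let f : T × N → S := fun a => ⟨(a.1 : G ⧸ N).out * (a.2 : G), by
    show orderOf _ = orderOf x0
    rw [hx0q]
    apply hlift
    have e1 : QuotientGroup.mk' N (a.2 : G) = 1 := (QuotientGroup.eq_one_iff _).2 a.2.2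
    rw [map_mul, e1, mul_one, QuotientGroup.mk'_apply, QuotientGroup.out_eq']
    exact hT _ a.1.2⟩
  have hf : Function.Injective f := by
    intro a b hab
    have h2 : (a.1 : G ⧸ N).out * (a.2 : G) = (b.1 : G ⧸ N).out * (b.2 : G) :=
      congrArg Subtype.val hab
    have h3 := congrArg (QuotientGroup.mk' N) h2
    have e1 : QuotientGroup.mk' N (a.2 : G) = 1 := (QuotientGroup.eq_one_iff _).2 a.2.2
    have e2 : QuotientGroup.mk' N (b.2 : G) = 1 := (QuotientGroup.eq_one_iff _).2 b.2.2
    rw [map_mul, map_mul, e1, e2,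
      mul_one, mul_one, QuotientGroup.mk'_apply, QuotientGroup.mk'_apply, QuotientGroup.out_eq',
      QuotientGroup.out_eq'] at h3
    have h4 : a.1 = b.1 := Subtype.ext h3
    rw [h4] at h2
    have h5 : a.2 = b.2 := Subtype.ext (mul_left_cancel h2)
    exact Prod.ext h4 h5
  have h2 : Nat.card (T × N) ≤ Nat.card S := Nat.card_le_card_of_injective f hf
  rw [Nat.card_prod, Nat.card_eq_finsetCard, Nat.card_coe_set_eq] at h2
  -- the centralizer contains ⟨x0⟩
  have h3 : Subgroup.zpowers x0 ≤ Subgroup.centralizer {x0} := by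
    rw [Subgroup.zpowers_le]
    rw [Subgroup.mem_centralizer_iff]
    intro x hx
    rw [Set.mem_singleton_iff] at hx
    rw [hx]
  have h4 : q * q ≤ Nat.card (Subgroup.centralizer ({x0} : Set G)) := by
    have := Subgroup.card_dvd_of_le h3
    rw [Nat.card_zpowers, hx0q] at this
    exact Nat.le_of_dvd Nat.card_pos this
  have h5 := Subgroup.card_mul_index (Subgroup.centralizer ({x0} : Set G))
  rw [h1] at h5
  calc T.card * Nat.card N * (q * q) ≤ S.ncard * Nat.card (Subgroup.centralizer ({x0} : Set G)) :=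
        Nat.mul_le_mul h2 h4
    _ = Nat.card G := by rw [mul_comm]; exact h5

end Cfsg.Agent.Helper3.OrderConj
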