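import Mathlib
import Cfsg.Agent.Helper3.OrderConjB

/-! Helper library (helper3): finite solvable groups in which elements of the same order are
conjugate (part C: the classification). -/

set_option autoImplicit false

namespace Cfsg.Agent.Helper3.OrderConj

universe u

variable {G : Type u} [Group G]

theorem index_centralizer_of_mem [Finite G] (hG : OC G) (N : Subgroup G) [hNn : N.Normal] {q : ℕ}
    (hq : q.Prime) (hexp : ∀ n ∈ N, n ^ q = 1) {n1 : G} (hn1 : n1 ∈ N) (hn1q : orderOf n1 = q) :
    (Subgroup.centralizer ({n1} : Set G)).index = Nat.card N - 1 := by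
  have hall := mem_of_orderOf_eq hG N hn1 hn1q
  have h1 := index_centralizer_eq hG n1
  have hS : {x : G | orderOf x = orderOf n1} = (N : Set G) \ {1} := by
    ext x
    rw [Set.mem_ofPred_eq, Set.mem_sdiff, Set.mem_singleton_iff, hn1q]
    constructor
    · intro hx
      refine ⟨hall x hx, ?_⟩
      rintro rfl
      rw [orderOf_one] at hx
      exact hq.one_lt.ne hx
    · rintro ⟨hxN, hx1⟩
      have h2 : orderOf x ∣ q := orderOf_dvd_of_pow_eq_one (hexp _ hxN)
      rcases (Nat.dvd_prime hq).1 h2 with h | h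
      · exact absurd (orderOf_eq_one_iff.1 h) hx1
      · exact h
  rw [hS, Set.ncard_sdiff_singleton_of_mem (show (1 : G) ∈ (N : Set G) from N.one_mem)] at h1
  have h3 : (N : Set G).ncard = Nat.card N := (Nat.card_coe_set_eq (N : Set G)).symm
  rw [h3] at h1
  exact h1

/-- An OC group of order 6 is the symmetric group of degree 3. -/
theorem s3_of_card_six [Finite G] (hG : OC G) (h6 : Nat.card G = 6) :
    Nonempty (G ≃* Equiv.Perm (Fin 3)) := by
  obtain ⟨t, ht⟩ := exists_prime_orderOf_dvd_card' (G := G) 2 (by rw [h6]; norm_num)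
  obtain ⟨x, hx⟩ := exists_prime_orderOf_dvd_card' (G := G) 3 (by rw [h6]; norm_num)
  set H := Subgroup.zpowers t with hH
  have hHcard : Nat.card H = 2 := by rw [Nat.card_zpowers, ht]
  have hHidx : H.index = 3 := by
    have := Subgroup.card_mul_index H
    rw [hHcard, h6] at this
    omega
  -- x is not conjugate-fixed: G is not commutative
  have hxinv : ∃ c : G, c * x * c⁻¹ = x⁻¹ := isConj_iff.1 (hG x x⁻¹ (by rw [orderOf_inv]))
  have hxne : x ≠ x⁻¹ := by
    intro h
    have h1 : x ^ 2 = 1 := by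
      rw [sq]
      nth_rewrite 2 [h]
      exact mul_inv_cancel x
    have h2 := orderOf_dvd_of_pow_eq_one h1
    rw [hx] at h2
    norm_num at h2
  have hcore : H.normalCore = ⊥ := by
    rw [eq_bot_iff]
    intro g hg
    rw [Subgroup.mem_bot]
    by_contra hg1
    have hgH : g ∈ H := Subgroup.normalCore_le H hg
    have huniq := (Nat.card_eq_two_iff' (1 : H)).1 hHcard
    obtain ⟨y, -, hy⟩ := huniq
    have htH : t ∈ H := Subgroup.mem_zpowers t
    have ht1 : t ≠ 1 := by
      intro h
      rw [h, orderOf_one] at ht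
      norm_num at ht
    have e1 : (⟨g, hgH⟩ : H) = y := hy _ (fun h => hg1 (congrArg Subtype.val h))
    have e2 : (⟨t, htH⟩ : H) = y := hy _ (fun h => ht1 (congrArg Subtype.val h))
    have hgt : g = t := congrArg Subtype.val (e1.trans e2.symm)
    -- t is central
    have hcent : ∀ c : G, c * t * c⁻¹ = t := by
      intro c
      have h1 : c * t * c⁻¹ ∈ H.normalCore := by
        rw [← hgt]
        exact (Subgroup.normalCore_normal H).conj_mem g hg c
      have h2 : c * t * c⁻¹ ∈ H := Subgroup.normalCore_le H h1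
      have h3 : c * t * c⁻¹ ≠ 1 := by
        intro h
        apply ht1
        have : t = c⁻¹ * (c * t * c⁻¹) * c := by group
        rw [this, h]
        group
      have e3 : (⟨c * t * c⁻¹, h2⟩ : H) = y := hy _ (fun h => h3 (congrArg Subtype.val h))
      exact congrArg Subtype.val (e3.trans e2.symm)
    have hcomm : Commute t x := by
      have := hcent x
      unfold Commute SemiconjBy
      calc t * x = x * t * x⁻¹ * x := by rw [this]
        _ = x * t := by group
    have hord : orderOf (t * x) = 6 := by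
      rw [hcomm.orderOf_mul_eq_mul_orderOf_of_coprime (by rw [ht, hx]; norm_num), ht, hx]
    have hcyc : IsCyclic G := isCyclic_of_orderOf_eq_card (t * x) (by rw [hord, h6])
    obtain ⟨c, hc⟩ := hxinv
    have hcx : c * x = x * c := hcyc.isMulCommutative.is_comm.comm c x
    apply hxne
    rw [← hc, hcx]
    group
  let φ : G →* Equiv.Perm (G ⧸ H) := MulAction.toPermHom G (G ⧸ H)
  have hker : φ.ker = ⊥ := by rw [← hcore, Subgroup.normalCore_eq_ker]
  have hinj : Function.Injective φ := (MonoidHom.ker_eq_bot_iff φ).1 hker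
  have hcard3 : Nat.card (G ⧸ H) = 3 := by rw [← Subgroup.index_eq_card]; exact hHidx
  have hcardP : Nat.card (Equiv.Perm (G ⧸ H)) = 6 := by
    rw [Nat.card_perm, hcard3]
    rfl
  have hbij : Function.Bijective φ :=
    hinj.bijective_of_nat_card_le (by rw [hcardP, h6])
  let e1 : G ≃* Equiv.Perm (G ⧸ H) := MulEquiv.ofBijective φ hbij
  let e2 : (G ⧸ H) ≃ Fin 3 := (Finite.equivFin (G ⧸ H)).trans (finCongr hcard3)
  exact ⟨e1.trans e2.permCongrHom⟩

theorem perm3_facts :
    orderOf (Equiv.swap (0 : Fin 3) 1) = 2 ∧ orderOf (Equiv.swap (0 : Fin 3) 2) = 2 ∧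
    Equiv.swap (0 : Fin 3) 1 ≠ Equiv.swap (0 : Fin 3) 2 ∧
    orderOf (Equiv.swap (0 : Fin 3) 1 * Equiv.swap (1 : Fin 3) 2) = 3 ∧
    Equiv.swap (0 : Fin 3) 1 * Equiv.swap (0 : Fin 3) 2 ≠
      Equiv.swap (0 : Fin 3) 2 * Equiv.swap (0 : Fin 3) 1 := by
  refine ⟨?_, ?_, by decide, ?_, by decide⟩
  · exact orderOf_eq_prime (by decide) (by decide)
  · exact orderOf_eq_prime (by decide) (by decide)
  · have : Fact (Nat.Prime 3) := ⟨Nat.prime_three⟩
    exact orderOf_eq_prime (by decide) (by decide)

/-- The quotient of an OC group by a minimal normal subgroup is not the symmetric group of degree 3. -/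
theorem not_s3_quotient [Finite G] (hG : OC G) (N : Subgroup G) [hNn : N.Normal] {q : ℕ}
    (hq : q.Prime) (hexp : ∀ n ∈ N, n ^ q = 1) (hcomm : ∀ a ∈ N, ∀ b ∈ N, a * b = b * a)
    (hN : N ≠ ⊥) (e : (G ⧸ N) ≃* Equiv.Perm (Fin 3)) : False := by
  classical
  obtain ⟨n1, hn1, hn1q⟩ := exists_orderOf_eq_of_ne_bot hq hexp hN
  have hall := mem_of_orderOf_eq hG N hn1 hn1q
  have hdiv := card_sub_one_dvd_index hG N hq hexp hcomm hN
  have hcardQ : Nat.card (G ⧸ N) = 6 := by
    rw [Nat.card_congr e.toEquiv, Nat.card_perm, Nat.card_fin]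
    rfl
  have hidx : N.index = 6 := by rw [Subgroup.index_eq_card]; exact hcardQ
  have hcardG : Nat.card G = 6 * Nat.card N := by
    rw [Subgroup.card_eq_card_quotient_mul_card_subgroup N, hcardQ]
  have hNcard2 : 2 ≤ Nat.card N := by
    have : 1 < Nat.card N := by
      rw [Finite.one_lt_card_iff_nontrivial]
      exact (Subgroup.nontrivial_iff_ne_bot N).2 hN
    omega
  have hqN : q ∣ Nat.card N := by
    have := orderOf_dvd_natCard (⟨n1, hn1⟩ : N)
    rw [← Subgroup.orderOf_coe] at this
    rw [← hn1q]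
    exact this
  rw [hidx] at hdiv
  have hle : Nat.card N - 1 ≤ 6 := Nat.le_of_dvd (by norm_num) hdiv
  obtain ⟨f1, f2, f3, f4, f5⟩ := perm3_facts
  have ho : ∀ σ : Equiv.Perm (Fin 3), orderOf (e.symm σ) = orderOf σ := fun σ =>
    MulEquiv.orderOf_eq e.symm σ
  -- the bound for q = 2
  have hcase2 : q = 2 → False := by
    intro hq2
    subst hq2
    have hb := card_bound hG N hq hexp hall {e.symm (Equiv.swap (0 : Fin 3) 1),
      e.symm (Equiv.swap (0 : Fin 3) 2)} (by
        intro y hy
        rw [Finset.mem_insert, Finset.mem_singleton] at hy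
        rcases hy with rfl | rfl
        · rw [ho, f1]
        · rw [ho, f2])
    rw [Finset.card_pair (by
      intro h
      exact f3 (e.symm.injective h)), hcardG] at hb
    omega
  have hcase3 : q = 3 → Nat.card N = 3 → False := by
    intro hq3 hN3
    subst hq3
    have hb := card_bound hG N hq hexp hall
      {e.symm (Equiv.swap (0 : Fin 3) 1 * Equiv.swap (1 : Fin 3) 2)} (by
        intro y hy
        rw [Finset.mem_singleton] at hy
        rw [hy, ho, f4])
    rw [Finset.card_singleton, hcardG, hN3] at hb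
    omega
  have hcases : Nat.card N = 2 ∨ Nat.card N = 3 ∨ Nat.card N = 4 ∨ Nat.card N = 7 := by
    have h1 : Nat.card N - 1 ∈ Nat.divisors 6 := Nat.mem_divisors.2 ⟨hdiv, by norm_num⟩
    have h2 : Nat.divisors 6 = {1, 2, 3, 6} := by decide
    rw [h2] at h1
    simp only [Finset.mem_insert, Finset.mem_singleton] at h1
    omega
  rcases hcases with h | h | h | h
  · apply hcase2
    rw [h] at hqN
    exact (Nat.prime_dvd_prime_iff_eq hq Nat.prime_two).1 hqN
  · apply hcase3 _ h
    rw [h] at hqN
    exact (Nat.prime_dvd_prime_iff_eq hq Nat.prime_three).1 hqN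
  · apply hcase2
    rw [h] at hqN
    have : q ∣ 2 := hq.dvd_of_dvd_pow (show q ∣ 2 ^ 2 by norm_num; exact hqN)
    exact (Nat.prime_dvd_prime_iff_eq hq Nat.prime_two).1 this
  · -- |N| = 7: the quotient would be abelian
    have hq7 : q = 7 := by
      rw [h] at hqN
      exact (Nat.prime_dvd_prime_iff_eq hq (by norm_num)).1 hqN
    have hNz : Subgroup.zpowers n1 = N := by
      apply Subgroup.eq_of_le_of_card_ge ((Subgroup.zpowers_le).2 hn1)
      rw [Nat.card_zpowers, hn1q, h, hq7]
    have hC : Subgroup.centralizer ({n1} : Set G) = N := by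
      have h1 := index_centralizer_of_mem hG N hq hexp hn1 hn1q
      have h2 := Subgroup.card_mul_index (Subgroup.centralizer ({n1} : Set G))
      rw [h1, hcardG, h] at h2
      have h3 : N ≤ Subgroup.centralizer ({n1} : Set G) := by
        intro n hn
        rw [Subgroup.mem_centralizer_iff]
        intro x hx
        rw [Set.mem_singleton_iff] at hx
        rw [hx]
        exact hcomm _ hn1 _ hn
      symm
      apply Subgroup.eq_of_le_of_card_ge h3
      rw [h]
      omega
    have hpow : ∀ g : G, ∃ k : ℕ, g * n1 * g⁻¹ = n1 ^ k := by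
      intro g
      have h1 : g * n1 * g⁻¹ ∈ Subgroup.zpowers n1 := by
        rw [hNz]
        exact hNn.conj_mem _ hn1 g
      rw [← mem_powers_iff_mem_zpowers] at h1
      obtain ⟨k, hk⟩ := h1
      exact ⟨k, hk.symm⟩
    have hab : ∀ g h : G, (QuotientGroup.mk' N g) * (QuotientGroup.mk' N h) =
        (QuotientGroup.mk' N h) * (QuotientGroup.mk' N g) := by
      intro g h
      obtain ⟨a, ha⟩ := hpow g
      obtain ⟨b, hb⟩ := hpow h
      have h1 : (g * h) * n1 * (g * h)⁻¹ = n1 ^ (b * a) := by
        calc (g * h) * n1 * (g * h)⁻¹ = g * (h * n1 * h⁻¹) * g⁻¹ := by group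
          _ = g * n1 ^ b * g⁻¹ := by rw [hb]
          _ = (g * n1 * g⁻¹) ^ b := by rw [conj_pow]
          _ = n1 ^ (b * a) := by rw [ha, ← pow_mul, mul_comm]
      have h2 : (h * g) * n1 * (h * g)⁻¹ = n1 ^ (b * a) := by
        calc (h * g) * n1 * (h * g)⁻¹ = h * (g * n1 * g⁻¹) * h⁻¹ := by group
          _ = h * n1 ^ a * h⁻¹ := by rw [ha]
          _ = (h * n1 * h⁻¹) ^ a := by rw [conj_pow]
          _ = n1 ^ (b * a) := by rw [hb, ← pow_mul]
      have h3 : (h * g)⁻¹ * (g * h) ∈ Subgroup.centralizer ({n1} : Set G) := by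
        rw [Subgroup.mem_centralizer_iff]
        intro x hx
        rw [Set.mem_singleton_iff] at hx
        rw [hx]
        have : (g * h) * n1 * (g * h)⁻¹ = (h * g) * n1 * (h * g)⁻¹ := by rw [h1, h2]
        calc n1 * ((h * g)⁻¹ * (g * h))
            = (h * g)⁻¹ * ((h * g) * n1 * (h * g)⁻¹) * (g * h) := by group
          _ = (h * g)⁻¹ * ((g * h) * n1 * (g * h)⁻¹) * (g * h) := by rw [this]
          _ = (h * g)⁻¹ * (g * h) * n1 := by group
      rw [hC] at h3
      rw [← map_mul, ← map_mul]
      have h4 : QuotientGroup.mk' N ((h * g)⁻¹ * (g * h)) = 1 := (QuotientGroup.eq_one_iff _).2 h3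
      rw [map_mul, map_inv, inv_mul_eq_one] at h4
      exact h4.symm
    apply f5
    obtain ⟨g, hg⟩ := QuotientGroup.mk'_surjective N (e.symm (Equiv.swap (0 : Fin 3) 1))
    obtain ⟨h', hh⟩ := QuotientGroup.mk'_surjective N (e.symm (Equiv.swap (0 : Fin 3) 2))
    have := hab g h'
    rw [hg, hh, ← map_mul, ← map_mul] at this
    exact e.symm.injective this

theorem main_aux : ∀ n : ℕ, ∀ (G : Type u) [Group G] [Finite G] [Group.IsSolvable G],
    Nat.card G = n → OC G →
    Nat.card G = 1 ∨ Nat.card G = 2 ∨ Nonempty (G ≃* Equiv.Perm (Fin 3)) := by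
  intro n
  induction n using Nat.strong_induction_on with
  | _ n ih =>
  intro G _ _ _ hn hG
  classical
  by_cases hsub : Subsingleton G
  · left
    exact Nat.card_unique
  rw [not_subsingleton_iff_nontrivial] at hsub
  obtain ⟨p, _, N, hNn, hNne, -, hNc, hmin⟩ := Cfsg.Agent.Helper1.exists_minimal_normal_abelian G
  have hcomm : ∀ a ∈ N, ∀ b ∈ N, a * b = b * a := by
    intro a ha b hb
    exact congrArg Subtype.val (hNc.is_comm.comm (⟨a, ha⟩ : N) ⟨b, hb⟩)
  obtain ⟨q, hq, hexp⟩ :=
    Cfsg.Agent.Helper4.exists_prime_exponent_of_abelian_minNormal N hNne hmin hcomm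
  obtain ⟨n1, hn1, hn1q⟩ := exists_orderOf_eq_of_ne_bot hq hexp hNne
  have hall := mem_of_orderOf_eq hG N hn1 hn1q
  have hQ : OC (G ⧸ N) := oc_quotient N hq hG hexp hall
  have hcardG : Nat.card G = Nat.card (G ⧸ N) * Nat.card N :=
    Subgroup.card_eq_card_quotient_mul_card_subgroup N
  have hN1 : 1 < Nat.card N := by
    rw [Finite.one_lt_card_iff_nontrivial]
    exact (Subgroup.nontrivial_iff_ne_bot N).2 hNne
  have hQpos : 0 < Nat.card (G ⧸ N) := Nat.card_pos
  have hlt : Nat.card (G ⧸ N) < n := by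
    rw [← hn, hcardG]
    nlinarith
  have hdiv := card_sub_one_dvd_index hG N hq hexp hcomm hNne
  rw [Subgroup.index_eq_card] at hdiv
  have hqN : q ∣ Nat.card N := by
    have := orderOf_dvd_natCard (⟨n1, hn1⟩ : N)
    rw [← Subgroup.orderOf_coe] at this
    rw [← hn1q]
    exact this
  rcases ih _ hlt (G ⧸ N) rfl hQ with h1 | h2 | ⟨⟨e⟩⟩
  · -- G = N
    rw [h1] at hdiv hcardG
    have : Nat.card N - 1 ≤ 1 := Nat.le_of_dvd (by norm_num) hdiv
    right; left
    omega
  · rw [h2] at hdiv hcardG
    have hle : Nat.card N - 1 ≤ 2 := Nat.le_of_dvd (by norm_num) hdiv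
    have hcases : Nat.card N = 2 ∨ Nat.card N = 3 := by omega
    rcases hcases with h | h
    · -- |G| = 4 is impossible
      exfalso
      have hq2 : q = 2 := by
        rw [h] at hqN
        exact (Nat.prime_dvd_prime_iff_eq hq Nat.prime_two).1 hqN
      subst hq2
      -- the non-identity element of the quotient has order 2
      obtain ⟨y, hy⟩ := exists_prime_orderOf_dvd_card' (G := G ⧸ N) 2 (by rw [h2])
      have hb := card_bound hG N hq hexp hall {y} (by
        intro z hz
        rw [Finset.mem_singleton] at hz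
        rw [hz, hy])
      rw [Finset.card_singleton, hcardG, h] at hb
      omega
    · right; right
      apply s3_of_card_six hG
      rw [hcardG, h]
  · exact (not_s3_quotient hG N hq hexp hcomm hNne e).elim

end Cfsg.Agent.Helper3.OrderConj
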