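import Mathlib
import Cfsg.Agent.Helper2.DihedralIso

/-!
# `p`-by-cyclic subgroups: basic lemmas
-/

set_option autoImplicit false

namespace Cfsg.Agent.Helper3.PByCyc

variable {p : ℕ} [hp : Fact p.Prime]

omit hp in
/-- If `Q` is a normal `p`-subgroup of `K` with cyclic quotient, then the Sylow `p`-subgroups of `K`
are normal with cyclic quotient. -/
theorem pByCyclic_of_normal {K : Type*} [Group K] [Finite K] (Q : Subgroup K) [Q.Normal]
    (hQ : IsPGroup p Q) (hc : IsCyclic (K ⧸ Q)) :
    (∀ S : Sylow p K, (S : Subgroup K).Normal) ∧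
      ∀ (S : Sylow p K) [(S : Subgroup K).Normal], IsCyclic (K ⧸ (S : Subgroup K)) := by
  have hle : ∀ S : Sylow p K, Q ≤ S := fun S => hQ.le_sylow_of_normal S
  refine ⟨fun S => ⟨fun s hs k => ?_⟩, fun S _ => ?_⟩
  · have h1 : k * s * k⁻¹ * s⁻¹ ∈ Q := by
      rw [← QuotientGroup.eq_one_iff]
      have hcomm : ∀ a b : K ⧸ Q, a * b = b * a := by
        intro a b
        obtain ⟨g, hg⟩ := hc.exists_generator
        obtain ⟨i, rfl⟩ := Subgroup.mem_zpowers_iff.1 (hg a)
        obtain ⟨j, rfl⟩ := Subgroup.mem_zpowers_iff.1 (hg b)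
        rw [← zpow_add, ← zpow_add, add_comm]
      simp only [QuotientGroup.mk_mul, QuotientGroup.mk_inv]
      rw [hcomm (↑k) (↑s)]
      group
    have h2 := (S : Subgroup K).mul_mem (hle S h1) hs
    simpa using h2
  · have hsurj : Function.Surjective (QuotientGroup.map Q (S : Subgroup K) (MonoidHom.id K)
        (by intro q hq; exact hle S hq)) := by
      intro x
      induction x using QuotientGroup.induction_on with
      | H k => exact ⟨(k : K ⧸ Q), rfl⟩
    exact isCyclic_of_surjective _ hsurj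

/-- `Q ⊔ ⟨x⟩` with `x` normalizing `Q`: `Q` is normal with cyclic quotient. -/
theorem sup_zpowers_normal_cyclic {G : Type*} [Group G] (Q : Subgroup G) (x : G)
    (hx : x ∈ Subgroup.normalizer (Q : Set G)) :
    ∃ _ : (Q.subgroupOf (Q ⊔ Subgroup.zpowers x)).Normal,
      IsCyclic ((Q ⊔ Subgroup.zpowers x : Subgroup G) ⧸ Q.subgroupOf (Q ⊔ Subgroup.zpowers x)) := by
  set H := Q ⊔ Subgroup.zpowers x with hH
  have hQH : Q ≤ H := le_sup_left
  have hxH : x ∈ H := le_sup_right (a := Q) (Subgroup.mem_zpowers x)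
  have hn : (Q.subgroupOf H).Normal := by
    rw [Subgroup.normal_subgroupOf_iff_le_normalizer hQH]
    apply sup_le Subgroup.le_normalizer
    rw [Subgroup.zpowers_le]
    exact hx
  refine ⟨hn, ?_⟩
  refine ⟨⟨QuotientGroup.mk ⟨x, hxH⟩, ?_⟩⟩
  intro y
  induction y using QuotientGroup.induction_on with
  | H h =>
    have hmem : h ∈ (Subgroup.zpowers (QuotientGroup.mk (s := Q.subgroupOf H) ⟨x, hxH⟩)).comap
        (QuotientGroup.mk' (Q.subgroupOf H)) := by
      have htop : Q.subgroupOf H ⊔ (Subgroup.zpowers x).subgroupOf H = ⊤ := by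
        rw [← Subgroup.subgroupOf_sup hQH le_sup_right, ← hH, Subgroup.subgroupOf_self]
      have hle : Q.subgroupOf H ⊔ (Subgroup.zpowers x).subgroupOf H ≤
          (Subgroup.zpowers (QuotientGroup.mk (s := Q.subgroupOf H) ⟨x, hxH⟩)).comap
            (QuotientGroup.mk' (Q.subgroupOf H)) := by
        apply sup_le
        · intro q hq
          rw [Subgroup.mem_comap]
          have : QuotientGroup.mk' (Q.subgroupOf H) q = 1 := (QuotientGroup.eq_one_iff _).2 hq
          rw [this]
          exact Subgroup.one_mem _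
        · intro q hq
          rw [Subgroup.mem_comap]
          rw [Subgroup.mem_subgroupOf] at hq
          obtain ⟨k, hk⟩ := Subgroup.mem_zpowers_iff.1 hq
          rw [Subgroup.mem_zpowers_iff]
          refine ⟨k, ?_⟩
          have : q = (⟨x, hxH⟩ : H) ^ k := Subtype.ext (by rw [Subgroup.coe_zpow]; exact hk.symm)
          rw [this]
          rfl
      apply hle
      rw [htop]
      exact Subgroup.mem_top _
    exact hmem

/-- A commutative finite group with a cyclic subgroup `S` of order coprime to its index and cyclic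
quotient is cyclic. -/
theorem isCyclic_of_comm {K : Type*} [Group K] [Finite K] (hcomm : ∀ a b : K, a * b = b * a)
    (S : Subgroup K) [S.Normal] (hS : IsCyclic S) (hq : IsCyclic (K ⧸ S))
    (hcop : (Nat.card S).Coprime S.index) : IsCyclic K := by
  let inst : CommGroup K := { (inferInstance : Group K) with mul_comm := hcomm }
  apply IsCyclic.of_exponent_eq_card
  apply Nat.dvd_antisymm Group.exponent_dvd_nat_card
  rw [← S.card_mul_index]
  apply Nat.Coprime.mul_dvd_of_dvd_of_dvd hcop
  · obtain ⟨s, hs⟩ := hS.exists_generator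
    have h1 : orderOf s = Nat.card S := orderOf_eq_card_of_forall_mem_zpowers hs
    rw [← h1, ← Subgroup.orderOf_coe]
    exact Monoid.order_dvd_exponent _
  · obtain ⟨q, hq'⟩ := hq.exists_generator
    have h1 : orderOf q = Nat.card (K ⧸ S) := orderOf_eq_card_of_forall_mem_zpowers hq'
    induction q using QuotientGroup.induction_on with
    | H t =>
      have h2 : orderOf (QuotientGroup.mk' S t) ∣ orderOf t := orderOf_map_dvd _ t
      have h3 : S.index = orderOf (QuotientGroup.mk' S t) := by
        rw [Subgroup.index_eq_card]; exact h1.symm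
      rw [h3]
      exact h2.trans (Monoid.order_dvd_exponent _)

open DihedralGroup in
/-- In a group isomorphic to a dihedral group, an element either commutes with all elements of odd
order, or is an involution inverting them. -/
theorem dihedral_dichotomy {H : Type*} [Group H] {m : ℕ} (e : H ≃* DihedralGroup m) (x : H) :
    (∀ y : H, Odd (orderOf y) → x * y = y * x) ∨
      (x * x = 1 ∧ ∀ y : H, Odd (orderOf y) → x * y * x⁻¹ = y⁻¹) := by
  have hodd : ∀ y : H, Odd (orderOf y) → ∃ i, e y = r i := by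
    intro y hy
    rcases hey : e y with i | i
    · exact ⟨i, rfl⟩
    · exfalso
      have h1 : e (y * y) = 1 := by rw [map_mul, hey, sr_mul_sr, sub_self, one_def]
      have h2 : y * y = 1 := by
        apply e.injective; rw [h1, map_one]
      have h3 : orderOf y ∣ 2 := orderOf_dvd_of_pow_eq_one (by rw [pow_two]; exact h2)
      have h4 : orderOf y = 1 := by
        rcases (Nat.dvd_prime Nat.prime_two).1 h3 with h | h
        · exact h
        · rw [h] at hy; exact absurd hy (by decide)
      rw [orderOf_eq_one_iff] at h4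
      rw [h4, map_one, one_def] at hey
      cases hey
  rcases hex : e x with j | j
  · left
    intro y hy
    obtain ⟨i, hi⟩ := hodd y hy
    apply e.injective
    rw [map_mul, map_mul, hex, hi, r_mul_r, r_mul_r, add_comm]
  · right
    refine ⟨?_, ?_⟩
    · apply e.injective
      rw [map_mul, hex, sr_mul_sr, sub_self, map_one, one_def]
    · intro y hy
      obtain ⟨i, hi⟩ := hodd y hy
      apply e.injective
      rw [map_mul, map_mul, map_inv, map_inv, hex, hi, inv_sr, inv_r, sr_mul_r, sr_mul_sr]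
      congr 1
      ring

/-- Recognition of a dihedral group: a cyclic subgroup `S` inverted by an involution `x ∉ S`,
with `H = S ∪ xS`. -/
theorem dihedral_of_inverting {G : Type*} [Group G] [Finite G] (H S : Subgroup G) (hSH : S ≤ H)
    (hS : IsCyclic S) (x : G) (hxH : x ∈ H) (hxx : x * x = 1) (hxS : x ∉ S)
    (hinv : ∀ s ∈ S, x * s * x⁻¹ = s⁻¹) (hcov : ∀ h ∈ H, h ∈ S ∨ x * h ∈ S) :
    Nonempty (H ≃* DihedralGroup (Nat.card S)) := by
  obtain ⟨s, hs⟩ := hS.exists_generator
  have hso : orderOf (s : G) = Nat.card S := by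
    rw [Subgroup.orderOf_coe]; exact orderOf_eq_card_of_forall_mem_zpowers hs
  set y := x * (s : G) with hy
  have hxinv : x⁻¹ = x := inv_eq_of_mul_eq_one_left hxx
  have hyy : y * y = 1 := by
    have h1 := hinv s s.2
    rw [hxinv] at h1
    calc y * y = (x * s * x) * s := by rw [hy]; group
      _ = (s : G)⁻¹ * s := by rw [h1]
      _ = 1 := inv_mul_cancel _
  have hx1 : x ≠ 1 := fun h => hxS (h ▸ S.one_mem)
  have hy1 : y ≠ 1 := by
    intro h
    apply hxS
    have : x = (s : G)⁻¹ := eq_inv_of_mul_eq_one_left h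
    rw [this]; exact S.inv_mem s.2
  have hxy : x * y = s := by rw [hy, ← mul_assoc, hxx, one_mul]
  obtain ⟨e⟩ := Cfsg.Agent.Helper2.closure_pair_invol_equiv_dihedral hxx hyy hx1 hy1
  rw [hxy, hso] at e
  have hcl : Subgroup.closure ({x, y} : Set G) = H := by
    apply le_antisymm
    · rw [Subgroup.closure_le]
      intro z hz
      rcases hz with rfl | hz
      · exact hxH
      · rw [Set.mem_singleton_iff] at hz
        rw [hz]
        exact H.mul_mem hxH (hSH s.2)
    · intro h hh
      have hxC : x ∈ Subgroup.closure ({x, y} : Set G) := Subgroup.subset_closure (by simp)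
      have hyC : y ∈ Subgroup.closure ({x, y} : Set G) := Subgroup.subset_closure (by simp)
      have hsC : (s : G) ∈ Subgroup.closure ({x, y} : Set G) := by
        rw [← hxy]
        exact Subgroup.mul_mem _ hxC hyC
      have hSC : S ≤ Subgroup.closure ({x, y} : Set G) := by
        intro z hz
        obtain ⟨k, hk⟩ := Subgroup.mem_zpowers_iff.1 (hs ⟨z, hz⟩)
        have : z = (s : G) ^ k := by
          have := congrArg Subtype.val hk
          simpa using this.symm
        rw [this]; exact Subgroup.zpow_mem _ hsC k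
      rcases hcov h hh with h1 | h1
      · exact hSC h1
      · have : h = x * (x * h) := by rw [← mul_assoc, hxx, one_mul]
        rw [this]
        exact Subgroup.mul_mem _ hxC (hSC h1)
  exact ⟨(MulEquiv.subgroupCongr hcl).symm.trans e⟩

/-- The hypothesis: every `p`-by-cyclic subgroup is cyclic or dihedral of order `2 p ^ n`. -/
def Restricted (p : ℕ) (G : Type*) [Group G] : Prop :=
  ∀ H : Subgroup G, (∀ S : Sylow p ↥H, (S : Subgroup ↥H).Normal) →
    (∀ (S : Sylow p ↥H) [(S : Subgroup ↥H).Normal], IsCyclic (↥H ⧸ (S : Subgroup ↥H))) →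
    IsCyclic H ∨ (∃ n : ℕ, Nonempty (H ≃* DihedralGroup (p ^ n)))

theorem odd_orderOf_of_mem {G : Type*} [Group G] (hp2 : p ≠ 2) {Q : Subgroup G}
    (hQ : IsPGroup p Q) {y : G} (hy : y ∈ Q) : Odd (orderOf y) := by
  obtain ⟨k, hk⟩ := hQ ⟨y, hy⟩
  have h1 : y ^ p ^ k = 1 := by
    have := congrArg Subtype.val hk
    simpa using this
  have h2 : orderOf y ∣ p ^ k := orderOf_dvd_of_pow_eq_one h1
  have hpodd : Odd p := hp.out.odd_of_ne_two hp2
  exact Odd.of_dvd_nat (hpodd.pow) h2

/-- Under `Restricted`, an element normalizing a `p`-subgroup `Q` centralizes it or is an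
involution inverting it. -/
theorem Restricted.dichotomy {G : Type*} [Group G] [Finite G] (hp2 : p ≠ 2) (hR : Restricted p G)
    (Q : Subgroup G) (hQ : IsPGroup p Q) (x : G) (hx : x ∈ Subgroup.normalizer (Q : Set G)) :
    (∀ y ∈ Q, x * y = y * x) ∨ (x * x = 1 ∧ ∀ y ∈ Q, x * y * x⁻¹ = y⁻¹) := by
  set H := Q ⊔ Subgroup.zpowers x with hH
  have hQH : Q ≤ H := le_sup_left
  have hxH : x ∈ H := le_sup_right (a := Q) (Subgroup.mem_zpowers x)
  obtain ⟨hn, hc⟩ := sup_zpowers_normal_cyclic Q x hx
  have hQ' : IsPGroup p (Q.subgroupOf H) := hQ.comap_subtype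
  obtain ⟨h1, h2⟩ := pByCyclic_of_normal (Q.subgroupOf H) hQ' hc
  rcases hR H h1 h2 with hcyc | ⟨n, ⟨e⟩⟩
  · left
    intro y hy
    obtain ⟨g, hg⟩ := hcyc.exists_generator
    obtain ⟨i, hi⟩ := Subgroup.mem_zpowers_iff.1 (hg ⟨x, hxH⟩)
    obtain ⟨j, hj⟩ := Subgroup.mem_zpowers_iff.1 (hg ⟨y, hQH hy⟩)
    have : (⟨x, hxH⟩ : H) * ⟨y, hQH hy⟩ = ⟨y, hQH hy⟩ * ⟨x, hxH⟩ := by
      rw [← hi, ← hj, ← zpow_add, ← zpow_add, add_comm]
    exact congrArg Subtype.val this
  · rcases dihedral_dichotomy e ⟨x, hxH⟩ with h | ⟨hxx, h⟩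
    · left
      intro y hy
      have hodd : Odd (orderOf (⟨y, hQH hy⟩ : H)) := by
        rw [← Subgroup.orderOf_coe]; exact odd_orderOf_of_mem hp2 hQ hy
      exact congrArg Subtype.val (h ⟨y, hQH hy⟩ hodd)
    · right
      refine ⟨congrArg Subtype.val hxx, ?_⟩
      intro y hy
      have hodd : Odd (orderOf (⟨y, hQH hy⟩ : H)) := by
        rw [← Subgroup.orderOf_coe]; exact odd_orderOf_of_mem hp2 hQ hy
      exact congrArg Subtype.val (h ⟨y, hQH hy⟩ hodd)

/-- Under `Restricted`, Sylow `p`-subgroups are cyclic. -/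
theorem Restricted.isCyclic_sylow {G : Type*} [Group G] [Finite G] (hp2 : p ≠ 2)
    (hR : Restricted p G) (P : Sylow p G) : IsCyclic (P : Subgroup G) := by
  have hP' : IsPGroup p (⊤ : Subgroup (P : Subgroup G)) := P.isPGroup'.to_subgroup _
  have hc : IsCyclic ((P : Subgroup G) ⧸ (⊤ : Subgroup (P : Subgroup G))) := by
    have := QuotientGroup.subsingleton_quotient_top (G := (P : Subgroup G))
    exact isCyclic_of_subsingleton
  obtain ⟨h1, h2⟩ := pByCyclic_of_normal (⊤ : Subgroup (P : Subgroup G)) hP' hc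
  rcases hR (P : Subgroup G) h1 h2 with hcyc | ⟨n, ⟨e⟩⟩
  · exact hcyc
  · exfalso
    obtain ⟨k, hk⟩ := IsPGroup.iff_card.1 P.isPGroup'
    have h3 : Nat.card (P : Subgroup G) = 2 * p ^ n := by
      rw [Nat.card_congr e.toEquiv, DihedralGroup.nat_card]
    rw [hk] at h3
    have h4 : 2 ∣ p ^ k := ⟨p ^ n, h3⟩
    have h5 : 2 ∣ p := Nat.Prime.dvd_of_dvd_pow Nat.prime_two h4
    exact hp2 ((Nat.prime_dvd_prime_iff_eq Nat.prime_two hp.out).1 h5).symm

end Cfsg.Agent.Helper3.PByCyc
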