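import Mathlib
import Cfsg.Agent.Helper3.PByCycA

/-!
# `p`-by-cyclic subgroups, `p` odd: the necessary conditions
-/

set_option autoImplicit false

namespace Cfsg.Agent.Helper3.PByCyc

variable {p : ℕ} [hp : Fact p.Prime]

/-- The condition on a subgroup `Q` of order `p`. -/
def Cond {G : Type*} [Group G] (Q : Subgroup G) : Prop :=
  IsMulCommutative ↥(Subgroup.centralizer (Q : Set G)) ∧
    ∀ x : G, x ∈ Subgroup.normalizer (Q : Set G) → x ∉ Subgroup.centralizer (Q : Set G) →
      orderOf x = 2 ∧ ∀ c : G, c ∈ Subgroup.centralizer (Q : Set G) → x * c * x⁻¹ = c⁻¹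

theorem mem_centralizer_of_comm {G : Type*} [Group G] {Q : Subgroup G} {x : G}
    (h : ∀ y ∈ Q, x * y = y * x) : x ∈ Subgroup.centralizer (Q : Set G) := by
  rw [Subgroup.mem_centralizer_iff]
  intro y hy
  exact (h y hy).symm

theorem inv_eq_self_of_mul_self {G : Type*} [Group G] {x : G} (h : x * x = 1) : x⁻¹ = x :=
  inv_eq_of_mul_eq_one_left h

/-- If `x` with `x * x = 1` inverts `Q` then `x` normalizes `Q`. -/
theorem mem_normalizer_of_inverts {G : Type*} [Group G] {Q : Subgroup G} {x : G} (hxx : x * x = 1)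
    (h : ∀ y ∈ Q, x * y * x⁻¹ = y⁻¹) : x ∈ Subgroup.normalizer (Q : Set G) := by
  rw [Subgroup.mem_normalizer_iff]
  intro y
  constructor
  · intro hy
    rw [h y hy]; exact Q.inv_mem hy
  · intro hy
    have h1 := h _ hy
    have hxinv := inv_eq_self_of_mul_self hxx
    rw [hxinv] at h1
    have h2 : x * (x * y * x) * x = y := by
      calc x * (x * y * x) * x = (x * x) * y * (x * x) := by group
        _ = y := by rw [hxx, one_mul, mul_one]
    rw [hxinv] at hy
    rw [h2] at h1
    have := Q.inv_mem hy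
    rw [← h1] at this
    simpa using this

theorem Restricted.cond {G : Type*} [Group G] [Finite G] (hp2 : p ≠ 2) (hR : Restricted p G)
    (Q : Subgroup G) (hQ : IsPGroup p Q) (hQcard : Nat.card Q = p)
    (x0 : G) (hx0x0 : x0 * x0 = 1) (hx0 : ∀ y ∈ Q, x0 * y * x0⁻¹ = y⁻¹) : Cond Q := by
  -- second part first
  have part2 : ∀ x : G, x ∈ Subgroup.normalizer (Q : Set G) →
      x ∉ Subgroup.centralizer (Q : Set G) →
      orderOf x = 2 ∧ ∀ c : G, c ∈ Subgroup.centralizer (Q : Set G) → x * c * x⁻¹ = c⁻¹ := by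
    have key : ∀ x : G, x ∈ Subgroup.normalizer (Q : Set G) →
        x ∉ Subgroup.centralizer (Q : Set G) → x * x = 1 := by
      intro x hxN hxC
      rcases hR.dichotomy hp2 Q hQ x hxN with h | ⟨h, -⟩
      · exact absurd (mem_centralizer_of_comm h) hxC
      · exact h
    intro x hxN hxC
    have hxx := key x hxN hxC
    refine ⟨?_, ?_⟩
    · have hx1 : x ≠ 1 := by
        rintro rfl
        exact hxC (Subgroup.one_mem _)
      exact orderOf_eq_prime (by rw [pow_two]; exact hxx) hx1
    · intro c hc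
      have hcN : c ∈ Subgroup.normalizer (Q : Set G) := Subgroup.centralizer_le_normalizer _ hc
      have h1 : x * c ∈ Subgroup.normalizer (Q : Set G) := Subgroup.mul_mem _ hxN hcN
      have h2 : x * c ∉ Subgroup.centralizer (Q : Set G) := by
        intro h
        apply hxC
        have := Subgroup.mul_mem _ h (Subgroup.inv_mem _ hc)
        simpa using this
      have h3 := key (x * c) h1 h2
      rw [inv_eq_self_of_mul_self hxx]
      have h4 : x * c * x * c = 1 := by rw [← h3]; group
      exact eq_inv_of_mul_eq_one_left h4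
  refine ⟨?_, part2⟩
  -- commutativity, using x0
  have hx0N : x0 ∈ Subgroup.normalizer (Q : Set G) := mem_normalizer_of_inverts hx0x0 hx0
  have hx0C : x0 ∉ Subgroup.centralizer (Q : Set G) := by
    intro h
    rw [Subgroup.mem_centralizer_iff] at h
    have hnt : ∃ q ∈ Q, q ≠ (1 : G) := by
      by_contra hcon
      push Not at hcon
      have : Q = ⊥ := (Subgroup.eq_bot_iff_forall _).2 hcon
      rw [this, Subgroup.card_bot] at hQcard
      exact hp.out.one_lt.ne hQcard
    obtain ⟨q, hq, hq1⟩ := hnt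
    have h1 := hx0 q hq
    have h2 : x0 * q * x0⁻¹ = q := by rw [← h q hq]; group
    rw [h2] at h1
    have h3 : q * q = 1 := by
      calc q * q = q * q⁻¹ := by rw [← h1]
        _ = 1 := mul_inv_cancel q
    have h4 : orderOf q ∣ 2 := orderOf_dvd_of_pow_eq_one (by rw [pow_two]; exact h3)
    have h5 := odd_orderOf_of_mem hp2 hQ hq
    rcases (Nat.dvd_prime Nat.prime_two).1 h4 with h | h
    · exact hq1 (orderOf_eq_one_iff.1 h)
    · rw [h] at h5; exact absurd h5 (by decide)
  obtain ⟨-, hinv⟩ := part2 x0 hx0N hx0C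
  refine ⟨⟨fun a b => ?_⟩⟩
  apply Subtype.ext
  have ha := hinv a a.2
  have hb := hinv b b.2
  have hab := hinv (a * b) (Subgroup.mul_mem _ a.2 b.2)
  have h1 : ((a : G) * b)⁻¹ = (a : G)⁻¹ * (b : G)⁻¹ := by
    rw [← hab, ← ha, ← hb]; group
  have h2 : (b : G)⁻¹ * (a : G)⁻¹ = (a : G)⁻¹ * (b : G)⁻¹ := by rw [← h1, mul_inv_rev]
  have h3 := congrArg (fun z => z⁻¹) h2
  simp only [mul_inv_rev, inv_inv] at h3
  exact h3

/-- The necessary conditions. -/
theorem Restricted.rhs {G : Type*} [Group G] [Finite G] (hp2 : p ≠ 2) (hR : Restricted p G)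
    (P : Sylow p G) :
    IsCyclic (P : Subgroup G) ∧
      (Subgroup.normalizer ((P : Subgroup G) : Set G) = Subgroup.centralizer ((P : Subgroup G) : Set G) ∨
        ((Subgroup.centralizer ((P : Subgroup G) : Set G)).relIndex
            (Subgroup.normalizer ((P : Subgroup G) : Set G)) = 2 ∧
          ∀ Q : Subgroup G, Q ≤ P → Nat.card Q = p → Cond Q)) := by
  refine ⟨hR.isCyclic_sylow hp2 P, ?_⟩
  set N := Subgroup.normalizer ((P : Subgroup G) : Set G) with hN
  set C := Subgroup.centralizer ((P : Subgroup G) : Set G) with hC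
  have hCN : C ≤ N := Subgroup.centralizer_le_normalizer _
  have hdich := hR.dichotomy hp2 (P : Subgroup G) P.isPGroup'
  by_cases hNC : N ≤ C
  · left; exact le_antisymm hNC hCN
  right
  obtain ⟨x0, hx0N, hx0C⟩ := SetLike.not_le_iff_exists.1 hNC
  have hinvOf : ∀ x ∈ N, x ∉ C → x * x = 1 ∧ ∀ y ∈ (P : Subgroup G), x * y * x⁻¹ = y⁻¹ := by
    intro x hxN hxC
    rcases hdich x hxN with h | h
    · exact absurd (mem_centralizer_of_comm h) hxC
    · exact h
  obtain ⟨hx0x0, hx0inv⟩ := hinvOf x0 hx0N hx0C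
  refine ⟨?_, ?_⟩
  · change (C.subgroupOf N).index = 2
    rw [Subgroup.index_eq_two_iff]
    refine ⟨⟨x0, hx0N⟩, ?_⟩
    intro b
    by_cases hb : (b : G) ∈ C
    · right
      refine ⟨hb, ?_⟩
      intro h
      apply hx0C
      have h' : (b : G) * x0 ∈ C := h
      have := C.mul_mem (C.inv_mem hb) h'
      simpa using this
    · left
      refine ⟨?_, hb⟩
      change (b : G) * x0 ∈ C
      obtain ⟨-, hbinv⟩ := hinvOf b b.2 hb
      apply mem_centralizer_of_comm
      intro y hy
      have h1 := hx0inv y hy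
      have h2 := hbinv y⁻¹ ((P : Subgroup G).inv_mem hy)
      rw [inv_inv] at h2
      have h3 : (b : G) * x0 * y * ((b : G) * x0)⁻¹ = y := by
        calc (b : G) * x0 * y * ((b : G) * x0)⁻¹ = (b : G) * (x0 * y * x0⁻¹) * (b : G)⁻¹ := by group
          _ = y := by rw [h1, h2]
      calc (b : G) * x0 * y = ((b : G) * x0 * y * ((b : G) * x0)⁻¹) * ((b : G) * x0) := by group
        _ = y * ((b : G) * x0) := by rw [h3]
  · intro Q hQP hQcard
    exact hR.cond hp2 Q (P.isPGroup'.to_le hQP) hQcard x0 hx0x0 (fun y hy => hx0inv y (hQP hy))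

end Cfsg.Agent.Helper3.PByCyc
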