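import Mathlib
import Cfsg.Agent.Helper3.PByCycB

/-!
# `p`-by-cyclic subgroups, `p` odd: the sufficient conditions
-/

set_option autoImplicit false

namespace Cfsg.Agent.Helper3.PByCyc

variable {p : ℕ} [hp : Fact p.Prime]

theorem cond_of_conj {G : Type*} [Group G] {Q : Subgroup G} (g : G)
    (h : Cond (Q.map (MulAut.conj g).toMonoidHom)) : Cond Q := by
  set Q1 := Q.map (MulAut.conj g).toMonoidHom with hQ1def
  have hQ1 : ∀ z, z ∈ Q1 ↔ g⁻¹ * z * g ∈ Q := by
    intro z
    rw [hQ1def, Subgroup.mem_map]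
    constructor
    · rintro ⟨q, hq, rfl⟩
      have : g⁻¹ * (MulAut.conj g).toMonoidHom q * g = q := by
        change g⁻¹ * (g * q * g⁻¹) * g = q
        group
      rw [this]; exact hq
    · intro hz
      refine ⟨g⁻¹ * z * g, hz, ?_⟩
      change g * (g⁻¹ * z * g) * g⁻¹ = z
      group
  have hC : ∀ c, c ∈ Subgroup.centralizer (Q : Set G) ↔
      g * c * g⁻¹ ∈ Subgroup.centralizer (Q1 : Set G) := by
    intro c
    rw [Subgroup.mem_centralizer_iff, Subgroup.mem_centralizer_iff]
    constructor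
    · intro hc z hz
      have hz' := (hQ1 z).1 hz
      have h1 := hc _ hz'
      calc z * (g * c * g⁻¹) = g * ((g⁻¹ * z * g) * c) * g⁻¹ := by group
        _ = g * (c * (g⁻¹ * z * g)) * g⁻¹ := by rw [h1]
        _ = g * c * g⁻¹ * z := by group
    · intro hc q hq
      have hz : g * q * g⁻¹ ∈ Q1 := by
        rw [hQ1]
        have : g⁻¹ * (g * q * g⁻¹) * g = q := by group
        rw [this]; exact hq
      have h1 := hc _ hz
      calc q * c = g⁻¹ * ((g * q * g⁻¹) * (g * c * g⁻¹)) * g := by group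
        _ = g⁻¹ * ((g * c * g⁻¹) * (g * q * g⁻¹)) * g := by rw [h1]
        _ = c * q := by group
  have hN : ∀ x, x ∈ Subgroup.normalizer (Q : Set G) →
      g * x * g⁻¹ ∈ Subgroup.normalizer (Q1 : Set G) := by
    intro x hx
    rw [Subgroup.mem_normalizer_iff] at hx ⊢
    intro z
    rw [hQ1, hQ1, hx (g⁻¹ * z * g)]
    have : x * (g⁻¹ * z * g) * x⁻¹ = g⁻¹ * (g * x * g⁻¹ * z * (g * x * g⁻¹)⁻¹) * g := by group
    rw [this]
  obtain ⟨hcomm, hinv⟩ := h
  refine ⟨⟨⟨fun a b => ?_⟩⟩, ?_⟩
  · apply Subtype.ext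
    have ha := (hC a).1 a.2
    have hb := (hC b).1 b.2
    have h1 := hcomm.is_comm.comm (⟨_, ha⟩ : Subgroup.centralizer (Q1 : Set G)) ⟨_, hb⟩
    have h2 : g * a * g⁻¹ * (g * b * g⁻¹) = g * b * g⁻¹ * (g * a * g⁻¹) := congrArg Subtype.val h1
    calc (a : G) * b = g⁻¹ * (g * a * g⁻¹ * (g * b * g⁻¹)) * g := by group
      _ = g⁻¹ * (g * b * g⁻¹ * (g * a * g⁻¹)) * g := by rw [h2]
      _ = b * a := by group
  · intro x hxN hxC
    have hxN' := hN x hxN
    have hxC' : g * x * g⁻¹ ∉ Subgroup.centralizer (Q1 : Set G) := fun h' => hxC ((hC x).2 h')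
    obtain ⟨ho, hi⟩ := hinv _ hxN' hxC'
    refine ⟨?_, ?_⟩
    · rw [← ho]
      exact ((MulAut.conj g).orderOf_eq x).symm
    · intro c hc
      have h1 := hi _ ((hC c).1 hc)
      calc x * c * x⁻¹ = g⁻¹ * (g * x * g⁻¹ * (g * c * g⁻¹) * (g * x * g⁻¹)⁻¹) * g := by group
        _ = g⁻¹ * (g * c * g⁻¹)⁻¹ * g := by rw [h1]
        _ = c⁻¹ := by group

theorem mem_of_pow_eq_one {G : Type*} [Group G] [Finite G] {S' Q : Subgroup G}
    (hcyc : IsCyclic S') (hQS : Q ≤ S') (hQ : Nat.card Q = p) {y : G} (hy : y ∈ S')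
    (hyp : y ^ p = 1) : y ∈ Q := by
  classical
  have := Fintype.ofFinite S'
  have hT : (Finset.univ.filter (fun z : S' => z ^ p = 1)).card ≤ p :=
    IsCyclic.card_pow_eq_one_le hp.out.pos
  set A : Finset S' := Finset.univ.filter (fun z : S' => (z : G) ∈ Q) with hA
  have hAT : A ⊆ Finset.univ.filter (fun z : S' => z ^ p = 1) := by
    intro z hz
    rw [hA, Finset.mem_filter] at hz
    rw [Finset.mem_filter]
    refine ⟨Finset.mem_univ _, ?_⟩
    have h1 : (⟨(z : G), hz.2⟩ : Q) ^ Nat.card Q = 1 := pow_card_eq_one'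
    rw [hQ] at h1
    apply Subtype.ext
    have := congrArg Subtype.val h1
    simpa using this
  have hAcard : A.card = p := by
    rw [← hQ, hA, ← Fintype.card_subtype, ← Nat.card_eq_fintype_card]
    exact Nat.card_congr (Subgroup.subgroupOfEquivOfLe hQS).toEquiv
  have hAeq : A = Finset.univ.filter (fun z : S' => z ^ p = 1) :=
    Finset.eq_of_subset_of_card_le hAT (by rw [hAcard]; exact hT)
  have hmem : (⟨y, hy⟩ : S') ∈ A := by
    rw [hAeq, Finset.mem_filter]
    exact ⟨Finset.mem_univ _, Subtype.ext (by simpa using hyp)⟩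
  rw [hA, Finset.mem_filter] at hmem
  exact hmem.2

theorem comm_of_isCyclic {G : Type*} [Group G] {P' : Subgroup G} (hc : IsCyclic P') {a b : G}
    (ha : a ∈ P') (hb : b ∈ P') : a * b = b * a := by
  obtain ⟨g, hg⟩ := hc.exists_generator
  obtain ⟨i, hi⟩ := Subgroup.mem_zpowers_iff.1 (hg ⟨a, ha⟩)
  obtain ⟨j, hj⟩ := Subgroup.mem_zpowers_iff.1 (hg ⟨b, hb⟩)
  have : (⟨a, ha⟩ : P') * ⟨b, hb⟩ = ⟨b, hb⟩ * ⟨a, ha⟩ := by
    rw [← hi, ← hj, ← zpow_add, ← zpow_add, add_comm]
  exact congrArg Subtype.val this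

/-- The sufficient conditions. -/
theorem restricted_of_rhs {G : Type*} [Group G] [Finite G] (hp2 : p ≠ 2) (P : Sylow p G)
    (hcyc : IsCyclic (P : Subgroup G))
    (hrhs : Subgroup.normalizer ((P : Subgroup G) : Set G) ≤
        Subgroup.centralizer ((P : Subgroup G) : Set G) ∨
      ∀ Q : Subgroup G, Q ≤ P → Nat.card Q = p → Cond Q) : Restricted p G := by
  classical
  intro H h1 h2
  obtain ⟨S⟩ : Nonempty (Sylow p ↥H) := inferInstance
  have hSn : (S : Subgroup ↥H).Normal := h1 S
  have hSc : IsCyclic (↥H ⧸ (S : Subgroup ↥H)) := h2 S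
  have hcop : (Nat.card (S : Subgroup ↥H)).Coprime (S : Subgroup ↥H).index := S.card_coprime_index
  -- the image of S in G
  set S' : Subgroup G := (S : Subgroup ↥H).map H.subtype with hS'
  have hS'H : S' ≤ H := by
    rw [hS']; exact Subgroup.map_subtype_le _
  have hmemS' : ∀ z : ↥H, z ∈ (S : Subgroup ↥H) ↔ (z : G) ∈ S' := by
    intro z
    rw [hS', Subgroup.mem_map]
    constructor
    · intro hz; exact ⟨z, hz, rfl⟩
    · rintro ⟨w, hw, hwz⟩
      have : w = z := Subtype.ext hwz
      rw [← this]; exact hw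
  have hS'p : IsPGroup p S' := by
    rw [hS']; exact S.isPGroup'.map _
  obtain ⟨P', hP'⟩ := hS'p.exists_le_sylow
  have hP'cyc : IsCyclic (P' : Subgroup G) := by
    have e := Sylow.equiv P P'
    exact isCyclic_of_surjective e e.surjective
  have hS'cyc : IsCyclic S' := by
    let f : S' →* (P' : Subgroup G) := Subgroup.inclusion hP'
    exact isCyclic_of_injective f (Subgroup.inclusion_injective hP')
  have hScyc : IsCyclic (S : Subgroup ↥H) := by
    have e := (S : Subgroup ↥H).equivMapOfInjective H.subtype H.subtype_injective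
    exact isCyclic_of_surjective e.symm e.symm.surjective
  -- normality of S' in H
  have hS'norm : ∀ h ∈ H, ∀ s ∈ S', h * s * h⁻¹ ∈ S' := by
    intro h hh s hs
    have hs' : (⟨s, hS'H hs⟩ : ↥H) ∈ (S : Subgroup ↥H) := (hmemS' _).2 hs
    have := hSn.conj_mem _ hs' ⟨h, hh⟩
    exact (hmemS' _).1 this
  -- commutative case
  have hcommcase : (∀ a b : ↥H, a * b = b * a) → IsCyclic ↥H := fun hcomm =>
    isCyclic_of_comm hcomm (S : Subgroup ↥H) hScyc hSc hcop
  have hcentcase : (∀ h ∈ H, ∀ s ∈ S', h * s = s * h) → IsCyclic ↥H := by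
    intro hcent
    apply hcommcase
    have hmc : IsMulCommutative ↥H := by
      apply MonoidHom.isMulCommutative_of_isCyclic_of_ker_le_center
        (QuotientGroup.mk' (S : Subgroup ↥H))
      rw [QuotientGroup.ker_mk']
      intro s hs
      rw [Subgroup.mem_center_iff]
      intro h
      apply Subtype.ext
      exact hcent h h.2 s ((hmemS' s).1 hs)
    exact fun a b => hmc.is_comm.comm a b
  rcases hrhs with hNC | hCond
  · -- Burnside
    left
    apply hcentcase
    intro h hh s hs
    set φ := MonoidHom.transferSylow P hNC with hφ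
    have hcompl := MonoidHom.ker_transferSylow_isComplement' P hNC
    have hcard := hcompl.card_mul_card
    have hKcop : (Nat.card φ.ker).Coprime p := by
      have h3 := (P : Subgroup G).card_mul_index
      have h4 : Nat.card φ.ker = (P : Subgroup G).index := by
        have hpos : 0 < Nat.card (P : Subgroup G) := Nat.card_pos
        have : Nat.card φ.ker * Nat.card (P : Subgroup G) =
            (P : Subgroup G).index * Nat.card (P : Subgroup G) := by
          rw [hcard, ← h3]; ring
        exact Nat.eq_of_mul_eq_mul_right hpos this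
      rw [h4]
      exact (Nat.Prime.coprime_iff_not_dvd hp.out).2 P.not_dvd_index |>.symm
    set c := h * s * h⁻¹ * s⁻¹ with hc
    have hcS : c ∈ S' := S'.mul_mem (hS'norm h hh s hs) (S'.inv_mem hs)
    have hcK : c ∈ φ.ker := by
      rw [MonoidHom.mem_ker, hc]
      have hPcomm : ∀ a b : (P : Subgroup G), a * b = b * a := fun a b =>
        Subtype.ext (comm_of_isCyclic hcyc a.2 b.2)
      simp only [map_mul, map_inv]
      rw [hPcomm (φ h) (φ s)]
      group
    have hc1 : c = 1 := by
      obtain ⟨k, hk⟩ := hS'p ⟨c, hcS⟩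
      have h5 : c ^ p ^ k = 1 := by
        have := congrArg Subtype.val hk
        simpa using this
      have h6 : orderOf c ∣ p ^ k := orderOf_dvd_of_pow_eq_one h5
      have h7 : orderOf c ∣ Nat.card φ.ker := Subgroup.orderOf_dvd_natCard _ hcK
      have h8 : (p ^ k).Coprime (Nat.card φ.ker) := (Nat.Coprime.pow_right k hKcop).symm
      exact orderOf_eq_one_iff.1 (Nat.eq_one_of_dvd_coprimes h8 h6 h7)
    calc h * s = c * (s * h) := by rw [hc]; group
      _ = s * h := by rw [hc1, one_mul]
  · -- the dihedral case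
    by_cases hbot : (S : Subgroup ↥H) = ⊥
    · left
      have e : (↥H ⧸ (S : Subgroup ↥H)) ≃* ↥H :=
        (QuotientGroup.quotientMulEquivOfEq hbot).trans QuotientGroup.quotientBot
      exact isCyclic_of_surjective e e.surjective
    -- a subgroup of order p
    have hpS : p ∣ Nat.card (S : Subgroup ↥H) := by
      obtain ⟨k, hk⟩ := IsPGroup.iff_card.1 S.isPGroup'
      rw [hk]
      rcases Nat.eq_zero_or_pos k with h0 | h0
      · exfalso
        rw [h0, pow_zero] at hk
        exact hbot ((Subgroup.eq_bot_iff_card _).2 hk)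
      · exact dvd_pow_self p h0.ne'
    obtain ⟨z, hz⟩ := exists_prime_orderOf_dvd_card' (G := (S : Subgroup ↥H)) p hpS
    set z' : G := ((z : ↥H) : G) with hz'
    have hz'o : orderOf z' = p := by
      rw [hz', Subgroup.orderOf_coe, Subgroup.orderOf_coe, hz]
    have hz'S : z' ∈ S' := (hmemS' _).1 z.2
    set Q : Subgroup G := Subgroup.zpowers z' with hQ
    have hQcard : Nat.card Q = p := by rw [hQ, Nat.card_zpowers, hz'o]
    have hQS : Q ≤ S' := by rw [hQ, Subgroup.zpowers_le]; exact hz'S
    -- Cond Q by conjugation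
    have hCondQ : Cond Q := by
      obtain ⟨g, hg⟩ := MulAction.exists_smul_eq G P' P
      apply cond_of_conj g
      apply hCond
      · intro y hy
        rw [Subgroup.mem_map] at hy
        obtain ⟨q, hq, rfl⟩ := hy
        have hqP' : q ∈ (P' : Subgroup G) := hP' (hQS hq)
        have : (MulAut.conj g).toMonoidHom q ∈ ((g • P' : Sylow p G) : Subgroup G) := by
          rw [Sylow.coe_subgroup_smul]
          exact Subgroup.smul_mem_pointwise_smul q (MulAut.conj g) _ hqP'
        rw [hg] at this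
        exact this
      · rw [Subgroup.card_map_of_injective (MulAut.conj g).injective]
        exact hQcard
    obtain ⟨hCcomm, hCinv⟩ := hCondQ
    set C := Subgroup.centralizer (Q : Set G) with hC
    -- H normalizes Q
    have hconjQ : ∀ h ∈ H, ∀ q ∈ Q, h * q * h⁻¹ ∈ Q := by
      intro h hh q hq
      apply mem_of_pow_eq_one hS'cyc hQS hQcard (hS'norm h hh q (hQS hq))
      have h1 : q ^ p = 1 := by
        have : (⟨q, hq⟩ : Q) ^ Nat.card Q = 1 := pow_card_eq_one'
        rw [hQcard] at this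
        have := congrArg Subtype.val this
        simpa using this
      rw [conj_pow, h1]; group
    have hHN : H ≤ Subgroup.normalizer (Q : Set G) := by
      intro h hh
      rw [Subgroup.mem_normalizer_iff]
      intro q
      constructor
      · exact hconjQ h hh q
      · intro hq
        have := hconjQ h⁻¹ (H.inv_mem hh) _ hq
        have h2 : h⁻¹ * (h * q * h⁻¹) * h⁻¹⁻¹ = q := by group
        rwa [h2] at this
    have hS'C : S' ≤ C := by
      intro s hs
      rw [hC, Subgroup.mem_centralizer_iff]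
      intro q hq
      exact comm_of_isCyclic hP'cyc (hP' (hQS hq)) (hP' hs)
    by_cases hHC : H ≤ C
    · left
      apply hcommcase
      intro a b
      apply Subtype.ext
      have h3 := hCcomm.is_comm.comm (⟨a, hHC a.2⟩ : C) ⟨b, hHC b.2⟩
      have h4 : (a : G) * (b : G) = (b : G) * (a : G) := congrArg Subtype.val h3
      exact h4
    right
    obtain ⟨x, hxH, hxC⟩ := SetLike.not_le_iff_exists.1 hHC
    obtain ⟨hxo, hxinv⟩ := hCinv x (hHN hxH) hxC
    have hxx : x * x = 1 := by
      have := pow_orderOf_eq_one x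
      rwa [hxo, pow_two] at this
    have hxinv' : x⁻¹ = x := inv_eq_self_of_mul_self hxx
    have hQC : Q ≤ C := hQS.trans hS'C
    -- covering
    have hcovC : ∀ h ∈ H, h ∈ C ∨ x * h ∈ C := by
      intro h hh
      by_cases hhC : h ∈ C
      · exact Or.inl hhC
      right
      obtain ⟨-, hhinv⟩ := hCinv h (hHN hh) hhC
      rw [hC]
      apply mem_centralizer_of_comm
      intro q hq
      have h3 := hhinv q (hQC hq)
      have h4 := hxinv q⁻¹ (C.inv_mem (hQC hq))
      rw [inv_inv] at h4
      have h5 : x * h * q * (x * h)⁻¹ = q := by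
        calc x * h * q * (x * h)⁻¹ = x * (h * q * h⁻¹) * x⁻¹ := by group
          _ = q := by rw [h3, h4]
      calc x * h * q = (x * h * q * (x * h)⁻¹) * (x * h) := by group
        _ = q * (x * h) := by rw [h5]
    have hxS' : x ∉ S' := fun h => hxC (hS'C h)
    -- H ∩ C ≤ S'
    have hHCS : ∀ h ∈ H, h ∈ C → h ∈ S' := by
      intro h hh hhC
      by_contra hnS
      have := Fintype.ofFinite (↥H ⧸ (S : Subgroup ↥H))
      have hle := IsCyclic.card_pow_eq_one_le (α := ↥H ⧸ (S : Subgroup ↥H)) (n := 2) (by norm_num)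
      set xb : ↥H ⧸ (S : Subgroup ↥H) := QuotientGroup.mk ⟨x, hxH⟩ with hxb
      set hb : ↥H ⧸ (S : Subgroup ↥H) := QuotientGroup.mk ⟨h, hh⟩ with hhb
      have hxb2 : xb ^ 2 = 1 := by
        rw [hxb, ← QuotientGroup.mk_pow, pow_two]
        have : (⟨x, hxH⟩ : ↥H) * ⟨x, hxH⟩ = 1 := Subtype.ext hxx
        rw [this]; rfl
      have hhb2 : hb ^ 2 = 1 := by
        rw [hhb, ← QuotientGroup.mk_pow, QuotientGroup.eq_one_iff, hmemS']
        -- h^2 ∈ S' : h⁻² = [x,h]
        have h3 := hxinv h hhC
        have h4 : x * h * x⁻¹ * h⁻¹ ∈ S' := by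
          -- commutator lies in S since quotient commutative
          have hq : (QuotientGroup.mk (⟨x, hxH⟩ * ⟨h, hh⟩ * (⟨x, hxH⟩ : ↥H)⁻¹ * (⟨h, hh⟩ : ↥H)⁻¹) :
              ↥H ⧸ (S : Subgroup ↥H)) = 1 := by
            simp only [QuotientGroup.mk_mul, QuotientGroup.mk_inv]
            obtain ⟨g, hg⟩ := hSc.exists_generator
            obtain ⟨i, hi⟩ := Subgroup.mem_zpowers_iff.1 (hg (QuotientGroup.mk ⟨x, hxH⟩))
            obtain ⟨j, hj⟩ := Subgroup.mem_zpowers_iff.1 (hg (QuotientGroup.mk ⟨h, hh⟩))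
            rw [← hi, ← hj, ← zpow_add, ← zpow_neg, ← zpow_add, ← zpow_neg, ← zpow_add]
            have : i + j + -i + -j = 0 := by ring
            rw [this, zpow_zero]
          rw [QuotientGroup.eq_one_iff, hmemS'] at hq
          exact hq
        rw [h3] at h4
        have h5 := S'.inv_mem h4
        have h6 : (h⁻¹ * h⁻¹)⁻¹ = h ^ 2 := by rw [pow_two, mul_inv_rev, inv_inv]
        rw [h6] at h5
        exact h5
      have hxb1 : xb ≠ 1 := by
        rw [hxb, Ne, QuotientGroup.eq_one_iff, hmemS']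
        exact hxS'
      have hhb1 : hb ≠ 1 := by
        rw [hhb, Ne, QuotientGroup.eq_one_iff, hmemS']
        exact hnS
      have hxh : xb ≠ hb := by
        rw [hxb, hhb, Ne, QuotientGroup.eq, hmemS']
        intro h7
        apply hxC
        have h8 : x⁻¹ * h ∈ C := hS'C h7
        have h9 := C.mul_mem hhC (C.inv_mem h8)
        have h10 : h * (x⁻¹ * h)⁻¹ = x := by group
        rwa [h10] at h9
      have hsub : ({1, xb, hb} : Finset (↥H ⧸ (S : Subgroup ↥H))) ⊆
          Finset.univ.filter (fun a : ↥H ⧸ (S : Subgroup ↥H) => a ^ 2 = 1) := by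
        intro a ha
        rw [Finset.mem_filter]
        refine ⟨Finset.mem_univ _, ?_⟩
        simp only [Finset.mem_insert, Finset.mem_singleton] at ha
        rcases ha with rfl | rfl | rfl
        · exact one_pow 2
        · exact hxb2
        · exact hhb2
      have hcard3 : ({1, xb, hb} : Finset (↥H ⧸ (S : Subgroup ↥H))).card = 3 := by
        rw [Finset.card_insert_of_notMem, Finset.card_insert_of_notMem, Finset.card_singleton]
        · simpa using hxh
        · simp only [Finset.mem_insert, Finset.mem_singleton, not_or]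
          exact ⟨fun h => hxb1 h.symm, fun h => hhb1 h.symm⟩
      have := Finset.card_le_card hsub
      omega
    have hcov : ∀ h ∈ H, h ∈ S' ∨ x * h ∈ S' := by
      intro h hh
      rcases hcovC h hh with h3 | h3
      · exact Or.inl (hHCS h hh h3)
      · exact Or.inr (hHCS (x * h) (H.mul_mem hxH hh) h3)
    obtain ⟨e⟩ := dihedral_of_inverting H S' hS'H hS'cyc x hxH hxx hxS'
      (fun s hs => hxinv s (hS'C hs)) hcov
    obtain ⟨k, hk⟩ := IsPGroup.iff_card.1 hS'p
    rw [hk] at e
    exact ⟨k, ⟨e⟩⟩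

end Cfsg.Agent.Helper3.PByCyc
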