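import Mathlib
import Cfsg.Agent.Helper3.PByCycC

/-!
# `2`-by-cyclic subgroups: the necessary conditions
-/

set_option autoImplicit false

namespace Cfsg.Agent.Helper3.PByCyc

/-- The hypothesis for `p = 2`. -/
def Restricted2 (G : Type*) [Group G] : Prop :=
  ∀ H : Subgroup G, (∀ S : Sylow 2 ↥H, (S : Subgroup ↥H).Normal) →
    (∀ (S : Sylow 2 ↥H) [(S : Subgroup ↥H).Normal], IsCyclic (↥H ⧸ (S : Subgroup ↥H))) →
    IsCyclic H ∨ (∃ n : ℕ, Nonempty (H ≃* DihedralGroup (2 ^ n))) ∨
      Nonempty (H ≃* alternatingGroup (Fin 4))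

theorem a4_not_comm : ∃ a b : alternatingGroup (Fin 4), a * b ≠ b * a := by
  refine ⟨⟨Equiv.swap 0 1 * Equiv.swap 1 2, Equiv.Perm.mem_alternatingGroup.2 (by decide)⟩,
    ⟨Equiv.swap 0 1 * Equiv.swap 1 3, Equiv.Perm.mem_alternatingGroup.2 (by decide)⟩, ?_⟩
  intro h
  have := congrArg Subtype.val h
  revert this
  decide

theorem dihedral_comm_le_two {m : ℕ} (h : ∀ a b : DihedralGroup m, a * b = b * a) : m ∣ 2 := by
  have h1 := h (DihedralGroup.r 1) (DihedralGroup.sr 0)
  rw [DihedralGroup.r_mul_sr, DihedralGroup.sr_mul_r] at h1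
  have h2 : (0 : ZMod m) - 1 = 0 + 1 := by
    injection h1
  have h3 : ((2 : ℕ) : ZMod m) = 0 := by
    have : (2 : ZMod m) = (0 + 1) - (0 - 1) := by ring
    rw [← h2] at this
    simpa using this
  exact (ZMod.natCast_eq_zero_iff 2 m).1 h3

theorem Restricted2.sylow {G : Type*} [Group G] [Finite G] (hR : Restricted2 G) (P : Sylow 2 G) :
    IsCyclic (P : Subgroup G) ∨
      ∃ n : ℕ, 1 ≤ n ∧ Nonempty ((P : Subgroup G) ≃* DihedralGroup (2 ^ n)) := by
  have hp : Fact (Nat.Prime 2) := ⟨Nat.prime_two⟩
  have hP' : IsPGroup 2 (⊤ : Subgroup (P : Subgroup G)) := P.isPGroup'.to_subgroup _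
  have hc : IsCyclic ((P : Subgroup G) ⧸ (⊤ : Subgroup (P : Subgroup G))) := by
    have := QuotientGroup.subsingleton_quotient_top (G := (P : Subgroup G))
    exact isCyclic_of_subsingleton
  obtain ⟨h1, h2⟩ := pByCyclic_of_normal (⊤ : Subgroup (P : Subgroup G)) hP' hc
  rcases hR (P : Subgroup G) h1 h2 with hcyc | ⟨n, ⟨e⟩⟩ | ⟨⟨e⟩⟩
  · exact Or.inl hcyc
  · rcases Nat.eq_zero_or_pos n with h0 | h0
    · left
      have h3 : Nat.card (P : Subgroup G) = 2 := by
        rw [Nat.card_congr e.toEquiv, DihedralGroup.nat_card, h0]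
        norm_num
      have : Fact (Nat.card (P : Subgroup G)).Prime := ⟨by rw [h3]; exact Nat.prime_two⟩
      exact isCyclic_of_prime_card rfl
    · exact Or.inr ⟨n, h0, ⟨e⟩⟩
  · exfalso
    obtain ⟨k, hk⟩ := IsPGroup.iff_card.1 P.isPGroup'
    have h3 : Nat.card (P : Subgroup G) = 12 := by
      rw [Nat.card_congr e.toEquiv, nat_card_alternatingGroup, Nat.card_fin]
      decide
    rw [hk] at h3
    have h4 : 3 ∣ 2 ^ k := ⟨4, by rw [h3]⟩
    have h5 : 3 ∣ 2 := Nat.Prime.dvd_of_dvd_pow Nat.prime_three h4
    omega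

/-- Under `Restricted2`, four-groups are self-centralizing. -/
theorem Restricted2.four {G : Type*} [Group G] [Finite G] (hR : Restricted2 G) (K : Subgroup G)
    (hK4 : Nat.card K = 4) (hK2 : ∀ k ∈ K, k ^ 2 = 1) :
    Subgroup.centralizer (K : Set G) = K := by
  have hp : Fact (Nat.Prime 2) := ⟨Nat.prime_two⟩
  have hKcomm : ∀ a ∈ K, ∀ b ∈ K, a * b = b * a := by
    intro a ha b hb
    have h1 := hK2 a ha
    have h2 := hK2 b hb
    have h3 := hK2 (a * b) (K.mul_mem ha hb)
    rw [pow_two] at h1 h2 h3
    have h4 : a⁻¹ = a := inv_eq_of_mul_eq_one_left h1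
    have h5 : b⁻¹ = b := inv_eq_of_mul_eq_one_left h2
    have h6 : (a * b)⁻¹ = a * b := inv_eq_of_mul_eq_one_left h3
    rw [mul_inv_rev, h4, h5] at h6
    exact h6.symm
  apply le_antisymm
  · intro c hc
    have hcN : c ∈ Subgroup.normalizer (K : Set G) := Subgroup.centralizer_le_normalizer _ hc
    set H := K ⊔ Subgroup.zpowers c with hH
    have hKH : K ≤ H := le_sup_left
    have hcH : c ∈ H := le_sup_right (a := K) (Subgroup.mem_zpowers c)
    obtain ⟨hn, hcyc⟩ := sup_zpowers_normal_cyclic K c hcN
    have hK2g : IsPGroup 2 K := IsPGroup.of_card (n := 2) (by rw [hK4]; norm_num)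
    have hK' : IsPGroup 2 (K.subgroupOf H) := hK2g.comap_subtype
    obtain ⟨h1, h2⟩ := pByCyclic_of_normal (K.subgroupOf H) hK' hcyc
    -- H is commutative
    rw [Subgroup.mem_centralizer_iff] at hc
    have hHcomm : ∀ a ∈ H, ∀ b ∈ H, a * b = b * a := by
      have hZ : ∀ a ∈ H, a ∈ Subgroup.centralizer ((K : Set G) ∪ {c}) := by
        intro a ha
        have hle : H ≤ Subgroup.centralizer ((K : Set G) ∪ {c}) := by
          apply sup_le
          · intro k hk
            rw [Subgroup.mem_centralizer_iff]
            rintro y (hy | hy)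
            · exact hKcomm y hy k hk
            · rw [Set.mem_singleton_iff] at hy
              rw [hy]; exact (hc k hk).symm
          · rw [Subgroup.zpowers_le, Subgroup.mem_centralizer_iff]
            rintro y (hy | hy)
            · exact hc y hy
            · rw [Set.mem_singleton_iff] at hy
              rw [hy]
        exact hle ha
      intro a ha b hb
      have ha' := hZ a ha
      rw [Subgroup.mem_centralizer_iff] at ha'
      have hle : H ≤ Subgroup.centralizer ({a} : Set G) := by
        apply sup_le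
        · intro k hk
          rw [Subgroup.mem_centralizer_iff]
          intro y hy
          rw [Set.mem_singleton_iff] at hy
          rw [hy]
          exact (ha' k (Or.inl hk)).symm
        · rw [Subgroup.zpowers_le, Subgroup.mem_centralizer_iff]
          intro y hy
          rw [Set.mem_singleton_iff] at hy
          rw [hy]
          exact (ha' c (Or.inr rfl)).symm
      have := hle hb
      rw [Subgroup.mem_centralizer_iff] at this
      exact this a rfl
    rcases hR H h1 h2 with hHc | ⟨n, ⟨e⟩⟩ | ⟨⟨e⟩⟩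
    · exfalso
      have hKc : IsCyclic (K.subgroupOf H) := inferInstance
      obtain ⟨g, hg⟩ := hKc.exists_generator
      have ho : orderOf g = 4 := by
        rw [orderOf_eq_card_of_forall_mem_zpowers hg,
          Nat.card_congr (Subgroup.subgroupOfEquivOfLe hKH).toEquiv, hK4]
      have hg2 : g ^ 2 = 1 := by
        apply Subtype.ext
        apply Subtype.ext
        have := hK2 ((g : H) : G) g.2
        simpa using this
      have := orderOf_dvd_of_pow_eq_one hg2
      rw [ho] at this
      omega
    · have h3 : ∀ a b : DihedralGroup (2 ^ n), a * b = b * a := by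
        intro a b
        have := hHcomm (e.symm a : H) (e.symm a).2 (e.symm b : H) (e.symm b).2
        have h4 : e.symm a * e.symm b = e.symm b * e.symm a := Subtype.ext this
        have h5 := congrArg e h4
        simpa using h5
      have h4 := dihedral_comm_le_two h3
      have h5 : Nat.card H ≤ 4 := by
        rw [Nat.card_congr e.toEquiv, DihedralGroup.nat_card]
        have := Nat.le_of_dvd (by norm_num) h4
        omega
      have h6 : K = H := Subgroup.eq_of_le_of_card_ge hKH (by rw [hK4]; exact h5)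
      rw [h6]; exact hcH
    · exfalso
      obtain ⟨a, b, hab⟩ := a4_not_comm
      apply hab
      have := hHcomm (e.symm a : H) (e.symm a).2 (e.symm b : H) (e.symm b).2
      have h4 : e.symm a * e.symm b = e.symm b * e.symm a := Subtype.ext this
      have h5 := congrArg e h4
      simpa using h5
  · intro k hk
    rw [Subgroup.mem_centralizer_iff]
    intro y hy
    exact hKcomm y hy k hk

end Cfsg.Agent.Helper3.PByCyc
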