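import Mathlib
import Cfsg.Agent.Helper3.PByCycD
import Cfsg.Agent.Helper2.DihSub

/-!
# `2`-by-cyclic subgroups: tools for the sufficient conditions
-/

set_option autoImplicit false

namespace Cfsg.Agent.Helper3.PByCyc

theorem pow_index_mem {K : Type*} [Group K] [Finite K] (S : Subgroup K) [S.Normal] (h : K) :
    h ^ S.index ∈ S := by
  rw [← QuotientGroup.eq_one_iff, QuotientGroup.mk_pow, Subgroup.index_eq_card]
  exact pow_card_eq_one'

/-- If all automorphisms of odd order of a normal subgroup `S` of odd index are trivial, then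
every element of the group acts on `S` as an element of `S`. -/
theorem exists_mul_centralizes {K : Type*} [Group K] [Finite K] (S : Subgroup K) [S.Normal]
    (hodd : Odd S.index)
    (haut : ∀ (β : MulAut S) (t : ℕ), Odd t → β ^ t = 1 → β = 1) (h : K) :
    ∃ s ∈ S, ∀ y ∈ S, (h * s⁻¹) * y = y * (h * s⁻¹) := by
  set t := S.index with ht
  set β : MulAut S := MulAut.conjNormal h with hβ
  have ho : 0 < orderOf β := orderOf_pos β
  obtain ⟨k, u, hu, hku⟩ := Nat.exists_eq_two_pow_mul_odd ho.ne'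
  have h1 : (β ^ 2 ^ k) ^ u = 1 := by rw [← pow_mul, ← hku, pow_orderOf_eq_one]
  have h2 : β ^ 2 ^ k = 1 := haut _ u hu h1
  have hcop : Nat.Coprime t (2 ^ k) := by
    apply Nat.Coprime.pow_right
    rw [Nat.coprime_two_right]
    exact hodd
  -- find m with t * m ≡ 1 mod 2^k
  obtain ⟨m, hm⟩ : ∃ m : ℕ, β ^ (t * m) = β := by
    rcases Nat.lt_or_ge 1 (2 ^ k) with hk1 | hk1
    · obtain ⟨m, -, hm⟩ := Nat.exists_mul_mod_eq_one_of_coprime hcop hk1
      refine ⟨m, ?_⟩
      have h3 : t * m = 2 ^ k * (t * m / 2 ^ k) + 1 := by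
        have := Nat.div_add_mod (t * m) (2 ^ k)
        omega
      rw [h3, pow_add, pow_mul, h2, one_pow, one_mul, pow_one]
    · have h3 : 2 ^ k = 1 := le_antisymm hk1 Nat.one_le_two_pow
      rw [h3, pow_one] at h2
      refine ⟨0, ?_⟩
      rw [h2, one_pow]
  set s := h ^ (t * m) with hs
  have hsS : s ∈ S := by
    rw [hs, pow_mul]
    exact S.pow_mem (pow_index_mem S h) m
  refine ⟨s, hsS, ?_⟩
  intro y hy
  have h4 : MulAut.conjNormal (H := S) s = β := by
    rw [hs, map_pow, ← hβ, hm]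
  have h5 : MulAut.conjNormal (H := S) (h * s⁻¹) = 1 := by
    rw [map_mul, map_inv, h4, ← hβ, mul_inv_cancel]
  have h6 := congrArg (fun γ : MulAut S => ((γ ⟨y, hy⟩ : S) : K)) h5
  simp only [MulAut.conjNormal_apply, MulAut.one_apply] at h6
  calc h * s⁻¹ * y = (h * s⁻¹ * y * (h * s⁻¹)⁻¹) * (h * s⁻¹) := by group
    _ = y * (h * s⁻¹) := by rw [h6]

open DihedralGroup in
/-- The structure of a finite group embedded in a dihedral group. -/
theorem dih_sub_structure {Q : Type*} [Group Q] [Finite Q] (m : ℕ) [NeZero m]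
    (f : Q →* DihedralGroup m) (hf : Function.Injective f) :
    IsCyclic Q ∨ ∃ C₀ : Subgroup Q, IsCyclic C₀ ∧ C₀.index = 2 ∧ (∀ q, q ∉ C₀ → q * q = 1) ∧
      ∀ q, q ∉ C₀ → ∀ c ∈ C₀, q * c * q⁻¹ = c⁻¹ := by
  set C₀ := (Cfsg.Agent.Helper2.DihSub.rot m).comap f with hC₀
  have hC₀c : IsCyclic C₀ := by
    have : IsCyclic (Cfsg.Agent.Helper2.DihSub.rot m) := by
      unfold Cfsg.Agent.Helper2.DihSub.rot; infer_instance
    let f' : C₀ →* Cfsg.Agent.Helper2.DihSub.rot m :=
      { toFun := fun c => ⟨f c.1, c.2⟩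
        map_one' := by ext; simp
        map_mul' := fun a b => by ext; simp }
    apply isCyclic_of_injective f'
    intro a b hab
    have : f a.1 = f b.1 := congrArg Subtype.val hab
    exact Subtype.ext (hf this)
  by_cases htop : C₀ = ⊤
  · left
    have e : C₀ ≃* Q := (MulEquiv.subgroupCongr htop).trans Subgroup.topEquiv
    exact isCyclic_of_surjective e e.surjective
  right
  refine ⟨C₀, hC₀c, ?_, ?_, ?_⟩
  · have hnorm : (Cfsg.Agent.Helper2.DihSub.rot m).Normal :=
      Subgroup.normal_of_index_eq_two (Cfsg.Agent.Helper2.DihSub.rot_index m)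
    rw [hC₀, Subgroup.index_comap]
    have h1 : (Cfsg.Agent.Helper2.DihSub.rot m).relIndex f.range ∣ 2 := by
      rw [← Cfsg.Agent.Helper2.DihSub.rot_index m]
      exact Subgroup.relIndex_dvd_index_of_normal _ f.range
    rcases (Nat.dvd_prime Nat.prime_two).mp h1 with h2 | h2
    · exfalso
      apply htop
      rw [Subgroup.relIndex_eq_one] at h2
      rw [eq_top_iff]
      intro q _
      exact h2 ⟨q, rfl⟩
    · exact h2
  · intro q hq
    have h1 : f q ∉ Cfsg.Agent.Helper2.DihSub.rot m := hq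
    rw [Cfsg.Agent.Helper2.DihSub.mem_rot_iff] at h1
    push Not at h1
    apply hf
    rw [map_mul, map_one]
    rcases hfq : f q with j | i
    · exact absurd hfq (h1 j)
    · rw [sr_mul_sr, sub_self, one_def]
  · intro q hq c hc
    have h1 : f q ∉ Cfsg.Agent.Helper2.DihSub.rot m := hq
    rw [Cfsg.Agent.Helper2.DihSub.mem_rot_iff] at h1
    push Not at h1
    have h2 : f c ∈ Cfsg.Agent.Helper2.DihSub.rot m := hc
    rw [Cfsg.Agent.Helper2.DihSub.mem_rot_iff] at h2
    obtain ⟨j, hj⟩ := h2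
    apply hf
    rw [map_mul, map_mul, map_inv, map_inv, hj]
    rcases hfq : f q with j' | i
    · exact absurd hfq (h1 j')
    · rw [inv_sr, inv_r, sr_mul_r, sr_mul_sr]
      congr 1
      ring

end Cfsg.Agent.Helper3.PByCyc
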