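import Mathlib
import Cfsg.Agent.Helper3.PByCycE
import Cfsg.Agent.S0228

/-!
# `2`-by-cyclic subgroups: the abstract core of the sufficient conditions
-/

set_option autoImplicit false

namespace Cfsg.Agent.Helper3.PByCyc

/-- Elements of exponent two commute. -/
theorem comm_of_sq {K : Type*} [Group K] {a b : K} (ha : a ^ 2 = 1) (hb : b ^ 2 = 1)
    (hab : (a * b) ^ 2 = 1) : a * b = b * a := by
  rw [pow_two] at ha hb hab
  have h4 : a⁻¹ = a := inv_eq_of_mul_eq_one_left ha
  have h5 : b⁻¹ = b := inv_eq_of_mul_eq_one_left hb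
  have h6 : (a * b)⁻¹ = a * b := inv_eq_of_mul_eq_one_left hab
  rw [mul_inv_rev, h4, h5] at h6
  exact h6.symm

/-- The cyclic case. -/
theorem core2_cyclic {K : Type*} [Group K] [Finite K] (S : Subgroup K) [S.Normal]
    (hS2 : IsPGroup 2 S) (hodd : Odd S.index) (hquot : IsCyclic (K ⧸ S)) (hcyc : IsCyclic S) :
    IsCyclic K := by
  have hScomm : ∀ a ∈ S, ∀ b ∈ S, a * b = b * a := fun a ha b hb => comm_of_isCyclic hcyc ha hb
  have hcent : ∀ h : K, ∀ y ∈ S, h * y = y * h := by
    intro h y hy
    obtain ⟨s, hsS, hc⟩ := exists_mul_centralizes S hodd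
      (fun β t ht hβ => Cfsg.Agent.Helper2.DihSub.cyclic_two_aut_odd_trivial hcyc hS2 β t ht hβ) h
    have h1 := hc y hy
    have h2 := hScomm s hsS y hy
    calc h * y = (h * s⁻¹) * (s * y) := by group
      _ = (h * s⁻¹) * (y * s) := by rw [h2]
      _ = ((h * s⁻¹) * y) * s := by group
      _ = (y * (h * s⁻¹)) * s := by rw [h1]
      _ = y * h := by group
  have hmc : IsMulCommutative K := by
    apply MonoidHom.isMulCommutative_of_isCyclic_of_ker_le_center (QuotientGroup.mk' S)
    rw [QuotientGroup.ker_mk']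
    intro s hs
    rw [Subgroup.mem_center_iff]
    intro h
    exact hcent h s hs
  have hcop : (Nat.card S).Coprime S.index := by
    have hp : Fact (Nat.Prime 2) := ⟨Nat.prime_two⟩
    obtain ⟨j, hj⟩ := IsPGroup.iff_card.1 hS2
    rw [hj]
    apply Nat.Coprime.pow_left
    rw [Nat.coprime_two_left]
    exact hodd
  exact isCyclic_of_comm (fun a b => hmc.is_comm.comm a b) S hcyc hquot hcop

/-- A four-group inside a group of dihedral type. -/
theorem exists_four {Q : Type*} [Group Q] [Finite Q] (C₀ : Subgroup Q) (hidx : C₀.index = 2)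
    (hout : ∀ q, q ∉ C₀ → q * q = 1) (hinv : ∀ q, q ∉ C₀ → ∀ c ∈ C₀, q * c * q⁻¹ = c⁻¹)
    (heven : 2 ∣ Nat.card C₀) :
    ∃ K1 : Subgroup Q, Nat.card K1 = 4 ∧ (∀ k ∈ K1, k ^ 2 = 1) ∧
      ((Nat.card C₀ = 2) → K1 = ⊤) := by
  have hp : Fact (Nat.Prime 2) := ⟨Nat.prime_two⟩
  have hne : C₀ ≠ ⊤ := by
    intro h; rw [h, Subgroup.index_top] at hidx; omega
  obtain ⟨x, -, hx⟩ := SetLike.exists_of_lt (lt_top_iff_ne_top.mpr hne)
  obtain ⟨z, hz⟩ := exists_prime_orderOf_dvd_card' (G := C₀) 2 heven
  set zQ : Q := (z : Q) with hzQ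
  have hzo : orderOf zQ = 2 := by rw [hzQ, Subgroup.orderOf_coe, hz]
  have hzz : zQ * zQ = 1 := by
    have := pow_orderOf_eq_one zQ
    rwa [hzo, pow_two] at this
  have hz1 : zQ ≠ 1 := by
    intro h
    rw [h, orderOf_one] at hzo
    omega
  have hxx : x * x = 1 := hout x hx
  have hx1 : x ≠ 1 := fun h => hx (h ▸ C₀.one_mem)
  have hzinv : zQ⁻¹ = zQ := inv_eq_of_mul_eq_one_left hzz
  have hxz : x * zQ * x⁻¹ = zQ := by
    have := hinv x hx zQ z.2
    rwa [hzinv] at this
  have hzx2 : (zQ * x) * (zQ * x) = 1 := by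
    have h1 : x * zQ = zQ * x := by
      calc x * zQ = (x * zQ * x⁻¹) * x := by group
        _ = zQ * x := by rw [hxz]
    calc (zQ * x) * (zQ * x) = zQ * (x * zQ) * x := by group
      _ = zQ * (zQ * x) * x := by rw [h1]
      _ = (zQ * zQ) * (x * x) := by group
      _ = 1 := by rw [hzz, hxx, one_mul]
  have hzx1 : zQ * x ≠ 1 := by
    intro h
    apply hx
    have : x = zQ⁻¹ := (eq_inv_of_mul_eq_one_right h)
    rw [this]; exact C₀.inv_mem z.2
  have ho : orderOf (zQ * x) = 2 := orderOf_eq_prime (by rw [pow_two]; exact hzx2) hzx1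
  obtain ⟨e⟩ := Cfsg.Agent.Helper2.closure_pair_invol_equiv_dihedral hzz hxx hz1 hx1
  rw [ho] at e
  have hcard : Nat.card (Subgroup.closure ({zQ, x} : Set Q)) = 4 := by
    rw [Nat.card_congr e.toEquiv, DihedralGroup.nat_card]
  refine ⟨Subgroup.closure ({zQ, x} : Set Q), hcard, ?_, ?_⟩
  · intro k hk
    have h1 : (e ⟨k, hk⟩) ^ 2 = 1 := by
      have := Monoid.pow_exponent_eq_one (e ⟨k, hk⟩)
      rwa [IsKleinFour.exponent_two] at this
    have h2 : (⟨k, hk⟩ : Subgroup.closure ({zQ, x} : Set Q)) ^ 2 = 1 := by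
      apply e.injective
      rw [map_pow, h1, map_one]
    have := congrArg Subtype.val h2
    simpa using this
  · intro hC2
    apply Subgroup.eq_top_of_card_eq
    rw [hcard, ← C₀.card_mul_index, hC2, hidx]

theorem isKleinFour_of {K : Type*} [Group K] [Finite K] (hcard : Nat.card K = 4)
    (hsq : ∀ k : K, k ^ 2 = 1) : IsKleinFour K := by
  refine ⟨hcard, ?_⟩
  have hd : Monoid.exponent K ∣ 2 := Monoid.exponent_dvd_of_forall_pow_eq_one hsq
  have hne : Monoid.exponent K ≠ 1 := by
    intro h1
    rw [Monoid.exp_eq_one_iff] at h1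
    have := Nat.card_eq_one_iff_unique.mpr ⟨h1, ⟨1⟩⟩
    rw [hcard] at this
    omega
  rcases (Nat.dvd_prime Nat.prime_two).mp hd with h2 | h2
  · exact absurd h2 hne
  · exact h2

/-- The abstract core of the sufficient conditions for `p = 2`. -/
theorem core2 {K : Type*} [Group K] [Finite K] (S : Subgroup K) [S.Normal]
    (hS2 : IsPGroup 2 S) (hodd : Odd S.index) (hquot : IsCyclic (K ⧸ S))
    (hstruct : IsCyclic S ∨ ∃ C₀ : Subgroup S, IsCyclic C₀ ∧ C₀.index = 2 ∧
      (∀ q, q ∉ C₀ → q * q = 1) ∧ ∀ q, q ∉ C₀ → ∀ c ∈ C₀, q * c * q⁻¹ = c⁻¹)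
    (hfour : ∀ K0 : Subgroup K, K0 ≤ S → Nat.card K0 = 4 → (∀ k ∈ K0, k ^ 2 = 1) →
      ∀ c : K, (∀ k ∈ K0, c * k = k * c) → c ∈ K0) :
    IsCyclic K ∨ (∃ n : ℕ, Nonempty (K ≃* DihedralGroup (2 ^ n))) ∨
      Nonempty (K ≃* alternatingGroup (Fin 4)) := by
  have hp : Fact (Nat.Prime 2) := ⟨Nat.prime_two⟩
  rcases hstruct with hcyc | ⟨C₀, hC₀cyc, hidx, hout, hinv⟩
  · exact Or.inl (core2_cyclic S hS2 hodd hquot hcyc)
  obtain ⟨a, ha⟩ := IsPGroup.iff_card.1 (hS2.to_subgroup C₀)
  have hScard : Nat.card S = 2 * 2 ^ a := by rw [← C₀.card_mul_index, ha, hidx]; ring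
  have hne : C₀ ≠ ⊤ := by
    intro h; rw [h, Subgroup.index_top] at hidx; omega
  rcases Nat.eq_zero_or_pos a with ha0 | ha0
  · left
    have : Fact (Nat.card S).Prime := ⟨by rw [hScard, ha0]; norm_num⟩
    exact core2_cyclic S hS2 hodd hquot (isCyclic_of_prime_card rfl)
  have heven : 2 ∣ Nat.card C₀ := by rw [ha]; exact dvd_pow_self 2 ha0.ne'
  obtain ⟨K1, hK1card, hK1sq, hK1top⟩ := exists_four C₀ hidx hout hinv heven
  set K0 : Subgroup K := K1.map S.subtype with hK0
  have hK0S : K0 ≤ S := by rw [hK0]; exact Subgroup.map_subtype_le _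
  have hK0card : Nat.card K0 = 4 := by
    rw [hK0, Subgroup.card_map_of_injective S.subtype_injective]; exact hK1card
  have hK0sq : ∀ k ∈ K0, k ^ 2 = 1 := by
    intro k hk
    rw [hK0, Subgroup.mem_map] at hk
    obtain ⟨k1, hk1, rfl⟩ := hk
    have h1 := hK1sq k1 hk1
    have h2 := congrArg Subtype.val h1
    simpa using h2
  have hCS : ∀ c : K, (∀ y ∈ S, c * y = y * c) → c ∈ S := by
    intro c hc
    exact hK0S (hfour K0 hK0S hK0card hK0sq c (fun k hk => hc k (hK0S hk)))
  rcases Nat.lt_or_ge a 2 with ha2 | ha2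
  · -- a = 1: S is a four-group
    have ha1 : a = 1 := by omega
    have hK1top' : K1 = ⊤ := hK1top (by rw [ha, ha1]; norm_num)
    have hK0eq : K0 = S := by
      rw [hK0, hK1top', ← MonoidHom.range_eq_map, Subgroup.range_subtype]
    have hSsq : ∀ y ∈ S, y ^ 2 = 1 := fun y hy => hK0sq y (hK0eq ▸ hy)
    have hScomm : ∀ a ∈ S, ∀ b ∈ S, a * b = b * a := fun a ha b hb =>
      comm_of_sq (hSsq a ha) (hSsq b hb) (hSsq _ (S.mul_mem ha hb))
    have hcube : ∀ h : K, h ^ 3 ∈ S := by
      intro h
      apply hCS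
      intro y hy
      set β : MulAut S := MulAut.conjNormal h with hβ
      have hβt : β ^ S.index = 1 := by
        rw [hβ, ← map_pow]
        ext s
        rw [MulAut.conjNormal_apply, MulAut.one_apply]
        have h1 := hScomm _ (pow_index_mem S h) s s.2
        rw [h1]; group
      have h24 : β ^ 24 = 1 := by
        have hinj : Function.Injective (MulAut.toPerm S) := by
          intro b1 b2 hb
          ext s
          have h1 := congrArg (fun π : Equiv.Perm S => π s) hb
          exact congrArg Subtype.val h1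
        have h1 : orderOf β ∣ Nat.card (Equiv.Perm S) := by
          rw [← orderOf_injective (MulAut.toPerm S) hinj β]
          exact orderOf_dvd_natCard _
        rw [Nat.card_perm, hScard, ha1] at h1
        have h2 : (2 * 2 ^ 1).factorial = 24 := by decide
        rw [h2] at h1
        exact orderOf_dvd_iff_pow_eq_one.1 h1
      have h3 : β ^ 3 = 1 := by
        have h1 : orderOf β ∣ S.index := orderOf_dvd_of_pow_eq_one hβt
        have h2 : orderOf β ∣ 3 * 8 := orderOf_dvd_of_pow_eq_one h24
        have hoddβ : Odd (orderOf β) := Odd.of_dvd_nat hodd h1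
        have hcop : Nat.Coprime (orderOf β) 8 := by
          have h4 : Nat.Coprime (orderOf β) 2 := (Nat.coprime_two_right).2 hoddβ
          exact Nat.Coprime.pow_right 3 h4
        have h4 : orderOf β ∣ 3 := hcop.dvd_of_dvd_mul_right h2
        exact orderOf_dvd_iff_pow_eq_one.1 h4
      have h5 : MulAut.conjNormal (H := S) (h ^ 3) = 1 := by rw [map_pow, ← hβ, h3]
      have h6 := congrArg (fun γ : MulAut S => ((γ ⟨y, hy⟩ : S) : K)) h5
      simp only [MulAut.conjNormal_apply, MulAut.one_apply] at h6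
      calc h ^ 3 * y = (h ^ 3 * y * (h ^ 3)⁻¹) * h ^ 3 := by group
        _ = y * h ^ 3 := by rw [h6]
    have hidx3 : S.index ∣ 3 := by
      obtain ⟨g0, hg0⟩ := hquot.exists_generator
      have h1 : orderOf g0 = Nat.card (K ⧸ S) := orderOf_eq_card_of_forall_mem_zpowers hg0
      rw [Subgroup.index_eq_card, ← h1]
      apply orderOf_dvd_of_pow_eq_one
      induction g0 using QuotientGroup.induction_on with
      | H h =>
        rw [← QuotientGroup.mk_pow, QuotientGroup.eq_one_iff]; exact hcube h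
    rcases (Nat.dvd_prime Nat.prime_three).1 hidx3 with hi1 | hi3
    · -- S = ⊤, K is a four-group
      right; left
      have hStop : S = ⊤ := Subgroup.index_eq_one.1 hi1
      have hK4 : Nat.card K = 4 := by rw [← S.card_mul_index, hScard, ha1, hi1]; norm_num
      have hKsq : ∀ k : K, k ^ 2 = 1 := fun k => hSsq k (hStop ▸ Subgroup.mem_top k)
      have hKl := isKleinFour_of hK4 hKsq
      exact ⟨1, by rw [pow_one]; exact IsKleinFour.nonempty_mulEquiv⟩
    · -- card K = 12
      right; right
      have hK12 : Nat.card K = 12 := by rw [← S.card_mul_index, hScard, ha1, hi3]; norm_num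
      have hSne : S ≠ ⊤ := by
        intro h; rw [h, Subgroup.index_top] at hi3; omega
      apply Cfsg.Agent.S0228.result hK12
      intro z0 hz0 hz0c
      have hz0sq : z0 ^ 2 = 1 := by rw [← hz0]; exact pow_orderOf_eq_one z0
      have hz0S : z0 ∈ S := by
        have h1 : z0 ^ 3 ∈ S := hcube z0
        have h2 : z0 ^ 3 = z0 := by rw [pow_succ, hz0sq, one_mul]
        rwa [h2] at h1
      obtain ⟨h, -, hh⟩ := SetLike.exists_of_lt (lt_top_iff_ne_top.mpr hSne)
      apply hh
      have hZ0c : ∀ u ∈ Subgroup.zpowers z0, ∀ g : K, g * u = u * g := by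
        intro u hu g
        have : u ∈ Subgroup.center K := by
          have hle : Subgroup.zpowers z0 ≤ Subgroup.center K := by
            rw [Subgroup.zpowers_le]; exact hz0c
          exact hle hu
        rw [Subgroup.mem_center_iff] at this
        exact this g
      have hZ0idx : ((Subgroup.zpowers z0).subgroupOf S).index = 2 := by
        have h1 := ((Subgroup.zpowers z0).subgroupOf S).card_mul_index
        have h2 : Nat.card ((Subgroup.zpowers z0).subgroupOf S) = 2 := by
          rw [Nat.card_congr (Subgroup.subgroupOfEquivOfLe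
            (Subgroup.zpowers_le.2 hz0S)).toEquiv, Nat.card_zpowers, hz0]
        rw [h2, hScard, ha1] at h1
        omega
      have hsq : h ^ 2 ∈ S := by
        apply hCS
        intro y hy
        have hwS : h * y * h⁻¹ ∈ S := Subgroup.Normal.conj_mem inferInstance y hy h
        set u := y⁻¹ * (h * y * h⁻¹) with hu
        have huZ : u ∈ Subgroup.zpowers z0 := by
          have h1 := Subgroup.mul_mem_iff_of_index_two hZ0idx
            (a := (⟨y, hy⟩ : S)⁻¹) (b := ⟨h * y * h⁻¹, hwS⟩)
          have h2 : ((⟨y, hy⟩ : S)⁻¹ ∈ (Subgroup.zpowers z0).subgroupOf S ↔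
              (⟨h * y * h⁻¹, hwS⟩ : S) ∈ (Subgroup.zpowers z0).subgroupOf S) := by
            rw [Subgroup.inv_mem_iff, Subgroup.mem_subgroupOf, Subgroup.mem_subgroupOf]
            constructor
            · intro hyZ
              have h3 := hZ0c y hyZ h
              change h * y * h⁻¹ ∈ Subgroup.zpowers z0
              rw [h3]
              have : y * h * h⁻¹ = y := by group
              rw [this]; exact hyZ
            · intro hwZ
              change h * y * h⁻¹ ∈ Subgroup.zpowers z0 at hwZ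
              have h3 := hZ0c _ hwZ h⁻¹
              have h4 : h⁻¹ * (h * y * h⁻¹) = y * h⁻¹ := by group
              rw [h4] at h3
              have h5 : y = h * y * h⁻¹ := by
                have := congrArg (fun v => v * h) h3
                simpa using this
              change y ∈ Subgroup.zpowers z0
              rw [h5]; exact hwZ
          have h3 := h1.2 h2
          rw [Subgroup.mem_subgroupOf] at h3
          exact h3
        have huS : u ∈ S := S.mul_mem (S.inv_mem hy) hwS
        have hu2 : u * u = 1 := by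
          have := hSsq u huS
          rwa [pow_two] at this
        have hwy : h * y * h⁻¹ = y * u := by rw [hu]; group
        have huc := hZ0c u huZ h
        have h7 : h ^ 2 * y * (h ^ 2)⁻¹ = y := by
          rw [pow_two]
          calc h * h * y * (h * h)⁻¹ = h * (h * y * h⁻¹) * h⁻¹ := by group
            _ = h * (y * u) * h⁻¹ := by rw [hwy]
            _ = (h * y * h⁻¹) * (h * u) * h⁻¹ := by group
            _ = (y * u) * (u * h) * h⁻¹ := by rw [hwy, huc]
            _ = y * (u * u) := by group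
            _ = y := by rw [hu2, mul_one]
        calc h ^ 2 * y = (h ^ 2 * y * (h ^ 2)⁻¹) * h ^ 2 := by group
          _ = y * h ^ 2 := by rw [h7]
      have hcu := hcube h
      have h8 : h = h ^ 3 * (h ^ 2)⁻¹ := by group
      rw [h8]; exact S.mul_mem hcu (S.inv_mem hsq)
  · -- a ≥ 2
    right; left
    have haut := Cfsg.Agent.Helper2.DihSub.dihedral_type_aut_odd_trivial C₀ hC₀cyc hidx a ha2 ha
      hout
    have hStop : S = ⊤ := by
      rw [eq_top_iff]
      intro h _
      obtain ⟨s, hsS, hc⟩ := exists_mul_centralizes S hodd haut h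
      have h1 := hCS (h * s⁻¹) hc
      have h2 := S.mul_mem h1 hsS
      simpa using h2
    obtain ⟨x, -, hx⟩ := SetLike.exists_of_lt (lt_top_iff_ne_top.mpr hne)
    obtain ⟨e⟩ := dihedral_of_inverting (G := S) ⊤ C₀ le_top hC₀cyc x (Subgroup.mem_top x)
      (hout x hx) hx (hinv x hx) (by
        intro h _
        by_cases hh : h ∈ C₀
        · exact Or.inl hh
        · right
          rw [Subgroup.mul_mem_iff_of_index_two hidx]
          exact ⟨fun h' => absurd h' hx, fun h' => absurd h' hh⟩)
    rw [ha] at e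
    have e1 : K ≃* S := (Subgroup.topEquiv.symm).trans (MulEquiv.subgroupCongr hStop.symm)
    exact ⟨a, ⟨e1.trans (Subgroup.topEquiv.symm.trans e)⟩⟩

end Cfsg.Agent.Helper3.PByCyc
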