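import Mathlib
import Cfsg.Agent.Helper3.PByCycF

/-!
# `2`-by-cyclic subgroups: the sufficient conditions
-/

set_option autoImplicit false

namespace Cfsg.Agent.Helper3.PByCyc

theorem four_of_conj {G : Type*} [Group G] {K : Subgroup G} (g : G)
    (h : Subgroup.centralizer ((K.map (MulAut.conj g).toMonoidHom : Subgroup G) : Set G) =
      K.map (MulAut.conj g).toMonoidHom) : Subgroup.centralizer (K : Set G) = K := by
  set Q1 := K.map (MulAut.conj g).toMonoidHom with hQ1def
  have hQ1 : ∀ z, z ∈ Q1 ↔ g⁻¹ * z * g ∈ K := by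
    intro z
    rw [hQ1def, Subgroup.mem_map]
    constructor
    · rintro ⟨q, hq, rfl⟩
      have : g⁻¹ * (MulAut.conj g).toMonoidHom q * g = q := by
        change g⁻¹ * (g * q * g⁻¹) * g = q
        group
      rw [this]; exact hq
    · intro hz
      refine ⟨g⁻¹ * z * g, hz, ?_⟩
      change g * (g⁻¹ * z * g) * g⁻¹ = z
      group
  have hC : ∀ c, c ∈ Subgroup.centralizer (K : Set G) ↔
      g * c * g⁻¹ ∈ Subgroup.centralizer (Q1 : Set G) := by
    intro c
    rw [Subgroup.mem_centralizer_iff, Subgroup.mem_centralizer_iff]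
    constructor
    · intro hc z hz
      have hz' := (hQ1 z).1 hz
      have h1 := hc _ hz'
      calc z * (g * c * g⁻¹) = g * ((g⁻¹ * z * g) * c) * g⁻¹ := by group
        _ = g * (c * (g⁻¹ * z * g)) * g⁻¹ := by rw [h1]
        _ = g * c * g⁻¹ * z := by group
    · intro hc q hq
      have hz : g * q * g⁻¹ ∈ Q1 := by
        rw [hQ1]
        have : g⁻¹ * (g * q * g⁻¹) * g = q := by group
        rw [this]; exact hq
      have h1 := hc _ hz
      calc q * c = g⁻¹ * ((g * q * g⁻¹) * (g * c * g⁻¹)) * g := by group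
        _ = g⁻¹ * ((g * c * g⁻¹) * (g * q * g⁻¹)) * g := by rw [h1]
        _ = c * q := by group
  ext c
  rw [hC c, h, hQ1]
  have : g⁻¹ * (g * c * g⁻¹) * g = c := by group
  rw [this]

/-- The sufficient conditions for `p = 2`. -/
theorem restricted2_of_rhs {G : Type*} [Group G] [Finite G] (P : Sylow 2 G)
    (hrhs : IsCyclic (P : Subgroup G) ∨
      ((∃ n : ℕ, 1 ≤ n ∧ Nonempty ((P : Subgroup G) ≃* DihedralGroup (2 ^ n))) ∧
        ∀ K : Subgroup G, K ≤ P → Nat.card K = 4 → (∀ k ∈ K, k ^ 2 = 1) →
          Subgroup.centralizer (K : Set G) = K)) : Restricted2 G := by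
  classical
  have hp : Fact (Nat.Prime 2) := ⟨Nat.prime_two⟩
  intro H h1 h2
  obtain ⟨S⟩ : Nonempty (Sylow 2 ↥H) := inferInstance
  have hSn : (S : Subgroup ↥H).Normal := h1 S
  have hSc : IsCyclic (↥H ⧸ (S : Subgroup ↥H)) := h2 S
  have hodd : Odd (S : Subgroup ↥H).index := by
    rw [← Nat.not_even_iff_odd, even_iff_two_dvd]
    exact S.not_dvd_index
  set S' : Subgroup G := (S : Subgroup ↥H).map H.subtype with hS'
  have hS'p : IsPGroup 2 S' := by
    rw [hS']; exact S.isPGroup'.map _
  obtain ⟨P', hP'⟩ := hS'p.exists_le_sylow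
  -- an injective homomorphism from S to P
  let f0 : (S : Subgroup ↥H) →* (P : Subgroup G) :=
    ((Sylow.equiv P' P).toMonoidHom.comp (Subgroup.inclusion hP')).comp
      ((S : Subgroup ↥H).equivMapOfInjective H.subtype H.subtype_injective).toMonoidHom
  have hf0 : Function.Injective f0 := by
    intro a b hab
    have h3 := (Sylow.equiv P' P).injective hab
    have h4 := Subgroup.inclusion_injective hP' h3
    exact ((S : Subgroup ↥H).equivMapOfInjective H.subtype H.subtype_injective).injective h4
  rcases hrhs with hPcyc | ⟨⟨n, hn1, ⟨e⟩⟩, hfourG⟩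
  · left
    have hScyc : IsCyclic (S : Subgroup ↥H) := isCyclic_of_injective f0 hf0
    exact core2_cyclic (S : Subgroup ↥H) S.isPGroup' hodd hSc hScyc
  · have hne : NeZero (2 ^ n) := ⟨by positivity⟩
    have hstruct := dih_sub_structure (2 ^ n) (e.toMonoidHom.comp f0)
      (fun a b hab => hf0 (e.injective hab))
    apply core2 (S : Subgroup ↥H) S.isPGroup' hodd hSc hstruct
    intro K0 hK0S hK0card hK0sq c hc
    set K0' : Subgroup G := K0.map H.subtype with hK0'
    have hK0'S : K0' ≤ S' := by
      rw [hK0', hS']; exact Subgroup.map_mono hK0S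
    have hK0'card : Nat.card K0' = 4 := by
      rw [hK0', Subgroup.card_map_of_injective H.subtype_injective]; exact hK0card
    have hK0'sq : ∀ k ∈ K0', k ^ 2 = 1 := by
      intro k hk
      rw [hK0', Subgroup.mem_map] at hk
      obtain ⟨k1, hk1, rfl⟩ := hk
      have h3 := hK0sq k1 hk1
      have h4 := congrArg Subtype.val h3
      simpa using h4
    have hcent : Subgroup.centralizer (K0' : Set G) = K0' := by
      obtain ⟨g, hg⟩ := MulAction.exists_smul_eq G P' P
      apply four_of_conj g
      apply hfourG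
      · intro y hy
        rw [Subgroup.mem_map] at hy
        obtain ⟨q, hq, rfl⟩ := hy
        have hqP' : q ∈ (P' : Subgroup G) := hP' (hK0'S hq)
        have : (MulAut.conj g).toMonoidHom q ∈ ((g • P' : Sylow 2 G) : Subgroup G) := by
          rw [Sylow.coe_subgroup_smul]
          exact Subgroup.smul_mem_pointwise_smul q (MulAut.conj g) _ hqP'
        rw [hg] at this
        exact this
      · rw [Subgroup.card_map_of_injective (MulAut.conj g).injective]
        exact hK0'card
      · intro y hy
        rw [Subgroup.mem_map] at hy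
        obtain ⟨q, hq, rfl⟩ := hy
        rw [← map_pow, hK0'sq q hq, map_one]
    have hcmem : (c : G) ∈ Subgroup.centralizer (K0' : Set G) := by
      rw [Subgroup.mem_centralizer_iff]
      intro y hy
      rw [hK0', Subgroup.coe_map, Set.mem_image] at hy
      obtain ⟨k, hk, rfl⟩ := hy
      have h3 := hc k hk
      have h4 := congrArg Subtype.val h3
      exact h4.symm
    rw [hcent, hK0', Subgroup.mem_map] at hcmem
    obtain ⟨k, hk, hkc⟩ := hcmem
    have : k = c := Subtype.ext hkc
    rw [← this]; exact hk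

end Cfsg.Agent.Helper3.PByCyc
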