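import Mathlib
import Cfsg.Agent.Helper3.PGroupLinC
set_option autoImplicit false
namespace Cfsg.Agent.Helper3.PGroupLin

open Module

section
variable {K : Type*} [Field K] {G : Type*} [Group G] {V : Type*} [AddCommGroup V] [Module K V]

/-- Subspaces inside eigenspaces for distinct eigenvalues have dimensions adding up. -/
theorem card_mul_le_finrank [FiniteDimensional K V] (f : Module.End K V) {ι : Type*}
    [DecidableEq ι] (c : ι → K) (F : ι → Submodule K V) (d : ℕ) (s : Finset ι)
    (hc : Set.InjOn c s) (hF : ∀ i ∈ s, F i ≤ f.eigenspace (c i))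
    (hd : ∀ i ∈ s, d ≤ finrank K (F i)) : s.card * d ≤ finrank K ↥(s.sup F) := by
  induction s using Finset.induction_on with
  | empty => simp
  | insert a s ha ih =>
    rw [Finset.sup_insert, Finset.card_insert_of_notMem ha]
    have hc' : Set.InjOn c s := hc.mono (by simp)
    have ih' := ih hc' (fun i hi => hF i (Finset.mem_insert_of_mem hi))
      (fun i hi => hd i (Finset.mem_insert_of_mem hi))
    have hdisj : Disjoint (F a) (s.sup F) := by
      have h1 := Module.End.eigenspaces_iSupIndep f (c a)
      refine h1.mono (hF a (Finset.mem_insert_self a s)) ?_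
      apply Finset.sup_le
      intro i hi
      have hne : c i ≠ c a := by
        intro h
        have := hc (Finset.mem_insert_of_mem hi) (Finset.mem_insert_self a s) h
        exact ha (this ▸ hi)
      exact (hF i (Finset.mem_insert_of_mem hi)).trans (le_iSup₂_of_le (c i) hne le_rfl)
    have h2 := Submodule.finrank_sup_add_finrank_inf_eq (F a) (s.sup F)
    rw [disjoint_iff.1 hdisj, finrank_bot, add_zero] at h2
    have h3 := hd a (Finset.mem_insert_self a s)
    rw [h2, add_mul, one_mul]
    omega

open scoped commutatorElement in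
/-- Base-`p` version of `irreducible_step`: the invariant subspaces have dimension `≤ n / p`. -/
theorem irreducible_step_p [IsAlgClosed K] [FiniteDimensional K V] [Nontrivial V]
    (p : ℕ) [Fact p.Prime] [Finite G] (hG : IsPGroup p G)
    (ρ : Representation K G V) (hirr : Irred ρ)
    (hnab : ¬ ∀ x y : G, ρ (x * y) = ρ (y * x)) :
    ∃ (M : Subgroup G) (d : ℕ), commutator G ≤ M ∧ 1 ≤ d ∧ p * d ≤ finrank K V ∧
      ∃ (E : G → Submodule K V), (⨆ i, E i = ⊤) ∧ (∀ i, finrank K (E i) = d) ∧
        ∀ i, ∀ h ∈ M, E i ≤ (E i).comap (ρ h) := by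
  classical
  have hp := (Fact.out : p.Prime)
  have hC : centralSub ρ ≠ ⊤ := by
    intro h
    apply hnab
    intro x y
    have : x ∈ centralSub ρ := by rw [h]; trivial
    exact this y
  haveI : Nontrivial (G ⧸ centralSub ρ) := by
    rw [← not_subsingleton_iff_nontrivial]
    intro hss
    apply hC
    rw [eq_top_iff]
    intro x _
    rw [← QuotientGroup.eq_one_iff]
    exact Subsingleton.elim _ _
  have hq : IsPGroup p (G ⧸ centralSub ρ) := hG.to_quotient _
  haveI := hq.center_nontrivial
  have hqc : IsPGroup p (Subgroup.center (G ⧸ centralSub ρ)) := hq.to_subgroup _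
  obtain ⟨k, hk0, hk⟩ := hqc.nontrivial_iff_card.1 inferInstance
  have hdvd : p ∣ Nat.card (Subgroup.center (G ⧸ centralSub ρ)) := by
    rw [hk]; exact dvd_pow_self p hk0.ne'
  obtain ⟨⟨xbar, hx⟩, hxord⟩ := exists_prime_orderOf_dvd_card' p hdvd
  have hxord' : orderOf xbar = p := by
    rw [← hxord]; exact (Subgroup.orderOf_mk xbar hx).symm
  obtain ⟨a, rfl⟩ := QuotientGroup.mk_surjective xbar
  have ha : a ∉ centralSub ρ := by
    intro h
    have h1 : (QuotientGroup.mk a : G ⧸ centralSub ρ) = 1 := (QuotientGroup.eq_one_iff a).2 h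
    rw [h1, orderOf_one] at hxord'
    exact hp.one_lt.ne hxord'
  have hap : a ^ p ∈ centralSub ρ := by
    rw [← QuotientGroup.eq_one_iff, QuotientGroup.mk_pow, ← hxord', pow_orderOf_eq_one]
  have hF1 : ∀ g, ⁅a, g⁆ ∈ centralSub ρ := by
    intro g
    rw [← QuotientGroup.eq_one_iff, commutatorElement_def]
    have := Subgroup.mem_center_iff.1 hx (g : G ⧸ centralSub ρ)
    simp only [QuotientGroup.mk_mul, QuotientGroup.mk_inv]
    rw [← this]
    group
  choose ζ hζ using fun g => exists_scalar ρ hirr ⁅a, g⁆ (hF1 g)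
  have hstar : ∀ g, ρ a * ρ g = ζ g • (ρ g * ρ a) := by
    intro g
    have e : ⁅a, g⁆ * (g * a) = a * g := by rw [commutatorElement_def]; group
    rw [← map_mul, ← e, map_mul, hζ, smul_mul_assoc, one_mul, map_mul]
  have hcancel : ∀ (c c' : K) (x : G), c • ρ x = c' • ρ x → c = c' := by
    intro c c' x h
    obtain ⟨v, hv⟩ := exists_ne (0 : V)
    have h1 : (c • ρ x) (ρ x⁻¹ v) = (c' • ρ x) (ρ x⁻¹ v) := by rw [h]
    simp only [LinearMap.smul_apply] at h1
    rw [← Module.End.mul_apply, ← map_mul, mul_inv_cancel, map_one, Module.End.one_apply] at h1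
    by_contra hcc
    have : (c - c') • v = 0 := by rw [sub_smul, h1, sub_self]
    rcases smul_eq_zero.1 this with h2 | h2
    · exact hcc (sub_eq_zero.1 h2)
    · exact hv h2
  have hζ1 : ζ 1 = 1 := by
    have := hstar 1
    rw [map_one, mul_one, one_mul] at this
    exact (hcancel 1 (ζ 1) a (by rw [one_smul]; exact this)).symm
  have hζmul : ∀ g h, ζ (g * h) = ζ g * ζ h := by
    intro g h
    apply hcancel _ _ (g * h * a)
    have h1 := hstar (g * h)
    have h2 := hstar g
    have h3 := hstar h
    calc ζ (g * h) • ρ (g * h * a) = ρ a * ρ (g * h) := by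
          rw [h1, map_mul (f := ρ) (g * h) a]
      _ = (ρ a * ρ g) * ρ h := by rw [map_mul, mul_assoc]
      _ = ζ g • (ρ g * (ρ a * ρ h)) := by rw [h2, smul_mul_assoc, mul_assoc]
      _ = (ζ g * ζ h) • ρ (g * h * a) := by
          rw [h3, mul_smul_comm, smul_smul, map_mul, map_mul, mul_assoc]
  have hζinv : ∀ g, ζ g * ζ g⁻¹ = 1 := by
    intro g
    rw [← hζmul, mul_inv_cancel, hζ1]
  let ζhom : G →* K := { toFun := ζ, map_one' := hζ1, map_mul' := hζmul }
  have hζhom : ∀ g, ζhom g = ζ g := fun _ => rfl
  have hMcomm : ∀ m, ζ m = 1 → ρ a * ρ m = ρ m * ρ a := by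
    intro m hm
    rw [hstar m, hm, one_smul]
  -- ζ g ^ p = 1
  have hζp : ∀ g, ζ g ^ p = 1 := by
    intro g
    have h1 : ∀ k : ℕ, ρ (a ^ k) * ρ g = ζ g ^ k • (ρ g * ρ (a ^ k)) := by
      intro k
      induction k with
      | zero => simp
      | succ k ih =>
        calc ρ (a ^ (k + 1)) * ρ g = ρ (a ^ k) * (ρ a * ρ g) := by
              rw [pow_succ, map_mul, mul_assoc]
          _ = ζ g • ((ρ (a ^ k) * ρ g) * ρ a) := by
              rw [hstar g, mul_smul_comm, mul_assoc]
          _ = ζ g ^ (k + 1) • (ρ g * ρ (a ^ (k + 1))) := by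
              rw [ih, smul_mul_assoc, smul_smul, pow_succ', mul_assoc, pow_succ a, map_mul]
    have h2 := h1 p
    have h3 : ρ (a ^ p) * ρ g = ρ g * ρ (a ^ p) := by
      rw [← map_mul, ← map_mul]; exact hap g
    rw [h3, ← map_mul] at h2
    exact (hcancel 1 (ζ g ^ p) (g * a ^ p) (by rw [one_smul]; exact h2)).symm
  obtain ⟨μ, hμ⟩ := Module.End.exists_eigenvalue (ρ a)
  have hμ0 : μ ≠ 0 := by
    intro h0
    obtain ⟨v, hv, hv0⟩ := hμ.exists_hasEigenvector
    rw [Module.End.mem_eigenspace_iff, h0, zero_smul] at hv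
    apply hv0
    have : ρ a⁻¹ (ρ a v) = v := by
      rw [← Module.End.mul_apply, ← map_mul, inv_mul_cancel, map_one, Module.End.one_apply]
    rw [← this, hv, map_zero]
  set E : Submodule K V := Module.End.eigenspace (ρ a) μ with hE
  have hEne : E ≠ ⊥ := hμ
  have hinj : ∀ g, Function.Injective (ρ g) := fun g => (ρ.apply_bijective g).1
  have hE'le : ∀ g, E.map (ρ g) ≤ Module.End.eigenspace (ρ a) (ζ g * μ) := by
    rintro g _ ⟨v, hv, rfl⟩
    rw [Module.End.mem_eigenspace_iff]
    have hv' : ρ a v = μ • v := Module.End.mem_eigenspace_iff.1 hv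
    rw [← Module.End.mul_apply, hstar g, LinearMap.smul_apply, Module.End.mul_apply, hv', map_smul,
      smul_smul]
  have hEinv : ∀ m, ζ m = 1 → ∀ v ∈ E, ρ m v ∈ E := by
    intro m hm v hv
    rw [hE, Module.End.mem_eigenspace_iff] at hv ⊢
    rw [← Module.End.mul_apply, hMcomm m hm, Module.End.mul_apply, hv, map_smul]
  have hfr : ∀ g, finrank K (E.map (ρ g)) = finrank K E := fun g =>
    (Submodule.equivMapOfInjective (ρ g) (hinj g) E).finrank_eq.symm
  refine ⟨ζhom.ker, finrank K E, ?_, ?_, ?_, fun g => E.map (ρ g), ?_, hfr, ?_⟩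
  · rw [commutator_def, Subgroup.commutator_le]
    intro x _ y _
    rw [MonoidHom.mem_ker, hζhom, commutatorElement_def, hζmul, hζmul, hζmul]
    calc ζ x * ζ y * ζ x⁻¹ * ζ y⁻¹ = (ζ x * ζ x⁻¹) * (ζ y * ζ y⁻¹) := by ring
      _ = 1 := by rw [hζinv, hζinv, one_mul]
  · rw [Nat.one_le_iff_ne_zero]
    intro h
    exact hEne (Submodule.finrank_eq_zero.1 h)
  · -- p independent copies
    obtain ⟨g₀, hg₀⟩ : ∃ g₀, ζ g₀ ≠ 1 := by
      by_contra hall
      push Not at hall
      apply ha
      intro h
      rw [map_mul, map_mul, hMcomm h (hall h)]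
    have hord : orderOf (ζ g₀) = p := orderOf_eq_prime (hζp g₀) hg₀
    have hζpow : ∀ i : ℕ, ζ (g₀ ^ i) = ζ g₀ ^ i := by
      intro i
      have := map_pow ζhom g₀ i
      simpa [hζhom] using this
    have hkey := card_mul_le_finrank (ρ a) (fun i : ℕ => ζ g₀ ^ i * μ)
      (fun i : ℕ => E.map (ρ (g₀ ^ i))) (finrank K E) (Finset.range p)
      (by
        intro i hi j hj hij
        have h1 : ζ g₀ ^ i = ζ g₀ ^ j := mul_right_cancel₀ hμ0 hij
        have hi' : i < orderOf (ζ g₀) := by rw [hord]; exact Finset.mem_range.1 hi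
        have hj' : j < orderOf (ζ g₀) := by rw [hord]; exact Finset.mem_range.1 hj
        exact pow_injOn_Iio_orderOf hi' hj' h1)
      (fun i _ => by
        have := hE'le (g₀ ^ i)
        rwa [hζpow] at this)
      (fun i _ => (hfr _).ge)
    rw [Finset.card_range] at hkey
    exact hkey.trans (Submodule.finrank_le _)
  · have hinvW : ∀ h, (⨆ g, E.map (ρ g)) ≤ (⨆ g, E.map (ρ g)).comap (ρ h) := by
      intro h
      rw [← Submodule.map_le_iff_le_comap, Submodule.map_iSup]
      apply iSup_le
      intro g
      rw [← Submodule.map_comp]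
      have : (ρ h) ∘ₗ (ρ g) = ρ (h * g) := by rw [map_mul]; rfl
      rw [this]
      exact le_iSup (fun g => E.map (ρ g)) (h * g)
    rcases hirr _ hinvW with h | h
    · exfalso
      apply hEne
      rw [eq_bot_iff, ← h]
      refine le_trans ?_ (le_iSup (fun g => E.map (ρ g)) 1)
      rw [map_one]
      intro v hv
      exact ⟨v, hv, rfl⟩
    · exact h
  · rintro g h hh _ ⟨w, hw, rfl⟩
    rw [Submodule.mem_comap]
    rw [MonoidHom.mem_ker, hζhom] at hh
    have hm : ζ (g⁻¹ * h * g) = 1 := by
      rw [hζmul, hζmul, hh, mul_one, mul_comm, hζinv]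
    refine ⟨ρ (g⁻¹ * h * g) w, hEinv _ hm w hw, ?_⟩
    rw [← Module.End.mul_apply, ← map_mul, ← Module.End.mul_apply, ← map_mul]
    congr 2
    group

end


universe u v w

/-- **Cross-characteristic bound**: a finite `p`-group acting on an `n`-dimensional space over an
algebraically closed field in which `p ≠ 0` has `(log_p n + 1)`-st derived subgroup in the
kernel. -/
theorem derivedSeries_le_ker_cross (K : Type u) [Field K] [IsAlgClosed K] (p : ℕ) [Fact p.Prime]
    (hpK : (p : K) ≠ 0) :
    ∀ (n : ℕ) (V : Type v) [AddCommGroup V] [Module K V] [FiniteDimensional K V]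
      (G : Type w) [Group G] [Finite G] (_ : IsPGroup p G) (ρ : Representation K G V),
      finrank K V = n → ∀ g ∈ derivedSeries G (Nat.log p n + 1), ρ g = 1 := by
  have hp1 : 1 < p := (Fact.out : p.Prime).one_lt
  intro n
  induction n using Nat.strong_induction_on with
  | _ n ih =>
  intro V _ _ _ G _ _ hG ρ hn g hg
  by_cases hred : ∃ W : Submodule K V, (∀ g, W ≤ W.comap (ρ g)) ∧ W ≠ ⊥ ∧ W ≠ ⊤
  · obtain ⟨W, hW, hWb, hWt⟩ := hred
    have hsum := Submodule.finrank_quotient_add_finrank W
    have ha : 1 ≤ finrank K W := by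
      rw [Nat.one_le_iff_ne_zero]
      intro h
      exact hWb (Submodule.finrank_eq_zero.1 h)
    have hb : 1 ≤ finrank K (V ⧸ W) := by
      rw [Nat.one_le_iff_ne_zero]
      intro h
      apply hWt
      apply Submodule.eq_top_of_finrank_eq
      omega
    have hmono : ∀ m, m ≤ n → g ∈ derivedSeries G (Nat.log p m + 1) := fun m hm =>
      derivedSeries_antitone G (Nat.succ_le_succ (Nat.log_mono_right hm)) hg
    have h1 := ih (finrank K W) (by omega) W G hG (ρ.subrepresentation W hW) rfl g
      (hmono _ (by omega))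
    have h2 := ih (finrank K (V ⧸ W)) (by omega) (V ⧸ W) G hG (ρ.quotient W hW) rfl g
      (hmono _ (by omega))
    apply eq_one_of_unipotent p hpK hG ρ g W
    · intro w hw
      have := congrArg (fun f => ((f ⟨w, hw⟩ : W) : V)) h1
      simpa using this
    · intro v
      have := LinearMap.congr_fun h2 (Submodule.Quotient.mk v)
      rw [Representation.quotient_apply, Submodule.mapQ_apply, Module.End.one_apply, ← sub_eq_zero,
        ← Submodule.Quotient.mk_sub, Submodule.Quotient.mk_eq_zero] at this
      exact this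
  · have hirr : Irred ρ := by
      intro W hW
      by_contra h
      push Not at h
      exact hred ⟨W, hW, h.1, h.2⟩
    rcases Nat.eq_zero_or_pos n with h0 | hpos
    · haveI : Subsingleton V := by
        rw [← hn] at h0
        exact Module.finrank_zero_iff.1 h0
      exact LinearMap.ext fun v => Subsingleton.elim _ _
    haveI : Nontrivial V := Module.nontrivial_of_finrank_pos (R := K) (by omega)
    by_cases hab : ∀ x y : G, ρ (x * y) = ρ (y * x)
    · have hker : commutator G ≤ ρ.ker := by
        rw [commutator_def, Subgroup.commutator_le]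
        intro x _ y _
        rw [MonoidHom.mem_ker, commutatorElement_def]
        calc ρ (x * y * x⁻¹ * y⁻¹) = ρ (x * y) * ρ (x⁻¹ * y⁻¹) := by
              rw [← map_mul]; congr 1; group
          _ = ρ (y * x) * ρ (x⁻¹ * y⁻¹) := by rw [hab]
          _ = 1 := by
              rw [← map_mul]
              have : y * x * (x⁻¹ * y⁻¹) = 1 := by group
              rw [this, map_one]
      have h1 : derivedSeries G (Nat.log p n + 1) ≤ derivedSeries G 1 :=
        derivedSeries_antitone G (by omega)
      have h2 := h1 hg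
      rw [derivedSeries_one] at h2
      exact MonoidHom.mem_ker.1 (hker h2)
    · obtain ⟨M, d, hM, hd1, hd2, E, hEtop, hEd, hEinv⟩ := irreducible_step_p p hG ρ hirr hab
      have hdn : d < n := by
        have : 2 * d ≤ p * d := Nat.mul_le_mul_right _ hp1
        omega
      have key : ∀ y ∈ derivedSeries M (Nat.log p d + 1), ρ (y : G) = 1 := by
        intro y hy
        have hfix : ∀ i, E i ≤ LinearMap.ker (ρ (y : G) - 1) := by
          intro i v hv
          have h3 := ih d hdn (E i) M (hG.to_subgroup M)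
            (Representation.subrepresentation (G := M) (ρ.comp M.subtype) (E i)
              (fun h => hEinv i h h.2)) (hEd i) y hy
          have h4 : ρ (y : G) v = v := congrArg (fun f => ((f ⟨v, hv⟩ : E i) : V)) h3
          rw [LinearMap.mem_ker, LinearMap.sub_apply, Module.End.one_apply, sub_eq_zero]
          exact h4
        have htop : (⊤ : Submodule K V) ≤ LinearMap.ker (ρ (y : G) - 1) := by
          rw [← hEtop]; exact iSup_le hfix
        refine LinearMap.ext fun v => ?_
        have h5 := htop (Submodule.mem_top : v ∈ ⊤)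
        rw [LinearMap.mem_ker, LinearMap.sub_apply, sub_eq_zero] at h5
        exact h5
      have hlog : Nat.log p d + 1 ≤ Nat.log p n := by
        have h6 : Nat.log p (d * p) = Nat.log p d + 1 := Nat.log_mul_base hp1 (by omega)
        rw [← h6]
        exact Nat.log_mono_right (by rw [mul_comm]; omega)
      have h1 : g ∈ derivedSeries G (Nat.log p d + 1 + 1) :=
        derivedSeries_antitone G (by omega) hg
      obtain ⟨y, hy, rfl⟩ := derivedSeries_succ_le_map M hM _ h1
      exact key y hy

end Cfsg.Agent.Helper3.PGroupLin
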