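import Mathlib
import Cfsg.Agent.Helper3.PGroupLinD
set_option autoImplicit false
namespace Cfsg.Agent.Helper3.PGroupLin

open Module

section frob
variable (F : Type*) [Field F] [Fintype F] {K : Type*} [Field K] [Algebra F K] {n : ℕ}

/-- Coordinatewise Frobenius `x ↦ x ^ |F|` on `K ^ n`. -/
def frobVec (v : Fin n → K) : Fin n → K := fun i => (v i) ^ Fintype.card F

theorem frobVec_apply (v : Fin n → K) (i : Fin n) : frobVec F v i = (v i) ^ Fintype.card F := rfl

theorem frobVec_add (v w : Fin n → K) : frobVec F (v + w) = frobVec F v + frobVec F w := by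
  ext i
  simp only [frobVec_apply, Pi.add_apply]
  exact map_add (FiniteField.frobeniusAlgHom F K) (v i) (w i)

theorem frobVec_sub (v w : Fin n → K) : frobVec F (v - w) = frobVec F v - frobVec F w := by
  ext i
  simp only [frobVec_apply, Pi.sub_apply]
  exact map_sub (FiniteField.frobeniusAlgHom F K) (v i) (w i)

theorem frobVec_zero : frobVec F (0 : Fin n → K) = 0 := by
  ext i
  simp [frobVec_apply, Fintype.card_pos.ne']

theorem frobVec_smul (c : K) (v : Fin n → K) :
    frobVec F (c • v) = (c ^ Fintype.card F) • frobVec F v := by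
  ext i
  simp [frobVec_apply, mul_pow]

theorem frobVec_mulVec (A : Matrix (Fin n) (Fin n) F) (v : Fin n → K) :
    frobVec F ((A.map (algebraMap F K)).mulVec v) =
      (A.map (algebraMap F K)).mulVec (frobVec F v) := by
  ext i
  simp only [frobVec_apply, Matrix.mulVec, dotProduct, Matrix.map_apply]
  have h1 := map_sum (FiniteField.frobeniusAlgHom F K)
    (fun j => algebraMap F K (A i j) * v j) Finset.univ
  simp only [FiniteField.frobeniusAlgHom_apply] at h1
  rw [h1]
  apply Finset.sum_congr rfl
  intro j _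
  rw [mul_pow, ← map_pow, FiniteField.pow_card]

/-- An element fixed by Frobenius lies in the base field. -/
theorem mem_range_of_pow_card_eq (x : K) (hx : x ^ Fintype.card F = x) :
    ∃ y : F, algebraMap F K y = x := by
  classical
  by_contra hne
  push Not at hne
  -- the polynomial X^q - X over K has more than q roots
  let f : Polynomial K := Polynomial.X ^ Fintype.card F - Polynomial.X
  have hf : f ≠ 0 := FiniteField.X_pow_card_sub_X_ne_zero K Fintype.one_lt_card
  have hdeg : f.natDegree = Fintype.card F :=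
    FiniteField.X_pow_card_sub_X_natDegree_eq K Fintype.one_lt_card
  let S : Finset K := insert x (Finset.univ.image (algebraMap F K))
  have hS : S ⊆ f.roots.toFinset := by
    intro y hy
    rw [Multiset.mem_toFinset, Polynomial.mem_roots hf, Polynomial.IsRoot.def]
    simp only [f, Polynomial.eval_sub, Polynomial.eval_pow, Polynomial.eval_X, sub_eq_zero]
    rcases Finset.mem_insert.1 hy with rfl | hy
    · exact hx
    · obtain ⟨z, _, rfl⟩ := Finset.mem_image.1 hy
      rw [← map_pow, FiniteField.pow_card]
  have hcard : S.card = Fintype.card F + 1 := by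
    rw [Finset.card_insert_of_notMem, Finset.card_image_of_injective _ (algebraMap F K).injective,
      Finset.card_univ]
    intro h
    obtain ⟨z, _, hz⟩ := Finset.mem_image.1 h
    exact hne z hz
  have h1 := Finset.card_le_card hS
  have h2 : f.roots.toFinset.card ≤ f.natDegree :=
    (Multiset.toFinset_card_le _).trans (Polynomial.card_roots' f)
  omega

/-- **Descent**: a nonzero Frobenius-stable subspace of `K ^ n` contains a nonzero
Frobenius-fixed vector. -/
theorem exists_fixed_of_stable (S : Submodule K (Fin n → K)) (hS : S ≠ ⊥)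
    (hφ : ∀ v ∈ S, frobVec F v ∈ S) : ∃ v ∈ S, v ≠ 0 ∧ frobVec F v = v := by
  classical
  let supp : (Fin n → K) → Finset (Fin n) := fun v => Finset.univ.filter (fun i => v i ≠ 0)
  have hex : ∃ k, ∃ v ∈ S, v ≠ 0 ∧ (supp v).card = k := by
    obtain ⟨v, hv, hv0⟩ := Submodule.exists_mem_ne_zero_of_ne_bot hS
    exact ⟨_, v, hv, hv0, rfl⟩
  obtain ⟨v, hvS, hv0, hvk⟩ := Nat.find_spec hex
  have hmin : ∀ w ∈ S, w ≠ 0 → Nat.find hex ≤ (supp w).card := fun w hw hw0 =>
    Nat.find_min' hex ⟨w, hw, hw0, rfl⟩
  obtain ⟨i₀, hi₀⟩ : ∃ i, v i ≠ 0 := by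
    by_contra h
    push Not at h
    exact hv0 (funext h)
  set v' : Fin n → K := (v i₀)⁻¹ • v with hv'
  have hv'S : v' ∈ S := S.smul_mem _ hvS
  have hv'i₀ : v' i₀ = 1 := by simp [hv', hi₀]
  have hv'0 : v' ≠ 0 := by
    intro h
    have := congrFun h i₀
    rw [hv'i₀] at this
    exact one_ne_zero this
  have hsupp : supp v' = supp v := by
    ext i
    simp [supp, hv', hi₀]
  refine ⟨v', hv'S, hv'0, ?_⟩
  by_contra hne
  set w : Fin n → K := frobVec F v' - v' with hw
  have hwS : w ∈ S := S.sub_mem (hφ v' hv'S) hv'S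
  have hw0 : w ≠ 0 := by
    intro h
    apply hne
    rw [hw, sub_eq_zero] at h
    exact h
  have hsub : supp w ⊆ (supp v').erase i₀ := by
    intro i hi
    rw [Finset.mem_filter] at hi
    rw [Finset.mem_erase, Finset.mem_filter]
    refine ⟨?_, Finset.mem_univ _, ?_⟩
    · rintro rfl
      apply hi.2
      simp [hw, frobVec_apply, hv'i₀]
    · intro h0
      apply hi.2
      simp [hw, frobVec_apply, h0, Fintype.card_pos.ne']
  have h1 := Finset.card_le_card hsub
  have hi₀mem : i₀ ∈ supp v' := by
    rw [Finset.mem_filter]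
    exact ⟨Finset.mem_univ _, by rw [hv'i₀]; exact one_ne_zero⟩
  rw [Finset.card_erase_of_mem hi₀mem, hsupp, hvk] at h1
  have h2 := hmin w hwS hw0
  have h3 : 0 < (supp v).card := by
    rw [← hsupp]; exact Finset.card_pos.2 ⟨i₀, hi₀mem⟩
  rw [hvk] at h3
  omega

end frob

end Cfsg.Agent.Helper3.PGroupLin
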