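import Mathlib
import Cfsg.Agent.Helper3.PGroupLinE
set_option autoImplicit false
namespace Cfsg.Agent.Helper3.PGroupLin

open Module

section
variable {F : Type*} [Field F] {n : ℕ} {P : Type*} [Group P]

/-- Extension of scalars of a matrix representation. -/
noncomputable def matRep (K : Type*) [Field K] [Algebra F K]
    (A : P →* Matrix (Fin n) (Fin n) F) : Representation K P (Fin n → K) where
  toFun g := Matrix.toLin' ((A g).map (algebraMap F K))
  map_one' := by
    rw [map_one, Matrix.map_one _ (map_zero _) (map_one _), Matrix.toLin'_one]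
    rfl
  map_mul' := by
    intro x y
    rw [map_mul, Matrix.map_mul, Matrix.toLin'_mul]
    rfl

theorem matRep_apply (K : Type*) [Field K] [Algebra F K]
    (A : P →* Matrix (Fin n) (Fin n) F) (g : P) (v : Fin n → K) :
    matRep K A g v = ((A g).map (algebraMap F K)).mulVec v := by
  show Matrix.toLin' ((A g).map (algebraMap F K)) v = _
  rw [Matrix.toLin'_apply]

theorem matRep_eq_one (K : Type*) [Field K] [Algebra F K]
    (A : P →* Matrix (Fin n) (Fin n) F) (g : P) (h : matRep K A g = 1) : A g = 1 := by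
  have h1 : Matrix.toLin' ((A g).map (algebraMap F K)) = Matrix.toLin' (1 : Matrix (Fin n) (Fin n) K) := by
    rw [Matrix.toLin'_one]
    exact h
  have h2 := Matrix.toLin'.injective h1
  have h3 : (A g).map (algebraMap F K) = (1 : Matrix (Fin n) (Fin n) F).map (algebraMap F K) := by
    rw [h2, Matrix.map_one _ (map_zero _) (map_one _)]
  exact Matrix.map_injective (algebraMap F K).injective h3

end

section
variable (F : Type*) [Field F] [Fintype F] {K : Type*} [Field K] [Algebra F K] {n : ℕ}

/-- The span of the Frobenius image of a subspace. -/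
def frobSpan (U : Submodule K (Fin n → K)) : Submodule K (Fin n → K) :=
  Submodule.span K (frobVec F '' (U : Set (Fin n → K)))

theorem frobVec_mem_frobSpan (U : Submodule K (Fin n → K)) (v : Fin n → K) (hv : v ∈ U) :
    frobVec F v ∈ frobSpan F U :=
  Submodule.subset_span ⟨v, hv, rfl⟩

theorem frobVec_ne_zero (v : Fin n → K) (hv : v ≠ 0) : frobVec F v ≠ 0 := by
  intro h
  apply hv
  funext i
  have := congrFun h i
  rw [frobVec_apply] at this
  exact pow_eq_zero_iff (Fintype.card_pos.ne') |>.1 this

theorem frobSpan_ne_bot (U : Submodule K (Fin n → K)) (hU : U ≠ ⊥) : frobSpan F U ≠ ⊥ := by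
  obtain ⟨v, hv, hv0⟩ := Submodule.exists_mem_ne_zero_of_ne_bot hU
  intro h
  have h1 := frobVec_mem_frobSpan F U v hv
  rw [h, Submodule.mem_bot] at h1
  exact frobVec_ne_zero F v hv0 h1

variable {P : Type*} [Group P]

theorem frobVec_matRep (A : P →* Matrix (Fin n) (Fin n) F) (g : P) (v : Fin n → K) :
    frobVec F (matRep K A g v) = matRep K A g (frobVec F v) := by
  rw [matRep_apply, matRep_apply, frobVec_mulVec]

theorem frobSpan_inv (A : P →* Matrix (Fin n) (Fin n) F) (U : Submodule K (Fin n → K))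
    (hU : ∀ g, U ≤ U.comap (matRep K A g)) (g : P) :
    frobSpan F U ≤ (frobSpan F U).comap (matRep K A g) := by
  unfold frobSpan
  rw [Submodule.span_le]
  rintro _ ⟨v, hv, rfl⟩
  rw [SetLike.mem_coe, Submodule.mem_comap, ← frobVec_matRep]
  exact Submodule.subset_span ⟨_, hU g hv, rfl⟩

theorem frobSpan_eigen (A : P →* Matrix (Fin n) (Fin n) F) (U : Submodule K (Fin n → K))
    (g : P) (c : K) (hU : U ≤ Module.End.eigenspace (matRep K A g) c) :
    frobSpan F U ≤ Module.End.eigenspace (matRep K A g) (c ^ Fintype.card F) := by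
  unfold frobSpan
  rw [Submodule.span_le]
  rintro _ ⟨v, hv, rfl⟩
  show frobVec F v ∈ Module.End.eigenspace (matRep K A g) (c ^ Fintype.card F)
  rw [Module.End.mem_eigenspace_iff, ← frobVec_matRep, Module.End.mem_eigenspace_iff.1 (hU hv),
    frobVec_smul]

/-- The iterated Frobenius twists of a subspace. -/
def frobSeq (U : Submodule K (Fin n → K)) : ℕ → Submodule K (Fin n → K)
  | 0 => U
  | (i + 1) => frobSpan F (frobSeq U i)

theorem frobSeq_ne_bot (U : Submodule K (Fin n → K)) (hU : U ≠ ⊥) (i : ℕ) :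
    frobSeq F U i ≠ ⊥ := by
  induction i with
  | zero => exact hU
  | succ i ih => exact frobSpan_ne_bot F _ ih

theorem frobSeq_inv (A : P →* Matrix (Fin n) (Fin n) F) (U : Submodule K (Fin n → K))
    (hU : ∀ g, U ≤ U.comap (matRep K A g)) (i : ℕ) (g : P) :
    frobSeq F U i ≤ (frobSeq F U i).comap (matRep K A g) := by
  induction i generalizing g with
  | zero => exact hU g
  | succ i ih => exact frobSpan_inv F A _ ih g

theorem frobSeq_eigen (A : P →* Matrix (Fin n) (Fin n) F) (U : Submodule K (Fin n → K))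
    (g : P) (c : K) (hU : U ≤ Module.End.eigenspace (matRep K A g) c) (i : ℕ) :
    frobSeq F U i ≤ Module.End.eigenspace (matRep K A g) (c ^ (Fintype.card F ^ i)) := by
  induction i with
  | zero =>
    rw [pow_zero, pow_one]
    exact hU
  | succ i ih =>
    have := frobSpan_eigen F A _ g _ ih
    rw [← pow_mul, ← pow_succ] at this
    exact this

theorem frobSeq_sup_stable (U : Submodule K (Fin n → K)) (v : Fin n → K)
    (hv : v ∈ ⨆ i, frobSeq F U i) : frobVec F v ∈ ⨆ i, frobSeq F U i := by
  refine Submodule.iSup_induction (frobSeq F U) (motive := fun v => frobVec F v ∈ ⨆ i, frobSeq F U i)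
    hv ?_ ?_ ?_
  · intro i x hx
    exact (le_iSup (frobSeq F U) (i + 1)) (frobVec_mem_frobSpan F _ x hx)
  · rw [frobVec_zero]; exact Submodule.zero_mem _
  · intro x y hx hy
    rw [frobVec_add]
    exact Submodule.add_mem _ hx hy

/-- If `A` is irreducible over `F`, the Frobenius twists of a nonzero invariant `K`-subspace
span everything. -/
theorem frobSeq_sup_eq_top (A : P →* Matrix (Fin n) (Fin n) F)
    (hirr : ∀ S₀ : Submodule F (Fin n → F), (∀ g, ∀ v ∈ S₀, (A g).mulVec v ∈ S₀) → S₀ = ⊥ ∨ S₀ = ⊤)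
    (U : Submodule K (Fin n → K)) (hU0 : U ≠ ⊥)
    (hU : ∀ g, U ≤ U.comap (matRep K A g)) : (⨆ i, frobSeq F U i) = ⊤ := by
  classical
  set S := ⨆ i, frobSeq F U i with hS
  have hSinv : ∀ g, S ≤ S.comap (matRep K A g) := by
    intro g
    apply iSup_le
    intro i
    exact (frobSeq_inv F A U hU i g).trans (Submodule.comap_mono (le_iSup (frobSeq F U) i))
  have hS0 : S ≠ ⊥ := by
    intro h
    apply hU0
    rw [eq_bot_iff, ← h]
    exact le_iSup (frobSeq F U) 0
  obtain ⟨v, hvS, hv0, hvfix⟩ := exists_fixed_of_stable F S hS0 (frobSeq_sup_stable F U)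
  have hcoord : ∀ i, ∃ y : F, algebraMap F K y = v i := by
    intro i
    apply mem_range_of_pow_card_eq F
    have := congrFun hvfix i
    rwa [frobVec_apply] at this
  choose v₀ hv₀ using hcoord
  let ext : (Fin n → F) →ₗ[F] (Fin n → K) := (Algebra.linearMap F K).compLeft (Fin n)
  have hext : ∀ w i, ext w i = algebraMap F K (w i) := fun w i => rfl
  let S₀ : Submodule F (Fin n → F) := (S.restrictScalars F).comap ext
  have hmemS₀ : ∀ w, w ∈ S₀ ↔ ext w ∈ S := fun w => Iff.rfl
  have hS₀inv : ∀ g, ∀ w ∈ S₀, (A g).mulVec w ∈ S₀ := by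
    intro g w hw
    rw [hmemS₀] at hw ⊢
    have h1 : ext ((A g).mulVec w) = matRep K A g (ext w) := by
      rw [matRep_apply]
      funext i
      rw [hext]
      exact RingHom.map_mulVec (algebraMap F K) (A g) w i
    rw [h1]
    exact hSinv g hw
  have hv₀S : v₀ ∈ S₀ := by
    rw [hmemS₀]
    have : ext v₀ = v := by
      funext i
      rw [hext, hv₀]
    rw [this]
    exact hvS
  have hv₀0 : v₀ ≠ 0 := by
    intro h
    apply hv0
    funext i
    rw [← hv₀ i, h]
    simp
  rcases hirr S₀ hS₀inv with h | h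
  · exfalso
    rw [h, Submodule.mem_bot] at hv₀S
    exact hv₀0 hv₀S
  · rw [eq_top_iff, ← (Pi.basisFun K (Fin n)).span_eq, Submodule.span_le]
    rintro _ ⟨i, rfl⟩
    rw [Pi.basisFun_apply]
    have h1 : (Pi.single i 1 : Fin n → F) ∈ S₀ := by rw [h]; trivial
    rw [hmemS₀] at h1
    have h2 : ext (Pi.single i 1) = (Pi.single i 1 : Fin n → K) := by
      funext j
      rw [hext]
      by_cases hij : j = i
      · subst hij; simp
      · simp [Pi.single_eq_of_ne hij]
    rw [h2] at h1
    exact h1

end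

end Cfsg.Agent.Helper3.PGroupLin
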