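import Mathlib
import Cfsg.Agent.Helper3.PGroupLinF
set_option autoImplicit false
namespace Cfsg.Agent.Helper3.PGroupLin

open Module

theorem natCast_ne_zero_of_not_dvd_card (F : Type*) [Field F] [Fintype F] (p : ℕ) [Fact p.Prime]
    (hp : ¬ p ∣ Fintype.card F) : (p : F) ≠ 0 := by
  intro h
  apply hp
  have h1 : ringChar F ∣ p := (ringChar.spec F p).1 h
  have h2 : (ringChar F).Prime := CharP.char_is_prime F (ringChar F)
  have h3 : ringChar F = p := ((Nat.prime_dvd_prime_iff_eq h2 Fact.out).1 h1)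
  rw [← h3]
  exact (ringChar.spec F _).1 (FiniteField.cast_card_eq_zero F)

theorem orderOf_card_pos (F : Type*) [Field F] [Fintype F] (p : ℕ) [Fact p.Prime]
    (hp : ¬ p ∣ Fintype.card F) : 0 < orderOf ((Fintype.card F : ℕ) : ZMod p) := by
  rw [orderOf_pos_iff, isOfFinOrder_iff_isUnit]
  rw [ZMod.isUnit_iff_coprime]
  exact ((Nat.Prime.coprime_iff_not_dvd Fact.out).2 hp).symm

section
variable {F : Type*} [Field F] [Fintype F] {n : ℕ} {P : Type*} [Group P]

open scoped commutatorElement in
/-- **Irreducible case**: an `F`-irreducible matrix representation of a `p`-group in cross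
characteristic kills the `(log_p (n / e) + 1)`-st derived subgroup. -/
theorem irreducible_case (K : Type*) [Field K] [Algebra F K] [IsAlgClosed K]
    (p : ℕ) [Fact p.Prime] (hpF : ¬ p ∣ Fintype.card F) [Finite P] (hP : IsPGroup p P)
    (A : P →* Matrix (Fin n) (Fin n) F)
    (hirr : ∀ S₀ : Submodule F (Fin n → F), (∀ g, ∀ v ∈ S₀, (A g).mulVec v ∈ S₀) → S₀ = ⊥ ∨ S₀ = ⊤)
    (e : ℕ) (he : e = orderOf ((Fintype.card F : ℕ) : ZMod p)) :
    ∀ g ∈ derivedSeries P (Nat.log p (n / e) + 1), A g = 1 := by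
  classical
  intro g hg
  have hp := (Fact.out : p.Prime)
  have hpK : (p : K) ≠ 0 := by
    have h1 := natCast_ne_zero_of_not_dvd_card F p hpF
    intro h
    apply h1
    apply (algebraMap F K).injective
    rw [map_natCast, map_zero, h]
  have he1 : 0 < e := by rw [he]; exact orderOf_card_pos F p hpF
  by_cases htriv : ∀ x, A x = 1
  · exact htriv g
  rcases Nat.eq_zero_or_pos n with hn0 | hnpos
  · subst hn0
    exact Subsingleton.elim _ _
  set q := Fintype.card F with hq
  set ρ := matRep K A with hρ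
  -- nonzero invariant subspace of minimal dimension
  have hex : ∃ d, ∃ W : Submodule K (Fin n → K), (∀ g, W ≤ W.comap (ρ g)) ∧ W ≠ ⊥ ∧
      finrank K W = d := by
    refine ⟨_, ⊤, fun g => le_top.trans (by rw [Submodule.comap_top]), ?_, rfl⟩
    haveI : Nonempty (Fin n) := ⟨⟨0, hnpos⟩⟩
    exact top_ne_bot
  obtain ⟨W, hWinv, hW0, hWd⟩ := Nat.find_spec hex
  have hmin : ∀ U : Submodule K (Fin n → K), (∀ g, U ≤ U.comap (ρ g)) → U ≠ ⊥ →
      finrank K W ≤ finrank K U := by
    intro U hU hU0
    rw [hWd]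
    exact Nat.find_min' hex ⟨U, hU, hU0, rfl⟩
  set d := finrank K W with hd
  -- a central element of order p modulo the kernel
  have hker : A.ker ≠ ⊤ := by
    intro h
    apply htriv
    intro x
    have : x ∈ A.ker := by rw [h]; trivial
    exact MonoidHom.mem_ker.1 this
  haveI : Nontrivial (P ⧸ A.ker) := by
    rw [← not_subsingleton_iff_nontrivial]
    intro hss
    apply hker
    rw [eq_top_iff]
    intro x _
    rw [← QuotientGroup.eq_one_iff]
    exact Subsingleton.elim _ _
  have hqP : IsPGroup p (P ⧸ A.ker) := hP.to_quotient _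
  haveI := hqP.center_nontrivial
  have hqc : IsPGroup p (Subgroup.center (P ⧸ A.ker)) := hqP.to_subgroup _
  obtain ⟨k, hk0, hk⟩ := hqc.nontrivial_iff_card.1 inferInstance
  have hdvd : p ∣ Nat.card (Subgroup.center (P ⧸ A.ker)) := by
    rw [hk]; exact dvd_pow_self p hk0.ne'
  obtain ⟨⟨zbar, hz⟩, hzord⟩ := exists_prime_orderOf_dvd_card' p hdvd
  have hzord' : orderOf zbar = p := by
    rw [← hzord]; exact (Subgroup.orderOf_mk zbar hz).symm
  obtain ⟨z, rfl⟩ := QuotientGroup.mk_surjective zbar
  have hzker : A z ≠ 1 := by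
    intro h
    have h0 : z ∈ A.ker := MonoidHom.mem_ker.2 h
    have h1 : (QuotientGroup.mk z : P ⧸ A.ker) = 1 := (QuotientGroup.eq_one_iff z).2 h0
    rw [h1, orderOf_one] at hzord'
    exact hp.one_lt.ne hzord'
  have hzp : A (z ^ p) = 1 := by
    rw [← MonoidHom.mem_ker, ← QuotientGroup.eq_one_iff, QuotientGroup.mk_pow, ← hzord',
      pow_orderOf_eq_one]
  have hzc : ∀ x, A (z * x) = A (x * z) := by
    intro x
    have h1 : ⁅z, x⁆ ∈ A.ker := by
      rw [← QuotientGroup.eq_one_iff, commutatorElement_def]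
      have := Subgroup.mem_center_iff.1 hz (x : P ⧸ A.ker)
      simp only [QuotientGroup.mk_mul, QuotientGroup.mk_inv]
      rw [← this]
      group
    have h2 : z * x = ⁅z, x⁆ * (x * z) := by rw [commutatorElement_def]; group
    rw [h2, map_mul, MonoidHom.mem_ker.1 h1, one_mul]
  have hρc : ∀ x, ρ z * ρ x = ρ x * ρ z := by
    intro x
    rw [← map_mul, ← map_mul]
    show Matrix.toLin' ((A (z * x)).map (algebraMap F K)) = Matrix.toLin' ((A (x * z)).map (algebraMap F K))
    rw [hzc]
  have hρp : ρ z ^ p = 1 := by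
    rw [← map_pow]
    show Matrix.toLin' ((A (z ^ p)).map (algebraMap F K)) = 1
    rw [hzp, Matrix.map_one _ (map_zero _) (map_one _), Matrix.toLin'_one]
    rfl
  -- eigenvalue of z on W
  haveI : Nontrivial W := Submodule.nontrivial_iff_ne_bot.2 hW0
  obtain ⟨ζ, hζ⟩ := Module.End.exists_eigenvalue
    (LinearMap.restrict (ρ z) (p := W) (q := W) (fun v hv => hWinv z hv))
  obtain ⟨⟨w, hwW⟩, hw⟩ := hζ.exists_hasEigenvector
  have hw0 : w ≠ 0 := by
    intro h
    apply hw.2
    exact Subtype.ext h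
  have hwz : ρ z w = ζ • w := by
    have := hw.apply_eq_smul
    have h2 := congrArg (Subtype.val) this
    simpa using h2
  have hwE : Module.End.HasEigenvector (ρ z) ζ w :=
    ⟨Module.End.mem_eigenspace_iff.2 hwz, hw0⟩
  have hζp : ζ ^ p = 1 := by
    have h1 := hwE.pow_apply p
    rw [hρp, Module.End.one_apply] at h1
    have h2 : (ζ ^ p - 1) • w = 0 := by rw [sub_smul, one_smul, ← h1, sub_self]
    rcases smul_eq_zero.1 h2 with h3 | h3
    · exact sub_eq_zero.1 h3
    · exact absurd h3 hw0
  have hWζ : W ≤ Module.End.eigenspace (ρ z) ζ := by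
    set W' := W ⊓ Module.End.eigenspace (ρ z) ζ with hW'
    have hW'inv : ∀ g, W' ≤ W'.comap (ρ g) := by
      intro x v hv
      rw [Submodule.mem_comap]
      refine ⟨hWinv x hv.1, ?_⟩
      have h1 := Module.End.mem_eigenspace_iff.1 hv.2
      rw [SetLike.mem_coe, Module.End.mem_eigenspace_iff, ← Module.End.mul_apply, hρc,
        Module.End.mul_apply, h1, map_smul]
    have hW'0 : W' ≠ ⊥ := by
      intro h
      have : w ∈ W' := ⟨hwW, Module.End.mem_eigenspace_iff.2 hwz⟩
      rw [h, Submodule.mem_bot] at this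
      exact hw0 this
    have h1 := hmin W' hW'inv hW'0
    have h2 : W' = W := Submodule.eq_of_le_of_finrank_le inf_le_left h1
    rw [← h2]
    exact inf_le_right
  have hSeqinv := frobSeq_inv F A W hWinv
  have hSeq0 := frobSeq_ne_bot F W hW0
  have hSeqζ := frobSeq_eigen F A W z ζ hWζ
  have hStop := frobSeq_sup_eq_top F A hirr W hW0 hWinv
  have htop_le : ∀ (x : P) (c : K), (∀ i, frobSeq F W i ≤ Module.End.eigenspace (ρ x) c) →
      ρ x = c • 1 := by
    intro x c h
    have h1 : (⊤ : Submodule K (Fin n → K)) ≤ Module.End.eigenspace (ρ x) c := by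
      rw [← hStop]; exact iSup_le h
    refine LinearMap.ext fun v => ?_
    have := h1 (Submodule.mem_top : v ∈ ⊤)
    rw [Module.End.mem_eigenspace_iff] at this
    rw [this]
    simp
  have hζ1 : ζ ≠ 1 := by
    intro h
    apply hzker
    apply matRep_eq_one K A z
    rw [← hρ]
    have := htop_le z 1 (fun i => by
      have := hSeqζ i
      rwa [h, one_pow] at this)
    rw [this, one_smul]
  have hord : orderOf ζ = p := orderOf_eq_prime hζp hζ1
  -- counting
  have hkey := card_mul_le_finrank (ρ z) (fun i : ℕ => ζ ^ (q ^ i)) (frobSeq F W) d (Finset.range e)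
    (by
      intro i hi j hj hij
      have hij' : ζ ^ (q ^ i) = ζ ^ (q ^ j) := hij
      rw [← pow_mod_orderOf ζ (q ^ i), ← pow_mod_orderOf ζ (q ^ j), hord] at hij'
      have h1 : q ^ i % p = q ^ j % p :=
        pow_injOn_Iio_orderOf (by rw [hord]; exact Nat.mod_lt _ hp.pos)
          (by rw [hord]; exact Nat.mod_lt _ hp.pos) hij'
      have h2 : ((q ^ i : ℕ) : ZMod p) = ((q ^ j : ℕ) : ZMod p) :=
        (ZMod.natCast_eq_natCast_iff' _ _ _).2 h1
      rw [Nat.cast_pow, Nat.cast_pow] at h2
      have hi' : i < orderOf ((q : ℕ) : ZMod p) := by rw [← he]; exact Finset.mem_range.1 hi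
      have hj' : j < orderOf ((q : ℕ) : ZMod p) := by rw [← he]; exact Finset.mem_range.1 hj
      exact pow_injOn_Iio_orderOf hi' hj' h2)
    (fun i _ => hSeqζ i)
    (fun i _ => hmin _ (hSeqinv i) (hSeq0 i))
  rw [Finset.card_range] at hkey
  have hle : e * d ≤ n := by
    have := hkey.trans (Submodule.finrank_le _)
    rwa [Module.finrank_fin_fun] at this
  have hdle : d ≤ n / e := (Nat.le_div_iff_mul_le he1).2 (by rw [mul_comm]; exact hle)
  have hg' : g ∈ derivedSeries P (Nat.log p d + 1) :=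
    derivedSeries_antitone P (Nat.succ_le_succ (Nat.log_mono_right hdle)) hg
  have hcross := derivedSeries_le_ker_cross K p hpK d W P hP (ρ.subrepresentation W hWinv) hd.symm
    g hg'
  have hgW : W ≤ Module.End.eigenspace (ρ g) 1 := by
    intro v hv
    have h4 : ρ g v = v := congrArg (fun f => ((f ⟨v, hv⟩ : W) : Fin n → K)) hcross
    rw [Module.End.mem_eigenspace_iff, one_smul]
    exact h4
  have hgSeq := frobSeq_eigen F A W g 1 hgW
  apply matRep_eq_one K A g
  rw [← hρ]
  have := htop_le g 1 (fun i => by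
    have := hgSeq i
    rwa [one_pow] at this)
  rw [this, one_smul]

end

end Cfsg.Agent.Helper3.PGroupLin
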