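import Mathlib
import Cfsg.Agent.Helper3.PGroupLinG
set_option autoImplicit false
namespace Cfsg.Agent.Helper3.PGroupLin

open Module

universe u v w

/-- **Cross-characteristic bound over a finite field**: a finite `p`-group acting on an
`n`-dimensional space over a finite field `F` with `p ∤ |F|` has `(log_p (n / e) + 1)`-st derived
subgroup in the kernel, `e` the order of `|F|` modulo `p`. -/
theorem derivedSeries_le_ker_finite (F : Type u) [Field F] [Fintype F] (p : ℕ) [Fact p.Prime]
    (hpF : ¬ p ∣ Fintype.card F) (e : ℕ) (he : e = orderOf ((Fintype.card F : ℕ) : ZMod p)) :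
    ∀ (n : ℕ) (V : Type v) [AddCommGroup V] [Module F V] [FiniteDimensional F V]
      (G : Type w) [Group G] [Finite G] (_ : IsPGroup p G) (ρ : Representation F G V),
      finrank F V = n → ∀ g ∈ derivedSeries G (Nat.log p (n / e) + 1), ρ g = 1 := by
  have hp1 : 1 < p := (Fact.out : p.Prime).one_lt
  have hpK : (p : F) ≠ 0 := natCast_ne_zero_of_not_dvd_card F p hpF
  intro n
  induction n using Nat.strong_induction_on with
  | _ n ih =>
  intro V _ _ _ G _ _ hG ρ hn g hg
  by_cases hred : ∃ W : Submodule F V, (∀ g, W ≤ W.comap (ρ g)) ∧ W ≠ ⊥ ∧ W ≠ ⊤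
  · obtain ⟨W, hW, hWb, hWt⟩ := hred
    have hsum := Submodule.finrank_quotient_add_finrank W
    have ha : 1 ≤ finrank F W := by
      rw [Nat.one_le_iff_ne_zero]
      intro h
      exact hWb (Submodule.finrank_eq_zero.1 h)
    have hb : 1 ≤ finrank F (V ⧸ W) := by
      rw [Nat.one_le_iff_ne_zero]
      intro h
      apply hWt
      apply Submodule.eq_top_of_finrank_eq
      omega
    have hmono : ∀ m, m ≤ n → g ∈ derivedSeries G (Nat.log p (m / e) + 1) := fun m hm =>
      derivedSeries_antitone G
        (Nat.succ_le_succ (Nat.log_mono_right (Nat.div_le_div_right hm))) hg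
    have h1 := ih (finrank F W) (by omega) W G hG (ρ.subrepresentation W hW) rfl g
      (hmono _ (by omega))
    have h2 := ih (finrank F (V ⧸ W)) (by omega) (V ⧸ W) G hG (ρ.quotient W hW) rfl g
      (hmono _ (by omega))
    apply eq_one_of_unipotent p hpK hG ρ g W
    · intro w hw
      have := congrArg (fun f => ((f ⟨w, hw⟩ : W) : V)) h1
      simpa using this
    · intro v
      have := LinearMap.congr_fun h2 (Submodule.Quotient.mk v)
      rw [Representation.quotient_apply, Submodule.mapQ_apply, Module.End.one_apply, ← sub_eq_zero,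
        ← Submodule.Quotient.mk_sub, Submodule.Quotient.mk_eq_zero] at this
      exact this
  · have hirr : Irred ρ := by
      intro W hW
      by_contra h
      push Not at h
      exact hred ⟨W, hW, h.1, h.2⟩
    let b : Basis (Fin n) F V := Module.finBasisOfFinrankEq F V hn
    let A : G →* Matrix (Fin n) (Fin n) F :=
      { toFun := fun g => LinearMap.toMatrix b b (ρ g)
        map_one' := by rw [map_one]; exact LinearMap.toMatrix_one b
        map_mul' := by intro x y; rw [map_mul]; exact LinearMap.toMatrix_mul b _ _ }
    have hA : ∀ g, A g = LinearMap.toMatrix b b (ρ g) := fun _ => rfl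
    have hirrA : ∀ S₀ : Submodule F (Fin n → F), (∀ g, ∀ v ∈ S₀, (A g).mulVec v ∈ S₀) →
        S₀ = ⊥ ∨ S₀ = ⊤ := by
      intro S₀ hS₀
      let U : Submodule F V := S₀.comap (b.equivFun : V →ₗ[F] Fin n → F)
      have hmemU : ∀ v, v ∈ U ↔ b.equivFun v ∈ S₀ := fun v => Iff.rfl
      have hU : ∀ g, U ≤ U.comap (ρ g) := by
        intro x v hv
        rw [Submodule.mem_comap, hmemU]
        rw [hmemU] at hv
        have h1 := LinearMap.toMatrix_mulVec_repr b b (ρ x) v
        have h2 : b.equivFun (ρ x v) = (A x).mulVec (b.equivFun v) := by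
          rw [hA]
          exact h1.symm
        rw [h2]
        exact hS₀ x _ hv
      rcases hirr U hU with h | h
      · left
        rw [eq_bot_iff]
        intro s hs
        have h1 : b.equivFun.symm s ∈ U := by
          rw [hmemU, LinearEquiv.apply_symm_apply]; exact hs
        rw [h, Submodule.mem_bot] at h1
        rw [Submodule.mem_bot]
        have := congrArg b.equivFun h1
        rwa [LinearEquiv.apply_symm_apply, map_zero] at this
      · right
        rw [eq_top_iff]
        intro s _
        have h1 : b.equivFun.symm s ∈ U := by rw [h]; trivial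
        rwa [hmemU, LinearEquiv.apply_symm_apply] at h1
    have h3 := irreducible_case (AlgebraicClosure F) p hpF hG A hirrA e he g hg
    rw [hA] at h3
    have h4 : LinearMap.toMatrix b b (ρ g) = LinearMap.toMatrix b b 1 := by
      rw [h3]; exact (LinearMap.toMatrix_one b).symm
    exact (LinearMap.toMatrix b b).injective h4

end Cfsg.Agent.Helper3.PGroupLin
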