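import Mathlib
import Cfsg.Prelude.Def_Local
import Cfsg.Agent.Helper1.Coprime
import Cfsg.Agent.Helper1.Hall
import Cfsg.Agent.Helper1.Glauberman

set_option autoImplicit false

/-!
Hall `p'`-subgroups (`p`-complements) of `p`-solvable groups: existence, conjugacy, dominance.
-/

namespace Cfsg.Agent.Helper3

open scoped Pointwise
open Cfsg.Agent.Helper1

universe u

section

variable {G : Type u} [Group G]

/-- `H` is a `p`-complement: order prime to `p`, index a power of `p`. -/
def IsPCompl (p : ℕ) (H : Subgroup G) : Prop :=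
  (Nat.card H).Coprime p ∧ ∃ n : ℕ, H.index = p ^ n

/-- existence, conjugacy and dominance of `p`-complements. -/
def HallP (p : ℕ) (G : Type u) [Group G] : Prop :=
  (∃ H : Subgroup G, IsPCompl p H) ∧
  (∀ H₁ H₂ : Subgroup G, IsPCompl p H₁ → IsPCompl p H₂ → ∃ g : G, MulAut.conj g • H₁ = H₂) ∧
  (∀ U : Subgroup G, (Nat.card U).Coprime p → ∃ H : Subgroup G, IsPCompl p H ∧ U ≤ H)

theorem card_conj_smul (g : G) (H : Subgroup G) :
    Nat.card (MulAut.conj g • H : Subgroup G) = Nat.card H :=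
  (Nat.card_congr (Subgroup.equivSMul (MulAut.conj g) H).toEquiv).symm

theorem index_conj_smul [Finite G] (g : G) (H : Subgroup G) :
    (MulAut.conj g • H : Subgroup G).index = H.index := by
  have h1 := (MulAut.conj g • H : Subgroup G).index_mul_card
  have h2 := H.index_mul_card
  rw [card_conj_smul] at h1
  have hpos : 0 < Nat.card H := Nat.card_pos
  exact Nat.eq_of_mul_eq_mul_right hpos (h1.trans h2.symm)

theorem IsPCompl.conj [Finite G] {p : ℕ} {H : Subgroup G} (h : IsPCompl p H) (g : G) :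
    IsPCompl p (MulAut.conj g • H) := by
  obtain ⟨h1, n, hn⟩ := h
  exact ⟨by rw [card_conj_smul]; exact h1, n, by rw [index_conj_smul]; exact hn⟩

/-- two `p`-complements have the same order. -/
theorem IsPCompl.card_eq [Finite G] {p : ℕ} {H₁ H₂ : Subgroup G} (h₁ : IsPCompl p H₁)
    (h₂ : IsPCompl p H₂) : Nat.card H₁ = Nat.card H₂ := by
  obtain ⟨c₁, n₁, hn₁⟩ := h₁
  obtain ⟨c₂, n₂, hn₂⟩ := h₂
  have e₁ := H₁.index_mul_card
  have e₂ := H₂.index_mul_card
  rw [hn₁] at e₁
  rw [hn₂] at e₂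
  apply Nat.dvd_antisymm
  · have : Nat.card H₁ ∣ p ^ n₂ * Nat.card H₂ := by rw [e₂, ← e₁]; exact dvd_mul_left _ _
    exact (Nat.Coprime.pow_right n₂ c₁).dvd_of_dvd_mul_left this
  · have : Nat.card H₂ ∣ p ^ n₁ * Nat.card H₁ := by rw [e₁, ← e₂]; exact dvd_mul_left _ _
    exact (Nat.Coprime.pow_right n₁ c₂).dvd_of_dvd_mul_left this

/-- a `p`-complement contained in a `p'`-subgroup equals it. -/
theorem IsPCompl.eq_of_le [Finite G] {p : ℕ} {H K : Subgroup G} (h : IsPCompl p H) (hHK : H ≤ K)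
    (hK : (Nat.card K).Coprime p) : H = K := by
  obtain ⟨-, n, hn⟩ := h
  apply le_antisymm hHK
  rw [← Subgroup.relIndex_eq_one]
  have h1 : H.relIndex K ∣ p ^ n := by
    rw [← hn, ← Subgroup.relIndex_mul_index hHK]; exact dvd_mul_right _ _
  have h2 : H.relIndex K ∣ Nat.card K := Subgroup.relIndex_dvd_card H K
  exact Nat.eq_one_of_dvd_coprimes (Nat.Coprime.pow_right n hK) h2 h1


/-- image of a `p`-complement in a quotient is a `p`-complement. -/
theorem IsPCompl.map_mk' [Finite G] {p : ℕ} [Fact p.Prime] (N : Subgroup G) [N.Normal]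
    {H : Subgroup G} (h : IsPCompl p H) : IsPCompl p (H.map (QuotientGroup.mk' N)) := by
  obtain ⟨c, n, hn⟩ := h
  refine ⟨Nat.Coprime.coprime_dvd_left (Subgroup.card_map_dvd H _) c, ?_⟩
  have hd : (H.map (QuotientGroup.mk' N)).index ∣ p ^ n :=
    hn ▸ Subgroup.index_map_dvd H (QuotientGroup.mk'_surjective N)
  obtain ⟨j, -, hj⟩ := (Nat.dvd_prime_pow Fact.out).1 hd
  exact ⟨j, hj⟩

theorem conj_smul_map_mk' (N : Subgroup G) [N.Normal] (g : G) (H : Subgroup G) :
    (MulAut.conj g • H).map (QuotientGroup.mk' N) =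
      MulAut.conj (QuotientGroup.mk' N g) • H.map (QuotientGroup.mk' N) := by
  ext x
  constructor
  · rintro ⟨y, hy, rfl⟩
    rw [SetLike.mem_coe, Subgroup.mem_pointwise_smul_iff_inv_smul_mem] at hy
    rw [Subgroup.mem_pointwise_smul_iff_inv_smul_mem]
    refine ⟨_, hy, ?_⟩
    simp [MulAut.smul_def]
  · intro hx
    rw [Subgroup.mem_pointwise_smul_iff_inv_smul_mem] at hx
    obtain ⟨y, hy, hyx⟩ := hx
    refine ⟨g * y * g⁻¹, ?_, ?_⟩
    · rw [SetLike.mem_coe, Subgroup.mem_pointwise_smul_iff_inv_smul_mem, MulAut.smul_def,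
        MulAut.conj_inv_apply]
      have : g⁻¹ * (g * y * g⁻¹) * g = y := by group
      rw [this]; exact hy
    · rw [map_mul, map_mul, hyx, MulAut.smul_def, MulAut.conj_inv_apply, map_inv]
      group

/-- Lifting conjugacy: if the images of `H₁, H₂` are conjugate in `G ⧸ N`, then after conjugating
`N ⊔ H₁` becomes `N ⊔ H₂`. -/
theorem exists_conj_sup_eq (N : Subgroup G) [N.Normal] (H₁ H₂ : Subgroup G)
    (h : ∃ x : G ⧸ N, MulAut.conj x • H₁.map (QuotientGroup.mk' N) = H₂.map (QuotientGroup.mk' N)) :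
    ∃ g : G, N ⊔ MulAut.conj g • H₁ = N ⊔ H₂ := by
  obtain ⟨x, hx⟩ := h
  obtain ⟨g, rfl⟩ := QuotientGroup.mk'_surjective N x
  refine ⟨g, ?_⟩
  rw [← conj_smul_map_mk'] at hx
  have := congrArg (Subgroup.comap (QuotientGroup.mk' N)) hx
  rw [Subgroup.comap_map_eq, Subgroup.comap_map_eq, QuotientGroup.ker_mk'] at this
  rw [sup_comm, this, sup_comm]


/-- the preimage of a `p`-complement under `G → G ⧸ N`: order and index. -/
theorem card_index_comap [Finite G] (N : Subgroup G) [N.Normal] (H : Subgroup (G ⧸ N)) :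
    Nat.card (H.comap (QuotientGroup.mk' N)) = Nat.card H * Nat.card N ∧
      (H.comap (QuotientGroup.mk' N)).index = H.index :=
  ⟨card_comap_mk' N H, Subgroup.index_comap_of_surjective H (QuotientGroup.mk'_surjective N)⟩

/-- **Case A**: `N` a normal `p'`-subgroup. -/
theorem hallP_of_quotient_pprime [Finite G] {p : ℕ} [Fact p.Prime] (N : Subgroup G) [N.Normal]
    (hN : (Nat.card N).Coprime p) (hq : HallP p (G ⧸ N)) : HallP p G := by
  obtain ⟨⟨H0, hH0⟩, hconj, hdom⟩ := hq
  have hlift : ∀ H : Subgroup (G ⧸ N), IsPCompl p H → IsPCompl p (H.comap (QuotientGroup.mk' N)) := by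
    intro H hH
    obtain ⟨h1, h2⟩ := card_index_comap N H
    exact ⟨by rw [h1]; exact Nat.Coprime.mul_left hH.1 hN, by rw [h2]; exact hH.2⟩
  refine ⟨⟨_, hlift H0 hH0⟩, ?_, ?_⟩
  · intro H₁ H₂ h₁ h₂
    obtain ⟨g, hg⟩ := exists_conj_sup_eq N H₁ H₂ (hconj _ _ (h₁.map_mk' N) (h₂.map_mk' N))
    refine ⟨g, ?_⟩
    have hK : IsPCompl p (N ⊔ H₂) := by
      have := hlift _ (h₂.map_mk' N)
      rwa [Subgroup.comap_map_eq, QuotientGroup.ker_mk', sup_comm] at this
    have e₂ : H₂ = N ⊔ H₂ := h₂.eq_of_le le_sup_right hK.1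
    have e₁ : MulAut.conj g • H₁ = N ⊔ H₂ :=
      (h₁.conj g).eq_of_le (hg ▸ le_sup_right) hK.1
    rw [e₁, ← e₂]
  · intro U hU
    have hU' : (Nat.card (U.map (QuotientGroup.mk' N))).Coprime p :=
      Nat.Coprime.coprime_dvd_left (Subgroup.card_map_dvd U _) hU
    obtain ⟨H, hH, hUH⟩ := hdom _ hU'
    exact ⟨_, hlift H hH, fun u hu => hUH ⟨u, hu, rfl⟩⟩


/-- **Case B**: `N` a normal `p`-subgroup. -/
theorem hallP_of_quotient_pgroup [Finite G] {p : ℕ} [Fact p.Prime] (N : Subgroup G) [N.Normal]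
    (hN : IsPGroup p N) (hq : HallP p (G ⧸ N)) : HallP p G := by
  have hp : p.Prime := Fact.out
  obtain ⟨⟨H0, hH0⟩, hconj, hdom⟩ := hq
  obtain ⟨e, he⟩ := IsPGroup.iff_card.1 hN
  have hNnorm : ∀ X : Subgroup G, X ≤ Subgroup.normalizer (N : Set G) := fun X => by
    rw [Subgroup.normalizer_eq_top]; exact le_top
  have hNpos : 0 < Nat.card N := Nat.card_pos
  have hNsolv : Group.IsSolvable N := by
    have : Group.IsNilpotent N := hN.isNilpotent
    infer_instance
  have hcopN : ∀ X : Subgroup G, (Nat.card X).Coprime p → (Nat.card N).Coprime (Nat.card X) := by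
    intro X hX
    rw [he]; exact Nat.Coprime.pow_left e hX.symm
  -- complement to `N` in the preimage of a `p`-complement
  have hlift : ∀ H : Subgroup (G ⧸ N), IsPCompl p H →
      ∃ B : Subgroup G, IsPCompl p B ∧ N ⊔ B = H.comap (QuotientGroup.mk' N) := by
    intro H hH
    set K := H.comap (QuotientGroup.mk' N) with hK
    obtain ⟨h1, h2⟩ := card_index_comap N H
    have hNK : N ≤ K := by
      intro x hx
      rw [hK, Subgroup.mem_comap, QuotientGroup.mk'_apply, (QuotientGroup.eq_one_iff x).2 hx]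
      exact H.one_mem
    have hrel : N.relIndex K = Nat.card H := by
      have h3 := Subgroup.relIndex_mul_relIndex (⊥ : Subgroup G) N K bot_le hNK
      rw [Subgroup.relIndex_bot_left, Subgroup.relIndex_bot_left, h1] at h3
      have : Nat.card N * N.relIndex K = Nat.card N * Nat.card H := by rw [h3]; ring
      exact Nat.eq_of_mul_eq_mul_left hNpos this
    obtain ⟨B, hBK, hBcard⟩ := exists_complement_internal K N hNK (hNnorm K)
      (by rw [hrel, he]; exact Nat.Coprime.pow_left e hH.1.symm)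
    rw [hrel] at hBcard
    have hBcop : (Nat.card B).Coprime p := by rw [hBcard]; exact hH.1
    have hdisj : B ⊓ N = ⊥ :=
      (Subgroup.disjoint_of_coprime_natCard (hcopN B hBcop).symm).eq_bot
    have hsupcard : Nat.card (N ⊔ B : Subgroup G) = Nat.card B * Nat.card N :=
      card_sup_of_le_normalizer (hNnorm B) hdisj
    have hsup : N ⊔ B = K := by
      apply Subgroup.eq_of_le_of_card_ge (sup_le hNK hBK)
      rw [hsupcard, h1, hBcard]
    refine ⟨B, ⟨hBcop, ?_⟩, hsup⟩
    obtain ⟨n, hn⟩ := hH.2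
    refine ⟨n + e, ?_⟩
    have h4 := B.index_mul_card
    have h5 := K.index_mul_card
    rw [h2, hn, h1, ← hBcard, he] at h5
    have hBpos : 0 < Nat.card B := Nat.card_pos
    have : B.index * Nat.card B = p ^ (n + e) * Nat.card B := by
      rw [h4, ← h5, pow_add]; ring
    exact Nat.eq_of_mul_eq_mul_right hBpos this
  refine ⟨?_, ?_, ?_⟩
  · obtain ⟨B, hB, -⟩ := hlift H0 hH0
    exact ⟨B, hB⟩
  · intro H₁ H₂ h₁ h₂
    obtain ⟨g, hg⟩ := exists_conj_sup_eq N H₁ H₂ (hconj _ _ (h₁.map_mk' N) (h₂.map_mk' N))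
    have h₁' := h₁.conj g
    have hH₂le : H₂ ≤ N ⊔ MulAut.conj g • H₁ := by
      rw [hg]; exact le_sup_right
    obtain ⟨n, -, hn⟩ := sz_conj_internal N (MulAut.conj g • H₁) H₂ (hNnorm _)
      hH₂le (h₂.card_eq h₁') (hcopN _ h₁'.1) (Or.inl hNsolv)
    refine ⟨n * g, ?_⟩
    rw [map_mul, mul_smul, hn]
  · intro U hU
    have hU' : (Nat.card (U.map (QuotientGroup.mk' N))).Coprime p :=
      Nat.Coprime.coprime_dvd_left (Subgroup.card_map_dvd U _) hU
    obtain ⟨H, hH, hUH⟩ := hdom _ hU'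
    obtain ⟨B, hB, hNB⟩ := hlift H hH
    have hUK : U ≤ N ⊔ B := by
      rw [hNB]
      exact fun u hu => hUH ⟨u, hu, rfl⟩
    set K' := N ⊔ U with hK'
    have hK'le : K' ≤ N ⊔ B := sup_le le_sup_left hUK
    -- Dedekind
    have hded : N ⊔ (B ⊓ K') = K' := by
      apply SetLike.coe_injective
      rw [Subgroup.normal_mul, Subgroup.mul_inf_assoc N B K' le_sup_left, ← Subgroup.normal_mul,
        ← Subgroup.coe_inf, inf_eq_right.2 hK'le]
    have hB'cop : (Nat.card (B ⊓ K' : Subgroup G)).Coprime p :=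
      Nat.Coprime.coprime_dvd_left (Subgroup.card_dvd_of_le inf_le_left) hB.1
    have hdisj1 : (B ⊓ K') ⊓ N = ⊥ :=
      (Subgroup.disjoint_of_coprime_natCard (hcopN _ hB'cop).symm).eq_bot
    have hdisj2 : U ⊓ N = ⊥ :=
      (Subgroup.disjoint_of_coprime_natCard (hcopN _ hU).symm).eq_bot
    have hc1 : Nat.card (N ⊔ (B ⊓ K') : Subgroup G) = Nat.card (B ⊓ K' : Subgroup G) * Nat.card N :=
      card_sup_of_le_normalizer (hNnorm _) hdisj1
    have hc2 : Nat.card K' = Nat.card U * Nat.card N :=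
      card_sup_of_le_normalizer (hNnorm _) hdisj2
    have hcard : Nat.card U = Nat.card (B ⊓ K' : Subgroup G) := by
      have : Nat.card U * Nat.card N = Nat.card (B ⊓ K' : Subgroup G) * Nat.card N := by
        rw [← hc1, ← hc2, hded]
      exact Nat.eq_of_mul_eq_mul_right hNpos this
    have hUle : U ≤ N ⊔ (B ⊓ K') := by
      rw [hded, hK']; exact le_sup_right
    obtain ⟨n, -, hn⟩ := sz_conj_internal N (B ⊓ K') U (hNnorm _)
      hUle hcard (hcopN _ hB'cop) (Or.inl hNsolv)
    refine ⟨MulAut.conj n • B, hB.conj n, ?_⟩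
    rw [← hn]
    exact conj_smul_mono inf_le_left n


theorem relIndex_map_mk' (N : Subgroup G) [N.Normal] (A B : Subgroup G) (hNA : N ≤ A) :
    (A.map (QuotientGroup.mk' N)).relIndex (B.map (QuotientGroup.mk' N)) = A.relIndex B := by
  rw [← Subgroup.relIndex_comap, Subgroup.comap_map_eq, QuotientGroup.ker_mk', sup_eq_left.2 hNA]

end

/-- `p`-complements exist, are conjugate and dominate `p'`-subgroups in a group with a normal
series with `p`- and `p'`-factors. -/
theorem hallP_of_series (p : ℕ) [Fact p.Prime] : ∀ (n : ℕ) (G : Type u) [Group G] [Finite G]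
    (H : Fin (n + 1) → Subgroup G), H 0 = ⊥ → H (Fin.last n) = ⊤ → Monotone H →
    (∀ i, (H i).Normal) →
    (∀ i : Fin n, (∃ m : ℕ, (H i.castSucc).relIndex (H i.succ) = p ^ m) ∨
      ((H i.castSucc).relIndex (H i.succ)).Coprime p) → HallP p G := by
  intro n
  induction n with
  | zero =>
    intro G _ _ H h0 hlast _ _ _
    have hbt : (⊥ : Subgroup G) = ⊤ := by rw [← h0, ← hlast]; rfl
    have hsubS : Subsingleton (Subgroup G) := subsingleton_of_bot_eq_top hbt
    have hsub : Subsingleton G := Subgroup.subsingleton_iff.1 hsubS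
    have htop : IsPCompl p (⊤ : Subgroup G) := by
      refine ⟨?_, 0, by rw [Subgroup.index_top, pow_zero]⟩
      rw [Nat.card_eq_one_iff_unique.2 ⟨inferInstance, ⟨1⟩⟩]
      exact Nat.coprime_one_left p
    have hall : ∀ X Y : Subgroup G, X = Y := by
      intro X Y
      ext x
      rw [Subsingleton.elim x 1]
      exact ⟨fun _ => Y.one_mem, fun _ => X.one_mem⟩
    exact ⟨⟨⊤, htop⟩, fun H₁ H₂ _ _ => ⟨1, hall _ _⟩, fun U _ => ⟨⊤, htop, le_top⟩⟩
  | succ n ih =>
    intro G _ _ H h0 hlast hmono hnorm hfac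
    set N := H 1 with hNdef
    have hNn : N.Normal := hnorm 1
    -- the quotient series
    let H' : Fin (n + 1) → Subgroup (G ⧸ N) := fun i => (H i.succ).map (QuotientGroup.mk' N)
    have hq : HallP p (G ⧸ N) := by
      apply ih (G ⧸ N) H'
      · change (H (Fin.succ 0)).map (QuotientGroup.mk' N) = ⊥
        rw [Fin.succ_zero_eq_one, ← hNdef, QuotientGroup.map_mk'_self]
      · change (H (Fin.last n).succ).map (QuotientGroup.mk' N) = ⊤
        rw [Fin.succ_last, hlast]
        exact Subgroup.map_top_of_surjective _ (QuotientGroup.mk'_surjective N)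
      · intro i j hij
        exact Subgroup.map_mono (hmono (Fin.succ_le_succ_iff.2 hij))
      · intro i
        exact (hnorm i.succ).map _ (QuotientGroup.mk'_surjective N)
      · intro i
        have hNle : N ≤ H i.castSucc.succ := hmono (by
          rw [← Fin.succ_zero_eq_one]
          exact Fin.succ_le_succ_iff.2 (Fin.zero_le _))
        have e : (H' i.castSucc).relIndex (H' i.succ) =
            (H i.succ.castSucc).relIndex (H i.succ.succ) := by
          change ((H i.castSucc.succ).map _).relIndex ((H i.succ.succ).map _) = _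
          rw [relIndex_map_mk' N _ _ hNle, Fin.succ_castSucc]
        rw [e]
        exact hfac i.succ
    have h0' := hfac 0
    have hrel : (H (0 : Fin (n + 1)).castSucc).relIndex (H (0 : Fin (n + 1)).succ) = Nat.card N := by
      rw [Fin.castSucc_zero, h0, Fin.succ_zero_eq_one, Subgroup.relIndex_bot_left]
    rw [hrel] at h0'
    rcases h0' with ⟨m, hm⟩ | hcop
    · exact hallP_of_quotient_pgroup N (IsPGroup.of_card hm) hq
    · exact hallP_of_quotient_pprime N hcop hq

/-- `p`-solvable groups satisfy the Hall `p'`-theorems. -/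
theorem hallP_of_isPSolvable {G : Type u} [Group G] [Finite G] (p : ℕ) [Fact p.Prime]
    (hG : Cfsg.IsPSolvable p G) : HallP p G := by
  obtain ⟨n, H, h0, hlast, hmono, hnorm, hfac⟩ := hG
  exact hallP_of_series p n G H h0 hlast hmono hnorm hfac

end Cfsg.Agent.Helper3
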