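import Mathlib
import Cfsg.Prelude.Def_Classical
import Cfsg.Agent.S0246
import Cfsg.Agent.Lead.SpecSpA

/-!
# Element orders of `PSp₄(3)`: the upper bound

Every element `x` of `PSp₄(F)`, `|F| = 3`, satisfies `x ^ 5 = 1`, `x ^ 9 = 1` or `x ^ 12 = 1`:
the characteristic polynomial of a symplectic `4 × 4` matrix is self-reciprocal, so it is one of nine
polynomials `X⁴ + aX³ + bX² + aX + 1`, each of which divides one of
`X⁴ + 1`, `X⁵ ∓ 1`, `X⁶ - 1`, `X⁹ ∓ 1`, `X¹² - 1` (characteristic 3), and Cayley-Hamilton applies.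
-/

set_option autoImplicit false

namespace Cfsg.Agent.Helper3.PSp43Spec

open Matrix Polynomial

variable {F : Type*} [Field F]

local notation "Mat" => Matrix (Fin 2 ⊕ Fin 2) (Fin 2 ⊕ Fin 2) F

/-- the characteristic polynomial of a symplectic matrix is self-reciprocal -/
theorem charpoly_reverse (g : Matrix.symplecticGroup (Fin 2) F) :
    (g : Mat).charpoly.reverse = (g : Mat).charpoly := by
  have hdet : (g : Mat).det = 1 := SymplecticGroup.det_eq_one g.2
  have hunit : IsUnit (g : Mat) := by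
    rw [Matrix.isUnit_iff_isUnit_det, hdet]; exact isUnit_one
  have h1 := Matrix.charpoly_inv (g : Mat) hunit
  have h2 : ((g : Mat)⁻¹).charpoly = (g : Mat).charpoly := by
    rw [← SymplecticGroup.coe_inv', SymplecticGroup.coe_inv, Matrix.charpoly_mul_comm,
      ← Matrix.mul_assoc, Matrix.mul_neg, Matrix.J_squared, neg_neg, Matrix.one_mul,
      Matrix.charpoly_transpose]
  rw [Matrix.reverse_charpoly]
  rw [h2, hdet] at h1
  have hc : Fintype.card (Fin 2 ⊕ Fin 2) = 4 := by simp
  rw [hc, Ring.inverse_one, map_one, mul_one] at h1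
  rw [h1]
  norm_num

theorem charpoly_form (g : Matrix.symplecticGroup (Fin 2) F) :
    ∃ a b : F, (g : Mat).charpoly = X ^ 4 + C a * X ^ 3 + C b * X ^ 2 + C a * X + 1 := by
  set P := (g : Mat).charpoly with hP
  have hmonic : P.Monic := Matrix.charpoly_monic _
  have hdeg : P.natDegree = 4 := by
    rw [hP, Matrix.charpoly_natDegree_eq_dim]; simp
  have hrev : P.reverse = P := charpoly_reverse g
  have hco : ∀ i, i ≤ 4 → P.coeff i = P.coeff (4 - i) := by
    intro i hi
    have := congrArg (fun Q : F[X] => Q.coeff i) hrev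
    simp only [coeff_reverse, hdeg, revAt_le hi] at this
    exact this.symm
  have h4 : P.coeff 4 = 1 := by
    have := hmonic.coeff_natDegree
    rwa [hdeg] at this
  have h0 : P.coeff 0 = 1 := by rw [hco 0 (by norm_num)]; exact h4
  have h1 : P.coeff 1 = P.coeff 3 := hco 1 (by norm_num)
  refine ⟨P.coeff 3, P.coeff 2, ?_⟩
  have hs := P.as_sum_range' 5 (by rw [hdeg]; norm_num)
  refine hs.trans ?_
  simp only [Finset.sum_range_succ, Finset.sum_range_zero, zero_add, h0, h1, h4,
    ← C_mul_X_pow_eq_monomial, map_one, one_mul, pow_zero, mul_one, pow_one]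
  ring

theorem elt_cases [Fintype F] (hF : Fintype.card F = 3) (x : F) : x = 0 ∨ x = 1 ∨ x = -1 := by
  have h := FiniteField.pow_card x
  rw [hF] at h
  have h' : x * ((x - 1) * (x + 1)) = 0 := by linear_combination h
  rcases mul_eq_zero.mp h' with h1 | h1
  · left; exact h1
  · rcases mul_eq_zero.mp h1 with h2 | h2
    · right; left; exact sub_eq_zero.mp h2
    · right; right; exact eq_neg_of_add_eq_zero_left h2

theorem three_eq_zero [Fintype F] (hF : Fintype.card F = 3) : (3 : F[X]) = 0 := by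
  have h := FiniteField.cast_card_eq_zero F
  rw [hF] at h
  have h' : (3 : F) = 0 := by exact_mod_cast h
  calc (3 : F[X]) = C (3 : F) := (map_ofNat C 3).symm
    _ = C 0 := by rw [h']
    _ = 0 := C_0

/-- consequence of Cayley-Hamilton -/
theorem pow_of_dvd (g : Matrix.symplecticGroup (Fin 2) F) (n : ℕ) (c : F) (q : F[X])
    (h : (X ^ n - C c : F[X]) = (g : Mat).charpoly * q) :
    (g : Mat) ^ n = c • (1 : Mat) := by
  have h1 := congrArg (aeval (g : Mat)) h
  rw [map_mul, Matrix.aeval_self_charpoly, zero_mul, map_sub, map_pow, aeval_X, aeval_C] at h1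
  rw [sub_eq_zero] at h1
  rw [h1, Algebra.algebraMap_eq_smul_one]

theorem mat_pow [Fintype F] (hF : Fintype.card F = 3) (g : Matrix.symplecticGroup (Fin 2) F) :
    ((g : Mat) ^ 5 = 1 ∨ (g : Mat) ^ 5 = -1) ∨ ((g : Mat) ^ 9 = 1 ∨ (g : Mat) ^ 9 = -1) ∨
      ((g : Mat) ^ 12 = 1 ∨ (g : Mat) ^ 12 = -1) := by
  obtain ⟨a, b, hab⟩ := charpoly_form g
  have h3 := three_eq_zero hF
  have hsq : ∀ {k : ℕ}, (g : Mat) ^ k = (-1 : F) • (1 : Mat) → (g : Mat) ^ (k * 3) = -1 := by
    intro k hk
    rw [pow_mul, hk]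
    simp [pow_succ]
  have hsq1 : ∀ {k : ℕ} (m : ℕ), (g : Mat) ^ k = (1 : F) • (1 : Mat) → (g : Mat) ^ (k * m) = 1 := by
    intro k m hk
    rw [pow_mul, hk, one_smul, one_pow]
  rcases elt_cases hF a with rfl | rfl | rfl <;> rcases elt_cases hF b with rfl | rfl | rfl
  · -- (0,0) : X^4 + 1
    right; right; right
    have := pow_of_dvd g 4 (-1) 1 (by rw [hab]; simp)
    exact hsq this
  · -- (0,1)
    right; right; left
    have := pow_of_dvd g 6 1 (X ^ 2 - 1) (by rw [hab]; simp; ring)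
    exact hsq1 2 this
  · -- (0,-1)
    right; right; left
    have := pow_of_dvd g 12 1 (X ^ 8 + X ^ 6 - X ^ 2 - 1) (by rw [hab]; simp; ring)
    exact hsq1 1 this
  · -- (1,0)
    right; left; right
    have := pow_of_dvd g 9 (-1) (X ^ 5 - X ^ 4 + X ^ 3 + X ^ 2 - X + 1) (by
      rw [hab]; simp only [map_one, map_zero, map_neg, zero_mul, add_zero, one_mul]
      linear_combination (-X ^ 6 - X ^ 3) * h3)
    rw [this]; simp
  · -- (1,1)
    left; left
    have := pow_of_dvd g 5 1 (X - 1) (by rw [hab]; simp; ring)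
    rw [this]; simp
  · -- (1,-1)
    right; right; left
    have := pow_of_dvd g 12 1 (X ^ 8 - X ^ 7 - X ^ 6 - X ^ 5 + X ^ 3 + X ^ 2 + X - 1) (by
      rw [hab]; simp only [map_one, map_neg, one_mul, neg_mul]
      linear_combination (X ^ 10 - X ^ 2) * h3)
    rw [this]; simp
  · -- (-1,0)
    right; left; left
    have := pow_of_dvd g 9 1 (X ^ 5 + X ^ 4 + X ^ 3 - X ^ 2 - X - 1) (by
      rw [hab]; simp only [map_one, map_zero, map_neg, zero_mul, add_zero, one_mul, neg_mul]
      linear_combination (X ^ 6 - X ^ 3) * h3)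
    rw [this]; simp
  · -- (-1,1)
    left; right
    have := pow_of_dvd g 5 (-1) (X + 1) (by rw [hab]; simp; ring)
    rw [this]; simp
  · -- (-1,-1)
    right; right; left
    have := pow_of_dvd g 12 1 (X ^ 8 + X ^ 7 - X ^ 6 + X ^ 5 - X ^ 3 + X ^ 2 - X - 1) (by
      rw [hab]; simp only [map_one, map_neg, one_mul, neg_mul]
      linear_combination (X ^ 10 - X ^ 2) * h3)
    rw [this]; simp

/-- every element of `PSp₄(3)` has order dividing 5, 9 or 12 -/
theorem psp_pow [Fintype F] (hF : Fintype.card F = 3) (x : Cfsg.PSp 2 F) :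
    x ^ 5 = 1 ∨ x ^ 9 = 1 ∨ x ^ 12 = 1 := by
  obtain ⟨g, rfl⟩ := QuotientGroup.mk_surjective x
  have key : ∀ k : ℕ, ((g : Mat) ^ k = 1 ∨ (g : Mat) ^ k = -1) →
      (QuotientGroup.mk g : Cfsg.PSp 2 F) ^ k = 1 := by
    intro k hk
    rw [Cfsg.Agent.Lead.SpecSp.psp_pow_eq_one_iff (by norm_num) g k]
    rcases hk with hk | hk
    · left; apply Subtype.ext; rw [SubmonoidClass.coe_pow, hk]; rfl
    · right; apply Subtype.ext; rw [SubmonoidClass.coe_pow, hk]; rfl
  rcases mat_pow hF g with h | h | h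
  · left; exact key 5 h
  · right; left; exact key 9 h
  · right; right; exact key 12 h

end Cfsg.Agent.Helper3.PSp43Spec
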