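import Mathlib
import Cfsg.Prelude.Def_Classical
import Cfsg.Agent.S0246
import Cfsg.Agent.Lead.SpecSpA
import Cfsg.Agent.Helper5.SpMap
import Cfsg.Agent.Helper3.PSp43SpecA

/-!
# Element orders of `PSp₄(3)`

`Set.range orderOf = {1, 2, 3, 4, 5, 6, 9, 12}` for `PSp₄(F)`, `|F| = 3`: the upper bound is
`PSp43SpecA.psp_pow`; here seven explicit symplectic matrices over `ZMod 3` of projective orders
`2, 3, 4, 5, 6, 9, 12` are transported to `F`.
-/

set_option autoImplicit false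

namespace Cfsg.Agent.Helper3.PSp43Spec

open Matrix
open Cfsg.Agent.Helper5.SpMap (spMap spMap_val spMap_injective)

/-- the index type of symplectic `4 × 4` matrices. -/
abbrev I4 : Type := Fin 2 ⊕ Fin 2

/-- the numbering of the coordinates. -/
def num : I4 → ℕ
  | .inl i => i.val
  | .inr i => 2 + i.val

/-- a matrix over the integers modulo 3 from a table of numbers. -/
def mkS (l : List (List ℕ)) : Matrix I4 I4 (ZMod 3) :=
  fun i j => (((l.getD (num i) []).getD (num j) 0 : ℕ) : ZMod 3)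

/-- symplectic matrices of projective orders `2, 3, 4, 5, 6, 9, 12`. -/
def E : ℕ → Matrix I4 I4 (ZMod 3)
  | 0 => mkS [[0, 0, 0, 2], [0, 0, 1, 0], [0, 1, 0, 0], [2, 0, 0, 0]]
  | 1 => mkS [[1, 0, 2, 0], [0, 1, 0, 0], [0, 0, 1, 0], [0, 0, 0, 1]]
  | 2 => mkS [[1, 0, 1, 1], [0, 2, 2, 1], [2, 0, 0, 2], [0, 2, 2, 0]]
  | 3 => mkS [[0, 1, 0, 0], [0, 0, 1, 0], [0, 2, 2, 1], [2, 2, 0, 0]]
  | 4 => mkS [[2, 1, 1, 2], [1, 1, 0, 0], [0, 2, 2, 1], [1, 0, 0, 1]]
  | 5 => mkS [[1, 1, 0, 0], [0, 2, 2, 1], [0, 0, 1, 0], [0, 2, 0, 0]]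
  | _ => mkS [[0, 1, 1, 0], [2, 0, 0, 2], [0, 2, 2, 1], [0, 0, 2, 0]]

set_option maxRecDepth 100000 in
theorem E_symp (c : ℕ) :
    E c * Matrix.J (Fin 2) (ZMod 3) * (E c).transpose = Matrix.J (Fin 2) (ZMod 3) := by
  rcases c with _ | _ | _ | _ | _ | _ | c
  · decide +kernel
  · decide +kernel
  · decide +kernel
  · decide +kernel
  · decide +kernel
  · decide +kernel
  · rw [show E (c + 1 + 1 + 1 + 1 + 1 + 1) = E 6 from rfl]; decide +kernel

/-- the matrices as elements of `Sp₄(3)`. -/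
def Es (c : ℕ) : Matrix.symplecticGroup (Fin 2) (ZMod 3) :=
  ⟨E c, SymplecticGroup.mem_iff.mpr (E_symp c)⟩

set_option maxRecDepth 100000 in
theorem E0_2 : E 0 ^ 2 = 1 ∨ E 0 ^ 2 = -1 := by decide +kernel

set_option maxRecDepth 100000 in
theorem E0_1 : ¬ (E 0 ^ 1 = 1 ∨ E 0 ^ 1 = -1) := by decide +kernel

set_option maxRecDepth 100000 in
theorem E1_3 : E 1 ^ 3 = 1 ∨ E 1 ^ 3 = -1 := by decide +kernel

set_option maxRecDepth 100000 in
theorem E1_1 : ¬ (E 1 ^ 1 = 1 ∨ E 1 ^ 1 = -1) := by decide +kernel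

set_option maxRecDepth 100000 in
theorem E2_4 : E 2 ^ 4 = 1 ∨ E 2 ^ 4 = -1 := by decide +kernel

set_option maxRecDepth 100000 in
theorem E2_2 : ¬ (E 2 ^ 2 = 1 ∨ E 2 ^ 2 = -1) := by decide +kernel

set_option maxRecDepth 100000 in
theorem E3_5 : E 3 ^ 5 = 1 ∨ E 3 ^ 5 = -1 := by decide +kernel

set_option maxRecDepth 100000 in
theorem E3_1 : ¬ (E 3 ^ 1 = 1 ∨ E 3 ^ 1 = -1) := by decide +kernel

set_option maxRecDepth 100000 in
theorem E4_6 : E 4 ^ 6 = 1 ∨ E 4 ^ 6 = -1 := by decide +kernel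

set_option maxRecDepth 100000 in
theorem E4_3 : ¬ (E 4 ^ 3 = 1 ∨ E 4 ^ 3 = -1) := by decide +kernel

set_option maxRecDepth 100000 in
theorem E4_2 : ¬ (E 4 ^ 2 = 1 ∨ E 4 ^ 2 = -1) := by decide +kernel

set_option maxRecDepth 100000 in
theorem E5_9 : E 5 ^ 9 = 1 ∨ E 5 ^ 9 = -1 := by decide +kernel

set_option maxRecDepth 100000 in
theorem E5_3 : ¬ (E 5 ^ 3 = 1 ∨ E 5 ^ 3 = -1) := by decide +kernel

set_option maxRecDepth 100000 in
theorem E6_12 : E 6 ^ 12 = 1 ∨ E 6 ^ 12 = -1 := by decide +kernel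

set_option maxRecDepth 100000 in
theorem E6_6 : ¬ (E 6 ^ 6 = 1 ∨ E 6 ^ 6 = -1) := by decide +kernel

set_option maxRecDepth 100000 in
theorem E6_4 : ¬ (E 6 ^ 4 = 1 ∨ E 6 ^ 4 = -1) := by decide +kernel

section
variable {F : Type*} [Field F] [Fintype F]

/-- the prime field is the given field with three elements. -/
noncomputable def e3 (hF : Fintype.card F = 3) : ZMod 3 ≃+* F :=
  FiniteField.ringEquivOfCardEq (by rw [ZMod.card, hF])

/-- the images of the matrices in `PSp₄(F)`. -/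
noncomputable def xs (hF : Fintype.card F = 3) (c : ℕ) : Cfsg.PSp 2 F :=
  QuotientGroup.mk (spMap ((e3 hF : ZMod 3 ≃+* F) : ZMod 3 →+* F) (Es c))

theorem xs_pow_iff (hF : Fintype.card F = 3) (c k : ℕ) :
    xs hF c ^ k = 1 ↔ (E c ^ k = 1 ∨ E c ^ k = -1) := by
  have hinj : Function.Injective ((e3 hF : ZMod 3 ≃+* F) : ZMod 3 →+* F) :=
    (e3 hF).injective
  unfold xs
  rw [Cfsg.Agent.Lead.SpecSp.psp_pow_eq_one_iff (by norm_num) _ k, ← map_pow]
  have hco : ((Es c ^ k : Matrix.symplecticGroup (Fin 2) (ZMod 3)) : Matrix I4 I4 (ZMod 3))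
      = E c ^ k := by
    rw [SubmonoidClass.coe_pow]; rfl
  constructor
  · rintro (h | h)
    · left
      have h1 : Es c ^ k = 1 := spMap_injective _ hinj (by rw [h, map_one])
      rw [← hco, h1]; rfl
    · right
      have h2 := congrArg (fun z : Matrix.symplecticGroup (Fin 2) F =>
        (z : Matrix I4 I4 F)) h
      simp only [spMap_val, hco] at h2
      have h3 : ((-1 : Matrix I4 I4 (ZMod 3))).map ((e3 hF : ZMod 3 ≃+* F) : ZMod 3 →+* F)
          = (-1 : Matrix I4 I4 F) := by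
        ext i j
        simp [Matrix.map_apply, Matrix.neg_apply, Matrix.one_apply]
      have h4 : ((Cfsg.Agent.S0246.negOne 2 F : Matrix.symplecticGroup (Fin 2) F) :
          Matrix I4 I4 F) = -1 := rfl
      rw [h4, ← h3] at h2
      exact Matrix.map_injective hinj h2
  · rintro (h | h)
    · left
      have h1 : Es c ^ k = 1 := by
        apply Subtype.ext; rw [hco, h]; rfl
      rw [h1, map_one]
    · right
      apply Subtype.ext
      rw [spMap_val, hco, h]
      ext i j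
      simp [Matrix.map_apply, Matrix.neg_apply, Matrix.one_apply, Cfsg.Agent.S0246.negOne]

theorem orderOf_xs (hF : Fintype.card F = 3) :
    orderOf (xs hF 0) = 2 ∧ orderOf (xs hF 1) = 3 ∧ orderOf (xs hF 2) = 4 ∧
    orderOf (xs hF 3) = 5 ∧ orderOf (xs hF 4) = 6 ∧ orderOf (xs hF 5) = 9 ∧
    orderOf (xs hF 6) = 12 := by
  have a2 := E0_2; have a1 := E0_1; have b3 := E1_3; have b1 := E1_1; have c4 := E2_4
  have c2 := E2_2; have d5 := E3_5; have d1 := E3_1; have e6 := E4_6; have e3' := E4_3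
  have e2 := E4_2; have f9 := E5_9; have f3 := E5_3; have g12 := E6_12; have g6 := E6_6
  have g4 := E6_4
  have p1 : ∀ c, xs hF c ≠ 1 ↔ ¬ (E c ^ 1 = 1 ∨ E c ^ 1 = -1) := by
    intro c
    rw [← xs_pow_iff hF c 1, pow_one]
  refine ⟨?_, ?_, ?_, ?_, ?_, ?_, ?_⟩
  · exact orderOf_eq_prime ((xs_pow_iff hF 0 2).mpr a2) ((p1 0).mpr a1)
  · exact orderOf_eq_prime ((xs_pow_iff hF 1 3).mpr b3) ((p1 1).mpr b1)
  · have := orderOf_eq_prime_pow (p := 2) (n := 1) (x := xs hF 2)
      (by rw [pow_one, xs_pow_iff]; exact c2) (by rw [xs_pow_iff]; exact c4)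
    simpa using this
  · have : Fact (Nat.Prime 5) := ⟨by norm_num⟩
    exact orderOf_eq_prime ((xs_pow_iff hF 3 5).mpr d5) ((p1 3).mpr d1)
  · apply orderOf_eq_of_pow_and_pow_div_prime (by norm_num) ((xs_pow_iff hF 4 6).mpr e6)
    intro p hp hpd
    have hp23 : p = 2 ∨ p = 3 := by
      have hle := Nat.le_of_dvd (by norm_num) hpd
      interval_cases p
      all_goals first | omega | (exfalso; norm_num at hp)
    rcases hp23 with rfl | rfl
    · intro h; exact e3' ((xs_pow_iff hF 4 3).mp h)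
    · intro h; exact e2 ((xs_pow_iff hF 4 2).mp h)
  · have := orderOf_eq_prime_pow (p := 3) (n := 1) (x := xs hF 5)
      (by rw [pow_one, xs_pow_iff]; exact f3) (by rw [xs_pow_iff]; exact f9)
    simpa using this
  · apply orderOf_eq_of_pow_and_pow_div_prime (by norm_num) ((xs_pow_iff hF 6 12).mpr g12)
    intro p hp hpd
    have hp23 : p = 2 ∨ p = 3 := by
      have hle := Nat.le_of_dvd (by norm_num) hpd
      interval_cases p
      all_goals first | omega | (exfalso; norm_num at hp)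
    rcases hp23 with rfl | rfl
    · intro h; exact g6 ((xs_pow_iff hF 6 6).mp h)
    · intro h; exact g4 ((xs_pow_iff hF 6 4).mp h)

/-- **The set of element orders of `PSp₄(3)`.** -/
theorem range_orderOf (hF : Fintype.card F = 3) :
    Set.range (orderOf : Cfsg.PSp 2 F → ℕ) = {1, 2, 3, 4, 5, 6, 9, 12} := by
  obtain ⟨h2, h3, h4, h5, h6, h9, h12⟩ := orderOf_xs hF
  ext n
  simp only [Set.mem_range, Set.mem_insert_iff, Set.mem_singleton_iff]
  constructor
  · rintro ⟨x, rfl⟩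
    rcases psp_pow hF x with h | h | h
    · have hd := orderOf_dvd_of_pow_eq_one h
      rcases (Nat.dvd_prime Nat.prime_five).mp hd with h1 | h1 <;> rw [h1] <;> norm_num
    · have hd := orderOf_dvd_of_pow_eq_one h
      have hle := Nat.le_of_dvd (by norm_num) hd
      generalize orderOf x = m at hd hle
      interval_cases m <;> simp_all
    · have hd := orderOf_dvd_of_pow_eq_one h
      have hle := Nat.le_of_dvd (by norm_num) hd
      generalize orderOf x = m at hd hle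
      interval_cases m <;> simp_all
  · rintro (rfl | rfl | rfl | rfl | rfl | rfl | rfl | rfl)
    · exact ⟨1, orderOf_one⟩
    · exact ⟨_, h2⟩
    · exact ⟨_, h3⟩
    · exact ⟨_, h4⟩
    · exact ⟨_, h5⟩
    · exact ⟨_, h6⟩
    · exact ⟨_, h9⟩
    · exact ⟨_, h12⟩

end

end Cfsg.Agent.Helper3.PSp43Spec
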