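import Mathlib
import Cfsg.Agent.S3897

set_option autoImplicit false

/-!
Counting conjugacy classes of `π`-elements: `k_π(G) ≤ k_r(G) · B` when `B` bounds the numbers of
classes of `π ∖ {r}`-elements in the centralizers of `r`-elements; `k_π(G) ≤ |G|_π`.
-/

namespace Cfsg.Agent.Helper3.PiCl

universe u

variable {G : Type u} [Group G]

/-- `x` is a `σ`-element -/
def IsPiElt (σ : Finset ℕ) (x : G) : Prop := ∀ r : ℕ, r.Prime → r ∣ orderOf x → r ∈ σ

/-- the number of classes of `σ`-elements -/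
noncomputable def kPi (σ : Finset ℕ) (G : Type u) [Group G] : ℕ :=
  Nat.card {c : ConjClasses G // ∀ x ∈ c.carrier, ∀ r : ℕ, r.Prime → r ∣ orderOf x → r ∈ σ}

theorem orderOf_conj (g x : G) : orderOf (g * x * g⁻¹) = orderOf x := by
  have := (MulAut.conj g).orderOf_eq x
  rw [MulAut.conj_apply] at this
  exact this

theorem isPiElt_conj (σ : Finset ℕ) (g x : G) : IsPiElt σ (g * x * g⁻¹) ↔ IsPiElt σ x := by
  unfold IsPiElt
  rw [orderOf_conj]

theorem forall_carrier_iff (σ : Finset ℕ) (a : G) :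
    (∀ x ∈ (ConjClasses.mk a).carrier, ∀ r : ℕ, r.Prime → r ∣ orderOf x → r ∈ σ) ↔ IsPiElt σ a := by
  constructor
  · intro h
    exact h a ConjClasses.mem_carrier_mk
  · intro h x hx
    rw [ConjClasses.mem_carrier_iff_mk_eq] at hx
    obtain ⟨c, hc⟩ := isConj_iff.1 (ConjClasses.mk_eq_mk_iff_isConj.1 hx)
    have h1 : IsPiElt σ (c * x * c⁻¹) := by rw [hc]; exact h
    exact (isPiElt_conj σ c x).1 h1

/-- decomposition of a `σ`-element into its `r`-part and `r'`-part -/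
theorem exists_decomp [Finite G] {r : ℕ} (hr : r.Prime) {σ : Finset ℕ} (hrσ : r ∉ σ) (x : G)
    (hx : IsPiElt (insert r σ) x) :
    ∃ y z : G, y * z = x ∧ Commute y z ∧ IsPiElt {r} y ∧ IsPiElt σ z := by
  have hn : orderOf x ≠ 0 := (orderOf_pos x).ne'
  obtain ⟨a, m, hm, hnm⟩ := Nat.exists_eq_pow_mul_and_not_dvd hn r hr.ne_one
  have hcop : Nat.Coprime (r ^ a) m := Nat.Coprime.pow_left a ((Nat.Prime.coprime_iff_not_dvd hr).2 hm)
  have hbez := Nat.gcd_eq_gcd_ab (r ^ a) m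
  rw [hcop.gcd_eq_one] at hbez
  obtain ⟨u, hu⟩ : ∃ u : ℤ, u = Nat.gcdA (r ^ a) m := ⟨_, rfl⟩
  obtain ⟨v, hv⟩ : ∃ v : ℤ, v = Nat.gcdB (r ^ a) m := ⟨_, rfl⟩
  rw [← hu, ← hv] at hbez
  refine ⟨x ^ ((m : ℤ) * v), x ^ (((r ^ a : ℕ) : ℤ) * u), ?_, ?_, ?_, ?_⟩
  · rw [← zpow_add]
    have : (m : ℤ) * v + ((r ^ a : ℕ) : ℤ) * u = 1 := by
      have h0 := hbez
      push_cast at h0 ⊢
      linarith
    rw [this, zpow_one]
  · exact Commute.zpow_zpow_self x _ _
  · intro q hq hqd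
    have h1 : (x ^ ((m : ℤ) * v)) ^ (r ^ a) = 1 := by
      rw [← zpow_natCast, ← zpow_mul]
      have : (m : ℤ) * v * ((r ^ a : ℕ) : ℤ) = ((orderOf x : ℕ) : ℤ) * v := by
        rw [hnm]; push_cast; ring
      rw [this, zpow_mul, zpow_natCast, pow_orderOf_eq_one, one_zpow]
    have h2 : q ∣ r ^ a := hqd.trans (orderOf_dvd_of_pow_eq_one h1)
    have h3 : q ∣ r := hq.dvd_of_dvd_pow h2
    rw [Finset.mem_singleton]
    exact (Nat.prime_dvd_prime_iff_eq hq hr).1 h3
  · intro q hq hqd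
    have h1 : (x ^ (((r ^ a : ℕ) : ℤ) * u)) ^ m = 1 := by
      rw [← zpow_natCast, ← zpow_mul]
      have : ((r ^ a : ℕ) : ℤ) * u * (m : ℤ) = ((orderOf x : ℕ) : ℤ) * u := by
        rw [hnm]; push_cast; ring
      rw [this, zpow_mul, zpow_natCast, pow_orderOf_eq_one, one_zpow]
    have h2 : q ∣ m := hqd.trans (orderOf_dvd_of_pow_eq_one h1)
    have h3 : q ∣ orderOf x := by rw [hnm]; exact Dvd.dvd.mul_left h2 _
    have h4 := hx q hq h3
    rw [Finset.mem_insert] at h4
    rcases h4 with h4 | h4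
    · exfalso
      rw [h4] at h2
      exact hm h2
    · exact h4

/-- product of a commuting `r`-element and `σ`-element -/
theorem isPiElt_mul {r : ℕ} {σ : Finset ℕ} {y z : G} (hyz : Commute y z) (hy : IsPiElt {r} y)
    (hz : IsPiElt σ z) : IsPiElt (insert r σ) (y * z) := by
  intro q hq hqd
  have h1 : q ∣ orderOf y * orderOf z := hqd.trans hyz.orderOf_mul_dvd_mul_orderOf
  rw [Finset.mem_insert]
  rcases (Nat.Prime.dvd_mul hq).1 h1 with h | h
  · left
    exact Finset.mem_singleton.1 (hy q hq h)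
  · right
    exact hz q hq h

/-- the type of classes of `σ`-elements -/
abbrev PiClass (σ : Finset ℕ) (G : Type u) [Group G] : Type u :=
  {c : ConjClasses G // ∀ x ∈ c.carrier, ∀ r : ℕ, r.Prime → r ∣ orderOf x → r ∈ σ}

theorem kPi_eq (σ : Finset ℕ) (G : Type u) [Group G] : kPi σ G = Nat.card (PiClass σ G) := rfl

/-- a representative of a class -/
noncomputable def rep (c : ConjClasses G) : G := Quotient.out c

theorem mk_rep (c : ConjClasses G) : ConjClasses.mk (rep c) = c := Quotient.out_eq c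

theorem isPiElt_rep {σ : Finset ℕ} (c : PiClass σ G) : IsPiElt σ (rep c.1) := by
  apply c.2
  rw [ConjClasses.mem_carrier_iff_mk_eq]
  exact mk_rep c.1

theorem isPiElt_coe_iff {σ : Finset ℕ} {K : Subgroup G} (x : K) :
    IsPiElt σ (x : G) ↔ IsPiElt σ x := by
  unfold IsPiElt
  rw [Subgroup.orderOf_coe]

/-- the assembling map -/
noncomputable def Psi (r : ℕ) (σ : Finset ℕ) :
    (Σ d : PiClass {r} G, PiClass σ (Subgroup.centralizer ({rep d.1} : Set G))) →
      PiClass (insert r σ) G :=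
  fun t => ⟨ConjClasses.mk (rep t.1.1 * (rep t.2.1).1),
    (forall_carrier_iff _ _).2 (isPiElt_mul
      (by
        have h := (rep t.2.1).2
        rw [Subgroup.mem_centralizer_iff] at h
        exact h _ rfl)
      (isPiElt_rep t.1) ((isPiElt_coe_iff _).2 (isPiElt_rep t.2)))⟩

theorem Psi_surjective [Finite G] {r : ℕ} (hr : r.Prime) {σ : Finset ℕ} (hrσ : r ∉ σ) :
    Function.Surjective (Psi (G := G) r σ) := by
  intro c
  obtain ⟨y, z, hyz, hcomm, hy, hz⟩ := exists_decomp hr hrσ (rep c.1) (isPiElt_rep c)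
  obtain ⟨d, hd⟩ : ∃ d : PiClass {r} G, d = ⟨ConjClasses.mk y, (forall_carrier_iff _ _).2 hy⟩ :=
    ⟨_, rfl⟩
  have hd1 : ConjClasses.mk y = ConjClasses.mk (rep d.1) := by
    rw [mk_rep, hd]
  obtain ⟨g, hg⟩ := isConj_iff.1 (ConjClasses.mk_eq_mk_iff_isConj.1 hd1)
  have hz' : g * z * g⁻¹ ∈ Subgroup.centralizer ({rep d.1} : Set G) := by
    rw [Subgroup.mem_centralizer_iff]
    intro h hh
    rw [Set.mem_singleton_iff] at hh
    rw [hh, ← hg]
    have := hcomm.eq
    calc g * y * g⁻¹ * (g * z * g⁻¹) = g * (y * z) * g⁻¹ := by group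
      _ = g * (z * y) * g⁻¹ := by rw [this]
      _ = g * z * g⁻¹ * (g * y * g⁻¹) := by group
  have hz'σ : IsPiElt σ (⟨g * z * g⁻¹, hz'⟩ : Subgroup.centralizer ({rep d.1} : Set G)) := by
    rw [← isPiElt_coe_iff]
    exact (isPiElt_conj σ g z).2 hz
  obtain ⟨e, he⟩ : ∃ e : PiClass σ (Subgroup.centralizer ({rep d.1} : Set G)),
      e = ⟨ConjClasses.mk ⟨g * z * g⁻¹, hz'⟩, (forall_carrier_iff _ _).2 hz'σ⟩ := ⟨_, rfl⟩
  have he1 : ConjClasses.mk (⟨g * z * g⁻¹, hz'⟩ : Subgroup.centralizer ({rep d.1} : Set G)) =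
      ConjClasses.mk (rep e.1) := by
    rw [mk_rep, he]
  obtain ⟨h, hh⟩ := isConj_iff.1 (ConjClasses.mk_eq_mk_iff_isConj.1 he1)
  refine ⟨⟨d, e⟩, ?_⟩
  apply Subtype.ext
  change ConjClasses.mk (rep d.1 * (rep e.1).1) = c.1
  rw [← mk_rep c.1, eq_comm, ConjClasses.mk_eq_mk_iff_isConj, isConj_iff]
  refine ⟨(h : G) * g, ?_⟩
  have hh' : (h : G) * (g * z * g⁻¹) * (h : G)⁻¹ = (rep e.1).1 := by
    have := congrArg Subtype.val hh
    simpa using this
  have hhy : (h : G) * rep d.1 * (h : G)⁻¹ = rep d.1 := by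
    have h1 := h.2
    rw [Subgroup.mem_centralizer_iff] at h1
    have h2 := h1 (rep d.1) rfl
    calc (h : G) * rep d.1 * (h : G)⁻¹ = (rep d.1 * h) * (h : G)⁻¹ := by rw [h2]
      _ = rep d.1 := by group
  rw [← hyz]
  calc (h : G) * g * (y * z) * ((h : G) * g)⁻¹
      = ((h : G) * (g * y * g⁻¹) * (h : G)⁻¹) * ((h : G) * (g * z * g⁻¹) * (h : G)⁻¹) := by group
    _ = rep d.1 * (rep e.1).1 := by rw [hg, hhy, hh']

/-- the key counting step -/
theorem kPi_insert_le [Finite G] {r : ℕ} (hr : r.Prime) {σ : Finset ℕ} (hrσ : r ∉ σ) (B : ℕ)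
    (hB : ∀ y : G, kPi σ (Subgroup.centralizer ({y} : Set G)) ≤ B) :
    kPi (insert r σ) G ≤ kPi {r} G * B := by
  classical
  haveI : Fintype (PiClass {r} G) := Fintype.ofFinite _
  rw [kPi_eq, kPi_eq]
  calc Nat.card (PiClass (insert r σ) G)
      ≤ Nat.card (Σ d : PiClass {r} G, PiClass σ (Subgroup.centralizer ({rep d.1} : Set G))) :=
        Nat.card_le_card_of_surjective _ (Psi_surjective hr hrσ)
    _ = ∑ d : PiClass {r} G, Nat.card (PiClass σ (Subgroup.centralizer ({rep d.1} : Set G))) :=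
        Nat.card_sigma
    _ ≤ ∑ _d : PiClass {r} G, B := Finset.sum_le_sum (fun d _ => hB (rep d.1))
    _ = Nat.card (PiClass {r} G) * B := by
        rw [Finset.sum_const, Finset.card_univ, smul_eq_mul, Nat.card_eq_fintype_card]

theorem isPiElt_singleton_iff {r : ℕ} (hr : r.Prime) [Finite G] (x : G) :
    IsPiElt {r} x ↔ ∃ k : ℕ, orderOf x = r ^ k := by
  constructor
  · intro h
    refine ⟨_, Nat.eq_prime_pow_of_unique_prime_dvd (orderOf_pos x).ne' ?_⟩
    intro q hq hqd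
    exact Finset.mem_singleton.1 (h q hq hqd)
  · rintro ⟨k, hk⟩ q hq hqd
    rw [hk] at hqd
    rw [Finset.mem_singleton]
    exact (Nat.prime_dvd_prime_iff_eq hq hr).1 (hq.dvd_of_dvd_pow hqd)

theorem kPi_singleton_eq {r : ℕ} (hr : r.Prime) [Finite G] :
    kPi {r} G = Nat.card {c : ConjClasses G // ∀ x ∈ c.carrier, ∃ k : ℕ, orderOf x = r ^ k} := by
  rw [kPi_eq]
  apply Nat.card_congr
  apply Equiv.subtypeEquivRight
  intro c
  constructor
  · intro h x hx
    exact (isPiElt_singleton_iff hr x).1 (h x hx)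
  · intro h x hx
    exact (isPiElt_singleton_iff hr x).2 (h x hx)

theorem kPi_singleton_le {r : ℕ} (hr : r.Prime) [Finite G] :
    kPi {r} G ≤ r ^ (Nat.card G).factorization r := by
  haveI : Fact r.Prime := ⟨hr⟩
  obtain ⟨R⟩ := (inferInstance : Nonempty (Sylow r G))
  rw [kPi_singleton_eq hr, ← Sylow.card_eq_multiplicity R]
  apply Nat.card_le_card_of_surjective (fun x : (R : Subgroup G) =>
    (⟨ConjClasses.mk (x : G), Cfsg.Agent.S3897.isPElt_of_mem_sylow R x x.2⟩ :
      {c : ConjClasses G // ∀ x ∈ c.carrier, ∃ k : ℕ, orderOf x = r ^ k}))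
  rintro ⟨c, hc⟩
  obtain ⟨x, hx, hxc⟩ := Cfsg.Agent.S3897.exists_mem_sylow R c hc
  exact ⟨⟨x, hx⟩, Subtype.ext hxc⟩

theorem kPi_empty_le [Finite G] : kPi ∅ G ≤ 1 := by
  rw [kPi_eq, Finite.card_le_one_iff_subsingleton]
  constructor
  intro c d
  apply Subtype.ext
  have key : ∀ c : PiClass ∅ G, c.1 = ConjClasses.mk 1 := by
    intro c
    have h1 := isPiElt_rep c
    have h2 : orderOf (rep c.1) = 1 := by
      by_contra hne
      obtain ⟨q, hq, hqd⟩ := Nat.exists_prime_and_dvd hne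
      exact absurd (h1 q hq hqd) (Finset.notMem_empty q)
    rw [orderOf_eq_one_iff] at h2
    rw [← mk_rep c.1, h2]
  rw [key c, key d]

/-- the number of classes of `σ`-elements is at most the `σ`-part of the order -/
theorem kPi_le (σ : Finset ℕ) (hσ : ∀ r ∈ σ, r.Prime) :
    ∀ (H : Type u) [Group H] [Finite H],
      kPi σ H ≤ σ.prod (fun r => r ^ (Nat.card H).factorization r) := by
  classical
  induction σ using Finset.induction_on with
  | empty =>
    intro H _ _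
    rw [Finset.prod_empty]
    exact kPi_empty_le
  | insert r σ hr ih =>
    intro H _ _
    have hrp : r.Prime := hσ r (Finset.mem_insert_self r σ)
    have hσ' : ∀ q ∈ σ, q.Prime := fun q hq => hσ q (Finset.mem_insert_of_mem hq)
    rw [Finset.prod_insert hr]
    refine le_trans (kPi_insert_le hrp hr (σ.prod (fun q => q ^ (Nat.card H).factorization q)) ?_)
      (Nat.mul_le_mul_right _ (kPi_singleton_le hrp))
    intro y
    refine le_trans (ih hσ' _) ?_
    apply Finset.prod_le_prod'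
    intro q hq
    apply Nat.pow_le_pow_right (hσ' q hq).pos
    have hdvd : Nat.card (Subgroup.centralizer ({y} : Set H)) ∣ Nat.card H :=
      Subgroup.card_subgroup_dvd_card _
    exact (Nat.factorization_le_iff_dvd Nat.card_pos.ne' Nat.card_pos.ne').2 hdvd q

theorem kPi_centralizer_le [Finite G] (σ : Finset ℕ) (hσ : ∀ r ∈ σ, r.Prime) (y : G) :
    kPi σ (Subgroup.centralizer ({y} : Set G)) ≤
      σ.prod (fun q => q ^ (Nat.card G).factorization q) := by
  refine le_trans (kPi_le σ hσ _) ?_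
  apply Finset.prod_le_prod'
  intro q hq
  apply Nat.pow_le_pow_right (hσ q hq).pos
  have hdvd : Nat.card (Subgroup.centralizer ({y} : Set G)) ∣ Nat.card G :=
    Subgroup.card_subgroup_dvd_card _
  exact (Nat.factorization_le_iff_dvd Nat.card_pos.ne' Nat.card_pos.ne').2 hdvd q

/-- `k_π(G) ≤ k_r(G) · |G|_{π ∖ r}` -/
theorem kPi_le_mul [Finite G] (π : Finset ℕ) (hπ : ∀ r ∈ π, r.Prime) {r : ℕ} (hr : r ∈ π) :
    kPi π G ≤ kPi {r} G * (π.erase r).prod (fun q => q ^ (Nat.card G).factorization q) := by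
  classical
  have h := kPi_insert_le (G := G) (hπ r hr) (Finset.notMem_erase r π)
    ((π.erase r).prod (fun q => q ^ (Nat.card G).factorization q))
    (fun y => kPi_centralizer_le (π.erase r) (fun q hq => hπ q (Finset.mem_of_mem_erase hq)) y)
  rwa [Finset.insert_erase hr] at h

end Cfsg.Agent.Helper3.PiCl
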