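import Mathlib
import Cfsg.Agent.Helper1.SylowInt
import Cfsg.Agent.Helper5.CharP2

set_option autoImplicit false

/-!
`π`-closed groups: if `N_G(H)/C_G(H)` is a `π'`-group for every nontrivial `π'`-subgroup `H`
(`Hom G π`), then normal `π`-by-`π'`-by-`π` sections collapse to `π`-by-`π'`.
-/

namespace Cfsg.Agent.Helper3.PiSep

open scoped Pointwise
open Cfsg.Agent.Helper1

universe u
variable {G : Type u} [Group G]

/-- A subgroup containing a Sylow `p`-subgroup for every prime `p` is the whole group. -/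
theorem eq_top_of_sylow_le [Finite G] (H : Subgroup G)
    (h : ∀ p : ℕ, p.Prime → ∃ P : Subgroup G, P ≤ H ∧
      Nat.card P = p ^ (Nat.card G).factorization p) : H = ⊤ := by
  apply Subgroup.eq_top_of_card_eq
  apply Nat.dvd_antisymm (Subgroup.card_subgroup_dvd_card H)
  rw [← Nat.factorization_prime_le_iff_dvd Nat.card_pos.ne' Nat.card_pos.ne']
  intro p hp
  obtain ⟨P, hPH, hP⟩ := h p hp
  have h1 : p ^ (Nat.card G).factorization p ∣ Nat.card H := by
    rw [← hP]; exact Subgroup.card_dvd_of_le hPH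
  exact (hp.pow_dvd_iff_le_factorization Nat.card_pos.ne').1 h1

theorem card_map_mk' (N : Subgroup G) [N.Normal] (M : Subgroup G) :
    Nat.card (M.map (QuotientGroup.mk' N)) = N.relIndex M := by
  have h := Subgroup.relIndex_comap (H := (⊥ : Subgroup (G ⧸ N))) (QuotientGroup.mk' N) M
  rw [Subgroup.relIndex_bot_left] at h
  rw [← h]
  congr 1
  exact QuotientGroup.ker_mk' N

/-- An element of `M` whose order is coprime to `|M : N|` lies in the normal subgroup `N`. -/
theorem mem_of_coprime_relIndex (N : Subgroup G) [N.Normal] (M : Subgroup G) {x : G}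
    (hx : x ∈ M) (hc : (orderOf x).Coprime (N.relIndex M)) : x ∈ N := by
  have h1 : orderOf (QuotientGroup.mk' N x) ∣ N.relIndex M := by
    rw [← card_map_mk']
    have : QuotientGroup.mk' N x ∈ M.map (QuotientGroup.mk' N) := Subgroup.mem_map_of_mem _ hx
    exact Subgroup.orderOf_dvd_natCard _ this
  have h2 : orderOf (QuotientGroup.mk' N x) ∣ orderOf x := orderOf_map_dvd _ x
  have h3 : orderOf (QuotientGroup.mk' N x) = 1 := Nat.eq_one_of_dvd_coprimes hc h2 h1
  rw [orderOf_eq_one_iff] at h3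
  exact (QuotientGroup.eq_one_iff x).1 h3

theorem orderOf_conj' (c x : G) : orderOf (c * x * c⁻¹) = orderOf x :=
  orderOf_injective (MulAut.conj c).toMonoidHom (MulAut.conj c).injective x

/-- If the `π`-elements form a subgroup `L`, then `L` is a normal Hall `π`-subgroup. -/
theorem hall_of_piElements [Finite G] (π : Set ℕ) (L : Subgroup G)
    (hL : ∀ x : G, x ∈ L ↔ ∀ p : ℕ, p.Prime → p ∣ orderOf x → p ∈ π) :
    L.Normal ∧ (∀ p : ℕ, p.Prime → p ∣ Nat.card L → p ∈ π) ∧
      (∀ p : ℕ, p.Prime → p ∣ L.index → p ∉ π) := by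
  refine ⟨⟨?_⟩, ?_, ?_⟩
  · intro x hx c
    rw [hL] at hx ⊢
    rw [orderOf_conj']
    exact hx
  · intro p hp hpd
    have : Fact p.Prime := ⟨hp⟩
    obtain ⟨x, hx⟩ := exists_prime_orderOf_dvd_card' (G := L) p hpd
    have h1 := (hL (x : G)).1 x.2 p hp
    rw [Subgroup.orderOf_coe, hx] at h1
    exact h1 dvd_rfl
  · intro p hp hpd hpπ
    have : Fact p.Prime := ⟨hp⟩
    obtain ⟨P⟩ : Nonempty (Sylow p G) := inferInstance
    have hPL : (P : Subgroup G) ≤ L := by
      intro y hy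
      rw [hL]
      intro r hr hry
      obtain ⟨k, hk⟩ := P.2 ⟨y, hy⟩
      have h1 : y ^ p ^ k = 1 := by
        have := congrArg Subtype.val hk
        simpa using this
      have h2 : r ∣ p ^ k := hry.trans (orderOf_dvd_of_pow_eq_one h1)
      have h3 := (Nat.prime_dvd_prime_iff_eq hr hp).1 (hr.dvd_of_dvd_pow h2)
      rw [h3]; exact hpπ
    exact P.not_dvd_index (hpd.trans (Subgroup.index_dvd_of_le hPL))

/-- A normal Hall `π`-subgroup is the set of `π`-elements. -/
theorem piElements_of_hall [Finite G] (π : Set ℕ) (L : Subgroup G) [L.Normal]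
    (h1 : ∀ p : ℕ, p.Prime → p ∣ Nat.card L → p ∈ π)
    (h2 : ∀ p : ℕ, p.Prime → p ∣ L.index → p ∉ π) (x : G) :
    x ∈ L ↔ ∀ p : ℕ, p.Prime → p ∣ orderOf x → p ∈ π := by
  constructor
  · intro hx p hp hpo
    exact h1 p hp (hpo.trans (Subgroup.orderOf_dvd_natCard _ hx))
  · intro hx
    apply mem_of_coprime_relIndex L ⊤ (Subgroup.mem_top x)
    rw [Subgroup.relIndex_top_right]
    apply Nat.coprime_of_dvd
    intro p hp hpo hpi
    exact h2 p hp hpi (hx p hp hpo)

/-- Lifting a normalizing element of a `q`-subgroup of `G ⧸ E` to an element normalizing a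
`q`-subgroup of `G` lying above it. -/
theorem lift_normalizer [Finite G] (E : Subgroup G) [E.Normal] (q : ℕ) [Fact q.Prime]
    (Qb : Subgroup (G ⧸ E)) (hQb : IsPGroup q Qb) (f : G ⧸ E)
    (hf : f ∈ Subgroup.normalizer (Qb : Set (G ⧸ E))) :
    ∃ (Q : Subgroup G) (n : G), IsPGroup q Q ∧ Q.map (QuotientGroup.mk' E) = Qb ∧
      n ∈ Subgroup.normalizer (Q : Set G) ∧ QuotientGroup.mk' E n = f := by
  set mk := QuotientGroup.mk' E with hmk
  have hsurj : Function.Surjective mk := QuotientGroup.mk'_surjective E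
  set T : Subgroup G := Qb.comap mk with hT
  obtain ⟨P⟩ : Nonempty (Sylow q T) := inferInstance
  set Q : Subgroup G := (P : Subgroup T).map T.subtype with hQ
  have hQT : Q ≤ T := Subgroup.map_subtype_le _
  -- the image of Q is Qb
  have hφ : Function.Surjective (mk.subgroupComap Qb) :=
    mk.subgroupComap_surjective_of_surjective Qb hsurj
  have htop : ((P.mapSurjective hφ : Sylow q Qb) : Subgroup Qb) = ⊤ := by
    have h1 : IsPGroup q (⊤ : Subgroup Qb) := by
      intro y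
      obtain ⟨k, hk⟩ := hQb y.1
      exact ⟨k, Subtype.ext hk⟩
    exact ((P.mapSurjective hφ).is_maximal' h1 le_top).symm
  have hlift : ∀ yb ∈ Qb, ∃ y ∈ Q, mk y = yb := by
    intro yb hyb
    have h1 : (⟨yb, hyb⟩ : Qb) ∈ ((P.mapSurjective hφ : Sylow q Qb) : Subgroup Qb) := by
      rw [htop]; trivial
    rw [Sylow.coe_mapSurjective, Subgroup.mem_map] at h1
    obtain ⟨y, hy, hy'⟩ := h1
    refine ⟨(y : G), Subgroup.mem_map.2 ⟨y, hy, rfl⟩, ?_⟩
    have := congrArg Subtype.val hy'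
    exact this
  have hmap : Q.map mk = Qb := by
    apply le_antisymm
    · rintro _ ⟨y, hy, rfl⟩
      exact hQT hy
    · intro yb hyb
      obtain ⟨y, hy, rfl⟩ := hlift yb hyb
      exact Subgroup.mem_map_of_mem _ hy
  obtain ⟨x, rfl⟩ := hsurj f
  have hxT : x ∈ Subgroup.normalizer (T : Set G) := by
    apply Subgroup.le_normalizer_comap mk
    exact hf
  obtain ⟨P', hP'⟩ := exists_sylow_map_eq_conj T P x hxT
  obtain ⟨t, ht, ht'⟩ := exists_conj_sylow_map T P' P
  have htx : t * x ∈ Subgroup.normalizer (Q : Set G) := by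
    apply mem_normalizer_of_conj_smul_eq
    rw [map_mul, mul_smul, ← hP', ht']
  obtain ⟨u, hu, hu'⟩ := hlift (mk t) ht
  refine ⟨Q, u⁻¹ * (t * x), P.2.map _, hmap, ?_, ?_⟩
  · exact Subgroup.mul_mem _ (Subgroup.inv_mem _ (Subgroup.le_normalizer hu)) htx
  · rw [map_mul, map_mul, map_inv, hu']
    group

theorem pow_relIndex_mem_centralizer (Q : Subgroup G) {n : G}
    (hn : n ∈ Subgroup.normalizer (Q : Set G)) :
    n ^ (Subgroup.centralizer (Q : Set G)).relIndex (Subgroup.normalizer (Q : Set G)) ∈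
      Subgroup.centralizer (Q : Set G) := by
  have hnorm : ((Subgroup.centralizer (Q : Set G)).subgroupOf
      (Subgroup.normalizer (Q : Set G))).Normal :=
    Subgroup.normal_subgroupOf_of_le_normalizer
      (Cfsg.Agent.Helper5.normalizer_le_normalizer_centralizer Q)
  have h := Subgroup.pow_index_mem ((Subgroup.centralizer (Q : Set G)).subgroupOf
      (Subgroup.normalizer (Q : Set G))) ⟨n, hn⟩
  exact h

/-- The hypothesis of `π'`-homogeneity. -/
def Hom (G : Type u) [Group G] (π : Set ℕ) : Prop :=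
  ∀ H : Subgroup G, H ≠ ⊥ → (∀ p : ℕ, p.Prime → p ∣ Nat.card ↥H → p ∉ π) →
    ∀ p : ℕ, p.Prime → p ∣ (Subgroup.centralizer (H : Set G)).relIndex
      (Subgroup.normalizer (H : Set G)) → p ∉ π

theorem centralize_sylow [Finite G] (π : Set ℕ) (hhom : Hom G π) (E : Subgroup G) [E.Normal]
    (q : ℕ) [Fact q.Prime] (Qb : Subgroup (G ⧸ E)) (hQb : IsPGroup q Qb)
    (hqπ : ∀ p : ℕ, p.Prime → p ∣ Nat.card Qb → p ∉ π) (f : G ⧸ E)
    (hf : f ∈ Subgroup.normalizer (Qb : Set (G ⧸ E)))
    (hfπ : ∀ p : ℕ, p.Prime → p ∣ orderOf f → p ∈ π) :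
    f ∈ Subgroup.centralizer (Qb : Set (G ⧸ E)) := by
  have hq : q.Prime := Fact.out
  by_cases hbot : Qb = ⊥
  · rw [hbot, Subgroup.coe_bot, Subgroup.centralizer_eq_top_iff_subset.2]
    · trivial
    · simp
  obtain ⟨Q, n, hQ, hmap, hn, rfl⟩ := lift_normalizer E q Qb hQb f hf
  have hQbot : Q ≠ ⊥ := by
    rintro rfl
    rw [Subgroup.map_bot] at hmap
    exact hbot hmap.symm
  have hqQb : q ∣ Nat.card Qb := by
    obtain ⟨k, hk⟩ := hQb.exists_card_eq
    rw [hk]
    have hk0 : k ≠ 0 := by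
      rintro rfl
      rw [pow_zero, Subgroup.card_eq_one] at hk
      exact hbot hk
    exact dvd_pow_self q hk0
  have hqπ' : q ∉ π := hqπ q hq hqQb
  have hQπ : ∀ p : ℕ, p.Prime → p ∣ Nat.card Q → p ∉ π := by
    intro p hp hpQ
    obtain ⟨k, hk⟩ := hQ.exists_card_eq
    rw [hk] at hpQ
    have := (Nat.prime_dvd_prime_iff_eq hp hq).1 (hp.dvd_of_dvd_pow hpQ)
    rw [this]; exact hqπ'
  set r := (Subgroup.centralizer (Q : Set G)).relIndex (Subgroup.normalizer (Q : Set G)) with hr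
  have hrπ : ∀ p : ℕ, p.Prime → p ∣ r → p ∉ π := hhom Q hQbot hQπ
  have hnr : n ^ r ∈ Subgroup.centralizer (Q : Set G) := pow_relIndex_mem_centralizer Q hn
  have hfr : (QuotientGroup.mk' E n) ^ r ∈ Subgroup.centralizer (Qb : Set (G ⧸ E)) := by
    rw [Subgroup.mem_centralizer_iff]
    intro yb hyb
    rw [← hmap] at hyb
    obtain ⟨y, hy, rfl⟩ := hyb
    rw [Subgroup.mem_centralizer_iff] at hnr
    have := hnr y hy
    rw [← map_pow, ← map_mul, ← map_mul, this]
  have hcop : r.Coprime (orderOf (QuotientGroup.mk' E n)) := by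
    apply Nat.coprime_of_dvd
    intro p hp hpr hpo
    exact hrπ p hp hpr (hfπ p hp hpo)
  obtain ⟨m, hm⟩ := exists_pow_eq_self_of_coprime hcop
  rw [← hm]
  exact Subgroup.pow_mem _ hfr m

/-- Step 1: a `π`-element of `G ⧸ E` centralizes every normal `π'`-subgroup. -/
theorem centralize_normal [Finite G] (π : Set ℕ) (hhom : Hom G π) (E : Subgroup G) [E.Normal]
    (Kb : Subgroup (G ⧸ E)) [Kb.Normal]
    (hKb : ∀ p : ℕ, p.Prime → p ∣ Nat.card Kb → p ∉ π) (f : G ⧸ E)
    (hfπ : ∀ p : ℕ, p.Prime → p ∣ orderOf f → p ∈ π) :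
    f ∈ Subgroup.centralizer (Kb : Set (G ⧸ E)) := by
  set A : Subgroup (G ⧸ E) := Subgroup.zpowers f with hA
  have hAK : A ≤ Subgroup.normalizer (Kb : Set (G ⧸ E)) := by
    rw [Subgroup.normalizer_eq_top Kb]; exact le_top
  have hcop : (Nat.card A).Coprime (Nat.card Kb) := by
    rw [hA, Nat.card_zpowers]
    apply Nat.coprime_of_dvd
    intro p hp hpo hpk
    exact hKb p hp hpk (hfπ p hp hpo)
  have hsolv : Group.IsSolvable A ∨ Group.IsSolvable Kb := Or.inl inferInstance
  have hD : (Subgroup.centralizer ({f} : Set (G ⧸ E))).subgroupOf Kb = ⊤ := by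
    apply eq_top_of_sylow_le
    intro q hq
    have : Fact q.Prime := ⟨hq⟩
    obtain ⟨P, hP⟩ := exists_invariant_sylow (p := q) A Kb hAK hcop hsolv
    refine ⟨(P : Subgroup Kb), ?_, P.card_eq_multiplicity⟩
    intro y hy
    rw [Subgroup.mem_subgroupOf, Subgroup.mem_centralizer_iff]
    intro g hg
    rw [Set.mem_singleton_iff] at hg
    rw [hg]
    set Qb : Subgroup (G ⧸ E) := (P : Subgroup Kb).map Kb.subtype with hQb
    have hQbp : IsPGroup q Qb := P.2.map _
    have hQbK : Qb ≤ Kb := Subgroup.map_subtype_le _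
    have h1 : f ∈ Subgroup.centralizer (Qb : Set (G ⧸ E)) := by
      apply centralize_sylow π hhom E q Qb hQbp _ f (hP (Subgroup.mem_zpowers f)) hfπ
      intro p hp hpQ
      exact hKb p hp (hpQ.trans (Subgroup.card_dvd_of_le hQbK))
    rw [Subgroup.mem_centralizer_iff] at h1
    exact (h1 (y : G ⧸ E) (Subgroup.mem_map.2 ⟨y, hy, rfl⟩)).symm
  rw [Subgroup.mem_centralizer_iff]
  intro k hk
  have h1 : (⟨k, hk⟩ : Kb) ∈ (Subgroup.centralizer ({f} : Set (G ⧸ E))).subgroupOf Kb := by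
    rw [hD]; trivial
  rw [Subgroup.mem_subgroupOf, Subgroup.mem_centralizer_iff] at h1
  exact (h1 f rfl).symm

theorem core [Finite G] (π : Set ℕ) (hhom : Hom G π) (E K M : Subgroup G)
    [E.Normal] [K.Normal] [M.Normal] (hEK : E ≤ K) (hKM : K ≤ M)
    (hE : ∀ p : ℕ, p.Prime → p ∣ Nat.card E → p ∈ π)
    (hKE : ∀ p : ℕ, p.Prime → p ∣ E.relIndex K → p ∉ π)
    (hMK : ∀ p : ℕ, p.Prime → p ∣ K.relIndex M → p ∈ π) :
    ∃ E' : Subgroup G, E'.Normal ∧ E ≤ E' ∧ E' ≤ M ∧
      (∀ p : ℕ, p.Prime → p ∣ Nat.card E' → p ∈ π) ∧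
      (∀ p : ℕ, p.Prime → p ∣ E'.relIndex M → p ∉ π) := by
  set mk := QuotientGroup.mk' E with hmk
  have hsurj : Function.Surjective mk := QuotientGroup.mk'_surjective E
  have hker : mk.ker = E := QuotientGroup.ker_mk' E
  set Kb : Subgroup (G ⧸ E) := K.map mk with hKb
  set Mb : Subgroup (G ⧸ E) := M.map mk with hMb
  have hKbn : Kb.Normal := Subgroup.Normal.map inferInstance mk hsurj
  have hMbn : Mb.Normal := Subgroup.Normal.map inferInstance mk hsurj
  have hKbMb : Kb ≤ Mb := Subgroup.map_mono hKM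
  have hcardKb : Nat.card Kb = E.relIndex K := card_map_mk' E K
  have hcomapK : Kb.comap mk = K := Subgroup.comap_map_eq_self (by rw [hker]; exact hEK)
  have hcomapM : Mb.comap mk = M :=
    Subgroup.comap_map_eq_self (by rw [hker]; exact hEK.trans hKM)
  have hrel : Kb.relIndex Mb = K.relIndex M := by
    rw [hMb, ← Subgroup.relIndex_comap, hcomapK]
  have hKbπ : ∀ p : ℕ, p.Prime → p ∣ Nat.card Kb → p ∉ π := by
    rw [hcardKb]; exact hKE
  -- Schur–Zassenhaus inside Mb
  set N : Subgroup Mb := Kb.subgroupOf Mb with hN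
  have hNn : N.Normal := inferInstance
  have hcardN : Nat.card N = Nat.card Kb := card_subgroupOf_of_le hKbMb
  have hNidx : N.index = K.relIndex M := hrel
  have hcopN : (Nat.card N).Coprime N.index := by
    rw [hcardN, hNidx]
    apply Nat.coprime_of_dvd
    intro p hp h1 h2
    exact hKbπ p hp h1 (hMK p hp h2)
  obtain ⟨F₀, hF₀⟩ := Subgroup.exists_right_complement'_of_coprime hcopN
  set m := Nat.card F₀ with hm
  have hmidx : m = K.relIndex M := by rw [hm, ← hF₀.symm.index_eq_card, hNidx]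
  have hmπ : ∀ p : ℕ, p.Prime → p ∣ m → p ∈ π := by rw [hmidx]; exact hMK
  have hcopm : (Nat.card Kb).Coprime m := by
    apply Nat.coprime_of_dvd
    intro p hp h1 h2
    exact hKbπ p hp h1 (hmπ p hp h2)
  -- F₀ centralizes Kb
  have hcent : ∀ g : Mb, g ∈ F₀ → (g : G ⧸ E) ∈ Subgroup.centralizer (Kb : Set (G ⧸ E)) := by
    intro g hg
    apply centralize_normal π hhom E Kb hKbπ
    intro p hp hpo
    apply hmπ p hp
    rw [Subgroup.orderOf_coe] at hpo
    have h1 : orderOf (⟨g, hg⟩ : F₀) ∣ Nat.card F₀ := orderOf_dvd_natCard _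
    rw [← Subgroup.orderOf_coe] at h1
    exact hpo.trans h1
  set Fb : Subgroup (G ⧸ E) := F₀.map Mb.subtype with hFb
  have hFbMb : Fb ≤ Mb := Subgroup.map_subtype_le _
  have hchar : ∀ y : G ⧸ E, y ∈ Fb ↔ y ∈ Mb ∧ y ^ m = 1 := by
    intro y
    constructor
    · rintro ⟨g, hg, rfl⟩
      refine ⟨g.2, ?_⟩
      have h1 : (⟨g, hg⟩ : F₀) ^ m = 1 := pow_card_eq_one'
      have h2 := congrArg (fun z : F₀ => ((z : Mb) : G ⧸ E)) h1
      simpa using h2
    · rintro ⟨hy, hym⟩
      obtain ⟨⟨k, g⟩, hkg⟩ := (Subgroup.isComplement_iff_existsUnique.1 hF₀ ⟨y, hy⟩).exists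
      have hkg' : ((k : Mb) : G ⧸ E) * ((g : Mb) : G ⧸ E) = y := by
        have := congrArg (fun z : Mb => (z : G ⧸ E)) hkg
        simpa using this
      have hkK : ((k : Mb) : G ⧸ E) ∈ Kb := k.2
      have hcomm : Commute ((k : Mb) : G ⧸ E) ((g : Mb) : G ⧸ E) := by
        have := hcent g g.2
        rw [Subgroup.mem_centralizer_iff] at this
        exact this _ hkK
      have hgm : ((g : Mb) : G ⧸ E) ^ m = 1 := by
        have h1 : g ^ m = 1 := pow_card_eq_one'
        have h2 := congrArg (fun z : F₀ => ((z : Mb) : G ⧸ E)) h1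
        simpa using h2
      have hkm : ((k : Mb) : G ⧸ E) ^ m = 1 := by
        rw [← hkg', hcomm.mul_pow, hgm, mul_one] at hym
        exact hym
      have hk1 : ((k : Mb) : G ⧸ E) = 1 := by
        have h1 : orderOf ((k : Mb) : G ⧸ E) ∣ m := orderOf_dvd_of_pow_eq_one hkm
        have h2 : orderOf ((k : Mb) : G ⧸ E) ∣ Nat.card Kb := Subgroup.orderOf_dvd_natCard _ hkK
        have h3 := Nat.eq_one_of_dvd_coprimes hcopm h2 h1
        exact orderOf_eq_one_iff.1 h3
      rw [← hkg', hk1, one_mul]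
      exact Subgroup.mem_map.2 ⟨g, g.2, rfl⟩
  have hFbn : Fb.Normal := by
    constructor
    intro y hy c
    rw [hchar] at hy ⊢
    refine ⟨hMbn.conj_mem y hy.1 c, ?_⟩
    rw [conj_pow, hy.2, mul_one, mul_inv_cancel]
  have hcardFb : Nat.card Fb = m := Subgroup.card_map_of_injective Mb.subtype_injective
  refine ⟨Fb.comap mk, hFbn.comap mk, ?_, ?_, ?_, ?_⟩
  · exact le_of_eq_of_le hker.symm (Subgroup.ker_le_comap mk Fb)
  · rw [← hcomapM]; exact Subgroup.comap_mono hFbMb
  · intro p hp hpd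
    have hE' : E ≤ Fb.comap mk := le_of_eq_of_le hker.symm (Subgroup.ker_le_comap mk Fb)
    have h1 : E.relIndex (Fb.comap mk) = m := by
      rw [← card_map_mk', Subgroup.map_comap_eq_self_of_surjective hsurj, hcardFb]
    rw [← relIndex_mul_card_of_le hE', h1] at hpd
    rcases (Nat.Prime.dvd_mul hp).1 hpd with h | h
    · exact hmπ p hp h
    · exact hE p hp h
  · intro p hp hpd
    rw [← hcomapM] at hpd
    have h1 : (Fb.comap mk).relIndex (Mb.comap mk) = Nat.card Kb := by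
      rw [hcomapM, Subgroup.relIndex_comap, ← hMb, Subgroup.relIndex, hFb]
      have : (F₀.map Mb.subtype).subgroupOf Mb = F₀ :=
        Subgroup.comap_map_eq_self_of_injective Mb.subtype_injective F₀
      rw [this, hF₀.index_eq_card, hcardN]
    rw [h1] at hpd
    exact hKbπ p hp hpd

end Cfsg.Agent.Helper3.PiSep
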