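import Mathlib

set_option autoImplicit false

/-!
A symmetric 2-cocycle with values in `ZMod 2` on an elementary abelian 2-group that vanishes on the
diagonal is a coboundary.
-/

namespace Cfsg.Agent.Helper3.Pk

/-- the underlying type of the extension of `V` by `ZMod 2` defined by a cocycle. -/
structure CExt (V : Type*) (β : V → V → ZMod 2) where
  fst : V
  snd : ZMod 2

namespace CExt

variable {V : Type*} {β : V → V → ZMod 2}

theorem ext' {a b : CExt V β} (h1 : a.fst = b.fst) (h2 : a.snd = b.snd) : a = b := by
  cases a; cases b; simp only at h1 h2; subst h1; subst h2; rfl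

end CExt

theorem z2_add_self (a : ZMod 2) : a + a = 0 := by revert a; decide

theorem z2_eq_zero_or_one (a : ZMod 2) : a = 0 ∨ a = 1 := by revert a; decide

theorem exists_coboundary {V : Type*} [AddCommGroup V] (hV : ∀ v : V, v + v = 0)
    (β : V → V → ZMod 2)
    (hcoc : ∀ x y z, β y z + β (x + y) z + β x (y + z) + β x y = 0)
    (hsym : ∀ x y, β x y = β y x) (hdiag : ∀ x, β x x = 0) :
    ∃ γ : V → ZMod 2, ∀ x y, γ (x + y) = γ x + γ y + β x y := by
  classical
  -- normalisation
  have h00 : β 0 0 = 0 := hdiag 0
  have h0r : ∀ z, β 0 z = 0 := by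
    intro z
    have := hcoc 0 0 z
    simp only [add_zero, zero_add] at this
    rw [h00, add_zero, z2_add_self, zero_add] at this
    exact this
  have hr0 : ∀ z, β z 0 = 0 := fun z => by rw [hsym]; exact h0r z
  have hassoc : ∀ x y z, β x y + β (x + y) z = β y z + β x (y + z) := by
    intro x y z
    have h := hcoc x y z
    have e : β x y + β (x + y) z = (β y z + β (x + y) z + β x (y + z) + β x y)
        + (β y z + β x (y + z)) := by
      have h1 := z2_add_self (β y z)
      have h2 := z2_add_self (β x (y + z))
      linear_combination (-1 : ZMod 2) * h1 - h2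
    rw [e, h, zero_add]
  -- the group structure
  let iAdd : Add (CExt V β) := ⟨fun a b => ⟨a.fst + b.fst, a.snd + b.snd + β a.fst b.fst⟩⟩
  let iZero : Zero (CExt V β) := ⟨⟨0, 0⟩⟩
  let iNeg : Neg (CExt V β) := ⟨fun a => a⟩
  have hadd_fst : ∀ a b : CExt V β, (a + b).fst = a.fst + b.fst := fun _ _ => rfl
  have hadd_snd : ∀ a b : CExt V β, (a + b).snd = a.snd + b.snd + β a.fst b.fst := fun _ _ => rfl
  have hzero_fst : (0 : CExt V β).fst = 0 := rfl
  have hzero_snd : (0 : CExt V β).snd = 0 := rfl
  let iG : AddCommGroup (CExt V β) :=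
    { add := (· + ·)
      zero := 0
      neg := fun a => a
      nsmul := nsmulRec
      zsmul := zsmulRec
      add_assoc := by
        intro a b c
        apply CExt.ext'
        · simp only [hadd_fst]; exact add_assoc _ _ _
        · simp only [hadd_snd, hadd_fst]
          have := hassoc a.fst b.fst c.fst
          linear_combination this
      zero_add := by
        intro a
        apply CExt.ext'
        · simp only [hadd_fst, hzero_fst, zero_add]
        · simp only [hadd_snd, hzero_fst, hzero_snd, h0r, zero_add, add_zero]
      add_zero := by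
        intro a
        apply CExt.ext'
        · simp only [hadd_fst, hzero_fst, add_zero]
        · simp only [hadd_snd, hzero_fst, hzero_snd, hr0, add_zero]
      neg_add_cancel := by
        intro a
        apply CExt.ext'
        · show a.fst + a.fst = 0
          exact hV _
        · show a.snd + a.snd + β a.fst a.fst = 0
          rw [hdiag, z2_add_self, add_zero]
      add_comm := by
        intro a b
        apply CExt.ext'
        · simp only [hadd_fst]; exact add_comm _ _
        · simp only [hadd_snd]
          rw [hsym a.fst b.fst]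
          ring }
  have hself : ∀ a : CExt V β, a + a = 0 := by
    intro a
    apply CExt.ext'
    · show a.fst + a.fst = 0
      exact hV _
    · show a.snd + a.snd + β a.fst a.fst = 0
      rw [hdiag, z2_add_self, add_zero]
  let iM : Module (ZMod 2) (CExt V β) := AddCommGroup.zmodModule (n := 2) (by
    intro a
    rw [two_nsmul]
    exact hself a)
  have hne : (⟨0, 1⟩ : CExt V β) ≠ 0 := by
    intro h
    have := congrArg CExt.snd h
    simp only [hzero_snd] at this
    exact one_ne_zero this
  obtain ⟨f, hf⟩ := Module.Projective.exists_dual_eq_one (ZMod 2) hne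
  refine ⟨fun v => f ⟨v, 0⟩, ?_⟩
  intro x y
  have hsplit : (⟨x, 0⟩ : CExt V β) + ⟨y, 0⟩ = ⟨x + y, 0⟩ + ⟨0, β x y⟩ := by
    apply CExt.ext'
    · simp only [hadd_fst, add_zero]
    · simp only [hadd_snd, zero_add, hr0, add_zero]
  have hz : f (⟨0, β x y⟩ : CExt V β) = β x y := by
    rcases z2_eq_zero_or_one (β x y) with h | h
    · rw [h]
      have : (⟨0, 0⟩ : CExt V β) = 0 := rfl
      rw [this, map_zero]
    · rw [h, hf]
  have := congrArg f hsplit
  rw [map_add, map_add, hz] at this
  show f ⟨x + y, 0⟩ = f ⟨x, 0⟩ + f ⟨y, 0⟩ + β x y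
  have h2 := z2_add_self (β x y)
  linear_combination (-1 : ZMod 2) * this - h2
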