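import Mathlib
import Cfsg.Prelude.Def_Sporadic_a
import Cfsg.Prelude.Def_Spor_Mathieu
import Cfsg.Agent.Helper9.Golay.Aut
import Cfsg.Agent.Helper3.PkA

set_option autoImplicit false

/-!
The eleven-dimensional subcode of the length-24 code consisting of the words that vanish at the
extra point, in coordinates, with a cocycle `thX` whose coboundary is the triple intersection form.
-/

namespace Cfsg.Agent.Helper3.Pk

open Cfsg Cfsg.Agent.Helper9.Golay

/-- binary words of length 24. -/
abbrev V : Type := GolayPt → ZMod 2

/-- coordinate vectors. -/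
abbrev X : Type := Fin 11 → ZMod 2

/-- masks of the basis words (a reduced echelon basis, pivots at the bits 22, …, 12). -/
def bmask : Fin 11 → ℕ :=
  ![0x400a4f, 0x200f68, 0x1007b4, 0x803da, 0x401ed, 0x20ab9, 0x10f13, 0x8dc6, 0x46e3, 0x293e, 0x149f]

/-- the basis words. -/
def bs (k : Fin 11) : V := decW (bmask k)

/-- the pivot points. -/
def pv (k : Fin 11) : GolayPt := some (((22 - k.val : ℕ) : ZMod 23))

theorem bs_pv : ∀ k j : Fin 11, bs k (pv j) = if j = k then 1 else 0 := by decide

theorem bs_none : ∀ k : Fin 11, bs k none = 0 := by decide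

theorem bmask_mem : ∀ k : Fin 11, bmask k ∈ codeList := by decide +kernel

theorem bs_mem (k : Fin 11) : bs k ∈ golayCode := decW_mem_of_mem_codeList (bmask_mem k)

/-- the word with given coordinates. -/
def enc (x : X) : V := fun q => ∑ k, x k * bs k q

/-- the coordinates of a word. -/
def crd (d : V) : X := fun k => d (pv k)

theorem enc_add (x y : X) : enc (x + y) = enc x + enc y := by
  funext q
  simp only [enc, Pi.add_apply, add_mul, Finset.sum_add_distrib]

theorem enc_zero : enc 0 = 0 := by
  funext q
  simp only [enc, Pi.zero_apply, zero_mul, Finset.sum_const_zero]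

theorem crd_add (d e : V) : crd (d + e) = crd d + crd e := by
  funext k
  simp only [crd, Pi.add_apply]

theorem crd_enc (x : X) : crd (enc x) = x := by
  funext j
  simp only [crd, enc, bs_pv]
  simp only [mul_ite, mul_one, mul_zero]
  rw [Finset.sum_ite_eq]
  simp

theorem enc_injective : Function.Injective enc := by
  intro x y h
  rw [← crd_enc x, ← crd_enc y, h]

theorem enc_mem (x : X) : enc x ∈ golayCode := by
  have : enc x = ∑ k, x k • bs k := by
    funext q
    simp only [enc, Finset.sum_apply, Pi.smul_apply, smul_eq_mul]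
  rw [this]
  exact Submodule.sum_mem _ (fun k _ => Submodule.smul_mem _ _ (bs_mem k))

theorem enc_none (x : X) : enc x none = 0 := by
  simp only [enc, bs_none, mul_zero, Finset.sum_const_zero]

/-! ### weights -/

/-- the weight of a word. -/
def wt (w : V) : ℕ := ∑ q, (w q).val

/-- the dot product of two words. -/
def dotv (u w : V) : ZMod 2 := ∑ q, u q * w q

theorem wt_cast (w : V) : ((wt w : ℕ) : ZMod 2) = ∑ q, w q := by
  unfold wt
  rw [Nat.cast_sum]
  apply Finset.sum_congr rfl
  intro q _
  exact ZMod.natCast_zmod_val (w q)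

theorem wt_mul_cast (u w : V) : ((wt (u * w) : ℕ) : ZMod 2) = dotv u w := by
  rw [wt_cast]
  rfl

theorem wt_add (u w : V) : wt (u + w) + 2 * wt (u * w) = wt u + wt w := by
  unfold wt
  rw [Finset.mul_sum, ← Finset.sum_add_distrib, ← Finset.sum_add_distrib]
  apply Finset.sum_congr rfl
  intro q _
  simp only [Pi.add_apply, Pi.mul_apply]
  generalize u q = a
  generalize w q = b
  revert a b
  decide

theorem even_of_cast_eq_zero {n : ℕ} (h : ((n : ℕ) : ZMod 2) = 0) : Even n := by
  rw [ZMod.natCast_eq_zero_iff] at h
  exact even_iff_two_dvd.mpr h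

/-- half the weight, modulo 2. -/
def hw (w : V) : ZMod 2 := ((wt w / 2 : ℕ) : ZMod 2)

theorem hw_add (u w : V) (hu : Even (wt u)) (hw' : Even (wt w)) :
    hw (u + w) = hw u + hw w + dotv u w := by
  obtain ⟨a, ha⟩ := hu
  obtain ⟨b, hb⟩ := hw'
  have h := wt_add u w
  have h1 : wt (u + w) / 2 + wt (u * w) = a + b := by omega
  have h2 : wt u / 2 = a := by omega
  have h3 : wt w / 2 = b := by omega
  unfold hw
  rw [h2, h3, ← wt_mul_cast]
  have h4 := congrArg (Nat.cast : ℕ → ZMod 2) h1
  rw [Nat.cast_add, Nat.cast_add] at h4
  have h5 := z2_add_self ((wt (u * w) : ℕ) : ZMod 2)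
  linear_combination h4 - h5

theorem dotv_add_left (u v w : V) : dotv (u + v) w = dotv u w + dotv v w := by
  simp only [dotv, Pi.add_apply, add_mul, Finset.sum_add_distrib]

theorem dotv_comm (u w : V) : dotv u w = dotv w u := by
  simp only [dotv, mul_comm]

theorem dotv_add_right (u v w : V) : dotv u (v + w) = dotv u v + dotv u w := by
  simp only [dotv, Pi.add_apply, mul_add, Finset.sum_add_distrib]

theorem dotv_bs_bs : ∀ j k : Fin 11, dotv (bs j) (bs k) = 0 := by decide +kernel

theorem dotv_enc_bs (x : X) (k : Fin 11) : dotv (enc x) (bs k) = 0 := by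
  unfold dotv enc
  simp only [Finset.sum_mul]
  rw [Finset.sum_comm]
  apply Finset.sum_eq_zero
  intro j _
  have h := dotv_bs_bs j k
  unfold dotv at h
  simp only [mul_assoc]
  rw [← Finset.mul_sum, h, mul_zero]

theorem dotv_enc_enc (x y : X) : dotv (enc x) (enc y) = 0 := by
  have : ∀ q, enc y q = ∑ k, y k * bs k q := fun q => rfl
  unfold dotv
  simp only [this, Finset.mul_sum]
  rw [Finset.sum_comm]
  apply Finset.sum_eq_zero
  intro k _
  have h := dotv_enc_bs x k
  unfold dotv at h
  have e : ∀ q, enc x q * (y k * bs k q) = y k * (enc x q * bs k q) := fun q => by ring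
  simp only [e]
  rw [← Finset.mul_sum, h, mul_zero]

theorem z2_mul_self (a : ZMod 2) : a * a = a := by revert a; decide

theorem even_wt_enc_mul_bs (x : X) (k : Fin 11) : Even (wt (enc x * bs k)) :=
  even_of_cast_eq_zero (by rw [wt_mul_cast]; exact dotv_enc_bs x k)

/-! ### the cocycle -/

/-- the index of the coordinate in the linear correction. -/
def Lidx : Fin 11 → Fin 11 := ![0, 0, 0, 0, 0, 0, 4, 5, 0, 8, 1]

/-- whether there is a linear correction. -/
def Lhas : Fin 11 → Bool := ![false, false, true, false, false, false, true, true, false, true, true]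

/-- the linear correction. -/
def lin (k : Fin 11) (x : X) : ZMod 2 := if Lhas k = true then x (Lidx k) else 0

theorem lin_add (k : Fin 11) (x y : X) : lin k (x + y) = lin k x + lin k y := by
  unfold lin
  split_ifs
  · rfl
  · simp

/-- the value of the cocycle at a basis vector in the second argument. -/
def Qk (k : Fin 11) (x : X) : ZMod 2 := hw (enc x * bs k) + lin k x

/-- the cocycle. -/
def thX (x y : X) : ZMod 2 := ∑ k, y k * Qk k x

/-- the triple intersection form. -/
def TX (x y z : X) : ZMod 2 := ∑ q, enc x q * enc y q * enc z q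

theorem Qk_add (k : Fin 11) (x y : X) :
    Qk k (x + y) = Qk k x + Qk k y + ∑ q, enc x q * enc y q * bs k q := by
  unfold Qk
  rw [enc_add, add_mul, hw_add _ _ (even_wt_enc_mul_bs x k) (even_wt_enc_mul_bs y k), lin_add]
  have : dotv (enc x * bs k) (enc y * bs k) = ∑ q, enc x q * enc y q * bs k q := by
    unfold dotv
    apply Finset.sum_congr rfl
    intro q _
    simp only [Pi.mul_apply]
    have := z2_mul_self (bs k q)
    linear_combination (enc x q * enc y q) * this
  rw [this]
  ring

theorem thX_zero_left (y : X) : thX 0 y = 0 := by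
  unfold thX Qk
  apply Finset.sum_eq_zero
  intro k _
  have h1 : hw (enc 0 * bs k) = 0 := by
    rw [enc_zero, zero_mul]
    unfold hw wt
    simp
  have h2 : lin k 0 = 0 := by
    unfold lin
    split_ifs <;> rfl
  rw [h1, h2, add_zero, mul_zero]

theorem thX_zero_right (x : X) : thX x 0 = 0 := by
  unfold thX
  simp

theorem thX_add_right (x y z : X) : thX x (y + z) = thX x y + thX x z := by
  unfold thX
  simp only [Pi.add_apply, add_mul, Finset.sum_add_distrib]

/-- the coboundary of the cocycle is the triple intersection form. -/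
theorem thX_coboundary (x y z : X) :
    thX y z + thX (x + y) z + thX x (y + z) + thX x y = TX x y z := by
  rw [thX_add_right]
  have h1 : thX y z + thX (x + y) z + thX x z = TX x y z := by
    unfold thX TX
    rw [← Finset.sum_add_distrib, ← Finset.sum_add_distrib]
    have e : ∀ k : Fin 11, z k * Qk k y + z k * Qk k (x + y) + z k * Qk k x
        = z k * ∑ q, enc x q * enc y q * bs k q := by
      intro k
      rw [Qk_add]
      have a1 := z2_add_self (Qk k x)
      have a2 := z2_add_self (Qk k y)
      linear_combination (z k) * a1 + (z k) * a2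
    simp only [e, Finset.mul_sum]
    rw [Finset.sum_comm]
    apply Finset.sum_congr rfl
    intro q _
    have : enc z q = ∑ k, z k * bs k q := rfl
    rw [this, Finset.mul_sum]
    apply Finset.sum_congr rfl
    intro k _
    ring
  have h2 := z2_add_self (thX x y)
  linear_combination h1 + h2

end Cfsg.Agent.Helper3.Pk
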