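import Mathlib
import Cfsg.Prelude.Def_Sporadic_a
import Cfsg.Prelude.Def_Spor_Mathieu
import Cfsg.Agent.Helper9.Golay.Aut
import Cfsg.Agent.Helper3.PkB

set_option autoImplicit false

/-!
The diagonal of the cocycle `thX` and its symmetrisation.
-/

namespace Cfsg.Agent.Helper3.Pk

open Cfsg Cfsg.Agent.Helper9.Golay

theorem X_add_self (x : X) : x + x = 0 := by
  funext k
  exact z2_add_self (x k)

theorem X_add_cancel (x y : X) : y + (x + y) = x := by
  rw [add_comm x y, ← add_assoc, X_add_self, zero_add]

/-- induction on coordinate vectors. -/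
theorem X_induction (P : X → Prop) (h0 : P 0) (hs : ∀ x k, P x → P (x + Pi.single k 1)) :
    ∀ x, P x := by
  intro x
  have key : ∀ s : Finset (Fin 11), P (∑ k ∈ s, Pi.single k (x k)) := by
    intro s
    induction s using Finset.induction_on with
    | empty => simpa using h0
    | insert k s hk ih =>
      rw [Finset.sum_insert hk, add_comm]
      rcases z2_eq_zero_or_one (x k) with h | h
      · rw [h, Pi.single_zero, add_zero]
        exact ih
      · rw [h]
        exact hs _ k ih
  have := key Finset.univ
  rwa [Finset.univ_sum_single] at this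

theorem enc_single (k : Fin 11) : enc (Pi.single k 1) = bs k := by
  funext q
  unfold enc
  rw [Finset.sum_eq_single k]
  · simp
  · intro j _ hj
    rw [Pi.single_eq_of_ne hj, zero_mul]
  · intro h
    exact absurd (Finset.mem_univ k) h

/-- a quarter of the weight, modulo 2. -/
def PX (x : X) : ZMod 2 := ((wt (enc x) / 4 : ℕ) : ZMod 2)

theorem wt_bs : ∀ k : Fin 11, wt (bs k) = 8 := by decide +kernel

theorem TX_add_self (x y : X) : TX x y (x + y) = 0 := by
  unfold TX
  apply Finset.sum_eq_zero
  intro q _
  rw [enc_add, Pi.add_apply]
  generalize enc x q = a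
  generalize enc y q = b
  revert a b
  decide

theorem TX_self_left (x y : X) : TX y y x = 0 := by
  have h := dotv_enc_enc y x
  unfold dotv at h
  unfold TX
  rw [← h]
  apply Finset.sum_congr rfl
  intro q _
  rw [z2_mul_self]

/-- the values of the cocycle on sums. -/
theorem thX_add_add (x y : X) :
    thX (x + y) (x + y) = thX x x + thX y y + thX x y + thX y x := by
  have h1 := thX_coboundary x y (x + y)
  rw [TX_add_self, X_add_cancel] at h1
  have h2 := thX_coboundary y y x
  rw [TX_self_left, X_add_self, thX_zero_left, add_comm y x] at h2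
  have a1 := z2_add_self (thX y (x + y))
  have a2 := z2_add_self (thX x x)
  have a3 := z2_add_self (thX y x)
  have a4 := z2_add_self (thX x y)
  have a5 := z2_add_self (thX y y)
  linear_combination h1 + h2 - a1 - a2 - a3 - a4 - a5

theorem Qk_single : ∀ j k : Fin 11,
    Qk j (Pi.single k 1) = if Lhas k = true ∧ Lidx k = j then 1 else 0 := by
  intro j k
  unfold Qk
  rw [enc_single]
  revert j k
  decide +kernel

theorem thX_single_left (k : Fin 11) (x : X) : thX (Pi.single k 1) x = lin k x := by
  unfold thX lin
  simp only [Qk_single]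
  by_cases h : Lhas k = true
  · simp only [h, true_and, mul_ite, mul_one, mul_zero, if_true]
    rw [Finset.sum_ite_eq]
    simp
  · have h' : Lhas k = false := by simpa using h
    simp [h']

theorem Lidx_ne : ∀ k : Fin 11, ¬ (Lhas k = true ∧ Lidx k = k) := by decide

theorem thX_single_right (k : Fin 11) (x : X) : thX x (Pi.single k 1) = Qk k x := by
  unfold thX
  rw [Finset.sum_eq_single k]
  · simp
  · intro j _ hj
    rw [Pi.single_eq_of_ne hj, zero_mul]
  · intro h
    exact absurd (Finset.mem_univ k) h

/-- the diagonal of the cocycle, and double evenness. -/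
theorem thX_self_and (x : X) : thX x x = PX x ∧ 4 ∣ wt (enc x) := by
  induction x using X_induction with
  | h0 =>
    constructor
    · rw [thX_zero_left]
      unfold PX
      rw [enc_zero]
      unfold wt
      simp
    · rw [enc_zero]
      unfold wt
      simp
  | hs x k ih =>
    obtain ⟨ih1, A, hA⟩ := ih
    obtain ⟨c, hc⟩ := even_wt_enc_mul_bs x k
    have hw8 := wt_bs k
    have hadd := wt_add (enc x) (bs k)
    have hwt : wt (enc (x + Pi.single k 1)) + 4 * c = 4 * A + 8 := by
      rw [enc_add, enc_single]
      omega
    constructor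
    · have hkk : thX (Pi.single k 1) (Pi.single k 1) = 0 := by
        rw [thX_single_right, Qk_single, if_neg (Lidx_ne k)]
      rw [thX_add_add, hkk, thX_single_left, thX_single_right, ih1]
      unfold Qk PX hw
      have e1 : wt (enc (x + Pi.single k 1)) / 4 + c = A + 2 := by omega
      have e2 : wt (enc x) / 4 = A := by omega
      have e3 : wt (enc x * bs k) / 2 = c := by omega
      rw [e2, e3]
      have e4 := congrArg (Nat.cast : ℕ → ZMod 2) e1
      rw [Nat.cast_add, Nat.cast_add] at e4
      have e5 : ((2 : ℕ) : ZMod 2) = 0 := by decide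
      rw [e5, add_zero] at e4
      have a1 := z2_add_self (lin k x)
      have a2 := z2_add_self ((c : ℕ) : ZMod 2)
      linear_combination a1 + a2 - e4
    · exact ⟨A + 2 - c, by omega⟩

theorem thX_self (x : X) : thX x x = PX x := (thX_self_and x).1

/-- the symmetrisation of the cocycle. -/
theorem thX_symm (x y : X) : thX x y + thX y x = PX (x + y) + PX x + PX y := by
  have h := thX_add_add x y
  rw [thX_self, thX_self, thX_self] at h
  have a1 := z2_add_self (PX x)
  have a2 := z2_add_self (PX y)
  linear_combination (-1 : ZMod 2) * h - a1 - a2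

end Cfsg.Agent.Helper3.Pk
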