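import Mathlib
import Cfsg.Prelude.Def_Sporadic_a
import Cfsg.Prelude.Def_Spor_Mathieu
import Cfsg.Agent.Helper9.Golay.Aut
import Cfsg.Agent.Helper3.PkC

set_option autoImplicit false

/-!
The action of the point stabiliser on coordinate vectors, and the existence of a function `γ`
for each of its elements.
-/

namespace Cfsg.Agent.Helper3.Pk

open Cfsg Cfsg.Agent.Helper9.Golay
open scoped Pointwise

/-- the group of the code preserves the code. -/
theorem comp_mem_golayCode {σ : Equiv.Perm GolayPt} (hσ : σ ∈ M24) {w : V} (hw : w ∈ golayCode) :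
    w ∘ ⇑σ ∈ golayCode := by
  have h1 : support₂ w ∈ supports (golayCode : Set (GolayPt → ZMod 2)) := ⟨w, hw, rfl⟩
  have h2 := smul_mem_supports (M24.inv_mem hσ) h1
  rw [inv_smul_support₂] at h2
  obtain ⟨v, hv, hvs⟩ := h2
  have : v = w ∘ ⇑σ := eq_of_support₂_eq hvs
  rw [← this]
  exact hv

theorem idx_cases : ∀ i : Fin 24, 12 ≤ i.val → idxPt i = none ∨ ∃ k : Fin 11, idxPt i = pv k := by
  decide

theorem codeList_small_aux :
    codeList.all (fun m => decide (m < 4096 → m = 0)) = true := by decide +kernel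

theorem codeList_small : ∀ m ∈ codeList, m < 4096 → m = 0 := by
  intro m hm
  have := List.all_eq_true.mp codeList_small_aux m hm
  exact of_decide_eq_true this

/-- a word that vanishes at the pivots and at the extra point has a small mask. -/
theorem encW_lt_of_vanish {w : V} (h0 : w none = 0) (hp : ∀ k, w (pv k) = 0) : encW w < 4096 := by
  apply Nat.lt_pow_two_of_testBit (n := 12)
  intro i hi
  by_cases h24 : i < 24
  · have h1 := testBit_encW w (idxPt ⟨i, h24⟩)
    rw [ptIdx_idxPt] at h1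
    simp only at h1
    rw [h1]
    apply decide_eq_false
    rw [not_not]
    rcases idx_cases ⟨i, h24⟩ hi with h | ⟨k, h⟩
    · rw [h]; exact h0
    · rw [h]; exact hp k
  · exact testBit_encW_ge w i (by omega)

/-- the words of the code that vanish at the extra point are the words `enc x`. -/
theorem enc_crd_of_mem {d : V} (hd : d ∈ golayCode) (h0 : d none = 0) : enc (crd d) = d := by
  have hmem : d + enc (crd d) ∈ golayCode := golayCode.add_mem hd (enc_mem _)
  have hnone : (d + enc (crd d)) none = 0 := by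
    rw [Pi.add_apply, h0, enc_none, add_zero]
  have hpv : ∀ k, (d + enc (crd d)) (pv k) = 0 := by
    intro k
    have := congrFun (crd_enc (crd d)) k
    unfold crd at this
    rw [Pi.add_apply]
    unfold crd
    rw [this]
    exact z2_add_self _
  have hlt := encW_lt_of_vanish hnone hpv
  have hcl := (mem_golayCode_iff _).mp hmem
  have hz := codeList_small _ hcl hlt
  have hzero : d + enc (crd d) = 0 := by
    rw [← decW_encW (d + enc (crd d)), hz, decW_zero]
  funext q
  have := congrFun hzero q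
  rw [Pi.add_apply, Pi.zero_apply] at this
  have a := z2_add_self (d q)
  linear_combination this - a

/-- the action on coordinate vectors. -/
def Pm (σ : Equiv.Perm GolayPt) (x : X) : X := crd (enc x ∘ ⇑σ⁻¹)

theorem enc_Pm {σ : Equiv.Perm GolayPt} (hσ : σ ∈ Spor.M23) (x : X) :
    enc (Pm σ x) = enc x ∘ ⇑σ⁻¹ := by
  have h24 : σ ∈ M24 := (Subgroup.mem_inf.mp hσ).1
  have hfix : σ none = none := by
    have := (Subgroup.mem_inf.mp hσ).2
    rw [MulAction.mem_stabilizer_iff] at this
    exact this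
  have hinv : σ⁻¹ none = none := by
    rw [Equiv.Perm.inv_eq_iff_eq]
    exact hfix.symm
  apply enc_crd_of_mem
  · exact comp_mem_golayCode (M24.inv_mem h24) (enc_mem x)
  · rw [Function.comp_apply, hinv, enc_none]

theorem Pm_add (σ : Equiv.Perm GolayPt) (x y : X) : Pm σ (x + y) = Pm σ x + Pm σ y := by
  unfold Pm
  rw [enc_add, ← crd_add]
  rfl

theorem Pm_zero (σ : Equiv.Perm GolayPt) : Pm σ 0 = 0 := by
  unfold Pm
  rw [enc_zero]
  rfl

theorem Pm_one (x : X) : Pm 1 x = x := by
  unfold Pm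
  rw [inv_one, Equiv.Perm.coe_one, Function.comp_id, crd_enc]

theorem Pm_mul {σ τ : Equiv.Perm GolayPt} (hσ : σ ∈ Spor.M23) (hτ : τ ∈ Spor.M23) (x : X) :
    Pm (σ * τ) x = Pm σ (Pm τ x) := by
  apply enc_injective
  rw [enc_Pm (Spor.M23.mul_mem hσ hτ), enc_Pm hσ, enc_Pm hτ, mul_inv_rev, Equiv.Perm.coe_mul]
  rfl

theorem wt_comp (w : V) (σ : Equiv.Perm GolayPt) : wt (w ∘ ⇑σ) = wt w := by
  unfold wt
  exact Equiv.sum_comp σ (fun q => (w q).val)

theorem PX_Pm {σ : Equiv.Perm GolayPt} (hσ : σ ∈ Spor.M23) (x : X) : PX (Pm σ x) = PX x := by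
  unfold PX
  rw [enc_Pm hσ, wt_comp]

theorem TX_Pm {σ : Equiv.Perm GolayPt} (hσ : σ ∈ Spor.M23) (x y z : X) :
    TX (Pm σ x) (Pm σ y) (Pm σ z) = TX x y z := by
  unfold TX
  rw [enc_Pm hσ, enc_Pm hσ, enc_Pm hσ]
  exact Equiv.sum_comp σ⁻¹ (fun q => enc x q * enc y q * enc z q)

/-- the defining condition of the functions `γ`. -/
def IsGam (σ : Equiv.Perm GolayPt) (γ : X → ZMod 2) : Prop :=
  ∀ x y, γ (x + y) = γ x + γ y + thX (Pm σ x) (Pm σ y) + thX x y

/-- every element of the point stabiliser has a function `γ`. -/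
theorem exists_isGam {σ : Equiv.Perm GolayPt} (hσ : σ ∈ Spor.M23) : ∃ γ, IsGam σ γ := by
  have key := exists_coboundary (V := X) X_add_self
    (fun x y => thX (Pm σ x) (Pm σ y) + thX x y) ?_ ?_ ?_
  · obtain ⟨γ, hγ⟩ := key
    refine ⟨γ, fun x y => ?_⟩
    rw [hγ x y]
    ring
  · intro x y z
    simp only [Pm_add]
    have h1 := thX_coboundary (Pm σ x) (Pm σ y) (Pm σ z)
    have h2 := thX_coboundary x y z
    rw [TX_Pm hσ] at h1
    have a := z2_add_self (TX x y z)
    linear_combination h1 + h2 + a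
  · intro x y
    have h1 := thX_symm (Pm σ x) (Pm σ y)
    have h2 := thX_symm x y
    rw [← Pm_add, PX_Pm hσ, PX_Pm hσ, PX_Pm hσ] at h1
    have a1 := z2_add_self (thX (Pm σ y) (Pm σ x))
    have a2 := z2_add_self (thX x y)
    linear_combination h1 - h2 - a1 + a2
  · intro x
    show thX (Pm σ x) (Pm σ x) + thX x x = 0
    rw [thX_self, thX_self, PX_Pm hσ]
    exact z2_add_self _

end Cfsg.Agent.Helper3.Pk
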