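import Mathlib
import Cfsg.Prelude.Def_Sporadic_a
import Cfsg.Prelude.Def_Spor_Mathieu
import Cfsg.Agent.Helper9.Golay.Aut
import Cfsg.Agent.Helper3.PkD

set_option autoImplicit false

/-!
The group of the pairs `(π, γ)`.
-/

namespace Cfsg.Agent.Helper3.Pk

open Cfsg Cfsg.Agent.Helper9.Golay

/-- the pairs `(π, γ)`. -/
structure PkG where
  π : ↥Spor.M23
  γ : X → ZMod 2
  h : IsGam (π : Equiv.Perm GolayPt) γ

namespace PkG

theorem ext' {g g' : PkG} (h1 : g.π = g'.π) (h2 : g.γ = g'.γ) : g = g' := by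
  cases g; cases g'; simp only at h1 h2; subst h1; subst h2; rfl

theorem Pm_mul' (σ τ : ↥Spor.M23) (x : X) :
    Pm ((σ * τ : ↥Spor.M23) : Equiv.Perm GolayPt) x
      = Pm (σ : Equiv.Perm GolayPt) (Pm (τ : Equiv.Perm GolayPt) x) := by
  rw [Subgroup.coe_mul]
  exact Pm_mul σ.2 τ.2 x

theorem Pm_one' (x : X) : Pm ((1 : ↥Spor.M23) : Equiv.Perm GolayPt) x = x := by
  rw [Subgroup.coe_one]
  exact Pm_one x

theorem Pm_inv_cancel (σ : ↥Spor.M23) (x : X) :
    Pm (σ : Equiv.Perm GolayPt) (Pm ((σ⁻¹ : ↥Spor.M23) : Equiv.Perm GolayPt) x) = x := by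
  rw [← Pm_mul', mul_inv_cancel, Pm_one']

theorem Pm_cancel_inv (σ : ↥Spor.M23) (x : X) :
    Pm ((σ⁻¹ : ↥Spor.M23) : Equiv.Perm GolayPt) (Pm (σ : Equiv.Perm GolayPt) x) = x := by
  rw [← Pm_mul', inv_mul_cancel, Pm_one']

instance : Mul PkG :=
  ⟨fun g1 g2 => ⟨g1.π * g2.π, fun x => g2.γ x + g1.γ (Pm (g2.π : Equiv.Perm GolayPt) x), by
    intro x y
    simp only [Pm_mul']
    rw [g2.h x y, Pm_add, g1.h]
    have a := z2_add_self (thX (Pm (g2.π : Equiv.Perm GolayPt) x) (Pm (g2.π : Equiv.Perm GolayPt) y))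
    linear_combination a⟩⟩

instance : One PkG :=
  ⟨⟨1, fun _ => 0, by
    intro x y
    simp only [Pm_one']
    have a := z2_add_self (thX x y)
    linear_combination (-1 : ZMod 2) * a⟩⟩

instance : Inv PkG :=
  ⟨fun g => ⟨g.π⁻¹, fun x => g.γ (Pm ((g.π⁻¹ : ↥Spor.M23) : Equiv.Perm GolayPt) x), by
    intro x y
    beta_reduce
    rw [Pm_add, g.h]
    simp only [Pm_inv_cancel]
    ring⟩⟩

theorem mul_π (g1 g2 : PkG) : (g1 * g2).π = g1.π * g2.π := rfl

theorem mul_γ (g1 g2 : PkG) (x : X) :
    (g1 * g2).γ x = g2.γ x + g1.γ (Pm (g2.π : Equiv.Perm GolayPt) x) := rfl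

theorem one_π : (1 : PkG).π = 1 := rfl

theorem one_γ (x : X) : (1 : PkG).γ x = 0 := rfl

theorem inv_π (g : PkG) : g⁻¹.π = g.π⁻¹ := rfl

theorem inv_γ (g : PkG) (x : X) :
    g⁻¹.γ x = g.γ (Pm ((g.π⁻¹ : ↥Spor.M23) : Equiv.Perm GolayPt) x) := rfl

instance : Group PkG :=
  Group.ofLeftAxioms
    (by
      intro a b c
      apply ext'
      · simp only [mul_π, mul_assoc]
      · funext x
        simp only [mul_γ, mul_π, Pm_mul']
        ring)
    (by
      intro a
      apply ext'
      · simp only [mul_π, one_π, one_mul]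
      · funext x
        simp only [mul_γ, one_γ, add_zero])
    (by
      intro a
      apply ext'
      · simp only [mul_π, inv_π, one_π, inv_mul_cancel]
      · funext x
        simp only [mul_γ, inv_γ, one_γ, Pm_cancel_inv]
        exact z2_add_self _)

instance : Finite PkG :=
  Finite.of_injective (fun g : PkG => (g.π, g.γ)) (by
    intro g g' h
    simp only [Prod.mk.injEq] at h
    exact ext' h.1 h.2)

/-- the projection onto the point stabiliser. -/
def proj : PkG →* ↥Spor.M23 where
  toFun g := g.π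
  map_one' := rfl
  map_mul' _ _ := rfl

theorem proj_apply (g : PkG) : proj g = g.π := rfl

theorem proj_surjective : Function.Surjective proj := by
  intro σ
  obtain ⟨γ, hγ⟩ := exists_isGam σ.2
  exact ⟨⟨σ, γ, hγ⟩, rfl⟩

/-- the function attached to a word. -/
def lam (w : V) : X → ZMod 2 := fun x => dotv w (enc x)

theorem lam_add_arg (w : V) (x y : X) : lam w (x + y) = lam w x + lam w y := by
  unfold lam
  rw [enc_add, dotv_add_right]

/-- the element attached to a word. -/
def thetaEl (w : V) : PkG :=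
  ⟨1, lam w, by
    intro x y
    simp only [Pm_one']
    rw [lam_add_arg]
    have a := z2_add_self (thX x y)
    linear_combination (-1 : ZMod 2) * a⟩

theorem thetaEl_π (w : V) : (thetaEl w).π = 1 := rfl

theorem thetaEl_γ (w : V) (x : X) : (thetaEl w).γ x = lam w x := rfl

theorem thetaEl_mem (w : V) : thetaEl w ∈ proj.ker := by
  rw [MonoidHom.mem_ker]
  rfl

theorem thetaEl_zero : thetaEl 0 = 1 := by
  apply ext'
  · rfl
  · funext x
    rw [thetaEl_γ, one_γ]
    unfold lam dotv
    simp

theorem thetaEl_add (w w' : V) : thetaEl (w + w') = thetaEl w * thetaEl w' := by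
  apply ext'
  · rw [mul_π, thetaEl_π, thetaEl_π, thetaEl_π, one_mul]
  · funext x
    rw [mul_γ, thetaEl_γ, thetaEl_γ, thetaEl_γ, thetaEl_π, Pm_one']
    unfold lam
    rw [dotv_add_left, add_comm]

/-- the homomorphism from the words onto the kernel. -/
def Theta : V →+ Additive ↥(proj.ker) where
  toFun w := Additive.ofMul ⟨thetaEl w, thetaEl_mem w⟩
  map_zero' := by
    apply Additive.toMul.injective
    apply Subtype.ext
    exact thetaEl_zero
  map_add' w w' := by
    apply Additive.toMul.injective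
    apply Subtype.ext
    exact thetaEl_add w w'

theorem Theta_coe (w : V) : (((Theta w).toMul : ↥(proj.ker)) : PkG) = thetaEl w := rfl

/-- the functions of the elements of the kernel are additive. -/
theorem ker_γ_add {g : PkG} (hg : g ∈ proj.ker) (x y : X) : g.γ (x + y) = g.γ x + g.γ y := by
  have h1 : g.π = 1 := hg
  have := g.h x y
  rw [h1] at this
  simp only [Pm_one'] at this
  rw [this]
  have a := z2_add_self (thX x y)
  linear_combination a

theorem Theta_surjective : Function.Surjective Theta := by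
  intro n
  have hg : ((Additive.toMul n : ↥(proj.ker)) : PkG) ∈ proj.ker := (Additive.toMul n).2
  generalize hgg : ((Additive.toMul n : ↥(proj.ker)) : PkG) = g at hg
  have hadd := ker_γ_add hg
  let f : X →+ ZMod 2 := AddMonoidHom.mk' g.γ hadd
  refine ⟨fun q => ∑ k, g.γ (Pi.single k 1) * (if q = pv k then 1 else 0), ?_⟩
  apply Additive.toMul.injective
  apply Subtype.ext
  rw [hgg]
  show thetaEl _ = g
  apply ext'
  · rw [thetaEl_π]
    exact (show g.π = 1 from hg).symm
  · funext x
    rw [thetaEl_γ]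
    unfold lam dotv
    have hx : g.γ x = ∑ k, x k * g.γ (Pi.single k 1) := by
      have h1 : f x = f (∑ k, Pi.single k (x k)) := by rw [Finset.univ_sum_single]
      rw [map_sum] at h1
      show f x = _
      rw [h1]
      apply Finset.sum_congr rfl
      intro k _
      rcases z2_eq_zero_or_one (x k) with h | h
      · rw [h, Pi.single_zero, map_zero, zero_mul]
      · rw [h, one_mul]
        rfl
    rw [hx]
    simp only [Finset.sum_mul]
    rw [Finset.sum_comm]
    apply Finset.sum_congr rfl
    intro k _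
    have : ∀ q, g.γ (Pi.single k 1) * (if q = pv k then 1 else 0) * enc x q
        = if q = pv k then g.γ (Pi.single k 1) * enc x q else 0 := by
      intro q
      split_ifs <;> ring
    simp only [this]
    rw [Finset.sum_ite_eq']
    simp only [Finset.mem_univ, if_true]
    have h2 := congrFun (crd_enc x) k
    unfold crd at h2
    rw [h2, mul_comm]

end PkG

end Cfsg.Agent.Helper3.Pk
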