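import Mathlib
import Cfsg.Prelude.Def_Sporadic_a
import Cfsg.Prelude.Def_Spor_Mathieu
import Cfsg.Agent.Helper9.Golay.Aut
import Cfsg.Agent.Helper3.PkE

set_option autoImplicit false

/-!
The kernel of `Theta`, and the conjugation action on the kernel of the projection.
-/

namespace Cfsg.Agent.Helper3.Pk

open Cfsg Cfsg.Agent.Helper9.Golay

theorem wt_eq_card (w : V) : wt w = (support₂ w).card := by
  unfold wt support₂
  rw [Finset.card_filter]
  apply Finset.sum_congr rfl
  intro q _
  generalize w q = a
  revert a
  decide

theorem wt_decW (m : ℕ) : wt (decW m) = popc m := by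
  rw [wt_eq_card, card_support₂_decW]

theorem decW_mul (m n : ℕ) : decW m * decW n = decW (m &&& n) := by
  funext p
  simp only [decW, Pi.mul_apply, Nat.testBit_and]
  cases m.testBit (ptIdx p) <;> cases n.testBit (ptIdx p) <;> simp

theorem popc_of_dotv {m : ℕ} {k : Fin 11} (h : dotv (decW m) (bs k) = 0) :
    popc (m &&& bmask k) % 2 = 0 := by
  rw [← wt_mul_cast] at h
  unfold bs at h
  rw [decW_mul, wt_decW] at h
  have := even_of_cast_eq_zero h
  exact Nat.even_iff.mp this

theorem dotv_enc (w : V) (x : X) : dotv w (enc x) = ∑ k, x k * dotv w (bs k) := by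
  unfold dotv enc
  simp only [Finset.mul_sum]
  rw [Finset.sum_comm]
  apply Finset.sum_congr rfl
  intro k _
  apply Finset.sum_congr rfl
  intro q _
  ring

theorem dotv_smul_left (a : ZMod 2) (u w : V) : dotv (a • u) w = a * dotv u w := by
  unfold dotv
  rw [Finset.mul_sum]
  apply Finset.sum_congr rfl
  intro q _
  simp only [Pi.smul_apply, smul_eq_mul]
  ring

theorem dotv_zero_left (w : V) : dotv 0 w = 0 := by
  unfold dotv
  simp

theorem dotv_basis12_bs : ∀ b ∈ basis12, ∀ k : Fin 11, dotv (decW b) (bs k) = 0 := by
  decide +kernel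

/-- the words of the code are orthogonal to the basis words. -/
theorem dotv_code_bs {c : V} (hc : c ∈ golayCode) (k : Fin 11) : dotv c (bs k) = 0 := by
  have hc' := golayCode_le_span_basis hc
  clear hc
  induction hc' using Submodule.span_induction with
  | mem x hx =>
    obtain ⟨b, hb, rfl⟩ := hx
    exact dotv_basis12_bs b hb k
  | zero => exact dotv_zero_left _
  | add x y _ _ hx hy => rw [dotv_add_left, hx, hy, add_zero]
  | smul a x _ hx => rw [dotv_smul_left, hx, mul_zero]

theorem dotv_single_none (d : V) : dotv (Pi.single none 1) d = d none := by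
  unfold dotv
  rw [Finset.sum_eq_single none]
  · simp
  · intro q _ hq
    rw [Pi.single_eq_of_ne hq, zero_mul]
  · intro h
    exact absurd (Finset.mem_univ _) h

/-- the full echelon basis of the code. -/
def fb : Fin 12 → ℕ :=
  ![0x800c75, 0x400a4f, 0x200f68, 0x1007b4, 0x803da, 0x401ed, 0x20ab9, 0x10f13, 0x8dc6, 0x46e3,
    0x293e, 0x149f]

/-- its pivots. -/
def fpv (j : Fin 12) : GolayPt := idxPt ⟨23 - j.val, by omega⟩

theorem fb_mem : ∀ j : Fin 12, fb j ∈ codeList := by decide +kernel

theorem fb_fpv : ∀ j i : Fin 12, decW (fb j) (fpv i) = if i = j then 1 else 0 := by decide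

theorem fpv_cases : (fpv 0 = none) ∧ ∀ k : Fin 11, ∃ i : Fin 12, fpv i = pv k := by decide

theorem small_kernel_aux : (List.range 4096).all (fun m =>
    !((List.finRange 11).all (fun k => popc (m &&& bmask k) % 2 == 0)) || (m == 0 || m == 0xc75))
      = true := by decide +kernel

theorem small_kernel {m : ℕ} (hm : m < 4096) (h : ∀ k : Fin 11, popc (m &&& bmask k) % 2 = 0) :
    m = 0 ∨ m = 0xc75 := by
  have := List.all_eq_true.mp small_kernel_aux m (List.mem_range.mpr hm)
  have h2 : (List.finRange 11).all (fun k => popc (m &&& bmask k) % 2 == 0) = true := by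
    rw [List.all_eq_true]
    intro k _
    rw [beq_iff_eq]
    exact h k
  rw [h2] at this
  simpa using this

theorem decW_c75 : decW 0xc75 = decW (fb 0) + Pi.single none 1 := by decide

/-- the words orthogonal to all basis words. -/
theorem mem_or_of_dotv {w : V} (h : ∀ k, dotv w (bs k) = 0) :
    w ∈ golayCode ∨ w + Pi.single none 1 ∈ golayCode := by
  set c : V := ∑ j, w (fpv j) • decW (fb j) with hcdef
  have hc : c ∈ golayCode :=
    Submodule.sum_mem _ (fun j _ => Submodule.smul_mem _ _ (decW_mem_of_mem_codeList (fb_mem j)))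
  have hvan : ∀ i, (w + c) (fpv i) = 0 := by
    intro i
    rw [Pi.add_apply, hcdef, Finset.sum_apply]
    simp only [Pi.smul_apply, smul_eq_mul, fb_fpv, mul_ite, mul_one, mul_zero]
    rw [Finset.sum_ite_eq]
    simp only [Finset.mem_univ, if_true]
    exact z2_add_self _
  have h0 : (w + c) none = 0 := by
    rw [← fpv_cases.1]
    exact hvan 0
  have hp : ∀ k, (w + c) (pv k) = 0 := by
    intro k
    obtain ⟨i, hi⟩ := fpv_cases.2 k
    rw [← hi]
    exact hvan i
  have hlt := encW_lt_of_vanish h0 hp
  have hk : ∀ k, dotv (decW (encW (w + c))) (bs k) = 0 := by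
    intro k
    rw [decW_encW, dotv_add_left, h k, dotv_code_bs hc k, add_zero]
  rcases small_kernel hlt (fun k => popc_of_dotv (hk k)) with hz | hz
  · left
    have hzero : w + c = 0 := by rw [← decW_encW (w + c), hz, decW_zero]
    have : w = c := by
      funext q
      have := congrFun hzero q
      rw [Pi.add_apply, Pi.zero_apply] at this
      have a := z2_add_self (c q)
      linear_combination this - a
    rw [this]
    exact hc
  · right
    have hval : w + c = decW (fb 0) + Pi.single none 1 := by
      rw [← decW_encW (w + c), hz, decW_c75]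
    have : w + Pi.single none 1 = c + decW (fb 0) := by
      funext q
      have := congrFun hval q
      simp only [Pi.add_apply] at this ⊢
      have a := z2_add_self (c q)
      have b := z2_add_self ((Pi.single none 1 : V) q)
      linear_combination this - a + b
    rw [this]
    exact golayCode.add_mem hc (decW_mem_of_mem_codeList (fb_mem 0))

namespace PkG

/-- the kernel of `Theta`. -/
theorem Theta_eq_zero_iff (w : V) :
    Theta w = 0 ↔ (w ∈ golayCode ∨ w + Pi.single none 1 ∈ golayCode) := by
  have h1 : Theta w = 0 ↔ thetaEl w = 1 := by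
    constructor
    · intro h
      have := congrArg (fun n : Additive ↥(proj.ker) => ((Additive.toMul n : ↥(proj.ker)) : PkG)) h
      exact this
    · intro h
      apply Additive.toMul.injective
      apply Subtype.ext
      exact h
  have h2 : thetaEl w = 1 ↔ ∀ k, dotv w (bs k) = 0 := by
    constructor
    · intro h k
      have := congrFun (congrArg PkG.γ h) (Pi.single k 1)
      rw [thetaEl_γ, one_γ] at this
      unfold lam at this
      rwa [enc_single] at this
    · intro h
      apply ext'
      · rfl
      · funext x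
        rw [thetaEl_γ, one_γ]
        unfold lam
        rw [dotv_enc]
        apply Finset.sum_eq_zero
        intro k _
        rw [h k, mul_zero]
  rw [h1, h2]
  constructor
  · exact mem_or_of_dotv
  · rintro (h | h) k
    · exact dotv_code_bs h k
    · have e : w = (w + Pi.single none 1) + Pi.single none 1 := by
        funext q
        simp only [Pi.add_apply]
        have b := z2_add_self ((Pi.single none 1 : V) q)
        linear_combination (-1 : ZMod 2) * b
      rw [e, dotv_add_left, dotv_code_bs h k, dotv_single_none, bs_none, add_zero]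

/-- conjugation on the kernel of the projection. -/
theorem conj_thetaEl (g : PkG) (w : V) :
    thetaEl (w ∘ ⇑((g.π : Equiv.Perm GolayPt))⁻¹) = g * thetaEl w * g⁻¹ := by
  apply ext'
  · rw [mul_π, mul_π, thetaEl_π, thetaEl_π, inv_π, mul_one, mul_inv_cancel]
  · funext x
    rw [mul_γ, mul_γ, inv_γ, thetaEl_γ, thetaEl_γ, thetaEl_π, Pm_one', inv_π]
    have a := z2_add_self (g.γ (Pm ((g.π⁻¹ : ↥Spor.M23) : Equiv.Perm GolayPt) x))
    have key : lam (w ∘ ⇑((g.π : Equiv.Perm GolayPt))⁻¹) x
        = lam w (Pm ((g.π⁻¹ : ↥Spor.M23) : Equiv.Perm GolayPt) x) := by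
      unfold lam
      rw [enc_Pm (g.π⁻¹).2, Subgroup.coe_inv, inv_inv]
      unfold dotv
      exact (Equiv.sum_comp ((g.π : Equiv.Perm GolayPt)) (fun q =>
        (w ∘ ⇑((g.π : Equiv.Perm GolayPt))⁻¹) q * enc x q)).symm.trans (by
          apply Finset.sum_congr rfl
          intro q _
          simp only [Function.comp_apply]
          show w ((g.π : Equiv.Perm GolayPt).symm ((g.π : Equiv.Perm GolayPt) q)) * _ = _
          rw [Equiv.symm_apply_apply])
    rw [key]
    linear_combination (-1 : ZMod 2) * a

end PkG

end Cfsg.Agent.Helper3.Pk
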