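import Mathlib
import Cfsg.Prelude.Def_Sporadic_a
import Cfsg.Prelude.Def_Spor_Mathieu
import Cfsg.Agent.Helper9.Golay.Aut
import Cfsg.Agent.Helper9.Golay.Tbl
import Cfsg.Agent.Helper3.PkF

set_option autoImplicit false

/-!
The projection of the group of pairs onto the point stabiliser has no complement: two explicit
elements `a`, `b` of the point stabiliser with `a * b * a = b * b * b` have no lifts with the same
relation.
-/

namespace Cfsg.Agent.Helper3.Pk

open Cfsg Cfsg.Agent.Helper9.Golay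

/-- the function on points given by a table. -/
def tblFun (t : List ℕ) (p : GolayPt) : GolayPt := idxPtN (t.getD (ptIdx p) 0)

def aT : List ℕ :=
  [0, 15, 18, 3, 4, 8, 6, 7, 5, 13, 19, 16, 21, 9, 14, 1, 11, 20, 2, 10, 17, 12, 22, 23]

def bT : List ℕ :=
  [0, 2, 15, 21, 13, 18, 1, 9, 6, 4, 19, 17, 22, 7, 5, 14, 3, 16, 8, 10, 12, 20, 11, 23]

def bIT : List ℕ :=
  [0, 6, 1, 16, 9, 14, 8, 13, 18, 7, 19, 22, 20, 4, 15, 2, 17, 11, 5, 10, 21, 3, 12, 23]

/-- the involution `a`. -/
def aPerm : Equiv.Perm GolayPt where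
  toFun := tblFun aT
  invFun := tblFun aT
  left_inv := by decide
  right_inv := by decide

/-- the element `b` of order 8. -/
def bPerm : Equiv.Perm GolayPt where
  toFun := tblFun bT
  invFun := tblFun bIT
  left_inv := by decide
  right_inv := by decide

theorem aPerm_code : ∀ m ∈ basis12, encW (decW m ∘ ⇑aPerm) ∈ codeList := by decide +kernel

theorem bPerm_code : ∀ m ∈ basis12, encW (decW m ∘ ⇑bPerm) ∈ codeList := by decide +kernel

theorem aPerm_mem : aPerm ∈ Spor.M23 := by
  refine Subgroup.mem_inf.mpr ⟨?_, ?_⟩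
  · apply mem_M24_of_comp_span aPerm _ golayCode_le_span_basis
    rintro w ⟨m, hm, rfl⟩
    exact (mem_golayCode_iff _).mpr (aPerm_code m hm)
  · rw [MulAction.mem_stabilizer_iff]
    rfl

theorem bPerm_mem : bPerm ∈ Spor.M23 := by
  refine Subgroup.mem_inf.mpr ⟨?_, ?_⟩
  · apply mem_M24_of_comp_span bPerm _ golayCode_le_span_basis
    rintro w ⟨m, hm, rfl⟩
    exact (mem_golayCode_iff _).mpr (bPerm_code m hm)
  · rw [MulAction.mem_stabilizer_iff]
    rfl

/-- `a` as an element of the point stabiliser. -/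
def aEl : ↥Spor.M23 := ⟨aPerm, aPerm_mem⟩

/-- `b` as an element of the point stabiliser. -/
def bEl : ↥Spor.M23 := ⟨bPerm, bPerm_mem⟩

theorem aba_eq : aPerm * bPerm * aPerm = bPerm * bPerm * bPerm := by
  apply Equiv.ext
  decide

theorem aba_eq' : aEl * bEl * aEl = bEl * bEl * bEl := by
  apply Subtype.ext
  exact aba_eq

/-- the coordinate vector with a given mask. -/
def vec (m : ℕ) : X := fun k => if m.testBit k.val then 1 else 0

theorem Pm_a_256 : Pm aPerm (vec 256) = vec 904 := by decide +kernel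
theorem Pm_b_904 : Pm bPerm (vec 904) = vec 256 := by decide +kernel
theorem Pm_b_256 : Pm bPerm (vec 256) = vec 24 := by decide +kernel
theorem Pm_b_24 : Pm bPerm (vec 24) = vec 656 := by decide +kernel
theorem Pm_b_648 : Pm bPerm (vec 648) = vec 280 := by decide +kernel
theorem vec_add1 : vec 904 + vec 256 = vec 648 := by decide +kernel
theorem vec_add2 : vec 648 + vec 24 = vec 656 := by decide +kernel

theorem cert_value :
    thX (vec 256) (vec 24) + thX (vec 904) (vec 256) + thX (vec 280) (vec 656)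
      + thX (vec 648) (vec 24) = 1 := by decide +kernel

/-- every function `γ` of `b` violates the relation. -/
theorem gam_b_sum {γ : X → ZMod 2} (hγ : IsGam bPerm γ) :
    γ (vec 656) = γ (vec 904) + γ (vec 256) + γ (vec 24) + 1 := by
  have h1 := hγ (vec 904) (vec 256)
  rw [vec_add1, Pm_b_904, Pm_b_256] at h1
  have h2 := hγ (vec 648) (vec 24)
  rw [vec_add2, Pm_b_648, Pm_b_24] at h2
  have h3 := cert_value
  rw [h2, h1]
  linear_combination h3

namespace PkG

/-- the projection has no complement. -/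
theorem nonsplit (H : Subgroup PkG) (h1 : H ⊓ proj.ker = ⊥) : H ⊔ proj.ker ≠ ⊤ := by
  intro htop
  have lift : ∀ σ : ↥Spor.M23, ∃ h ∈ H, proj h = σ := by
    intro σ
    obtain ⟨g, hg⟩ := proj_surjective σ
    have hmem : g ∈ ((H ⊔ proj.ker : Subgroup PkG) : Set PkG) := by
      rw [htop]
      exact Set.mem_univ g
    rw [Subgroup.mul_normal] at hmem
    obtain ⟨h, hh, n, hn, rfl⟩ := Set.mem_mul.mp hmem
    refine ⟨h, hh, ?_⟩
    rw [← hg, map_mul, (MonoidHom.mem_ker).mp hn, mul_one]
  obtain ⟨ha, haH, hpa⟩ := lift aEl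
  obtain ⟨hb, hbH, hpb⟩ := lift bEl
  have hr : ha * hb * ha * (hb * hb * hb)⁻¹ ∈ H ⊓ proj.ker := by
    refine Subgroup.mem_inf.mpr ⟨?_, ?_⟩
    · exact H.mul_mem (H.mul_mem (H.mul_mem haH hbH) haH)
        (H.inv_mem (H.mul_mem (H.mul_mem hbH hbH) hbH))
    · rw [MonoidHom.mem_ker]
      simp only [map_mul, map_inv, hpa, hpb]
      rw [aba_eq', mul_inv_cancel]
  rw [h1, Subgroup.mem_bot] at hr
  have hrel : ha * hb * ha = hb * hb * hb := mul_inv_eq_one.mp hr
  have ea : (ha.π : Equiv.Perm GolayPt) = aPerm := by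
    have : ha.π = aEl := hpa
    rw [this]
    rfl
  have eb : (hb.π : Equiv.Perm GolayPt) = bPerm := by
    have : hb.π = bEl := hpb
    rw [this]
    rfl
  have hγ := congrFun (congrArg PkG.γ hrel) (vec 256)
  simp only [mul_γ, ea, eb] at hγ
  rw [Pm_a_256, Pm_b_904, Pm_b_256, Pm_b_24] at hγ
  have hgb : IsGam bPerm hb.γ := by
    have := hb.h
    rwa [eb] at this
  have hsum := gam_b_sum hgb
  rw [hsum] at hγ
  have a1 := z2_add_self (ha.γ (vec 256))
  have a2 := z2_add_self (hb.γ (vec 256))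
  have a3 := z2_add_self (hb.γ (vec 24))
  have : (0 : ZMod 2) = 1 := by
    linear_combination hγ - a1 + a2 + a3
  exact zero_ne_one this

end PkG

end Cfsg.Agent.Helper3.Pk
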