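import Mathlib
import Cfsg.Prelude.Def_Characters
import Cfsg.Prelude.Def_Blocks
import Cfsg.Prelude.Def_CharExt
import Cfsg.Agent.Helper6.RMcKCnt
import Cfsg.Agent.Helper6.RMcKGlC
import Cfsg.Agent.Helper6.DetExt
import Cfsg.Agent.Helper6.CoprimeExt
import Cfsg.Agent.Helper6.CentralChar
import Cfsg.Agent.Helper6.Codegree

/-!
Pieces D4b, D4c of helper6's decomposition of S4807: the determinantal character commutes with conjugation; an
irreducible character of `p'`-degree with trivial determinant on a central `p`-element has that element in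
its kernel.
-/

set_option autoImplicit false
set_option linter.unusedSectionVars false
set_option linter.unusedVariables false
set_option linter.style.haveILetI false

namespace Cfsg.Agent.Helper3.RMcK

open Cfsg.Agent.Helper6 Cfsg.Agent.Helper6.RMcK

universe u

variable {Γ : Type u} [Group Γ] [Finite Γ]

/-- conjugation commutes with detChar -/
theorem D4b_detChar_cjc (M : Subgroup Γ) (a : Γ) (ha : a ∈ Subgroup.normalizer (M : Set Γ))
    (χ : M → ℂ) (hχ : Cfsg.IsCharacter M χ) :
    Cfsg.detChar (cjc M a ha χ) = cjc M a ha (Cfsg.detChar χ) :=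
  detChar_comp_hom (nconj M a ha).toMonoidHom hχ

/-- value of an irreducible character with `p'`-degree and trivial determinant on a central
`p`-element -/
theorem D4c_central_p_value (p : ℕ) [Fact p.Prime] (M : Subgroup Γ) (χ : M → ℂ)
    (hχ : Cfsg.IsIrrCharacter M χ) (hdeg : ¬ p ∣ Cfsg.charDegree χ) (z : M)
    (hz : ∀ m : M, z * m = m * z) (k : ℕ) (hzk : z ^ (p ^ k) = 1)
    (hdet : Cfsg.detChar χ z = 1) : χ z = χ 1 := by
  obtain ⟨n, ρ, hirr, rfl⟩ := hχ
  haveI := hirr
  rw [charDegree_rep] at hdeg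
  haveI : Nontrivial (Fin n → ℂ) := irr_nontrivial ρ
  have hcomm : ∀ g : M, ρ z ∘ₗ ρ g = ρ g ∘ₗ ρ z := by
    intro g
    change ρ z * ρ g = ρ g * ρ z
    rw [← map_mul, ← map_mul, hz]
  obtain ⟨c, hc⟩ := exists_scalar_of_commute ρ (ρ z) hcomm
  have hfr : Module.finrank ℂ (Fin n → ℂ) = n := by simp
  have h1 : c ^ n = 1 := by
    rw [detChar_rep] at hdet
    have h : LinearMap.det (ρ z) = c ^ n := by
      rw [hc, LinearMap.det_smul, hfr, LinearMap.det_id, mul_one]
    rw [← h]
    exact hdet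
  have h2 : c ^ (p ^ k) = 1 := by
    have h3 : ρ (z ^ (p ^ k)) = 1 := by rw [hzk, map_one]
    rw [map_pow, hc] at h3
    have h4 : (c • (LinearMap.id : (Fin n → ℂ) →ₗ[ℂ] (Fin n → ℂ))) ^ (p ^ k) =
        c ^ (p ^ k) • (LinearMap.id : (Fin n → ℂ) →ₗ[ℂ] (Fin n → ℂ)) := by
      rw [smul_pow]
      congr 1
      exact one_pow _
    rw [h4] at h3
    obtain ⟨v, hv⟩ := exists_ne (0 : Fin n → ℂ)
    have h5 := LinearMap.congr_fun h3 v
    rw [LinearMap.smul_apply, LinearMap.id_apply, Module.End.one_apply] at h5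
    have h6 : (c ^ (p ^ k) - 1) • v = 0 := by rw [sub_smul, h5, one_smul, sub_self]
    rcases smul_eq_zero.mp h6 with h7 | h7
    · exact sub_eq_zero.mp h7
    · exact absurd h7 hv
  have hp : p.Prime := Fact.out
  have hcop : Nat.Coprime n (p ^ k) :=
    (Nat.Coprime.pow_left k ((Nat.Prime.coprime_iff_not_dvd hp).mpr hdeg)).symm
  have h6 : c ^ (Nat.gcd n (p ^ k)) = 1 := pow_gcd_eq_one.mpr ⟨h1, h2⟩
  rw [hcop.gcd_eq_one, pow_one] at h6
  unfold Representation.character
  rw [hc, h6, one_smul, map_one]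
  rfl

end Cfsg.Agent.Helper3.RMcK
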