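import Mathlib
import Cfsg.Agent.Helper3.RMcKD4A
import Cfsg.Agent.Helper6.SmallDegree

/-!
Piece D4a of helper6's decomposition of S4807: the canonical extension of an invariant irreducible character
of a normal `p'`-subgroup `W` to `W ⋊ S`, `S` a `p`-group (the unique extension whose determinant is trivial
on `S`).
-/

set_option autoImplicit false
set_option linter.unusedSectionVars false
set_option linter.unusedVariables false
set_option linter.style.haveILetI false

namespace Cfsg.Agent.Helper3.RMcK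

open Cfsg.Agent.Helper6 Cfsg.Agent.Helper6.RMcK

universe u

variable {Γ : Type u} [Group Γ] [Finite Γ]

theorem D4a_canon_ext (p : ℕ) [Fact p.Prime] (W S M : Subgroup Γ) (hWM : W ≤ M) (hSM : S ≤ M)
    (hM : M = W ⊔ S) (hS : IsPGroup p S) (hW : (Nat.card W).Coprime p)
    (hSW : S ≤ Subgroup.normalizer (W : Set Γ))
    (η : W → ℂ) (hη : Cfsg.IsIrrCharacter W η) (hinv : S ≤ inertia W η) :
    ∃! ηh : M → ℂ, Cfsg.IsIrrCharacter M ηh ∧ res hWM ηh = η ∧
      ∀ s : S, Cfsg.detChar ηh (Subgroup.inclusion hSM s) = 1 := by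
  classical
  have hp : p.Prime := Fact.out
  have hMin : M ≤ inertia W η := by
    rw [hM]
    exact sup_le (le_inertia_of_isClassFunction W η
      (IsCharacter.isClassFunction (IsIrrCharacter.isCharacter hη))) hinv
  haveI hn : (W.subgroupOf M).Normal := normal_subgroupOf_of_le_inertia hWM η hMin
  obtain ⟨N, hN⟩ : ∃ N : Subgroup M, N = W.subgroupOf M := ⟨_, rfl⟩
  subst hN
  set e : (W.subgroupOf M) ≃* W := Subgroup.subgroupOfEquivOfLe hWM with he
  have hϑ : Cfsg.IsIrrCharacter (W.subgroupOf M) (η ∘ e) := irr_subgroupOf hWM hη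
  have hinvϑ : ∀ (g : M) (n : W.subgroupOf M),
      (η ∘ e) ⟨g * n * g⁻¹, hn.conj_mem (n : M) n.2 g⟩ = (η ∘ e) n :=
    fun g n => inv_subgroupOf hWM η hMin hn g n
  have hcardN : Nat.card (W.subgroupOf M) = Nat.card W := Nat.card_congr e.toEquiv
  obtain ⟨a, ha⟩ := IsPGroup.iff_card.mp hS
  have h1top : W.subgroupOf M ⊔ S.subgroupOf M = ⊤ := by
    rw [← Subgroup.subgroupOf_sup hWM hSM, ← hM, Subgroup.subgroupOf_self]
  have hidx : (W.subgroupOf M).index ∣ p ^ a := by
    have h2 : (W.subgroupOf M).relIndex (W.subgroupOf M ⊔ S.subgroupOf M) =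
        (W.subgroupOf M).relIndex (S.subgroupOf M) := Subgroup.relIndex_sup_left _ _
    rw [h1top, Subgroup.relIndex_top_right] at h2
    rw [h2, ← ha]
    have h3 : Nat.card (S.subgroupOf M) = Nat.card S :=
      Nat.card_congr (Subgroup.subgroupOfEquivOfLe hSM).toEquiv
    rw [← h3]
    exact Subgroup.relIndex_dvd_card _ _
  have hcop : Nat.Coprime (Nat.card (W.subgroupOf M)) (W.subgroupOf M).index := by
    rw [hcardN]
    exact Nat.Coprime.coprime_dvd_right hidx (Nat.Coprime.pow_right a hW)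
  obtain ⟨η₁, hη₁, hη₁N⟩ := extends_of_coprime_card (W.subgroupOf M) (η ∘ e) hϑ hinvϑ hcop
  obtain ⟨d, hd, hddvd, -⟩ := IsIrrCharacter.degree_dvd_card hϑ
  have hcopd : Nat.Coprime (W.subgroupOf M).index d := by
    have h : Nat.Coprime (p ^ a) (Nat.card (W.subgroupOf M)) := by
      rw [hcardN]
      exact (Nat.Coprime.pow_right a hW).symm
    exact Nat.Coprime.coprime_dvd_left hidx (Nat.Coprime.coprime_dvd_right hddvd h)
  obtain ⟨n₁, ρ₁, hirr₁, hρ₁⟩ := hη₁
  have hcopWS : Nat.Coprime (Nat.card W) (Nat.card S) := by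
    rw [ha]
    exact Nat.Coprime.pow_right a hW
  obtain ⟨t, ht1, ht0⟩ := Nat.chineseRemainder hcopWS 1 0
  have ht1' : t % Nat.card W = 1 % Nat.card W := ht1
  have ht0' : t % Nat.card S = 0 % Nat.card S := ht0
  obtain ⟨μ, hμ⟩ : ∃ μ : M →* ℂˣ, μ = (detHom ρ₁) ^ t := ⟨_, rfl⟩
  have hdetϑ : ∀ x : W.subgroupOf M, Cfsg.detChar (η ∘ e) x = ((detHom ρ₁ x : ℂˣ) : ℂ) := by
    intro x
    have hϑeq : (η ∘ e) = fun x : W.subgroupOf M => ρ₁.character ((W.subgroupOf M).subtype x) :=
      funext (fun x => by rw [hρ₁]; exact (hη₁N x).symm)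
    rw [hϑeq, detChar_comp_hom (W.subgroupOf M).subtype (isCharacter_of_rep ρ₁), detChar_rep]
    rfl
  have hμN : ∀ x : W.subgroupOf M, ((μ x : ℂˣ) : ℂ) = Cfsg.detChar (η ∘ e) x := by
    intro x
    have h1 : x ^ t = x := by
      rw [← pow_mod_natCard x t, hcardN, ht1', ← hcardN, pow_mod_natCard, pow_one]
    have h2 : ((x : M)) ^ t = (x : M) := by
      have := congrArg Subtype.val h1
      rwa [Subgroup.coe_pow] at this
    rw [hdetϑ, hμ, MonoidHom.pow_apply, ← map_pow, h2]
  have hμS : ∀ s : S, μ (Subgroup.inclusion hSM s) = 1 := by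
    intro s
    have h1 : s ^ t = 1 := by
      rw [← pow_mod_natCard s t, ht0', pow_mod_natCard, pow_zero]
    rw [hμ, MonoidHom.pow_apply, ← map_pow, ← map_pow, h1, map_one, map_one]
  obtain ⟨χ, ⟨hχ, hχN, hχdet⟩, huniq⟩ := unique_ext_with_det (W.subgroupOf M) (η ∘ e) hϑ d hd hcopd η₁
    ⟨n₁, ρ₁, hirr₁, hρ₁⟩ hη₁N μ hμN
  refine ⟨χ, ⟨hχ, ?_, ?_⟩, ?_⟩
  · funext w
    have := hχN (e.symm w)
    rw [Function.comp_apply, MulEquiv.apply_symm_apply] at this
    rw [← this]
    rfl
  · intro s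
    rw [hχdet]
    show ((μ (Subgroup.inclusion hSM s) : ℂˣ) : ℂ) = 1
    rw [hμS s]
    rfl
  · rintro ηh' ⟨h1, h2, h3⟩
    apply huniq
    have hN' : ∀ n : W.subgroupOf M, ηh' n = (η ∘ e) n := by
      intro n
      rw [← h2]
      rfl
    refine ⟨h1, hN', ?_⟩
    obtain ⟨δ', hδ'⟩ := exists_hom_detChar (IsIrrCharacter.isCharacter h1)
    have hδN : ∀ x : W.subgroupOf M, ((δ' x : ℂˣ) : ℂ) = Cfsg.detChar (η ∘ e) x := by
      intro x
      have hϑeq : (η ∘ e) = fun x : W.subgroupOf M => ηh' ((W.subgroupOf M).subtype x) :=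
        funext (fun x => (hN' x).symm)
      rw [hϑeq, detChar_comp_hom (W.subgroupOf M).subtype (IsIrrCharacter.isCharacter h1), hδ']
      rfl
    have heq : δ' = μ := by
      have htop : (⊤ : Subgroup M) ≤ MonoidHom.eqLocus δ' μ := by
        rw [← h1top]
        apply sup_le
        · intro x hx
          show δ' x = μ x
          apply Units.ext
          have e1 := hμN ⟨x, hx⟩
          have e2 := hδN ⟨x, hx⟩
          exact e2.trans e1.symm
        · intro x hx
          show δ' x = μ x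
          have hxS : (x : Γ) ∈ S := hx
          have hx' : x = Subgroup.inclusion hSM ⟨(x : Γ), hxS⟩ := rfl
          rw [hx', hμS]
          apply Units.ext
          have e1 := h3 ⟨(x : Γ), hxS⟩
          rw [hδ'] at e1
          exact e1
      ext1 x
      exact htop (Subgroup.mem_top x)
    rw [hδ', heq]

end Cfsg.Agent.Helper3.RMcK
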