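import Mathlib
import Cfsg.Prelude.Def_Characters
import Cfsg.Prelude.Def_BlockLocal
import Cfsg.Prelude.Def_Blocks
import Cfsg.Prelude.Def_CharExt
import Cfsg.Agent.Helper8.RMcKPMa

/-!
# S4807, piece PM, clause (7): compatibility of `PMRel` with characters of a subgroup `L ≤ M'` central in `M`
-/

set_option autoImplicit false
set_option linter.unusedSectionVars false
set_option linter.unusedVariables false
set_option linter.style.haveILetI false

namespace Cfsg.Agent.Helper3.RMcK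

open Cfsg.Agent.Helper6 Cfsg.Agent.Helper6.RMcK Cfsg.Agent.Helper8.RMcK
open scoped ComplexConjugate

universe u

section TypeLevel

variable {H : Type u} [Group H] [Finite H]

/-- a central element acts by a scalar in an irreducible representation -/
theorem exists_central_scalar {χ : H → ℂ} (hχ : Cfsg.IsIrrCharacter H χ) (z : H)
    (hz : ∀ h : H, z * h = h * z) :
    ∃ κ : ℂ, (∀ x : H, χ (z * x) = κ * χ x) ∧ ∀ k : ℕ, z ^ k = 1 → κ ^ k = 1 := by
  obtain ⟨n, ρ, hirr, rfl⟩ := hχ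
  haveI := hirr
  haveI : Nontrivial (Fin n → ℂ) := irr_nontrivial ρ
  have hcomm : ∀ g : H, ρ z ∘ₗ ρ g = ρ g ∘ₗ ρ z := by
    intro g
    change ρ z * ρ g = ρ g * ρ z
    rw [← map_mul, ← map_mul, hz]
  obtain ⟨c, hc⟩ := exists_scalar_of_commute ρ (ρ z) hcomm
  refine ⟨c, ?_, ?_⟩
  · intro x
    unfold Representation.character
    rw [map_mul, hc]
    have h : (c • (LinearMap.id : (Fin n → ℂ) →ₗ[ℂ] (Fin n → ℂ))) * ρ x = c • ρ x := by
      rw [smul_mul_assoc]
      congr 1
    rw [h, map_smul, smul_eq_mul]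
  · intro k hk
    have h3 : ρ (z ^ k) = 1 := by rw [hk, map_one]
    rw [map_pow, hc] at h3
    have h4 : (c • (LinearMap.id : (Fin n → ℂ) →ₗ[ℂ] (Fin n → ℂ))) ^ k =
        c ^ k • (LinearMap.id : (Fin n → ℂ) →ₗ[ℂ] (Fin n → ℂ)) := by
      rw [smul_pow]
      congr 1
      exact one_pow _
    rw [h4] at h3
    obtain ⟨v, hv⟩ := exists_ne (0 : Fin n → ℂ)
    have h5 := LinearMap.congr_fun h3 v
    rw [LinearMap.smul_apply, LinearMap.id_apply, Module.End.one_apply] at h5
    have h6 : (c ^ k - 1) • v = 0 := by rw [sub_smul, h5, one_smul, sub_self]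
    rcases smul_eq_zero.mp h6 with h7 | h7
    · exact sub_eq_zero.mp h7
    · exact absurd h7 hv

theorem irr_one_ne_zero {χ : H → ℂ} (hχ : Cfsg.IsIrrCharacter H χ) : χ 1 ≠ 0 := by
  obtain ⟨n, hn1, -, hnpos⟩ := IsIrrCharacter.degree_dvd_card hχ
  rw [hn1]
  exact_mod_cast hnpos.ne'

theorem charDegree_dvd_card' {χ : H → ℂ} (hχ : Cfsg.IsIrrCharacter H χ) :
    Cfsg.charDegree χ ∣ Nat.card H := by
  obtain ⟨n, hn1, hndvd, -⟩ := IsIrrCharacter.degree_dvd_card hχ
  have : Cfsg.charDegree χ = n := by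
    unfold Cfsg.charDegree
    rw [hn1]
    simp
  rw [this]
  exact hndvd

end TypeLevel

variable {Γ : Type u} [Group Γ] [Finite Γ]

/-- proportional restrictions lie over the same characters -/
theorem ov_iff_of_prop {L H₁ H₂ : Subgroup Γ} (h₁ : L ≤ H₁) (h₂ : L ≤ H₂) (χ₁ : H₁ → ℂ)
    (χ₂ : H₂ → ℂ) (a₁ a₂ : ℂ) (ha₁ : a₁ ≠ 0) (ha₂ : a₂ ≠ 0)
    (hprop : ∀ l : L, χ₁ (Subgroup.inclusion h₁ l) * a₂ = χ₂ (Subgroup.inclusion h₂ l) * a₁)
    (ν : L → ℂ) : Ov h₁ χ₁ ν ↔ Ov h₂ χ₂ ν := by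
  classical
  haveI := Fintype.ofFinite L
  have hres : res h₂ χ₂ = (a₂ / a₁) • res h₁ χ₁ := by
    funext l
    rw [Pi.smul_apply, smul_eq_mul]
    show χ₂ (Subgroup.inclusion h₂ l) = a₂ / a₁ * χ₁ (Subgroup.inclusion h₁ l)
    have := hprop l
    field_simp
    rw [mul_comm a₂, this, mul_comm]
  unfold Ov
  rw [hres, ip_eq_classInner, ip_eq_classInner, classInner_smul_left]
  constructor
  · intro h
    exact mul_ne_zero (div_ne_zero ha₂ ha₁) h
  · intro h h0
    apply h
    rw [h0, mul_zero]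

/-- a linear character of `X ≤ A ⊔ S`, trivial on `S`, is trivial on elements whose order is coprime
to `|A|` -/
theorem hom_eq_one_of_pow {A S X : Subgroup Γ} (hAX : A ≤ X) (hSX : S ≤ X) (hX : X ≤ A ⊔ S)
    (δ : X →* ℂˣ) (hδS : ∀ s : S, δ (Subgroup.inclusion hSX s) = 1) (q : ℕ)
    (hcop : (Nat.card A).Coprime q) (z : X) (hz : z ^ q = 1) : δ z = 1 := by
  have h1 : δ ^ (Nat.card A) = 1 := by
    apply hom_eq_of_sup hAX hSX hX
    · intro a
      rw [MonoidHom.pow_apply, ← map_pow, ← map_pow, pow_card_eq_one', map_one, map_one]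
      rfl
    · intro s
      rw [MonoidHom.pow_apply, hδS, one_pow]
      rfl
  have h2 : δ z ^ (Nat.card A) = 1 := by
    have := congrArg (fun f : X →* ℂˣ => f z) h1
    simpa using this
  have h3 : δ z ^ q = 1 := by rw [← map_pow, hz, map_one]
  have h4 : δ z ^ (Nat.gcd (Nat.card A) q) = 1 := pow_gcd_eq_one.mpr ⟨h2, h3⟩
  rwa [Nat.Coprime.gcd_eq_one hcop, pow_one] at h4

theorem index_subgroupOf_dvd_card {W S M : Subgroup Γ} (hWM : W ≤ M) (hSM : S ≤ M)
    (hM : M = W ⊔ S) [hn : (W.subgroupOf M).Normal] : (W.subgroupOf M).index ∣ Nat.card S := by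
  have h1top : W.subgroupOf M ⊔ S.subgroupOf M = ⊤ := by
    rw [← Subgroup.subgroupOf_sup hWM hSM, ← hM, Subgroup.subgroupOf_self]
  have h2 : (W.subgroupOf M).relIndex (W.subgroupOf M ⊔ S.subgroupOf M) =
      (W.subgroupOf M).relIndex (S.subgroupOf M) := Subgroup.relIndex_sup_left _ _
  rw [h1top, Subgroup.relIndex_top_right] at h2
  rw [h2]
  have h3 : Nat.card (S.subgroupOf M) = Nat.card S :=
    Nat.card_congr (Subgroup.subgroupOfEquivOfLe hSM).toEquiv
  rw [← h3]
  exact Subgroup.relIndex_dvd_card _ _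

/-- splitting an element of `M = W ⋊ S` into commuting powers: a `|S|`-torsion part and a part in `W` -/
theorem exists_pow_decomp {W S M : Subgroup Γ} (hWM : W ≤ M) (hSM : S ≤ M) (hM : M = W ⊔ S)
    (hSW : S ≤ Subgroup.normalizer (W : Set Γ)) (hcop : (Nat.card W).Coprime (Nat.card S))
    (x : M) :
    ∃ t t' : ℕ, x ^ t * x ^ t' = x ∧ (x ^ t) ^ (Nat.card S) = 1 ∧ ((x ^ t' : M) : Γ) ∈ W := by
  have hMW : M ≤ Subgroup.normalizer (W : Set Γ) := by
    rw [hM]
    exact sup_le Subgroup.le_normalizer hSW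
  haveI hn : (W.subgroupOf M).Normal := (Subgroup.normal_subgroupOf_iff_le_normalizer hWM).mpr hMW
  have hidx := index_subgroupOf_dvd_card hWM hSM hM
  have hcardN : Nat.card (W.subgroupOf M) = Nat.card W :=
    Nat.card_congr (Subgroup.subgroupOfEquivOfLe hWM).toEquiv
  have hxq : x ^ (Nat.card S) ∈ W.subgroupOf M := by
    obtain ⟨r, hr⟩ := hidx
    rw [hr, pow_mul]
    exact Subgroup.pow_mem _ (Subgroup.pow_index_mem _ x) r
  have hxwq : x ^ (Nat.card S * Nat.card W) = 1 := by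
    have h1 : (⟨x ^ (Nat.card S), hxq⟩ : W.subgroupOf M) ^ (Nat.card W) = 1 := by
      rw [← hcardN]
      exact pow_card_eq_one'
    have h2 := congrArg Subtype.val h1
    rw [Subgroup.coe_pow, Subgroup.coe_one] at h2
    rw [pow_mul]
    exact h2
  have hord : orderOf x ∣ Nat.card S * Nat.card W := orderOf_dvd_of_pow_eq_one hxwq
  obtain ⟨t, ht1, ht0⟩ := Nat.chineseRemainder hcop.symm 1 0
  obtain ⟨t', ht'0, ht'1⟩ := Nat.chineseRemainder hcop.symm 0 1
  refine ⟨t, t', ?_, ?_, ?_⟩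
  · rw [← pow_add]
    have h1 : t + t' ≡ 1 [MOD Nat.card S] := by
      have := Nat.ModEq.add ht1 ht'0
      simpa using this
    have h2 : t + t' ≡ 1 [MOD Nat.card W] := by
      have := Nat.ModEq.add ht0 ht'1
      simpa using this
    have h3 : t + t' ≡ 1 [MOD Nat.card S * Nat.card W] :=
      (Nat.modEq_and_modEq_iff_modEq_mul hcop.symm).mp ⟨h1, h2⟩
    have h4 : t + t' ≡ 1 [MOD orderOf x] := h3.of_dvd hord
    have := pow_eq_pow_iff_modEq.mpr h4
    rwa [pow_one] at this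
  · obtain ⟨t₁, ht₁⟩ := (Nat.modEq_zero_iff_dvd).mp ht0
    rw [← pow_mul, ht₁]
    have : Nat.card W * t₁ * Nat.card S = Nat.card S * Nat.card W * t₁ := by ring
    rw [this, pow_mul, hxwq, one_pow]
  · obtain ⟨t₂, ht₂⟩ := (Nat.modEq_zero_iff_dvd).mp ht'0
    rw [ht₂, pow_mul]
    exact Subgroup.mem_subgroupOf.mp (Subgroup.pow_mem _ hxq t₂)

/-- an irreducible character of `W` and a constituent of its restriction to `C` have the same central
character on central elements of `W` lying in `C` -/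
theorem central_value_eq {W C : Subgroup Γ} (hCW : C ≤ W) (η : W → ℂ)
    (hη : Cfsg.IsIrrCharacter W η) (β : C → ℂ) (hβ : Cfsg.IsIrrCharacter C β)
    (hov : ip (res hCW η) β ≠ 0) (c : C)
    (hc : ∀ w : W, Subgroup.inclusion hCW c * w = w * Subgroup.inclusion hCW c) :
    η (Subgroup.inclusion hCW c) * β 1 = β c * η 1 := by
  classical
  haveI := Fintype.ofFinite C
  obtain ⟨κ, hκ, -⟩ := exists_central_scalar hη (Subgroup.inclusion hCW c) hc
  have hc' : ∀ x : C, c * x = x * c := by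
    intro x
    have := hc (Subgroup.inclusion hCW x)
    apply Subtype.ext
    have h2 := congrArg Subtype.val this
    exact h2
  obtain ⟨κ', hκ', hκ'pow⟩ := exists_central_scalar hβ c hc'
  have hnorm : κ' * conj κ' = 1 := by
    have h1 : ‖κ'‖ = 1 :=
      Complex.norm_eq_one_of_pow_eq_one (hκ'pow (orderOf c) (pow_orderOf_eq_one c))
        (orderOf_pos c).ne'
    rw [RCLike.mul_conj, h1]
    norm_num
  rw [ip_eq_classInner, classInner_def] at hov
  have hsum : ∑ x : C, res hCW η x * conj (β x) ≠ 0 := by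
    intro h0
    apply hov
    rw [h0, mul_zero]
  have hre : ∑ x : C, res hCW η x * conj (β x) =
      (κ * conj κ') * ∑ x : C, res hCW η x * conj (β x) := by
    rw [Finset.mul_sum]
    rw [← Equiv.sum_comp (Equiv.mulLeft c) (fun x => res hCW η x * conj (β x))]
    apply Finset.sum_congr rfl
    intro x _
    rw [Equiv.coe_mulLeft, hκ' x, map_mul]
    have : res hCW η (c * x) = κ * res hCW η x := by
      show η (Subgroup.inclusion hCW (c * x)) = κ * η (Subgroup.inclusion hCW x)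
      rw [map_mul, hκ]
    rw [this]
    ring
  have hk1 : κ * conj κ' = 1 := by
    have h1 : (κ * conj κ' - 1) * ∑ x : C, res hCW η x * conj (β x) = 0 := by
      rw [sub_mul, one_mul, ← hre, sub_self]
    rcases mul_eq_zero.mp h1 with h2 | h2
    · exact sub_eq_zero.mp h2
    · exact absurd h2 hsum
  have hκeq : κ = κ' := by
    calc κ = κ * (κ' * conj κ') := by rw [hnorm, mul_one]
      _ = (κ * conj κ') * κ' := by ring
      _ = κ' := by rw [hk1, one_mul]
  have e1 : η (Subgroup.inclusion hCW c) = κ * η 1 := by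
    have := hκ 1
    rwa [mul_one] at this
  have e2 : β c = κ * β 1 := by
    have := hκ' 1
    rw [mul_one] at this
    rw [this, hκeq]
  rw [e1, e2]
  ring

/-- PM clause (7): compatibility with characters of a subgroup `L ≤ M'` central in `M`. -/
theorem PM7_central (p : ℕ) [Fact p.Prime] (W S C M M' : Subgroup Γ) (hS : IsPGroup p S)
    (hW : (Nat.card W).Coprime p) (hSW : S ≤ Subgroup.normalizer (W : Set Γ))
    (hC : C = fixC W S) (hM : M = W ⊔ S) (hM' : M' = C ⊔ S) (hWM : W ≤ M) (hSM : S ≤ M)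
    (hCM' : C ≤ M') (hSM' : S ≤ M') (hM'M : M' ≤ M) (hCW : C ≤ W)
    (τ : M → ℂ) (τ' : M' → ℂ) (h : PMRel p hWM hSM hCM' hSM' hM'M hCW τ τ')
    (L : Subgroup Γ) (hLM' : L ≤ M') (hLZ : ∀ l ∈ L, ∀ m ∈ M, l * m = m * l) (ν : L → ℂ)
    (hν : Cfsg.IsIrrCharacter L ν) :
    Ov (hLM'.trans hM'M) τ ν ↔ Ov hLM' τ' ν := by
  obtain ⟨η, β, ηh, βh, μ, hη, hβ, hinv, hgl, ⟨hηh, hηres, hηdet⟩, ⟨hβh, hβres, hβdet⟩, hμW, hτ,
    hτ'⟩ := h
  obtain ⟨a, ha⟩ := IsPGroup.iff_card.mp hS
  have hp : p.Prime := Fact.out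
  have hcop : (Nat.card W).Coprime (Nat.card S) := by
    rw [ha]
    exact Nat.Coprime.pow_right a hW
  have hCp : (Nat.card C).Coprime p := Nat.Coprime.coprime_dvd_left (Subgroup.card_dvd_of_le hCW) hW
  have hcopC : (Nat.card C).Coprime (Nat.card S) :=
    Nat.Coprime.coprime_dvd_left (Subgroup.card_dvd_of_le hCW) hcop
  have hη1 : ηh 1 = η 1 := by rw [← hηres]; rfl
  have hβ1 : βh 1 = β 1 := by rw [← hβres]; rfl
  have hη1ne : η 1 ≠ 0 := irr_one_ne_zero hη
  have hβ1ne : β 1 ≠ 0 := irr_one_ne_zero hβ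
  have hdegη : ¬ p ∣ Cfsg.charDegree ηh := by
    have h1 : Cfsg.charDegree ηh = Cfsg.charDegree η := by
      unfold Cfsg.charDegree
      rw [hη1]
    rw [h1]
    intro hdvd
    have h2 := dvd_trans hdvd (charDegree_dvd_card' hη)
    exact (Nat.Prime.coprime_iff_not_dvd hp).mp hW.symm h2
  have hdegβ : ¬ p ∣ Cfsg.charDegree βh := by
    have h1 : Cfsg.charDegree βh = Cfsg.charDegree β := by
      unfold Cfsg.charDegree
      rw [hβ1]
    rw [h1]
    intro hdvd
    have h2 := dvd_trans hdvd (charDegree_dvd_card' hβ)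
    exact (Nat.Prime.coprime_iff_not_dvd hp).mp hCp.symm h2
  have hov : ip (res hCW η) β ≠ 0 := by
    obtain ⟨m, hm, hpm⟩ := hgl
    rw [hm]
    intro h0
    have hm0 : m = 0 := by exact_mod_cast h0
    exact hpm (hm0 ▸ dvd_zero p)
  apply ov_iff_of_prop (hLM'.trans hM'M) hLM' τ τ' (η 1) (β 1) hη1ne hβ1ne
  intro l
  obtain ⟨x, hx⟩ : ∃ x : M, x = Subgroup.inclusion (hLM'.trans hM'M) l := ⟨_, rfl⟩
  obtain ⟨x', hx'⟩ : ∃ x' : M', x' = Subgroup.inclusion hLM' l := ⟨_, rfl⟩
  rw [← hx, ← hx']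
  have hxl : (x : Γ) = (l : Γ) := by rw [hx]; rfl
  have hx'l : (x' : Γ) = (l : Γ) := by rw [hx']; rfl
  have hxcent : ∀ m : M, x * m = m * x := by
    intro m
    apply Subtype.ext
    rw [Subgroup.coe_mul, Subgroup.coe_mul, hxl]
    exact hLZ l l.2 m m.2
  have hx'cent : ∀ m : M', x' * m = m * x' := by
    intro m
    apply Subtype.ext
    rw [Subgroup.coe_mul, Subgroup.coe_mul, hx'l]
    exact hLZ l l.2 m (hM'M m.2)
  obtain ⟨t, t', hdec, hzq, hcW⟩ := exists_pow_decomp hWM hSM hM hSW hcop x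
  have hzcent : ∀ m : M, x ^ t * m = m * x ^ t := fun m => (Commute.pow_left (hxcent m) t)
  have hccent : ∀ m : M, x ^ t' * m = m * x ^ t' := fun m => (Commute.pow_left (hxcent m) t')
  have hz'cent : ∀ m : M', x' ^ t * m = m * x' ^ t := fun m => (Commute.pow_left (hx'cent m) t)
  have hdec' : x' ^ t * x' ^ t' = x' := by
    apply Subtype.ext
    have := congrArg Subtype.val hdec
    simp only [Subgroup.coe_mul, Subgroup.coe_pow, hxl] at this
    simp only [Subgroup.coe_mul, Subgroup.coe_pow, hx'l]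
    exact this
  have hz'q : (x' ^ t) ^ (Nat.card S) = 1 := by
    apply Subtype.ext
    have := congrArg Subtype.val hzq
    simp only [Subgroup.coe_pow, Subgroup.coe_one, hxl] at this
    simp only [Subgroup.coe_pow, Subgroup.coe_one, hx'l]
    exact this
  -- `ηh` at the `p`-part
  have hηx : ηh x = ηh (x ^ t') := by
    obtain ⟨δ, hδ⟩ := exists_hom_detChar (IsIrrCharacter.isCharacter hηh)
    have hδS : ∀ s : S, δ (Subgroup.inclusion hSM s) = 1 := by
      intro s
      apply Units.ext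
      have := hηdet s
      rw [hδ] at this
      exact this
    have hδz : δ (x ^ t) = 1 :=
      hom_eq_one_of_pow hWM hSM (le_of_eq hM) δ hδS (Nat.card S) hcop (x ^ t) hzq
    have hdetz : Cfsg.detChar ηh (x ^ t) = 1 := by
      rw [hδ]
      show ((δ (x ^ t) : ℂˣ) : ℂ) = 1
      rw [hδz]
      rfl
    have hzk : (x ^ t) ^ (p ^ a) = 1 := by rw [← ha]; exact hzq
    have hηz : ηh (x ^ t) = ηh 1 := D4c_central_p_value p M ηh hηh hdegη (x ^ t) hzcent a hzk hdetz
    obtain ⟨κ, hκ, -⟩ := exists_central_scalar hηh (x ^ t) hzcent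
    have hκ1 : κ = 1 := by
      have h1 := hκ 1
      rw [mul_one, hηz] at h1
      have hne : ηh 1 ≠ 0 := by rw [hη1]; exact hη1ne
      have h2 : (κ - 1) * ηh 1 = 0 := by rw [sub_mul, one_mul, ← h1, sub_self]
      rcases mul_eq_zero.mp h2 with h3 | h3
      · exact sub_eq_zero.mp h3
      · exact absurd h3 hne
    have h4 := hκ (x ^ t')
    rw [hdec, hκ1, one_mul] at h4
    exact h4
  -- `βh` at the `p`-part
  have hβx : βh x' = βh (x' ^ t') := by
    obtain ⟨δ, hδ⟩ := exists_hom_detChar (IsIrrCharacter.isCharacter hβh)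
    have hδS : ∀ s : S, δ (Subgroup.inclusion hSM' s) = 1 := by
      intro s
      apply Units.ext
      have := hβdet s
      rw [hδ] at this
      exact this
    have hδz : δ (x' ^ t) = 1 :=
      hom_eq_one_of_pow hCM' hSM' (le_of_eq hM') δ hδS (Nat.card S) hcopC (x' ^ t) hz'q
    have hdetz : Cfsg.detChar βh (x' ^ t) = 1 := by
      rw [hδ]
      show ((δ (x' ^ t) : ℂˣ) : ℂ) = 1
      rw [hδz]
      rfl
    have hzk : (x' ^ t) ^ (p ^ a) = 1 := by rw [← ha]; exact hz'q
    have hβz : βh (x' ^ t) = βh 1 :=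
      D4c_central_p_value p M' βh hβh hdegβ (x' ^ t) hz'cent a hzk hdetz
    obtain ⟨κ, hκ, -⟩ := exists_central_scalar hβh (x' ^ t) hz'cent
    have hκ1 : κ = 1 := by
      have h1 := hκ 1
      rw [mul_one, hβz] at h1
      have hne : βh 1 ≠ 0 := by rw [hβ1]; exact hβ1ne
      have h2 : (κ - 1) * βh 1 = 0 := by rw [sub_mul, one_mul, ← h1, sub_self]
      rcases mul_eq_zero.mp h2 with h3 | h3
      · exact sub_eq_zero.mp h3
      · exact absurd h3 hne
    have h4 := hκ (x' ^ t')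
    rw [hdec', hκ1, one_mul] at h4
    exact h4
  -- the `p'`-part lies in `C`
  have hcC : ((x ^ t' : M) : Γ) ∈ C := by
    rw [hC, mem_fixC]
    refine ⟨hcW, ?_⟩
    intro s hs
    have := hccent ⟨s, hSM hs⟩
    have h2 := congrArg Subtype.val this
    simp only [Subgroup.coe_mul] at h2
    exact h2.symm
  obtain ⟨cC, hcCdef⟩ : ∃ cC : C, (cC : Γ) = ((x ^ t' : M) : Γ) := ⟨⟨_, hcC⟩, rfl⟩
  have hcc : ∀ w : W, Subgroup.inclusion hCW cC * w = w * Subgroup.inclusion hCW cC := by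
    intro w
    have := hccent (Subgroup.inclusion hWM w)
    apply Subtype.ext
    have h2 := congrArg Subtype.val this
    simp only [Subgroup.coe_mul, Subgroup.coe_inclusion] at h2 ⊢
    rw [hcCdef]
    exact h2
  have hkey := central_value_eq hCW η hη β hβ hov cC hcc
  have e1 : ηh (x ^ t') = η (Subgroup.inclusion hCW cC) := by
    rw [← hηres]
    show ηh (x ^ t') = ηh (Subgroup.inclusion hWM (Subgroup.inclusion hCW cC))
    congr 1
    apply Subtype.ext
    simp only [Subgroup.coe_inclusion]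
    exact hcCdef.symm
  have e2 : βh (x' ^ t') = β cC := by
    rw [← hβres]
    show βh (x' ^ t') = βh (Subgroup.inclusion hCM' cC)
    congr 1
    apply Subtype.ext
    simp only [Subgroup.coe_inclusion, Subgroup.coe_pow, hx'l]
    rw [hcCdef]
    simp only [Subgroup.coe_pow, hxl]
  have e3 : Subgroup.inclusion hM'M x' = x := by
    apply Subtype.ext
    simp only [Subgroup.coe_inclusion]
    rw [hxl, hx'l]
  rw [hτ, hτ', Pi.mul_apply, Pi.mul_apply, homFun_apply, homFun_apply, MonoidHom.comp_apply]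
  have e4 : (Subgroup.inclusion hM'M : M' →* M) x' = x := e3
  rw [e4, hηx, hβx, e1, e2]
  calc η (Subgroup.inclusion hCW cC) * ((μ x : ℂˣ) : ℂ) * β 1
      = (η (Subgroup.inclusion hCW cC) * β 1) * ((μ x : ℂˣ) : ℂ) := by ring
    _ = (β cC * η 1) * ((μ x : ℂˣ) : ℂ) := by rw [hkey]
    _ = β cC * ((μ x : ℂˣ) : ℂ) * η 1 := by ring

end Cfsg.Agent.Helper3.RMcK
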