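import Mathlib
import Cfsg.Agent.Helper3.ShHHBabs
import Cfsg.Agent.Helper1.HHD3Ind
import Cfsg.Agent.Helper3.HHConjA
import Cfsg.Agent.Helper3.HHAbB
import Cfsg.Agent.Helper1.Fitting2

set_option autoImplicit false

/-!
Assembly for the Hall–Higman bound `l_p ≤ 2 e_p` (odd `p`): the two-layer statement (R')
from the commutativity statement `dab` (passed as a hypothesis `DabFor`).
-/

namespace Cfsg.Agent.Helper3.RPa

universe u

open Module

/-- the commutativity statement `dab` for a fixed group and representation -/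
def DabFor {H : Type*} [Group H] (p : ℕ) {F V : Type*} [Field F] [AddCommGroup V] [Module F V]
    (rho : H →* Module.End F V) : Prop :=
  ∀ (N T : Subgroup H), IsPGroup p T → T ≤ Subgroup.normalizer (N : Set H) → ¬ p ∣ Nat.card N →
    (∀ g ∈ N, rho g = 1 → g = 1) → (∀ t ∈ T, (∀ g ∈ N, t * g = g * t) → t = 1) →
    ∀ n : ℕ, 1 ≤ n → ∀ S : Set H, S ⊆ T → (∀ t ∈ T, ∀ s ∈ S, t * s * t⁻¹ ∈ S) →
    (∀ s ∈ S, s ^ p ^ n = 1) → (∀ s ∈ S, (rho s - 1) ^ (p ^ n - 1) = 0) →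
    ∀ s ∈ S, ∀ s' ∈ S, s ^ p ^ (n - 1) * s' ^ p ^ (n - 1) = s' ^ p ^ (n - 1) * s ^ p ^ (n - 1)

/-- norm computation on a module receiving a normal subgroup equivariantly -/
theorem theta_norm {Γ : Type*} [Group Γ] (P : Subgroup Γ) [hPn : P.Normal] {W : Type*}
    [AddCommGroup W] {R : Type*} [Semiring R] [Module R W]
    (θ₀ : P →* Multiplicative W) (ρ₀ : Γ →* Module.End R W)
    (hequiv : ∀ (g : Γ) (u : P), ρ₀ g (Multiplicative.toAdd (θ₀ u)) =
        Multiplicative.toAdd (θ₀ ⟨g * u * g⁻¹, hPn.conj_mem u u.2 g⟩))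
    (x u : Γ) (hu : u ∈ P) (k : ℕ) :
    ∃ hk : (u * x) ^ k * (x ^ k)⁻¹ ∈ P,
      (∑ i ∈ Finset.range k, ρ₀ x ^ i) (Multiplicative.toAdd (θ₀ ⟨u, hu⟩)) =
        Multiplicative.toAdd (θ₀ ⟨(u * x) ^ k * (x ^ k)⁻¹, hk⟩) := by
  induction k with
  | zero =>
    refine ⟨by simp, ?_⟩
    rw [Finset.range_zero, Finset.sum_empty, LinearMap.zero_apply]
    have : (⟨(u * x) ^ 0 * (x ^ 0)⁻¹, by simp⟩ : P) = 1 := by
      apply Subtype.ext; simp
    rw [this, map_one]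
    rfl
  | succ k ih =>
    obtain ⟨hk, ih⟩ := ih
    have hconj : x ^ k * u * (x ^ k)⁻¹ ∈ P := hPn.conj_mem u hu (x ^ k)
    have heq : (u * x) ^ (k + 1) * (x ^ (k + 1))⁻¹ =
        ((u * x) ^ k * (x ^ k)⁻¹) * (x ^ k * u * (x ^ k)⁻¹) := by
      rw [pow_succ, pow_succ]; group
    have hk1 : (u * x) ^ (k + 1) * (x ^ (k + 1))⁻¹ ∈ P := by
      rw [heq]; exact P.mul_mem hk hconj
    refine ⟨hk1, ?_⟩
    rw [Finset.sum_range_succ, LinearMap.add_apply, ih, ← map_pow, hequiv]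
    have h2 : (⟨(u * x) ^ (k + 1) * (x ^ (k + 1))⁻¹, hk1⟩ : P) =
        (⟨(u * x) ^ k * (x ^ k)⁻¹, hk⟩ : P) * ⟨x ^ k * u * (x ^ k)⁻¹, hconj⟩ := by
      apply Subtype.ext
      rw [Subgroup.coe_mul]
      exact heq
    rw [h2, map_mul]
    rfl


/-- the arithmetic contradiction with Theorem B on the second layer -/
theorem arith_false {p : ℕ} (hp : p.Prime) (hp2 : p ≠ 2) (n : ℕ) (hn : 1 ≤ n) :
    ¬ p ^ n ≤ 2 * p ^ (n - 1) - 1 ∧ ∀ n₀ : ℕ, 1 ≤ n₀ → n₀ ≤ n →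
      ¬ p ^ (n - n₀) * (p ^ n₀ - 1) ≤ 2 * p ^ (n - 1) - 1 := by
  have hp3 : 3 ≤ p := by
    have := hp.two_le
    omega
  constructor
  · obtain ⟨j, rfl⟩ : ∃ j, n = j + 1 := ⟨n - 1, by omega⟩
    rw [Nat.add_sub_cancel, pow_succ]
    have h1 : 0 < p ^ j := pow_pos hp.pos j
    have h2 : 3 * p ^ j ≤ p ^ j * p := by nlinarith
    omega
  · intro n₀ h1 h2
    obtain ⟨c, rfl⟩ : ∃ c, n₀ = c + 1 := ⟨n₀ - 1, by omega⟩
    obtain ⟨j, rfl⟩ : ∃ j, n = c + 1 + j := ⟨n - (c + 1), by omega⟩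
    have e1 : c + 1 + j - (c + 1) = j := by omega
    have e2 : c + 1 + j - 1 = j + c := by omega
    rw [e1, e2, pow_add p j c, pow_succ]
    have h3 : 0 < p ^ j := pow_pos hp.pos j
    have h4 : 0 < p ^ c := pow_pos hp.pos c
    have h5 : 2 * p ^ c + 1 ≤ p ^ c * p := by nlinarith
    have h6 : 2 * p ^ c ≤ p ^ c * p - 1 := by omega
    have h7 : p ^ j * (2 * p ^ c) ≤ p ^ j * (p ^ c * p - 1) := Nat.mul_le_mul_left _ h6
    have h8 : 0 < p ^ j * p ^ c := Nat.mul_pos h3 h4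
    intro h9
    have : p ^ j * (2 * p ^ c) = 2 * (p ^ j * p ^ c) := by ring
    omega

set_option maxHeartbeats 1000000 in
/-- **(R')** from `dab`: in a `p`-solvable group `H` (`p` odd) with `O_p(H) = 1` acting faithfully in
characteristic `p` such that every `p`-element `s` satisfies `(s - 1)^(p^n - 1) = 0`, every
`p`-element `x` has `x^(p^(n-1)) ∈ O_{p',p}(H)`. -/
theorem rprime_of_dab {H : Type u} [Group H] [Finite H] {p : ℕ} [hp : Fact p.Prime] (hp2 : p ≠ 2)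
    (hsol : Cfsg.IsPSolvable p H) (hOp : Cfsg.pCore p H = ⊥)
    {F : Type*} {V : Type*} [Field F] [CharP F p] [AddCommGroup V] [Module F V]
    [FiniteDimensional F V]
    (rho : H →* Module.End F V) (hfaith : ∀ g, rho g = 1 → g = 1) (hdab : DabFor p rho)
    (n : ℕ) (hn : 1 ≤ n)
    (hexc : ∀ s : H, IsPGroup p (Subgroup.zpowers s) → (rho s - 1) ^ (p ^ n - 1) = 0)
    (x : H) (hx : IsPGroup p (Subgroup.zpowers x)) :
    x ^ p ^ (n - 1) ∈ Cfsg.pPrimePCore p H := by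
  classical
  by_contra hy
  rcases subsingleton_or_nontrivial V with hV | hV
  · have hall : ∀ g : H, g = 1 := fun g => hfaith g (by
      apply LinearMap.ext
      intro v
      exact Subsingleton.elim _ _)
    apply hy
    rw [hall (x ^ p ^ (n - 1))]
    exact Subgroup.one_mem _
  haveI : CharP (Module.End F V) p :=
    charP_of_injective_algebraMap (algebraMap F (Module.End F V)).injective p
  -- `p`-elements have order dividing `p ^ n`
  have hpow : ∀ s : H, IsPGroup p (Subgroup.zpowers s) → s ^ p ^ n = 1 := by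
    intro s hs
    apply hfaith
    have h1 : (rho s - 1) ^ (p ^ n) = 0 := pow_eq_zero_of_le (Nat.sub_le _ _) (hexc s hs)
    rw [sub_pow_char_pow_of_commute p n (Commute.one_right _), one_pow, ← map_pow] at h1
    exact sub_eq_zero.1 h1
  obtain ⟨N, hNdef⟩ : ∃ N : Subgroup H, N = Cfsg.pPrimeCore p H := ⟨_, rfl⟩
  haveI hNn : N.Normal := by rw [hNdef]; exact Cfsg.Agent.Helper1.pPrimeCore_normal p
  have hNcop : (Nat.card N).Coprime p := by
    rw [hNdef]; exact Cfsg.Agent.Helper1.card_pPrimeCore_coprime p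
  have hNp : ¬ p ∣ Nat.card N := by
    intro h
    have := Nat.Coprime.eq_one_of_dvd hNcop.symm h
    exact hp.out.one_lt.ne' this
  have hCN : Subgroup.centralizer (N : Set H) ≤ N := by
    rw [hNdef]
    exact Cfsg.Agent.Helper1.centralizer_pPrimeCore_le_of_isPSolvable hsol hOp
  obtain ⟨S, hS⟩ := hx.exists_le_sylow
  have hxS : x ∈ (S : Subgroup H) := hS (Subgroup.mem_zpowers x)
  have hSel : ∀ s ∈ (S : Subgroup H), IsPGroup p (Subgroup.zpowers s) := fun s hs =>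
    S.isPGroup'.to_le (Subgroup.zpowers_le.2 hs)
  -- `dab` for the Sylow subgroup
  have hcomm : ∀ s ∈ (S : Subgroup H), ∀ s' ∈ (S : Subgroup H),
      s ^ p ^ (n - 1) * s' ^ p ^ (n - 1) = s' ^ p ^ (n - 1) * s ^ p ^ (n - 1) := by
    apply hdab N (S : Subgroup H) S.isPGroup' ?_ hNp (fun g _ h => hfaith g h) ?_ n hn
      ((S : Subgroup H) : Set H) (fun s hs => hs) ?_ (fun s hs => hpow s (hSel s hs))
      (fun s hs => hexc s (hSel s hs))
    · rw [Subgroup.normalizer_eq_top]; exact le_top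
    · intro t ht hc
      have h1 : t ∈ N := by
        apply hCN
        rw [Subgroup.mem_centralizer_iff]
        intro g hg
        exact (hc g hg).symm
      have h2 : N ⊓ (S : Subgroup H) = ⊥ := by
        apply Cfsg.Agent.Helper1.inf_eq_bot_of_coprime_card
        obtain ⟨k, hk⟩ := IsPGroup.iff_card.1 S.isPGroup'
        rw [hk]
        exact Nat.Coprime.pow_right k hNcop
      have h3 : t ∈ N ⊓ (S : Subgroup H) := ⟨h1, ht⟩
      rw [h2, Subgroup.mem_bot] at h3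
      exact h3
    · intro t ht s hs
      exact Subgroup.mul_mem _ (Subgroup.mul_mem _ ht hs) (Subgroup.inv_mem _ ht)
  -- the second layer
  have hsolb : Cfsg.IsPSolvable p (H ⧸ N) := Cfsg.Agent.Helper4.isPSolvable_quotient hsol N
  have hOb : Cfsg.pPrimeCore p (H ⧸ N) = ⊥ := by
    subst hNdef
    exact Cfsg.Agent.Helper1.pPrimeCore_quotient_pPrimeCore p
  haveI hPbn : (Cfsg.pCore p (H ⧸ N)).Normal := Cfsg.Agent.Helper4.pCore_normal
  obtain ⟨W, instW, instM, instF, θ₀, ρ₀, ρb, hθsurj, hequiv, hρb, hρbfaith⟩ :=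
    Cfsg.Agent.Helper1.HHD3.exists_faithful_frattini_rep hsolb hOb
  have hsolbb : Cfsg.IsPSolvable p ((H ⧸ N) ⧸ Cfsg.pCore p (H ⧸ N)) :=
    Cfsg.Agent.Helper4.isPSolvable_quotient hsolb _
  have hObb : Cfsg.pCore p ((H ⧸ N) ⧸ Cfsg.pCore p (H ⧸ N)) = ⊥ :=
    Cfsg.Agent.Helper3.HHAb.pCore_quotient_pCore p
  obtain ⟨xbb, hxbb⟩ : ∃ xbb : (H ⧸ N) ⧸ Cfsg.pCore p (H ⧸ N),
    xbb = QuotientGroup.mk (QuotientGroup.mk' N x) := ⟨_, rfl⟩
  have hxbbpow : xbb ^ p ^ n = 1 := by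
    rw [hxbb, ← QuotientGroup.mk_pow, ← map_pow, hpow x hx, map_one]
    rfl
  have hybb : xbb ^ p ^ (n - 1) ≠ 1 := by
    intro h
    apply hy
    rw [hxbb, ← QuotientGroup.mk_pow, ← map_pow, QuotientGroup.eq_one_iff] at h
    unfold Cfsg.pPrimePCore
    rw [Subgroup.mem_comap]
    subst hNdef
    exact h
  obtain ⟨X, hXdef⟩ : ∃ X : Module.End (ZMod p) W, X = ρ₀ ((QuotientGroup.mk' N) x) := ⟨_, rfl⟩
  have hXb : ρb xbb = X := by rw [hxbb, hρb, hXdef]
  obtain ⟨n', hn'⟩ : ∃ n' : ℕ, n' = p ^ (n - 1) := ⟨_, rfl⟩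
  have hn'pos : 0 < n' := by rw [hn']; exact pow_pos hp.out.pos _
  have hgeom : ∑ i ∈ Finset.range n', X ^ i = (X - 1) ^ (n' - 1) := by
    rw [hn']
    exact Cfsg.Agent.Helper3.HH.geom_sum_eq_pow (ZMod p) p (n - 1) X
  have hpowX : X ^ n' - 1 = (X - 1) ^ n' := by
    rw [← geom_sum_mul, hgeom, ← pow_succ, Nat.sub_add_cancel hn'pos]
  have hs : (ρb xbb - 1) ^ (2 * p ^ (n - 1) - 1) = 0 := by
    rw [hXb, ← hn', show 2 * n' - 1 = n' + (n' - 1) by omega, pow_add]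
    apply LinearMap.ext
    intro w
    rw [LinearMap.zero_apply, Module.End.mul_apply]
    obtain ⟨c, hc⟩ := hθsurj (Multiplicative.ofAdd w)
    have hw : w = Multiplicative.toAdd (θ₀ c) := by rw [hc]; rfl
    -- lift `c` to `u ∈ S`
    have hcS : (c : H ⧸ N) ∈ (S : Subgroup H).map (QuotientGroup.mk' N) := by
      have h1 := Cfsg.Agent.Helper1.pCore_le_sylow
        (S.mapSurjective (QuotientGroup.mk'_surjective N))
      have h2 := h1 c.2
      rw [Sylow.coe_mapSurjective] at h2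
      exact h2
    obtain ⟨u, huS, hu⟩ := hcS
    have hubP : (QuotientGroup.mk' N) u ∈ (Cfsg.pCore p (H ⧸ N)) := by rw [hu]; exact c.2
    have hc' : c = ⟨(QuotientGroup.mk' N) u, hubP⟩ := Subtype.ext hu.symm
    obtain ⟨hk, hnorm⟩ := theta_norm (Cfsg.pCore p (H ⧸ N)) θ₀ ρ₀ hequiv ((QuotientGroup.mk' N) x) ((QuotientGroup.mk' N) u) hubP n'
    rw [← hXdef] at hnorm
    rw [hw, hc', ← hgeom, hnorm, ← hpowX, LinearMap.sub_apply, Module.End.one_apply, hXdef,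
      ← map_pow, hequiv, sub_eq_zero]
    congr 2
    apply Subtype.ext
    show (QuotientGroup.mk' N) x ^ n' * (((QuotientGroup.mk' N) u * (QuotientGroup.mk' N) x) ^ n' * ((QuotientGroup.mk' N) x ^ n')⁻¹) * ((QuotientGroup.mk' N) x ^ n')⁻¹ =
      ((QuotientGroup.mk' N) u * (QuotientGroup.mk' N) x) ^ n' * ((QuotientGroup.mk' N) x ^ n')⁻¹
    have hc2 := hcomm (u * x) (Subgroup.mul_mem _ huS hxS) x hxS
    rw [← hn'] at hc2
    have hc3 : (QuotientGroup.mk' N) x ^ n' * ((QuotientGroup.mk' N) u * (QuotientGroup.mk' N) x) ^ n' = ((QuotientGroup.mk' N) u * (QuotientGroup.mk' N) x) ^ n' * (QuotientGroup.mk' N) x ^ n' := by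
      rw [← map_mul, ← map_pow, ← map_pow, ← map_mul, ← map_mul, hc2]
    calc (QuotientGroup.mk' N) x ^ n' * (((QuotientGroup.mk' N) u * (QuotientGroup.mk' N) x) ^ n' * ((QuotientGroup.mk' N) x ^ n')⁻¹) * ((QuotientGroup.mk' N) x ^ n')⁻¹
        = ((QuotientGroup.mk' N) x ^ n' * ((QuotientGroup.mk' N) u * (QuotientGroup.mk' N) x) ^ n') * ((QuotientGroup.mk' N) x ^ n')⁻¹ * ((QuotientGroup.mk' N) x ^ n')⁻¹ := by group
      _ = ((QuotientGroup.mk' N) u * (QuotientGroup.mk' N) x) ^ n' * ((QuotientGroup.mk' N) x ^ n')⁻¹ := by rw [hc3]; group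
  haveI : FiniteDimensional (ZMod p) W := Module.Finite.of_finite
  have hB := Cfsg.Agent.Helper3.Shult.hh_B_abs (F := ZMod p) p hsolbb hObb ρb
    (fun g _ h => hρbfaith g h) xbb n hn hxbbpow hybb (2 * p ^ (n - 1) - 1) hs
  obtain ⟨ha1, ha2⟩ := arith_false hp.out hp2 n hn
  rcases hB with h | ⟨n₀, q, m, h1, h2, -, -, -, -, -, h3⟩
  · exact ha1 h
  · exact ha2 n₀ h1 h2 h3

end Cfsg.Agent.Helper3.RPa
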