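import Mathlib
import Cfsg.Agent.Helper3.RPaA

set_option autoImplicit false

/-!
Assembly for the Hall–Higman bounds `l_p ≤ e_p` (non-Fermat `p`, or abelian Sylow 2-subgroups)
and `l_p ≤ 2 e_p` (all odd `p`).
-/

namespace Cfsg.Agent.Helper3.RPa

universe u

open Module
open Cfsg.Agent.Helper3.PLen Cfsg.Agent.Helper3.HHAb

variable {G : Type u} [Group G]

/-- `dab` for all groups and modules over `ZMod p` in one universe -/
def DabHyp (p : ℕ) [Fact p.Prime] : Prop :=
  ∀ (H : Type u) [Group H] [Finite H] (V : Type u) [AddCommGroup V] [Module (ZMod p) V]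
    [Module.Finite (ZMod p) V] (rho : H →* Module.End (ZMod p) V), DabFor p rho

/-- one step up the upper `p`-series through `O_p` -/
theorem pLengthLE_succ_of_quotient_pCore [Finite G] {p : ℕ} [hp : Fact p.Prime]
    (hO : Cfsg.pPrimeCore p G = ⊥) (k : ℕ)
    (h2 : Cfsg.PLengthLE p k (G ⧸ Cfsg.pCore p G)) : Cfsg.PLengthLE p (k + 1) G := by
  have hU2 : U p G 2 = Cfsg.pCore p G := U_two_eq_pCore hO
  have h3 : Cfsg.PLengthLE p k (G ⧸ U p G 2) :=
    pLengthLE_of_mulEquiv p (QuotientGroup.quotientMulEquivOfEq hU2.symm) h2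
  rw [pLengthLE_iff] at h3 ⊢
  have h4 := U_add_even (G := G) p (show Even 2 by decide) (2 * k + 1)
  rw [show 2 * k + 1 + 2 = 2 * (k + 1) + 1 by omega, h3, Subgroup.comap_top] at h4
  exact h4

/-- a `p`-element of a quotient lifts to an element of a Sylow `p`-subgroup -/
theorem exists_sylow_lift [Finite G] {p : ℕ} [hp : Fact p.Prime] {K : Type*} [Group K]
    (f : G →* K) (hf : Function.Surjective f) (z : K) (hz : IsPGroup p (Subgroup.zpowers z)) :
    ∃ (S : Sylow p G) (x : G), x ∈ (S : Subgroup G) ∧ f x = z := by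
  haveI : Finite K := Finite.of_surjective f hf
  obtain ⟨S', hS'⟩ := hz.exists_le_sylow
  obtain ⟨S, rfl⟩ := Sylow.mapSurjective_surjective hf p S'
  have hzS := hS' (Subgroup.mem_zpowers z)
  rw [Sylow.coe_mapSurjective] at hzS
  obtain ⟨x, hx, rfl⟩ := hzS
  exact ⟨S, x, hx, rfl⟩

set_option maxHeartbeats 1000000 in
/-- the exceptional property of `G / O_p(G)` on the Frattini module of `O_p(G)` forced by the
exponent of the Sylow `p`-subgroups -/
theorem exc_of_expLE [Finite G] {p : ℕ} [hp : Fact p.Prime]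
    [hPn : (Cfsg.pCore p G).Normal] (n : ℕ) (hexp : ExpLE p n G)
    {V : Type*} [AddCommGroup V] [Module (ZMod p) V]
    (θ₀ : ↥(Cfsg.pCore p G) →* Multiplicative V) (ρ₀ : G →* Module.End (ZMod p) V)
    (ρb : G ⧸ Cfsg.pCore p G →* Module.End (ZMod p) V)
    (hθsurj : Function.Surjective θ₀)
    (hequiv : ∀ (g : G) (u : ↥(Cfsg.pCore p G)), ρ₀ g (Multiplicative.toAdd (θ₀ u)) =
        Multiplicative.toAdd (θ₀ ⟨g * u * g⁻¹, hPn.conj_mem u u.2 g⟩))
    (hρb : ∀ g : G, ρb (QuotientGroup.mk g) = ρ₀ g)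
    (sb : G ⧸ Cfsg.pCore p G) (hsb : IsPGroup p (Subgroup.zpowers sb)) :
    (ρb sb - 1) ^ (p ^ n - 1) = 0 := by
  classical
  obtain ⟨S, s, hsS, rfl⟩ := exists_sylow_lift (QuotientGroup.mk' (Cfsg.pCore p G))
    (QuotientGroup.mk'_surjective _) sb hsb
  have hX : ρb (QuotientGroup.mk' (Cfsg.pCore p G) s) = ρ₀ s := hρb s
  rw [hX, ← Cfsg.Agent.Helper3.HH.geom_sum_eq_pow (ZMod p) p n (ρ₀ s)]
  apply LinearMap.ext
  intro w
  obtain ⟨c, hc⟩ := hθsurj (Multiplicative.ofAdd w)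
  have hw : w = Multiplicative.toAdd (θ₀ c) := by rw [hc]; rfl
  have hcS : (c : G) ∈ (S : Subgroup G) := Cfsg.Agent.Helper1.pCore_le_sylow S c.2
  obtain ⟨hk, hnorm⟩ := theta_norm (Cfsg.pCore p G) θ₀ ρ₀ hequiv s (c : G) c.2 (p ^ n)
  have hc' : c = ⟨(c : G), c.2⟩ := rfl
  rw [hw, hc', hnorm, LinearMap.zero_apply]
  have h1 : ((c : G) * s) ^ p ^ n = 1 := hexp S _ (Subgroup.mul_mem _ hcS hsS)
  have h2 : s ^ p ^ n = 1 := hexp S _ hsS
  have h3 : (⟨((c : G) * s) ^ p ^ n * (s ^ p ^ n)⁻¹, hk⟩ : ↥(Cfsg.pCore p G)) = 1 := by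
    apply Subtype.ext
    show ((c : G) * s) ^ p ^ n * (s ^ p ^ n)⁻¹ = 1
    rw [h1, h2]; simp
  rw [h3, map_one]
  rfl


/-- no `p`-elements: `p`-length `0` -/
theorem pLengthLE_zero_of_expLE_zero [Finite G] {p : ℕ} [hp : Fact p.Prime]
    (hexp : ExpLE p 0 G) : Cfsg.PLengthLE p 0 G := by
  apply pLengthLE_zero_of_coprime
  obtain ⟨S⟩ : Nonempty (Sylow p G) := inferInstance
  have hS : (S : Subgroup G) = ⊥ := by
    rw [eq_bot_iff]
    intro x hx
    have := hexp S x hx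
    rw [pow_zero, pow_one] at this
    rw [Subgroup.mem_bot]; exact this
  have hcard : Nat.card (S : Subgroup G) = 1 := by rw [hS]; exact Subgroup.card_bot
  have hnd : ¬ p ∣ Nat.card G := by
    intro hd
    have hpos : 0 < (Nat.card G).factorization p :=
      hp.out.factorization_pos_of_dvd Nat.card_pos.ne' hd
    rw [S.card_eq_multiplicity] at hcard
    have : 1 < p ^ (Nat.card G).factorization p := Nat.one_lt_pow hpos.ne' hp.out.one_lt
    omega
  exact ((Nat.Prime.coprime_iff_not_dvd hp.out).2 hnd).symm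

/-- `O_p(G) ≠ 1` in a nontrivial `p`-solvable group with `O_{p'}(G) = 1` -/
theorem pCore_ne_bot [Finite G] [Nontrivial G] {p : ℕ} [hp : Fact p.Prime]
    (hG : Cfsg.IsPSolvable p G) (hO : Cfsg.pPrimeCore p G = ⊥) : Cfsg.pCore p G ≠ ⊥ := by
  intro hbot
  have h1 := Cfsg.Agent.Helper4.centralizer_pCore_le_of_isPSolvable hG hO
  rw [hbot] at h1
  have h2 : (⊤ : Subgroup G) ≤ ⊥ := by
    refine le_trans ?_ h1
    intro g _
    rw [Subgroup.mem_centralizer_iff]
    intro h hh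
    rw [Subgroup.coe_bot, Set.mem_singleton_iff] at hh
    subst hh; simp
  exact bot_ne_top (le_bot_iff.1 h2).symm

theorem card_quotient_lt [Finite G] (P : Subgroup G) [P.Normal] (hP : P ≠ ⊥) :
    Nat.card (G ⧸ P) < Nat.card G := by
  rw [← Subgroup.index_eq_card, ← Subgroup.card_mul_index P]
  have h3 : 1 < Nat.card P := (Subgroup.one_lt_card_iff_ne_bot _).2 hP
  have h4 : 0 < P.index := Nat.pos_of_ne_zero Subgroup.index_ne_zero_of_finite
  nlinarith

set_option maxHeartbeats 1000000 in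
/-- Hall–Higman: `l_p ≤ 2 e_p` for odd `p` (from `dab`) -/
theorem main_b {p : ℕ} [hp : Fact p.Prime] (hp2 : p ≠ 2) (hdab : DabHyp.{u} p) :
    ∀ N : ℕ, ∀ (G : Type u) [Group G] [Finite G],
    Nat.card G = N → Cfsg.IsPSolvable p G → ∀ n : ℕ, ExpLE p n G →
    Cfsg.PLengthLE p (2 * n) G := by
  intro N
  induction N using Nat.strong_induction_on with
  | _ N IH =>
  intro G _ _ hN hG n hexp
  by_cases hO : Cfsg.pPrimeCore p G = ⊥
  · rcases Nat.eq_zero_or_pos n with rfl | hn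
    · exact pLengthLE_zero_of_expLE_zero hexp
    · by_cases hsub : Subsingleton G
      · rw [pLengthLE_iff]; exact Subsingleton.elim _ _
      haveI hnt : Nontrivial G := not_subsingleton_iff_nontrivial.1 hsub
      haveI hPn : (Cfsg.pCore p G).Normal := Cfsg.Agent.Helper4.pCore_normal
      have hPne : Cfsg.pCore p G ≠ ⊥ := pCore_ne_bot hG hO
      obtain ⟨V, instV, instM, instF, θ₀, ρ₀, ρb, hθsurj, hequiv, hρb, hρbfaith⟩ :=
        Cfsg.Agent.Helper1.HHD3.exists_faithful_frattini_rep hG hO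
      haveI : FiniteDimensional (ZMod p) V := Module.Finite.of_finite
      have hsolH : Cfsg.IsPSolvable p (G ⧸ Cfsg.pCore p G) :=
        Cfsg.Agent.Helper4.isPSolvable_quotient hG _
      have hOpH : Cfsg.pCore p (G ⧸ Cfsg.pCore p G) = ⊥ :=
        Cfsg.Agent.Helper3.HHAb.pCore_quotient_pCore p
      have hkey : ∀ xb : G ⧸ Cfsg.pCore p G, IsPGroup p (Subgroup.zpowers xb) →
          xb ^ p ^ (n - 1) ∈ Cfsg.pPrimePCore p (G ⧸ Cfsg.pCore p G) :=
        rprime_of_dab hp2 hsolH hOpH ρb hρbfaith (hdab _ V ρb) n hn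
          (exc_of_expLE n hexp θ₀ ρ₀ ρb hθsurj hequiv hρb)
      -- the three quotients
      obtain ⟨NH, hNH⟩ : ∃ NH : Subgroup (G ⧸ Cfsg.pCore p G),
        NH = Cfsg.pPrimeCore p (G ⧸ Cfsg.pCore p G) := ⟨_, rfl⟩
      haveI hNHn : NH.Normal := by rw [hNH]; exact Cfsg.Agent.Helper1.pPrimeCore_normal p
      have hNHcop : (Nat.card NH).Coprime p := by
        rw [hNH]; exact Cfsg.Agent.Helper1.card_pPrimeCore_coprime p
      have hOb : Cfsg.pPrimeCore p ((G ⧸ Cfsg.pCore p G) ⧸ NH) = ⊥ := by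
        subst hNH
        exact Cfsg.Agent.Helper1.pPrimeCore_quotient_pPrimeCore p
      haveI hPbn : (Cfsg.pCore p ((G ⧸ Cfsg.pCore p G) ⧸ NH)).Normal :=
        Cfsg.Agent.Helper4.pCore_normal
      have hsurj : Function.Surjective
          (((QuotientGroup.mk' (Cfsg.pCore p ((G ⧸ Cfsg.pCore p G) ⧸ NH))).comp
            (QuotientGroup.mk' NH)).comp (QuotientGroup.mk' (Cfsg.pCore p G))) :=
        ((QuotientGroup.mk'_surjective _).comp (QuotientGroup.mk'_surjective _)).comp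
          (QuotientGroup.mk'_surjective _)
      have hcardlt : Nat.card (((G ⧸ Cfsg.pCore p G) ⧸ NH) ⧸
          Cfsg.pCore p ((G ⧸ Cfsg.pCore p G) ⧸ NH)) < N := by
        have h1 : Nat.card (((G ⧸ Cfsg.pCore p G) ⧸ NH) ⧸
            Cfsg.pCore p ((G ⧸ Cfsg.pCore p G) ⧸ NH)) ≤ Nat.card ((G ⧸ Cfsg.pCore p G) ⧸ NH) :=
          Nat.le_of_dvd Nat.card_pos (Subgroup.card_quotient_dvd_card _)
        have h2 : Nat.card ((G ⧸ Cfsg.pCore p G) ⧸ NH) ≤ Nat.card (G ⧸ Cfsg.pCore p G) :=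
          Nat.le_of_dvd Nat.card_pos (Subgroup.card_quotient_dvd_card _)
        have h3 := card_quotient_lt (Cfsg.pCore p G) hPne
        omega
      have hexp' : ExpLE p (n - 1) (((G ⧸ Cfsg.pCore p G) ⧸ NH) ⧸
          Cfsg.pCore p ((G ⧸ Cfsg.pCore p G) ⧸ NH)) := by
        intro S' z hz
        obtain ⟨S, rfl⟩ := Sylow.mapSurjective_surjective hsurj p S'
        rw [Sylow.coe_mapSurjective] at hz
        obtain ⟨x, hx, rfl⟩ := hz
        have hxb : IsPGroup p (Subgroup.zpowers (QuotientGroup.mk' (Cfsg.pCore p G) x)) := by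
          have h1 : Subgroup.zpowers (QuotientGroup.mk' (Cfsg.pCore p G) x) =
              (Subgroup.zpowers x).map (QuotientGroup.mk' (Cfsg.pCore p G)) := by
            rw [MonoidHom.map_zpowers]
          rw [h1]
          exact (S.isPGroup'.to_le (Subgroup.zpowers_le.2 hx)).map _
        have hk := hkey _ hxb
        unfold Cfsg.pPrimePCore at hk
        rw [Subgroup.mem_comap] at hk
        subst hNH
        rw [← map_pow, MonoidHom.comp_apply, MonoidHom.comp_apply, map_pow]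
        exact (QuotientGroup.eq_one_iff _).2 hk
      have h1 : Cfsg.PLengthLE p (2 * (n - 1)) (((G ⧸ Cfsg.pCore p G) ⧸ NH) ⧸
          Cfsg.pCore p ((G ⧸ Cfsg.pCore p G) ⧸ NH)) :=
        IH _ hcardlt _ rfl
          (Cfsg.Agent.Helper4.isPSolvable_quotient
            (Cfsg.Agent.Helper4.isPSolvable_quotient hsolH NH) _) (n - 1) hexp'
      have h2 : Cfsg.PLengthLE p (2 * (n - 1) + 1) ((G ⧸ Cfsg.pCore p G) ⧸ NH) :=
        pLengthLE_succ_of_quotient_pCore hOb _ h1
      have h3 : Cfsg.PLengthLE p (2 * (n - 1) + 1) (G ⧸ Cfsg.pCore p G) :=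
        pLengthLE_of_quotient_coprime p NH hNHcop h2
      have h4 := pLengthLE_succ_of_quotient_pCore hO _ h3
      rw [show 2 * (n - 1) + 1 + 1 = 2 * n by omega] at h4
      exact h4
  · -- remove `O_{p'}(G)`
    haveI : (Cfsg.pPrimeCore p G).Normal := Cfsg.Agent.Helper1.pPrimeCore_normal p
    have hlt : Nat.card (G ⧸ Cfsg.pPrimeCore p G) < N := by
      rw [← hN]; exact card_quotient_lt _ hO
    have h1 : Cfsg.PLengthLE p (2 * n) (G ⧸ Cfsg.pPrimeCore p G) :=
      IH _ hlt (G ⧸ Cfsg.pPrimeCore p G) rfl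
        (Cfsg.Agent.Helper4.isPSolvable_quotient hG _) n
        (expLE_of_surjective _ (QuotientGroup.mk'_surjective _) hexp)
    exact pLengthLE_of_quotient_coprime p _ (Cfsg.Agent.Helper1.card_pPrimeCore_coprime p) h1

end Cfsg.Agent.Helper3.RPa
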