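import Mathlib
import Cfsg.Agent.Helper3.RPaB

set_option autoImplicit false

/-!
Hall–Higman: `l_p ≤ e_p` for odd `p` when `p` is not a Fermat prime or the Sylow `2`-subgroups are
abelian.
-/

namespace Cfsg.Agent.Helper3.RPa

universe u

open Module
open Cfsg.Agent.Helper3.PLen Cfsg.Agent.Helper3.HHAb

variable {G : Type u} [Group G]

/-- `p` is not of the form `2^k + 1`, or the Sylow `2`-subgroups are abelian -/
def NonExc (p : ℕ) (G : Type u) [Group G] : Prop :=
  (¬ ∃ k : ℕ, p = 2 ^ k + 1) ∨ ∀ S : Sylow 2 G, IsMulCommutative (S : Subgroup G)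

theorem nonExc_of_surjective [Finite G] {H : Type u} [Group H] {p : ℕ}
    (f : G →* H) (hf : Function.Surjective f) (h : NonExc p G) : NonExc p H := by
  rcases h with h | h
  · exact Or.inl h
  · right
    haveI : Fact (Nat.Prime 2) := ⟨Nat.prime_two⟩
    intro Q'
    obtain ⟨Q, rfl⟩ := Sylow.mapSurjective_surjective hf 2 Q'
    have hQ := h Q
    refine ⟨⟨?_⟩⟩
    rintro ⟨a, ha⟩ ⟨b, hb⟩
    apply Subtype.ext
    rw [Sylow.coe_mapSurjective] at ha hb
    obtain ⟨a', ha', rfl⟩ := ha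
    obtain ⟨b', hb', rfl⟩ := hb
    have := mul_comm' (⟨a', ha'⟩ : (Q : Subgroup G)) ⟨b', hb'⟩
    have h2 : a' * b' = b' * a' := congrArg Subtype.val this
    show f a' * f b' = f b' * f a'
    rw [← map_mul, ← map_mul, h2]

/-- the exceptional case of Theorem B forces `q = 2` and `p = 2^k + 1` -/
theorem fermat_of_exc {p q n₀ m : ℕ} (hp : p.Prime) (hp2 : p ≠ 2) (hq : q.Prime) (hn₀ : 1 ≤ n₀)
    (hm : 1 ≤ m) (h : p ^ n₀ - 1 = q ^ m) : q = 2 ∧ ∃ k : ℕ, p = 2 ^ k + 1 := by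
  have hpodd : Odd p := hp.odd_of_ne_two hp2
  have hpnodd : Odd (p ^ n₀) := hpodd.pow
  have hpos : 0 < p ^ n₀ := pow_pos hp.pos _
  have heven : Even (q ^ m) := by
    rw [← h]
    obtain ⟨t, ht⟩ := hpnodd
    exact ⟨t, by omega⟩
  have hq2 : q = 2 := by
    have h1 : 2 ∣ q ^ m := even_iff_two_dvd.1 heven
    have h2 : 2 ∣ q := Nat.prime_two.dvd_of_dvd_pow h1
    exact ((Nat.prime_dvd_prime_iff_eq Nat.prime_two hq).1 h2).symm
  refine ⟨hq2, ?_⟩
  subst hq2
  have hdvd : p - 1 ∣ p ^ n₀ - 1 := by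
    have := Nat.sub_dvd_pow_sub_pow (x := p) (y := 1) (n := n₀)
    rwa [one_pow] at this
  rw [h] at hdvd
  obtain ⟨k, -, hk⟩ := (Nat.dvd_prime_pow Nat.prime_two).1 hdvd
  refine ⟨k, ?_⟩
  have := hp.one_lt
  omega

set_option maxHeartbeats 1000000 in
/-- the key step for (a): the exponent drops in `G / O_p(G)` -/
theorem key_a [Finite G] {p : ℕ} [hp : Fact p.Prime] (hp2 : p ≠ 2) (hG : Cfsg.IsPSolvable p G)
    (hO : Cfsg.pPrimeCore p G = ⊥) (hne : NonExc p G) (n : ℕ) (hn : 1 ≤ n) (hexp : ExpLE p n G) :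
    ExpLE p (n - 1) (G ⧸ Cfsg.pCore p G) := by
  classical
  haveI hPn : (Cfsg.pCore p G).Normal := Cfsg.Agent.Helper4.pCore_normal
  obtain ⟨V, instV, instM, instF, θ₀, ρ₀, ρb, hθsurj, hequiv, hρb, hρbfaith⟩ :=
    Cfsg.Agent.Helper1.HHD3.exists_faithful_frattini_rep hG hO
  haveI : FiniteDimensional (ZMod p) V := Module.Finite.of_finite
  have hsolH : Cfsg.IsPSolvable p (G ⧸ Cfsg.pCore p G) :=
    Cfsg.Agent.Helper4.isPSolvable_quotient hG _
  have hOpH : Cfsg.pCore p (G ⧸ Cfsg.pCore p G) = ⊥ :=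
    Cfsg.Agent.Helper3.HHAb.pCore_quotient_pCore p
  have hexpH : ExpLE p n (G ⧸ Cfsg.pCore p G) :=
    expLE_of_surjective _ (QuotientGroup.mk'_surjective _) hexp
  have hneH : NonExc p (G ⧸ Cfsg.pCore p G) :=
    nonExc_of_surjective _ (QuotientGroup.mk'_surjective _) hne
  intro S' z hz
  by_contra hz1
  have hzp : IsPGroup p (Subgroup.zpowers z) := S'.isPGroup'.to_le (Subgroup.zpowers_le.2 hz)
  have hs := exc_of_expLE n hexp θ₀ ρ₀ ρb hθsurj hequiv hρb z hzp
  have hB := Cfsg.Agent.Helper3.Shult.hh_B_abs (F := ZMod p) p hsolH hOpH ρb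
    (fun g _ h => hρbfaith g h) z n hn (hexpH S' z hz) hz1 (p ^ n - 1) hs
  have hpos : 0 < p ^ n := pow_pos hp.out.pos n
  rcases hB with h | ⟨n₀, q, m, h1, -, hq, -, hm, hqm, ⟨S, hSq, g, hg, h', hh', hgh⟩, -⟩
  · omega
  · obtain ⟨hq2, hk⟩ := fermat_of_exc hp.out hp2 hq h1 hm hqm
    subst hq2
    rcases hneH with h | h
    · exact h hk
    · haveI : Fact (Nat.Prime 2) := ⟨Nat.prime_two⟩
      obtain ⟨T, hT⟩ := hSq.exists_le_sylow
      have hc := h T
      have := mul_comm' (⟨g, hT hg⟩ : (T : Subgroup (G ⧸ Cfsg.pCore p G))) ⟨h', hT hh'⟩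
      exact hgh (congrArg Subtype.val this)

/-- Hall–Higman: `l_p ≤ e_p` for odd `p`, `p` not a Fermat prime or abelian Sylow `2`-subgroups -/
theorem main_a {p : ℕ} [hp : Fact p.Prime] (hp2 : p ≠ 2) :
    ∀ N : ℕ, ∀ (G : Type u) [Group G] [Finite G],
    Nat.card G = N → Cfsg.IsPSolvable p G → NonExc p G → ∀ n : ℕ, ExpLE p n G →
    Cfsg.PLengthLE p n G := by
  intro N
  induction N using Nat.strong_induction_on with
  | _ N IH =>
  intro G _ _ hN hG hne n hexp
  by_cases hO : Cfsg.pPrimeCore p G = ⊥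
  · rcases Nat.eq_zero_or_pos n with rfl | hn
    · exact pLengthLE_zero_of_expLE_zero hexp
    · by_cases hsub : Subsingleton G
      · rw [pLengthLE_iff]; exact Subsingleton.elim _ _
      haveI hnt : Nontrivial G := not_subsingleton_iff_nontrivial.1 hsub
      haveI hPn : (Cfsg.pCore p G).Normal := Cfsg.Agent.Helper4.pCore_normal
      have hPne : Cfsg.pCore p G ≠ ⊥ := pCore_ne_bot hG hO
      have hlt : Nat.card (G ⧸ Cfsg.pCore p G) < N := by
        rw [← hN]; exact card_quotient_lt _ hPne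
      have h1 : Cfsg.PLengthLE p (n - 1) (G ⧸ Cfsg.pCore p G) :=
        IH _ hlt _ rfl (Cfsg.Agent.Helper4.isPSolvable_quotient hG _)
          (nonExc_of_surjective _ (QuotientGroup.mk'_surjective _) hne) (n - 1)
          (key_a hp2 hG hO hne n hn hexp)
      have h2 := pLengthLE_succ_of_quotient_pCore hO _ h1
      rw [show n - 1 + 1 = n by omega] at h2
      exact h2
  · haveI : (Cfsg.pPrimeCore p G).Normal := Cfsg.Agent.Helper1.pPrimeCore_normal p
    have hlt : Nat.card (G ⧸ Cfsg.pPrimeCore p G) < N := by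
      rw [← hN]; exact card_quotient_lt _ hO
    have h1 : Cfsg.PLengthLE p n (G ⧸ Cfsg.pPrimeCore p G) :=
      IH _ hlt (G ⧸ Cfsg.pPrimeCore p G) rfl
        (Cfsg.Agent.Helper4.isPSolvable_quotient hG _)
        (nonExc_of_surjective _ (QuotientGroup.mk'_surjective _) hne) n
        (expLE_of_surjective _ (QuotientGroup.mk'_surjective _) hexp)
    exact pLengthLE_of_quotient_coprime p _ (Cfsg.Agent.Helper1.card_pPrimeCore_coprime p) h1

end Cfsg.Agent.Helper3.RPa
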