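import Mathlib
import Cfsg.Prelude.Def_Solvable
import Cfsg.Prelude.Def_KGroupFacts
import Cfsg.Agent.Helper1.AutPlumbing
import Cfsg.Agent.Helper1.Cores
import Cfsg.Agent.Helper1.PGroup

set_option autoImplicit false

/-!
Automorphism groups `A` of a 2-group `H` with `O_2(A) ≤ Inn(H)`: an element of `A` that is not
inner but acts trivially modulo an `A`-invariant subgroup `K` forces `K` to have automorphisms of
odd order, and acts nontrivially on `K` modulo squares.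
-/

namespace Cfsg.Agent.Helper3.RadStab

variable {H : Type*} [Group H]

/-- the elements of `A` acting trivially on `M` modulo `N` -/
def stabSub (A : Subgroup (MulAut H)) (M N : Subgroup H)
    (hM : ∀ β ∈ A, ∀ x ∈ M, (β : MulAut H) x ∈ M) (hN : ∀ β ∈ A, ∀ x ∈ N, (β : MulAut H) x ∈ N) :
    Subgroup A where
  carrier := {β | ∀ x ∈ M, x⁻¹ * (β : MulAut H) x ∈ N}
  one_mem' := by
    intro x _
    simp
  mul_mem' := by
    intro β γ hβ hγ x hx
    have h1 := hγ x hx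
    have h2 := hβ _ (hM γ.1 γ.2 x hx)
    have e : x⁻¹ * ((β * γ : A) : MulAut H) x =
        (x⁻¹ * (γ : MulAut H) x) * (((γ : MulAut H) x)⁻¹ * (β : MulAut H) ((γ : MulAut H) x)) := by
      rw [Subgroup.coe_mul, MulAut.mul_apply]
      group
    rw [e]
    exact N.mul_mem h1 h2
  inv_mem' := by
    intro β hβ x hx
    have hy : ((β⁻¹ : A) : MulAut H) x ∈ M := hM _ (β⁻¹).2 x hx
    have h1 := hβ _ hy
    have e : x⁻¹ * ((β⁻¹ : A) : MulAut H) x =
        ((((β⁻¹ : A) : MulAut H) x)⁻¹ * (β : MulAut H) (((β⁻¹ : A) : MulAut H) x))⁻¹ := by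
      rw [Subgroup.coe_inv, MulAut.apply_inv_self]
      group
    rw [e]
    exact N.inv_mem h1

theorem mem_stabSub (A : Subgroup (MulAut H)) (M N : Subgroup H)
    (hM : ∀ β ∈ A, ∀ x ∈ M, (β : MulAut H) x ∈ M) (hN : ∀ β ∈ A, ∀ x ∈ N, (β : MulAut H) x ∈ N)
    (β : A) : β ∈ stabSub A M N hM hN ↔ ∀ x ∈ M, x⁻¹ * (β : MulAut H) x ∈ N := Iff.rfl

theorem stabSub_normal (A : Subgroup (MulAut H)) (M N : Subgroup H)
    (hM : ∀ β ∈ A, ∀ x ∈ M, (β : MulAut H) x ∈ M) (hN : ∀ β ∈ A, ∀ x ∈ N, (β : MulAut H) x ∈ N) :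
    (stabSub A M N hM hN).Normal := by
  constructor
  intro β hβ g x hx
  have hy : ((g⁻¹ : A) : MulAut H) x ∈ M := hM _ (g⁻¹).2 x hx
  have h1 := hβ _ hy
  have h2 := hN g.1 g.2 _ h1
  have e : x⁻¹ * ((g * β * g⁻¹ : A) : MulAut H) x =
      (g : MulAut H) ((((g⁻¹ : A) : MulAut H) x)⁻¹ * (β : MulAut H) (((g⁻¹ : A) : MulAut H) x)) := by
    rw [Subgroup.coe_mul, Subgroup.coe_mul, MulAut.mul_apply, MulAut.mul_apply, map_mul, map_inv,
      Subgroup.coe_inv, MulAut.apply_inv_self]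
  rw [e]
  exact h2

/-- The coprime-action step. -/
theorem coprime_step (p : ℕ) (ξ : MulAut H) (m : ℕ) (hm : m.Coprime p) (hξ : ξ ^ m = 1) (x q : H)
    (hx : ξ x = x * q) (hq : ξ q = q) (k : ℕ) (hqk : q ^ (p ^ k) = 1) : q = 1 := by
  have hpow : ∀ i : ℕ, (ξ ^ i) x = x * q ^ i := by
    intro i
    induction i with
    | zero => simp
    | succ i ihi =>
      rw [pow_succ', MulAut.mul_apply, ihi, map_mul, map_pow, hq, hx, pow_succ', mul_assoc]
  have h3 := hpow m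
  rw [hξ] at h3
  have hqm : q ^ m = 1 := by
    have : x = x * q ^ m := h3
    exact (mul_eq_left.mp this.symm)
  have hg : q ^ (Nat.gcd m (p ^ k)) = 1 := by
    rw [pow_gcd_eq_one]
    exact ⟨hqm, hqk⟩
  rw [Nat.Coprime.pow_right k hm, pow_one] at hg
  exact hg

/-- restriction of an automorphism to an invariant subgroup -/
def restr (α : MulAut H) (K : Subgroup H) (h1 : ∀ x ∈ K, α x ∈ K) (h2 : ∀ x ∈ K, α⁻¹ x ∈ K) :
    MulAut K where
  toFun x := ⟨α x, h1 x x.2⟩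
  invFun x := ⟨α⁻¹ x, h2 x x.2⟩
  left_inv x := by
    apply Subtype.ext
    simp
  right_inv x := by
    apply Subtype.ext
    simp
  map_mul' x y := by
    apply Subtype.ext
    simp

theorem restr_coe (α : MulAut H) (K : Subgroup H) (h1 : ∀ x ∈ K, α x ∈ K)
    (h2 : ∀ x ∈ K, α⁻¹ x ∈ K) (x : K) : ((restr α K h1 h2 x : K) : H) = α x := rfl

theorem restr_pow_coe (α : MulAut H) (K : Subgroup H) (h1 : ∀ x ∈ K, α x ∈ K)
    (h2 : ∀ x ∈ K, α⁻¹ x ∈ K) (n : ℕ) (x : K) :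
    (((restr α K h1 h2) ^ n) x : H) = (α ^ n) x := by
  induction n generalizing x with
  | zero => simp
  | succ n ih =>
    rw [pow_succ, MulAut.mul_apply, ih, restr_coe, pow_succ, MulAut.mul_apply]

variable [Finite H]

/-- an automorphism of odd order centralizing `K` and `H / K` is trivial -/
theorem eq_one_of_stab (hH : IsPGroup 2 H) (K : Subgroup H) (γ : MulAut H) (m : ℕ)
    (hm : m.Coprime 2) (hγm : γ ^ m = 1) (h1 : ∀ r : H, r⁻¹ * γ r ∈ K) (h2 : ∀ x ∈ K, γ x = x) :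
    γ = 1 := by
  ext r
  rw [MulAut.one_apply]
  obtain ⟨k, hk⟩ := hH (r⁻¹ * γ r)
  have hq := coprime_step 2 γ m hm hγm r (r⁻¹ * γ r) (by group) (h2 _ (h1 r)) k hk
  calc γ r = r * (r⁻¹ * γ r) := by group
    _ = r := by rw [hq, mul_one]

theorem key (hH : IsPGroup 2 H) (A : Subgroup (MulAut H))
    (hcore : (Cfsg.pCore 2 A).map A.subtype ≤ Cfsg.Inn H)
    (K : Subgroup H) (hK : ∀ β ∈ A, ∀ x ∈ K, (β : MulAut H) x ∈ K)
    (τ : MulAut H) (hτA : τ ∈ A) (hτ : ∀ r : H, r⁻¹ * τ r ∈ K) (hτI : τ ∉ Cfsg.Inn H) :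
    ¬ IsPGroup 2 (MulAut K) ∧ ∃ x ∈ K, ∀ h' ∈ K, x⁻¹ * τ x ≠ h' ^ 2 := by
  haveI : Fact (Nat.Prime 2) := ⟨Nat.prime_two⟩
  have hKp : IsPGroup 2 K := hH.to_subgroup K
  have hK' : ∀ β ∈ A, ∀ x ∈ K, (β : MulAut H)⁻¹ x ∈ K := fun β hβ x hx => hK β⁻¹ (A.inv_mem hβ) x hx
  -- the Frattini subgroup of `K`, inside `H`
  have hΦ : ∀ β ∈ A, ∀ x ∈ (frattini K).map K.subtype,
      (β : MulAut H) x ∈ (frattini K).map K.subtype := by
    rintro β hβ _ ⟨f, hf, rfl⟩
    have hchar : (frattini K).Characteristic := inferInstance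
    have h2 := (Subgroup.characteristic_iff_map_eq.1 hchar) (restr β K (hK β hβ) (hK' β hβ))
    have h3 : restr β K (hK β hβ) (hK' β hβ) f ∈ frattini K := by
      rw [← h2]
      exact ⟨f, hf, rfl⟩
    exact ⟨_, h3, rfl⟩
  have hTop : ∀ β ∈ A, ∀ x ∈ (⊤ : Subgroup H), (β : MulAut H) x ∈ (⊤ : Subgroup H) :=
    fun _ _ _ _ => Subgroup.mem_top _
  have hXn := stabSub_normal A ⊤ K hTop hK
  have hX2n := stabSub_normal A K ((frattini K).map K.subtype) hK hΦ
  -- odd order elements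
  have hodd : ∀ γ : MulAut H, γ ∈ A → ∀ m : ℕ, m.Coprime 2 → γ ^ m = 1 →
      (∀ r : H, r⁻¹ * γ r ∈ K) →
      (IsPGroup 2 (MulAut K) ∨ ∀ x ∈ K, x⁻¹ * γ x ∈ (frattini K).map K.subtype) → γ = 1 := by
    intro γ hγA m hm hγm h1 h2
    have hr : (restr γ K (hK γ hγA) (hK' γ hγA)) ^ m = 1 := by
      ext x
      rw [restr_pow_coe, hγm]
      rfl
    have h0 : restr γ K (hK γ hγA) (hK' γ hγA) = 1 := by
      rcases h2 with h2 | h2
      · obtain ⟨k, hk⟩ := h2 (restr γ K (hK γ hγA) (hK' γ hγA))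
        have hg : (restr γ K (hK γ hγA) (hK' γ hγA)) ^ (Nat.gcd m (2 ^ k)) = 1 := by
          rw [pow_gcd_eq_one]
          exact ⟨hr, hk⟩
        rwa [Nat.Coprime.pow_right k hm, pow_one] at hg
      · apply Cfsg.Agent.Helper1.AutPlumbing.eq_one_of_trivial_mod_frattini hKp
        · exact Nat.Coprime.coprime_dvd_left (orderOf_dvd_of_pow_eq_one hr) hm
        · intro x
          obtain ⟨f, hf, hfx⟩ := h2 x x.2
          have : x⁻¹ * restr γ K (hK γ hγA) (hK' γ hγA) x = f := by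
            apply Subtype.ext
            rw [Subgroup.coe_mul, Subgroup.coe_inv, restr_coe]
            exact hfx.symm
          rw [this]
          exact hf
    apply eq_one_of_stab hH K γ m hm hγm h1
    intro x hx
    have := congrArg (fun β : MulAut K => ((β ⟨x, hx⟩ : K) : H)) h0
    simpa [restr_coe] using this
  -- a normal subgroup all of whose odd-order elements are trivial is a 2-group
  have hpg : ∀ (Y : Subgroup A), (∀ β ∈ Y, ∀ m : ℕ, m.Coprime 2 → (β : MulAut H) ^ m = 1 →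
      (β : MulAut H) = 1) → IsPGroup 2 Y := by
    intro Y hY
    rintro ⟨β, hβ⟩
    obtain ⟨s, m, hm, hsm⟩ := Nat.exists_eq_pow_mul_and_not_dvd
      (orderOf_pos (β : MulAut H)).ne' 2 (by norm_num)
    refine ⟨s, ?_⟩
    apply Subtype.ext
    apply Subtype.ext
    show (β : MulAut H) ^ 2 ^ s = 1
    have hord : ((β : MulAut H) ^ 2 ^ s) ^ m = 1 := by
      rw [← pow_mul, ← hsm, pow_orderOf_eq_one]
    have hmc : m.Coprime 2 := ((Nat.Prime.coprime_iff_not_dvd Nat.prime_two).2 hm).symm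
    have := hY (β ^ 2 ^ s) (Y.pow_mem hβ _) m hmc (by
      rw [Subgroup.coe_pow]; exact hord)
    rwa [Subgroup.coe_pow] at this
  have hInn : ∀ (Y : Subgroup A), Y.Normal → IsPGroup 2 Y → (⟨τ, hτA⟩ : A) ∈ Y → False := by
    intro Y hYn hYp hmem
    apply hτI
    apply hcore
    exact ⟨⟨τ, hτA⟩, Cfsg.Agent.Helper1.le_pCore hYn hYp hmem, rfl⟩
  constructor
  · intro hAut
    apply hInn (stabSub A ⊤ K hTop hK) hXn
    · apply hpg
      intro β hβ m hm hβm
      exact hodd β β.2 m hm hβm (fun r => hβ r (Subgroup.mem_top _)) (Or.inl hAut)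
    · intro r _
      exact hτ r
  · by_contra hcon
    push Not at hcon
    apply hInn (stabSub A ⊤ K hTop hK ⊓ stabSub A K ((frattini K).map K.subtype) hK hΦ)
      (Subgroup.normal_inf_normal _ _)
    · apply hpg
      intro β hβ m hm hβm
      exact hodd β β.2 m hm hβm (fun r => hβ.1 r (Subgroup.mem_top _)) (Or.inr hβ.2)
    · refine ⟨fun r _ => hτ r, ?_⟩
      intro x hx
      obtain ⟨h', hh', hx'⟩ := hcon x hx
      show x⁻¹ * τ x ∈ (frattini K).map K.subtype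
      rw [hx']
      refine ⟨(⟨h', hh'⟩ : K) ^ 2, Cfsg.Agent.Helper1.IsPGroup.pow_mem_frattini hKp _, ?_⟩
      simp

end Cfsg.Agent.Helper3.RadStab
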