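import Mathlib
import Cfsg.Agent.Helper3.Basic

/-!
Real elements (helper3): an element conjugate to its inverse whose class has odd size is an
involution or trivial.
-/

set_option autoImplicit false

namespace Cfsg.Agent.Helper3

theorem isConj_inv_inv {G : Type*} [Group G] {x y : G} (h : IsConj x y) : IsConj x⁻¹ y⁻¹ := by
  obtain ⟨c, hc⟩ := isConj_iff.1 h
  refine isConj_iff.2 ⟨c, ?_⟩
  rw [← hc]; group

/-- If `x` is conjugate to its inverse and its class has odd size, then `x ^ 2 = 1`. -/
theorem sq_eq_one_of_real_of_odd_index {G : Type*} [Group G] [Finite G] (x : G)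
    (hx : IsConj x x⁻¹) (hodd : Odd (Subgroup.centralizer ({x} : Set G)).index) : x ^ 2 = 1 := by
  by_contra hne
  have hfin : ({y : G | IsConj x y} : Set G).Finite := Set.toFinite _
  have hcard : hfin.toFinset.card = (Subgroup.centralizer ({x} : Set G)).index := by
    rw [index_centralizer_singleton_eq_card_conj, ← Nat.card_eq_card_finite_toFinset hfin]
    rfl
  have heven : Even hfin.toFinset.card := by
    apply even_card_of_involution hfin.toFinset (fun y => y⁻¹)
    · intro a ha
      rw [Set.Finite.mem_toFinset, Set.mem_setOf_eq] at ha ⊢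
      exact hx.trans (isConj_inv_inv ha)
    · intro a _
      exact inv_inv a
    · intro a ha h
      rw [Set.Finite.mem_toFinset, Set.mem_setOf_eq] at ha
      apply hne
      obtain ⟨c, hc⟩ := isConj_iff.1 ha
      have ha2 : a ^ 2 = 1 := by
        rw [pow_two]
        nth_rewrite 1 [← h]
        exact inv_mul_cancel a
      have hxa : x = c⁻¹ * a * c := by rw [← hc]; group
      rw [hxa, pow_two]
      calc c⁻¹ * a * c * (c⁻¹ * a * c) = c⁻¹ * (a * a) * c := by group
        _ = c⁻¹ * (a ^ 2) * c := by rw [pow_two]
        _ = 1 := by rw [ha2]; group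
  rw [hcard] at heven
  exact (Nat.not_even_iff_odd.2 hodd) heven

end Cfsg.Agent.Helper3
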