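import Mathlib

/-!
Helper lemmas (helper3): redundant Sylow subgroups.  A Sylow `p`-subgroup `Q` of `G` is redundant
when every `p`-element of `G` lies in a Sylow `p`-subgroup other than `Q`.  General criteria, and
invariance under quotients by central subgroups.
-/

set_option autoImplicit false

namespace Cfsg.Agent.Helper3.Red

/-- `G` has a redundant Sylow `p`-subgroup. -/
def Red (p : ℕ) (G : Type*) [Group G] : Prop :=
  ∃ Q : Sylow p G, ∀ x : G, (∃ k : ℕ, orderOf x = p ^ k) → ∃ P : Sylow p G, P ≠ Q ∧ x ∈ P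

variable {G : Type*} [Group G]

theorem not_red_of_forall {p : ℕ}
    (h : ∀ Q : Sylow p G, ∃ x : G, (∃ k : ℕ, orderOf x = p ^ k) ∧ ∀ P : Sylow p G, x ∈ P → P = Q) :
    ¬ Red p G := by
  rintro ⟨Q, hQ⟩
  obtain ⟨x, hx, hu⟩ := h Q
  obtain ⟨P, hne, hxP⟩ := hQ x hx
  exact hne (hu P hxP)

theorem red_of_forall {p : ℕ}
    (h : ∀ x : G, (∃ k : ℕ, orderOf x = p ^ k) →
      ∃ P₁ P₂ : Sylow p G, P₁ ≠ P₂ ∧ x ∈ P₁ ∧ x ∈ P₂) : Red p G := by
  obtain ⟨Q⟩ : Nonempty (Sylow p G) := Sylow.nonempty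
  refine ⟨Q, fun x hx => ?_⟩
  obtain ⟨P₁, P₂, hne, h1, h2⟩ := h x hx
  by_cases hP : P₁ = Q
  · exact ⟨P₂, fun h => hne (hP.trans h.symm), h2⟩
  · exact ⟨P₁, hP, h1⟩

/-- Two Sylow subgroups of a finite group, one contained in the other, are equal. -/
theorem sylow_eq_of_le [Finite G] {p : ℕ} [Fact p.Prime] {P Q : Sylow p G}
    (h : (Q : Subgroup G) ≤ P) : P = Q := by
  apply Sylow.ext
  symm
  apply Subgroup.eq_of_le_of_card_ge h
  rw [Sylow.card_eq_multiplicity, Sylow.card_eq_multiplicity]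

theorem not_red_of_cyclic [Finite G] {p : ℕ} [Fact p.Prime]
    (h : ∀ Q : Sylow p G, IsCyclic (Q : Subgroup G)) : ¬ Red p G := by
  apply not_red_of_forall
  intro Q
  haveI := h Q
  obtain ⟨⟨x, hxQ⟩, hgen⟩ := IsCyclic.exists_generator (α := (Q : Subgroup G))
  refine ⟨x, ?_, fun P hxP => ?_⟩
  · obtain ⟨n, hn⟩ := Q.isPGroup'.exists_card_eq
    refine ⟨n, ?_⟩
    have h1 := orderOf_eq_card_of_forall_mem_zpowers hgen
    rw [Subgroup.orderOf_mk] at h1
    rw [h1]
    exact hn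
  · apply sylow_eq_of_le
    intro y hy
    obtain ⟨k, hk⟩ := Subgroup.mem_zpowers_iff.mp (hgen ⟨y, hy⟩)
    have hk' : x ^ k = y := by
      have := congrArg (fun z : (Q : Subgroup G) => (z : G)) hk
      simpa using this
    rw [← hk']
    exact Subgroup.zpow_mem _ hxP k

/-- `p`-elements lift to `p`-elements along surjective homomorphisms of finite groups. -/
theorem exists_lift {H : Type*} [Group H] [Finite G] (f : G →* H) (hf : Function.Surjective f)
    {p : ℕ} [hp : Fact p.Prime] (y : H) (hy : ∃ k : ℕ, orderOf y = p ^ k) :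
    ∃ x : G, f x = y ∧ ∃ j : ℕ, orderOf x = p ^ j := by
  obtain ⟨k, hk⟩ := hy
  obtain ⟨x₀, rfl⟩ := hf y
  rcases Nat.eq_zero_or_pos k with rfl | hkpos
  · refine ⟨1, ?_, 0, by simp⟩
    rw [pow_zero, orderOf_eq_one_iff] at hk
    rw [map_one, hk]
  have hn0 : orderOf x₀ ≠ 0 := (orderOf_pos x₀).ne'
  obtain ⟨j, b, hb, hjb⟩ := Nat.exists_eq_pow_mul_and_not_dvd hn0 p hp.out.ne_one
  have hcop : Nat.Coprime b (p ^ k) :=
    Nat.Coprime.pow_right k ((Nat.Prime.coprime_iff_not_dvd hp.out).mpr hb).symm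
  have h1 : 1 < p ^ k := Nat.one_lt_pow hkpos.ne' hp.out.one_lt
  obtain ⟨u, -, hu⟩ := Nat.exists_mul_mod_eq_one_of_coprime hcop h1
  refine ⟨x₀ ^ (b * u), ?_, ?_⟩
  · rw [map_pow, ← pow_mod_orderOf, hk, hu, pow_one]
  · have h2 : (x₀ ^ (b * u)) ^ (p ^ j) = 1 := by
      rw [← pow_mul]
      have e : b * u * p ^ j = orderOf x₀ * u := by rw [hjb]; ring
      rw [e, pow_mul, pow_orderOf_eq_one, one_pow]
    obtain ⟨i, -, hi⟩ := (Nat.dvd_prime_pow hp.out).mp (orderOf_dvd_of_pow_eq_one h2)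
    exact ⟨i, hi⟩

/-- A `p`-element whose image modulo a central subgroup lies in the image of a Sylow `p`-subgroup
lies in that Sylow subgroup. -/
theorem mem_of_map_mem [Finite G] {p : ℕ} [hp : Fact p.Prime] (Z : Subgroup G) [Z.Normal]
    (hZ : Z ≤ Subgroup.center G) (P : Sylow p G) (x : G) (hx : ∃ k : ℕ, orderOf x = p ^ k)
    (h : QuotientGroup.mk' Z x ∈ (P : Subgroup G).map (QuotientGroup.mk' Z)) : x ∈ P := by
  obtain ⟨y, hyP, hy⟩ := h
  have hz : y⁻¹ * x ∈ Z := by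
    rw [← QuotientGroup.eq]
    exact hy
  have hzc := hZ hz
  rw [Subgroup.mem_center_iff] at hzc
  obtain ⟨k, hk⟩ := hx
  obtain ⟨a, ha⟩ := P.isPGroup' ⟨y, hyP⟩
  have ha' : y ^ (p ^ a) = 1 := by
    have := congrArg (fun z : (P : Subgroup G) => (z : G)) ha
    simpa using this
  have hcomm : Commute y⁻¹ x := by
    have e : x = y * (y⁻¹ * x) := by group
    have h1 : x * y⁻¹ = y⁻¹ * x := by
      nth_rewrite 1 [e]
      rw [mul_assoc, ← hzc, mul_inv_cancel_left]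
    exact h1.symm
  have hpow : (y⁻¹ * x) ^ (p ^ a * p ^ k) = 1 := by
    rw [hcomm.mul_pow, inv_pow, pow_mul, ha', one_pow, inv_one, one_mul, mul_comm, pow_mul, ← hk,
      pow_orderOf_eq_one, one_pow]
  have hK : IsPGroup p (Subgroup.zpowers (y⁻¹ * x)) := by
    apply IsPGroup.of_card_dvd_pow (n := a + k)
    rw [Nat.card_zpowers, pow_add]
    exact orderOf_dvd_of_pow_eq_one hpow
  have hnorm : (P : Subgroup G) ≤ Subgroup.normalizer (Subgroup.zpowers (y⁻¹ * x) : Set G) := by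
    intro g _
    rw [Subgroup.mem_normalizer_iff]
    intro n
    have hn : ∀ n : G, n ∈ Subgroup.zpowers (y⁻¹ * x) → g * n * g⁻¹ = n := by
      intro n hn
      obtain ⟨i, rfl⟩ := Subgroup.mem_zpowers_iff.mp hn
      have hc : (y⁻¹ * x) ^ i ∈ Subgroup.center G := Subgroup.zpow_mem _ (hZ hz) i
      rw [Subgroup.mem_center_iff] at hc
      rw [hc g, mul_inv_cancel_right]
    constructor
    · intro h
      rw [hn n h]; exact h
    · intro h
      have h2 := hn _ h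
      have e : n = g⁻¹ * (g * n * g⁻¹) * g := by group
      have h3 : g⁻¹ * (g * n * g⁻¹) * g = g * n * g⁻¹ := by
        have hc : g * n * g⁻¹ ∈ Subgroup.center G := by
          obtain ⟨i, hi⟩ := Subgroup.mem_zpowers_iff.mp h
          rw [← hi]
          exact Subgroup.zpow_mem _ (hZ hz) i
        rw [Subgroup.mem_center_iff] at hc
        rw [mul_assoc, ← hc g, inv_mul_cancel_left]
      rw [e, h3]
      exact h
  have hsup := P.isPGroup'.to_sup_of_normal_right' hK hnorm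
  have hmax := P.is_maximal' hsup le_sup_left
  have hzP : y⁻¹ * x ∈ (P : Subgroup G) := by
    rw [← hmax]
    exact Subgroup.mem_sup_right (Subgroup.mem_zpowers _)
  have e : x = y * (y⁻¹ * x) := by group
  rw [e]
  exact Subgroup.mul_mem _ hyP hzP

/-- Redundancy of Sylow subgroups is invariant under central quotients. -/
theorem red_quotient_iff [Finite G] {p : ℕ} [hp : Fact p.Prime] (Z : Subgroup G) [Z.Normal]
    (hZ : Z ≤ Subgroup.center G) : Red p G ↔ Red p (G ⧸ Z) := by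
  have hsurj : Function.Surjective (QuotientGroup.mk' Z) := QuotientGroup.mk'_surjective Z
  have pelt : ∀ x : G, (∃ k : ℕ, orderOf x = p ^ k) →
      ∃ k : ℕ, orderOf (QuotientGroup.mk' Z x) = p ^ k := by
    rintro x ⟨k, hk⟩
    have h1 : orderOf (QuotientGroup.mk' Z x) ∣ p ^ k := by
      rw [← hk]
      exact orderOf_map_dvd _ x
    obtain ⟨i, -, hi⟩ := (Nat.dvd_prime_pow hp.out).mp h1
    exact ⟨i, hi⟩
  constructor
  · rintro ⟨Q, hQ⟩
    refine ⟨Q.mapSurjective hsurj, fun y hy => ?_⟩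
    obtain ⟨x, rfl, hx⟩ := exists_lift (QuotientGroup.mk' Z) hsurj y hy
    obtain ⟨P, hne, hxP⟩ := hQ x hx
    refine ⟨P.mapSurjective hsurj, fun heq => hne ?_, ⟨x, hxP, rfl⟩⟩
    apply sylow_eq_of_le
    intro g hg
    -- `g` is a `p`-element of `Q`
    obtain ⟨a, ha⟩ := Q.isPGroup' ⟨g, hg⟩
    have ha' : g ^ (p ^ a) = 1 := by
      have := congrArg (fun z : (Q : Subgroup G) => (z : G)) ha
      simpa using this
    obtain ⟨i, -, hi⟩ := (Nat.dvd_prime_pow hp.out).mp (orderOf_dvd_of_pow_eq_one ha')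
    apply mem_of_map_mem Z hZ P g ⟨i, hi⟩
    have h1 : QuotientGroup.mk' Z g ∈ (Q.mapSurjective hsurj : Sylow p (G ⧸ Z)) := ⟨g, hg, rfl⟩
    rw [← heq] at h1
    exact h1
  · rintro ⟨Qb, hQb⟩
    obtain ⟨Q, rfl⟩ := Sylow.mapSurjective_surjective hsurj p Qb
    refine ⟨Q, fun x hx => ?_⟩
    obtain ⟨Pb, hne, hxPb⟩ := hQb (QuotientGroup.mk' Z x) (pelt x hx)
    obtain ⟨P, rfl⟩ := Sylow.mapSurjective_surjective hsurj p Pb
    refine ⟨P, fun heq => hne (by rw [heq]), ?_⟩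
    exact mem_of_map_mem Z hZ P x hx hxPb

end Cfsg.Agent.Helper3.Red
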