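import Mathlib
import Cfsg.Agent.Helper3.RedA
import Cfsg.Agent.Helper8.SL2SylTwo

/-!
Helper lemmas (helper3): redundant Sylow `2`-subgroups of `SL₂(q)`, `q` odd, from the torus setup of
helper8.
-/

set_option autoImplicit false

namespace Cfsg.Agent.Helper3.Red

open Cfsg.Agent.Helper8.SylTwoTorus

section general

variable {G : Type*} [Group G]

theorem mem_smul_iff {p : ℕ} (P : Sylow p G) (g x : G) :
    x ∈ (g • P : Sylow p G) ↔ g⁻¹ * x * g ∈ P := by
  change x ∈ ((g • P : Sylow p G) : Subgroup G) ↔ _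
  rw [Sylow.coe_subgroup_smul, Subgroup.mem_pointwise_smul_iff_inv_smul_mem,
    MulAut.smul_def, MulAut.conj_inv_apply]
  rfl

variable [Finite G] {T : Subgroup G} {S : Sylow 2 G} {a₀ : G} {k m : ℕ}

/-- If the torus has nontrivial odd part, `a₀` lies in a second Sylow `2`-subgroup. -/
theorem exists_second (h : Setup T S a₀ k m) (hm : 1 < m) :
    ∃ S₁ : Sylow 2 G, S₁ ≠ S ∧ a₀ ∈ S₁ := by
  obtain ⟨r, hr, hrm⟩ := Nat.exists_prime_and_dvd (show m ≠ 1 by omega)
  have : Fact r.Prime := ⟨hr⟩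
  have hr2 : r ≠ 2 := by
    rintro rfl
    exact (Nat.not_even_iff_odd.mpr h.oddm) (even_iff_two_dvd.mpr hrm)
  have hrT : r ∣ Nat.card T := by
    rw [h.cardT]
    exact hrm.mul_left _
  obtain ⟨t, ht⟩ := exists_prime_orderOf_dvd_card' r hrT
  refine ⟨(t : G) • S, fun heq => ?_, ?_⟩
  · have hN : (t : G) ∈ Subgroup.normalizer ((S : Subgroup G) : Set G) :=
      Sylow.smul_eq_iff_mem_normalizer.mp heq
    have hS : (t : G) ∈ (S : Subgroup G) := h.claim_T hN t.2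
    obtain ⟨j, hj⟩ := S.isPGroup' ⟨(t : G), hS⟩
    have hj' : (t : G) ^ 2 ^ j = 1 := by
      have := congrArg (fun z : (S : Subgroup G) => (z : G)) hj
      simpa using this
    have hd : orderOf (t : G) ∣ 2 ^ j := orderOf_dvd_of_pow_eq_one hj'
    rw [Subgroup.orderOf_coe, ht] at hd
    exact hr2 ((Nat.prime_dvd_prime_iff_eq hr Nat.prime_two).mp (hr.dvd_of_dvd_pow hd))
  · rw [mem_smul_iff]
    have e : (t : G)⁻¹ * a₀ * t = a₀ := by
      rw [mul_assoc, h.comm a₀ h.memT t t.2, inv_mul_cancel_left]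
    rw [e]
    exact h.memS

/-- If the torus is a `2`-group, `S` is the only Sylow `2`-subgroup containing `a₀`. -/
theorem eq_of_mem (h : Setup T S a₀ k 1) (P : Sylow 2 G) (haP : a₀ ∈ P) : P = S := by
  have hT : Subgroup.zpowers a₀ = T :=
    Subgroup.eq_of_le_of_card_ge h.zpowers_le_T (by rw [h.cardT, h.card_zpowers, mul_one])
  have h' : Setup T P a₀ k 1 :=
    { h with
      memS := haP
      cardS := by
        have h1 : Nat.card (P : Subgroup G) = Nat.card (S : Subgroup G) := by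
          rw [Sylow.card_eq_multiplicity, Sylow.card_eq_multiplicity]
        exact h1.trans h.cardS }
  apply sylow_eq_of_le
  intro s hs
  by_cases hsT : s ∈ T
  · exact h'.zpowers_le (by rw [hT]; exact hsT)
  · obtain ⟨p₀, hp₀, hn⟩ := h'.exists_not_mem
    have hp₀' : p₀⁻¹ ∈ (P : Subgroup G) := Subgroup.inv_mem _ hp₀
    have hn' : p₀⁻¹ ∉ T := fun x => hn (by simpa using Subgroup.inv_mem _ x)
    have e1 := h'.invS hp₀' hn' h.memT
    rw [inv_inv] at e1
    have e2 := h.invS hs hsT (Subgroup.inv_mem _ h.memT)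
    rw [inv_inv] at e2
    have hc : (s * p₀⁻¹) * a₀ = a₀ * (s * p₀⁻¹) := by
      have e3 : (s * p₀⁻¹) * a₀ = s * (p₀⁻¹ * a₀ * p₀) * s⁻¹ * (s * p₀⁻¹) := by group
      rw [e3, e1, e2]
    have hT' : s * p₀⁻¹ ∈ T := h.cent a₀ h.memT h.sq_ne_one _ hc
    have hP : s * p₀⁻¹ ∈ (P : Subgroup G) := h'.zpowers_le (by rw [hT]; exact hT')
    have := Subgroup.mul_mem _ hP hp₀
    rwa [inv_mul_cancel_right] at this

/-- From the base Sylow subgroup to all `p`-elements. -/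
theorem two_of_base {p : ℕ} [Fact p.Prime] (S : Sylow p G)
    (h : ∀ x ∈ S, ∃ P₁ P₂ : Sylow p G, P₁ ≠ P₂ ∧ x ∈ P₁ ∧ x ∈ P₂) (x : G)
    (hx : ∃ k : ℕ, orderOf x = p ^ k) : ∃ P₁ P₂ : Sylow p G, P₁ ≠ P₂ ∧ x ∈ P₁ ∧ x ∈ P₂ := by
  obtain ⟨k, hk⟩ := hx
  have hpg : IsPGroup p (Subgroup.zpowers x) :=
    IsPGroup.of_card (n := k) (by rw [Nat.card_zpowers, hk])
  obtain ⟨P, hP⟩ := hpg.exists_le_sylow
  obtain ⟨c, hc⟩ := MulAction.exists_smul_eq G S P
  have hxP : x ∈ (c • S : Sylow p G) := by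
    rw [hc]; exact hP (Subgroup.mem_zpowers x)
  rw [mem_smul_iff] at hxP
  obtain ⟨P₁, P₂, hne, h1, h2⟩ := h _ hxP
  refine ⟨c • P₁, c • P₂, fun heq => hne (MulAction.injective c heq), ?_, ?_⟩
  · rw [mem_smul_iff]; exact h1
  · rw [mem_smul_iff]; exact h2

/-- From the base Sylow subgroup to all Sylow subgroups. -/
theorem uniq_of_base {p : ℕ} [Fact p.Prime] (S : Sylow p G) (a₀ : G)
    (ha : ∃ k : ℕ, orderOf a₀ = p ^ k) (h : ∀ P : Sylow p G, a₀ ∈ P → P = S) (Q : Sylow p G) :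
    ∃ x : G, (∃ k : ℕ, orderOf x = p ^ k) ∧ ∀ P : Sylow p G, x ∈ P → P = Q := by
  obtain ⟨c, hc⟩ := MulAction.exists_smul_eq G S Q
  refine ⟨c * a₀ * c⁻¹, ?_, fun P hP => ?_⟩
  · obtain ⟨k, hk⟩ := ha
    refine ⟨k, ?_⟩
    rw [← hk]
    have := orderOf_injective (MulAut.conj c).toMonoidHom (MulAut.conj c).injective a₀
    simpa using this
  · have h1 : a₀ ∈ (c⁻¹ • P : Sylow p G) := by
      rw [mem_smul_iff, inv_inv]; exact hP
    have h2 := h _ h1
    rw [← hc, ← h2, smul_inv_smul]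

end general

section SL2

open Matrix Cfsg.Agent.Helper7.SL2 Cfsg.Agent.Helper8.SL2C Cfsg.Agent.Helper8

variable {F : Type*} [Field F] [Fintype F]

/-- The torus setup of helper8 (extracted from `sylow_two_of_torus`). -/
theorem exists_setup (h2 : (2 : F) ≠ 0) (T : Subgroup (SpecialLinearGroup (Fin 2) F))
    (hT : IsCyclic T) (n r : ℕ) (hn : Nat.card T = n) (h4 : 4 ∣ n) (hr : Odd r)
    (hG : Nat.card (SpecialLinearGroup (Fin 2) F) = 2 * n * r)
    (comm : ∀ a ∈ T, ∀ b ∈ T, a * b = b * a)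
    (cent : ∀ a ∈ T, a * a ≠ 1 → ∀ g : SpecialLinearGroup (Fin 2) F, g * a = a * g → g ∈ T)
    (inv : ∀ g ∈ Subgroup.normalizer (T : Set (SpecialLinearGroup (Fin 2) F)), g ∉ T →
      ∀ a ∈ T, g * a * g⁻¹ = a⁻¹) :
    ∃ (S₀ : Sylow 2 (SpecialLinearGroup (Fin 2) F)) (a₀ : SpecialLinearGroup (Fin 2) F) (k m : ℕ),
      Setup T S₀ a₀ k m ∧ n = 2 ^ k * m := by
  classical
  haveI := hT
  have hn0 : n ≠ 0 := by
    rw [← hn]; exact Nat.card_pos.ne'
  obtain ⟨k, m, hm, hnk⟩ := Nat.exists_eq_two_pow_mul_odd hn0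
  have hm0 : m ≠ 0 := by
    rintro rfl
    exact (Nat.not_odd_iff_even.mpr (by decide : Even 0)) hm
  have hcop : ∀ j : ℕ, Nat.Coprime (2 ^ j) m := fun j =>
    Nat.Coprime.pow_left j hm.coprime_two_left
  have hdvd_iff : ∀ j : ℕ, 2 ^ j ∣ n ↔ j ≤ k := by
    intro j
    rw [hnk]
    constructor
    · intro hd
      have := (hcop j).dvd_of_dvd_mul_right hd
      exact (Nat.pow_dvd_pow_iff_le_right (by norm_num)).mp this
    · intro hj
      exact Dvd.dvd.mul_right (pow_dvd_pow 2 hj) m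
  have hk : 2 ≤ k := (hdvd_iff 2).mp (by simpa using h4)
  obtain ⟨t₀, ht₀⟩ := IsCyclic.exists_ofOrder_eq_natCard (α := T)
  have hord : orderOf (((t₀ ^ m : T)) : SpecialLinearGroup (Fin 2) F) = 2 ^ k := by
    rw [Subgroup.orderOf_coe, orderOf_pow_of_dvd hm0 (by rw [ht₀, hn, hnk]; exact Dvd.intro_left _ rfl),
      ht₀, hn, hnk, Nat.mul_div_cancel _ (Nat.pos_of_ne_zero hm0)]
  set a₀ : SpecialLinearGroup (Fin 2) F := ((t₀ ^ m : T) : SpecialLinearGroup (Fin 2) F) with ha₀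
  have hpg : IsPGroup 2 (Subgroup.zpowers a₀) :=
    IsPGroup.of_card (n := k) (by rw [Nat.card_zpowers, hord])
  obtain ⟨S₀, hS₀⟩ := hpg.exists_le_sylow
  have hcardS₀ : Nat.card S₀ = 2 ^ (k + 1) := by
    rw [S₀.card_eq_multiplicity, hG, hnk]
    congr 1
    have e : 2 * (2 ^ k * m) * r = 2 ^ (k + 1) * (m * r) := by ring
    have hr0 : r ≠ 0 := by
      rintro rfl
      exact (Nat.not_odd_iff_even.mpr (by decide : Even 0)) hr
    have hmr : ¬ 2 ∣ m * r := by
      rw [Nat.Prime.dvd_mul Nat.prime_two]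
      rintro (h | h)
      · exact (Nat.not_even_iff_odd.mpr hm) (even_iff_two_dvd.mpr h)
      · exact (Nat.not_even_iff_odd.mpr hr) (even_iff_two_dvd.mpr h)
    rw [e, Nat.factorization_mul (by positivity) (Nat.mul_ne_zero hm0 hr0), Finsupp.add_apply,
      Nat.factorization_eq_zero_of_not_dvd hmr, add_zero, Nat.Prime.factorization_pow Nat.prime_two,
      Finsupp.single_eq_same]
  have hsetup : Setup T S₀ a₀ k m :=
    { comm := comm
      cent := cent
      inv := inv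
      central := by
        intro c _ hcc
        rw [mem_center_iff']
        exact eq_one_or_neg_one_of_sq h2 hcc
      cardT := by rw [hn, hnk]
      oddm := hm
      cardS := hcardS₀
      hk := hk
      memT := (t₀ ^ m : T).2
      memS := hS₀ (Subgroup.mem_zpowers a₀)
      ord := hord }
  exact ⟨S₀, a₀, k, m, hsetup, hnk⟩

/-- An element of `S \ T` is conjugate to the element of order four of `T ∩ S`. -/
theorem exists_conj_four (h2 : (2 : F) ≠ 0) {T : Subgroup (SpecialLinearGroup (Fin 2) F)}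
    {S : Sylow 2 (SpecialLinearGroup (Fin 2) F)} {a₀ : SpecialLinearGroup (Fin 2) F} {k m : ℕ}
    (h : Setup T S a₀ k m) {s : SpecialLinearGroup (Fin 2) F} (hs : s ∈ S) (hn : s ∉ T) :
    ∃ g : SpecialLinearGroup (Fin 2) F, g * a₀ ^ 2 ^ (k - 2) * g⁻¹ = s := by
  have hk := h.hk
  set b₀ := a₀ ^ 2 ^ (k - 2) with hb₀
  have hbT : b₀ ∈ T := Subgroup.pow_mem _ h.memT _
  have hord4 : orderOf b₀ = 4 := by
    rw [hb₀, orderOf_pow_of_dvd (by positivity) (by rw [h.ord]; exact pow_dvd_pow 2 (by omega)),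
      h.ord, Nat.pow_div (by omega) (by norm_num)]
    have : k - (k - 2) = 2 := by omega
    rw [this]
  have hb : b₀ * b₀ = -1 := sq_eq_neg_one_of_order_four h2 hord4
  have hsq : s * s ∈ T := h.zpowers_le_T (h.sq_mem hs)
  have e1 := h.invS hs hn hsq
  have e2 : s * (s * s) * s⁻¹ = s * s := by group
  rw [e2] at e1
  have e3 : (s * s) * (s * s) = 1 := by
    nth_rewrite 2 [e1]
    exact mul_inv_cancel _
  have hss : s * s = -1 := by
    rcases eq_one_or_neg_one_of_sq h2 e3 with h1 | h1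
    · exfalso
      rcases eq_one_or_neg_one_of_sq h2 h1 with h0 | h0
      · apply hn; rw [h0]; exact T.one_mem
      · apply hn; rw [h0, ← hb]; exact T.mul_mem hbT hbT
    · exact h1
  have hinv : b₀⁻¹ = -b₀ := by
    apply inv_eq_of_mul_eq_one_right
    rw [mul_neg', hb, neg_neg]
  have e4 := h.invS hs hn hbT
  have hxy : s * b₀ = -(b₀ * s) := by
    have : s * b₀ = (s * b₀ * s⁻¹) * s := by group
    rw [this, e4, hinv, neg_mul']
  obtain ⟨g, hg1, -⟩ := exists_conj_quat h2 hb hss hxy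
  exact ⟨g, hg1⟩

/-- Redundancy of the Sylow `2`-subgroups of `SL₂(F)` in terms of the order of a torus. -/
theorem sl2_two (h2 : (2 : F) ≠ 0) (T : Subgroup (SpecialLinearGroup (Fin 2) F))
    (hT : IsCyclic T) (n r : ℕ) (hn : Nat.card T = n) (h4 : 4 ∣ n) (hr : Odd r)
    (hG : Nat.card (SpecialLinearGroup (Fin 2) F) = 2 * n * r)
    (comm : ∀ a ∈ T, ∀ b ∈ T, a * b = b * a)
    (cent : ∀ a ∈ T, a * a ≠ 1 → ∀ g : SpecialLinearGroup (Fin 2) F, g * a = a * g → g ∈ T)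
    (inv : ∀ g ∈ Subgroup.normalizer (T : Set (SpecialLinearGroup (Fin 2) F)), g ∉ T →
      ∀ a ∈ T, g * a * g⁻¹ = a⁻¹) :
    Red 2 (SpecialLinearGroup (Fin 2) F) ↔ ¬ ∃ j : ℕ, n = 2 ^ j := by
  obtain ⟨S, a₀, k, m, h, hnk⟩ := exists_setup h2 T hT n r hn h4 hr hG comm cent inv
  have hm0 : m ≠ 0 := by
    rintro rfl
    exact (Nat.not_odd_iff_even.mpr (by decide : Even 0)) h.oddm
  by_cases hm : m = 1
  · subst hm
    have hex : ∃ j : ℕ, n = 2 ^ j := ⟨k, by rw [hnk, mul_one]⟩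
    refine ⟨fun hred => absurd hred ?_, fun hcon => absurd hex hcon⟩
    apply not_red_of_forall
    exact uniq_of_base S a₀ ⟨k, h.ord⟩ (fun P hP => eq_of_mem h P hP)
  · have hm1 : 1 < m := by omega
    have hnex : ¬ ∃ j : ℕ, n = 2 ^ j := by
      rintro ⟨j, hj⟩
      have hdm : m ∣ 2 ^ j := ⟨2 ^ k, by rw [← hj, hnk]; ring⟩
      obtain ⟨i, -, hi⟩ := (Nat.dvd_prime_pow Nat.prime_two).mp hdm
      rcases Nat.eq_zero_or_pos i with rfl | hipos
      · rw [pow_zero] at hi; exact hm hi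
      · have : Even m := by
          rw [hi]; exact (Nat.even_pow.mpr ⟨even_two, hipos.ne'⟩)
        exact (Nat.not_even_iff_odd.mpr h.oddm) this
    refine ⟨fun _ => hnex, fun _ => ?_⟩
    apply red_of_forall
    apply two_of_base S
    intro x hxS
    obtain ⟨S₁, hne, ha₁⟩ := exists_second h hm1
    by_cases hxT : x ∈ T
    · have hxz : x ∈ Subgroup.zpowers a₀ := (h.mem_zpowers_iff hxS).mpr hxT
      refine ⟨S₁, S, hne, ?_, hxS⟩
      have hle : Subgroup.zpowers a₀ ≤ (S₁ : Subgroup _) := by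
        rw [Subgroup.zpowers_le]; exact ha₁
      exact hle hxz
    · obtain ⟨g, hg⟩ := exists_conj_four h2 h hxS hxT
      refine ⟨g • S₁, g • S, fun heq => hne (MulAction.injective g heq), ?_, ?_⟩
      · rw [mem_smul_iff, ← hg]
        have e : g⁻¹ * (g * a₀ ^ 2 ^ (k - 2) * g⁻¹) * g = a₀ ^ 2 ^ (k - 2) := by group
        rw [e]
        exact Subgroup.pow_mem _ ha₁ _
      · rw [mem_smul_iff, ← hg]
        have e : g⁻¹ * (g * a₀ ^ 2 ^ (k - 2) * g⁻¹) * g = a₀ ^ 2 ^ (k - 2) := by group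
        rw [e]
        exact Subgroup.pow_mem _ h.memS _

end SL2

end Cfsg.Agent.Helper3.Red
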