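import Mathlib
import Cfsg.Agent.Helper4.TwoClassA
import Cfsg.Agent.Helper4.ItoTwoA
import Cfsg.Agent.Helper3.AmbivA
import Cfsg.Agent.Lead.StabCount
import Cfsg.Agent.S4134

set_option autoImplicit false

/-!
General lemmas for the relative version of Itô's theorem on two class sizes
(normal subgroups with two `G`-class sizes containing a noncentral Sylow subgroup).
-/

namespace Cfsg.Agent.Helper3.RelIto

open Subgroup
open Cfsg.Agent.Helper4.TwoClass

variable {G : Type*} [Group G]

/-- `|H| * |K : H| = |K|` for `H ≤ K`. -/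
theorem card_mul_relIndex {H K : Subgroup G} (h : H ≤ K) :
    Nat.card H * H.relIndex K = Nat.card K := by
  have h1 := (H.subgroupOf K).card_mul_index
  rw [Nat.card_congr (subgroupOfEquivOfLe h).toEquiv] at h1
  exact h1

/-- product formula as an inequality -/
theorem card_mul_card_le [Finite G] {A B P : Subgroup G} (hA : A ≤ P) (hB : B ≤ P) :
    Nat.card A * Nat.card B ≤ Nat.card (A ⊓ B : Subgroup G) * Nat.card P := by
  have h1 := card_mul_relIndex hA
  have h2 := card_mul_relIndex hB
  have h3 := card_mul_relIndex (inf_le_left.trans hA : A ⊓ B ≤ P)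
  have h4 : (A ⊓ B).relIndex P ≤ A.relIndex P * B.relIndex P := relIndex_inf_le
  have hpos : 0 < (A ⊓ B).relIndex P := by
    rcases Nat.eq_zero_or_pos ((A ⊓ B).relIndex P) with h0 | h0
    · rw [h0, mul_zero] at h3
      exact absurd h3.symm Nat.card_pos.ne'
    · exact h0
  have h5 : Nat.card A * Nat.card B * (A ⊓ B).relIndex P ≤
      Nat.card (A ⊓ B : Subgroup G) * Nat.card P * (A ⊓ B).relIndex P := by
    calc Nat.card A * Nat.card B * (A ⊓ B).relIndex P
        ≤ Nat.card A * Nat.card B * (A.relIndex P * B.relIndex P) := Nat.mul_le_mul_left _ h4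
      _ = (Nat.card A * A.relIndex P) * (Nat.card B * B.relIndex P) := by ring
      _ = Nat.card P * Nat.card P := by rw [h1, h2]
      _ = (Nat.card (A ⊓ B : Subgroup G) * (A ⊓ B).relIndex P) * Nat.card P := by rw [h3]
      _ = Nat.card (A ⊓ B : Subgroup G) * Nat.card P * (A ⊓ B).relIndex P := by ring
  exact Nat.le_of_mul_le_mul_right h5 hpos

/-- conjugation action of a subgroup with constant stabilizer on an invariant set -/
theorem card_dvd_of_conj_stab [Finite G] (Y Y0 : Subgroup G) (T : Set G)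
    (hT : ∀ y ∈ Y, ∀ t ∈ T, y * t * y⁻¹ ∈ T)
    (hst : ∀ t ∈ T, ∀ y ∈ Y, (y * t = t * y ↔ y ∈ Y0)) :
    Nat.card Y ∣ Nat.card T * Nat.card (Y0 ⊓ Y : Subgroup G) := by
  letI : MulAction ↥Y ↥T :=
    { smul := fun y t => ⟨y.1 * t.1 * y.1⁻¹, hT y.1 y.2 t.1 t.2⟩
      one_smul := fun t => Subtype.ext (by
        show ((1 : ↥Y) : G) * t.1 * ((1 : ↥Y) : G)⁻¹ = t.1
        rw [Subgroup.coe_one]; group)
      mul_smul := fun a b t => Subtype.ext (by
        show ((a * b : ↥Y) : G) * t.1 * ((a * b : ↥Y) : G)⁻¹ = a.1 * (b.1 * t.1 * b.1⁻¹) * a.1⁻¹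
        rw [Subgroup.coe_mul]; group) }
  apply Cfsg.Agent.Lead.StabCount.card_dvd_of_stabilizer_card
  intro t
  have h1 : MulAction.stabilizer ↥Y t = (Y0 ⊓ Y).subgroupOf Y := by
    ext y
    rw [MulAction.mem_stabilizer_iff, mem_subgroupOf, mem_inf]
    have h2 : y • t = t ↔ y.1 * t.1 * y.1⁻¹ = t.1 := by
      rw [← Subtype.coe_inj]; rfl
    rw [h2, mul_inv_eq_iff_eq_mul, hst t.1 t.2 y.1 y.2]
    exact ⟨fun h => ⟨h, y.2⟩, fun h => h.1⟩
  rw [h1]
  exact Nat.card_congr (subgroupOfEquivOfLe inf_le_right).toEquiv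

/-- normalizers grow in `p`-groups -/
theorem exists_mem_normalizer_not_mem [Finite G] {p : ℕ} [Fact p.Prime] {P S : Subgroup G}
    (hP : IsPGroup p P) (hS : S ≤ P) (hne : S ≠ P) :
    ∃ h ∈ P, h ∈ normalizer (S : Set G) ∧ h ∉ S := by
  haveI : Group.IsNilpotent ↥P := hP.isNilpotent
  have hlt : S.subgroupOf P < ⊤ := by
    rw [lt_top_iff_ne_top, Ne, subgroupOf_eq_top]
    intro h
    exact hne (le_antisymm hS h)
  have h1 := Group.normalizerCondition_of_isNilpotent (G := ↥P) (S.subgroupOf P) hlt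
  obtain ⟨h, hh1, hh2⟩ := SetLike.exists_of_lt h1
  refine ⟨h.1, h.2, ?_, ?_⟩
  · rw [← subgroupOf_normalizer_eq hS, mem_subgroupOf] at hh1
    exact hh1
  · rw [mem_subgroupOf] at hh2
    exact hh2

/-- a `p`-subgroup of `H` is at most as large as a Sylow `p`-subgroup of `H` -/
theorem card_le_card_sylow [Finite G] {p : ℕ} [Fact p.Prime] (H : Subgroup G) (S : Sylow p ↥H)
    {X : Subgroup G} (hX : X ≤ H) (hXp : IsPGroup p X) : Nat.card X ≤ Nat.card S := by
  have h1 : IsPGroup p (X.subgroupOf H) :=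
    hXp.of_equiv (subgroupOfEquivOfLe hX).symm
  obtain ⟨S2, hS2⟩ := h1.exists_le_sylow
  have h2 : Nat.card (X.subgroupOf H) ≤ Nat.card S2 :=
    Nat.le_of_dvd Nat.card_pos (card_dvd_of_le hS2)
  rw [Nat.card_congr (subgroupOfEquivOfLe hX).toEquiv] at h2
  rw [S.card_eq_multiplicity]
  rw [S2.card_eq_multiplicity] at h2
  exact h2

/-- Sylow subgroups of a subgroup of index `m`, as subgroups of `G`. -/
theorem exists_sylow_in [Finite G] (p : ℕ) [Fact p.Prime] (D : Subgroup G) (m : ℕ)
    (hD : D.index = m) (P : Sylow p G) :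
    ∃ S : Subgroup G, S ≤ D ∧ IsPGroup p S ∧ Nat.card P = p ^ m.factorization p * Nat.card S ∧
      ∀ X : Subgroup G, X ≤ D → IsPGroup p X → Nat.card X ≤ Nat.card S := by
  obtain ⟨S0⟩ : Nonempty (Sylow p ↥D) := inferInstance
  refine ⟨(S0 : Subgroup ↥D).map D.subtype, map_subtype_le _, S0.2.map _, ?_, ?_⟩
  · rw [card_map_of_injective D.subtype_injective, S0.card_eq_multiplicity, P.card_eq_multiplicity,
      ← pow_add, ← D.card_mul_index, hD]
    have hm : m ≠ 0 := by
      rw [← hD]; exact index_ne_zero_of_finite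
    rw [Nat.factorization_mul Nat.card_pos.ne' hm, Finsupp.add_apply, add_comm]
  · intro X hX hXp
    rw [card_map_of_injective D.subtype_injective]
    exact card_le_card_sylow D S0 hX hXp

/-- If `Q` normalizes `D`, then `|Q : Q ∩ D|` divides `|G : D|`. -/
theorem relIndex_dvd_index_of_le_normalizer {Q D : Subgroup G} (h : Q ≤ normalizer (D : Set G)) :
    D.relIndex Q ∣ D.index := by
  have h1 : (D.subgroupOf (normalizer (D : Set G))).relIndex (Q.subgroupOf (normalizer (D : Set G)))
      ∣ (D.subgroupOf (normalizer (D : Set G))).index :=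
    relIndex_dvd_index_of_normal _ _
  rw [relIndex_subgroupOf h] at h1
  exact h1.trans (relIndex_dvd_index_of_le le_normalizer)

/-- In a `q`-group `Q`, a normal subgroup not contained in the centre of `G` contains a noncentral
element all of whose `Q`-commutators are central in `G`. -/
theorem exists_commutator_central [Finite G] {q : ℕ} [Fact q.Prime] (Q : Subgroup G)
    (hQ : IsPGroup q Q) (N : Subgroup G) [hN : N.Normal] {x : G} (hxQ : x ∈ Q) (hxN : x ∈ N)
    (hxZ : x ∉ center G) :
    ∃ b ∈ Q, b ∈ N ∧ b ∉ center G ∧ ∀ g ∈ Q, g * b * g⁻¹ * b⁻¹ ∈ center G := by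
  -- the central subgroup of `Q`
  have hZn : ((center G).subgroupOf Q).Normal := by
    constructor
    intro n hn g
    rw [mem_subgroupOf] at hn ⊢
    rw [coe_mul, coe_mul, coe_inv]
    have := (inferInstance : (center G).Normal).conj_mem _ hn g.1
    exact this
  let π := QuotientGroup.mk' ((center G).subgroupOf Q)
  have hπs : Function.Surjective π := QuotientGroup.mk'_surjective _
  have hPq : IsPGroup q (↥Q ⧸ (center G).subgroupOf Q) := hQ.to_quotient _
  have hMn : ((N.subgroupOf Q).map π).Normal :=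
    Subgroup.Normal.map inferInstance π hπs
  have hMne : (N.subgroupOf Q).map π ≠ ⊥ := by
    intro hbot
    have h1 : π ⟨x, hxQ⟩ ∈ (N.subgroupOf Q).map π := mem_map_of_mem π (mem_subgroupOf.mpr hxN)
    rw [hbot, mem_bot, QuotientGroup.mk'_apply, QuotientGroup.eq_one_iff, mem_subgroupOf] at h1
    exact hxZ h1
  obtain ⟨bb, hbM, hb1, hbc⟩ :=
    Cfsg.Agent.Helper3.Ambiv.normal_meets_center hPq ((N.subgroupOf Q).map π) hMne
  obtain ⟨b, hbN, rfl⟩ := hbM
  rw [SetLike.mem_coe, mem_subgroupOf] at hbN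
  refine ⟨b.1, b.2, hbN, ?_, ?_⟩
  · intro hbZ
    apply hb1
    rw [QuotientGroup.mk'_apply, QuotientGroup.eq_one_iff, mem_subgroupOf]
    exact hbZ
  · intro g hg
    have h1 := hbc (π ⟨g, hg⟩)
    rw [← map_mul, ← map_mul] at h1
    have h2 : π ((⟨g, hg⟩ * b) * (b * ⟨g, hg⟩)⁻¹) = 1 := by
      rw [map_mul, map_inv, h1, mul_inv_cancel]
    rw [QuotientGroup.mk'_apply, QuotientGroup.eq_one_iff, mem_subgroupOf] at h2
    have h3 : (((⟨g, hg⟩ * b) * (b * ⟨g, hg⟩)⁻¹ : ↥Q) : G) = g * b.1 * g⁻¹ * b.1⁻¹ := by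
      rw [coe_mul, coe_inv, coe_mul, coe_mul]
      group
    rw [h3] at h2
    exact h2

/-- A finite group with at most two class sizes `1`, `n` is nilpotent (consequence of Itô's
theorem). -/
theorem isNilpotent_of_two_class_sizes {K : Type*} [Group K] [Finite K] (n : ℕ)
    (h : ∀ w : K, (centralizer ({w} : Set K)).index = 1 ∨ (centralizer ({w} : Set K)).index = n) :
    Group.IsNilpotent K := by
  by_cases hex : ∃ w : K, (centralizer ({w} : Set K)).index = n ∧ 1 < n
  · obtain ⟨w, hw, hn⟩ := hex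
    obtain ⟨p, hp, a, -, hP⟩ := Cfsg.Agent.S4134.result n hn h ⟨w, hw⟩
    obtain ⟨P⟩ : Nonempty (Sylow p K) := inferInstance
    obtain ⟨hPn, ⟨M, hMn, hMc, hMcomm, hMP⟩, -⟩ := hP P
    -- `M` is central
    have hMZ : M ≤ center K := by
      intro k hk
      rw [mem_center_iff]
      intro g
      obtain ⟨⟨⟨k', hk'⟩, ⟨y, hy⟩⟩, hky⟩ := hMc.existsUnique g
      have hg : g = k' * y := hky.1.symm
      have h1 : k' * k = k * k' := by
        have := hMcomm.is_comm.comm (⟨k', hk'⟩ : ↥M) ⟨k, hk⟩
        exact congrArg Subtype.val this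
      have h2 : k * y = y * k := hMP k hk y hy
      rw [hg]
      calc k' * y * k = k' * (y * k) := by rw [mul_assoc]
        _ = k' * (k * y) := by rw [h2]
        _ = (k' * k) * y := by rw [mul_assoc]
        _ = (k * k') * y := by rw [h1]
        _ = k * (k' * y) := by rw [mul_assoc]
    -- `K / Z(K)` is a `p`-group
    have hidx : (center K).index ∣ M.index := index_dvd_of_le hMZ
    have hMidx : M.index = Nat.card P := by
      have h1 := hMc.card_mul_card
      have h2 := M.card_mul_index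
      have h3 : Nat.card M * M.index = Nat.card M * Nat.card (P : Subgroup K) := by
        rw [h2, h1]
      exact Nat.eq_of_mul_eq_mul_left Nat.card_pos h3
    obtain ⟨j, hj⟩ := (IsPGroup.iff_card.mp P.2)
    have hq : IsPGroup p (K ⧸ center K) := by
      have h4 : Nat.card (K ⧸ center K) ∣ p ^ j := by
        rw [← hj, ← hMidx, ← index_eq_card]
        exact hidx
      obtain ⟨i, -, hi⟩ := (Nat.dvd_prime_pow hp.out).mp h4
      exact IsPGroup.of_card hi
    haveI := hq.isNilpotent
    exact Group.of_quotient_center_nilpotent inferInstance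
  · -- all elements central
    have hall : ∀ w : K, w ∈ center K := by
      intro w
      rw [← Cfsg.Agent.Helper4.ItoTwo.index_eq_one_iff]
      rcases h w with h1 | h1
      · exact h1
      · by_contra hne
        apply hex
        refine ⟨w, h1, ?_⟩
        have hpos : 0 < (centralizer ({w} : Set K)).index :=
          Nat.pos_of_ne_zero index_ne_zero_of_finite
        omega
    have hc : ∀ a b : K, a * b = b * a := fun a b => (mem_center_iff.mp (hall b) a)
    letI : CommGroup K := { (inferInstance : Group K) with mul_comm := hc }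
    exact CommGroup.isNilpotent

end Cfsg.Agent.Helper3.RelIto
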