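import Mathlib
import Cfsg.Agent.Helper3.RelItoA

set_option autoImplicit false

/-!
Relative Itô: conjugation helpers, unique maximal `p`-subgroups, the semiregular bound.
-/

namespace Cfsg.Agent.Helper3.RelIto

open Subgroup
open Cfsg.Agent.Helper4.TwoClass

variable {G : Type*} [Group G]

/-- conjugate of a subgroup by `t` -/
def cj (t : G) (H : Subgroup G) : Subgroup G := H.map (MulAut.conj t).toMonoidHom

theorem mem_cj {t y : G} {H : Subgroup G} : y ∈ cj t H ↔ t⁻¹ * y * t ∈ H := by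
  unfold cj
  constructor
  · rintro ⟨x, hx, rfl⟩
    have : t⁻¹ * ((MulAut.conj t).toMonoidHom x) * t = x := by
      simp [MulAut.conj_apply, mul_assoc]
    rw [this]; exact hx
  · intro h
    refine ⟨t⁻¹ * y * t, h, ?_⟩
    simp [MulAut.conj_apply, mul_assoc]

theorem conj_mem_cj {t x : G} {H : Subgroup G} (hx : x ∈ H) : t * x * t⁻¹ ∈ cj t H := by
  rw [mem_cj]
  have : t⁻¹ * (t * x * t⁻¹) * t = x := by group
  rw [this]; exact hx

theorem card_cj (t : G) (H : Subgroup G) : Nat.card (cj t H) = Nat.card H :=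
  card_map_of_injective (MulAut.conj t).injective

theorem cj_mono {t : G} {H K : Subgroup G} (h : H ≤ K) : cj t H ≤ cj t K := map_mono h

theorem cj_isPGroup {p : ℕ} {t : G} {H : Subgroup G} (h : IsPGroup p H) : IsPGroup p (cj t H) :=
  h.map _

theorem cj_normal (t : G) (N : Subgroup G) [hN : N.Normal] : cj t N = N := by
  ext y
  rw [mem_cj]
  constructor
  · intro h
    have := hN.conj_mem _ h t
    have e : t * (t⁻¹ * y * t) * t⁻¹ = y := by group
    rwa [e] at this
  · intro h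
    have := hN.conj_mem _ h t⁻¹
    rwa [inv_inv] at this

theorem cj_C (t a : G) : cj t (C a) = C (t * a * t⁻¹) := by
  ext y
  rw [mem_cj, mem_C_conj]

/-- any two Sylow subgroups are conjugate -/
theorem sylow_eq_cj [Finite G] {p : ℕ} [Fact p.Prime] (P P' : Sylow p G) :
    ∃ t : G, (P' : Subgroup G) = cj t (P : Subgroup G) := by
  obtain ⟨t, ht⟩ := MulAction.exists_smul_eq G P P'
  refine ⟨t, ?_⟩
  rw [← ht]
  ext y
  rw [mem_cj, Sylow.smul_def, Sylow.pointwise_smul_def, mem_pointwise_smul_iff_inv_smul_mem,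
    MulAut.smul_def, MulAut.conj_inv_apply]

/-- a central `p`-subgroup lies in every Sylow `p`-subgroup -/
theorem central_le_sylow [Finite G] {p : ℕ} [Fact p.Prime] (P : Sylow p G) {X : Subgroup G}
    (hX : IsPGroup p X) (hXZ : X ≤ center G) : X ≤ P := by
  obtain ⟨P', hP'⟩ := hX.exists_le_sylow
  obtain ⟨t, ht⟩ := sylow_eq_cj P P'
  intro s hs
  have h1 : s ∈ cj t (P : Subgroup G) := ht ▸ hP' hs
  rw [mem_cj] at h1
  have h2 : t⁻¹ * s * t = s := by
    have := mem_center_iff.mp (hXZ hs) t⁻¹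
    rw [this]; group
  rwa [h2] at h1

/-- every `p`-subgroup lies in a conjugate of a given Sylow subgroup -/
theorem exists_le_cj [Finite G] {p : ℕ} [Fact p.Prime] (P : Sylow p G) {X : Subgroup G}
    (hX : IsPGroup p X) : ∃ t : G, X ≤ cj t (P : Subgroup G) := by
  obtain ⟨P', hP'⟩ := hX.exists_le_sylow
  obtain ⟨t, ht⟩ := sylow_eq_cj P P'
  exact ⟨t, ht ▸ hP'⟩

/-- A `p`-element of `H` commuting with a card-maximal `p`-subgroup `V` of `H` lies in `V`. -/
theorem mem_of_commute_max [Finite G] {p : ℕ} [Fact p.Prime] {H V : Subgroup G} (hVH : V ≤ H)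
    (hVp : IsPGroup p V)
    (hmax : ∀ X : Subgroup G, X ≤ H → IsPGroup p X → Nat.card X ≤ Nat.card V)
    {g : G} (hgH : g ∈ H) (hgp : ∃ j : ℕ, orderOf g = p ^ j) (hc : ∀ v ∈ V, g * v = v * g) :
    g ∈ V := by
  have hzp : IsPGroup p (zpowers g) := by
    obtain ⟨j, hj⟩ := hgp
    rw [IsPGroup.iff_card]
    exact ⟨j, by rw [Nat.card_zpowers, hj]⟩
  have hnorm : zpowers g ≤ normalizer (V : Set G) := by
    rw [zpowers_le]
    rw [mem_normalizer_iff]
    intro v
    constructor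
    · intro hv
      have : g * v * g⁻¹ = v := by rw [hc v hv]; group
      rw [this]; exact hv
    · intro hv
      have h1 := hc _ hv
      have h2 : g * v = v * g := by
        have e : g * (g * v * g⁻¹) = g * v * g⁻¹ * g := h1
        have e2 : g * v * g⁻¹ * g = g * v := by group
        rw [e2] at e
        have e3 : g * (g * v * g⁻¹) = g * (g * v) * g⁻¹ := by group
        rw [e3] at e
        have e4 : g * (g * v) = g * v * g := by
          calc g * (g * v) = g * (g * v) * g⁻¹ * g := by group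
            _ = g * v * g := by rw [e]
        have e5 : g * (g * v) = g * (v * g) := by rw [e4]; group
        exact mul_left_cancel e5
      have : v = g * v * g⁻¹ := by rw [h2]; group
      rw [this]; exact hv
  have hsup : IsPGroup p (zpowers g ⊔ V : Subgroup G) := hzp.to_sup_of_normal_right' hVp hnorm
  have hle : zpowers g ⊔ V ≤ H := sup_le (zpowers_le.mpr hgH) hVH
  have hcard := hmax _ hle hsup
  have heq : V = zpowers g ⊔ V := eq_of_le_of_card_ge le_sup_right hcard
  rw [heq]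
  exact (le_sup_left : zpowers g ≤ zpowers g ⊔ V) (mem_zpowers g)

/-- cardinality of the noncentral part of a subgroup -/
theorem card_noncentral [Finite G] (A : Subgroup G) :
    Nat.card {v : G // v ∈ A ∧ v ∉ center G} + Nat.card (A ⊓ center G : Subgroup G) = Nat.card A := by
  classical
  have h1 : Nat.card {v : G // v ∈ A ∧ v ∉ center G} = ((A : Set G) \ ((A ⊓ center G : Subgroup G) : Set G)).ncard := by
    rw [← Nat.card_coe_set_eq]
    apply Nat.card_congr
    refine Equiv.subtypeEquivRight ?_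
    intro v
    simp only [Set.mem_sdiff, SetLike.mem_coe, mem_inf, not_and]
    constructor
    · rintro ⟨h1, h2⟩; exact ⟨h1, fun _ => h2⟩
    · rintro ⟨h1, h2⟩; exact ⟨h1, h2 h1⟩
  have h2 : (((A ⊓ center G : Subgroup G) : Set G)) ⊆ (A : Set G) := fun v hv => (mem_inf.mp hv).1
  rw [h1, Set.ncard_sdiff h2 (Set.toFinite _), ← Nat.card_coe_set_eq, ← Nat.card_coe_set_eq]
  have h3 : Nat.card ((A ⊓ center G : Subgroup G) : Set G) ≤ Nat.card (A : Set G) :=
    Nat.card_mono (Set.toFinite _) h2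
  have e1 : Nat.card ((A ⊓ center G : Subgroup G) : Set G) = Nat.card (A ⊓ center G : Subgroup G) := rfl
  have e2 : Nat.card (A : Set G) = Nat.card A := rfl
  omega

/-- **The semiregular bound.** -/
theorem semiregular_bound [Finite G] {p₁ p₂ : ℕ} (hp₁ : p₁.Prime) (hp₂ : p₂.Prime) (hne : p₁ ≠ p₂)
    {Y Y0 W : Subgroup G} (hY : IsPGroup p₁ Y) (hW : IsPGroup p₂ W) (hY0 : Y0 ≤ Y)
    (hinv : ∀ y ∈ Y, ∀ v ∈ W, y * v * y⁻¹ ∈ W)
    (hst : ∀ v ∈ W, v ∉ center G → ∀ y ∈ Y, (y * v = v * y ↔ y ∈ Y0))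
    (hex : ∃ v ∈ W, v ∉ center G) :
    (Y0.relIndex Y + 1) * Nat.card (W ⊓ center G : Subgroup G) ≤ Nat.card W := by
  haveI := Fact.mk hp₁
  haveI := Fact.mk hp₂
  have h1 := card_dvd_of_conj_stab Y Y0 {v : G | v ∈ W ∧ v ∉ center G}
    (by
      intro y hy t ht
      refine ⟨hinv y hy t ht.1, ?_⟩
      intro hc
      apply ht.2
      have := (inferInstance : (center G).Normal).conj_mem _ hc y⁻¹
      have e : y⁻¹ * (y * t * y⁻¹) * y⁻¹⁻¹ = t := by group
      rwa [e] at this)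
    (by
      intro t ht y hy
      exact hst t ht.1 ht.2 y hy)
  have h2 : Y0 ⊓ Y = Y0 := inf_eq_left.mpr hY0
  rw [h2] at h1
  have h3 := card_mul_relIndex hY0
  have hT := card_noncentral W
  have hT' : Nat.card ({v : G | v ∈ W ∧ v ∉ center G} : Set G) =
      Nat.card {v : G // v ∈ W ∧ v ∉ center G} := rfl
  rw [hT'] at h1
  -- `j ∣ |T|`
  have hj : Y0.relIndex Y ∣ Nat.card {v : G // v ∈ W ∧ v ∉ center G} := by
    rw [← h3] at h1
    have h4 : Nat.card Y0 * Y0.relIndex Y ∣ Nat.card Y0 * Nat.card {v : G // v ∈ W ∧ v ∉ center G} := by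
      rw [mul_comm (Nat.card Y0) (Nat.card _)]; exact h1
    exact (Nat.mul_dvd_mul_iff_left Nat.card_pos).mp h4
  -- `z ∣ |W|`
  obtain ⟨c, hc⟩ : Nat.card (W ⊓ center G : Subgroup G) ∣ Nat.card W := card_dvd_of_le inf_le_left
  have hzpos : 0 < Nat.card (W ⊓ center G : Subgroup G) := Nat.card_pos
  -- `c ≥ 2`
  have hc2 : 2 ≤ c := by
    obtain ⟨v, hvW, hvZ⟩ := hex
    have hlt : Nat.card (W ⊓ center G : Subgroup G) < Nat.card W := by
      have hne' : Nat.card {v : G // v ∈ W ∧ v ∉ center G} ≠ 0 := by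
        haveI : Nonempty {v : G // v ∈ W ∧ v ∉ center G} := ⟨⟨v, hvW, hvZ⟩⟩
        exact Nat.card_pos.ne'
      omega
    rw [hc] at hlt
    by_contra hlt2
    have : c ≤ 1 := by omega
    have h5 : Nat.card (W ⊓ center G : Subgroup G) * c ≤ Nat.card (W ⊓ center G : Subgroup G) * 1 :=
      Nat.mul_le_mul_left _ this
    omega
  have hTc : Nat.card {v : G // v ∈ W ∧ v ∉ center G} = Nat.card (W ⊓ center G : Subgroup G) * (c - 1) := by
    rw [Nat.mul_sub, mul_one, ← hc]
    omega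
  -- coprimality
  have hcop : (Y0.relIndex Y).Coprime (Nat.card (W ⊓ center G : Subgroup G)) := by
    obtain ⟨e₁, he₁⟩ := IsPGroup.iff_card.mp hY
    obtain ⟨e₂, he₂⟩ := IsPGroup.iff_card.mp hW
    have d1 : Y0.relIndex Y ∣ p₁ ^ e₁ := he₁ ▸ (Dvd.intro_left _ h3)
    have d2 : Nat.card (W ⊓ center G : Subgroup G) ∣ p₂ ^ e₂ := he₂ ▸ card_dvd_of_le inf_le_left
    have hcp : (p₁ ^ e₁).Coprime (p₂ ^ e₂) :=
      Nat.Coprime.pow _ _ ((Nat.coprime_primes hp₁ hp₂).mpr hne)
    exact Nat.Coprime.coprime_dvd_left d1 (Nat.Coprime.coprime_dvd_right d2 hcp)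
  rw [hTc] at hj
  have hj2 : Y0.relIndex Y ∣ c - 1 := hcop.dvd_of_dvd_mul_left hj
  have hj3 : Y0.relIndex Y ≤ c - 1 := Nat.le_of_dvd (by omega) hj2
  rw [hc]
  calc (Y0.relIndex Y + 1) * Nat.card (W ⊓ center G : Subgroup G)
      ≤ c * Nat.card (W ⊓ center G : Subgroup G) := Nat.mul_le_mul_right _ (by omega)
    _ = Nat.card (W ⊓ center G : Subgroup G) * c := mul_comm _ _

end Cfsg.Agent.Helper3.RelIto
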