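import Mathlib
import Cfsg.Agent.Helper3.RelItoB

set_option autoImplicit false

/-!
Relative Itô: basic consequences of two `G`-class sizes on a normal subgroup; good elements.
-/

namespace Cfsg.Agent.Helper3.RelIto

open Subgroup
open Cfsg.Agent.Helper4.TwoClass

variable {G : Type*} [Group G] [Finite G] {N : Subgroup G} {m : ℕ}

theorem isPGroup_zpowers {p : ℕ} [Fact p.Prime] {g : G} (hg : ∃ j : ℕ, orderOf g = p ^ j) :
    IsPGroup p (zpowers g) := by
  obtain ⟨j, hj⟩ := hg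
  rw [IsPGroup.iff_card]
  exact ⟨j, by rw [Nat.card_zpowers, hj]⟩

theorem orderOf_of_isPGroup {p : ℕ} [Fact p.Prime] {S : Subgroup G} (hS : IsPGroup p S) {g : G}
    (hg : g ∈ S) : ∃ j : ℕ, orderOf g = p ^ j := by
  obtain ⟨j, hj⟩ := hS ⟨g, hg⟩
  have h1 : g ^ p ^ j = 1 := by
    have := congrArg Subtype.val hj
    simpa using this
  obtain ⟨i, -, hi⟩ := (Nat.dvd_prime_pow (Fact.out : p.Prime)).mp (orderOf_dvd_of_pow_eq_one h1)
  exact ⟨i, hi⟩

/-- elements of `r`-power order lie in a normal subgroup containing a Sylow `r`-subgroup -/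
theorem mem_of_rpow [hNn : N.Normal] {r : ℕ} [Fact r.Prime] (R : Sylow r G)
    (hRN : (R : Subgroup G) ≤ N) {g : G} (hg : ∃ j : ℕ, orderOf g = r ^ j) : g ∈ N := by
  obtain ⟨t, ht⟩ := exists_le_cj R (isPGroup_zpowers hg)
  have h1 : cj t (R : Subgroup G) ≤ cj t N := cj_mono hRN
  rw [cj_normal t N] at h1
  exact h1 (ht (mem_zpowers g))

section

variable (h : ∀ x ∈ N, cs x = 1 ∨ cs x = m)

include h

theorem cs_eq_m {x : G} (hx : x ∈ N) (hz : x ∉ center G) : cs x = m := by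
  rcases h x hx with h1 | h1
  · exact absurd ((cs_eq_one_iff x).mp h1) hz
  · exact h1

theorem C_eq_of_le {x y : G} (hx : x ∈ N) (hxz : x ∉ center G) (hy : y ∈ N) (hyz : y ∉ center G)
    (hle : C x ≤ C y) : C x = C y :=
  C_eq_of_le_of_cs_eq hle (by rw [cs_eq_m h hx hxz, cs_eq_m h hy hyz])

/-- a noncentral element of `N` has a noncentral power of prime power order with the same
centralizer -/
theorem exists_prime_power_part : ∀ (n : ℕ) (g : G), orderOf g = n → g ∈ N → g ∉ center G →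
    ∃ ℓ : ℕ, ℓ.Prime ∧ ℓ ∣ orderOf g ∧ ∃ g' ∈ zpowers g, (∃ k : ℕ, orderOf g' = ℓ ^ k) ∧
      g' ∉ center G ∧ C g' = C g := by
  intro n
  induction n using Nat.strong_induction_on with
  | _ n ih =>
    intro g hn hgN hg
    have hg1 : orderOf g ≠ 1 := by
      intro h1
      rw [orderOf_eq_one_iff] at h1
      exact hg (h1 ▸ one_mem _)
    obtain ⟨ℓ, hℓ, hℓd⟩ := Nat.exists_prime_and_dvd hg1
    obtain ⟨a, b, ha, hb, ⟨k, hk⟩, hbℓ, hab⟩ := Cfsg.Agent.Helper4.ItoTwo.exists_parts ℓ hℓ g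
    have haN : a ∈ N := (zpowers_le.mpr hgN) ha
    have hbN : b ∈ N := (zpowers_le.mpr hgN) hb
    by_cases hac : a ∈ center G
    · have hbc : b ∉ center G := by
        intro hbc
        apply hg
        rw [← hab]
        exact mul_mem hac hbc
      have hlt : orderOf b < n := by
        rw [← hn]
        have h1 : orderOf b ∣ orderOf g := orderOf_dvd_of_mem_zpowers hb
        have h2 : orderOf b ≠ orderOf g := by
          intro h2
          exact hbℓ (h2 ▸ hℓd)
        exact lt_of_le_of_ne (Nat.le_of_dvd (orderOf_pos g) h1) h2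
      obtain ⟨ℓ', hℓ', hℓ'd, g', hg', hk', hg'c, hC⟩ := ih _ hlt b rfl hbN hbc
      refine ⟨ℓ', hℓ', hℓ'd.trans (orderOf_dvd_of_mem_zpowers hb), g', ?_, hk', hg'c, ?_⟩
      · exact (zpowers_le.mpr hb) hg'
      · rw [hC]
        exact (C_eq_of_le h hgN hg hbN hbc (C_le_of_mem_zpowers hb)).symm
    · refine ⟨ℓ, hℓ, hℓd, a, ha, ⟨k, hk⟩, hac, ?_⟩
      exact (C_eq_of_le h hgN hg haN hac (C_le_of_mem_zpowers ha)).symm

/-- for a noncentral `q`-element `x` of `N`, the `q'`-elements of `C(x) ∩ N` are central in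
`C(x)` -/
theorem C_le_of_coprime (q : ℕ) [Fact q.Prime] {x y : G} (hx : x ∈ N) (hxz : x ∉ center G)
    {k : ℕ} (hxq : orderOf x = q ^ k) (hy : y ∈ N) (hyC : y ∈ C x) (hyq : ¬ q ∣ orderOf y) :
    C x ≤ C y := by
  have hc : Commute x y := (mem_C.mp hyC).symm
  have hcop : (orderOf x).Coprime (orderOf y) := by
    rw [hxq]
    exact Nat.Coprime.pow_left _ ((Nat.Prime.coprime_iff_not_dvd Fact.out).mpr hyq)
  have hC := C_mul_of_coprime hc hcop
  have hxyN : x * y ∈ N := mul_mem hx hy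
  have hxyc : x * y ∉ center G := by
    intro hcz
    apply hxz
    have h1 : C (x * y) = ⊤ := by
      rw [eq_top_iff]
      exact le_trans (by rw [← eq_top_iff]; exact (centralizer_eq_top_iff_subset.mpr (by
        rw [Set.singleton_subset_iff]; exact hcz))) le_rfl
    rw [hC] at h1
    have h2 : C x = ⊤ := by
      rw [eq_top_iff, ← h1]; exact inf_le_left
    have := centralizer_eq_top_iff_subset.mp h2
    rw [Set.singleton_subset_iff] at this
    exact this
  have hle : C (x * y) ≤ C x := hC ▸ inf_le_left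
  have heq := C_eq_of_le h hxyN hxyc hx hxz hle
  rw [← heq, hC]
  exact inf_le_right

end

/-- `x ∈ N` is *good* if it is noncentral and `C(x) ∩ N` is central in `C(x)`. -/
def Good (N : Subgroup G) (x : G) : Prop :=
  x ∈ N ∧ x ∉ center G ∧ ∀ w ∈ N, w ∈ C x → C x ≤ C w

section

variable (h : ∀ x ∈ N, cs x = 1 ∨ cs x = m)

include h

theorem Good.C_eq {x w : G} (hx : Good N x) (hwN : w ∈ N) (hwC : w ∈ C x) (hwz : w ∉ center G) :
    C w = C x :=
  (C_eq_of_le h hx.1 hx.2.1 hwN hwz (hx.2.2 w hwN hwC)).symm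

theorem Good.of_mem {x w : G} (hx : Good N x) (hwN : w ∈ N) (hwC : w ∈ C x) (hwz : w ∉ center G) :
    Good N w := by
  have hC := hx.C_eq h hwN hwC hwz
  refine ⟨hwN, hwz, ?_⟩
  intro v hvN hvC
  rw [hC] at hvC ⊢
  exact hx.2.2 v hvN hvC

omit h in
theorem Good.commute {x a b : G} (hx : Good N x) (haN : a ∈ N) (haC : a ∈ C x)
    (hbC : b ∈ C x) : a * b = b * a := by
  have := hx.2.2 a haN haC hbC
  exact (mem_C.mp this).symm

omit h in
theorem Good.conj [hNn : N.Normal] {x : G} (hx : Good N x) (t : G) : Good N (t * x * t⁻¹) := by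
  refine ⟨hNn.conj_mem _ hx.1 t, ?_, ?_⟩
  · intro hc
    apply hx.2.1
    have := (inferInstance : (center G).Normal).conj_mem _ hc t⁻¹
    have e : t⁻¹ * (t * x * t⁻¹) * t⁻¹⁻¹ = x := by group
    rwa [e] at this
  · intro w hwN hwC
    rw [← cj_C] at hwC ⊢
    rw [mem_cj] at hwC
    have hw' : t⁻¹ * w * t ∈ N := by
      have := hNn.conj_mem _ hwN t⁻¹
      rwa [inv_inv] at this
    have h1 := hx.2.2 _ hw' hwC
    have h2 : cj t (C x) ≤ cj t (C (t⁻¹ * w * t)) := cj_mono h1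
    rw [cj_C t (t⁻¹ * w * t)] at h2
    have e : t * (t⁻¹ * w * t) * t⁻¹ = w := by group
    rwa [e] at h2

end

end Cfsg.Agent.Helper3.RelIto
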