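import Mathlib
import Cfsg.Agent.Helper3.RelItoC

set_option autoImplicit false

/-!
Relative Itô: noncentral elements of prime power order (prime `≠ r`) are good; the unique
maximal `r`-subgroup of their centralizers.
-/

namespace Cfsg.Agent.Helper3.RelIto

open Subgroup
open Cfsg.Agent.Helper4.TwoClass

variable {G : Type*} [Group G] [Finite G] {N : Subgroup G} [hNn : N.Normal] {m : ℕ}
  (h : ∀ x ∈ N, cs x = 1 ∨ cs x = m) {r : ℕ} [hr : Fact r.Prime] (R : Sylow r G)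
  (hRN : (R : Subgroup G) ≤ N) (hRZ : ¬ (R : Subgroup G) ≤ center G)

include h hRN hRZ

/-- **Step 1.** -/
theorem step1 {q : ℕ} [hq : Fact q.Prime] (hqr : q ≠ r) {x : G} (hxN : x ∈ N)
    (hxZ : x ∉ center G) {k : ℕ} (hxq : orderOf x = q ^ k) :
    Good N x ∧ ∃ u ∈ N, u ∉ center G ∧ (∃ j : ℕ, orderOf u = r ^ j) ∧ C u = C x := by
  have hcs : cs x = m := cs_eq_m h hxN hxZ
  obtain ⟨S, hSD, hSp, hScard, hSmax⟩ := exists_sylow_in r (C x) m hcs R
  have hpos : 0 < r ^ m.factorization r := pow_pos hr.out.pos _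
  have hexu : ∃ u ∈ S, u ∉ center G := by
    by_contra hcon
    have hSZ : S ≤ center G := fun s hs => by
      by_contra hsz
      exact hcon ⟨s, hs, hsz⟩
    have hSR : S ≤ (R : Subgroup G) ⊓ center G := le_inf (central_le_sylow R hSp hSZ) hSZ
    obtain ⟨a, haR, haZ⟩ := SetLike.not_le_iff_exists.mp hRZ
    have haN : a ∈ N := hRN haR
    have hcsa : cs a = m := cs_eq_m h haN haZ
    obtain ⟨Sa, hSaD, hSap, hSacard, hSamax⟩ := exists_sylow_in r (C a) m hcsa R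
    have hcardeq : Nat.card Sa = Nat.card S :=
      Nat.eq_of_mul_eq_mul_left hpos (hSacard.symm.trans hScard)
    have hT1 : Nat.card ((R : Subgroup G) ⊓ C a : Subgroup G) ≤ Nat.card Sa :=
      hSamax _ inf_le_right (R.2.to_le inf_le_left)
    have hT2 : (R : Subgroup G) ⊓ center G ≤ (R : Subgroup G) ⊓ C a :=
      inf_le_inf_left _ (center_le_C a)
    have hT3 : (R : Subgroup G) ⊓ center G ≠ (R : Subgroup G) ⊓ C a := by
      intro heq
      have h1 : a ∈ (R : Subgroup G) ⊓ C a := ⟨haR, self_mem_C a⟩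
      rw [← heq] at h1
      exact haZ h1.2
    have hle : Nat.card ((R : Subgroup G) ⊓ center G : Subgroup G) ≤
        Nat.card ((R : Subgroup G) ⊓ C a : Subgroup G) :=
      Nat.le_of_dvd Nat.card_pos (card_dvd_of_le hT2)
    have hlt : Nat.card ((R : Subgroup G) ⊓ center G : Subgroup G) <
        Nat.card ((R : Subgroup G) ⊓ C a : Subgroup G) := by
      apply lt_of_le_of_ne hle
      intro e
      exact hT3 (eq_of_le_of_card_ge hT2 (e ▸ le_rfl))
    have h5 : Nat.card S ≤ Nat.card ((R : Subgroup G) ⊓ center G : Subgroup G) :=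
      Nat.le_of_dvd Nat.card_pos (card_dvd_of_le hSR)
    omega
  obtain ⟨u, huS, huZ⟩ := hexu
  have huD : u ∈ C x := hSD huS
  have hur : ∃ j : ℕ, orderOf u = r ^ j := orderOf_of_isPGroup hSp huS
  have huN : u ∈ N := mem_of_rpow R hRN hur
  have h1a : ∀ y ∈ N, y ∈ C x → ¬ q ∣ orderOf y → C x ≤ C y :=
    fun y hy hyC hyq => C_le_of_coprime h q hxN hxZ hxq hy hyC hyq
  have hqnr : ∀ j : ℕ, ¬ q ∣ r ^ j := fun j hd =>
    hqr ((Nat.prime_dvd_prime_iff_eq hq.out hr.out).mp (hq.out.dvd_of_dvd_pow hd))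
  have hCu : C u = C x := by
    obtain ⟨j, hj⟩ := hur
    have hle : C x ≤ C u := h1a u huN huD (hj ▸ hqnr j)
    exact (C_eq_of_le h hxN hxZ huN huZ hle).symm
  have h1c : ∀ y ∈ N, y ∈ C x → ¬ r ∣ orderOf y → C x ≤ C y := by
    intro y hy hyC hyr
    obtain ⟨j, hj⟩ := hur
    have h2 := C_le_of_coprime h r huN huZ hj hy (hCu ▸ hyC) hyr
    rwa [hCu] at h2
  refine ⟨⟨hxN, hxZ, ?_⟩, u, huN, huZ, hur, hCu⟩
  intro w hwN hwC
  obtain ⟨c₁, c₂, hc₁, hc₂, ⟨k', hk'⟩, hc₂r, hcw⟩ :=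
    Cfsg.Agent.Helper4.ItoTwo.exists_parts r hr.out w
  have hzN : zpowers w ≤ N := zpowers_le.mpr hwN
  have hzC : zpowers w ≤ C x := zpowers_le.mpr hwC
  have e1 : C x ≤ C c₁ := h1a c₁ (hzN hc₁) (hzC hc₁) (hk' ▸ hqnr k')
  have e2 : C x ≤ C c₂ := h1c c₂ (hzN hc₂) (hzC hc₂) hc₂r
  intro d hd
  have d1 := mem_C.mp (e1 hd)
  have d2 := mem_C.mp (e2 hd)
  rw [mem_C, ← hcw, ← mul_assoc, d1, mul_assoc, d2, mul_assoc]

omit hRZ in
/-- data attached to a good element: the unique maximal `r`-subgroup of its centralizer -/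
theorem good_data {x : G} (hx : Good N x) :
    ∃ S : Subgroup G, S ≤ C x ∧ S ≤ N ∧ IsPGroup r S ∧
      Nat.card R = r ^ m.factorization r * Nat.card S ∧
      (∀ X : Subgroup G, X ≤ C x → IsPGroup r X → Nat.card X ≤ Nat.card S) ∧
      (∀ g ∈ C x, (∃ j : ℕ, orderOf g = r ^ j) → g ∈ S) ∧
      (R : Subgroup G) ⊓ center G ≤ S := by
  have hcs : cs x = m := cs_eq_m h hx.1 hx.2.1
  obtain ⟨S, hSD, hSp, hScard, hSmax⟩ := exists_sylow_in r (C x) m hcs R
  have huniq : ∀ g ∈ C x, (∃ j : ℕ, orderOf g = r ^ j) → g ∈ S := by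
    intro g hgC hgr
    have hgN : g ∈ N := mem_of_rpow R hRN hgr
    have hle := hx.2.2 g hgN hgC
    apply mem_of_commute_max hSD hSp hSmax hgC hgr
    intro v hv
    exact (mem_C.mp (hle (hSD hv))).symm
  refine ⟨S, hSD, ?_, hSp, hScard, hSmax, huniq, ?_⟩
  · intro s hs
    exact mem_of_rpow R hRN (orderOf_of_isPGroup hSp hs)
  · intro g hg
    exact huniq g (center_le_C x hg.2) (orderOf_of_isPGroup R.2 hg.1)

omit hRZ hRN h hNn in
/-- the unique maximal `q`-subgroup of `C(x) ∩ N` for a good element -/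
theorem good_data_q (q : ℕ) [hq : Fact q.Prime] {x : G} (hx : Good N x) :
    ∃ V : Subgroup G, V ≤ C x ∧ V ≤ N ∧ IsPGroup q V ∧
      (∀ X : Subgroup G, X ≤ C x ⊓ N → IsPGroup q X → Nat.card X ≤ Nat.card V) ∧
      (∀ g ∈ C x, g ∈ N → (∃ j : ℕ, orderOf g = q ^ j) → g ∈ V) := by
  obtain ⟨S0⟩ : Nonempty (Sylow q ↥(C x ⊓ N : Subgroup G)) := inferInstance
  have hVle : (S0 : Subgroup ↥(C x ⊓ N : Subgroup G)).map (C x ⊓ N : Subgroup G).subtype ≤ C x ⊓ N :=
    map_subtype_le _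
  have hVp : IsPGroup q ((S0 : Subgroup ↥(C x ⊓ N : Subgroup G)).map (C x ⊓ N : Subgroup G).subtype) :=
    S0.2.map _
  have hmax : ∀ X : Subgroup G, X ≤ C x ⊓ N → IsPGroup q X →
      Nat.card X ≤ Nat.card ((S0 : Subgroup ↥(C x ⊓ N : Subgroup G)).map (C x ⊓ N : Subgroup G).subtype) := by
    intro X hX hXp
    rw [card_map_of_injective (C x ⊓ N : Subgroup G).subtype_injective]
    exact card_le_card_sylow _ S0 hX hXp
  refine ⟨_, hVle.trans inf_le_left, hVle.trans inf_le_right, hVp, hmax, ?_⟩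
  intro g hgC hgN hgq
  apply mem_of_commute_max hVle hVp hmax ⟨hgC, hgN⟩ hgq
  intro v hv
  exact hx.commute hgN hgC (hVle hv).1

end Cfsg.Agent.Helper3.RelIto
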