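import Mathlib
import Cfsg.Agent.Helper3.RelItoD

set_option autoImplicit false

/-!
Relative Itô: every noncentral element of `N` commutes with a conjugate of a fixed good
element (case `r ∤ m` and the case of large `r`-parts of centralizers).
-/

namespace Cfsg.Agent.Helper3.RelIto

open Subgroup
open Cfsg.Agent.Helper4.TwoClass

variable {G : Type*} [Group G] [Finite G] {N : Subgroup G} [hNn : N.Normal] {m : ℕ}
  (h : ∀ x ∈ N, cs x = 1 ∨ cs x = m) {r : ℕ} [hr : Fact r.Prime] (R : Sylow r G)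
  (hRN : (R : Subgroup G) ≤ N) (hRZ : ¬ (R : Subgroup G) ≤ center G)

include h

omit hNn in
/-- Case `r ∤ m`. -/
theorem cov_of_not_dvd (hrm : ¬ r ∣ m) {x u : G} (hur : ∃ j : ℕ, orderOf u = r ^ j)
    (hCu : C u = C x) :
    ∀ w ∈ N, w ∉ center G → ∃ g : G, w ∈ C (g * x * g⁻¹) := by
  intro w hwN hwZ
  have hcs : cs w = m := cs_eq_m h hwN hwZ
  have hK : ¬ r ∣ (C w).index := by
    rw [show (C w).index = cs w from rfl, hcs]; exact hrm
  obtain ⟨g, hg⟩ := exists_conj_mem hr.out (C w) hK u hur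
  refine ⟨g, ?_⟩
  rw [← cj_C, ← hCu, cj_C]
  exact mem_C_comm.mp hg

include hRN

/-- In the case of large centralizers, noncentral `r`-elements commute with conjugates of `x`. -/
theorem subA_r (hA : Nat.card ((R : Subgroup G) ⊓ center G : Subgroup G) * r ^ m.factorization r *
      r ^ m.factorization r < Nat.card R) {x : G} (hx : Good N x) {g : G} (hgZ : g ∉ center G)
    (hgr : ∃ j : ℕ, orderOf g = r ^ j) : ∃ t : G, g ∈ C (t * x * t⁻¹) := by
  obtain ⟨S, hSC, hSN, hSp, hScard, -, -, -⟩ := good_data h R hRN hx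
  have hgN : g ∈ N := mem_of_rpow R hRN hgr
  have hcs : cs g = m := cs_eq_m h hgN hgZ
  obtain ⟨Sg, hSgC, hSgp, hSgcard, -⟩ := exists_sylow_in r (C g) m hcs R
  have hpos : 0 < r ^ m.factorization r := pow_pos hr.out.pos _
  have hcardeq : Nat.card Sg = Nat.card S :=
    Nat.eq_of_mul_eq_mul_left hpos (hSgcard.symm.trans hScard)
  obtain ⟨P, hSP⟩ := hSp.exists_le_sylow
  have hPR : Nat.card P = Nat.card R := by
    rw [P.card_eq_multiplicity, R.card_eq_multiplicity]
  obtain ⟨t, ht⟩ := exists_le_cj P hSgp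
  have hS''P : cj t⁻¹ Sg ≤ P := by
    intro y hy
    rw [mem_cj] at hy
    have h1 := ht hy
    rw [mem_cj] at h1
    have e : t⁻¹ * (t⁻¹⁻¹ * y * t⁻¹) * t = y := by group
    rwa [e] at h1
  have hprod := card_mul_card_le hS''P hSP
  rw [card_cj, hcardeq, hPR] at hprod
  have hex : ∃ v ∈ cj t⁻¹ Sg ⊓ S, v ∉ center G := by
    by_contra hcon
    have hle : cj t⁻¹ Sg ⊓ S ≤ center G := fun s hs => by
      by_contra hsz
      exact hcon ⟨s, hs, hsz⟩
    have hle2 : cj t⁻¹ Sg ⊓ S ≤ (R : Subgroup G) ⊓ center G :=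
      le_inf (central_le_sylow R (hSp.to_le inf_le_right) hle) hle
    have hc : Nat.card (cj t⁻¹ Sg ⊓ S : Subgroup G) ≤
        Nat.card ((R : Subgroup G) ⊓ center G : Subgroup G) :=
      Nat.le_of_dvd Nat.card_pos (card_dvd_of_le hle2)
    have h2 : Nat.card S * Nat.card S ≤
        Nat.card ((R : Subgroup G) ⊓ center G : Subgroup G) * (r ^ m.factorization r * Nat.card S) := by
      calc Nat.card S * Nat.card S ≤ Nat.card (cj t⁻¹ Sg ⊓ S : Subgroup G) * Nat.card R := hprod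
        _ ≤ Nat.card ((R : Subgroup G) ⊓ center G : Subgroup G) * Nat.card R :=
            Nat.mul_le_mul_right _ hc
        _ = _ := by rw [hScard]
    have h3 : Nat.card S ≤ Nat.card ((R : Subgroup G) ⊓ center G : Subgroup G) * r ^ m.factorization r := by
      have h4 : Nat.card S * Nat.card S ≤
          (Nat.card ((R : Subgroup G) ⊓ center G : Subgroup G) * r ^ m.factorization r) * Nat.card S := by
        rw [mul_assoc]; exact h2
      exact Nat.le_of_mul_le_mul_right h4 Nat.card_pos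
    have h5 : Nat.card R ≤ Nat.card ((R : Subgroup G) ⊓ center G : Subgroup G) * r ^ m.factorization r *
        r ^ m.factorization r := by
      rw [hScard, mul_comm (r ^ m.factorization r) (Nat.card S)]
      exact Nat.mul_le_mul_right _ h3
    omega
  obtain ⟨v, hv, hvZ⟩ := hex
  have hvS : v ∈ S := (mem_inf.mp hv).2
  have hCv : C v = C x := hx.C_eq h (hSN hvS) (hSC hvS) hvZ
  have hv2 : v ∈ cj t⁻¹ Sg := (mem_inf.mp hv).1
  rw [mem_cj] at hv2
  have h6 : t⁻¹⁻¹ * v * t⁻¹ ∈ C g := hSgC hv2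
  rw [inv_inv] at h6
  refine ⟨t, ?_⟩
  rw [← cj_C, ← hCv, cj_C]
  exact mem_C_comm.mp h6

include hRZ

/-- Covering in the case of large centralizers. -/
theorem cov_subA (hA : Nat.card ((R : Subgroup G) ⊓ center G : Subgroup G) * r ^ m.factorization r *
      r ^ m.factorization r < Nat.card R) {x : G} (hx : Good N x) :
    ∀ w ∈ N, w ∉ center G → ∃ g : G, w ∈ C (g * x * g⁻¹) := by
  intro w hwN hwZ
  obtain ⟨ℓ, hℓ, -, g', hg', ⟨k, hk⟩, hg'Z, hCg'⟩ := exists_prime_power_part h _ w rfl hwN hwZ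
  have hg'N : g' ∈ N := (zpowers_le.mpr hwN) hg'
  by_cases hℓr : ℓ = r
  · subst hℓr
    obtain ⟨t, ht⟩ := subA_r h R hRN hA hx hg'Z ⟨k, hk⟩
    refine ⟨t, ?_⟩
    have hC := (hx.conj t).C_eq h hg'N ht hg'Z
    rw [← hC, hCg']
    exact self_mem_C w
  · haveI : Fact ℓ.Prime := ⟨hℓ⟩
    obtain ⟨hgood, u', hu'N, hu'Z, hu'r, hCu'⟩ := step1 h R hRN hRZ hℓr hg'N hg'Z hk
    obtain ⟨t, ht⟩ := subA_r h R hRN hA hx hu'Z hu'r
    refine ⟨t, ?_⟩
    have hC := (hx.conj t).C_eq h hu'N ht hu'Z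
    rw [← hC, hCu', hCg']
    exact self_mem_C w

end Cfsg.Agent.Helper3.RelIto
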