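import Mathlib
import Cfsg.Agent.Helper3.RelItoE

set_option autoImplicit false

/-!
Relative Itô: the case of small `r`-parts of centralizers, part 1 (the element `b`).
-/

namespace Cfsg.Agent.Helper3.RelIto

open Subgroup
open Cfsg.Agent.Helper4.TwoClass

variable {G : Type*} [Group G]

theorem orderOf_conj_eq (y v : G) : orderOf (y * v * y⁻¹) = orderOf v := by
  have := (MulAut.conj y).orderOf_eq v
  rwa [MulAut.conj_apply] at this

/-- if `∀ s ∈ S, h s h⁻¹ ∈ S` for a finite subgroup then `h` normalizes `S` -/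
theorem mem_normalizer_of_conj_mem [Finite G] {S : Subgroup G} {t : G}
    (ht : ∀ s ∈ S, t * s * t⁻¹ ∈ S) : t ∈ normalizer (S : Set G) := by
  have hle : cj t S ≤ S := by
    intro y hy
    rw [mem_cj] at hy
    have := ht _ hy
    have e : t * (t⁻¹ * y * t) * t⁻¹ = y := by group
    rwa [e] at this
  have heq : cj t S = S := eq_of_le_of_card_ge hle (by rw [card_cj])
  rw [mem_normalizer_iff]
  intro k
  constructor
  · exact ht k
  · intro hk
    rw [← heq, mem_cj] at hk
    have e : t⁻¹ * (t * k * t⁻¹) * t = k := by group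
    rwa [e] at hk

variable [Finite G] {N : Subgroup G} [hNn : N.Normal] {m : ℕ}
  (h : ∀ x ∈ N, cs x = 1 ∨ cs x = m) {r : ℕ} [hr : Fact r.Prime] (R : Sylow r G)
  (hRN : (R : Subgroup G) ≤ N) (hRZ : ¬ (R : Subgroup G) ≤ center G)

include h hRN hRZ

/-- the element `b`: exact index of its centralizer in a Sylow `q`-subgroup, and the bound. -/
theorem subB_b {q : ℕ} [hq : Fact q.Prime] (hqr : q ≠ r) (Q₂ : Sylow q G) {b : G} (hbN : b ∈ N)
    (hbZ : b ∉ center G) (hbQ : b ∈ Q₂) (hcomm : ∀ g ∈ Q₂, g * b * g⁻¹ * b⁻¹ ∈ center G) :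
    Nat.card Q₂ = q ^ m.factorization q * Nat.card ((Q₂ : Subgroup G) ⊓ C b : Subgroup G) ∧
    (q ^ m.factorization q + 1) * Nat.card ((R : Subgroup G) ⊓ center G : Subgroup G) *
      r ^ m.factorization r ≤ Nat.card R := by
  obtain ⟨kb, hkb⟩ := orderOf_of_isPGroup Q₂.2 hbQ
  obtain ⟨hgood, u, huN, huZ, hur, hCu⟩ := step1 h R hRN hRZ hqr hbN hbZ hkb
  have hcsb : cs b = m := cs_eq_m h hbN hbZ
  have hm0 : m ≠ 0 := by
    rw [← hcsb]; exact (cs_pos b).ne'
  -- `Q₂` normalizes `C b`
  have hconj : ∀ g ∈ (Q₂ : Subgroup G), cj g (C b) = C b := by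
    intro g hg
    rw [cj_C]
    have e : g * b * g⁻¹ = b * (g * b * g⁻¹ * b⁻¹) := by
      have hz := mem_center_iff.mp (hcomm g hg) b
      rw [hz]; group
    rw [e]
    exact C_mul_central (hcomm g hg)
  have hnorm : (Q₂ : Subgroup G) ≤ normalizer (C b : Set G) := by
    intro g hg
    rw [mem_normalizer_iff]
    intro k
    constructor
    · intro hk
      have := conj_mem_cj (t := g) hk
      rwa [hconj g hg] at this
    · intro hk
      rw [← hconj g hg, mem_cj] at hk
      have e : g⁻¹ * (g * k * g⁻¹) * g = k := by group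
      rwa [e] at hk
  have hdvd : (C b).relIndex Q₂ ∣ m := by
    have := relIndex_dvd_index_of_le_normalizer hnorm
    rwa [show (C b).index = m from hcsb] at this
  have hj : Nat.card ((Q₂ : Subgroup G) ⊓ C b : Subgroup G) * (C b).relIndex Q₂ = Nat.card Q₂ := by
    have := card_mul_relIndex (inf_le_left : (Q₂ : Subgroup G) ⊓ C b ≤ Q₂)
    rwa [inf_relIndex_left] at this
  obtain ⟨Sq, hSqC, hSqp, hSqcard, hSqmax⟩ := exists_sylow_in q (C b) m hcsb Q₂
  have hle1 : Nat.card ((Q₂ : Subgroup G) ⊓ C b : Subgroup G) ≤ Nat.card Sq :=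
    hSqmax _ inf_le_right (Q₂.2.to_le inf_le_left)
  have hmqj : q ^ m.factorization q ≤ (C b).relIndex Q₂ := by
    have h1 : q ^ m.factorization q * Nat.card Sq ≤ (C b).relIndex Q₂ * Nat.card Sq := by
      rw [← hSqcard, ← hj, mul_comm]
      exact Nat.mul_le_mul_left _ hle1
    exact Nat.le_of_mul_le_mul_right h1 Nat.card_pos
  have hjmq : (C b).relIndex Q₂ ≤ q ^ m.factorization q := by
    obtain ⟨e, he⟩ := IsPGroup.iff_card.mp Q₂.2
    have hjq : (C b).relIndex Q₂ ∣ q ^ e := he ▸ Dvd.intro_left _ hj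
    obtain ⟨i, -, hji⟩ := (Nat.dvd_prime_pow hq.out).mp hjq
    rw [hji] at hdvd ⊢
    have hi := (hq.out.pow_dvd_iff_le_factorization hm0).mp hdvd
    exact Nat.pow_le_pow_right hq.out.pos hi
  have hjeq : (C b).relIndex Q₂ = q ^ m.factorization q := le_antisymm hjmq hmqj
  refine ⟨?_, ?_⟩
  · rw [← hj, hjeq, mul_comm]
  · obtain ⟨S, hSC, hSN, hSp, hScard, hSmax, hSuniq, hRZS⟩ := good_data h R hRN hgood
    have hb := semiregular_bound hq.out hr.out hqr (Y := (Q₂ : Subgroup G))
      (Y0 := (Q₂ : Subgroup G) ⊓ C b) (W := S) Q₂.2 hSp inf_le_left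
      (by
        intro y hy v hv
        apply hSuniq
        · have := conj_mem_cj (t := y) (hSC hv)
          rwa [hconj y hy] at this
        · rw [orderOf_conj_eq]
          exact orderOf_of_isPGroup hSp hv)
      (by
        intro v hv hvZ y hy
        have hCv : C v = C b := hgood.C_eq h (hSN hv) (hSC hv) hvZ
        constructor
        · intro e
          exact ⟨hy, by rw [← hCv]; exact mem_C.mpr e⟩
        · intro hy'
          exact mem_C.mp (hCv ▸ hy'.2))
      ⟨u, hSuniq u (hCu ▸ self_mem_C u) hur, huZ⟩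
    rw [inf_relIndex_left, hjeq] at hb
    have hz : Nat.card ((R : Subgroup G) ⊓ center G : Subgroup G) ≤ Nat.card (S ⊓ center G : Subgroup G) :=
      Nat.le_of_dvd Nat.card_pos (card_dvd_of_le (le_inf hRZS inf_le_right))
    calc (q ^ m.factorization q + 1) * Nat.card ((R : Subgroup G) ⊓ center G : Subgroup G) *
          r ^ m.factorization r
        ≤ (q ^ m.factorization q + 1) * Nat.card (S ⊓ center G : Subgroup G) * r ^ m.factorization r :=
          Nat.mul_le_mul_right _ (Nat.mul_le_mul_left _ hz)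
      _ ≤ Nat.card S * r ^ m.factorization r := Nat.mul_le_mul_right _ hb
      _ = Nat.card R := by rw [hScard, mul_comm]

end Cfsg.Agent.Helper3.RelIto
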