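import Mathlib
import Cfsg.Agent.Helper3.RelItoF

set_option autoImplicit false

/-!
Relative Itô: the case of small `r`-parts of centralizers, part 2.
-/

namespace Cfsg.Agent.Helper3.RelIto

open Subgroup
open Cfsg.Agent.Helper4.TwoClass

variable {G : Type*} [Group G] [Finite G] {N : Subgroup G} [hNn : N.Normal] {m : ℕ}
  (h : ∀ x ∈ N, cs x = 1 ∨ cs x = m) {r : ℕ} [hr : Fact r.Prime] (R : Sylow r G)
  (hRN : (R : Subgroup G) ≤ N) (hRZ : ¬ (R : Subgroup G) ≤ center G)

include h hRN hRZ

/-- the `q`-part of `C(x') ∩ N` is large -/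
theorem subB_V {q : ℕ} [hq : Fact q.Prime] (hqr : q ≠ r) (Q : Sylow q G)
    (hB : Nat.card R ≤ Nat.card ((R : Subgroup G) ⊓ center G : Subgroup G) * r ^ m.factorization r *
      r ^ m.factorization r)
    (hH3 : (q ^ m.factorization q + 1) * Nat.card ((R : Subgroup G) ⊓ center G : Subgroup G) *
      r ^ m.factorization r ≤ Nat.card R)
    {x' : G} (hx' : Good N x') (hx'q : ∃ k : ℕ, orderOf x' = q ^ k) {V : Subgroup G}
    (hVC : V ≤ C x') (hVN : V ≤ N) (hVp : IsPGroup q V)
    (hVuniq : ∀ g ∈ C x', g ∈ N → (∃ j : ℕ, orderOf g = q ^ j) → g ∈ V) :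
    q ^ m.factorization q * Nat.card ((Q : Subgroup G) ⊓ center G ⊓ N : Subgroup G) < Nat.card V := by
  by_contra hcon
  rw [not_lt] at hcon
  obtain ⟨k, hk⟩ := hx'q
  obtain ⟨-, u, huN, huZ, hur, hCu⟩ := step1 h R hRN hRZ hqr hx'.1 hx'.2.1 hk
  obtain ⟨S, hSC, hSN, hSp, hScard, hSmax, hSuniq, hRZS⟩ := good_data h R hRN hx'
  have huS : u ∈ S := hSuniq u (hCu ▸ self_mem_C u) hur
  obtain ⟨P, hSP⟩ := hSp.exists_le_sylow
  have hPR : Nat.card P = Nat.card R := by
    rw [P.card_eq_multiplicity, R.card_eq_multiplicity]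
  have hzrpos : 0 < Nat.card ((R : Subgroup G) ⊓ center G : Subgroup G) := Nat.card_pos
  have hmrpos : 0 < r ^ m.factorization r := pow_pos hr.out.pos _
  -- `Y`
  have hSY : S ≤ (P : Subgroup G) ⊓ normalizer (S : Set G) := le_inf hSP le_normalizer
  have hYp : IsPGroup r ((P : Subgroup G) ⊓ normalizer (S : Set G) : Subgroup G) := P.2.to_le inf_le_left
  -- `Y` normalizes `C x'`
  have hconj : ∀ y ∈ (P : Subgroup G) ⊓ normalizer (S : Set G), cj y (C x') = C x' := by
    intro y hy
    have h1 : y * u * y⁻¹ ∈ S := (mem_normalizer_iff.mp hy.2 u).mp huS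
    have h2 : y * u * y⁻¹ ∉ center G := by
      intro hc
      apply huZ
      have := (inferInstance : (center G).Normal).conj_mem _ hc y⁻¹
      have e : y⁻¹ * (y * u * y⁻¹) * y⁻¹⁻¹ = u := by group
      rwa [e] at this
    have h3 : C (y * u * y⁻¹) = C x' := hx'.C_eq h (hSN h1) (hSC h1) h2
    rw [← cj_C, hCu] at h3
    exact h3
  have hx'V : x' ∈ V := hVuniq x' (self_mem_C x') hx'.1 ⟨k, hk⟩
  have hb := semiregular_bound hr.out hq.out (Ne.symm hqr)
    (Y := (P : Subgroup G) ⊓ normalizer (S : Set G)) (Y0 := S) (W := V) hYp hVp hSY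
    (by
      intro y hy v hv
      apply hVuniq
      · have := conj_mem_cj (t := y) (hVC hv)
        rwa [hconj y hy] at this
      · exact hNn.conj_mem _ (hVN hv) y
      · rw [orderOf_conj_eq]
        exact orderOf_of_isPGroup hVp hv)
    (by
      intro v hv hvZ y hy
      have hCv : C v = C x' := hx'.C_eq h (hVN hv) (hVC hv) hvZ
      constructor
      · intro e
        have hyC : y ∈ C x' := by rw [← hCv]; exact mem_C.mpr e
        exact hSuniq y hyC (orderOf_of_isPGroup hYp hy)
      · intro hyS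
        exact mem_C.mp (hCv ▸ hSC hyS))
    ⟨x', hx'V, hx'.2.1⟩
  -- `z_q ≤ |V ∩ Z|`
  have hzq : Nat.card ((Q : Subgroup G) ⊓ center G ⊓ N : Subgroup G) ≤ Nat.card (V ⊓ center G : Subgroup G) := by
    apply Nat.le_of_dvd Nat.card_pos
    apply card_dvd_of_le
    intro g hg
    obtain ⟨⟨hgQ, hgZ⟩, hgN⟩ := hg
    exact ⟨hVuniq g (center_le_C x' hgZ) hgN (orderOf_of_isPGroup Q.2 hgQ), hgZ⟩
  have hzqpos : 0 < Nat.card ((Q : Subgroup G) ⊓ center G ⊓ N : Subgroup G) := Nat.card_pos
  -- `y_r + 1 ≤ m_q`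
  have hyr : S.relIndex ((P : Subgroup G) ⊓ normalizer (S : Set G)) + 1 ≤ q ^ m.factorization q := by
    have h1 : (S.relIndex ((P : Subgroup G) ⊓ normalizer (S : Set G)) + 1) *
        Nat.card ((Q : Subgroup G) ⊓ center G ⊓ N : Subgroup G) ≤
        q ^ m.factorization q * Nat.card ((Q : Subgroup G) ⊓ center G ⊓ N : Subgroup G) :=
      le_trans (le_trans (Nat.mul_le_mul_left _ hzq) hb) hcon
    exact Nat.le_of_mul_le_mul_right h1 hzqpos
  -- `m_q + 1 ≤ m_r`
  have hmqmr : q ^ m.factorization q + 1 ≤ r ^ m.factorization r := by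
    have h1 : (q ^ m.factorization q + 1) *
        (Nat.card ((R : Subgroup G) ⊓ center G : Subgroup G) * r ^ m.factorization r) ≤
        r ^ m.factorization r *
        (Nat.card ((R : Subgroup G) ⊓ center G : Subgroup G) * r ^ m.factorization r) := by
      calc _ = (q ^ m.factorization q + 1) * Nat.card ((R : Subgroup G) ⊓ center G : Subgroup G) *
            r ^ m.factorization r := by ring
        _ ≤ Nat.card R := hH3
        _ ≤ _ := hB
        _ = _ := by ring
    exact Nat.le_of_mul_le_mul_right h1 (Nat.mul_pos hzrpos hmrpos)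
  have hYcard := card_mul_relIndex hSY
  -- `Y ≠ P`
  have hYP : (P : Subgroup G) ⊓ normalizer (S : Set G) ≠ (P : Subgroup G) := by
    intro heq
    have h1 : Nat.card S * S.relIndex ((P : Subgroup G) ⊓ normalizer (S : Set G)) =
        r ^ m.factorization r * Nat.card S := by
      rw [hYcard, heq, hPR, hScard]
    have h2 : S.relIndex ((P : Subgroup G) ⊓ normalizer (S : Set G)) = r ^ m.factorization r := by
      rw [mul_comm] at h1
      exact Nat.eq_of_mul_eq_mul_right Nat.card_pos h1
    omega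
  obtain ⟨t, htP, htY, htnY⟩ := exists_mem_normalizer_not_mem P.2 inf_le_left hYP
  have htS : t ∉ normalizer (S : Set G) := fun hc => htnY ⟨htP, hc⟩
  -- `S'' = cj t S ≤ Y`
  have hS''Y : cj t S ≤ (P : Subgroup G) ⊓ normalizer (S : Set G) := by
    intro y hy
    rw [mem_cj] at hy
    have h1 := (mem_normalizer_iff.mp htY _).mp (hSY hy)
    have e : t * (t⁻¹ * y * t) * t⁻¹ = y := by group
    rwa [e] at h1
  have hint : cj t S ⊓ S ≤ center G := by
    intro v hv
    by_contra hvZ
    have hv1 : v ∈ cj t S := (mem_inf.mp hv).1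
    have hv2 : v ∈ S := (mem_inf.mp hv).2
    rw [mem_cj] at hv1
    have hC1 : C v = C x' := hx'.C_eq h (hSN hv2) (hSC hv2) hvZ
    have hsZ : t⁻¹ * v * t ∉ center G := by
      intro hc
      apply hvZ
      have := (inferInstance : (center G).Normal).conj_mem _ hc t
      have e : t * (t⁻¹ * v * t) * t⁻¹ = v := by group
      rwa [e] at this
    have hC2 : C (t⁻¹ * v * t) = C x' := hx'.C_eq h (hSN hv1) (hSC hv1) hsZ
    have hC3 : cj t (C x') = C x' := by
      rw [← hC2, cj_C]
      have e : t * (t⁻¹ * v * t) * t⁻¹ = v := by group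
      rw [e, hC1, hC2]
    apply htS
    apply mem_normalizer_of_conj_mem
    intro s hs
    apply hSuniq
    · have := conj_mem_cj (t := t) (hSC hs)
      rwa [hC3] at this
    · rw [orderOf_conj_eq]
      exact orderOf_of_isPGroup hSp hs
  have hint2 : cj t S ⊓ S ≤ (R : Subgroup G) ⊓ center G :=
    le_inf (central_le_sylow R (hSp.to_le inf_le_right) hint) hint
  have hc : Nat.card (cj t S ⊓ S : Subgroup G) ≤ Nat.card ((R : Subgroup G) ⊓ center G : Subgroup G) :=
    Nat.le_of_dvd Nat.card_pos (card_dvd_of_le hint2)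
  have hprod := card_mul_card_le hS''Y hSY
  rw [card_cj, ← hYcard] at hprod
  -- `|S| ≤ z_r * y_r`
  have h7 : Nat.card S ≤ Nat.card ((R : Subgroup G) ⊓ center G : Subgroup G) *
      S.relIndex ((P : Subgroup G) ⊓ normalizer (S : Set G)) := by
    have h8 : Nat.card S * Nat.card S ≤ (Nat.card ((R : Subgroup G) ⊓ center G : Subgroup G) *
        S.relIndex ((P : Subgroup G) ⊓ normalizer (S : Set G))) * Nat.card S := by
      calc Nat.card S * Nat.card S ≤ Nat.card (cj t S ⊓ S : Subgroup G) *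
            (Nat.card S * S.relIndex ((P : Subgroup G) ⊓ normalizer (S : Set G))) := hprod
        _ ≤ Nat.card ((R : Subgroup G) ⊓ center G : Subgroup G) *
            (Nat.card S * S.relIndex ((P : Subgroup G) ⊓ normalizer (S : Set G))) :=
            Nat.mul_le_mul_right _ hc
        _ = _ := by ring
    exact Nat.le_of_mul_le_mul_right h8 Nat.card_pos
  -- `(m_q + 1) z_r m_r ≤ |R| = m_r |S| ≤ m_r z_r y_r`
  have h9 : (q ^ m.factorization q + 1) *
      (Nat.card ((R : Subgroup G) ⊓ center G : Subgroup G) * r ^ m.factorization r) ≤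
      S.relIndex ((P : Subgroup G) ⊓ normalizer (S : Set G)) *
      (Nat.card ((R : Subgroup G) ⊓ center G : Subgroup G) * r ^ m.factorization r) := by
    calc _ = (q ^ m.factorization q + 1) * Nat.card ((R : Subgroup G) ⊓ center G : Subgroup G) *
          r ^ m.factorization r := by ring
      _ ≤ Nat.card R := hH3
      _ = r ^ m.factorization r * Nat.card S := hScard
      _ ≤ r ^ m.factorization r * (Nat.card ((R : Subgroup G) ⊓ center G : Subgroup G) *
          S.relIndex ((P : Subgroup G) ⊓ normalizer (S : Set G))) := Nat.mul_le_mul_left _ h7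
      _ = _ := by ring
  have h10 := Nat.le_of_mul_le_mul_right h9 (Nat.mul_pos hzrpos hmrpos)
  omega

end Cfsg.Agent.Helper3.RelIto
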