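import Mathlib
import Cfsg.Agent.Helper3.RelItoG

set_option autoImplicit false

/-!
Relative Itô: the case of small `r`-parts of centralizers, part 3 (covering), and the final
reduction to Itô's theorem.
-/

namespace Cfsg.Agent.Helper3.RelIto

open Subgroup
open Cfsg.Agent.Helper4.TwoClass

variable {G : Type*} [Group G] [Finite G] {N : Subgroup G} [hNn : N.Normal] {m : ℕ}
  (h : ∀ x ∈ N, cs x = 1 ∨ cs x = m)

include h

/-- every noncentral element of `N` commutes with a noncentral `q`-element of `N` -/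
theorem subB_exists {q : ℕ} [hq : Fact q.Prime] (Q : Sylow q G) {V : Subgroup G} (hVN : V ≤ N)
    (hVp : IsPGroup q V)
    (hV : q ^ m.factorization q * Nat.card ((Q : Subgroup G) ⊓ center G ⊓ N : Subgroup G) < Nat.card V)
    {w : G} (hwN : w ∈ N) (hwZ : w ∉ center G) :
    ∃ y ∈ N, y ∉ center G ∧ (∃ j : ℕ, orderOf y = q ^ j) ∧ y ∈ C w := by
  have hcs : cs w = m := cs_eq_m h hwN hwZ
  obtain ⟨Sw, hSwC, hSwp, hSwcard, -⟩ := exists_sylow_in q (C w) m hcs Q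
  by_contra hcon
  have hall : ∀ y ∈ Sw, y ∈ N → y ∈ center G := by
    intro y hy hyN
    by_contra hyZ
    exact hcon ⟨y, hyN, hyZ, orderOf_of_isPGroup hSwp hy, hSwC hy⟩
  obtain ⟨Q₁, hSwQ⟩ := hSwp.exists_le_sylow
  have hQ₁ : Nat.card Q₁ = Nat.card Q := by
    rw [Q₁.card_eq_multiplicity, Q.card_eq_multiplicity]
  obtain ⟨t, ht⟩ := exists_le_cj Q₁ hVp
  have hXQ : cj t⁻¹ V ≤ Q₁ := by
    intro y hy
    rw [mem_cj] at hy
    have h1 := ht hy
    rw [mem_cj] at h1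
    have e : t⁻¹ * (t⁻¹⁻¹ * y * t⁻¹) * t = y := by group
    rwa [e] at h1
  have hXN : cj t⁻¹ V ≤ N := by
    have := cj_mono (t := t⁻¹) hVN
    rwa [cj_normal t⁻¹ N] at this
  have hint : Sw ⊓ cj t⁻¹ V ≤ (Q : Subgroup G) ⊓ center G ⊓ N := by
    intro y hy
    have hyN : y ∈ N := hXN (mem_inf.mp hy).2
    have hyZ : y ∈ center G := hall y (mem_inf.mp hy).1 hyN
    have hle : Sw ⊓ cj t⁻¹ V ⊓ center G ≤ Q :=
      central_le_sylow Q (hSwp.to_le (inf_le_left.trans inf_le_left)) inf_le_right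
    exact ⟨⟨hle ⟨hy, hyZ⟩, hyZ⟩, hyN⟩
  have hc : Nat.card (Sw ⊓ cj t⁻¹ V : Subgroup G) ≤
      Nat.card ((Q : Subgroup G) ⊓ center G ⊓ N : Subgroup G) :=
    Nat.le_of_dvd Nat.card_pos (card_dvd_of_le hint)
  have hprod := card_mul_card_le hSwQ hXQ
  rw [card_cj, hQ₁, hSwcard] at hprod
  have h1 : Nat.card V * Nat.card Sw ≤
      (q ^ m.factorization q * Nat.card ((Q : Subgroup G) ⊓ center G ⊓ N : Subgroup G)) * Nat.card Sw := by
    calc Nat.card V * Nat.card Sw = Nat.card Sw * Nat.card V := mul_comm _ _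
      _ ≤ Nat.card (Sw ⊓ cj t⁻¹ V : Subgroup G) * (q ^ m.factorization q * Nat.card Sw) := hprod
      _ ≤ Nat.card ((Q : Subgroup G) ⊓ center G ⊓ N : Subgroup G) * (q ^ m.factorization q * Nat.card Sw) :=
          Nat.mul_le_mul_right _ hc
      _ = _ := by ring
  have h2 := Nat.le_of_mul_le_mul_right h1 Nat.card_pos
  omega

omit hNn in
/-- centralizers of good elements with large `q`-part coincide with `C(b)` -/
theorem subB_eq {q : ℕ} [hq : Fact q.Prime] (Q Q₂ : Sylow q G) {b : G} (hb : Good N b)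
    (hQb : Nat.card Q₂ = q ^ m.factorization q * Nat.card ((Q₂ : Subgroup G) ⊓ C b : Subgroup G))
    {x' : G} (hx' : Good N x') {V' : Subgroup G} (hV'Q : V' ≤ Q₂) (hV'C : V' ≤ C x') (hV'N : V' ≤ N)
    (hV' : q ^ m.factorization q * Nat.card ((Q : Subgroup G) ⊓ center G ⊓ N : Subgroup G) <
      Nat.card V') : C x' = C b := by
  have hV'p : IsPGroup q V' := Q₂.2.to_le hV'Q
  have hprod := card_mul_card_le hV'Q (inf_le_left : (Q₂ : Subgroup G) ⊓ C b ≤ Q₂)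
  rw [hQb] at hprod
  have hex : ∃ v ∈ V' ⊓ ((Q₂ : Subgroup G) ⊓ C b), v ∉ center G := by
    by_contra hcon
    have hle : V' ⊓ ((Q₂ : Subgroup G) ⊓ C b) ≤ center G := fun s hs => by
      by_contra hsz
      exact hcon ⟨s, hs, hsz⟩
    have hle2 : V' ⊓ ((Q₂ : Subgroup G) ⊓ C b) ≤ (Q : Subgroup G) ⊓ center G ⊓ N := by
      intro y hy
      exact ⟨⟨central_le_sylow Q (hV'p.to_le inf_le_left) hle hy, hle hy⟩, hV'N (mem_inf.mp hy).1⟩
    have hc : Nat.card (V' ⊓ ((Q₂ : Subgroup G) ⊓ C b) : Subgroup G) ≤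
        Nat.card ((Q : Subgroup G) ⊓ center G ⊓ N : Subgroup G) :=
      Nat.le_of_dvd Nat.card_pos (card_dvd_of_le hle2)
    have h1 : Nat.card V' * Nat.card ((Q₂ : Subgroup G) ⊓ C b : Subgroup G) ≤
        (q ^ m.factorization q * Nat.card ((Q : Subgroup G) ⊓ center G ⊓ N : Subgroup G)) *
        Nat.card ((Q₂ : Subgroup G) ⊓ C b : Subgroup G) := by
      calc _ ≤ Nat.card (V' ⊓ ((Q₂ : Subgroup G) ⊓ C b) : Subgroup G) *
            (q ^ m.factorization q * Nat.card ((Q₂ : Subgroup G) ⊓ C b : Subgroup G)) := hprod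
        _ ≤ Nat.card ((Q : Subgroup G) ⊓ center G ⊓ N : Subgroup G) *
            (q ^ m.factorization q * Nat.card ((Q₂ : Subgroup G) ⊓ C b : Subgroup G)) :=
            Nat.mul_le_mul_right _ hc
        _ = _ := by ring
    have h2 := Nat.le_of_mul_le_mul_right h1 Nat.card_pos
    omega
  obtain ⟨v, hv, hvZ⟩ := hex
  have hvV : v ∈ V' := (mem_inf.mp hv).1
  have hvC : v ∈ C b := (mem_inf.mp (mem_inf.mp hv).2).2
  have h1 : C v = C x' := hx'.C_eq h (hV'N hvV) (hV'C hvV) hvZ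
  have h2 : C v = C b := hb.C_eq h (hV'N hvV) hvC hvZ
  rw [← h1, h2]

variable {r : ℕ} [hr : Fact r.Prime] (R : Sylow r G)
  (hRN : (R : Subgroup G) ≤ N) (hRZ : ¬ (R : Subgroup G) ≤ center G)

include hRN hRZ

/-- Covering in the case of small `r`-parts of centralizers. -/
theorem cov_subB (hB : Nat.card R ≤ Nat.card ((R : Subgroup G) ⊓ center G : Subgroup G) *
      r ^ m.factorization r * r ^ m.factorization r)
    {q : ℕ} [hq : Fact q.Prime] (hqr : q ≠ r) {x : G} (hx : Good N x) {k : ℕ}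
    (hxq : orderOf x = q ^ k) :
    ∀ w ∈ N, w ∉ center G → ∃ g : G, w ∈ C (g * x * g⁻¹) := by
  by_cases hqm : q ∣ m
  swap
  · -- `q ∤ m`
    intro w hwN hwZ
    have hcs : cs w = m := cs_eq_m h hwN hwZ
    have hK : ¬ q ∣ (C w).index := by
      rw [show (C w).index = cs w from rfl, hcs]; exact hqm
    obtain ⟨g, hg⟩ := exists_conj_mem hq.out (C w) hK x ⟨k, hxq⟩
    exact ⟨g, mem_C_comm.mp hg⟩
  -- a fixed Sylow `q`-subgroup
  obtain ⟨Q⟩ : Nonempty (Sylow q G) := inferInstance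
  -- the bound `(H3)`
  obtain ⟨Vx, hVxC, hVxN, hVxp, -, hVxuniq⟩ := good_data_q q hx
  have hxVx : x ∈ Vx := hVxuniq x (self_mem_C x) hx.1 ⟨k, hxq⟩
  have hH3 : (q ^ m.factorization q + 1) * Nat.card ((R : Subgroup G) ⊓ center G : Subgroup G) *
      r ^ m.factorization r ≤ Nat.card R := by
    obtain ⟨Qx, hQx⟩ := hVxp.exists_le_sylow
    obtain ⟨b₀, hb₀Q, hb₀N, hb₀Z, hb₀c⟩ :=
      exists_commutator_central (Qx : Subgroup G) Qx.2 N (hQx hxVx) hx.1 hx.2.1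
    exact (subB_b h R hRN hRZ hqr Qx hb₀N hb₀Z hb₀Q hb₀c).2
  have hVx : q ^ m.factorization q * Nat.card ((Q : Subgroup G) ⊓ center G ⊓ N : Subgroup G) <
      Nat.card Vx :=
    subB_V h R hRN hRZ hqr Q hB hH3 hx ⟨k, hxq⟩ hVxC hVxN hVxp hVxuniq
  intro w hwN hwZ
  obtain ⟨y, hyN, hyZ, ⟨j, hyq⟩, hyC⟩ := subB_exists h Q hVxN hVxp hVx hwN hwZ
  obtain ⟨hygood, -⟩ := step1 h R hRN hRZ hqr hyN hyZ hyq
  obtain ⟨Vy, hVyC, hVyN, hVyp, -, hVyuniq⟩ := good_data_q q hygood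
  have hyVy : y ∈ Vy := hVyuniq y (self_mem_C y) hyN ⟨j, hyq⟩
  have hVy : q ^ m.factorization q * Nat.card ((Q : Subgroup G) ⊓ center G ⊓ N : Subgroup G) <
      Nat.card Vy :=
    subB_V h R hRN hRZ hqr Q hB hH3 hygood ⟨j, hyq⟩ hVyC hVyN hVyp hVyuniq
  obtain ⟨Q₂, hQ₂⟩ := hVyp.exists_le_sylow
  obtain ⟨b, hbQ, hbN, hbZ, hbc⟩ :=
    exists_commutator_central (Q₂ : Subgroup G) Q₂.2 N (hQ₂ hyVy) hyN hyZ
  obtain ⟨kb, hkb⟩ := orderOf_of_isPGroup Q₂.2 hbQ
  obtain ⟨hbgood, -⟩ := step1 h R hRN hRZ hqr hbN hbZ hkb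
  have hQb := (subB_b h R hRN hRZ hqr Q₂ hbN hbZ hbQ hbc).1
  have hCy : C y = C b := subB_eq h Q Q₂ hbgood hQb hygood hQ₂ hVyC hVyN hVy
  -- conjugate `Vx` into `Q₂`
  obtain ⟨t, ht⟩ := exists_le_cj Q₂ hVxp
  have hXQ : cj t⁻¹ Vx ≤ Q₂ := by
    intro z hz
    rw [mem_cj] at hz
    have h1 := ht hz
    rw [mem_cj] at h1
    have e : t⁻¹ * (t⁻¹⁻¹ * z * t⁻¹) * t = z := by group
    rwa [e] at h1
  have hXN : cj t⁻¹ Vx ≤ N := by
    have := cj_mono (t := t⁻¹) hVxN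
    rwa [cj_normal t⁻¹ N] at this
  have hXC : cj t⁻¹ Vx ≤ C (t⁻¹ * x * t⁻¹⁻¹) := by
    rw [← cj_C]
    exact cj_mono hVxC
  have hXcard : q ^ m.factorization q * Nat.card ((Q : Subgroup G) ⊓ center G ⊓ N : Subgroup G) <
      Nat.card (cj t⁻¹ Vx) := by
    rw [card_cj]; exact hVx
  have hCx : C (t⁻¹ * x * t⁻¹⁻¹) = C b :=
    subB_eq h Q Q₂ hbgood hQb (hx.conj t⁻¹) hXQ hXC hXN hXcard
  refine ⟨t⁻¹, ?_⟩
  rw [hCx, ← hCy]
  exact mem_C_comm.mp hyC

omit hRN hRZ in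
/-- **Final reduction to Itô's theorem.** -/
theorem nilpotent_of_cov {x : G} (hx : Good N x)
    (hcov : ∀ w ∈ N, w ∉ center G → ∃ g : G, w ∈ C (g * x * g⁻¹)) : Group.IsNilpotent ↥N := by
  apply isNilpotent_of_two_class_sizes ((C x).relIndex N)
  intro w
  have hcent : centralizer ({w} : Set ↥N) = (C (w : G)).subgroupOf N := by
    ext k
    rw [mem_centralizer_singleton_iff, mem_subgroupOf, mem_C]
    constructor
    · intro e
      have := congrArg Subtype.val e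
      simpa using this
    · intro e
      apply Subtype.ext
      simpa using e
  rw [hcent]
  show (C (w : G)).relIndex N = 1 ∨ (C (w : G)).relIndex N = (C x).relIndex N
  by_cases hwZ : (w : G) ∈ center G
  · left
    rw [relIndex_eq_one]
    intro n _
    rw [mem_C]
    exact (mem_center_iff.mp hwZ n)
  · right
    obtain ⟨g, hg⟩ := hcov w w.2 hwZ
    have hC := (hx.conj g).C_eq h w.2 hg hwZ
    rw [hC, ← cj_C]
    have h1 : (cj g (C x)).relIndex (cj g N) = (C x).relIndex N :=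
      relIndex_map_map_of_injective _ _ (MulAut.conj g).injective
    rw [cj_normal g N] at h1
    exact h1

end Cfsg.Agent.Helper3.RelIto
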