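import Mathlib
import Cfsg.Prelude.Def_Balance
import Cfsg.Agent.Helper3.PCompT
import Cfsg.Agent.Helper2.PConstrained2
import Cfsg.Agent.Helper2.PComp4
import Cfsg.Agent.Helper2.Component
import Cfsg.Agent.Lead.PTerminal2
import Cfsg.Agent.Helper1.Fitting2

/-!
# S1775, abstract part (helper3)

`Y` a finite group such that `Q = Y / O(Y)` has the B-property, `x` an involution of `Y`,
`J₁ ≤ C_Y(x)` a 2-component of `C_Y(x)`.  Then the image of `J₁` in `Q` is a component of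
`C_Q(x̄)`, and `[J₁, E] ≤ O(Y)` for every `J₁`-invariant subgroup `E ≤ C_Y(x)` of odd order.
-/

set_option autoImplicit false

namespace Cfsg.Agent.Helper3.S1775

open Cfsg.Agent.Helper2 Cfsg.Agent.Helper3.PCompT
open scoped commutatorElement

section gen
variable {G : Type*} [Group G]

theorem le_normalizer_of_forall_conj_mem (L H : Subgroup G)
    (h : ∀ l ∈ L, ∀ x ∈ H, l * x * l⁻¹ ∈ H) : L ≤ Subgroup.normalizer (H : Set G) := by
  intro l hl
  rw [Subgroup.mem_normalizer_iff]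
  intro x
  constructor
  · exact h l hl x
  · intro hx
    have h1 := h l⁻¹ (L.inv_mem hl) _ hx
    simpa [mul_assoc] using h1

theorem centralizer_zpowers_eq (x : G) :
    Subgroup.centralizer ((Subgroup.zpowers x : Subgroup G) : Set G) =
      Subgroup.centralizer ({x} : Set G) := by
  rw [Subgroup.zpowers_eq_closure, Subgroup.centralizer_closure]

end gen

section abs
variable {Y : Type*} [Group Y] [Finite Y]

theorem card_oddCore_coprime : (Nat.card ↥(Cfsg.oddCore Y)).Coprime 2 :=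
  Cfsg.Agent.Helper1.card_pPrimeCore_coprime 2

theorem mk_mem_centralizer (x : Y) (c : ↥(Subgroup.centralizer ({x} : Set Y))) :
    QuotientGroup.mk' (Cfsg.oddCore Y) (c : Y) ∈
      Subgroup.centralizer ({QuotientGroup.mk' (Cfsg.oddCore Y) x} : Set (Y ⧸ Cfsg.oddCore Y)) := by
  rw [Subgroup.mem_centralizer_singleton_iff, ← map_mul, ← map_mul,
    Subgroup.mem_centralizer_singleton_iff.mp c.2]

/-- The restriction `C_Y(x) → C_Q(x̄)` of the quotient map. -/
noncomputable def rho (x : Y) : ↥(Subgroup.centralizer ({x} : Set Y)) →*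
    ↥(Subgroup.centralizer ({QuotientGroup.mk' (Cfsg.oddCore Y) x} : Set (Y ⧸ Cfsg.oddCore Y))) :=
  ((QuotientGroup.mk' (Cfsg.oddCore Y)).comp
    (Subgroup.centralizer ({x} : Set Y)).subtype).codRestrict _ (mk_mem_centralizer x)

theorem rho_coe (x : Y) (c : ↥(Subgroup.centralizer ({x} : Set Y))) :
    ((rho x c : ↥(Subgroup.centralizer ({QuotientGroup.mk' (Cfsg.oddCore Y) x} :
      Set (Y ⧸ Cfsg.oddCore Y)))) : Y ⧸ Cfsg.oddCore Y) =
      QuotientGroup.mk' (Cfsg.oddCore Y) (c : Y) := rfl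

theorem isPGroup_zpowers_of_orderOf_two (x : Y) (hx : orderOf x = 2) :
    IsPGroup 2 ↥(Subgroup.zpowers x) := by
  apply IsPGroup.of_card (n := 1)
  rw [Nat.card_zpowers, hx, pow_one]

theorem rho_surjective (x : Y) (hx : orderOf x = 2) : Function.Surjective (rho x) := by
  haveI : Fact (Nat.Prime 2) := ⟨Nat.prime_two⟩
  rintro ⟨q, hq⟩
  have h1 := map_centralizer_eq_of_coprime 2 (Cfsg.oddCore Y) card_oddCore_coprime
    (Subgroup.zpowers x) (isPGroup_zpowers_of_orderOf_two x hx)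
  rw [centralizer_zpowers_eq, MonoidHom.map_zpowers, centralizer_zpowers_eq] at h1
  rw [← h1] at hq
  obtain ⟨c, hc, rfl⟩ := hq
  exact ⟨⟨c, hc⟩, rfl⟩

theorem rho_ker_coprime (x : Y) : (Nat.card (rho x).ker).Coprime 2 := by
  have h1 : (rho x).ker.map (Subgroup.centralizer ({x} : Set Y)).subtype ≤ Cfsg.oddCore Y := by
    rintro _ ⟨c, hc, rfl⟩
    have h2 : rho x c = 1 := MonoidHom.mem_ker.mp hc
    have h3 : QuotientGroup.mk' (Cfsg.oddCore Y) (c : Y) = 1 := congrArg Subtype.val h2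
    rw [QuotientGroup.mk'_apply, QuotientGroup.eq_one_iff] at h3
    exact h3
  have h4 := Subgroup.card_dvd_of_le h1
  rw [Subgroup.card_map_of_injective (Subgroup.subtype_injective _)] at h4
  exact Nat.Coprime.coprime_dvd_left h4 card_oddCore_coprime

theorem map_rho_subgroupOf (x : Y) (K : Subgroup Y)
    (hK : K ≤ Subgroup.centralizer ({x} : Set Y)) :
    (K.subgroupOf (Subgroup.centralizer ({x} : Set Y))).map (rho x) =
      (K.map (QuotientGroup.mk' (Cfsg.oddCore Y))).subgroupOf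
        (Subgroup.centralizer ({QuotientGroup.mk' (Cfsg.oddCore Y) x} :
          Set (Y ⧸ Cfsg.oddCore Y))) := by
  ext ⟨q, hq⟩
  rw [Subgroup.mem_subgroupOf]
  constructor
  · rintro ⟨c, hc, hcq⟩
    have h1 : QuotientGroup.mk' (Cfsg.oddCore Y) (c : Y) = q := congrArg Subtype.val hcq
    exact ⟨(c : Y), Subgroup.mem_subgroupOf.mp hc, h1⟩
  · rintro ⟨k, hk, hkq⟩
    refine ⟨⟨k, hK hk⟩, Subgroup.mem_subgroupOf.mpr hk, ?_⟩
    exact Subtype.ext hkq

theorem orderOf_mk_eq_two (x : Y) (hx : orderOf x = 2) :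
    orderOf (QuotientGroup.mk' (Cfsg.oddCore Y) x) = 2 := by
  haveI : Fact (Nat.Prime 2) := ⟨Nat.prime_two⟩
  have hx2 : x ^ 2 = 1 := by
    have := pow_orderOf_eq_one x
    rwa [hx] at this
  apply orderOf_eq_prime
  · rw [← map_pow, hx2, map_one]
  · intro h
    rw [QuotientGroup.mk'_apply, QuotientGroup.eq_one_iff] at h
    have h1 : (⟨x, h⟩ : ↥(Cfsg.oddCore Y)) ^ (Nat.card ↥(Cfsg.oddCore Y)) = 1 := pow_card_eq_one'
    have h2 : x ^ (Nat.card ↥(Cfsg.oddCore Y)) = 1 := by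
      have := congrArg Subtype.val h1
      rwa [Subgroup.coe_pow, Subgroup.coe_one] at this
    have h3 := orderOf_dvd_of_pow_eq_one h2
    rw [hx] at h3
    have h4 : (2 : ℕ) = 1 := Nat.Coprime.eq_one_of_dvd
      (Nat.coprime_comm.mp (card_oddCore_coprime (Y := Y))) h3
    omega

/-- Part (i), 2-component form. -/
theorem abstract_pcomp (x : Y) (hx : orderOf x = 2)
    (J₁ : Subgroup Y) (hJle : J₁ ≤ Subgroup.centralizer ({x} : Set Y))
    (hJ : Cfsg.IsPComponent 2 (J₁.subgroupOf (Subgroup.centralizer ({x} : Set Y)))) :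
    Cfsg.IsPComponent 2 ((J₁.map (QuotientGroup.mk' (Cfsg.oddCore Y))).subgroupOf
      (Subgroup.centralizer ({QuotientGroup.mk' (Cfsg.oddCore Y) x} :
        Set (Y ⧸ Cfsg.oddCore Y)))) := by
  haveI : Fact (Nat.Prime 2) := ⟨Nat.prime_two⟩
  rw [← map_rho_subgroupOf x J₁ hJle]
  exact isPComponent_map_of_surjective 2 (rho x) (rho_surjective x hx) (rho_ker_coprime x) hJ

/-- Part (i). -/
theorem abstract_i (hB : Cfsg.HasBProperty (Y ⧸ Cfsg.oddCore Y)) (x : Y) (hx : orderOf x = 2)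
    (J₁ : Subgroup Y) (hJle : J₁ ≤ Subgroup.centralizer ({x} : Set Y))
    (hJ : Cfsg.IsPComponent 2 (J₁.subgroupOf (Subgroup.centralizer ({x} : Set Y)))) :
    Cfsg.IsComponent ((J₁.map (QuotientGroup.mk' (Cfsg.oddCore Y))).subgroupOf
      (Subgroup.centralizer ({QuotientGroup.mk' (Cfsg.oddCore Y) x} :
        Set (Y ⧸ Cfsg.oddCore Y)))) := by
  haveI : Fact (Nat.Prime 2) := ⟨Nat.prime_two⟩
  have h1 := abstract_pcomp x hx J₁ hJle hJ
  apply Cfsg.Agent.Lead.PTerminal2.isComponent_of_pComponent 2 h1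
  have h2 := hB _ (orderOf_mk_eq_two x hx)
  have h3 : Cfsg.oddCore (Y ⧸ Cfsg.oddCore Y) = ⊥ :=
    Cfsg.Agent.Helper1.pPrimeCore_quotient_pPrimeCore 2
  rw [h3, le_bot_iff, Subgroup.map_eq_bot_iff_of_injective _ (Subgroup.subtype_injective _)] at h2
  rw [eq_bot_iff, ← h2]
  exact Subgroup.commutator_mono (pComponent_le_pLayer h1) le_rfl

/-- Part (ii). -/
theorem abstract_ii (hB : Cfsg.HasBProperty (Y ⧸ Cfsg.oddCore Y)) (x : Y) (hx : orderOf x = 2)
    (J₁ : Subgroup Y) (hJle : J₁ ≤ Subgroup.centralizer ({x} : Set Y))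
    (hJ : Cfsg.IsPComponent 2 (J₁.subgroupOf (Subgroup.centralizer ({x} : Set Y))))
    (E : Subgroup Y) (hE : E ≤ Subgroup.centralizer ({x} : Set Y)) (hodd : Odd (Nat.card ↥E))
    (hnorm : ∀ j ∈ J₁, ∀ e ∈ E, j * e * j⁻¹ ∈ E) : ⁅J₁, E⁆ ≤ Cfsg.oddCore Y := by
  haveI : Fact (Nat.Prime 2) := ⟨Nat.prime_two⟩
  set π := QuotientGroup.mk' (Cfsg.oddCore Y) with hπ
  set CQ := Subgroup.centralizer ({π x} : Set (Y ⧸ Cfsg.oddCore Y)) with hCQ
  have hc := abstract_i hB x hx J₁ hJle hJ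
  have hp := abstract_pcomp x hx J₁ hJle hJ
  set Jb := (J₁.map π).subgroupOf CQ with hJb
  set Eb := (E.map π).subgroupOf CQ with hEb
  have hJbCQ : J₁.map π ≤ CQ := by
    rintro _ ⟨j, hj, rfl⟩
    exact mk_mem_centralizer x ⟨j, hJle hj⟩
  have hEbCQ : E.map π ≤ CQ := by
    rintro _ ⟨e, he, rfl⟩
    exact mk_mem_centralizer x ⟨e, hE he⟩
  have hn : Jb ≤ Subgroup.normalizer (Eb : Set ↥CQ) := by
    apply le_normalizer_of_forall_conj_mem
    rintro ⟨a, ha⟩ hja ⟨b, hb⟩ heb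
    rw [hJb, Subgroup.mem_subgroupOf] at hja
    rw [hEb, Subgroup.mem_subgroupOf] at heb
    obtain ⟨j, hj, hja'⟩ := hja
    obtain ⟨e, he, heb'⟩ := heb
    rw [hEb, Subgroup.mem_subgroupOf]
    refine ⟨j * e * j⁻¹, hnorm j hj e he, ?_⟩
    have hja'' : π j = a := hja'
    have heb'' : π e = b := heb'
    simp only [map_mul, map_inv, hja'', heb'']
    rfl
  rcases component_le_or_commutator_eq_bot Jb Eb hc hn with hle | hbot
  · exfalso
    have h1 : Nat.card ↥Jb ∣ Nat.card ↥Eb := Subgroup.card_dvd_of_le hle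
    have h2 : 2 ∣ Nat.card ↥Jb := pComponent_dvd_card hp
    have h3 : Nat.card ↥Eb ∣ Nat.card ↥E := by
      have h4 : Nat.card ↥Eb = Nat.card ↥(Eb.map CQ.subtype) :=
        (Subgroup.card_map_of_injective (Subgroup.subtype_injective _)).symm
      rw [h4, hEb, Subgroup.map_subgroupOf_eq_of_le hEbCQ]
      exact Subgroup.card_map_dvd _ _
    have h5 : 2 ∣ Nat.card ↥E := h2.trans (h1.trans h3)
    rcases hodd with ⟨k, hk⟩
    omega
  · rw [Subgroup.commutator_le]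
    intro j hj e he
    have h1 : (⟨π j, hJbCQ ⟨j, hj, rfl⟩⟩ : ↥CQ) ∈ Jb := by
      rw [hJb, Subgroup.mem_subgroupOf]; exact ⟨j, hj, rfl⟩
    have h2 : (⟨π e, hEbCQ ⟨e, he, rfl⟩⟩ : ↥CQ) ∈ Eb := by
      rw [hEb, Subgroup.mem_subgroupOf]; exact ⟨e, he, rfl⟩
    have h3 : ⁅(⟨π j, hJbCQ ⟨j, hj, rfl⟩⟩ : ↥CQ), (⟨π e, hEbCQ ⟨e, he, rfl⟩⟩ : ↥CQ)⁆ ∈
        (⊥ : Subgroup ↥CQ) := by
      rw [← hbot]; exact Subgroup.commutator_mem_commutator h1 h2
    rw [Subgroup.mem_bot] at h3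
    have h4 : ⁅π j, π e⁆ = 1 := by
      have := congrArg Subtype.val h3
      simpa [commutatorElement_def] using this
    rw [← map_commutatorElement, hπ, QuotientGroup.mk'_apply, QuotientGroup.eq_one_iff] at h4
    exact h4

end abs

end Cfsg.Agent.Helper3.S1775
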