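import Mathlib
import Cfsg.Prelude.Def_Balance
import Cfsg.Agent.Helper3.PCompT
import Cfsg.Agent.Helper3.S1775A
import Cfsg.Agent.Helper2.Layer3
import Cfsg.Agent.Helper2.ExtLayer2

/-!
# S1775, concrete plumbing (helper3)
-/

set_option autoImplicit false

namespace Cfsg.Agent.Helper3.S1775

open Cfsg.Agent.Helper2 Cfsg.Agent.Helper3.PCompT

section conc
variable {G : Type*} [Group G] [Finite G]

/-- If `F*(G)` is non-abelian simple, no involution is central. -/
theorem centralizer_ne_top_of_simple
    (hF : IsSimpleGroup ↥(Cfsg.generalizedFittingSubgroup G))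
    (hF' : ¬ IsMulCommutative ↥(Cfsg.generalizedFittingSubgroup G))
    (y : G) (hy : orderOf y = 2) : Subgroup.centralizer ({y} : Set G) ≠ ⊤ := by
  intro htop
  set F := Cfsg.generalizedFittingSubgroup G with hFdef
  have hyc : ∀ g : G, g * y = y * g := by
    intro g
    have : g ∈ Subgroup.centralizer ({y} : Set G) := by rw [htop]; exact Subgroup.mem_top g
    exact Subgroup.mem_centralizer_singleton_iff.mp this
  have hyF : y ∈ F := by
    apply centralizer_generalizedFittingSubgroup_le
    rw [Subgroup.mem_centralizer_iff]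
    intro g _
    exact hyc g
  have hcen : (⟨y, hyF⟩ : ↥F) ∈ Subgroup.center ↥F := by
    rw [Subgroup.mem_center_iff]
    intro g
    exact Subtype.ext (hyc (g : G))
  rcases (inferInstance : (Subgroup.center ↥F).Normal).eq_bot_or_eq_top with hbot | htop'
  · rw [hbot, Subgroup.mem_bot] at hcen
    have hy1 : y = 1 := congrArg Subtype.val hcen
    rw [hy1, orderOf_one] at hy
    omega
  · apply hF'
    refine ⟨⟨fun a b => ?_⟩⟩
    have ha : a ∈ Subgroup.center ↥F := by rw [htop']; exact Subgroup.mem_top a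
    exact (Subgroup.mem_center_iff.mp ha b).symm

end conc

section transport
variable {G : Type*} [Group G] [Finite G]

/-- A `p`-component of a subgroup `D ≤ Y` which, inside `Y`, lies in and is normalized by
`Z ≤ Y`, is a `p`-component of `Z`. -/
theorem isPComponent_subgroupOf_subgroupOf (p : ℕ) [hp : Fact p.Prime]
    (Y D : Subgroup G) (Z : Subgroup ↥Y) (hDY : D ≤ Y) (hDZ : D.subgroupOf Y ≤ Z)
    (hZn : Z ≤ Subgroup.normalizer ((D.subgroupOf Y : Subgroup ↥Y) : Set ↥Y))
    (J : Subgroup ↥D) (hJ : Cfsg.IsPComponent p J) :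
    Cfsg.IsPComponent p (((J.map D.subtype).subgroupOf Y).subgroupOf Z) := by
  let f : ↥D →* ↥Z := (Subgroup.inclusion hDY).codRestrict Z (fun d => hDZ (by
    rw [Subgroup.mem_subgroupOf]; exact d.2))
  have hfcoe : ∀ d : ↥D, (((f d : ↥Z) : ↥Y) : G) = (d : G) := fun d => rfl
  have hfinj : Function.Injective f := by
    intro a b hab
    apply Subtype.ext
    rw [← hfcoe a, ← hfcoe b, hab]
  have hrange : f.range = (D.subgroupOf Y).subgroupOf Z := by
    ext ⟨⟨z, hzY⟩, hzZ⟩
    rw [MonoidHom.mem_range, Subgroup.mem_subgroupOf, Subgroup.mem_subgroupOf]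
    constructor
    · rintro ⟨d, hd⟩
      have h1 : (d : G) = z := by
        rw [← hfcoe d, hd]
      change z ∈ D
      rw [← h1]; exact d.2
    · intro hz
      exact ⟨⟨z, hz⟩, rfl⟩
  have hrn : f.range.Normal := by
    rw [hrange]
    exact (Subgroup.normal_subgroupOf_iff_le_normalizer hDZ).mpr hZn
  have h1 := isPComponent_map_of_injective p f hfinj hrn.isSubnormal hJ
  have h2 : J.map f = ((J.map D.subtype).subgroupOf Y).subgroupOf Z := by
    ext ⟨⟨z, hzY⟩, hzZ⟩
    rw [Subgroup.mem_subgroupOf, Subgroup.mem_subgroupOf]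
    constructor
    · rintro ⟨d, hdJ, hd⟩
      have h3 : (d : G) = z := by
        rw [← hfcoe d, hd]
      exact ⟨d, hdJ, h3⟩
    · rintro ⟨d, hdJ, hd⟩
      refine ⟨d, hdJ, ?_⟩
      apply Subtype.ext
      apply Subtype.ext
      exact hd
  rw [← h2]
  exact h1

/-- The image of a normal subgroup of `↥C` is normalized by `C`. -/
theorem le_normalizer_map_subtype (C : Subgroup G) (N : Subgroup ↥C) [hN : N.Normal] :
    C ≤ Subgroup.normalizer ((N.map C.subtype : Subgroup G) : Set G) := by
  have h1 := Subgroup.le_normalizer_map (H := N) C.subtype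
  rw [Subgroup.normalizer_eq_top, ← MonoidHom.range_eq_map, Subgroup.range_subtype] at h1
  exact h1

end transport

end Cfsg.Agent.Helper3.S1775
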