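import Mathlib
import Cfsg.Agent.Helper7.S4017Defs

/-!
# S4017, piece (P10) `no_normal_p` (helper3, for helper7's skeleton)
-/

set_option autoImplicit false

namespace Cfsg.Agent.Helper7.S4017

universe u

variable {G : Type u} [Group G] [Finite G] {p q : ℕ}

theorem no_normal_p (hyp : Hyp G p q) (h1 : H1 G p q) (hc : ¬ Concl G p q)
    (IH : ∀ (N : Subgroup G) [N.Normal], N ≠ ⊥ → Hyp (G ⧸ N) p q → Concl (G ⧸ N) p q) :
    ∀ (N : Subgroup G), N.Normal → IsPGroup p N → N = ⊥ := by
  intro N hN hNp
  by_contra hNbot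
  obtain ⟨hp, hq, hpq, hp2, hpG, hqG, hmix, hlarge⟩ := hyp
  obtain ⟨r, hr, hrG, hrp, hrq⟩ : ∃ r : ℕ, r.Prime ∧ r ∣ Nat.card G ∧ r ≠ p ∧ r ≠ q := by
    by_contra hno
    apply hc
    intro r hr hrG
    by_contra hrr
    rw [not_or] at hrr
    exact hno ⟨r, hr, hrG, hrr.1, hrr.2⟩
  have : Fact p.Prime := ⟨hp⟩
  obtain ⟨k, hk⟩ := IsPGroup.iff_card.mp hNp
  have hcard : Nat.card G = Nat.card (G ⧸ N) * Nat.card N :=
    Subgroup.card_eq_card_quotient_mul_card_subgroup N
  have hdvdQ : ∀ l : ℕ, l.Prime → l ≠ p → l ∣ Nat.card G → l ∣ Nat.card (G ⧸ N) := by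
    intro l hl hlp hlG
    rw [hcard, hk] at hlG
    rcases (Nat.Prime.dvd_mul hl).mp hlG with h | h
    · exact h
    · exact absurd ((Nat.prime_dvd_prime_iff_eq hl hp).mp (hl.dvd_of_dvd_pow h)) hlp
  have hqQ := hdvdQ q hq hpq.symm hqG
  have hrQ := hdvdQ r hr hrp hrG
  have hsurj : Function.Surjective (QuotientGroup.mk' N) := QuotientGroup.mk'_surjective N
  by_cases hpQ : p ∣ Nat.card (G ⧸ N)
  · -- case 1: the quotient satisfies the hypotheses
    have hypQ : Hyp (G ⧸ N) p q := by
      refine ⟨hp, hq, hpq, hp2, hpQ, hqQ, ?_, ?_⟩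
      · intro Kb hKtop hKq hqK
        obtain ⟨K, hKdef⟩ : ∃ K : Subgroup G, K = Kb.comap (QuotientGroup.mk' N) := ⟨_, rfl⟩
        have hmap : K.map (QuotientGroup.mk' N) = Kb := by
          rw [hKdef]; exact Subgroup.map_comap_eq_self_of_surjective hsurj Kb
        have hKne : K ≠ ⊤ := by
          intro h
          apply hKtop
          rw [← hmap, h, ← MonoidHom.range_eq_map, MonoidHom.range_eq_top.mpr hsurj]
        have hdvd : Nat.card Kb ∣ Nat.card K := by
          rw [← hmap]; exact K.card_map_dvd (QuotientGroup.mk' N)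
        have hqK' : q ∣ Nat.card K := hqK.trans hdvd
        have hpq' : ∀ l : ℕ, l.Prime → l ∣ Nat.card Kb → l = p ∨ l = q :=
          fun l hl hlK => h1 K hKne hqK' l hl (hlK.trans hdvd)
        by_contra hpK
        apply hKq
        have h2 := Nat.eq_prime_pow_of_unique_prime_dvd (n := Nat.card Kb) (p := q)
          Nat.card_pos.ne' (fun {d} hd hdK => by
            rcases hpq' d hd hdK with h | h
            · exact absurd (h ▸ hdK) hpK
            · exact h)
        exact IsPGroup.of_card h2
      · have hfac : (Nat.card (G ⧸ N)).factorization q = (Nat.card G).factorization q := by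
          rw [hcard, Nat.factorization_mul Nat.card_pos.ne' Nat.card_pos.ne', hk,
            Nat.factorization_pow, hp.factorization]
          simp [hpq]
        rw [hfac]
        rcases hlarge with h | ⟨h, hab⟩
        · exact Or.inl h
        · refine Or.inr ⟨h, ?_⟩
          intro Pb
          rw [isMulCommutative_iff]
          intro x y
          obtain ⟨P0, hP0⟩ := IsPGroup.exists_le_sylow
            (IsPGroup.comap_of_ker_isPGroup Pb.isPGroup' (QuotientGroup.mk' N)
              (by rw [QuotientGroup.ker_mk']; exact hNp))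
          obtain ⟨a, ha⟩ := hsurj (x : G ⧸ N)
          obtain ⟨b, hb⟩ := hsurj (y : G ⧸ N)
          have haP : a ∈ (P0 : Subgroup G) := hP0 (by
            rw [Subgroup.mem_comap, ha]; exact x.2)
          have hbP : b ∈ (P0 : Subgroup G) := hP0 (by
            rw [Subgroup.mem_comap, hb]; exact y.2)
          have hcomm := (isMulCommutative_iff.mp (hab P0)) ⟨a, haP⟩ ⟨b, hbP⟩
          have hab' : a * b = b * a := congrArg Subtype.val hcomm
          apply Subtype.ext
          rw [Subgroup.coe_mul, Subgroup.coe_mul, ← ha, ← hb, ← map_mul, ← map_mul, hab']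
    rcases IH N hNbot hypQ r hr hrQ with h | h
    · exact hrp h
    · exact hrq h
  · -- case 2: `N` is a normal Hall subgroup; Schur–Zassenhaus
    have hcop : Nat.Coprime (Nat.card N) N.index := by
      rw [hk, Subgroup.index_eq_card]
      apply Nat.Coprime.pow_left
      exact (Nat.Prime.coprime_iff_not_dvd hp).mpr hpQ
    obtain ⟨K, hK⟩ := Subgroup.exists_right_complement'_of_coprime hcop
    have hKcard : Nat.card K = Nat.card (G ⧸ N) := by
      have h3 := hK.card_mul_card
      rw [hcard, mul_comm] at h3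
      exact Nat.eq_of_mul_eq_mul_right Nat.card_pos h3
    have hKtop : K ≠ ⊤ := by
      intro h
      apply hpQ
      rw [← hKcard, h, Subgroup.card_top]
      exact hpG
    rcases h1 K hKtop (hKcard ▸ hqQ) r hr (hKcard ▸ hrQ) with h | h
    · exact hrp h
    · exact hrq h

end Cfsg.Agent.Helper7.S4017
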