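import Mathlib
import Cfsg.Agent.Helper7.S4017Defs
import Cfsg.Agent.Helper1.Card

/-!
# S4017, piece (P11) `simple_of` (helper3, for helper7's skeleton)
-/

set_option autoImplicit false

namespace Cfsg.Agent.Helper7.S4017

universe u

variable {G : Type u} [Group G] [Finite G] {p q : ℕ}

/-- A join `A B` of an `l₁`-group `A` and an `l₂`-group `B` normalizing it (`l₁, l₂ ≠ p`) cannot have
order divisible by `q` and by a prime outside `{p, q}`. -/
theorem h3_sup_false (hp : p.Prime) (hpG : p ∣ Nat.card G) (h1 : H1 G p q)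
    {A B : Subgroup G} (hB : B ≤ Subgroup.normalizer (A : Set G))
    {l₁ l₂ i j : ℕ} (hl₁ : l₁.Prime) (hl₂ : l₂.Prime) (hl₁p : l₁ ≠ p) (hl₂p : l₂ ≠ p)
    (hA : Nat.card A = l₁ ^ i) (hBc : Nat.card B = l₂ ^ j)
    (hq : q ∣ Nat.card (A ⊔ B : Subgroup G))
    {r : ℕ} (hr : r.Prime) (hrp : r ≠ p) (hrq : r ≠ q)
    (hrd : r ∣ Nat.card (A ⊔ B : Subgroup G)) : False := by
  by_cases htop : A ⊔ B = ⊤
  · have hdvd : Nat.card (A ⊔ B : Subgroup G) ∣ Nat.card A * Nat.card B :=
      Dvd.intro _ (Cfsg.Agent.Helper1.card_sup_mul_card_inf hB)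
    have hG : Nat.card G = Nat.card (A ⊔ B : Subgroup G) := by rw [htop, Subgroup.card_top]
    rw [hG] at hpG
    have h2 := hpG.trans hdvd
    rw [hA, hBc] at h2
    rcases (Nat.Prime.dvd_mul hp).mp h2 with h | h
    · exact hl₁p ((Nat.prime_dvd_prime_iff_eq hp hl₁).mp (hp.dvd_of_dvd_pow h)).symm
    · exact hl₂p ((Nat.prime_dvd_prime_iff_eq hp hl₂).mp (hp.dvd_of_dvd_pow h)).symm
  · rcases h1 _ htop hq r hr hrd with h | h
    · exact hrp h
    · exact hrq h

/-- Frattini, order form: for `N ⊴ G` and a Sylow subgroup `S` of `N`,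
`|G|` divides `|N| |N_G(S)|`. -/
theorem h3_frattini_card {l : ℕ} [Fact l.Prime] (N : Subgroup G) [N.Normal] (S : Sylow l N) :
    Nat.card G ∣ Nat.card N *
      Nat.card (Subgroup.normalizer (((S : Subgroup N).map N.subtype : Subgroup G) : Set G)) := by
  have hfrat := Sylow.normalizer_sup_eq_top S
  have h := Cfsg.Agent.Helper1.card_sup_mul_card_inf (N := N)
    (A := Subgroup.normalizer (((S : Subgroup N).map N.subtype : Subgroup G) : Set G))
    Subgroup.le_normalizer_of_normal
  rw [sup_comm, hfrat, Subgroup.card_top] at h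
  exact Dvd.intro _ h

theorem h3_sylow_map_card {l : ℕ} [Fact l.Prime] (N : Subgroup G) (S : Sylow l N) :
    Nat.card ((S : Subgroup N).map N.subtype : Subgroup G) =
      l ^ (Nat.card N).factorization l := by
  rw [Subgroup.card_map_of_injective N.subtype_injective]
  exact S.card_eq_multiplicity

theorem simple_of (hyp : Hyp G p q) (h1 : H1 G p q) (hc : ¬ Concl G p q)
    (hnp : ∀ (N : Subgroup G), N.Normal → IsPGroup p N → N = ⊥) :
    ∀ N : Subgroup G, N.Normal → N = ⊥ ∨ N = ⊤ := by
  obtain ⟨hp, hq, hpq, hp2, hpG, hqG, hmix, hlarge⟩ := hyp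
  intro N hN
  by_contra hcon
  rw [not_or] at hcon
  obtain ⟨hNbot, hNtop⟩ := hcon
  obtain ⟨r, hr, hrG, hrp, hrq⟩ : ∃ r : ℕ, r.Prime ∧ r ∣ Nat.card G ∧ r ≠ p ∧ r ≠ q := by
    by_contra hno
    apply hc
    intro r hr hrG
    by_contra hrr
    rw [not_or] at hrr
    exact hno ⟨r, hr, hrG, hrr.1, hrr.2⟩
  have : Fact q.Prime := ⟨hq⟩
  have : Fact r.Prime := ⟨hr⟩
  by_cases hqN : q ∣ Nat.card N
  · -- case (a): `q ∣ |N|`
    have S : Sylow q N := default
    have hfr := h3_frattini_card N S
    have hcard := h3_sylow_map_card N S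
    obtain ⟨S', hS'⟩ : ∃ S' : Subgroup G, S' = (S : Subgroup N).map N.subtype := ⟨_, rfl⟩
    rw [← hS'] at hfr hcard
    have hfpos : 0 < (Nat.card N).factorization q :=
      hq.factorization_pos_of_dvd Nat.card_pos.ne' hqN
    have hqS' : q ∣ Nat.card S' := by rw [hcard]; exact dvd_pow_self q hfpos.ne'
    have hnorm : Subgroup.normalizer (S' : Set G) = ⊤ := by
      by_contra hne
      rcases (Nat.Prime.dvd_mul hr).mp (hrG.trans hfr) with h | h
      · rcases h1 N hNtop hqN r hr h with h' | h'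
        · exact hrp h'
        · exact hrq h'
      · have hq' : q ∣ Nat.card (Subgroup.normalizer (S' : Set G)) :=
          hqS'.trans (Subgroup.card_dvd_of_le Subgroup.le_normalizer)
        rcases h1 _ hne hq' r hr h with h' | h'
        · exact hrp h'
        · exact hrq h'
    obtain ⟨x, hx⟩ := exists_prime_orderOf_dvd_card' r hrG
    have hBc : Nat.card (Subgroup.zpowers x) = r ^ 1 := by rw [Nat.card_zpowers, hx, pow_one]
    refine h3_sup_false hp hpG h1 (A := S') (B := Subgroup.zpowers x) (by rw [hnorm]; exact le_top)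
      hq hr hpq.symm hrp hcard hBc
      (hqS'.trans (Subgroup.card_dvd_of_le le_sup_left)) hr hrp hrq ?_
    have : r ∣ Nat.card (Subgroup.zpowers x) := by rw [hBc, pow_one]
    exact this.trans (Subgroup.card_dvd_of_le le_sup_right)
  · -- case (b): `q ∤ |N|`
    by_cases hall : ∀ l : ℕ, l.Prime → l ∣ Nat.card N → l = p
    · apply hNbot
      apply hnp N hN
      have h2 := Nat.eq_prime_pow_of_unique_prime_dvd (n := Nat.card N) (p := p)
        Nat.card_pos.ne' (fun {d} hd hdN => hall d hd hdN)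
      exact IsPGroup.of_card h2
    · push Not at hall
      obtain ⟨l, hl, hlN, hlp⟩ := hall
      have hlq : l ≠ q := by
        rintro rfl
        exact hqN hlN
      have : Fact l.Prime := ⟨hl⟩
      have R : Sylow l N := default
      have hfr := h3_frattini_card N R
      have hcard := h3_sylow_map_card N R
      obtain ⟨R', hR'⟩ : ∃ R' : Subgroup G, R' = (R : Subgroup N).map N.subtype := ⟨_, rfl⟩
      rw [← hR'] at hfr hcard
      have hfpos : 0 < (Nat.card N).factorization l :=
        hl.factorization_pos_of_dvd Nat.card_pos.ne' hlN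
      have hlR' : l ∣ Nat.card R' := by rw [hcard]; exact dvd_pow_self l hfpos.ne'
      have hqn : q ∣ Nat.card (Subgroup.normalizer (R' : Set G)) := by
        rcases (Nat.Prime.dvd_mul hq).mp (hqG.trans hfr) with h | h
        · exact absurd h hqN
        · exact h
      obtain ⟨x, hx⟩ := exists_prime_orderOf_dvd_card' q hqn
      have hxo : orderOf (x : G) = q := by rw [Subgroup.orderOf_coe, hx]
      have hBc : Nat.card (Subgroup.zpowers (x : G)) = q ^ 1 := by
        rw [Nat.card_zpowers, hxo, pow_one]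
      have hBle : Subgroup.zpowers (x : G) ≤ Subgroup.normalizer (R' : Set G) := by
        rw [Subgroup.zpowers_le]
        exact x.2
      refine h3_sup_false hp hpG h1 (A := R') (B := Subgroup.zpowers (x : G)) hBle
        hl hq hlp hpq.symm hcard hBc ?_ hl hlp hlq
        (hlR'.trans (Subgroup.card_dvd_of_le le_sup_left))
      have : q ∣ Nat.card (Subgroup.zpowers (x : G)) := by rw [hBc, pow_one]
      exact this.trans (Subgroup.card_dvd_of_le le_sup_right)

end Cfsg.Agent.Helper7.S4017
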