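import Mathlib
import Cfsg.Agent.Helper7.SLTransfer

set_option autoImplicit false

/-!
The set of element orders of `SL₃(3) = PSL₃(3)` is `{1, 2, 3, 4, 6, 8, 13}`, by a brute force
enumeration of the `3 × 3` matrices over `ZMod 3`, encoded as natural numbers in base 3.
-/

namespace Cfsg.Agent.Helper3.SL33

/-- `3 × 3` matrices over the field with three elements -/
abbrev M3 := Matrix (Fin 3) (Fin 3) (ZMod 3)

/-- base 3 digit -/
def dig (m k : ℕ) : ℕ := (m / 3 ^ k) % 3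

/-- product of encoded 3 x 3 matrices over the field with 3 elements -/
def mulN (a b : ℕ) : ℕ :=
  ((dig a 0 * dig b 0 + dig a 1 * dig b 3 + dig a 2 * dig b 6) % 3) +
  ((dig a 0 * dig b 1 + dig a 1 * dig b 4 + dig a 2 * dig b 7) % 3) * 3 +
  ((dig a 0 * dig b 2 + dig a 1 * dig b 5 + dig a 2 * dig b 8) % 3) * 9 +
  ((dig a 3 * dig b 0 + dig a 4 * dig b 3 + dig a 5 * dig b 6) % 3) * 27 +
  ((dig a 3 * dig b 1 + dig a 4 * dig b 4 + dig a 5 * dig b 7) % 3) * 81 +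
  ((dig a 3 * dig b 2 + dig a 4 * dig b 5 + dig a 5 * dig b 8) % 3) * 243 +
  ((dig a 6 * dig b 0 + dig a 7 * dig b 3 + dig a 8 * dig b 6) % 3) * 729 +
  ((dig a 6 * dig b 1 + dig a 7 * dig b 4 + dig a 8 * dig b 7) % 3) * 2187 +
  ((dig a 6 * dig b 2 + dig a 7 * dig b 5 + dig a 8 * dig b 8) % 3) * 6561

/-- determinant mod 3 (signs replaced by multiplication by 2) -/
def detN (n : ℕ) : ℕ :=
  (dig n 0 * dig n 4 * dig n 8 + 2 * (dig n 0 * dig n 5 * dig n 7) + 2 * (dig n 1 * dig n 3 * dig n 8)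
    + dig n 1 * dig n 5 * dig n 6 + dig n 2 * dig n 3 * dig n 7 + 2 * (dig n 2 * dig n 4 * dig n 6)) % 3

/-- encoded square -/
def p2 (n : ℕ) : ℕ := mulN n n
/-- encoded fourth power -/
def p4 (n : ℕ) : ℕ := p2 (p2 n)
/-- encoded eighth power -/
def p8 (n : ℕ) : ℕ := p2 (p4 n)
/-- encoded sixth power -/
def p6 (n : ℕ) : ℕ := mulN (p4 n) (p2 n)
/-- encoded thirteenth power -/
def p13 (n : ℕ) : ℕ := mulN (mulN (p8 n) (p4 n)) n
/-- encoded cube -/
def p3 (n : ℕ) : ℕ := mulN (p2 n) n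

/-- the check -/
def chk (n : ℕ) : Bool :=
  detN n != 1 || (p8 n == 6643 || p6 n == 6643 || p13 n == 6643)

set_option maxRecDepth 100000 in
theorem brute : ∀ a < 141, ∀ b < 141, chk (141 * a + b) = true := by
  decide +kernel

/-- decoding -/
def mat (n : ℕ) : M3 := Matrix.of fun i j => ((dig n (3 * i.val + j.val) : ℕ) : ZMod 3)

theorem dig_code (c0 c1 c2 c3 c4 c5 c6 c7 c8 : ℕ) (h0 : c0 < 3) (h1 : c1 < 3) (h2 : c2 < 3)
    (h3 : c3 < 3) (h4 : c4 < 3) (h5 : c5 < 3) (h6 : c6 < 3) (h7 : c7 < 3) (h8 : c8 < 3) :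
    dig (c0 + c1 * 3 + c2 * 9 + c3 * 27 + c4 * 81 + c5 * 243 + c6 * 729 + c7 * 2187 + c8 * 6561) 0 = c0 ∧
    dig (c0 + c1 * 3 + c2 * 9 + c3 * 27 + c4 * 81 + c5 * 243 + c6 * 729 + c7 * 2187 + c8 * 6561) 1 = c1 ∧
    dig (c0 + c1 * 3 + c2 * 9 + c3 * 27 + c4 * 81 + c5 * 243 + c6 * 729 + c7 * 2187 + c8 * 6561) 2 = c2 ∧
    dig (c0 + c1 * 3 + c2 * 9 + c3 * 27 + c4 * 81 + c5 * 243 + c6 * 729 + c7 * 2187 + c8 * 6561) 3 = c3 ∧
    dig (c0 + c1 * 3 + c2 * 9 + c3 * 27 + c4 * 81 + c5 * 243 + c6 * 729 + c7 * 2187 + c8 * 6561) 4 = c4 ∧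
    dig (c0 + c1 * 3 + c2 * 9 + c3 * 27 + c4 * 81 + c5 * 243 + c6 * 729 + c7 * 2187 + c8 * 6561) 5 = c5 ∧
    dig (c0 + c1 * 3 + c2 * 9 + c3 * 27 + c4 * 81 + c5 * 243 + c6 * 729 + c7 * 2187 + c8 * 6561) 6 = c6 ∧
    dig (c0 + c1 * 3 + c2 * 9 + c3 * 27 + c4 * 81 + c5 * 243 + c6 * 729 + c7 * 2187 + c8 * 6561) 7 = c7 ∧
    dig (c0 + c1 * 3 + c2 * 9 + c3 * 27 + c4 * 81 + c5 * 243 + c6 * 729 + c7 * 2187 + c8 * 6561) 8 = c8 := by
  unfold dig
  norm_num
  refine ⟨?_, ?_, ?_, ?_, ?_, ?_, ?_, ?_, ?_⟩ <;> omega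


theorem dig_lt (m k : ℕ) : dig m k < 3 := Nat.mod_lt _ (by norm_num)

theorem dig_mulN (a b : ℕ) :
    dig (mulN a b) 0 = (dig a 0 * dig b 0 + dig a 1 * dig b 3 + dig a 2 * dig b 6) % 3 ∧
    dig (mulN a b) 1 = (dig a 0 * dig b 1 + dig a 1 * dig b 4 + dig a 2 * dig b 7) % 3 ∧
    dig (mulN a b) 2 = (dig a 0 * dig b 2 + dig a 1 * dig b 5 + dig a 2 * dig b 8) % 3 ∧
    dig (mulN a b) 3 = (dig a 3 * dig b 0 + dig a 4 * dig b 3 + dig a 5 * dig b 6) % 3 ∧
    dig (mulN a b) 4 = (dig a 3 * dig b 1 + dig a 4 * dig b 4 + dig a 5 * dig b 7) % 3 ∧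
    dig (mulN a b) 5 = (dig a 3 * dig b 2 + dig a 4 * dig b 5 + dig a 5 * dig b 8) % 3 ∧
    dig (mulN a b) 6 = (dig a 6 * dig b 0 + dig a 7 * dig b 3 + dig a 8 * dig b 6) % 3 ∧
    dig (mulN a b) 7 = (dig a 6 * dig b 1 + dig a 7 * dig b 4 + dig a 8 * dig b 7) % 3 ∧
    dig (mulN a b) 8 = (dig a 6 * dig b 2 + dig a 7 * dig b 5 + dig a 8 * dig b 8) % 3 := by
  unfold mulN
  exact dig_code _ _ _ _ _ _ _ _ _ (Nat.mod_lt _ (by norm_num)) (Nat.mod_lt _ (by norm_num))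
    (Nat.mod_lt _ (by norm_num)) (Nat.mod_lt _ (by norm_num)) (Nat.mod_lt _ (by norm_num))
    (Nat.mod_lt _ (by norm_num)) (Nat.mod_lt _ (by norm_num)) (Nat.mod_lt _ (by norm_num))
    (Nat.mod_lt _ (by norm_num))

theorem mat_mulN (a b : ℕ) : mat (mulN a b) = mat a * mat b := by
  obtain ⟨h0, h1, h2, h3, h4, h5, h6, h7, h8⟩ := dig_mulN a b
  ext i j
  fin_cases i <;> fin_cases j <;>
    simp [mat, Matrix.mul_apply, Fin.sum_univ_three, h0, h1, h2, h3, h4, h5, h6, h7, h8]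


/-- encoding -/
def code (M : M3) : ℕ :=
  (M 0 0).val + (M 0 1).val * 3 + (M 0 2).val * 9 + (M 1 0).val * 27 + (M 1 1).val * 81 +
    (M 1 2).val * 243 + (M 2 0).val * 729 + (M 2 1).val * 2187 + (M 2 2).val * 6561

theorem code_lt (M : M3) : code M < 19683 := by
  unfold code
  have h := fun i j => ZMod.val_lt (M i j)
  have h00 := h 0 0
  have h01 := h 0 1
  have h02 := h 0 2
  have h10 := h 1 0
  have h11 := h 1 1
  have h12 := h 1 2
  have h20 := h 2 0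
  have h21 := h 2 1
  have h22 := h 2 2
  omega

theorem mat_code (M : M3) : mat (code M) = M := by
  have h := fun i j => ZMod.val_lt (M i j)
  obtain ⟨h0, h1, h2, h3, h4, h5, h6, h7, h8⟩ := dig_code _ _ _ _ _ _ _ _ _
    (h 0 0) (h 0 1) (h 0 2) (h 1 0) (h 1 1) (h 1 2) (h 2 0) (h 2 1) (h 2 2)
  ext i j
  fin_cases i <;> fin_cases j <;>
    simp [mat, code, h0, h1, h2, h3, h4, h5, h6, h7, h8]

theorem det_mat (n : ℕ) : (mat n).det = ((detN n : ℕ) : ZMod 3) := by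
  rw [Matrix.det_fin_three]
  have h2 : (2 : ZMod 3) = -1 := by decide
  simp [mat, detN, h2]
  ring

theorem detN_eq_one (n : ℕ) (h : (mat n).det = 1) : detN n = 1 := by
  rw [det_mat] at h
  have h1 := congrArg ZMod.val h
  rw [ZMod.val_natCast, ZMod.val_one] at h1
  have h3 : detN n < 3 := Nat.mod_lt _ (by norm_num)
  rwa [Nat.mod_eq_of_lt h3] at h1

theorem mat_one : mat 6643 = 1 := by decide

theorem mat_p2 (n : ℕ) : mat (p2 n) = mat n ^ 2 := by
  rw [p2, mat_mulN, pow_two]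

theorem mat_p4 (n : ℕ) : mat (p4 n) = mat n ^ 4 := by
  rw [p4, mat_p2, mat_p2, ← pow_mul]

theorem mat_p8 (n : ℕ) : mat (p8 n) = mat n ^ 8 := by
  rw [p8, mat_p2, mat_p4, ← pow_mul]

theorem mat_p6 (n : ℕ) : mat (p6 n) = mat n ^ 6 := by
  rw [p6, mat_mulN, mat_p4, mat_p2, ← pow_add]

theorem mat_p13 (n : ℕ) : mat (p13 n) = mat n ^ 13 := by
  rw [p13, mat_mulN, mat_mulN, mat_p8, mat_p4, ← pow_add, ← pow_succ]

theorem mat_p3 (n : ℕ) : mat (p3 n) = mat n ^ 3 := by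
  rw [p3, mat_mulN, mat_p2, ← pow_succ]

/-- every matrix of determinant one has order dividing 8, 6 or 13 -/
theorem pow_cases (M : M3) (hM : M.det = 1) : M ^ 8 = 1 ∨ M ^ 6 = 1 ∨ M ^ 13 = 1 := by
  have hlt := code_lt M
  have hb := brute (code M / 141) (by omega) (code M % 141) (by omega)
  rw [show 141 * (code M / 141) + code M % 141 = code M by omega] at hb
  have hd : detN (code M) = 1 := detN_eq_one _ (by rw [mat_code]; exact hM)
  unfold chk at hb
  rw [hd] at hb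
  simp only [bne_self_eq_false, Bool.false_or, Bool.or_eq_true, beq_iff_eq] at hb
  rcases hb with (hb | hb) | hb
  · left
    rw [← mat_code M, ← mat_p8, hb, mat_one]
  · right; left
    rw [← mat_code M, ← mat_p6, hb, mat_one]
  · right; right
    rw [← mat_code M, ← mat_p13, hb, mat_one]


/-- the group `SL₃(3)` -/
abbrev SL3 := Matrix.SpecialLinearGroup (Fin 3) (ZMod 3)

theorem mem_of_dvd8 (n : ℕ) (h : n ∣ 8) : n ∈ ({1, 2, 3, 4, 6, 8, 13} : Set ℕ) := by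
  have h1 : n ∈ Nat.divisors 8 := Nat.mem_divisors.2 ⟨h, by norm_num⟩
  rw [show Nat.divisors 8 = {1, 2, 4, 8} by decide] at h1
  simp only [Finset.mem_insert, Finset.mem_singleton] at h1
  rcases h1 with rfl | rfl | rfl | rfl <;> simp

theorem mem_of_dvd6 (n : ℕ) (h : n ∣ 6) : n ∈ ({1, 2, 3, 4, 6, 8, 13} : Set ℕ) := by
  have h1 : n ∈ Nat.divisors 6 := Nat.mem_divisors.2 ⟨h, by norm_num⟩
  rw [show Nat.divisors 6 = {1, 2, 3, 6} by decide] at h1
  simp only [Finset.mem_insert, Finset.mem_singleton] at h1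
  rcases h1 with rfl | rfl | rfl | rfl <;> simp

theorem mem_of_dvd13 (n : ℕ) (h : n ∣ 13) : n ∈ ({1, 2, 3, 4, 6, 8, 13} : Set ℕ) := by
  have h1 : n ∈ Nat.divisors 13 := Nat.mem_divisors.2 ⟨h, by norm_num⟩
  rw [show Nat.divisors 13 = {1, 13} by decide] at h1
  simp only [Finset.mem_insert, Finset.mem_singleton] at h1
  rcases h1 with rfl | rfl <;> simp

theorem orderOf_mem (g : SL3) : orderOf g ∈ ({1, 2, 3, 4, 6, 8, 13} : Set ℕ) := by
  rcases pow_cases g.1 g.2 with h | h | h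
  · apply mem_of_dvd8
    apply orderOf_dvd_of_pow_eq_one
    apply Subtype.ext
    rw [Matrix.SpecialLinearGroup.coe_pow, h]
    rfl
  · apply mem_of_dvd6
    apply orderOf_dvd_of_pow_eq_one
    apply Subtype.ext
    rw [Matrix.SpecialLinearGroup.coe_pow, h]
    rfl
  · apply mem_of_dvd13
    apply orderOf_dvd_of_pow_eq_one
    apply Subtype.ext
    rw [Matrix.SpecialLinearGroup.coe_pow, h]
    rfl

/-- element of `SL₃(3)` from its code -/
def ofCode (n : ℕ) (h : detN n = 1) : SL3 := ⟨mat n, by rw [det_mat, h, Nat.cast_one]⟩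

theorem ofCode_pow_eq_one_iff (n : ℕ) (h : detN n = 1) (k : ℕ) :
    ofCode n h ^ k = 1 ↔ mat n ^ k = 1 := by
  constructor
  · intro hk
    have := congrArg Subtype.val hk
    rwa [Matrix.SpecialLinearGroup.coe_pow] at this
  · intro hk
    apply Subtype.ext
    rw [Matrix.SpecialLinearGroup.coe_pow]
    exact hk

/-- an element of order 8 -/
def g8 : SL3 := ofCode 3978 (by decide)
/-- an element of order 6 -/
def g6 : SL3 := ofCode 8109 (by decide)
/-- an element of order 13 -/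
def g13 : SL3 := ofCode 10539 (by decide)

theorem orderOf_g8 : orderOf g8 = 8 := by
  have h := orderOf_eq_prime_pow (x := g8) (p := 2) (n := 2) ?_ ?_
  · simpa using h
  · rw [show (2 : ℕ) ^ 2 = 4 by norm_num, g8, ofCode_pow_eq_one_iff, ← mat_p4]
    decide
  · rw [show (2 : ℕ) ^ (2 + 1) = 8 by norm_num, g8, ofCode_pow_eq_one_iff, ← mat_p8]
    decide

theorem orderOf_g13 : orderOf g13 = 13 := by
  have : Fact (Nat.Prime 13) := ⟨by norm_num⟩
  apply orderOf_eq_prime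
  · rw [g13, ofCode_pow_eq_one_iff, ← mat_p13]
    decide
  · intro h
    have := congrArg Subtype.val h
    revert this
    rw [g13, ofCode]
    decide

theorem orderOf_g6 : orderOf g6 = 6 := by
  have h6 : g6 ^ 6 = 1 := by
    rw [g6, ofCode_pow_eq_one_iff, ← mat_p6]
    decide
  have h2 : g6 ^ 2 ≠ 1 := by
    rw [g6, Ne, ofCode_pow_eq_one_iff, ← mat_p2]
    decide
  have h3 : g6 ^ 3 ≠ 1 := by
    rw [g6, Ne, ofCode_pow_eq_one_iff, ← mat_p3]
    decide
  have hd : orderOf g6 ∈ Nat.divisors 6 :=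
    Nat.mem_divisors.2 ⟨orderOf_dvd_of_pow_eq_one h6, by norm_num⟩
  rw [show Nat.divisors 6 = {1, 2, 3, 6} by decide] at hd
  simp only [Finset.mem_insert, Finset.mem_singleton] at hd
  rcases hd with h | h | h | h
  · exfalso
    rw [orderOf_eq_one_iff] at h
    apply h2
    rw [h, one_pow]
  · exfalso
    apply h2
    have := pow_orderOf_eq_one g6
    rwa [h] at this
  · exfalso
    apply h3
    have := pow_orderOf_eq_one g6
    rwa [h] at this
  · exact h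

theorem range_SL3 : Set.range (orderOf : SL3 → ℕ) = {1, 2, 3, 4, 6, 8, 13} := by
  apply Set.Subset.antisymm
  · rintro _ ⟨g, rfl⟩
    exact orderOf_mem g
  · intro n hn
    simp only [Set.mem_insert_iff, Set.mem_singleton_iff] at hn
    rcases hn with rfl | rfl | rfl | rfl | rfl | rfl | rfl
    · exact ⟨1, orderOf_one⟩
    · refine ⟨g8 ^ 4, ?_⟩
      rw [orderOf_pow_of_dvd (by norm_num) (by rw [orderOf_g8]; norm_num), orderOf_g8]
    · refine ⟨g6 ^ 2, ?_⟩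
      rw [orderOf_pow_of_dvd (by norm_num) (by rw [orderOf_g6]; norm_num), orderOf_g6]
    · refine ⟨g8 ^ 2, ?_⟩
      rw [orderOf_pow_of_dvd (by norm_num) (by rw [orderOf_g8]; norm_num), orderOf_g8]
    · exact ⟨g6, orderOf_g6⟩
    · exact ⟨g8, orderOf_g8⟩
    · exact ⟨g13, orderOf_g13⟩

theorem range_orderOf_congr {A B : Type*} [Group A] [Group B] (e : A ≃* B) :
    Set.range (orderOf : A → ℕ) = Set.range (orderOf : B → ℕ) := by
  ext n
  constructor
  · rintro ⟨x, rfl⟩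
    exact ⟨e x, e.orderOf_eq x⟩
  · rintro ⟨y, rfl⟩
    exact ⟨e.symm y, e.symm.orderOf_eq y⟩

theorem center_SL3 : Subgroup.center SL3 = ⊥ := by
  rw [eq_bot_iff]
  intro A hA
  rw [Matrix.SpecialLinearGroup.mem_center_iff] at hA
  obtain ⟨r, hr, hA⟩ := hA
  rw [Fintype.card_fin] at hr
  have h1 : r = 1 := by
    clear hA
    revert hr
    revert r
    decide
  rw [Subgroup.mem_bot]
  apply Subtype.ext
  rw [← hA, h1, map_one]
  rfl

/-- the spectrum of `PSL₃(F)` for a field with three elements -/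
theorem range_PSL3 {F : Type*} [Field F] [Fintype F] (hF : Fintype.card F = 3) :
    Set.range (orderOf : Matrix.ProjectiveSpecialLinearGroup (Fin 3) F → ℕ) =
      {1, 2, 3, 4, 6, 8, 13} := by
  have e1 : Matrix.ProjectiveSpecialLinearGroup (Fin 3) F ≃*
      Matrix.ProjectiveSpecialLinearGroup (Fin 3) (ZMod 3) :=
    Cfsg.Agent.Helper7.SLTransfer.pslEquiv (ZMod.ringEquivOfPrime F Nat.prime_three hF).symm
  have e2 : Matrix.ProjectiveSpecialLinearGroup (Fin 3) (ZMod 3) ≃* SL3 :=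
    (QuotientGroup.quotientMulEquivOfEq center_SL3).trans QuotientGroup.quotientBot
  rw [range_orderOf_congr (e1.trans e2), range_SL3]

end Cfsg.Agent.Helper3.SL33
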