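import Mathlib
import Cfsg.Prelude.Def_GeometricClasses
import Cfsg.Agent.Helper9.AschPPUMain
import Cfsg.Agent.Helper9.AschPPFinalA

/-!
# `SU_6(q)` (S5802): final assembly modulo the two `q = 2` filters (helper3)

`asch_gen_max_unitary` at `n = 6`; the decompositions into six non-degenerate points and the
degree-3 field normalisers must be shown non-maximal for `q = 2` (hypotheses `hA`, `hB`).
-/

set_option autoImplicit false
set_option linter.unusedVariables false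

namespace Cfsg.Agent.Helper3.SU6

open Cfsg Cfsg.Geo Cfsg.Agent.Lead.Asch Cfsg.Agent.Helper3.AschCU Cfsg.Agent.Helper9.AschPP
  Cfsg.Agent.Helper9.AschPPU
open scoped MatrixGroups Matrix Kronecker

/-- slot A: the frame stabiliser of `SU_6(2)` is not maximal -/
def FrameStmt (F : Type*) [Field F] [Fintype F] : Prop :=
  ∀ D : Fin 6 → Submodule F (Fin 6 → F), IsNondegenerateMDecomposition (hermForm 6 F 2) 1 D →
    ¬ IsMaximalIn (GU 6 F 2 ⊓ specialLinear (Fin 6) F)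
      (decompositionStabilizer D ⊓ (GU 6 F 2 ⊓ specialLinear (Fin 6) F))

/-- slot B: the normaliser of a degree-3 field in `SU_6(2)` is not maximal -/
def FieldStmt (F : Type*) [Field F] [Fintype F] : Prop :=
  ∀ K : Subalgebra F (Matrix (Fin 6) (Fin 6) F), IsFieldSubalgebra 3 K →
    IsAdjointClosedFor (hermForm 6 F 2) K →
    ¬ IsMaximalIn (GU 6 F 2 ⊓ specialLinear (Fin 6) F)
      (subalgebraNormalizer K ⊓ (GU 6 F 2 ⊓ specialLinear (Fin 6) F))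

theorem final6U {F : Type*} [Field F] [Fintype F] (q : ℕ) (hF : Fintype.card F = q ^ 2)
    (hA : q = 2 → FrameStmt F) (hB : q = 2 → FieldStmt F)
    (H : Subgroup (Matrix.GeneralLinearGroup (Fin 6) F)) (hH : Cfsg.Geo.IsMaximalIn (Cfsg.GU 6 F q ⊓ Cfsg.Geo.specialLinear (Fin 6) F) H) :

    (∃ W : Submodule F (Fin 6 → F), W ≠ ⊥ ∧ Cfsg.Geo.IsTotallySingularFor (Cfsg.hermForm 6 F q) W ∧ H = Cfsg.Geo.subspaceStabilizer W ⊓ (Cfsg.GU 6 F q ⊓ Cfsg.Geo.specialLinear (Fin 6) F)) ∨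
    (∃ W : Submodule F (Fin 6 → F), W ≠ ⊥ ∧ Cfsg.Geo.IsNondegenerateOn (Cfsg.hermForm 6 F q) W ∧ 2 * Module.finrank F W < 6 ∧ H = Cfsg.Geo.subspaceStabilizer W ⊓ (Cfsg.GU 6 F q ⊓ Cfsg.Geo.specialLinear (Fin 6) F)) ∨
    (3 ≤ q ∧ ∃ D : Fin 6 → Submodule F (Fin 6 → F), Cfsg.Geo.IsNondegenerateMDecomposition (Cfsg.hermForm 6 F q) 1 D ∧ H = Cfsg.Geo.decompositionStabilizer D ⊓ (Cfsg.GU 6 F q ⊓ Cfsg.Geo.specialLinear (Fin 6) F)) ∨
    (3 ≤ q ∧ ∃ D : Fin 3 → Submodule F (Fin 6 → F), Cfsg.Geo.IsNondegenerateMDecomposition (Cfsg.hermForm 6 F q) 2 D ∧ H = Cfsg.Geo.decompositionStabilizer D ⊓ (Cfsg.GU 6 F q ⊓ Cfsg.Geo.specialLinear (Fin 6) F)) ∨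
    (∃ D : Fin 2 → Submodule F (Fin 6 → F), Cfsg.Geo.IsNondegenerateMDecomposition (Cfsg.hermForm 6 F q) 3 D ∧ H = Cfsg.Geo.decompositionStabilizer D ⊓ (Cfsg.GU 6 F q ⊓ Cfsg.Geo.specialLinear (Fin 6) F)) ∨
    (∃ D : Fin 2 → Submodule F (Fin 6 → F), Cfsg.Geo.IsMDecomposition 3 D ∧ (∀ i, Cfsg.Geo.IsTotallySingularFor (Cfsg.hermForm 6 F q) (D i)) ∧ H = Cfsg.Geo.decompositionStabilizer D ⊓ (Cfsg.GU 6 F q ⊓ Cfsg.Geo.specialLinear (Fin 6) F)) ∨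
    (3 ≤ q ∧ ∃ K : Subalgebra F (Matrix (Fin 6) (Fin 6) F), Cfsg.Geo.IsFieldSubalgebra 3 K ∧ Cfsg.Geo.IsAdjointClosedFor (Cfsg.hermForm 6 F q) K ∧ H = Cfsg.Geo.subalgebraNormalizer K ⊓ (Cfsg.GU 6 F q ⊓ Cfsg.Geo.specialLinear (Fin 6) F)) ∨
    (3 ≤ q ∧ ∃ (e : Fin 6 ≃ Fin 2 × Fin 3) (P : Matrix.GeneralLinearGroup (Fin 6) F) (f₁ : (Fin 2 → F) → (Fin 2 → F) → F) (f₂ : (Fin 3 → F) → (Fin 3 → F) → F), Cfsg.Geo.IsUnitaryFormPow q f₁ ∧ Cfsg.Geo.IsUnitaryFormPow q f₂ ∧ Cfsg.Geo.IsTensorFormStructure (fun x : F => x ^ q) (Cfsg.hermForm 6 F q) f₁ f₂ e P ∧ H = Cfsg.Geo.tensorProductSubgroup 2 3 e P ⊓ (Cfsg.GU 6 F q ⊓ Cfsg.Geo.specialLinear (Fin 6) F)) ∨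
    (∃ (F₀ : Subfield F) (r : ℕ) (P : Matrix.GeneralLinearGroup (Fin 6) F), r.Prime ∧ Odd r ∧ Fintype.card F = Nat.card F₀ ^ r ∧ Cfsg.Geo.IsFormRationalStructure (Cfsg.hermForm 6 F q) F₀ 1 P ∧ H = Cfsg.Geo.subfieldSubgroup F₀ P ⊓ (Cfsg.GU 6 F q ⊓ Cfsg.Geo.specialLinear (Fin 6) F)) ∨
    (∃ (F₀ : Subfield F) (P : Matrix.GeneralLinearGroup (Fin 6) F) (ζ : F), Fintype.card F = Nat.card F₀ ^ 2 ∧ ζ ≠ 0 ∧ ζ + ζ ^ q = 0 ∧ Cfsg.Geo.IsFormRationalStructure (Cfsg.hermForm 6 F q) F₀ ζ P ∧ (∀ u : Fin 6 → F, (∀ i, u i ∈ F₀) → (Cfsg.hermForm 6 F q) (Matrix.mulVec (P : Matrix (Fin 6) (Fin 6) F) u) (Matrix.mulVec (P : Matrix (Fin 6) (Fin 6) F) u) = 0) ∧ H = Cfsg.Geo.subfieldSubgroup F₀ P ⊓ (Cfsg.GU 6 F q ⊓ Cfsg.Geo.specialLinear (Fin 6) F)) ∨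
    (Odd q ∧ ∃ (F₀ : Subfield F) (P : Matrix.GeneralLinearGroup (Fin 6) F), Fintype.card F = Nat.card F₀ ^ 2 ∧ Cfsg.Geo.IsFormRationalStructure (Cfsg.hermForm 6 F q) F₀ 1 P ∧ H = Cfsg.Geo.subfieldSubgroup F₀ P ⊓ (Cfsg.GU 6 F q ⊓ Cfsg.Geo.specialLinear (Fin 6) F)) ∨
    Cfsg.Geo.InUnitaryResidualClass H := by
  have hq2 : 2 ≤ q := Cfsg.Agent.Helper3.AschU.two_le_q hF
  rcases asch_gen_max_unitary (n := 6) (by norm_num) q hF H hH with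
    h | h | h | h | h | h | h | h | h | h | h | h
  · exact Or.inl h
  · exact Or.inr (Or.inl h)
  · obtain ⟨t, m, D, hD, htm, hnot, hHeq⟩ := h
    obtain ⟨rfl, rfl⟩ | ⟨rfl, rfl⟩ | ⟨rfl, rfl⟩ : (t = 6 ∧ m = 1) ∨ (t = 3 ∧ m = 2) ∨ (t = 2 ∧ m = 3) := by
      have h2 := hD.decomp.two_le
      have h3 := hD.decomp.pos
      have ht : t ≤ 6 := by nlinarith
      interval_cases t <;> omega
    · refine Or.inr (Or.inr (Or.inl ⟨?_, D, hD, hHeq⟩))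
      by_contra hc
      have hq : q = 2 := by omega
      subst hq
      exact hA rfl D hD (hHeq ▸ hH)
    · exact Or.inr (Or.inr (Or.inr (Or.inl ⟨by
        by_contra hc
        exact hnot ⟨rfl, by omega⟩, D, hD, hHeq⟩)))
    · exact Or.inr (Or.inr (Or.inr (Or.inr (Or.inl ⟨D, hD, hHeq⟩))))
  · obtain ⟨m, D, hD, hm, hts, hHeq⟩ := h
    obtain rfl : m = 3 := by omega
    exact Or.inr (Or.inr (Or.inr (Or.inr (Or.inr (Or.inl ⟨D, hD, hts, hHeq⟩)))))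
  · obtain ⟨r, K, hr, hro, hrn, hK, hadj, hHeq⟩ := h
    obtain rfl : r = 3 := by
      have hle := Nat.le_of_dvd (by norm_num) hrn
      have h2 := hr.two_le
      interval_cases r <;>
        first | rfl | (exfalso; revert hro; decide) | (exfalso; revert hrn; decide) | (exfalso; revert hr; decide)
    refine Or.inr (Or.inr (Or.inr (Or.inr (Or.inr (Or.inr (Or.inl ⟨?_, K, hK, hadj, hHeq⟩))))))
    by_contra hc
    have hq : q = 2 := by omega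
    subst hq
    exact hB rfl K hK hadj (hHeq ▸ hH)
  · obtain ⟨n₁, n₂, e, P, f₁, f₂, h1, h2, hq, hf₁, hf₂, hT, hHeq⟩ := h
    have hcard : n₁ * n₂ = 6 := card_of_equiv_prod e
    obtain ⟨rfl, rfl⟩ | ⟨rfl, rfl⟩ : (n₁ = 2 ∧ n₂ = 3) ∨ (n₁ = 3 ∧ n₂ = 2) := by
      have ht : n₁ ≤ 6 := by nlinarith
      interval_cases n₁ <;> omega
    · exact Or.inr (Or.inr (Or.inr (Or.inr (Or.inr (Or.inr (Or.inr (Or.inl ⟨by
        by_contra hc
        exact hq ⟨Or.inl rfl, by omega⟩, e, P, f₁, f₂, hf₁, hf₂, hT, hHeq⟩)))))))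
    · rw [Cfsg.Agent.Helper9.AschCompK.tensorProductSubgroup_swap] at hHeq
      exact Or.inr (Or.inr (Or.inr (Or.inr (Or.inr (Or.inr (Or.inr (Or.inl ⟨by
        by_contra hc
        exact hq ⟨Or.inr rfl, by omega⟩, _, P, f₂, f₁, hf₂, hf₁, tensorForm_swap _ _ f₁ f₂ e P hT, hHeq⟩)))))))
  · exact Or.inr (Or.inr (Or.inr (Or.inr (Or.inr (Or.inr (Or.inr (Or.inr (Or.inl h))))))))
  · exact Or.inr (Or.inr (Or.inr (Or.inr (Or.inr (Or.inr (Or.inr (Or.inr (Or.inr (Or.inl h)))))))))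
  · exact Or.inr (Or.inr (Or.inr (Or.inr (Or.inr (Or.inr (Or.inr (Or.inr (Or.inr (Or.inr (Or.inl h))))))))))
  · -- class 6: 6 is not a prime power
    obtain ⟨r, p, e, k, R, hsym, habs, hsim, hrp, hmf, hcards, hnrk, hHeq⟩ := h
    exfalso
    have hr := hsym.prime
    have hk1 : 1 ≤ k := by
      rcases Nat.eq_zero_or_pos k with h0 | h0
      · subst h0; simp at hnrk
      · exact h0
    have h2 : 2 ∣ r ^ k := ⟨3, by omega⟩
    have h3 : 3 ∣ r ^ k := ⟨2, by omega⟩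
    have hr2 := (Nat.prime_dvd_prime_iff_eq Nat.prime_two hr).1 (Nat.prime_two.dvd_of_dvd_pow h2)
    have hr3 := (Nat.prime_dvd_prime_iff_eq Nat.prime_three hr).1 (Nat.prime_three.dvd_of_dvd_pow h3)
    omega
  · -- tensor power: 6 is not a proper power
    obtain ⟨d, k, e, Pm, f₁, P₁, hd, hk, hf₁, hT, -, -, -, hle⟩ := h
    exfalso
    have hdk : d ^ k = 6 := card_of_equiv_pi e
    have hd6 : d ≤ 6 := by
      calc d = d ^ 1 := (pow_one d).symm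
        _ ≤ d ^ k := Nat.pow_le_pow_right (by omega) (by omega)
        _ = 6 := hdk
    have hk3 : k ≤ 2 := by
      by_contra hc
      have : 2 ^ 3 ≤ d ^ k := le_trans (Nat.pow_le_pow_left hd 3) (Nat.pow_le_pow_right (by omega) (by omega))
      omega
    interval_cases k
    interval_cases d <;> omega
  · exact Or.inr (Or.inr (Or.inr (Or.inr (Or.inr (Or.inr (Or.inr (Or.inr (Or.inr (Or.inr (Or.inr h))))))))))

end Cfsg.Agent.Helper3.SU6
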