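import Mathlib

set_option autoImplicit false

/-! Finite fields with `64` elements (helper3, for the degree-3 field filter of `SU_6(2)`):
an involutive automorphism is `x ↦ x ^ 8`; the decomposition `L^* = μ_9 × L₀^*`. -/

namespace Cfsg.Agent.Helper3.SU6Fld

theorem two_eq_zero64 {L : Type*} [Field L] [Finite L] (hL : Nat.card L = 64) :
    (2 : L) = 0 := by
  classical
  haveI : Fintype L := Fintype.ofFinite L
  have h1 : ((Fintype.card L : ℕ) : L) = 0 := FiniteField.cast_card_eq_zero L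
  rw [← Nat.card_eq_fintype_card, hL] at h1
  have h2 : (2 : L) ^ 6 = 0 := by
    have : ((64 : ℕ) : L) = (2 : L) ^ 6 := by norm_num
    rw [← this]; exact h1
  exact pow_eq_zero_iff (by norm_num) |>.mp h2

/-- An involutive ring automorphism, not the identity, of a field with `64` elements is
`x ↦ x ^ 8`. -/
theorem sigma_eq_pow64 {L : Type*} [Field L] [Finite L] (hL : Nat.card L = 64)
    (σ : L ≃+* L) (hσ2 : ∀ x, σ (σ x) = x) (hσ1 : ∃ x, σ x ≠ x) : ∀ x, σ x = x ^ 8 := by
  classical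
  haveI : Fintype L := Fintype.ofFinite L
  haveI : CharP L 2 :=
    CharTwo.of_one_ne_zero_of_two_eq_zero one_ne_zero (two_eq_zero64 hL)
  letI : Algebra (ZMod 2) L := ZMod.algebra L 2
  have hfr : Module.finrank (ZMod 2) L = 6 := by
    have h1 : Fintype.card L = Fintype.card (ZMod 2) ^ Module.finrank (ZMod 2) L :=
      Module.card_eq_pow_finrank
    rw [← Nat.card_eq_fintype_card, hL, ZMod.card] at h1
    have h2 : (2 : ℕ) ^ 6 = 2 ^ Module.finrank (ZMod 2) L := by rw [← h1]; norm_num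
    exact (Nat.pow_right_injective (le_refl 2) h2).symm
  let σ' : L ≃ₐ[ZMod 2] L := AlgEquiv.ofRingEquiv (f := σ) (fun r => by
    have : (σ : L →+* L).comp (algebraMap (ZMod 2) L) = algebraMap (ZMod 2) L :=
      Subsingleton.elim _ _
    exact RingHom.congr_fun this r)
  have hσ' : ∀ x, σ' x = σ x := fun x => rfl
  obtain ⟨⟨i, hi⟩, hi'⟩ :=
    (FiniteField.bijective_frobeniusAlgEquivOfAlgebraic_pow (ZMod 2) L).2 σ'
  simp only at hi'
  rw [hfr] at hi
  set φ := FiniteField.frobeniusAlgEquivOfAlgebraic (ZMod 2) L with hφ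
  have hord : orderOf φ = 6 := by
    rw [hφ, FiniteField.orderOf_frobeniusAlgEquivOfAlgebraic, hfr]
  have hsq : φ ^ (2 * i) = 1 := by
    rw [mul_comm, pow_mul, hi']
    ext x
    rw [pow_two, AlgEquiv.mul_apply, hσ', hσ', hσ2]; rfl
  have hdvd : 6 ∣ 2 * i := by
    rw [← hord]; exact orderOf_dvd_of_pow_eq_one hsq
  have hi3 : i = 3 := by
    have h03 : i = 0 ∨ i = 3 := by omega
    rcases h03 with h0 | h3
    · exfalso
      obtain ⟨x, hx⟩ := hσ1
      apply hx
      rw [← hσ', ← hi', h0, pow_zero]; rfl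
    · exact h3
  intro x
  rw [← hσ', ← hi', hi3, AlgEquiv.coe_pow, hφ,
    FiniteField.coe_frobeniusAlgEquivOfAlgebraic_iterate, ZMod.card]
  norm_num

theorem pow_card64 {L : Type*} [Field L] [Finite L] (hL : Nat.card L = 64) (x : L) :
    x ^ 64 = x := by
  classical
  haveI : Fintype L := Fintype.ofFinite L
  have := FiniteField.pow_card x
  rwa [← Nat.card_eq_fintype_card, hL] at this

theorem pow_63 {L : Type*} [Field L] [Finite L] (hL : Nat.card L = 64) {x : L} (hx : x ≠ 0) :
    x ^ 63 = 1 := by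
  have h := pow_card64 hL x
  have h2 : x ^ 63 * x = 1 * x := by rw [← pow_succ, one_mul]; exact h
  exact mul_right_cancel₀ hx h2

/-- the decomposition `x = x^28 * x^36` into a `9`-th root of unity and an element fixed by the
`8`-th power map. -/
theorem decomp64 {L : Type*} [Field L] [Finite L] (hL : Nat.card L = 64) {x : L} (hx : x ≠ 0) :
    (x ^ 28) ^ 9 = 1 ∧ (x ^ 36) ^ 8 = x ^ 36 ∧ x ^ 28 * x ^ 36 = x := by
  have h63 := pow_63 hL hx
  refine ⟨?_, ?_, ?_⟩
  · rw [← pow_mul, show 28 * 9 = 63 * 4 by norm_num, pow_mul, h63, one_pow]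
  · rw [← pow_mul, show 36 * 8 = 63 * 4 + 36 by norm_num, pow_add, pow_mul, h63, one_pow, one_mul]
  · rw [← pow_add]; exact pow_card64 hL x

theorem eq_one_of_fixed_of_root {L : Type*} [Field L] {e : L} (he0 : e ≠ 0) (h8 : e ^ 8 = e)
    (h9 : e ^ 9 = 1) : e = 1 := by
  have h7 : e ^ 7 = 1 := by
    have : e ^ 7 * e = 1 * e := by rw [← pow_succ, one_mul]; exact h8
    exact mul_right_cancel₀ he0 this
  have h36 : e ^ 36 = 1 := by rw [show 36 = 9 * 4 by norm_num, pow_mul, h9, one_pow]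
  have h35 : e ^ 35 = 1 := by rw [show 35 = 7 * 5 by norm_num, pow_mul, h7, one_pow]
  have : e ^ 35 * e = 1 := by rw [← pow_succ]; exact h36
  rwa [h35, one_mul] at this

/-- a cube root of unity in a field containing three of them is one of these. -/
theorem cube_root_cases {L : Type*} [Field L] {w x : L} (hw : w ^ 2 + w + 1 = 0) (hx : x ^ 3 = 1) :
    x = 1 ∨ x = w ∨ x = w ^ 2 := by
  have h : (x - 1) * ((x - w) * (x - w ^ 2)) = 0 := by
    linear_combination hx + (-x ^ 2 + x + (x - 1) * (w - 1)) * hw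
  rcases mul_eq_zero.mp h with h1 | h2
  · exact Or.inl (sub_eq_zero.mp h1)
  · rcases mul_eq_zero.mp h2 with h3 | h4
    · exact Or.inr (Or.inl (sub_eq_zero.mp h3))
    · exact Or.inr (Or.inr (sub_eq_zero.mp h4))

end Cfsg.Agent.Helper3.SU6Fld
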