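import Mathlib
import Cfsg.Prelude.Def_GeometricClasses
import Cfsg.Agent.Helper7.FExA
import Cfsg.Agent.Helper7.SingerFrameB
import Cfsg.Agent.Helper7.Hermitian
import Cfsg.Agent.Helper3.SU6FldA

set_option autoImplicit false

/-! The degree-3 field filter of `SU_6(2)` (helper3): hyperbolic frames of a field subalgebra
`K ≅ F_64` of `M_6(F_4)` closed under adjoints.  Interface between the existence of a frame
(HALF 1) and the non-maximality of the normaliser (HALF 2). -/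

namespace Cfsg.Agent.Helper3.SU6Fld

open Cfsg Cfsg.Geo Matrix Cfsg.Agent.Helper7.FEx Cfsg.Agent.Helper7.SingerFrame
  Cfsg.Agent.Helper7.Herm

variable {F : Type*} [Field F] [Fintype F]

/-- the trace polynomial `k + k^4 + k^16` (the trace of `F_64` over `F_4`). -/
def tr3 (k : Matrix (Fin 6) (Fin 6) F) : Matrix (Fin 6) (Fin 6) F := k + k ^ 4 + k ^ 16

/-- a hyperbolic frame of the `K`-space `F^6` (`K` of degree 3): two `K`-independent
`K`-isotropic vectors whose `K`-valued product is `1`. -/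
structure Frame (K : Subalgebra F (Matrix (Fin 6) (Fin 6) F)) (v₁ v₂ : Fin 6 → F) : Prop where
  iso₁ : ∀ k ∈ K, hermForm 6 F 2 (k *ᵥ v₁) v₁ = 0
  iso₂ : ∀ k ∈ K, hermForm 6 F 2 (k *ᵥ v₂) v₂ = 0
  pair : ∀ k ∈ K, (hermForm 6 F 2 (k *ᵥ v₁) v₂) • (1 : Matrix (Fin 6) (Fin 6) F) = tr3 k
  indep : ∀ p ∈ K, ∀ r ∈ K, p *ᵥ v₁ + r *ᵥ v₂ = 0 → p = 0 ∧ r = 0

end Cfsg.Agent.Helper3.SU6Fld
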