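import Mathlib
import Cfsg.Prelude.Def_GeometricClasses
import Cfsg.Agent.Helper7.FExA
import Cfsg.Agent.Helper7.SingerFrameB
import Cfsg.Agent.Helper7.Hermitian
import Cfsg.Agent.Helper5.AschU2b
import Cfsg.Agent.Helper3.SU6FldB

set_option autoImplicit false

/-! The degree-3 field filter of `SU_6(2)` (helper3): the geometry of a hyperbolic frame. -/

namespace Cfsg.Agent.Helper3.SU6Fld

open Cfsg Cfsg.Geo Matrix Cfsg.Agent.Helper7.FEx Cfsg.Agent.Helper7.SingerFrame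
  Cfsg.Agent.Helper7.Herm

variable {F : Type*} [Field F] [Fintype F]

theorem card_sq (hF : Fintype.card F = 4) : Fintype.card F = 2 ^ 2 := by rw [hF]; norm_num

theorem smul_one_inj {c d : F} (h : c • (1 : Matrix (Fin 6) (Fin 6) F) = d • 1) : c = d := by
  have := congrFun (congrFun h 0) 0
  simpa using this

theorem adj_pow (hF : Fintype.card F = 4) (k : Matrix (Fin 6) (Fin 6) F) (m : ℕ) :
    adj (k ^ m) = adj k ^ m := by
  induction m with
  | zero => rw [pow_zero, pow_zero, adj_one]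
  | succ m ih => rw [pow_succ, adj_mul hF, ih, ← pow_succ']

theorem tr3_adj (hF : Fintype.card F = 4) (k : Matrix (Fin 6) (Fin 6) F) :
    tr3 (adj k) = adj (tr3 k) := by
  unfold tr3
  rw [adj_add hF, adj_add hF, adj_pow hF, adj_pow hF]

/-- `h(u, k v) = h(adj k u, v)`. -/
theorem herm_adj' (hF : Fintype.card F = 4) (k : Matrix (Fin 6) (Fin 6) F) (u v : Fin 6 → F) :
    hermForm 6 F 2 u (k *ᵥ v) = hermForm 6 F 2 (adj k *ᵥ u) v := by
  rw [herm_adj hF, adj_adj hF]

theorem herm_sq (hF : Fintype.card F = 4) (u v : Fin 6 → F) :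
    hermForm 6 F 2 v u = (hermForm 6 F 2 u v) ^ 2 := hermForm_swap (card_sq hF) v u

section frame

variable (hF : Fintype.card F = 4) {K : Subalgebra F (Matrix (Fin 6) (Fin 6) F)}
  (hK : IsFieldSubalgebra 3 K) (hadj : IsAdjointClosedFor (hermForm 6 F 2) K)
  {v₁ v₂ : Fin 6 → F} (fr : Frame K v₁ v₂)

/-- the trace functional of the frame. -/
def tau (v₁ v₂ : Fin 6 → F) (k : Matrix (Fin 6) (Fin 6) F) : F := hermForm 6 F 2 (k *ᵥ v₁) v₂

theorem tau_add (k l : Matrix (Fin 6) (Fin 6) F) : tau v₁ v₂ (k + l) = tau v₁ v₂ k + tau v₁ v₂ l := by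
  unfold tau
  rw [Matrix.add_mulVec, hermForm_add_left]

theorem tau_zero : tau v₁ v₂ (0 : Matrix (Fin 6) (Fin 6) F) = 0 := by
  unfold tau hermForm
  simp

include fr in
theorem tau_smul_one {k : Matrix (Fin 6) (Fin 6) F} (hk : k ∈ K) :
    tau v₁ v₂ k • (1 : Matrix (Fin 6) (Fin 6) F) = tr3 k := fr.pair k hk

include hF hadj fr in
theorem tau_adj {k : Matrix (Fin 6) (Fin 6) F} (hk : k ∈ K) :
    tau v₁ v₂ (adj k) = (tau v₁ v₂ k) ^ 2 := by
  apply smul_one_inj
  rw [tau_smul_one fr (adj_mem hF K hadj hk), tr3_adj hF, ← tau_smul_one fr hk, adj_smul, adj_one]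

include hF hadj fr in
/-- `h(k v₂, v₁) = τ(k)`. -/
theorem herm_two_one {k : Matrix (Fin 6) (Fin 6) F} (hk : k ∈ K) :
    hermForm 6 F 2 (k *ᵥ v₂) v₁ = tau v₁ v₂ k := by
  have h1 : hermForm 6 F 2 v₁ (k *ᵥ v₂) = (tau v₁ v₂ k) ^ 2 := by
    rw [herm_adj' hF]
    exact tau_adj hF hadj fr hk
  rw [herm_sq hF, h1, ← pow_mul]
  exact pow_four hF _

include hF hadj fr in
/-- the form in the coordinates of the frame. -/
theorem herm_frame {p r p' r' : Matrix (Fin 6) (Fin 6) F} (hp : p ∈ K) (hr : r ∈ K)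
    (hp' : p' ∈ K) (hr' : r' ∈ K) :
    hermForm 6 F 2 (p *ᵥ v₁ + r *ᵥ v₂) (p' *ᵥ v₁ + r' *ᵥ v₂) =
      tau v₁ v₂ (adj r' * p) + tau v₁ v₂ (adj p' * r) := by
  have hF2 := card_sq hF
  rw [hermForm_add_left, hermForm_add_right hF2, hermForm_add_right hF2,
    herm_adj' hF p', herm_adj' hF r', herm_adj' hF p', herm_adj' hF r',
    Matrix.mulVec_mulVec, Matrix.mulVec_mulVec, Matrix.mulVec_mulVec, Matrix.mulVec_mulVec,
    fr.iso₁ _ (K.mul_mem (adj_mem hF K hadj hp') hp),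
    fr.iso₂ _ (K.mul_mem (adj_mem hF K hadj hr') hr),
    herm_two_one hF hadj fr (K.mul_mem (adj_mem hF K hadj hp') hr)]
  unfold tau
  ring

include hK fr in
/-- the frame spans. -/
theorem frame_span (v : Fin 6 → F) : ∃ p ∈ K, ∃ r ∈ K, v = p *ᵥ v₁ + r *ᵥ v₂ := by
  haveI := finrank_pos_of (by norm_num : 0 < 3) hK
  let Ψ : (K × K) →ₗ[F] (Fin 6 → F) :=
    { toFun := fun x => x.1.1 *ᵥ v₁ + x.2.1 *ᵥ v₂
      map_add' := fun x y => by
        simp only [Prod.fst_add, Prod.snd_add, Subalgebra.coe_add, Matrix.add_mulVec]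
        abel
      map_smul' := fun c x => by
        simp only [Prod.smul_fst, Prod.smul_snd, Subalgebra.coe_smul, Matrix.smul_mulVec,
          RingHom.id_apply, smul_add] }
  have hinj : Function.Injective Ψ := by
    rw [← LinearMap.ker_eq_bot, LinearMap.ker_eq_bot']
    rintro ⟨p, r⟩ h
    obtain ⟨h1, h2⟩ := fr.indep p.1 p.2 r.1 r.2 h
    exact Prod.ext (Subtype.ext h1) (Subtype.ext h2)
  have hdim : Module.finrank F (K × K) = Module.finrank F (Fin 6 → F) := by
    rw [Module.finrank_prod, hK.finrank_eq, Module.finrank_fintype_fun_eq_card, Fintype.card_fin]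
  obtain ⟨⟨p, r⟩, hx⟩ :=
    (LinearMap.injective_iff_surjective_of_finrank_eq_finrank hdim).mp hinj v
  exact ⟨p.1, p.2, r.1, r.2, hx.symm⟩

include hF hK hadj fr in
/-- the trace functional is non-degenerate. -/
theorem tau_nondeg {c : Matrix (Fin 6) (Fin 6) F} (hc : c ∈ K)
    (h : ∀ k ∈ K, tau v₁ v₂ (k * c) = 0) : c = 0 := by
  have h0 : c *ᵥ v₁ = 0 := by
    by_contra hne
    obtain ⟨-, x, hx⟩ := Cfsg.Agent.Helper5.Asch.hermForm_nondegenerate (n := 6) (card_sq hF) _ hne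
    obtain ⟨p', hp', r', hr', rfl⟩ := frame_span hK fr x
    apply hx
    have := herm_frame hF hadj fr hc K.zero_mem hp' hr'
    rw [Matrix.zero_mulVec, add_zero, mul_zero, tau_zero, add_zero] at this
    rw [this]
    exact h _ (adj_mem hF K hadj hr')
  have := fr.indep c hc 0 K.zero_mem (by rw [h0, Matrix.zero_mulVec, add_zero])
  exact this.1

end frame

end Cfsg.Agent.Helper3.SU6Fld
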