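import Mathlib
import Cfsg.Agent.Helper3.SU6FldA

set_option autoImplicit false

/-! Fields with `64` elements (helper3): change of hyperbolic frame in the hermitian plane over
`F_64 / F_8` — the coordinates of a second hyperbolic pair are, up to a common `9`-th root of
unity, fixed by `x ↦ x ^ 8`. -/

namespace Cfsg.Agent.Helper3.SU6Fld

variable {L : Type*} [Field L] [Finite L]

theorem add_self64 (hL : Nat.card L = 64) (x : L) : x + x = 0 := by
  rw [← two_mul, two_eq_zero64 hL, zero_mul]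

theorem eq_of_add_eq_zero64 (hL : Nat.card L = 64) {x y : L} (h : x + y = 0) : x = y := by
  have : x + y + y = y := by rw [h, zero_add]
  rwa [add_assoc, add_self64 hL, add_zero] at this

theorem add_pow8 (hL : Nat.card L = 64) (x y : L) : (x + y) ^ 8 = x ^ 8 + y ^ 8 := by
  haveI : CharP L 2 := CharTwo.of_one_ne_zero_of_two_eq_zero one_ne_zero (two_eq_zero64 hL)
  haveI : Fact (Nat.Prime 2) := ⟨Nat.prime_two⟩
  exact add_pow_char_pow x y 2 3

/-- an isotropic vector `(p, r)` is a `9`-th root of unity times a vector with coordinates in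
the fixed field. -/
theorem iso_vector (hL : Nat.card L = 64) {p r : L} (h1 : p * r ^ 8 + r * p ^ 8 = 0)
    (hne : ¬ (p = 0 ∧ r = 0)) :
    ∃ lam a b : L, lam ^ 9 = 1 ∧ a ^ 8 = a ∧ b ^ 8 = b ∧ p = lam * a ∧ r = lam * b := by
  have h1' : p * r ^ 8 = r * p ^ 8 := eq_of_add_eq_zero64 hL h1
  by_cases hr : r = 0
  · have hp : p ≠ 0 := fun hp => hne ⟨hp, hr⟩
    obtain ⟨h9, h8, hprod⟩ := decomp64 hL hp
    exact ⟨p ^ 28, p ^ 36, 0, h9, h8, by norm_num, hprod.symm, by rw [hr, mul_zero]⟩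
  · obtain ⟨h9, h8, hprod⟩ := decomp64 hL hr
    have hlam0 : r ^ 28 ≠ 0 := pow_ne_zero _ hr
    refine ⟨r ^ 28, p * (r ^ 28)⁻¹, r ^ 36, h9, ?_, h8, ?_, hprod.symm⟩
    · by_cases hp : p = 0
      · rw [hp, zero_mul]; norm_num
      · have h7 : p ^ 7 = r ^ 7 := by
          have h2 : (p * r) * r ^ 7 = (p * r) * p ^ 7 := by
            calc (p * r) * r ^ 7 = p * r ^ 8 := by ring
              _ = r * p ^ 8 := h1'
              _ = (p * r) * p ^ 7 := by ring
          exact (mul_left_cancel₀ (mul_ne_zero hp hr) h2).symm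
        have h35 : (r ^ 28) ^ 8 = r ^ 35 := by
          rw [← pow_mul, show 28 * 8 = 63 * 3 + 35 by norm_num, pow_add, pow_mul, pow_63 hL hr,
            one_pow, one_mul]
        rw [mul_pow, inv_pow, h35]
        have : p ^ 8 * (r ^ 35)⁻¹ = p * (p ^ 7 * (r ^ 7)⁻¹) * (r ^ 28)⁻¹ := by
          have h35' : r ^ 35 = r ^ 7 * r ^ 28 := by rw [← pow_add]
          rw [h35', mul_inv]
          ring
        rw [this, h7, mul_inv_cancel₀ (pow_ne_zero _ hr), mul_one]
    · rw [mul_comm p, ← mul_assoc, mul_inv_cancel₀ hlam0, one_mul]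

/-- change of hyperbolic frame. -/
theorem frame_change (hL : Nat.card L = 64) {p r p' r' : L}
    (h1 : p * r ^ 8 + r * p ^ 8 = 0) (h2 : p' * r' ^ 8 + r' * p' ^ 8 = 0)
    (h3 : p * r' ^ 8 + r * p' ^ 8 = 1) :
    ∃ lam a b a' b' : L, lam ^ 9 = 1 ∧ a ^ 8 = a ∧ b ^ 8 = b ∧ a' ^ 8 = a' ∧ b' ^ 8 = b' ∧
      p = lam * a ∧ r = lam * b ∧ p' = lam * a' ∧ r' = lam * b' ∧ a * b' + b * a' = 1 := by
  have hne : ¬ (p = 0 ∧ r = 0) := by
    rintro ⟨hp, hr⟩
    rw [hp, hr, zero_mul, zero_mul, add_zero] at h3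
    exact zero_ne_one h3
  have hne' : ¬ (p' = 0 ∧ r' = 0) := by
    rintro ⟨hp, hr⟩
    rw [hp, hr] at h3
    norm_num at h3
  obtain ⟨lam, a, b, hl9, ha, hb, rfl, rfl⟩ := iso_vector hL h1 hne
  obtain ⟨lam', a', b', hl9', ha', hb', rfl, rfl⟩ := iso_vector hL h2 hne'
  have hl0 : lam ≠ 0 := by
    intro h; rw [h] at hl9; norm_num at hl9
  have hl0' : lam' ≠ 0 := by
    intro h; rw [h] at hl9'; norm_num at hl9'
  set e := a * b' + b * a' with he
  have he8 : e ^ 8 = e := by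
    rw [he, add_pow8 hL, mul_pow, mul_pow, ha, hb, ha', hb']
  have hmu : (lam * lam' ^ 8) * e = 1 := by
    rw [← h3, mul_pow, mul_pow, hb', ha', he]
    ring
  have he0 : e ≠ 0 := by
    intro h; rw [h, mul_zero] at hmu; exact zero_ne_one hmu
  have hmu0 : lam * lam' ^ 8 ≠ 0 := mul_ne_zero hl0 (pow_ne_zero _ hl0')
  have hmu8 : (lam * lam' ^ 8) ^ 8 = lam * lam' ^ 8 := by
    have h4 : ((lam * lam' ^ 8) * e) ^ 8 = 1 := by rw [hmu, one_pow]
    rw [mul_pow, he8] at h4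
    exact mul_right_cancel₀ he0 (h4.trans hmu.symm)
  have hmu9 : (lam * lam' ^ 8) ^ 9 = 1 := by
    rw [mul_pow, hl9, one_mul, ← pow_mul, show 8 * 9 = 9 * 8 by norm_num, pow_mul, hl9', one_pow]
  have hmu1 : lam * lam' ^ 8 = 1 := eq_one_of_fixed_of_root hmu0 hmu8 hmu9
  have hll : lam = lam' := by
    have h5 : lam * lam' ^ 8 * lam' = lam := by
      rw [mul_assoc, ← pow_succ, hl9', mul_one]
    rw [hmu1, one_mul] at h5
    exact h5.symm
  rw [hmu1, one_mul] at hmu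
  exact ⟨lam, a, b, a', b', hl9, ha, hb, ha', hb', rfl, rfl, by rw [hll], by rw [hll], hmu⟩

end Cfsg.Agent.Helper3.SU6Fld
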