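import Mathlib
import Cfsg.Prelude.Def_GeometricClasses
import Cfsg.Agent.Helper3.SU6FldC
import Cfsg.Agent.Helper3.SU6FldD

set_option autoImplicit false
set_option maxHeartbeats 400000

/-! The degree-3 field filter of `SU_6(2)` (helper3): the elements of the unitary group which
normalise `K` map a hyperbolic frame to a `9`-th root of unity times a frame with coordinates in
the fixed field of the adjoint. -/

namespace Cfsg.Agent.Helper3.SU6Fld

open Cfsg Cfsg.Geo Matrix Cfsg.Agent.Helper7.FEx Cfsg.Agent.Helper7.SingerFrame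
  Cfsg.Agent.Helper7.Herm

variable {F : Type*} [Field F] [Fintype F]

/-- conjugation by an invertible matrix. -/
def cj (g : GL (Fin 6) F) (k : Matrix (Fin 6) (Fin 6) F) : Matrix (Fin 6) (Fin 6) F :=
  (g : Matrix (Fin 6) (Fin 6) F) * k * ((g⁻¹ : GL (Fin 6) F) : Matrix (Fin 6) (Fin 6) F)

theorem val_mul_inv (g : GL (Fin 6) F) :
    (g : Matrix (Fin 6) (Fin 6) F) * ((g⁻¹ : GL (Fin 6) F) : Matrix (Fin 6) (Fin 6) F) = 1 := by
  rw [← Units.val_mul, mul_inv_cancel, Units.val_one]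

theorem inv_mul_val (g : GL (Fin 6) F) :
    ((g⁻¹ : GL (Fin 6) F) : Matrix (Fin 6) (Fin 6) F) * (g : Matrix (Fin 6) (Fin 6) F) = 1 := by
  rw [← Units.val_mul, inv_mul_cancel, Units.val_one]

theorem cj_mul (g : GL (Fin 6) F) (k l : Matrix (Fin 6) (Fin 6) F) :
    cj g (k * l) = cj g k * cj g l := by
  unfold cj
  have h := inv_mul_val g
  calc (g : Matrix (Fin 6) (Fin 6) F) * (k * l) * ((g⁻¹ : GL (Fin 6) F) : Matrix (Fin 6) (Fin 6) F)
      = (g : Matrix (Fin 6) (Fin 6) F) * k * (1 * (l * ((g⁻¹ : GL (Fin 6) F) : Matrix (Fin 6) (Fin 6) F))) := by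
        rw [one_mul]; simp only [mul_assoc]
    _ = _ := by rw [← h]; simp only [mul_assoc]

theorem cj_add (g : GL (Fin 6) F) (k l : Matrix (Fin 6) (Fin 6) F) :
    cj g (k + l) = cj g k + cj g l := by
  unfold cj
  rw [mul_add, add_mul]

theorem cj_one (g : GL (Fin 6) F) : cj g 1 = 1 := by
  unfold cj
  rw [mul_one, val_mul_inv]

theorem cj_smul_one (g : GL (Fin 6) F) (c : F) :
    cj g (c • (1 : Matrix (Fin 6) (Fin 6) F)) = c • 1 := by
  unfold cj
  rw [Matrix.mul_smul, Matrix.smul_mul, mul_one, val_mul_inv]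

theorem cj_pow (g : GL (Fin 6) F) (k : Matrix (Fin 6) (Fin 6) F) (m : ℕ) :
    cj g (k ^ m) = cj g k ^ m := by
  induction m with
  | zero => rw [pow_zero, pow_zero, cj_one]
  | succ m ih => rw [pow_succ, cj_mul, ih, ← pow_succ]

theorem cj_tr3 (g : GL (Fin 6) F) (k : Matrix (Fin 6) (Fin 6) F) : tr3 (cj g k) = cj g (tr3 k) := by
  unfold tr3
  rw [cj_add, cj_add, cj_pow, cj_pow]

theorem cj_inv_cj (g : GL (Fin 6) F) (k : Matrix (Fin 6) (Fin 6) F) : cj g⁻¹ (cj g k) = k := by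
  unfold cj
  rw [inv_inv]
  calc ((g⁻¹ : GL (Fin 6) F) : Matrix (Fin 6) (Fin 6) F) *
        ((g : Matrix (Fin 6) (Fin 6) F) * k * ((g⁻¹ : GL (Fin 6) F) : Matrix (Fin 6) (Fin 6) F)) *
        (g : Matrix (Fin 6) (Fin 6) F)
      = (((g⁻¹ : GL (Fin 6) F) : Matrix (Fin 6) (Fin 6) F) * (g : Matrix (Fin 6) (Fin 6) F)) * k *
        (((g⁻¹ : GL (Fin 6) F) : Matrix (Fin 6) (Fin 6) F) * (g : Matrix (Fin 6) (Fin 6) F)) := by
        simp only [mul_assoc]
    _ = k := by rw [inv_mul_val, one_mul, mul_one]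

/-- `g (k v) = (g k g⁻¹) (g v)`. -/
theorem mulVec_cj (g : GL (Fin 6) F) (k : Matrix (Fin 6) (Fin 6) F) (v : Fin 6 → F) :
    (g : Matrix (Fin 6) (Fin 6) F) *ᵥ (k *ᵥ v) = cj g k *ᵥ ((g : Matrix (Fin 6) (Fin 6) F) *ᵥ v) := by
  unfold cj
  rw [Matrix.mulVec_mulVec, Matrix.mulVec_mulVec, mul_assoc, mul_assoc, inv_mul_val, mul_one]

theorem cj_mem {K : Subalgebra F (Matrix (Fin 6) (Fin 6) F)} {g : GL (Fin 6) F}
    (hg : g ∈ subalgebraNormalizer K) {k : Matrix (Fin 6) (Fin 6) F} (hk : k ∈ K) : cj g k ∈ K :=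
  (hg k).mp hk

/-- the adjoint of a unitary matrix is its inverse. -/
theorem adj_of_mem_GU (hF : Fintype.card F = 4) {g : GL (Fin 6) F} (hg : g ∈ GU 6 F 2) :
    adj (g : Matrix (Fin 6) (Fin 6) F) = ((g⁻¹ : GL (Fin 6) F) : Matrix (Fin 6) (Fin 6) F) := by
  have h1 : adj (g : Matrix (Fin 6) (Fin 6) F) * (g : Matrix (Fin 6) (Fin 6) F) = 1 :=
    adj_mul_self_of_preserves hF hg
  calc adj (g : Matrix (Fin 6) (Fin 6) F)
      = adj (g : Matrix (Fin 6) (Fin 6) F) * ((g : Matrix (Fin 6) (Fin 6) F) *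
          ((g⁻¹ : GL (Fin 6) F) : Matrix (Fin 6) (Fin 6) F)) := by rw [val_mul_inv, mul_one]
    _ = _ := by rw [← mul_assoc, h1, one_mul]

theorem adj_cj (hF : Fintype.card F = 4) {g : GL (Fin 6) F} (hg : g ∈ GU 6 F 2)
    (k : Matrix (Fin 6) (Fin 6) F) : adj (cj g k) = cj g (adj k) := by
  have h1 := adj_of_mem_GU hF hg
  have h2 : adj ((g⁻¹ : GL (Fin 6) F) : Matrix (Fin 6) (Fin 6) F) = (g : Matrix (Fin 6) (Fin 6) F) := by
    rw [← h1, adj_adj hF]
  unfold cj
  rw [adj_mul hF, adj_mul hF, h1, h2, mul_assoc]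

section field

variable (hF : Fintype.card F = 4) {K : Subalgebra F (Matrix (Fin 6) (Fin 6) F)}
  (hK : IsFieldSubalgebra 3 K) (hadj : IsAdjointClosedFor (hermForm 6 F 2) K)

include hF hK in
theorem natCard_K : Nat.card ↥K = 64 := by
  classical
  haveI : Finite (Matrix (Fin 6) (Fin 6) F) := inferInstanceAs (Finite (Fin 6 → Fin 6 → F))
  haveI : Finite ↥K := Subtype.finite
  haveI : FiniteDimensional F ↥K := finrank_pos_of (by norm_num) hK
  haveI : Fintype ↥K := Fintype.ofFinite _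
  have h1 : Fintype.card ↥K = Fintype.card F ^ Module.finrank F ↥K := Module.card_eq_pow_finrank
  rw [Nat.card_eq_fintype_card, h1, hF, hK.finrank_eq]
  norm_num

include hF hK hadj in
/-- on `K` the adjoint is the `8`-th power. -/
theorem adj_eq_pow8 {k : Matrix (Fin 6) (Fin 6) F} (hk : k ∈ K) : adj k = k ^ 8 := by
  classical
  letI := fieldOfSub K hK
  haveI : Finite (Matrix (Fin 6) (Fin 6) F) := inferInstanceAs (Finite (Fin 6 → Fin 6 → F))
  haveI : Finite ↥K := Subtype.finite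
  have hcardK := natCard_K hF hK
  let σ : ↥K ≃+* ↥K :=
    { toFun := fun k => ⟨adj k.1, adj_mem hF K hadj k.2⟩
      invFun := fun k => ⟨adj k.1, adj_mem hF K hadj k.2⟩
      left_inv := fun k => Subtype.ext (adj_adj hF _)
      right_inv := fun k => Subtype.ext (adj_adj hF _)
      map_mul' := fun k l => Subtype.ext (by
        show adj (k.1 * l.1) = adj k.1 * adj l.1
        rw [adj_mul hF]
        exact hK.comm _ (adj_mem hF K hadj l.2) _ (adj_mem hF K hadj k.2))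
      map_add' := fun k l => Subtype.ext (adj_add hF _ _) }
  have hσv : ∀ k : ↥K, ((σ k : ↥K) : Matrix (Fin 6) (Fin 6) F) = adj k.1 := fun k => rfl
  have hσ2 : ∀ x, σ (σ x) = x := fun x => Subtype.ext (adj_adj hF _)
  obtain ⟨ω₀, hω0, hω1⟩ : ∃ ω₀ : F, ω₀ ≠ 0 ∧ ω₀ ≠ 1 := by
    by_contra hcon
    push Not at hcon
    have : Fintype.card F ≤ 2 := by
      have hsub : (Finset.univ : Finset F) ⊆ {0, 1} := by
        intro x _
        by_cases hx : x = 0
        · rw [hx]; simp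
        · rw [hcon x hx]; simp
      calc Fintype.card F = (Finset.univ : Finset F).card := rfl
        _ ≤ ({0, 1} : Finset F).card := Finset.card_le_card hsub
        _ ≤ 2 := Finset.card_le_two
    omega
  have hω2 : ω₀ ^ 2 ≠ ω₀ := by
    intro h
    have : ω₀ * ω₀ = ω₀ * 1 := by rw [mul_one, ← pow_two, h]
    exact hω1 (mul_left_cancel₀ hω0 this)
  set ω : ↥K := algebraMap F ↥K ω₀ with hωdef
  have hωv : (ω : Matrix (Fin 6) (Fin 6) F) = ω₀ • (1 : Matrix (Fin 6) (Fin 6) F) := by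
    rw [hωdef, Subalgebra.coe_algebraMap, Algebra.algebraMap_eq_smul_one]
  have hσω : σ ω ≠ ω := by
    intro h
    have h1 := congrArg Subtype.val h
    rw [hσv, hωv, adj_smul, adj_one] at h1
    exact hω2 (smul_one_inj h1)
  have hσpow := sigma_eq_pow64 hcardK σ hσ2 ⟨ω, hσω⟩
  have := hσpow ⟨k, hk⟩
  have h2 := congrArg Subtype.val this
  rw [hσv, SubmonoidClass.coe_pow] at h2
  exact h2

include hF hK in
theorem pow64_of_mem {k : Matrix (Fin 6) (Fin 6) F} (hk : k ∈ K) : k ^ 64 = k := by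
  classical
  letI := fieldOfSub K hK
  haveI : Finite (Matrix (Fin 6) (Fin 6) F) := inferInstanceAs (Finite (Fin 6 → Fin 6 → F))
  haveI : Finite ↥K := Subtype.finite
  have := pow_card64 (natCard_K hF hK) (⟨k, hk⟩ : ↥K)
  have h2 := congrArg Subtype.val this
  rwa [SubmonoidClass.coe_pow] at h2

end field

end Cfsg.Agent.Helper3.SU6Fld
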