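import Mathlib
import Cfsg.Prelude.Def_GeometricClasses
import Cfsg.Agent.Helper3.SU6FldE

set_option autoImplicit false
set_option maxHeartbeats 400000

/-! The degree-3 field filter of `SU_6(2)` (helper3): the image of a hyperbolic frame under a
unitary element of the normaliser of `K`. -/

namespace Cfsg.Agent.Helper3.SU6Fld

open Cfsg Cfsg.Geo Matrix Cfsg.Agent.Helper7.FEx Cfsg.Agent.Helper7.SingerFrame
  Cfsg.Agent.Helper7.Herm

variable {F : Type*} [Field F] [Fintype F]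

section

variable (hF : Fintype.card F = 4) {K : Subalgebra F (Matrix (Fin 6) (Fin 6) F)}
  (hK : IsFieldSubalgebra 3 K) (hadj : IsAdjointClosedFor (hermForm 6 F 2) K)
  {v₁ v₂ : Fin 6 → F} (fr : Frame K v₁ v₂)
  {g : GL (Fin 6) F} (hgN : g ∈ subalgebraNormalizer K) (hgU : g ∈ GU 6 F 2)

theorem mulVec_val_eq (g : GL (Fin 6) F) (k : Matrix (Fin 6) (Fin 6) F) (v : Fin 6 → F) :
    k *ᵥ ((g : Matrix (Fin 6) (Fin 6) F) *ᵥ v) =
      (g : Matrix (Fin 6) (Fin 6) F) *ᵥ (cj g⁻¹ k *ᵥ v) := by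
  rw [mulVec_cj g (cj g⁻¹ k) v]
  have := cj_inv_cj g⁻¹ k
  rw [inv_inv] at this
  rw [this]

include hF in
theorem add_self_F (x : F) : x + x = 0 := by
  haveI := charTwo hF
  exact CharTwo.add_self_eq_zero x

include hF in
theorem add_self_mat (x : Matrix (Fin 6) (Fin 6) F) : x + x = 0 := by
  ext i j
  rw [Matrix.add_apply, Matrix.zero_apply]
  exact add_self_F hF _

include hF hK hadj fr hgN hgU in
/-- the images of the frame vectors are isotropic and paired by the trace. -/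
theorem image_pairing {k : Matrix (Fin 6) (Fin 6) F} (hk : k ∈ K) :
    hermForm 6 F 2 (k *ᵥ ((g : Matrix (Fin 6) (Fin 6) F) *ᵥ v₁)) ((g : Matrix (Fin 6) (Fin 6) F) *ᵥ v₁) = 0 ∧
    hermForm 6 F 2 (k *ᵥ ((g : Matrix (Fin 6) (Fin 6) F) *ᵥ v₂)) ((g : Matrix (Fin 6) (Fin 6) F) *ᵥ v₂) = 0 ∧
    hermForm 6 F 2 (k *ᵥ ((g : Matrix (Fin 6) (Fin 6) F) *ᵥ v₁)) ((g : Matrix (Fin 6) (Fin 6) F) *ᵥ v₂) =
      tau v₁ v₂ k := by
  have hgi : g⁻¹ ∈ subalgebraNormalizer K := (subalgebraNormalizer K).inv_mem hgN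
  have hk' : cj g⁻¹ k ∈ K := cj_mem hgi hk
  have hU : ∀ u v, hermForm 6 F 2 ((g : Matrix (Fin 6) (Fin 6) F) *ᵥ u)
      ((g : Matrix (Fin 6) (Fin 6) F) *ᵥ v) = hermForm 6 F 2 u v := hgU
  refine ⟨?_, ?_, ?_⟩
  · rw [mulVec_val_eq, hU]; exact fr.iso₁ _ hk'
  · rw [mulVec_val_eq, hU]; exact fr.iso₂ _ hk'
  · rw [mulVec_val_eq, hU]
    apply smul_one_inj
    show tau v₁ v₂ (cj g⁻¹ k) • (1 : Matrix (Fin 6) (Fin 6) F) = _
    rw [tau_smul_one fr hk', cj_tr3, ← tau_smul_one fr hk, cj_smul_one]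

include hF hK hadj fr hgN hgU in
/-- **The image of the frame**: `g v₁ = λ (a v₁ + b v₂)`, `g v₂ = λ (a' v₁ + b' v₂)` with `λ^9 = 1`
and `a, b, a', b'` fixed by the adjoint, `a b' + b a' = 1`. -/
theorem frame_image :
    ∃ lam ∈ K, ∃ a ∈ K, ∃ b ∈ K, ∃ a' ∈ K, ∃ b' ∈ K, lam ^ 9 = 1 ∧ adj a = a ∧ adj b = b ∧
      adj a' = a' ∧ adj b' = b' ∧
      (g : Matrix (Fin 6) (Fin 6) F) *ᵥ v₁ = lam *ᵥ (a *ᵥ v₁ + b *ᵥ v₂) ∧
      (g : Matrix (Fin 6) (Fin 6) F) *ᵥ v₂ = lam *ᵥ (a' *ᵥ v₁ + b' *ᵥ v₂) ∧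
      a * b' + b * a' = 1 := by
  classical
  obtain ⟨p, hp, r, hr, hw₁⟩ := frame_span hK fr ((g : Matrix (Fin 6) (Fin 6) F) *ᵥ v₁)
  obtain ⟨p', hp', r', hr', hw₂⟩ := frame_span hK fr ((g : Matrix (Fin 6) (Fin 6) F) *ᵥ v₂)
  have hcm := hK.comm
  have am : ∀ {x}, x ∈ K → adj x ∈ K := fun hx => adj_mem hF K hadj hx
  -- the form on multiples of the images
  have key : ∀ {x y x' y' : Matrix (Fin 6) (Fin 6) F}, x ∈ K → y ∈ K → x' ∈ K → y' ∈ K →
      ∀ k ∈ K, hermForm 6 F 2 (k *ᵥ (x *ᵥ v₁ + y *ᵥ v₂)) (x' *ᵥ v₁ + y' *ᵥ v₂) =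
        tau v₁ v₂ (k * (x * adj y' + y * adj x')) := by
    intro x y x' y' hx hy hx' hy' k hk
    rw [Matrix.mulVec_add, Matrix.mulVec_mulVec, Matrix.mulVec_mulVec,
      herm_frame hF hadj fr (K.mul_mem hk hx) (K.mul_mem hk hy) hx' hy', ← tau_add]
    congr 1
    rw [hcm _ (am hy') _ (K.mul_mem hk hx), hcm _ (am hx') _ (K.mul_mem hk hy), mul_assoc,
      mul_assoc, ← mul_add]
  -- the three relations
  have h1 : p * adj r + r * adj p = 0 := by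
    apply tau_nondeg hF hK hadj fr (K.add_mem (K.mul_mem hp (am hr)) (K.mul_mem hr (am hp)))
    intro k hk
    rw [← key hp hr hp hr k hk, ← hw₁]
    exact (image_pairing hF hK hadj fr hgN hgU hk).1
  have h2 : p' * adj r' + r' * adj p' = 0 := by
    apply tau_nondeg hF hK hadj fr (K.add_mem (K.mul_mem hp' (am hr')) (K.mul_mem hr' (am hp')))
    intro k hk
    rw [← key hp' hr' hp' hr' k hk, ← hw₂]
    exact (image_pairing hF hK hadj fr hgN hgU hk).2.1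
  have h3 : p * adj r' + r * adj p' = 1 := by
    have h0 : p * adj r' + r * adj p' + 1 = 0 := by
      apply tau_nondeg hF hK hadj fr
        (K.add_mem (K.add_mem (K.mul_mem hp (am hr')) (K.mul_mem hr (am hp'))) K.one_mem)
      intro k hk
      rw [mul_add, tau_add, mul_one, ← key hp hr hp' hr' k hk, ← hw₁, ← hw₂,
        (image_pairing hF hK hadj fr hgN hgU hk).2.2]
      exact add_self_F hF _
    have : p * adj r' + r * adj p' + 1 + 1 = 1 := by rw [h0, zero_add]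
    rwa [add_assoc, add_self_mat hF, add_zero] at this
  -- transfer to the field
  letI := fieldOfSub K hK
  haveI : Finite (Matrix (Fin 6) (Fin 6) F) := inferInstanceAs (Finite (Fin 6 → Fin 6 → F))
  haveI : Finite ↥K := Subtype.finite
  have hcardK := natCard_K hF hK
  have a8 : ∀ {x}, x ∈ K → adj x = x ^ 8 := fun hx => adj_eq_pow8 hF hK hadj hx
  have e1 : (⟨p, hp⟩ : ↥K) * (⟨r, hr⟩ : ↥K) ^ 8 + ⟨r, hr⟩ * (⟨p, hp⟩ : ↥K) ^ 8 = 0 := by
    apply Subtype.ext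
    simp only [Subalgebra.coe_add, Subalgebra.coe_mul, SubmonoidClass.coe_pow, Subalgebra.coe_zero]
    rw [← a8 hr, ← a8 hp]; exact h1
  have e2 : (⟨p', hp'⟩ : ↥K) * (⟨r', hr'⟩ : ↥K) ^ 8 + ⟨r', hr'⟩ * (⟨p', hp'⟩ : ↥K) ^ 8 = 0 := by
    apply Subtype.ext
    simp only [Subalgebra.coe_add, Subalgebra.coe_mul, SubmonoidClass.coe_pow, Subalgebra.coe_zero]
    rw [← a8 hr', ← a8 hp']; exact h2
  have e3 : (⟨p, hp⟩ : ↥K) * (⟨r', hr'⟩ : ↥K) ^ 8 + ⟨r, hr⟩ * (⟨p', hp'⟩ : ↥K) ^ 8 = 1 := by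
    apply Subtype.ext
    simp only [Subalgebra.coe_add, Subalgebra.coe_mul, SubmonoidClass.coe_pow, Subalgebra.coe_one]
    rw [← a8 hr', ← a8 hp']; exact h3
  obtain ⟨lam, a, b, a', b', hl9, ha, hb, ha', hb', ep, er, ep', er', eab⟩ :=
    frame_change hcardK e1 e2 e3
  have cv : ∀ {x y : ↥K}, x = y → x.1 = y.1 := fun h => congrArg Subtype.val h
  have fix : ∀ {x : ↥K}, x ^ 8 = x → adj x.1 = x.1 := by
    intro x hx
    rw [a8 x.2]
    have := cv hx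
    rwa [SubmonoidClass.coe_pow] at this
  refine ⟨lam.1, lam.2, a.1, a.2, b.1, b.2, a'.1, a'.2, b'.1, b'.2, ?_, fix ha, fix hb, fix ha',
    fix hb', ?_, ?_, ?_⟩
  · have := cv hl9
    rwa [SubmonoidClass.coe_pow] at this
  · rw [hw₁, Matrix.mulVec_add, Matrix.mulVec_mulVec, Matrix.mulVec_mulVec]
    have h5 := cv ep
    have h6 := cv er
    rw [Subalgebra.coe_mul] at h5 h6
    rw [← h5, ← h6]
  · rw [hw₂, Matrix.mulVec_add, Matrix.mulVec_mulVec, Matrix.mulVec_mulVec]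
    have h5 := cv ep'
    have h6 := cv er'
    rw [Subalgebra.coe_mul] at h5 h6
    rw [← h5, ← h6]
  · have := cv eab
    simpa only [Subalgebra.coe_add, Subalgebra.coe_mul, Subalgebra.coe_one] using this

end

end Cfsg.Agent.Helper3.SU6Fld
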