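import Mathlib
import Cfsg.Prelude.Def_GeometricClasses
import Cfsg.Prelude.Def_LieClassical
import Cfsg.Agent.Helper7.Hermitian
import Cfsg.Agent.Helper9.SU6FrameB

set_option autoImplicit false
set_option maxHeartbeats 400000

/-! The degree-3 field filter of `SU_6(2)` (helper3): the generic sandwich lemma.  A subgroup `H` of
`SU_6(2)` which preserves a set `SS` of vectors, such that some unitary transvection preserving `SS`
lies outside `H` and some unitary transvection does not preserve `SS`, is not maximal. -/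

namespace Cfsg.Agent.Helper3.SU6Fld

open Cfsg Cfsg.Geo Matrix Cfsg.Agent.Helper7.Herm

variable {F : Type*} [Field F] [Fintype F]

/-- the subgroup of the general linear group preserving the set `SS` of vectors in both directions. -/
def stabSet (SS : Set (Fin 6 → F)) : Subgroup (GL (Fin 6) F) where
  carrier := {g | ∀ x, x ∈ SS ↔ (g : Matrix (Fin 6) (Fin 6) F) *ᵥ x ∈ SS}
  one_mem' := by
    intro x
    rw [Units.val_one, Matrix.one_mulVec]
  mul_mem' := by
    intro a c ha hc x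
    rw [Units.val_mul, ← Matrix.mulVec_mulVec]
    exact (hc x).trans (ha _)
  inv_mem' := by
    intro a ha x
    have h := ha (((a⁻¹ : GL (Fin 6) F) : Matrix (Fin 6) (Fin 6) F) *ᵥ x)
    rw [Matrix.mulVec_mulVec, ← Units.val_mul, mul_inv_cancel, Units.val_one, Matrix.one_mulVec] at h
    exact h.symm

theorem mem_stabSet (SS : Set (Fin 6 → F)) (g : GL (Fin 6) F) :
    g ∈ stabSet SS ↔ ∀ x, x ∈ SS ↔ (g : Matrix (Fin 6) (Fin 6) F) *ᵥ x ∈ SS := Iff.rfl

/-- a unitary transvection at an isotropic vector is an involution in characteristic two. -/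
theorem transv_transv (hF : Fintype.card F = 2 ^ 2) (b : Fin 6 → F)
    (hb : hermForm 6 F 2 b b = 0) (x : Fin 6 → F) :
    (x + hermForm 6 F 2 x b • b) + hermForm 6 F 2 (x + hermForm 6 F 2 x b • b) b • b = x := by
  have h2 : (2 : F) = 0 := Cfsg.Agent.Helper9.SU6.two_eq_zero hF
  rw [hermForm_add_left, hermForm_smul_left, hb, mul_zero, add_zero, add_assoc, ← add_smul]
  have : hermForm 6 F 2 x b + hermForm 6 F 2 x b = 0 := by linear_combination (hermForm 6 F 2 x b) * h2
  rw [this, zero_smul, add_zero]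

/-- **the sandwich lemma.** -/
theorem sandwich (hF : Fintype.card F = 2 ^ 2) (H : Subgroup (GL (Fin 6) F))
    (SS : Set (Fin 6 → F))
    (h1 : ∀ g ∈ H, ∀ x ∈ SS, (g : Matrix (Fin 6) (Fin 6) F) *ᵥ x ∈ SS)
    (b : Fin 6 → F) (hb : hermForm 6 F 2 b b = 0)
    (hbS : ∀ x ∈ SS, x + hermForm 6 F 2 x b • b ∈ SS)
    (hbH : ∀ τ : GL (Fin 6) F,
      (∀ x, (τ : Matrix (Fin 6) (Fin 6) F) *ᵥ x = x + hermForm 6 F 2 x b • b) → τ ∉ H)
    (s p : Fin 6 → F) (hs : hermForm 6 F 2 s s = 0) (hp : p ∈ SS)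
    (hps : p + hermForm 6 F 2 p s • s ∉ SS) :
    ¬ IsMaximalIn (GU 6 F 2 ⊓ specialLinear (Fin 6) F) H := by
  rintro ⟨hlt, hmax⟩
  have hHG : H ≤ GU 6 F 2 ⊓ specialLinear (Fin 6) F := hlt.le
  have hHM : H ≤ stabSet SS ⊓ (GU 6 F 2 ⊓ specialLinear (Fin 6) F) := by
    intro g hg
    refine ⟨?_, hHG hg⟩
    intro x
    refine ⟨fun hx => h1 g hg x hx, fun hx => ?_⟩
    have h := h1 g⁻¹ (H.inv_mem hg) _ hx
    rwa [Matrix.mulVec_mulVec, ← Units.val_mul, inv_mul_cancel, Units.val_one,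
      Matrix.one_mulVec] at h
  obtain ⟨t, htG, ht⟩ := Cfsg.Agent.Helper9.SU6.exists_transvection hF b hb
  have htM : t ∈ stabSet SS ⊓ (GU 6 F 2 ⊓ specialLinear (Fin 6) F) := by
    refine ⟨?_, htG⟩
    intro x
    rw [ht x]
    refine ⟨fun hx => hbS x hx, fun hx => ?_⟩
    have h := hbS _ hx
    rwa [transv_transv hF b hb x] at h
  rcases hmax _ hHM inf_le_right with h | h
  · exact hbH t ht (h ▸ htM)
  · obtain ⟨u, huG, hu⟩ := Cfsg.Agent.Helper9.SU6.exists_transvection hF s hs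
    have huM : u ∈ stabSet SS ⊓ (GU 6 F 2 ⊓ specialLinear (Fin 6) F) := by
      rw [h]; exact huG
    have := (huM.1 p).1 hp
    rw [hu p] at this
    exact hps this

end Cfsg.Agent.Helper3.SU6Fld
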