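import Mathlib
import Cfsg.Prelude.Def_GeometricClasses
import Cfsg.Prelude.Def_LieClassical
import Cfsg.Agent.Helper7.Hermitian
import Cfsg.Agent.Helper7.FExA
import Cfsg.Agent.Helper3.SU6FldE

set_option autoImplicit false
set_option maxHeartbeats 400000

/-! The degree-3 field filter of `SU_6(2)` (helper3): a unitary transvection does not normalise a
field subalgebra of degree at least two. -/

namespace Cfsg.Agent.Helper3.SU6Fld

open Cfsg Cfsg.Geo Matrix Cfsg.Agent.Helper7.FEx Cfsg.Agent.Helper7.Herm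

variable {F : Type*} [Field F] [Fintype F]

/-- two linear conditions on a six-dimensional space have a common non-zero solution. -/
theorem exists_common_zero (k : Matrix (Fin 6) (Fin 6) F) (b : Fin 6 → F) :
    ∃ x : Fin 6 → F, x ≠ 0 ∧ hermForm 6 F 2 x b = 0 ∧ hermForm 6 F 2 (k *ᵥ x) b = 0 := by
  let φ₁ : (Fin 6 → F) →ₗ[F] F :=
    { toFun := fun x => hermForm 6 F 2 x b
      map_add' := fun x y => hermForm_add_left x y b
      map_smul' := fun a x => by
        rw [hermForm_smul_left, RingHom.id_apply, smul_eq_mul] }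
  let f : (Fin 6 → F) →ₗ[F] (F × F) := φ₁.prod (φ₁.comp (Matrix.mulVecLin k))
  have hlt : Module.finrank F (F × F) < Module.finrank F (Fin 6 → F) := by
    rw [Module.finrank_prod, Module.finrank_self, Module.finrank_fin_fun]
    norm_num
  have hker := LinearMap.ker_ne_bot_of_finrank_lt (f := f) hlt
  obtain ⟨x, hx, hx0⟩ := Submodule.exists_mem_ne_zero_of_ne_bot hker
  rw [LinearMap.mem_ker] at hx
  have h1 : hermForm 6 F 2 x b = 0 := congrArg Prod.fst hx
  have h2 : hermForm 6 F 2 (k *ᵥ x) b = 0 := congrArg Prod.snd hx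
  exact ⟨x, hx0, h1, h2⟩

/-- a non-zero vector pairs to one with some vector. -/
theorem exists_herm_eq_one (b : Fin 6 → F) (hb0 : b ≠ 0) :
    ∃ x : Fin 6 → F, hermForm 6 F 2 x b = 1 := by
  obtain ⟨i, hi⟩ : ∃ i, b i ≠ 0 := by
    by_contra hcon
    push Not at hcon
    exact hb0 (funext hcon)
  refine ⟨Pi.single i ((b i ^ 2)⁻¹), ?_⟩
  unfold hermForm
  rw [Finset.sum_eq_single i]
  · rw [Pi.single_eq_same]
    exact inv_mul_cancel₀ (pow_ne_zero 2 hi)
  · intro j _ hji
    rw [Pi.single_eq_of_ne hji, zero_mul]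
  · intro h
    exact absurd (Finset.mem_univ i) h

/-- **a unitary transvection does not normalise a field subalgebra of degree at least two.** -/
theorem transv_not_mem_normalizer {r : ℕ} (hr : 2 ≤ r) (K : Subalgebra F (Matrix (Fin 6) (Fin 6) F))
    (hK : IsFieldSubalgebra r K) (b : Fin 6 → F) (hb0 : b ≠ 0) (τ : GL (Fin 6) F)
    (hτ : ∀ x, (τ : Matrix (Fin 6) (Fin 6) F) *ᵥ x = x + hermForm 6 F 2 x b • b) :
    τ ∉ subalgebraNormalizer K := by
  intro hN
  -- conjugation by `τ` is trivial on `K`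
  have key : ∀ k ∈ K, cj τ k = k := by
    intro k hk
    have hk' : cj τ k ∈ K := cj_mem hN hk
    obtain ⟨x, hx0, hx1, hx2⟩ := exists_common_zero k b
    have h1 := mulVec_cj τ k x
    rw [hτ, hτ, hx1, hx2, zero_smul, add_zero, add_zero] at h1
    by_contra hne
    have hd : cj τ k - k ∈ K := K.sub_mem hk' hk
    have hd0 : cj τ k - k ≠ 0 := sub_ne_zero.mpr hne
    have h0 : (cj τ k - k) *ᵥ x = 0 := by rw [Matrix.sub_mulVec, ← h1, sub_self]
    exact hx0 (mulVec_eq_zero hK hd hd0 h0)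
  obtain ⟨x₀, hx₀⟩ := exists_herm_eq_one b hb0
  -- so `K` maps `b` into its span
  have h2 : ∀ k ∈ K, k *ᵥ b = hermForm 6 F 2 (k *ᵥ x₀) b • b := by
    intro k hk
    have h1 := mulVec_cj τ k x₀
    rw [key k hk, hτ, hτ, hx₀, one_smul, Matrix.mulVec_add] at h1
    exact (add_left_cancel h1).symm
  obtain ⟨κ, hκ, hns⟩ := exists_nonscalar hr K hK
  apply hns (hermForm 6 F 2 (κ *ᵥ x₀) b)
  by_contra hne
  have hd : κ - hermForm 6 F 2 (κ *ᵥ x₀) b • (1 : Matrix (Fin 6) (Fin 6) F) ∈ K :=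
    K.sub_mem hκ (K.smul_mem K.one_mem _)
  have h0 : (κ - hermForm 6 F 2 (κ *ᵥ x₀) b • (1 : Matrix (Fin 6) (Fin 6) F)) *ᵥ b = 0 := by
    rw [Matrix.sub_mulVec, h2 κ hκ, Matrix.smul_mulVec, Matrix.one_mulVec, sub_self]
  exact hb0 (mulVec_eq_zero hK hd (sub_ne_zero.mpr hne) h0)

end Cfsg.Agent.Helper3.SU6Fld
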