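import Mathlib
import Cfsg.Prelude.Def_GeometricClasses
import Cfsg.Prelude.Def_LieClassical
import Cfsg.Agent.Lead.SU6FieldG
import Cfsg.Agent.Helper3.SU6FldM1
import Cfsg.Agent.Helper3.SU6FldM2
import Cfsg.Agent.Helper3.SU6Final

set_option autoImplicit false
set_option maxHeartbeats 400000

/-! The degree-3 field filter of `SU_6(2)`: the normaliser of an adjoint-closed field subalgebra of
degree three is not maximal in `SU_6(2)` (lead's `matrix_main` + the sandwich lemma). -/

namespace Cfsg.Agent.Helper3.SU6Fld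

open Cfsg Cfsg.Geo Matrix

variable {F : Type*} [Field F] [Fintype F]

/-- **the normaliser of a degree-3 field is not maximal in `SU_6(2)`.** -/
theorem field_not_maximal (hF : Fintype.card F = 2 ^ 2) : Cfsg.Agent.Helper3.SU6.FieldStmt F := by
  intro K hK hadj
  have hF4 : Fintype.card F = 4 := by rw [hF]; norm_num
  obtain ⟨S, h1, ⟨b, hb0, hb, hbS⟩, ⟨s, p, hs, hp, hps⟩⟩ :=
    Cfsg.Agent.Lead.SU6Field.matrix_main hF4 K hK hadj
  exact sandwich hF _ S (fun g hg x hx => h1 g hg.1 hg.2.1 hg.2.2 x hx) b hb hbS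
    (fun τ hτ hH => transv_not_mem_normalizer (by norm_num) K hK b hb0 τ hτ hH.1) s p hs hp hps

end Cfsg.Agent.Helper3.SU6Fld
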