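import Mathlib
import Cfsg.Prelude.Def_Classical
import Cfsg.Prelude.Def_ClassicalGeometry
import Cfsg.Agent.Helper7.Hermitian
import Cfsg.Agent.S0780
import Cfsg.Agent.SU3G.H1_NTIface

set_option autoImplicit false
set_option linter.unusedSectionVars false
set_option linter.unusedVariables false

/-!
# Transport between the antidiagonal Hermitian form and the standard Hermitian form, general `n`
(helper3; generalises helper4's `SU3G/H4_TR.lean` from `n = 3` to all `n`)

`hJ n q x y = ∑ i, x i * (y (rev i)) ^ q`.  For `l ^ (q+1) = -1`, `c ^ q + c = -1` the matrix `P l c`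
(block sum, on the pairs `{i, rev i}`, of `[[1, 1 + c], [l, c l]]`, and `1` on the middle coordinate
when `n` is odd) satisfies `hermForm n F q (P x) (P y) = hJ n q x y`, so `M ↦ P M P⁻¹` maps the
isometry group `SUJ n F q ≤ SL_n(F)` of `hJ` onto `Cfsg.SU n F q`, and `hJ`-transvections onto
unitary transvections.
-/

namespace Cfsg.Agent.Helper3.SUT

open Matrix Cfsg Cfsg.Agent.Helper7.Herm

variable {F : Type*} [Field F] {n : ℕ}

/-- The antidiagonal Hermitian form on `F^n` (`ȳ = y ^ q`). -/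
def hJ (n q : ℕ) (x y : Fin n → F) : F := ∑ i, x i * (y (Fin.rev i)) ^ q

/-- `SU_n` for the form `hJ`, as a subgroup of `SL(n,F)`. -/
def SUJ (n : ℕ) (F : Type*) [Field F] (q : ℕ) : Subgroup (SpecialLinearGroup (Fin n) F) :=
  preserving (slToMat n F) (hJ n q)

theorem mem_SUJ {q : ℕ} (M : SpecialLinearGroup (Fin n) F) :
    M ∈ SUJ n F q ↔ ∀ x y : Fin n → F, hJ n q (M.1 *ᵥ x) (M.1 *ᵥ y) = hJ n q x y := Iff.rfl

/-- the `hJ`-transvection `x ↦ x + c * hJ x w • w`. -/
def TJ (n q : ℕ) (w : Fin n → F) (c : F) : Matrix (Fin n) (Fin n) F :=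
  1 + c • vecMulVec w (fun j => (w (Fin.rev j)) ^ q)

theorem TJ_mulVec {q : ℕ} (w : Fin n → F) (c : F) (x : Fin n → F) :
    TJ n q w c *ᵥ x = x + (c * hJ n q x w) • w := by
  unfold TJ hJ
  rw [add_mulVec, one_mulVec, smul_mulVec, vecMulVec_mulVec]
  congr 1
  ext i
  simp only [Pi.smul_apply, MulOpposite.smul_eq_mul_unop, MulOpposite.unop_op, smul_eq_mul,
    dotProduct]
  rw [Finset.mul_sum, Finset.mul_sum, Finset.mul_sum, Finset.sum_mul]
  apply Finset.sum_congr rfl
  intro j _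
  ring

/-! ### Matrices of the shape `x ↦ (a i * x i + b i * x (rev i))_i` -/

/-- the matrix with `(mk a b x) i = a i * x i + b i * x (rev i)`. -/
def mk (a b : Fin n → F) : Matrix (Fin n) (Fin n) F :=
  Matrix.of fun i j => (if j = i then a i else 0) + (if j = Fin.rev i then b i else 0)

theorem mk_mulVec (a b : Fin n → F) (x : Fin n → F) (i : Fin n) :
    (mk a b *ᵥ x) i = a i * x i + b i * x (Fin.rev i) := by
  unfold mk
  simp only [mulVec, dotProduct, Matrix.of_apply, add_mul, ite_mul, zero_mul,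
    Finset.sum_add_distrib, Finset.sum_ite_eq', Finset.mem_univ, if_true]

theorem mk_one : mk (fun _ => (1 : F)) (fun _ => (0 : F)) = (1 : Matrix (Fin n) (Fin n) F) := by
  ext i j
  unfold mk
  simp only [Matrix.of_apply, Matrix.one_apply, ite_self, add_zero]
  by_cases h : i = j
  · subst h; simp
  · rw [if_neg h, if_neg (fun h' => h h'.symm)]

theorem mk_mul_mk (a b a' b' : Fin n → F) :
    mk a b * mk a' b' = mk (fun i => a i * a' i + b i * b' (Fin.rev i))
      (fun i => a i * b' i + b i * a' (Fin.rev i)) := by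
  apply Matrix.toLin'.injective
  apply LinearMap.ext
  intro x
  ext i
  rw [Matrix.toLin'_apply, Matrix.toLin'_apply, ← mulVec_mulVec, mk_mulVec, mk_mulVec, mk_mulVec,
    mk_mulVec, Fin.rev_rev]
  ring

/-! ### The basis change -/

/-- diagonal coefficients of `P`. -/
def al (l c : F) (i : Fin n) : F :=
  if (i : ℕ) < (Fin.rev i : ℕ) then 1 else if (Fin.rev i : ℕ) < (i : ℕ) then c * l else 1

/-- antidiagonal coefficients of `P`. -/
def be (l c : F) (i : Fin n) : F :=
  if (i : ℕ) < (Fin.rev i : ℕ) then 1 + c else if (Fin.rev i : ℕ) < (i : ℕ) then l else 0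

/-- diagonal coefficients of `P⁻¹`. -/
def al' (l c : F) (i : Fin n) : F :=
  if (i : ℕ) < (Fin.rev i : ℕ) then -c else if (Fin.rev i : ℕ) < (i : ℕ) then -l⁻¹ else 1

/-- antidiagonal coefficients of `P⁻¹`. -/
def be' (l c : F) (i : Fin n) : F :=
  if (i : ℕ) < (Fin.rev i : ℕ) then (1 + c) * l⁻¹ else if (Fin.rev i : ℕ) < (i : ℕ) then 1 else 0

/-- the basis change matrix. -/
def P (n : ℕ) (l c : F) : Matrix (Fin n) (Fin n) F := mk (al l c) (be l c)

/-- its inverse. -/
def P' (n : ℕ) (l c : F) : Matrix (Fin n) (Fin n) F := mk (al' l c) (be' l c)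

theorem rev_cases (i : Fin n) :
    ((i : ℕ) < (Fin.rev i : ℕ) ∧ ¬ ((Fin.rev i : ℕ) < (i : ℕ))) ∨
    ((Fin.rev i : ℕ) < (i : ℕ) ∧ ¬ ((i : ℕ) < (Fin.rev i : ℕ))) ∨
    (Fin.rev i = i ∧ ¬ ((i : ℕ) < (Fin.rev i : ℕ)) ∧ ¬ ((Fin.rev i : ℕ) < (i : ℕ))) := by
  rcases lt_trichotomy (i : ℕ) (Fin.rev i : ℕ) with h | h | h
  · exact Or.inl ⟨h, by omega⟩
  · exact Or.inr (Or.inr ⟨(Fin.ext h).symm, by omega, by omega⟩)
  · exact Or.inr (Or.inl ⟨h, by omega⟩)

theorem P_mul_P' (l c : F) (hl : l ≠ 0) : P n l c * P' n l c = 1 := by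
  unfold P P'
  rw [mk_mul_mk, ← mk_one]
  congr 1
  · funext i
    rcases rev_cases i with ⟨h1, h2⟩ | ⟨h1, h2⟩ | ⟨h0, h1, h2⟩
    · have h3 : ¬ ((Fin.rev i : ℕ) < (Fin.rev (Fin.rev i) : ℕ)) := by rw [Fin.rev_rev]; exact h2
      have h4 : ((Fin.rev (Fin.rev i) : ℕ) < (Fin.rev i : ℕ)) := by rw [Fin.rev_rev]; exact h1
      simp only [al, be, al', be', if_pos h1, if_neg h3, if_pos h4, if_neg h2]
      ring
    · have h3 : ((Fin.rev i : ℕ) < (Fin.rev (Fin.rev i) : ℕ)) := by rw [Fin.rev_rev]; exact h1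
      simp only [al, be, al', be', if_pos h1, if_pos h3, if_neg h2]
      field_simp
      ring
    · simp only [al, be, al', be', h0, lt_irrefl, if_false]
      ring
  · funext i
    rcases rev_cases i with ⟨h1, h2⟩ | ⟨h1, h2⟩ | ⟨h0, h1, h2⟩
    · have h3 : ¬ ((Fin.rev i : ℕ) < (Fin.rev (Fin.rev i) : ℕ)) := by rw [Fin.rev_rev]; exact h2
      have h4 : ((Fin.rev (Fin.rev i) : ℕ) < (Fin.rev i : ℕ)) := by rw [Fin.rev_rev]; exact h1
      simp only [al, be, al', be', if_pos h1, if_neg h3, if_pos h4, if_neg h2]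
      ring
    · have h3 : ((Fin.rev i : ℕ) < (Fin.rev (Fin.rev i) : ℕ)) := by rw [Fin.rev_rev]; exact h1
      simp only [al, be, al', be', if_pos h1, if_pos h3, if_neg h2]
      field_simp
      ring
    · simp only [al, be, al', be', h0, lt_irrefl, if_false]
      ring

theorem P'_mul_P (l c : F) (hl : l ≠ 0) : P' n l c * P n l c = 1 :=
  mul_eq_one_comm.mp (P_mul_P' l c hl)


/-! ### Values of the coefficient functions -/

theorem coef_lt (l c : F) {i : Fin n} (h : (i : ℕ) < (Fin.rev i : ℕ)) :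
    al l c i = 1 ∧ be l c i = 1 + c ∧ al l c (Fin.rev i) = c * l ∧ be l c (Fin.rev i) = l := by
  have h2 : ¬ ((Fin.rev i : ℕ) < (i : ℕ)) := by omega
  have h3 : ¬ ((Fin.rev i : ℕ) < (Fin.rev (Fin.rev i) : ℕ)) := by rw [Fin.rev_rev]; exact h2
  have h4 : ((Fin.rev (Fin.rev i) : ℕ) < (Fin.rev i : ℕ)) := by rw [Fin.rev_rev]; exact h
  refine ⟨?_, ?_, ?_, ?_⟩ <;> simp only [al, be, if_pos h, if_neg h3, if_pos h4]

theorem coef_gt (l c : F) {i : Fin n} (h : (Fin.rev i : ℕ) < (i : ℕ)) :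
    al l c i = c * l ∧ be l c i = l ∧ al l c (Fin.rev i) = 1 ∧ be l c (Fin.rev i) = 1 + c := by
  have h2 : ¬ ((i : ℕ) < (Fin.rev i : ℕ)) := by omega
  have h3 : ((Fin.rev i : ℕ) < (Fin.rev (Fin.rev i) : ℕ)) := by rw [Fin.rev_rev]; exact h
  refine ⟨?_, ?_, ?_, ?_⟩ <;> simp only [al, be, if_pos h, if_neg h2, if_pos h3]

theorem coef_eq (l c : F) {i : Fin n} (h : Fin.rev i = i) : al l c i = 1 ∧ be l c i = 0 := by
  refine ⟨?_, ?_⟩ <;> simp only [al, be, h, lt_irrefl, if_false]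

section finite

variable [Fintype F] {q : ℕ}

/-- `P` turns the antidiagonal form into the standard form. -/
theorem herm_P (hF : Fintype.card F = q ^ 2) {l c : F} (hl : l ^ (q + 1) = -1)
    (hc : c ^ q + c = -1) (x y : Fin n → F) :
    hermForm n F q (P n l c *ᵥ x) (P n l c *ᵥ y) = hJ n q x y := by
  have hl' : l * l ^ q = -1 := by rw [← pow_succ']; exact hl
  have hq0 : q ≠ 0 := by have := one_le_q hF; omega
  unfold hermForm hJ P
  simp only [mk_mulVec, add_pow_q hF, mul_pow]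
  have split : ∀ i : Fin n, (al l c i * x i + be l c i * x (Fin.rev i)) *
      (al l c i ^ q * y i ^ q + be l c i ^ q * y (Fin.rev i) ^ q) =
      (al l c i * x i * (al l c i ^ q * y i ^ q) + al l c i * x i * (be l c i ^ q * y (Fin.rev i) ^ q))
      + (be l c i * x (Fin.rev i) * (al l c i ^ q * y i ^ q)
        + be l c i * x (Fin.rev i) * (be l c i ^ q * y (Fin.rev i) ^ q)) := by
    intro i; ring
  simp only [split, Finset.sum_add_distrib]
  rw [← Equiv.sum_comp Fin.revPerm (fun i => be l c i * x (Fin.rev i) * (al l c i ^ q * y i ^ q)),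
    ← Equiv.sum_comp Fin.revPerm
      (fun i => be l c i * x (Fin.rev i) * (be l c i ^ q * y (Fin.rev i) ^ q))]
  simp only [Fin.revPerm_apply, Fin.rev_rev]
  rw [← Finset.sum_add_distrib, ← Finset.sum_add_distrib, ← Finset.sum_add_distrib]
  apply Finset.sum_congr rfl
  intro i _
  rcases rev_cases i with ⟨h1, _⟩ | ⟨h1, _⟩ | ⟨h0, _, _⟩
  · obtain ⟨e1, e2, e3, e4⟩ := coef_lt l c h1
    rw [e1, e2, e3, e4, add_pow_q hF, mul_pow, one_pow]
    linear_combination (x i * y i ^ q + x i * y (Fin.rev i) ^ q * c ^ q) * hl'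
  · obtain ⟨e1, e2, e3, e4⟩ := coef_gt l c h1
    rw [e1, e2, e3, e4, add_pow_q hF, mul_pow, one_pow]
    linear_combination (x i * y i ^ q * c * c ^ q + x i * y (Fin.rev i) ^ q * c) * hl'
      + (x i * y i ^ q) * hc
  · obtain ⟨e1, e2⟩ := coef_eq l c h0
    rw [h0, e1, e2, zero_pow hq0]
    ring


end finite

/-! ### Conjugation by an invertible matrix on `SL_n(F)` -/

/-- conjugation by an invertible matrix as an endomorphism of `SL_n(F)`. -/
def conj (A A' : Matrix (Fin n) (Fin n) F) (h : A * A' = 1) (h' : A' * A = 1) :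
    SpecialLinearGroup (Fin n) F →* SpecialLinearGroup (Fin n) F where
  toFun M := ⟨A * (M : Matrix (Fin n) (Fin n) F) * A', by
    rw [det_mul, det_mul, mul_right_comm, ← det_mul, h, det_one, one_mul, M.2]⟩
  map_one' := Subtype.ext (by
    show A * (1 : Matrix (Fin n) (Fin n) F) * A' = 1
    rw [Matrix.mul_one, h])
  map_mul' B C := Subtype.ext (by
    show A * ((B : Matrix (Fin n) (Fin n) F) * (C : Matrix (Fin n) (Fin n) F)) * A' =
      (A * (B : Matrix (Fin n) (Fin n) F) * A') * (A * (C : Matrix (Fin n) (Fin n) F) * A')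
    calc A * ((B : Matrix (Fin n) (Fin n) F) * (C : Matrix (Fin n) (Fin n) F)) * A'
        = A * (B : Matrix (Fin n) (Fin n) F) * (1 : Matrix (Fin n) (Fin n) F) *
            (C : Matrix (Fin n) (Fin n) F) * A' := by
          rw [Matrix.mul_one]; simp only [Matrix.mul_assoc]
      _ = (A * (B : Matrix (Fin n) (Fin n) F) * A') * (A * (C : Matrix (Fin n) (Fin n) F) * A') := by
          rw [← h']; simp only [Matrix.mul_assoc])

theorem conj_coe (A A' : Matrix (Fin n) (Fin n) F) (h : A * A' = 1) (h' : A' * A = 1)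
    (M : SpecialLinearGroup (Fin n) F) :
    ((conj A A' h h' M : SpecialLinearGroup (Fin n) F) : Matrix (Fin n) (Fin n) F) =
      A * (M : Matrix (Fin n) (Fin n) F) * A' := rfl

theorem conj_conj (A A' : Matrix (Fin n) (Fin n) F) (h : A * A' = 1) (h' : A' * A = 1)
    (M : SpecialLinearGroup (Fin n) F) : conj A' A h' h (conj A A' h h' M) = M := by
  apply Subtype.ext
  show ((conj A' A h' h (conj A A' h h' M) : SpecialLinearGroup (Fin n) F) :
    Matrix (Fin n) (Fin n) F) = (M : Matrix (Fin n) (Fin n) F)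
  rw [conj_coe, conj_coe]
  calc A' * (A * (M : Matrix (Fin n) (Fin n) F) * A') * A
      = (A' * A) * (M : Matrix (Fin n) (Fin n) F) * (A' * A) := by simp only [Matrix.mul_assoc]
    _ = (M : Matrix (Fin n) (Fin n) F) := by rw [h', Matrix.one_mul, Matrix.mul_one]

theorem conj_injective (A A' : Matrix (Fin n) (Fin n) F) (h : A * A' = 1) (h' : A' * A = 1) :
    Function.Injective (conj A A' h h') := by
  intro M N hMN
  rw [← conj_conj A A' h h' M, hMN, conj_conj]

theorem conj_pow_sub_one (A A' N : Matrix (Fin n) (Fin n) F) (h' : A' * A = 1) (k : ℕ) :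
    (A * N * A') ^ (k + 1) = A * N ^ (k + 1) * A' := by
  induction k with
  | zero => simp
  | succ k ih =>
    rw [pow_succ, ih, pow_succ N (k + 1)]
    calc A * N ^ (k + 1) * A' * (A * N * A') = A * N ^ (k + 1) * (A' * A) * N * A' := by
          simp only [Matrix.mul_assoc]
      _ = A * (N ^ (k + 1) * N) * A' := by
          rw [h', Matrix.mul_one]; simp only [Matrix.mul_assoc]

/-- `A (M - 1) A' = A M A' - 1`. -/
theorem conj_sub_one (A A' : Matrix (Fin n) (Fin n) F) (h : A * A' = 1) (h' : A' * A = 1)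
    (M : SpecialLinearGroup (Fin n) F) :
    ((conj A A' h h' M : SpecialLinearGroup (Fin n) F) : Matrix (Fin n) (Fin n) F) - 1 =
      A * ((M : Matrix (Fin n) (Fin n) F) - 1) * A' := by
  rw [conj_coe, Matrix.mul_sub, Matrix.sub_mul, Matrix.mul_one, h]

/-- nilpotency of `M - 1` is preserved. -/
theorem conj_isNilpotent (A A' : Matrix (Fin n) (Fin n) F) (h : A * A' = 1) (h' : A' * A = 1)
    (M : SpecialLinearGroup (Fin n) F)
    (hM : IsNilpotent ((M : Matrix (Fin n) (Fin n) F) - 1)) :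
    IsNilpotent (((conj A A' h h' M : SpecialLinearGroup (Fin n) F) :
      Matrix (Fin n) (Fin n) F) - 1) := by
  obtain ⟨k, hk⟩ := hM
  refine ⟨k + 1, ?_⟩
  rw [conj_sub_one, conj_pow_sub_one _ _ _ h', pow_succ, hk, Matrix.zero_mul, Matrix.mul_zero,
    Matrix.zero_mul]

/-- non-vanishing of a positive power of `M - 1` is preserved. -/
theorem conj_pow_ne_zero (A A' : Matrix (Fin n) (Fin n) F) (h : A * A' = 1) (h' : A' * A = 1)
    (M : SpecialLinearGroup (Fin n) F) (k : ℕ)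
    (hM : ((M : Matrix (Fin n) (Fin n) F) - 1) ^ (k + 1) ≠ 0) :
    (((conj A A' h h' M : SpecialLinearGroup (Fin n) F) :
      Matrix (Fin n) (Fin n) F) - 1) ^ (k + 1) ≠ 0 := by
  rw [conj_sub_one, conj_pow_sub_one _ _ _ h']
  intro h0
  apply hM
  have h1 : A' * (A * ((M : Matrix (Fin n) (Fin n) F) - 1) ^ (k + 1) * A') * A = 0 := by
    rw [h0, Matrix.mul_zero, Matrix.zero_mul]
  have h2 : A' * (A * ((M : Matrix (Fin n) (Fin n) F) - 1) ^ (k + 1) * A') * A =
      ((M : Matrix (Fin n) (Fin n) F) - 1) ^ (k + 1) := by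
    calc A' * (A * ((M : Matrix (Fin n) (Fin n) F) - 1) ^ (k + 1) * A') * A
        = (A' * A) * ((M : Matrix (Fin n) (Fin n) F) - 1) ^ (k + 1) * (A' * A) := by
          simp only [Matrix.mul_assoc]
      _ = ((M : Matrix (Fin n) (Fin n) F) - 1) ^ (k + 1) := by
          rw [h', Matrix.one_mul, Matrix.mul_one]
  rw [← h2, h1]

section finite2

variable [Fintype F] {q : ℕ}

/-- if `A` turns `hJ` into the standard form, conjugation by `A` maps `SUJ` into `SU`. -/
theorem conj_mem_SU (A A' : Matrix (Fin n) (Fin n) F) (h : A * A' = 1) (h' : A' * A = 1)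
    (hA : ∀ x y : Fin n → F, hermForm n F q (A *ᵥ x) (A *ᵥ y) = hJ n q x y)
    {M : SpecialLinearGroup (Fin n) F} (hM : M ∈ SUJ n F q) :
    conj A A' h h' M ∈ Cfsg.SU n F q := by
  intro x y
  show hermForm n F q ((A * (M : Matrix (Fin n) (Fin n) F) * A') *ᵥ x)
    ((A * (M : Matrix (Fin n) (Fin n) F) * A') *ᵥ y) = hermForm n F q x y
  have e : ∀ z : Fin n → F, (A * (M : Matrix (Fin n) (Fin n) F) * A') *ᵥ z =
      A *ᵥ ((M : Matrix (Fin n) (Fin n) F) *ᵥ (A' *ᵥ z)) := by
    intro z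
    rw [mulVec_mulVec, mulVec_mulVec]
  have e1 : ∀ z : Fin n → F, A *ᵥ (A' *ᵥ z) = z := by
    intro z
    rw [mulVec_mulVec, h, one_mulVec]
  rw [e, e, hA, (mem_SUJ M).1 hM, ← hA, e1, e1]

/-- conversely conjugation by `A⁻¹` maps `SU` into `SUJ`. -/
theorem conj_mem_SUJ (A A' : Matrix (Fin n) (Fin n) F) (h : A * A' = 1) (h' : A' * A = 1)
    (hA : ∀ x y : Fin n → F, hermForm n F q (A *ᵥ x) (A *ᵥ y) = hJ n q x y)
    {B : SpecialLinearGroup (Fin n) F} (hB : B ∈ Cfsg.SU n F q) :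
    conj A' A h' h B ∈ SUJ n F q := by
  rw [mem_SUJ]
  intro x y
  show hJ n q ((A' * (B : Matrix (Fin n) (Fin n) F) * A) *ᵥ x)
    ((A' * (B : Matrix (Fin n) (Fin n) F) * A) *ᵥ y) = hJ n q x y
  have e : ∀ z : Fin n → F, A *ᵥ ((A' * (B : Matrix (Fin n) (Fin n) F) * A) *ᵥ z) =
      (B : Matrix (Fin n) (Fin n) F) *ᵥ (A *ᵥ z) := by
    intro z
    rw [mulVec_mulVec, mulVec_mulVec, ← Matrix.mul_assoc, ← Matrix.mul_assoc, h, Matrix.one_mul]
  rw [← hA, e, e]
  exact (hB (A *ᵥ x) (A *ᵥ y)).trans (hA x y)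

/-- the transport of a unitary transvection is an `hJ`-transvection. -/
theorem conj_transvection (A A' : Matrix (Fin n) (Fin n) F) (h : A * A' = 1) (h' : A' * A = 1)
    (hA : ∀ x y : Fin n → F, hermForm n F q (A *ᵥ x) (A *ᵥ y) = hJ n q x y)
    (v : Fin n → F) (c : F) :
    A' * unitaryTransvection n q v c * A = TJ n q (A' *ᵥ v) c := by
  have e1 : A *ᵥ (A' *ᵥ v) = v := by rw [mulVec_mulVec, h, one_mulVec]
  apply Matrix.toLin'.injective
  apply LinearMap.ext
  intro x
  rw [Matrix.toLin'_apply, Matrix.toLin'_apply, ← mulVec_mulVec, ← mulVec_mulVec,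
    unitaryTransvection_mulVec, mulVec_add, mulVec_mulVec, h', one_mulVec, mulVec_smul, TJ_mulVec]
  have e2 : hermForm n F q (A *ᵥ x) v = hJ n q x (A' *ᵥ v) := by
    conv_lhs => rw [← e1]
    exact hA x (A' *ᵥ v)
  rw [e2]

/-- the transport of an `hJ`-transvection is a unitary transvection. -/
theorem conj_TJ (A A' : Matrix (Fin n) (Fin n) F) (h : A * A' = 1) (h' : A' * A = 1)
    (hA : ∀ x y : Fin n → F, hermForm n F q (A *ᵥ x) (A *ᵥ y) = hJ n q x y)
    (w : Fin n → F) (c : F) :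
    A * TJ n q w c * A' = unitaryTransvection n q (A *ᵥ w) c := by
  have e := conj_transvection A A' h h' hA (A *ᵥ w) c
  have e1 : A' *ᵥ (A *ᵥ w) = w := by rw [mulVec_mulVec, h', one_mulVec]
  rw [e1] at e
  rw [← e]
  calc A * (A' * unitaryTransvection n q (A *ᵥ w) c * A) * A'
      = (A * A') * unitaryTransvection n q (A *ᵥ w) c * (A * A') := by
        simp only [Matrix.mul_assoc]
    _ = unitaryTransvection n q (A *ᵥ w) c := by rw [h, Matrix.one_mul, Matrix.mul_one]

/-- existence of the basis change. -/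
theorem exists_P (hF : Fintype.card F = q ^ 2) (n : ℕ) :
    ∃ A A' : Matrix (Fin n) (Fin n) F, A * A' = 1 ∧ A' * A = 1 ∧
      ∀ x y : Fin n → F, hermForm n F q (A *ᵥ x) (A *ᵥ y) = hJ n q x y := by
  obtain ⟨l, hl⟩ := Cfsg.Agent.SU3G.nt_eps (q := q) hF
  obtain ⟨c, hc⟩ := Cfsg.Agent.SU3G.nt_trace (q := q) hF
  have hl0 : l ≠ 0 := by
    rintro rfl
    rw [zero_pow (by omega)] at hl
    exact absurd hl (by norm_num)
  exact ⟨P n l c, P' n l c, P_mul_P' l c hl0, P'_mul_P l c hl0, herm_P hF hl hc⟩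

/-- **Transport of S0780.** A subgroup of `SL_n(F)` containing every `hJ`-transvection of
`SUJ n F q` contains `SUJ n F q` (`n ≥ 3`, `(n,q) ≠ (3,2)`). -/
theorem SUJ_le_of_transvections (hF : Fintype.card F = q ^ 2) (hn : 3 ≤ n)
    (h32 : ¬ (n = 3 ∧ q = 2)) (H : Subgroup (SpecialLinearGroup (Fin n) F))
    (hT : ∀ M ∈ SUJ n F q, (∃ (w : Fin n → F) (c : F), hJ n q w w = 0 ∧
      (M : Matrix (Fin n) (Fin n) F) = TJ n q w c) → M ∈ H) :
    SUJ n F q ≤ H := by
  obtain ⟨A, A', h, h', hA⟩ := exists_P (q := q) hF n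
  let K : Subgroup (Cfsg.SU n F q) :=
    (H.comap (conj A' A h' h)).comap (Cfsg.SU n F q).subtype
  have hK : K = ⊤ := by
    rw [eq_top_iff, ← Cfsg.Agent.S0780.result hF n hn h32, Subgroup.closure_le]
    rintro B ⟨v, d, hv, hB⟩
    show conj A' A h' h (B : SpecialLinearGroup (Fin n) F) ∈ H
    apply hT _ (conj_mem_SUJ A A' h h' hA B.2)
    refine ⟨A' *ᵥ v, d, ?_, ?_⟩
    · rw [← hA, mulVec_mulVec, h, one_mulVec, hv]
    · rw [conj_coe, hB, conj_transvection A A' h h' hA]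
  intro M hM
  have h1 : (⟨conj A A' h h' M, conj_mem_SU A A' h h' hA hM⟩ : Cfsg.SU n F q) ∈ K := by
    rw [hK]; trivial
  have h2 : conj A' A h' h (conj A A' h h' M) ∈ H := h1
  rwa [conj_conj] at h2


/-- transport of a generating set: if `S` generates `SUJ n F q` then the images of the elements of
`S` under `conj A A'` generate `SU n F q` (as a group of its own). -/
theorem closure_top_of_closure_SUJ (A A' : Matrix (Fin n) (Fin n) F) (h : A * A' = 1)
    (h' : A' * A = 1)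
    (hA : ∀ x y : Fin n → F, hermForm n F q (A *ᵥ x) (A *ᵥ y) = hJ n q x y)
    (S : Set (SpecialLinearGroup (Fin n) F)) (hS : Subgroup.closure S = SUJ n F q)
    (T : Set ↥(Cfsg.SU n F q))
    (hT : ∀ s ∈ S, ∃ t ∈ T, (t : SpecialLinearGroup (Fin n) F) = conj A A' h h' s) :
    Subgroup.closure T = ⊤ := by
  rw [eq_top_iff]
  intro B _
  have hB : conj A' A h' h (B : SpecialLinearGroup (Fin n) F) ∈ Subgroup.closure S := by
    rw [hS]; exact conj_mem_SUJ A A' h h' hA B.2
  have key : ∀ x ∈ Subgroup.closure S,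
      conj A A' h h' x ∈ (Subgroup.closure T).map (Cfsg.SU n F q).subtype := by
    intro x hx
    induction hx using Subgroup.closure_induction with
    | mem s hs =>
      obtain ⟨t, ht, e⟩ := hT s hs
      exact ⟨t, Subgroup.subset_closure ht, e⟩
    | one => rw [map_one]; exact one_mem _
    | mul a b _ _ iha ihb => rw [map_mul]; exact mul_mem iha ihb
    | inv a _ iha => rw [map_inv]; exact inv_mem iha
  have h1 := key _ hB
  rw [conj_conj A' A h' h] at h1
  obtain ⟨t, ht, e⟩ := h1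
  have : t = B := Subtype.ext e
  rw [← this]; exact ht

/-- **Transport of the goal of S2282** from the antidiagonal model: three conjugate regular
unipotent elements generating `SUJ n F q` give three conjugate regular unipotent elements generating
`SU n F q`. -/
theorem goal_of_SUJ (hF : Fintype.card F = q ^ 2) (hn : 2 ≤ n)
    (u g k : SpecialLinearGroup (Fin n) F) (hu : u ∈ SUJ n F q) (hg : g ∈ SUJ n F q)
    (hk : k ∈ SUJ n F q)
    (hnil : IsNilpotent ((u : Matrix (Fin n) (Fin n) F) - 1))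
    (hreg : ((u : Matrix (Fin n) (Fin n) F) - 1) ^ (n - 1) ≠ 0)
    (hcl : Subgroup.closure ({u, g * u * g⁻¹, k * u * k⁻¹} : Set (SpecialLinearGroup (Fin n) F))
      = SUJ n F q) :
    ∃ u g h : ↥(Cfsg.SU n F q), (IsNilpotent (((u : Matrix.SpecialLinearGroup (Fin n) F) : Matrix (Fin n) (Fin n) F) - 1) ∧ (((u : Matrix.SpecialLinearGroup (Fin n) F) : Matrix (Fin n) (Fin n) F) - 1) ^ (n - 1) ≠ 0) ∧
      Subgroup.closure ({u, g * u * g⁻¹, h * u * h⁻¹} : Set ↥(Cfsg.SU n F q)) = ⊤ := by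
  obtain ⟨A, A', h, h', hA⟩ := exists_P (q := q) hF n
  set φ := conj A A' h h' with hφ
  have hmem : ∀ {M : SpecialLinearGroup (Fin n) F}, M ∈ SUJ n F q → φ M ∈ Cfsg.SU n F q :=
    fun hM => conj_mem_SU A A' h h' hA hM
  refine ⟨⟨φ u, hmem hu⟩, ⟨φ g, hmem hg⟩, ⟨φ k, hmem hk⟩, ⟨?_, ?_⟩, ?_⟩
  · exact conj_isNilpotent A A' h h' u hnil
  · obtain ⟨j, hj⟩ : ∃ j, n - 1 = j + 1 := ⟨n - 2, by omega⟩
    rw [hj] at hreg ⊢
    exact conj_pow_ne_zero A A' h h' u j hreg
  · apply closure_top_of_closure_SUJ A A' h h' hA _ hcl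
    intro s hs
    simp only [Set.mem_insert_iff, Set.mem_singleton_iff] at hs
    rcases hs with rfl | rfl | rfl
    · exact ⟨_, Set.mem_insert _ _, rfl⟩
    · refine ⟨_, Set.mem_insert_of_mem _ (Set.mem_insert _ _), ?_⟩
      simp only [Subgroup.coe_mul, Subgroup.coe_inv, map_mul, map_inv, hφ]
    · refine ⟨_, Set.mem_insert_of_mem _ (Set.mem_insert_of_mem _ rfl), ?_⟩
      simp only [Subgroup.coe_mul, Subgroup.coe_inv, map_mul, map_inv, hφ]

end finite2

end Cfsg.Agent.Helper3.SUT
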