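import Mathlib
import Cfsg.Agent.Helper5.SaDefs

/-!
# S4025 piece L (helper3): linearization of an elementary abelian normal subgroup
-/

set_option autoImplicit false
set_option linter.unusedVariables false
set_option linter.style.haveILetI false
set_option linter.unusedSectionVars false

namespace Cfsg.Agent.Helper5.Sa

universe u

theorem exists_lin {X : Type u} [Group X] {p : ℕ} [Fact p.Prime] (Q : Subgroup X)
    (hel : Cfsg.IsElementaryAbelian p Q) :
    ∃ (V : Type u) (_ : AddCommGroup V) (_ : Module (ZMod p) V) (φ : ↥Q ≃ V),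
      ∀ a b : Q, φ (a * b) = φ a + φ b := by
  letI : CommGroup Q := { (inferInstance : Group Q) with mul_comm := hel.1.is_comm.comm }
  have hexp : ∀ x : Additive Q, p • x = 0 := by
    intro x
    have h1 : (Additive.toMul x) ^ p = 1 := by
      apply Subtype.ext
      rw [Subgroup.coe_pow, Subgroup.coe_one]
      exact hel.2 _ (Additive.toMul x).2
    have h2 : p • x = Additive.ofMul ((Additive.toMul x) ^ p) := rfl
    rw [h2, h1]
    rfl
  letI : Module (ZMod p) (Additive Q) := AddCommGroup.zmodModule hexp
  exact ⟨Additive Q, inferInstance, inferInstance, Additive.ofMul, fun a b => rfl⟩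

theorem h3_cj_mul {X : Type*} [Group X] (Q : Subgroup X) [Q.Normal] (x : X) (a b : Q) :
    cj Q x (a * b) = cj Q x a * cj Q x b := by
  apply Subtype.ext
  simp only [coe_cj, Subgroup.coe_mul]
  group

theorem h3_cj_cj {X : Type*} [Group X] (Q : Subgroup X) [Q.Normal] (x y : X) (a : Q) :
    cj Q x (cj Q y a) = cj Q (x * y) a := by
  apply Subtype.ext
  simp only [coe_cj]
  group

theorem h3_cj_one {X : Type*} [Group X] (Q : Subgroup X) [Q.Normal] (a : Q) :
    cj Q 1 a = a := by
  apply Subtype.ext
  simp only [coe_cj]
  group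

theorem exists_rho {X : Type*} [Group X] {p : ℕ} [Fact p.Prime] (Q : Subgroup X) [Q.Normal]
    {V : Type*} [AddCommGroup V] [Module (ZMod p) V] (φ : ↥Q ≃ V)
    (hφ : ∀ a b : Q, φ (a * b) = φ a + φ b) :
    ∃ ρ₀ : X →* (V ≃ₗ[ZMod p] V), ∀ (x : X) (q : Q),
      ρ₀ x (φ q) = φ (cj Q x q) := by
  have hsymm : ∀ v w : V, φ.symm (v + w) = φ.symm v * φ.symm w := by
    intro v w
    apply φ.injective
    rw [hφ, Equiv.apply_symm_apply, Equiv.apply_symm_apply, Equiv.apply_symm_apply]
  -- the additive maps
  let f : X → (V →+ V) := fun x =>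
    { toFun := fun v => φ (cj Q x (φ.symm v))
      map_zero' := by
        have h0 : φ.symm 0 = 1 := by
          have := hsymm 0 0
          rw [add_zero] at this
          exact (mul_eq_left.mp this.symm)
        show φ (cj Q x (φ.symm 0)) = 0
        rw [h0]
        have h1 : cj Q x 1 = 1 := by
          apply Subtype.ext
          simp
        rw [h1]
        have := hφ 1 1
        rw [mul_one] at this
        exact (add_eq_left.mp this.symm)
      map_add' := by
        intro v w
        show φ (cj Q x (φ.symm (v + w))) = φ (cj Q x (φ.symm v)) + φ (cj Q x (φ.symm w))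
        rw [hsymm, h3_cj_mul, hφ] }
  have hf_apply : ∀ x v, f x v = φ (cj Q x (φ.symm v)) := fun x v => rfl
  have hf_comp : ∀ x y v, f x (f y v) = f (x * y) v := by
    intro x y v
    rw [hf_apply, hf_apply, hf_apply, Equiv.symm_apply_apply, h3_cj_cj]
  have hf_one : ∀ v, f 1 v = v := by
    intro v
    rw [hf_apply, h3_cj_one, Equiv.apply_symm_apply]
  let g : X → (V ≃ₗ[ZMod p] V) := fun x =>
    LinearEquiv.ofLinear ((f x).toZModLinearMap p) ((f x⁻¹).toZModLinearMap p)
      (by
        ext v
        show f x (f x⁻¹ v) = v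
        rw [hf_comp, mul_inv_cancel, hf_one])
      (by
        ext v
        show f x⁻¹ (f x v) = v
        rw [hf_comp, inv_mul_cancel, hf_one])
  have hg_apply : ∀ x v, g x v = f x v := fun x v => rfl
  refine ⟨{ toFun := g
            map_one' := by
              ext v
              rw [hg_apply, hf_one]
              rfl
            map_mul' := by
              intro x y
              ext v
              rw [LinearEquiv.mul_apply, hg_apply, hg_apply, hg_apply, hf_comp] }, ?_⟩
  intro x q
  show g x (φ q) = _
  rw [hg_apply, hf_apply, Equiv.symm_apply_apply]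

end Cfsg.Agent.Helper5.Sa
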