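import Mathlib
import Cfsg.Agent.Helper5.SaDefs
import Cfsg.Agent.Helper3.Sa_L

/-!
# S4025 piece B (helper3): the affine action of `X` on a normal abelian Sylow subgroup `Q`
(action on the cosets of a Schur–Zassenhaus complement), with kernel `O_{p'}(X)`
-/

set_option autoImplicit false
set_option linter.unusedVariables false
set_option linter.style.haveILetI false
set_option linter.unusedSectionVars false

namespace Cfsg.Agent.Helper5.Sa

theorem exists_beta {X : Type*} [Group X] [Finite X] {p : ℕ} [Fact p.Prime] (Q : Subgroup X)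
    [Q.Normal] (hQp : IsPGroup p Q) (hQi : (Q.index).Coprime p)
    (hab : ∀ a b : Q, a * b = b * a) :
    ∃ β : X →* Equiv.Perm Q,
      (∀ x : X, ∃ b : Q, ∀ q : Q,
        β x q = b * cj Q x q) ∧
      (∀ a q : Q, β (a : X) q = a * q) ∧
      β.ker = Cfsg.pPrimeCore p X := by
  classical
  obtain ⟨k, hk⟩ := IsPGroup.iff_card.mp hQp
  have hcop : (Nat.card Q).Coprime Q.index := by
    rw [hk]
    exact Nat.Coprime.pow_left k hQi.symm
  obtain ⟨H, hH⟩ := Subgroup.exists_right_complement'_of_coprime hcop
  have hHcard : Nat.card H = Q.index := (hH.symm.index_eq_card).symm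
  have hex : ∀ g : X, ∃! x : ↥(Q : Set X) × ↥(H : Set X), (x.1 : X) * (x.2 : X) = g :=
    fun g => Subgroup.IsComplement.existsUnique hH g
  have hdec : ∀ x : X, ∃ a : Q, ∃ h : H, x = (a : X) * (h : X) := by
    intro x
    obtain ⟨⟨a, h⟩, hah, -⟩ := hex x
    exact ⟨⟨a.1, a.2⟩, ⟨h.1, h.2⟩, hah.symm⟩
  have huniq : ∀ (a a' : Q) (h h' : H), (a : X) * (h : X) = (a' : X) * (h' : X) → a = a' := by
    intro a a' h h' he
    obtain ⟨w, -, hw⟩ := hex ((a : X) * (h : X))
    have h1 := hw (⟨⟨a.1, a.2⟩, ⟨h.1, h.2⟩⟩ : ↥(Q : Set X) × ↥(H : Set X)) rfl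
    have h2 := hw (⟨⟨a'.1, a'.2⟩, ⟨h'.1, h'.2⟩⟩ : ↥(Q : Set X) × ↥(H : Set X)) he.symm
    have h3 := h1.trans h2.symm
    have h4 := congrArg (fun z : ↥(Q : Set X) × ↥(H : Set X) => (z.1 : X)) h3
    exact Subtype.ext h4
  choose A hA using hdec
  choose Hh hHh using hA
  have hA_mul : ∀ x y : X, A (x * y) = A x * cj Q x (A y) := by
    intro x y
    apply huniq _ _ (Hh (x * y)) (Hh x * Hh y)
    rw [← hHh (x * y)]
    have h1 : ((A x * cj Q x (A y) : Q) : X) = x * (A y : X) * x⁻¹ * (A x : X) := by
      rw [hab]
      simp [coe_cj]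
    rw [h1]
    have hx := hHh x
    have hy := hHh y
    calc x * y = x * ((A y : X) * (Hh y : X)) := by rw [← hy]
      _ = x * (A y : X) * x⁻¹ * x * (Hh y : X) := by group
      _ = x * (A y : X) * x⁻¹ * ((A x : X) * (Hh x : X)) * (Hh y : X) := by rw [← hx]
      _ = x * (A y : X) * x⁻¹ * (A x : X) * ((Hh x * Hh y : H) : X) := by
          rw [Subgroup.coe_mul]; group
  have hA_Q : ∀ a : Q, A (a : X) = a := by
    intro a
    apply huniq (A (a : X)) a (Hh (a : X)) 1
    rw [← hHh]
    simp
  have hA_one : A 1 = 1 := by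
    have := hA_Q 1
    simpa using this
  have hcj_Q : ∀ a q : Q, cj Q (a : X) q = q := by
    intro a q
    apply Subtype.ext
    rw [coe_cj]
    have := congrArg (fun z : Q => (z : X)) (hab a q)
    simp only [Subgroup.coe_mul] at this
    rw [this]
    group
  -- the permutations
  let b : X → Equiv.Perm Q := fun x =>
    { toFun := fun q => A x * cj Q x q
      invFun := fun q => cj Q x⁻¹ ((A x)⁻¹ * q)
      left_inv := by
        intro q
        show cj Q x⁻¹ ((A x)⁻¹ * (A x * cj Q x q)) = q
        rw [inv_mul_cancel_left, h3_cj_cj, inv_mul_cancel, h3_cj_one]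
      right_inv := by
        intro q
        show A x * cj Q x (cj Q x⁻¹ ((A x)⁻¹ * q)) = q
        rw [h3_cj_cj, mul_inv_cancel, h3_cj_one, mul_inv_cancel_left] }
  have hb_apply : ∀ x q, b x q = A x * cj Q x q := fun x q => rfl
  let β : X →* Equiv.Perm Q :=
    { toFun := b
      map_one' := by
        ext q
        rw [hb_apply, hA_one, h3_cj_one, one_mul]
        rfl
      map_mul' := by
        intro x y
        ext q
        rw [Equiv.Perm.mul_apply, hb_apply, hb_apply, hb_apply, hA_mul, h3_cj_mul, h3_cj_cj,
          mul_assoc] }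
  have hβ_apply : ∀ x q, β x q = A x * cj Q x q := fun x q => rfl
  refine ⟨β, fun x => ⟨A x, fun q => hβ_apply x q⟩, ?_, ?_⟩
  · intro a q
    rw [hβ_apply, hA_Q, hcj_Q]
  · -- the kernel
    have hker_mem : ∀ x : X, x ∈ β.ker ↔ ∀ q : Q, A x * cj Q x q = q := by
      intro x
      rw [MonoidHom.mem_ker]
      constructor
      · intro h q
        rw [← hβ_apply, h]
        rfl
      · intro h
        ext q
        rw [hβ_apply, h]
        rfl
    apply le_antisymm
    · -- ker ≤ O_{p'}
      have hle : β.ker ≤ H := by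
        intro x hx
        have h1 := (hker_mem x).1 hx 1
        have hc1 : cj Q x 1 = 1 := by
          apply Subtype.ext
          simp
        rw [hc1, mul_one] at h1
        have := hHh x
        rw [h1] at this
        rw [this]
        simp
      have hcard : (Nat.card β.ker).Coprime p := by
        have hd : Nat.card β.ker ∣ Nat.card H := Subgroup.card_dvd_of_le hle
        rw [hHcard] at hd
        exact Nat.Coprime.coprime_dvd_left hd hQi
      unfold Cfsg.pPrimeCore
      exact le_sSup ⟨inferInstance, hcard⟩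
    · unfold Cfsg.pPrimeCore
      apply sSup_le
      rintro N ⟨hNn, hNc⟩
      intro n hn
      rw [hker_mem]
      -- n centralizes Q
      have hdisj : Disjoint N Q := by
        apply Subgroup.disjoint_of_coprime_natCard
        rw [hk]
        exact Nat.Coprime.pow_right k hNc
      have hcjn : ∀ m ∈ N, ∀ q : Q, cj Q m q = q := by
        intro m hm q
        apply Subtype.ext
        rw [coe_cj]
        have := Subgroup.commute_of_normal_of_disjoint N Q hNn inferInstance hdisj m q hm q.2
        rw [this.eq]
        group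
      -- β m q = A m * q on N
      have hβN : ∀ m ∈ N, ∀ q : Q, β m q = A m * q := by
        intro m hm q
        rw [hβ_apply, hcjn m hm]
      have hpow : ∀ j : ℕ, ∀ q : Q, β (n ^ j) q = (A n) ^ j * q := by
        intro j
        induction j with
        | zero =>
          intro q
          have hβ1 : β 1 = 1 := map_one β
          rw [pow_zero, pow_zero, one_mul, hβ1]
          rfl
        | succ j ih =>
          intro q
          rw [pow_succ, map_mul, Equiv.Perm.mul_apply, hβN n hn, ih, pow_succ, mul_assoc]
      have h1 : (A n) ^ (Nat.card N) = 1 := by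
        have h2 := hpow (Nat.card N) 1
        have h3 : n ^ (Nat.card N) = 1 := by
          have h4 : ((⟨n, hn⟩ : N) ^ Nat.card N : N) = 1 := pow_card_eq_one'
          have h5 := congrArg Subtype.val h4
          rw [Subgroup.coe_pow] at h5
          exact h5
        have hβ1 : β 1 = 1 := map_one β
        rw [h3, hβ1, Equiv.Perm.one_apply, mul_one] at h2
        exact h2.symm
      have h2 : (A n) ^ (p ^ k) = 1 := by
        rw [← hk]
        exact pow_card_eq_one'
      have h3 : A n = 1 := by
        have hd1 := orderOf_dvd_of_pow_eq_one h1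
        have hd2 := orderOf_dvd_of_pow_eq_one h2
        have hco : (Nat.card N).Coprime (p ^ k) := Nat.Coprime.pow_right k hNc
        have := Nat.eq_one_of_dvd_coprimes hco hd1 hd2
        exact orderOf_eq_one_iff.mp this
      intro q
      rw [h3, one_mul, hcjn n hn]

end Cfsg.Agent.Helper5.Sa
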