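import Mathlib

/-!
# One step of a verified stabilizer chain (Schreier–Sims) for permutation groups
-/

set_option autoImplicit false

namespace Cfsg.Agent.Helper3.SchreierStep

universe u

/-- A set closed under left multiplication by generators is closed under left multiplication by
the generated subgroup (in a finite group). -/
theorem closure_left_mul_mem {M : Type u} [Group M] [Finite M] (S : Set M) (T : Set M)
    (hS : ∀ s ∈ S, ∀ t ∈ T, s * t ∈ T) : ∀ g ∈ Subgroup.closure S, ∀ t ∈ T, g * t ∈ T := by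
  intro g hg
  induction hg using Subgroup.closure_induction with
  | mem x hx => exact hS x hx
  | one => intro t ht; rwa [one_mul]
  | mul x y _ _ hx hy =>
    intro t ht
    rw [mul_assoc]
    exact hx _ (hy t ht)
  | inv x _ ih =>
    intro t ht
    have hpow : ∀ n : ℕ, x ^ n * t ∈ T := by
      intro n
      induction n with
      | zero => rwa [pow_zero, one_mul]
      | succ n ihn => rw [pow_succ', mul_assoc]; exact ih _ ihn
    have hk : 0 < orderOf x := orderOf_pos x
    have hinv : x⁻¹ = x ^ (orderOf x - 1) := by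
      apply inv_eq_of_mul_eq_one_right
      rw [← pow_succ', Nat.sub_add_cancel hk, pow_orderOf_eq_one]
    rw [hinv]
    exact hpow _

variable {Ω : Type u}

/-- The Schreier step: every element of `G = ⟨S⟩` factors as a transversal element times an
element of `H`. -/
theorem step [Finite Ω] (H G : Subgroup (Equiv.Perm Ω)) (S : Set (Equiv.Perm Ω))
    (hG : G = Subgroup.closure S) (b : Ω) (Δ : Finset Ω) (rep : Ω → Equiv.Perm Ω)
    (hb : b ∈ Δ) (hrepb : rep b = 1)
    (hSΔ : ∀ s ∈ S, ∀ δ ∈ Δ, s δ ∈ Δ)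
    (hSch : ∀ s ∈ S, ∀ δ ∈ Δ, (rep (s δ))⁻¹ * s * rep δ ∈ H) :
    ∀ g ∈ G, g b ∈ Δ ∧ (rep (g b))⁻¹ * g ∈ H := by
  let T : Set (Equiv.Perm Ω) := {g | g b ∈ Δ ∧ (rep (g b))⁻¹ * g ∈ H}
  have h1 : (1 : Equiv.Perm Ω) ∈ T := by
    refine ⟨by simpa using hb, ?_⟩
    simp only [Equiv.Perm.coe_one, id_eq, hrepb, inv_one, mul_one]
    exact H.one_mem
  have hST : ∀ s ∈ S, ∀ t ∈ T, s * t ∈ T := by
    intro s hs t ht
    obtain ⟨ht1, ht2⟩ := ht
    refine ⟨?_, ?_⟩
    · rw [Equiv.Perm.mul_apply]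
      exact hSΔ s hs _ ht1
    · rw [Equiv.Perm.mul_apply]
      have := H.mul_mem (hSch s hs _ ht1) ht2
      have e : (rep (s (t b)))⁻¹ * s * rep (t b) * ((rep (t b))⁻¹ * t) =
          (rep (s (t b)))⁻¹ * (s * t) := by group
      rwa [e] at this
  intro g hg
  rw [hG] at hg
  have := closure_left_mul_mem S T hST g hg 1 h1
  rwa [mul_one] at this

/-- The stabilizer of the base point in `G` is `H`. -/
theorem stab (H G : Subgroup (Equiv.Perm Ω)) (b : Ω) (Δ : Finset Ω) (rep : Ω → Equiv.Perm Ω)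
    (hrepb : rep b = 1)
    (hstep : ∀ g ∈ G, g b ∈ Δ ∧ (rep (g b))⁻¹ * g ∈ H) :
    ∀ g ∈ G, g b = b → g ∈ H := by
  intro g hg hgb
  have := (hstep g hg).2
  rwa [hgb, hrepb, inv_one, one_mul] at this

/-- The order of `G` is the orbit length times the order of `H`. -/
theorem card (H G : Subgroup (Equiv.Perm Ω)) (hHG : H ≤ G) (b : Ω) (Δ : Finset Ω)
    (rep : Ω → Equiv.Perm Ω) (hrep : ∀ δ ∈ Δ, rep δ b = δ) (hrepG : ∀ δ ∈ Δ, rep δ ∈ G)
    (hHb : ∀ h ∈ H, h b = b)
    (hstep : ∀ g ∈ G, g b ∈ Δ ∧ (rep (g b))⁻¹ * g ∈ H) :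
    Nat.card G = Δ.card * Nat.card H := by
  have e : G ≃ Δ × H :=
    { toFun := fun g => (⟨g.1 b, (hstep g.1 g.2).1⟩, ⟨(rep (g.1 b))⁻¹ * g.1, (hstep g.1 g.2).2⟩)
      invFun := fun p => ⟨rep p.1.1 * p.2.1, G.mul_mem (hrepG _ p.1.2) (hHG p.2.2)⟩
      left_inv := by
        intro g
        apply Subtype.ext
        simp
      right_inv := by
        rintro ⟨⟨δ, hδ⟩, ⟨h, hh⟩⟩
        have h1 : (rep δ * h) b = δ := by
          rw [Equiv.Perm.mul_apply, hHb h hh, hrep δ hδ]
        apply Prod.ext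
        · apply Subtype.ext
          exact h1
        · apply Subtype.ext
          simp only
          rw [h1]
          group }
  rw [Nat.card_congr e, Nat.card_prod, Nat.card_eq_fintype_card, Fintype.card_coe]

end Cfsg.Agent.Helper3.SchreierStep
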