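import Mathlib
import Cfsg.Prelude.Def_KGroupFacts
import Cfsg.Agent.Helper3.SchurMultA

set_option autoImplicit false

namespace Cfsg.Agent.Helper3.SchurMult

universe u v u' v'

open scoped TensorProduct commutatorElement

/-- `Q₁ᵃᵇ ⊗ Q₂ᵃᵇ`. -/
abbrev TT (Q₁ : Type u) (Q₂ : Type v) [Group Q₁] [Group Q₂] :=
  TensorProduct ℤ (Additive (Abelianization Q₁)) (Additive (Abelianization Q₂))

section twisted
variable {Q₁ : Type u} {Q₂ : Type v} [Group Q₁] [Group Q₂] {Γ₁ : Type u'} {Γ₂ : Type v'}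
  [Group Γ₁] [Group Γ₂] (σ₁ : Γ₁ →* Q₁) (σ₂ : Γ₂ →* Q₂)

/-- the pairing `Γ₂ × Γ₁ → Q₁ᵃᵇ ⊗ Q₂ᵃᵇ`. -/
def twPair (b : Γ₂) (a : Γ₁) : TT Q₁ Q₂ :=
  (Additive.ofMul (Abelianization.of (σ₁ a))) ⊗ₜ[ℤ] (Additive.ofMul (Abelianization.of (σ₂ b)))

theorem twPair_mul_left (b b' : Γ₂) (a : Γ₁) :
    twPair σ₁ σ₂ (b * b') a = twPair σ₁ σ₂ b a + twPair σ₁ σ₂ b' a := by
  unfold twPair
  rw [map_mul, map_mul, ofMul_mul, TensorProduct.tmul_add]

theorem twPair_mul_right (b : Γ₂) (a a' : Γ₁) :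
    twPair σ₁ σ₂ b (a * a') = twPair σ₁ σ₂ b a + twPair σ₁ σ₂ b a' := by
  unfold twPair
  rw [map_mul, map_mul, ofMul_mul, TensorProduct.add_tmul]

theorem twPair_one_left (a : Γ₁) : twPair σ₁ σ₂ 1 a = 0 := by
  unfold twPair
  rw [map_one, map_one, ofMul_one, TensorProduct.tmul_zero]

theorem twPair_one_right (b : Γ₂) : twPair σ₁ σ₂ b 1 = 0 := by
  unfold twPair
  rw [map_one, map_one, ofMul_one, TensorProduct.zero_tmul]

theorem twPair_inv_left (b : Γ₂) (a : Γ₁) : twPair σ₁ σ₂ b⁻¹ a = - twPair σ₁ σ₂ b a := by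
  rw [eq_neg_iff_add_eq_zero, ← twPair_mul_left, inv_mul_cancel, twPair_one_left]

theorem twPair_inv_right (b : Γ₂) (a : Γ₁) : twPair σ₁ σ₂ b a⁻¹ = - twPair σ₁ σ₂ b a := by
  rw [eq_neg_iff_add_eq_zero, ← twPair_mul_right, inv_mul_cancel, twPair_one_right]

theorem twPair_of_mem_ker_left {b : Γ₂} (hb : b ∈ σ₂.ker) (a : Γ₁) : twPair σ₁ σ₂ b a = 0 := by
  unfold twPair
  rw [MonoidHom.mem_ker.1 hb, map_one, ofMul_one, TensorProduct.tmul_zero]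

theorem twPair_of_mem_ker_right (b : Γ₂) {a : Γ₁} (ha : a ∈ σ₁.ker) : twPair σ₁ σ₂ b a = 0 := by
  unfold twPair
  rw [MonoidHom.mem_ker.1 ha, map_one, ofMul_one, TensorProduct.zero_tmul]

/-- the twisted product `T × Γ₁ × Γ₂`. -/
@[ext] structure Tw (σ₁ : Γ₁ →* Q₁) (σ₂ : Γ₂ →* Q₂) where
  /-- tensor component -/
  t : TT Q₁ Q₂
  /-- first component -/
  a : Γ₁
  /-- second component -/
  b : Γ₂

instance : Group (Tw σ₁ σ₂) where
  mul x y := ⟨x.t + y.t + twPair σ₁ σ₂ x.b y.a, x.a * y.a, x.b * y.b⟩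
  one := ⟨0, 1, 1⟩
  inv x := ⟨-x.t + twPair σ₁ σ₂ x.b x.a, x.a⁻¹, x.b⁻¹⟩
  mul_assoc := by
    intro x y z
    apply Tw.ext
    · change x.t + y.t + twPair σ₁ σ₂ x.b y.a + z.t + twPair σ₁ σ₂ (x.b * y.b) z.a =
        x.t + (y.t + z.t + twPair σ₁ σ₂ y.b z.a) + twPair σ₁ σ₂ x.b (y.a * z.a)
      rw [twPair_mul_left, twPair_mul_right]
      abel
    · exact mul_assoc x.a y.a z.a
    · exact mul_assoc x.b y.b z.b
  one_mul := by
    intro x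
    apply Tw.ext
    · change (0 : TT Q₁ Q₂) + x.t + twPair σ₁ σ₂ 1 x.a = x.t
      rw [twPair_one_left]
      abel
    · exact one_mul x.a
    · exact one_mul x.b
  mul_one := by
    intro x
    apply Tw.ext
    · change x.t + (0 : TT Q₁ Q₂) + twPair σ₁ σ₂ x.b 1 = x.t
      rw [twPair_one_right]
      abel
    · exact mul_one x.a
    · exact mul_one x.b
  inv_mul_cancel := by
    intro x
    apply Tw.ext
    · change -x.t + twPair σ₁ σ₂ x.b x.a + x.t + twPair σ₁ σ₂ x.b⁻¹ x.a = 0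
      rw [twPair_inv_left]
      abel
    · exact inv_mul_cancel x.a
    · exact inv_mul_cancel x.b

theorem Tw.mul_t (x y : Tw σ₁ σ₂) : (x * y).t = x.t + y.t + twPair σ₁ σ₂ x.b y.a := rfl
theorem Tw.mul_a (x y : Tw σ₁ σ₂) : (x * y).a = x.a * y.a := rfl
theorem Tw.mul_b (x y : Tw σ₁ σ₂) : (x * y).b = x.b * y.b := rfl
theorem Tw.one_t : (1 : Tw σ₁ σ₂).t = 0 := rfl
theorem Tw.one_a : (1 : Tw σ₁ σ₂).a = 1 := rfl
theorem Tw.one_b : (1 : Tw σ₁ σ₂).b = 1 := rfl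
theorem Tw.inv_t (x : Tw σ₁ σ₂) : (x⁻¹).t = -x.t + twPair σ₁ σ₂ x.b x.a := rfl
theorem Tw.inv_a (x : Tw σ₁ σ₂) : (x⁻¹).a = x.a⁻¹ := rfl
theorem Tw.inv_b (x : Tw σ₁ σ₂) : (x⁻¹).b = x.b⁻¹ := rfl

/-- the projection `Tw → Q₁ × Q₂`. -/
def twMap : Tw σ₁ σ₂ →* Q₁ × Q₂ where
  toFun x := (σ₁ x.a, σ₂ x.b)
  map_one' := by rw [Tw.one_a, Tw.one_b, map_one, map_one]; rfl
  map_mul' x y := by rw [Tw.mul_a, Tw.mul_b, map_mul, map_mul]; rfl

theorem twMap_apply (x : Tw σ₁ σ₂) : twMap σ₁ σ₂ x = (σ₁ x.a, σ₂ x.b) := rfl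

theorem mem_twMap_ker (x : Tw σ₁ σ₂) : x ∈ (twMap σ₁ σ₂).ker ↔ x.a ∈ σ₁.ker ∧ x.b ∈ σ₂.ker := by
  rw [MonoidHom.mem_ker, twMap_apply, MonoidHom.mem_ker, MonoidHom.mem_ker, Prod.ext_iff]
  rfl

theorem twMap_surjective (h₁ : Function.Surjective σ₁) (h₂ : Function.Surjective σ₂) :
    Function.Surjective (twMap σ₁ σ₂) := by
  rintro ⟨q₁, q₂⟩
  obtain ⟨a, rfl⟩ := h₁ q₁
  obtain ⟨b, rfl⟩ := h₂ q₂
  exact ⟨⟨0, a, b⟩, rfl⟩

/-- embedding of `Γ₁`. -/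
def twInl : Γ₁ →* Tw σ₁ σ₂ where
  toFun a := ⟨0, a, 1⟩
  map_one' := rfl
  map_mul' a a' := by
    apply Tw.ext
    · rw [Tw.mul_t]
      change (0 : TT Q₁ Q₂) = 0 + 0 + twPair σ₁ σ₂ 1 a'
      rw [twPair_one_left]; abel
    · rfl
    · change (1 : Γ₂) = 1 * 1
      rw [one_mul]

/-- embedding of `Γ₂`. -/
def twInr : Γ₂ →* Tw σ₁ σ₂ where
  toFun b := ⟨0, 1, b⟩
  map_one' := rfl
  map_mul' b b' := by
    apply Tw.ext
    · rw [Tw.mul_t]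
      change (0 : TT Q₁ Q₂) = 0 + 0 + twPair σ₁ σ₂ b 1
      rw [twPair_one_right]; abel
    · change (1 : Γ₁) = 1 * 1
      rw [one_mul]
    · rfl

/-- embedding of `T`. -/
def twInt : Multiplicative (TT Q₁ Q₂) →* Tw σ₁ σ₂ where
  toFun t := ⟨Multiplicative.toAdd t, 1, 1⟩
  map_one' := rfl
  map_mul' t t' := by
    apply Tw.ext
    · rw [Tw.mul_t]
      change Multiplicative.toAdd (t * t') =
        Multiplicative.toAdd t + Multiplicative.toAdd t' + twPair σ₁ σ₂ 1 1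
      rw [twPair_one_left, toAdd_mul]; abel
    · change (1 : Γ₁) = 1 * 1
      rw [one_mul]
    · change (1 : Γ₂) = 1 * 1
      rw [one_mul]

theorem tw_decomp (x : Tw σ₁ σ₂) :
    x = twInt σ₁ σ₂ (Multiplicative.ofAdd x.t) * twInl σ₁ σ₂ x.a * twInr σ₁ σ₂ x.b := by
  apply Tw.ext
  · rw [Tw.mul_t, Tw.mul_t]
    change x.t = x.t + 0 + twPair σ₁ σ₂ 1 x.a + 0 + twPair σ₁ σ₂ (1 * 1) 1
    rw [twPair_one_left, twPair_one_right]; abel
  · rw [Tw.mul_a, Tw.mul_a]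
    change x.a = 1 * x.a * 1
    rw [one_mul, mul_one]
  · rw [Tw.mul_b, Tw.mul_b]
    change x.b = 1 * 1 * x.b
    rw [one_mul, one_mul]

theorem twInl_t (a : Γ₁) : (twInl σ₁ σ₂ a).t = 0 := rfl
theorem twInl_a (a : Γ₁) : (twInl σ₁ σ₂ a).a = a := rfl
theorem twInl_b (a : Γ₁) : (twInl σ₁ σ₂ a).b = 1 := rfl
theorem twInr_t (b : Γ₂) : (twInr σ₁ σ₂ b).t = 0 := rfl
theorem twInr_a (b : Γ₂) : (twInr σ₁ σ₂ b).a = 1 := rfl
theorem twInr_b (b : Γ₂) : (twInr σ₁ σ₂ b).b = b := rfl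
theorem twInt_t (t : Multiplicative (TT Q₁ Q₂)) :
    (twInt σ₁ σ₂ t).t = Multiplicative.toAdd t := rfl
theorem twInt_a (t : Multiplicative (TT Q₁ Q₂)) : (twInt σ₁ σ₂ t).a = 1 := rfl
theorem twInt_b (t : Multiplicative (TT Q₁ Q₂)) : (twInt σ₁ σ₂ t).b = 1 := rfl

theorem tw_comm_inr_inl (b : Γ₂) (a : Γ₁) :
    ⁅twInr σ₁ σ₂ b, twInl σ₁ σ₂ a⁆ = twInt σ₁ σ₂ (Multiplicative.ofAdd (twPair σ₁ σ₂ b a)) := by
  rw [commutatorElement_def, mul_inv_eq_iff_eq_mul, mul_inv_eq_iff_eq_mul]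
  apply Tw.ext
  · simp only [Tw.mul_t, Tw.mul_b, Tw.mul_a, twInl_t, twInl_a, twInl_b, twInr_t, twInr_a, twInr_b,
      twInt_t, twInt_a, twInt_b, toAdd_ofAdd, twPair_one_left, twPair_one_right, one_mul]
    abel
  · simp only [Tw.mul_a, twInl_a, twInr_a, twInt_a, one_mul, mul_one]
  · simp only [Tw.mul_b, twInl_b, twInr_b, twInt_b, one_mul, mul_one]

theorem twInt_mem_commutator (h₁ : Function.Surjective σ₁) (h₂ : Function.Surjective σ₂)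
    (t : TT Q₁ Q₂) : twInt σ₁ σ₂ (Multiplicative.ofAdd t) ∈ commutator (Tw σ₁ σ₂) := by
  induction t using TensorProduct.induction_on with
  | zero =>
    rw [ofAdd_zero, map_one]
    exact Subgroup.one_mem _
  | tmul x y =>
    obtain ⟨q₁, hq₁⟩ := QuotientGroup.mk_surjective (Additive.toMul x)
    obtain ⟨q₂, hq₂⟩ := QuotientGroup.mk_surjective (Additive.toMul y)
    obtain ⟨a, rfl⟩ := h₁ q₁
    obtain ⟨b, rfl⟩ := h₂ q₂
    have hp : twPair σ₁ σ₂ b a = x ⊗ₜ[ℤ] y := by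
      unfold twPair
      have e1 : Abelianization.of (σ₁ a) = Additive.toMul x := hq₁
      have e2 : Abelianization.of (σ₂ b) = Additive.toMul y := hq₂
      rw [e1, e2]
      rfl
    rw [← hp, ← tw_comm_inr_inl, commutator_def]
    exact Subgroup.commutator_mem_commutator (Subgroup.mem_top _) (Subgroup.mem_top _)
  | add x y hx hy =>
    rw [ofAdd_add, map_mul]
    exact Subgroup.mul_mem _ hx hy

theorem map_commutator_le_commutator {G H : Type*} [Group G] [Group H] (φ : G →* H) :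
    (commutator G).map φ ≤ commutator H := by
  rw [commutator_def, Subgroup.map_commutator, commutator_def]
  exact Subgroup.commutator_mono le_top le_top

theorem twMap_isStem (h₁ : Cfsg.IsStemExtension σ₁) (h₂ : Cfsg.IsStemExtension σ₂) :
    Cfsg.IsStemExtension (twMap σ₁ σ₂) := by
  refine ⟨twMap_surjective σ₁ σ₂ h₁.1 h₂.1, ?_, ?_⟩
  · intro x hx
    rw [mem_twMap_ker] at hx
    rw [Subgroup.mem_center_iff]
    intro y
    apply Tw.ext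
    · rw [Tw.mul_t, Tw.mul_t, twPair_of_mem_ker_left σ₁ σ₂ hx.2, twPair_of_mem_ker_right σ₁ σ₂ _ hx.1]
      abel
    · rw [Tw.mul_a, Tw.mul_a]
      exact Subgroup.mem_center_iff.1 (h₁.2.1 hx.1) y.a
    · rw [Tw.mul_b, Tw.mul_b]
      exact Subgroup.mem_center_iff.1 (h₂.2.1 hx.2) y.b
  · intro x hx
    rw [mem_twMap_ker] at hx
    rw [tw_decomp σ₁ σ₂ x]
    refine Subgroup.mul_mem _ (Subgroup.mul_mem _ (twInt_mem_commutator σ₁ σ₂ h₁.1 h₂.1 x.t) ?_) ?_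
    · exact map_commutator_le_commutator (twInl σ₁ σ₂)
        (Subgroup.mem_map_of_mem _ (h₁.2.2 hx.1))
    · exact map_commutator_le_commutator (twInr σ₁ σ₂)
        (Subgroup.mem_map_of_mem _ (h₂.2.2 hx.2))

/-- the kernel of the twisted product. -/
def twKerEquiv {A B : Type*} [Group A] [Group B] (e₁ : σ₁.ker ≃* A) (e₂ : σ₂.ker ≃* B) :
    (twMap σ₁ σ₂).ker ≃* A × B × Multiplicative (TT Q₁ Q₂) where
  toFun x := (e₁ ⟨x.1.a, ((mem_twMap_ker σ₁ σ₂ x.1).1 x.2).1⟩,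
    e₂ ⟨x.1.b, ((mem_twMap_ker σ₁ σ₂ x.1).1 x.2).2⟩, Multiplicative.ofAdd x.1.t)
  invFun y := ⟨⟨Multiplicative.toAdd y.2.2, (e₁.symm y.1).1, (e₂.symm y.2.1).1⟩,
    (mem_twMap_ker σ₁ σ₂ _).2 ⟨(e₁.symm y.1).2, (e₂.symm y.2.1).2⟩⟩
  left_inv x := by
    apply Subtype.ext
    apply Tw.ext
    · rfl
    · change ((e₁.symm (e₁ _)) : σ₁.ker).1 = _
      rw [e₁.symm_apply_apply]
    · change ((e₂.symm (e₂ _)) : σ₂.ker).1 = _
      rw [e₂.symm_apply_apply]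
  right_inv y := by
    refine Prod.ext ?_ (Prod.ext ?_ ?_)
    · change e₁ ⟨(e₁.symm y.1).1, _⟩ = y.1
      exact e₁.apply_symm_apply _
    · change e₂ ⟨(e₂.symm y.2.1).1, _⟩ = y.2.1
      exact e₂.apply_symm_apply _
    · rfl
  map_mul' x y := by
    refine Prod.ext ?_ (Prod.ext ?_ ?_)
    · change e₁ ⟨(x.1 * y.1).a, _⟩ = e₁ _ * e₁ _
      rw [← map_mul]
      rfl
    · change e₂ ⟨(x.1 * y.1).b, _⟩ = e₂ _ * e₂ _
      rw [← map_mul]
      rfl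
    · change Multiplicative.ofAdd (x.1 * y.1).t =
        Multiplicative.ofAdd x.1.t * Multiplicative.ofAdd y.1.t
      rw [Tw.mul_t, twPair_of_mem_ker_left σ₁ σ₂ ((mem_twMap_ker σ₁ σ₂ x.1).1 x.2).2, add_zero,
        ofAdd_add]

end twisted

section finiteness
variable (Q₁ : Type u) (Q₂ : Type v) [Group Q₁] [Group Q₂]

theorem finite_TT [Finite Q₁] [Finite Q₂] : Finite (TT Q₁ Q₂) := by
  have hf1 : Module.Finite ℤ (Additive (Abelianization Q₁)) := Module.Finite.of_finite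
  have hf2 : Module.Finite ℤ (Additive (Abelianization Q₂)) := Module.Finite.of_finite
  have hf3 : Module.Finite ℤ (TT Q₁ Q₂) :=
    Module.Finite.tensorProduct ℤ (Additive (Abelianization Q₁)) (Additive (Abelianization Q₂))
  apply Module.finite_of_fg_torsion
  intro t
  have hn : (Nat.card (Additive (Abelianization Q₁)) : ℤ) ≠ 0 := by
    exact_mod_cast Nat.card_pos.ne'
  refine ⟨⟨(Nat.card (Additive (Abelianization Q₁)) : ℤ), mem_nonZeroDivisors_of_ne_zero hn⟩, ?_⟩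
  change (Nat.card (Additive (Abelianization Q₁)) : ℤ) • t = 0
  induction t using TensorProduct.induction_on with
  | zero => rw [smul_zero]
  | tmul x y =>
    rw [TensorProduct.smul_tmul', natCast_zsmul, card_nsmul_eq_zero', TensorProduct.zero_tmul]
  | add x y hx hy => rw [smul_add, hx, hy, add_zero]

end finiteness

section twistedFinite
variable {Q₁ : Type u} {Q₂ : Type v} [Group Q₁] [Group Q₂] {Γ₁ : Type u'} {Γ₂ : Type v'}
  [Group Γ₁] [Group Γ₂] (σ₁ : Γ₁ →* Q₁) (σ₂ : Γ₂ →* Q₂)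

theorem finite_Tw [Finite Q₁] [Finite Q₂] [Finite Γ₁] [Finite Γ₂] : Finite (Tw σ₁ σ₂) := by
  have := finite_TT Q₁ Q₂
  let φ : TT Q₁ Q₂ × Γ₁ × Γ₂ → Tw σ₁ σ₂ := fun p => ⟨p.1, p.2.1, p.2.2⟩
  apply Finite.of_surjective φ
  intro x
  exact ⟨(x.t, x.a, x.b), rfl⟩

end twistedFinite

end Cfsg.Agent.Helper3.SchurMult
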