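import Mathlib
import Cfsg.Prelude.Def_KGroupFacts
import Cfsg.Agent.Helper3.SchurMultB

set_option autoImplicit false

namespace Cfsg.Agent.Helper3.SchurMult

universe u v w w'

open scoped commutatorElement

section
variable {Q : Type u} [Group Q] {X : Type w} (f : X → Q)

theorem mk_mem_commutator_iff (a : FreeGroup X) :
    (QuotientGroup.mk a : Cov f) ∈ commutator (Cov f) ↔ a ∈ commutator (FreeGroup X) := by
  have h1 : (QuotientGroup.mk a : Cov f) ∈ commutator (Cov f) ↔
      covAb f (QuotientGroup.mk a) = 1 := by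
    rw [← covAb_ker]; exact MonoidHom.mem_ker
  have h2 : a ∈ commutator (FreeGroup X) ↔
      (Abelianization.of a : Abelianization (FreeGroup X)) = 1 := by
    rw [← Abelianization.ker_of]; exact MonoidHom.mem_ker
  rw [h1, h2, covAb_mk]

theorem mk_mem_ker_iff (a : FreeGroup X) :
    (QuotientGroup.mk a : Cov f) ∈ (covMap f).ker ↔ pres f a = 1 := by
  rw [MonoidHom.mem_ker]; rfl

theorem mk_mem_mult_iff (a : FreeGroup X) :
    (QuotientGroup.mk a : Cov f) ∈ mult f ↔ pres f a = 1 ∧ a ∈ commutator (FreeGroup X) := by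
  unfold mult
  rw [Subgroup.mem_inf, mk_mem_ker_iff, mk_mem_commutator_iff]

theorem mem_ker_iff (c : Cov f) : c ∈ (covMap f).ker ↔ covMap f c = 1 := MonoidHom.mem_ker

end

end Cfsg.Agent.Helper3.SchurMult
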