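import Mathlib
import Cfsg.Prelude.Def_KGroupFacts
import Cfsg.Agent.Helper3.SchurMultC

set_option autoImplicit false

namespace Cfsg.Agent.Helper3.SchurMult

universe u v w w'

open scoped commutatorElement

section prod
variable {Q₁ : Type u} {Q₂ : Type v} [Group Q₁] [Group Q₂] {Δ : Type w} [Group Δ]
  (τ : Δ →* Q₁ × Q₂)

/-- preimage of `Q₁ × 1`. -/
def leftSub : Subgroup Δ := ((MonoidHom.snd Q₁ Q₂).comp τ).ker

/-- preimage of `1 × Q₂`. -/
def rightSub : Subgroup Δ := ((MonoidHom.fst Q₁ Q₂).comp τ).ker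

instance leftSub_normal : (leftSub τ).Normal := by unfold leftSub; infer_instance
instance rightSub_normal : (rightSub τ).Normal := by unfold rightSub; infer_instance

theorem mem_leftSub (d : Δ) : d ∈ leftSub τ ↔ (τ d).2 = 1 := MonoidHom.mem_ker
theorem mem_rightSub (d : Δ) : d ∈ rightSub τ ↔ (τ d).1 = 1 := MonoidHom.mem_ker

theorem mem_ker_iff_prod (d : Δ) : d ∈ τ.ker ↔ d ∈ leftSub τ ∧ d ∈ rightSub τ := by
  rw [MonoidHom.mem_ker, mem_leftSub, mem_rightSub, Prod.ext_iff]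
  exact ⟨fun h => ⟨h.2, h.1⟩, fun h => ⟨h.2, h.1⟩⟩

theorem exists_mul_of_surjective (hτ : Function.Surjective τ) (d : Δ) :
    ∃ x ∈ leftSub τ, ∃ y ∈ rightSub τ, d = x * y := by
  obtain ⟨x, hx⟩ := hτ ((τ d).1, 1)
  refine ⟨x, ?_, x⁻¹ * d, ?_, by group⟩
  · rw [mem_leftSub, hx]
  · rw [mem_rightSub, map_mul, map_inv, hx]; simp

theorem comm_left_right_le_ker : ⁅leftSub τ, rightSub τ⁆ ≤ τ.ker := by
  rw [Subgroup.commutator_le]
  intro x hx y hy
  rw [mem_leftSub] at hx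
  rw [mem_rightSub] at hy
  rw [MonoidHom.mem_ker, map_commutatorElement, commutatorElement_def]
  apply Prod.ext
  · simp [hy]
  · simp [hx]

/-- the subgroup `Δ₁' Δ₂' [Δ₁,Δ₂]`. -/
def bigD : Subgroup Δ :=
  ⁅leftSub τ, leftSub τ⁆ ⊔ ⁅rightSub τ, rightSub τ⁆ ⊔ ⁅leftSub τ, rightSub τ⁆

instance bigD_normal : (bigD τ).Normal := by unfold bigD; infer_instance

theorem commutator_le_bigD (hτ : Function.Surjective τ) : commutator Δ ≤ bigD τ := by
  have hLL : ⁅leftSub τ, leftSub τ⁆ ≤ bigD τ := le_sup_left.trans le_sup_left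
  have hRR : ⁅rightSub τ, rightSub τ⁆ ≤ bigD τ := le_sup_right.trans le_sup_left
  have hLR : ⁅leftSub τ, rightSub τ⁆ ≤ bigD τ := le_sup_right
  have hRL : ⁅rightSub τ, leftSub τ⁆ ≤ bigD τ := by
    rw [Subgroup.commutator_comm]; exact hLR
  have hn := bigD_normal τ
  -- commutators of "pure" elements
  have key1 : ∀ a : Δ, (a ∈ leftSub τ ∨ a ∈ rightSub τ) → ∀ b : Δ,
      (b ∈ leftSub τ ∨ b ∈ rightSub τ) → ⁅a, b⁆ ∈ bigD τ := by
    intro a ha b hb
    rcases ha with ha | ha <;> rcases hb with hb | hb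
    · exact hLL (Subgroup.commutator_mem_commutator ha hb)
    · exact hLR (Subgroup.commutator_mem_commutator ha hb)
    · exact hRL (Subgroup.commutator_mem_commutator ha hb)
    · exact hRR (Subgroup.commutator_mem_commutator ha hb)
  have key2 : ∀ a : Δ, (a ∈ leftSub τ ∨ a ∈ rightSub τ) → ∀ b : Δ, ⁅a, b⁆ ∈ bigD τ := by
    intro a ha b
    obtain ⟨x, hx, y, hy, rfl⟩ := exists_mul_of_surjective τ hτ b
    have e : ⁅a, x * y⁆ = ⁅a, x⁆ * (x * ⁅a, y⁆ * x⁻¹) := by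
      simp only [commutatorElement_def]; group
    rw [e]
    exact Subgroup.mul_mem _ (key1 a ha x (Or.inl hx))
      (hn.conj_mem _ (key1 a ha y (Or.inr hy)) x)
  rw [commutator_def, Subgroup.commutator_le]
  intro a _ b _
  obtain ⟨x, hx, y, hy, rfl⟩ := exists_mul_of_surjective τ hτ a
  have e : ⁅x * y, b⁆ = (x * ⁅y, b⁆ * x⁻¹) * ⁅x, b⁆ := by
    simp only [commutatorElement_def]; group
  rw [e]
  exact Subgroup.mul_mem _ (hn.conj_mem _ (key2 y (Or.inr hy) b) x) (key2 x (Or.inl hx) b)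

theorem ker_decomp (hτ : Cfsg.IsStemExtension τ) (k : Δ) (hk : k ∈ τ.ker) :
    ∃ u ∈ τ.ker ⊓ ⁅leftSub τ, leftSub τ⁆, ∃ v ∈ τ.ker ⊓ ⁅rightSub τ, rightSub τ⁆,
      ∃ w ∈ ⁅leftSub τ, rightSub τ⁆, k = u * v * w := by
  have hk' : k ∈ bigD τ := commutator_le_bigD τ hτ.1 (hτ.2.2 hk)
  unfold bigD at hk'
  obtain ⟨uv, huv, w, hw, rfl⟩ := Subgroup.mem_sup_of_normal_right.1 hk'
  obtain ⟨u, hu, v, hv, rfl⟩ := Subgroup.mem_sup_of_normal_right.1 huv
  have hwk : τ w = 1 := MonoidHom.mem_ker.1 (comm_left_right_le_ker τ hw)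
  have hu2 : (τ u).2 = 1 :=
    (mem_leftSub τ u).1 (Subgroup.commutator_le_left (leftSub τ) (leftSub τ) hu)
  have hv1 : (τ v).1 = 1 :=
    (mem_rightSub τ v).1 (Subgroup.commutator_le_left (rightSub τ) (rightSub τ) hv)
  have hk1 : τ u * τ v = 1 := by
    have := MonoidHom.mem_ker.1 hk
    rw [map_mul, map_mul, hwk, mul_one] at this
    exact this
  have h1 : (τ u).1 = 1 := by
    have := congrArg Prod.fst hk1
    simp only [Prod.fst_mul, hv1, mul_one, Prod.fst_one] at this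
    exact this
  have h2 : (τ v).2 = 1 := by
    have := congrArg Prod.snd hk1
    simp only [Prod.snd_mul, hu2, one_mul, Prod.snd_one] at this
    exact this
  refine ⟨u, ⟨?_, hu⟩, v, ⟨?_, hv⟩, w, hw, rfl⟩
  · exact MonoidHom.mem_ker.2 (Prod.ext h1 hu2)
  · exact MonoidHom.mem_ker.2 (Prod.ext hv1 h2)

/-- the central extension `Δ₁ → Q₁`. -/
def leftMap : leftSub τ →* Q₁ := ((MonoidHom.fst Q₁ Q₂).comp τ).comp (leftSub τ).subtype

theorem leftMap_apply (x : leftSub τ) : leftMap τ x = (τ x.1).1 := rfl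

theorem leftMap_surjective (hτ : Function.Surjective τ) : Function.Surjective (leftMap τ) := by
  intro q
  obtain ⟨x, hx⟩ := hτ (q, 1)
  refine ⟨⟨x, ?_⟩, ?_⟩
  · rw [mem_leftSub, hx]
  · rw [leftMap_apply, hx]

theorem mem_leftMap_ker (x : leftSub τ) : x ∈ (leftMap τ).ker ↔ x.1 ∈ τ.ker := by
  rw [MonoidHom.mem_ker, MonoidHom.mem_ker, leftMap_apply]
  constructor
  · intro h
    exact Prod.ext h ((mem_leftSub τ x.1).1 x.2)
  · intro h
    rw [h]; rfl

theorem leftMap_ker_le_center (hc : τ.ker ≤ Subgroup.center Δ) :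
    (leftMap τ).ker ≤ Subgroup.center (leftSub τ) := by
  intro x hx
  rw [mem_leftMap_ker] at hx
  rw [Subgroup.mem_center_iff]
  intro y
  apply Subtype.ext
  exact Subgroup.mem_center_iff.1 (hc hx) y.1

theorem map_leftMap_ker_inf :
    ((leftMap τ).ker ⊓ commutator (leftSub τ)).map (leftSub τ).subtype =
      τ.ker ⊓ ⁅leftSub τ, leftSub τ⁆ := by
  ext d
  constructor
  · rintro ⟨x, ⟨hx1, hx2⟩, rfl⟩
    refine ⟨(mem_leftMap_ker τ x).1 hx1, ?_⟩
    rw [← Subgroup.map_subtype_commutator]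
    exact Subgroup.mem_map_of_mem _ hx2
  · rintro ⟨hd1, hd2⟩
    rw [← Subgroup.map_subtype_commutator] at hd2
    obtain ⟨x, hx, rfl⟩ := hd2
    exact ⟨x, ⟨(mem_leftMap_ker τ x).2 hd1, hx⟩, rfl⟩

theorem exists_hom_left [Finite Q₁] {A : Type w'} [CommGroup A]
    (hA : Cfsg.HasSchurMultiplier Q₁ A) (hτ : Function.Surjective τ)
    (hc : τ.ker ≤ Subgroup.center Δ) :
    ∃ ρ : A →* Δ, ρ.range = τ.ker ⊓ ⁅leftSub τ, leftSub τ⁆ := by
  have hsurj := pres_id_surjective (Q := Q₁)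
  obtain ⟨e⟩ := equiv_of_hasSchurMultiplier hA (id : Q₁ → Q₁) hsurj
  obtain ⟨φ, hφ⟩ := cov_lift (id : Q₁ → Q₁) (leftMap τ) (leftMap_surjective τ hτ)
    (leftMap_ker_le_center τ hc)
  have hmap := map_mult_eq (id : Q₁ → Q₁) (leftMap τ) (leftMap_ker_le_center τ hc) φ hφ hsurj
  refine ⟨(((leftSub τ).subtype.comp φ).comp (mult (id : Q₁ → Q₁)).subtype).comp
    e.symm.toMonoidHom, ?_⟩
  rw [← map_leftMap_ker_inf, ← hmap]
  ext d
  constructor
  · rintro ⟨a, rfl⟩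
    exact ⟨φ (e.symm a).1, Subgroup.mem_map_of_mem _ (e.symm a).2, rfl⟩
  · rintro ⟨x, ⟨m, hm, rfl⟩, rfl⟩
    refine ⟨e ⟨m, hm⟩, ?_⟩
    simp

/-- the swapped extension. -/
def swapHom : Δ →* Q₂ × Q₁ := (MulEquiv.prodComm : Q₁ × Q₂ ≃* Q₂ × Q₁).toMonoidHom.comp τ

theorem swapHom_apply (d : Δ) : swapHom τ d = ((τ d).2, (τ d).1) := rfl

theorem swapHom_ker : (swapHom τ).ker = τ.ker := by
  ext d
  rw [MonoidHom.mem_ker, MonoidHom.mem_ker, swapHom_apply, Prod.ext_iff, Prod.ext_iff]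
  exact ⟨fun h => ⟨h.2, h.1⟩, fun h => ⟨h.2, h.1⟩⟩

theorem leftSub_swapHom : leftSub (swapHom τ) = rightSub τ := by
  ext d
  rw [mem_leftSub, mem_rightSub, swapHom_apply]

theorem rightSub_swapHom : rightSub (swapHom τ) = leftSub τ := by
  ext d
  rw [mem_leftSub, mem_rightSub, swapHom_apply]

theorem swapHom_surjective (hτ : Function.Surjective τ) : Function.Surjective (swapHom τ) := by
  intro q
  obtain ⟨d, hd⟩ := hτ (q.2, q.1)
  exact ⟨d, by rw [swapHom_apply, hd]⟩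

theorem exists_hom_right [Finite Q₂] {B : Type w'} [CommGroup B]
    (hB : Cfsg.HasSchurMultiplier Q₂ B) (hτ : Function.Surjective τ)
    (hc : τ.ker ≤ Subgroup.center Δ) :
    ∃ ρ : B →* Δ, ρ.range = τ.ker ⊓ ⁅rightSub τ, rightSub τ⁆ := by
  have := exists_hom_left (swapHom τ) hB (swapHom_surjective τ hτ) (by rw [swapHom_ker]; exact hc)
  rw [swapHom_ker, leftSub_swapHom] at this
  exact this

/-- conjugating by `y ∈ Δ₂` fixes commutators of elements of `Δ₁`. -/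
theorem comm_left_le_centralizer (hc : τ.ker ≤ Subgroup.center Δ) (y : Δ) (hy : y ∈ rightSub τ) :
    ⁅leftSub τ, leftSub τ⁆ ≤ Subgroup.centralizer {y} := by
  rw [Subgroup.commutator_le]
  intro a ha b hb
  rw [Subgroup.mem_centralizer_iff]
  intro h hh
  rw [Set.mem_singleton_iff] at hh
  subst hh
  -- y a y⁻¹ = a * z
  have hza : a⁻¹ * (h * a * h⁻¹) ∈ Subgroup.center Δ := by
    apply hc
    apply comm_left_right_le_ker τ
    have : a⁻¹ * (h * a * h⁻¹) = ⁅a⁻¹, h⁆ := by rw [commutatorElement_def]; group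
    rw [this]
    exact Subgroup.commutator_mem_commutator (inv_mem ha) hy
  have hzb : b⁻¹ * (h * b * h⁻¹) ∈ Subgroup.center Δ := by
    apply hc
    apply comm_left_right_le_ker τ
    have : b⁻¹ * (h * b * h⁻¹) = ⁅b⁻¹, h⁆ := by rw [commutatorElement_def]; group
    rw [this]
    exact Subgroup.commutator_mem_commutator (inv_mem hb) hy
  have e1 : h * ⁅a, b⁆ * h⁻¹ = ⁅a * (a⁻¹ * (h * a * h⁻¹)), b * (b⁻¹ * (h * b * h⁻¹))⁆ := by
    simp only [commutatorElement_def]; group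
  have e2 : h * ⁅a, b⁆ * h⁻¹ = ⁅a, b⁆ := by
    rw [e1, comm_mul_central_left hza, comm_mul_central_right hzb]
  calc h * ⁅a, b⁆ = h * ⁅a, b⁆ * h⁻¹ * h := by group
    _ = ⁅a, b⁆ * h := by rw [e2]

theorem comm_pow_left (hc : τ.ker ≤ Subgroup.center Δ) (x y : Δ) (hx : x ∈ leftSub τ)
    (hy : y ∈ rightSub τ) (n : ℕ) : ⁅x ^ n, y⁆ = ⁅x, y⁆ ^ n := by
  have hz : ⁅x, y⁆ ∈ Subgroup.center Δ :=
    hc (comm_left_right_le_ker τ (Subgroup.commutator_mem_commutator hx hy))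
  induction n with
  | zero => simp
  | succ n ih =>
    have e : ⁅x ^ (n + 1), y⁆ = x ^ n * ⁅x, y⁆ * (x ^ n)⁻¹ * ⁅x ^ n, y⁆ := by
      simp only [commutatorElement_def, pow_succ]; group
    rw [e, ih, Subgroup.mem_center_iff.1 hz (x ^ n), mul_inv_cancel_right, pow_succ']

theorem comm_pow_card_eq_one [Finite Q₁] (hτ : Function.Surjective τ)
    (hc : τ.ker ≤ Subgroup.center Δ) (x : Δ) (hx : x ∈ leftSub τ) (y : Δ) (hy : y ∈ rightSub τ) :
    ⁅x, y⁆ ^ Nat.card (Abelianization Q₁) = 1 := by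
  set n := Nat.card (Abelianization Q₁) with hn
  rw [← comm_pow_left τ hc x y hx hy]
  -- x^n ∈ ⁅L,L⁆ K
  have h1 : (τ x).1 ^ n ∈ commutator Q₁ := by
    rw [← Abelianization.ker_of, MonoidHom.mem_ker, map_pow, hn]
    exact pow_card_eq_one'
  have h2 : (commutator (leftSub τ)).map (leftMap τ) = commutator Q₁ := by
    rw [commutator_def, Subgroup.map_commutator, ← MonoidHom.range_eq_map,
      MonoidHom.range_eq_top.2 (leftMap_surjective τ hτ), commutator_def]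
  rw [← h2] at h1
  obtain ⟨d, hd, hdx⟩ := h1
  have hk : d.1⁻¹ * x ^ n ∈ τ.ker := by
    have : (d⁻¹ * (⟨x, hx⟩ : leftSub τ) ^ n) ∈ (leftMap τ).ker := by
      rw [MonoidHom.mem_ker, map_mul, map_inv, hdx, map_pow]
      change ((τ x).1 ^ n)⁻¹ * (τ x).1 ^ n = 1
      rw [inv_mul_cancel]
    exact (mem_leftMap_ker τ _).1 this
  have hd' : d.1 ∈ ⁅leftSub τ, leftSub τ⁆ := by
    rw [← Subgroup.map_subtype_commutator]
    exact Subgroup.mem_map_of_mem _ hd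
  have e : x ^ n = d.1 * (d.1⁻¹ * x ^ n) := by group
  rw [e, comm_mul_central_left (hc hk), commutatorElement_eq_one_iff_commute]
  have := comm_left_le_centralizer τ hc y hy hd'
  rw [Subgroup.mem_centralizer_iff] at this
  exact (this y rfl).symm

theorem comm_left_right_eq_one_of_coprime [Finite Q₁] [Finite Q₂] (hτ : Function.Surjective τ)
    (hc : τ.ker ≤ Subgroup.center Δ)
    (hcop : Nat.Coprime (Nat.card (Abelianization Q₁)) (Nat.card (Abelianization Q₂))) :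
    ⁅leftSub τ, rightSub τ⁆ = ⊥ := by
  rw [Subgroup.commutator_eq_bot_iff_le_centralizer]
  intro x hx
  rw [Subgroup.mem_centralizer_iff]
  intro y hy
  have h1 := comm_pow_card_eq_one τ hτ hc x hx y hy
  have h2 : ⁅y, x⁆ ^ Nat.card (Abelianization Q₂) = 1 :=
    comm_pow_card_eq_one (swapHom τ) (swapHom_surjective τ hτ) (by rw [swapHom_ker]; exact hc) y
      (by rw [leftSub_swapHom]; exact hy) x (by rw [rightSub_swapHom]; exact hx)
  have h3 : ⁅x, y⁆ ^ Nat.card (Abelianization Q₂) = 1 := by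
    rw [← commutatorElement_inv y x, inv_pow, h2, inv_one]
  have h4 : ⁅x, y⁆ = 1 := by
    have ho1 := orderOf_dvd_of_pow_eq_one h1
    have ho2 := orderOf_dvd_of_pow_eq_one h3
    have := Nat.dvd_gcd ho1 ho2
    rw [Nat.Coprime.gcd_eq_one hcop, Nat.dvd_one, orderOf_eq_one_iff] at this
    exact this
  exact (commutatorElement_eq_one_iff_mul_comm.1 h4).symm

end prod

section prodStem
variable {Q₁ : Type u} {Q₂ : Type v} [Group Q₁] [Group Q₂] {Γ₁ : Type w} {Γ₂ : Type w'}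
  [Group Γ₁] [Group Γ₂] (σ₁ : Γ₁ →* Q₁) (σ₂ : Γ₂ →* Q₂)

theorem mem_ker_prodMap (x : Γ₁ × Γ₂) : x ∈ (σ₁.prodMap σ₂).ker ↔ x.1 ∈ σ₁.ker ∧ x.2 ∈ σ₂.ker := by
  rw [MonoidHom.mem_ker, MonoidHom.mem_ker, MonoidHom.mem_ker, Prod.ext_iff]
  rfl

theorem prodMap_isStem (h₁ : Cfsg.IsStemExtension σ₁) (h₂ : Cfsg.IsStemExtension σ₂) :
    Cfsg.IsStemExtension (σ₁.prodMap σ₂) := by
  refine ⟨?_, ?_, ?_⟩
  · rintro ⟨q₁, q₂⟩
    obtain ⟨x, rfl⟩ := h₁.1 q₁
    obtain ⟨y, rfl⟩ := h₂.1 q₂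
    exact ⟨(x, y), rfl⟩
  · intro x hx
    rw [mem_ker_prodMap] at hx
    rw [Subgroup.mem_center_iff]
    intro g
    apply Prod.ext
    · exact Subgroup.mem_center_iff.1 (h₁.2.1 hx.1) g.1
    · exact Subgroup.mem_center_iff.1 (h₂.2.1 hx.2) g.2
  · intro x hx
    rw [mem_ker_prodMap] at hx
    have e : x = (MonoidHom.inl Γ₁ Γ₂ x.1) * (MonoidHom.inr Γ₁ Γ₂ x.2) := by
      apply Prod.ext <;> simp
    rw [e]
    apply Subgroup.mul_mem
    · have : MonoidHom.inl Γ₁ Γ₂ x.1 ∈ (commutator Γ₁).map (MonoidHom.inl Γ₁ Γ₂) :=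
        Subgroup.mem_map_of_mem _ (h₁.2.2 hx.1)
      rw [commutator_def, Subgroup.map_commutator] at this
      rw [commutator_def]
      exact Subgroup.commutator_mono le_top le_top this
    · have : MonoidHom.inr Γ₁ Γ₂ x.2 ∈ (commutator Γ₂).map (MonoidHom.inr Γ₁ Γ₂) :=
        Subgroup.mem_map_of_mem _ (h₂.2.2 hx.2)
      rw [commutator_def, Subgroup.map_commutator] at this
      rw [commutator_def]
      exact Subgroup.commutator_mono le_top le_top this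

/-- kernel of the product map -/
def kerProdEquiv : (σ₁.prodMap σ₂).ker ≃* σ₁.ker × σ₂.ker where
  toFun x := (⟨x.1.1, ((mem_ker_prodMap σ₁ σ₂ x.1).1 x.2).1⟩,
    ⟨x.1.2, ((mem_ker_prodMap σ₁ σ₂ x.1).1 x.2).2⟩)
  invFun y := ⟨(y.1.1, y.2.1), (mem_ker_prodMap σ₁ σ₂ _).2 ⟨y.1.2, y.2.2⟩⟩
  left_inv x := rfl
  right_inv y := rfl
  map_mul' x y := rfl

end prodStem

end Cfsg.Agent.Helper3.SchurMult
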