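import Mathlib
import Cfsg.Prelude.Def_KGroupFacts
import Cfsg.Agent.Helper3.SchurMultA
import Cfsg.Agent.Helper3.SchurMultD
import Cfsg.Agent.Helper3.SchurKunnethA

set_option autoImplicit false

namespace Cfsg.Agent.Helper3.SchurMult

universe u v w

open scoped TensorProduct commutatorElement

section general
variable {G : Type*} [Group G]

theorem comm_mul_left_of_central {x x' y : G} (h : ⁅x', y⁆ ∈ Subgroup.center G) :
    ⁅x * x', y⁆ = ⁅x, y⁆ * ⁅x', y⁆ := by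
  have e : ⁅x * x', y⁆ = x * ⁅x', y⁆ * x⁻¹ * ⁅x, y⁆ := by
    simp only [commutatorElement_def]; group
  rw [e, Subgroup.mem_center_iff.1 h x, mul_inv_cancel_right, Subgroup.mem_center_iff.1 h ⁅x, y⁆]

theorem comm_mul_right_of_central {x y y' : G} (h : ⁅x, y'⁆ ∈ Subgroup.center G) :
    ⁅x, y * y'⁆ = ⁅x, y⁆ * ⁅x, y'⁆ := by
  have e : ⁅x, y * y'⁆ = ⁅x, y⁆ * (y * ⁅x, y'⁆ * y⁻¹) := by
    simp only [commutatorElement_def]; group
  rw [e, Subgroup.mem_center_iff.1 h y, mul_inv_cancel_right]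

/-- `Abelianization.lift` as a homomorphism. -/
def abLiftHom (G : Type*) [Group G] (A : Type*) [CommGroup A] :
    (G →* A) →* (Abelianization G →* A) where
  toFun := Abelianization.lift
  map_one' := by
    apply Abelianization.hom_ext
    ext x
    simp
  map_mul' f g := by
    apply Abelianization.hom_ext
    ext x
    simp

theorem abLiftHom_apply_of {A : Type*} [CommGroup A] (f : G →* A) (x : G) :
    abLiftHom G A f (Abelianization.of x) = f x := Abelianization.lift_apply_of f x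

end general

section pairing
variable {Q₁ : Type u} {Q₂ : Type v} [Group Q₁] [Group Q₂] {Δ : Type w} [Group Δ]
  (τ : Δ →* Q₁ × Q₂)

theorem comm_lr_mem_ker {x y : Δ} (hx : x ∈ leftSub τ) (hy : y ∈ rightSub τ) : ⁅x, y⁆ ∈ τ.ker :=
  comm_left_right_le_ker τ (Subgroup.commutator_mem_commutator hx hy)

theorem comm_lr_congr (hc : τ.ker ≤ Subgroup.center Δ) {x x' y y' : Δ}
    (hx : x ∈ leftSub τ) (hx' : x' ∈ leftSub τ) (hy : y ∈ rightSub τ) (hy' : y' ∈ rightSub τ)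
    (h1 : (τ x).1 = (τ x').1) (h2 : (τ y).2 = (τ y').2) : ⁅x, y⁆ = ⁅x', y'⁆ := by
  have hk1 : x⁻¹ * x' ∈ Subgroup.center Δ := by
    apply hc
    rw [MonoidHom.mem_ker, map_mul, map_inv]
    apply Prod.ext
    · simp only [Prod.fst_mul, Prod.fst_inv, Prod.fst_one, h1, inv_mul_cancel]
    · rw [mem_leftSub] at hx hx'
      simp only [Prod.snd_mul, Prod.snd_inv, Prod.snd_one, hx, hx', inv_one, mul_one]
  have hk2 : y⁻¹ * y' ∈ Subgroup.center Δ := by
    apply hc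
    rw [MonoidHom.mem_ker, map_mul, map_inv]
    apply Prod.ext
    · rw [mem_rightSub] at hy hy'
      simp only [Prod.fst_mul, Prod.fst_inv, Prod.fst_one, hy, hy', inv_one, mul_one]
    · simp only [Prod.snd_mul, Prod.snd_inv, Prod.snd_one, h2, inv_mul_cancel]
  have e1 : x' = x * (x⁻¹ * x') := by group
  have e2 : y' = y * (y⁻¹ * y') := by group
  rw [e1, e2, comm_mul_central_left hk1, comm_mul_central_right hk2]

theorem exists_pairing_hom (hτ : Function.Surjective τ) (hc : τ.ker ≤ Subgroup.center Δ) :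
    ∃ θ : Multiplicative (TT Q₁ Q₂) →* Δ, θ.range ≤ τ.ker ∧
      ⁅leftSub τ, rightSub τ⁆ ≤ θ.range := by
  let _ : CommGroup τ.ker := commGroupOfCentral _ hc
  choose s₁ hs₁ using (fun q₁ : Q₁ => hτ (q₁, 1))
  choose s₂ hs₂ using (fun q₂ : Q₂ => hτ (1, q₂))
  have hs₁L : ∀ q, s₁ q ∈ leftSub τ := fun q => by rw [mem_leftSub, hs₁]
  have hs₂R : ∀ q, s₂ q ∈ rightSub τ := fun q => by rw [mem_rightSub, hs₂]
  let c : Q₁ → Q₂ → τ.ker := fun q₁ q₂ => ⟨⁅s₁ q₁, s₂ q₂⁆, comm_lr_mem_ker τ (hs₁L q₁) (hs₂R q₂)⟩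
  have hc_left : ∀ q₁ q₁' q₂, c (q₁ * q₁') q₂ = c q₁ q₂ * c q₁' q₂ := by
    intro q₁ q₁' q₂
    apply Subtype.ext
    change ⁅s₁ (q₁ * q₁'), s₂ q₂⁆ = ⁅s₁ q₁, s₂ q₂⁆ * ⁅s₁ q₁', s₂ q₂⁆
    rw [← comm_mul_left_of_central (hc (comm_lr_mem_ker τ (hs₁L q₁') (hs₂R q₂)))]
    apply comm_lr_congr τ hc (hs₁L _) (Subgroup.mul_mem _ (hs₁L _) (hs₁L _)) (hs₂R _) (hs₂R _)
    · rw [map_mul, hs₁, hs₁, hs₁]
      rfl
    · rfl
  have hc_right : ∀ q₁ q₂ q₂', c q₁ (q₂ * q₂') = c q₁ q₂ * c q₁ q₂' := by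
    intro q₁ q₂ q₂'
    apply Subtype.ext
    change ⁅s₁ q₁, s₂ (q₂ * q₂')⁆ = ⁅s₁ q₁, s₂ q₂⁆ * ⁅s₁ q₁, s₂ q₂'⁆
    rw [← comm_mul_right_of_central (hc (comm_lr_mem_ker τ (hs₁L q₁) (hs₂R q₂')))]
    apply comm_lr_congr τ hc (hs₁L _) (hs₁L _) (hs₂R _) (Subgroup.mul_mem _ (hs₂R _) (hs₂R _))
    · rfl
    · rw [map_mul, hs₂, hs₂, hs₂]
      rfl
  let κ₂ : Q₁ → (Q₂ →* τ.ker) := fun q₁ => MonoidHom.mk' (c q₁) (hc_right q₁)
  let κ₁ : Q₁ →* (Q₂ →* τ.ker) := MonoidHom.mk' κ₂ (by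
    intro a b
    ext q
    exact congrArg Subtype.val (hc_left a b q))
  let κ : Abelianization Q₁ →* (Abelianization Q₂ →* τ.ker) :=
    Abelianization.lift ((abLiftHom Q₂ τ.ker).comp κ₁)
  have hκ : ∀ q₁ q₂, κ (Abelianization.of q₁) (Abelianization.of q₂) = c q₁ q₂ := by
    intro q₁ q₂
    rw [Abelianization.lift_apply_of]
    exact abLiftHom_apply_of _ _
  let F : Additive (Abelianization Q₁) →+ Additive (Abelianization Q₂) →+ Additive τ.ker :=
    AddMonoidHom.mk' (fun m => MonoidHom.toAdditive (κ (Additive.toMul m))) (by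
      intro m m'
      refine AddMonoidHom.ext fun n => ?_
      change Additive.ofMul (κ (Additive.toMul m * Additive.toMul m') (Additive.toMul n)) = _
      rw [map_mul]
      rfl)
  have hF : ∀ (r : ℤ) (m : Additive (Abelianization Q₁)) (n : Additive (Abelianization Q₂)),
      F (r • m) n = F m (r • n) := by
    intro r m n
    rw [map_zsmul, map_zsmul, AddMonoidHom.smul_apply]
  let θ₀ : TT Q₁ Q₂ →+ Additive τ.ker := TensorProduct.liftAddHom F hF
  let θ : Multiplicative (TT Q₁ Q₂) →* Δ :=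
    τ.ker.subtype.comp (AddMonoidHom.toMultiplicativeLeft θ₀)
  refine ⟨θ, ?_, ?_⟩
  · rintro _ ⟨t, rfl⟩
    exact (AddMonoidHom.toMultiplicativeLeft θ₀ t).2
  · rw [Subgroup.commutator_le]
    intro x hx y hy
    have e : ⁅x, y⁆ = ⁅s₁ (τ x).1, s₂ (τ y).2⁆ := by
      apply comm_lr_congr τ hc hx (hs₁L _) hy (hs₂R _)
      · rw [hs₁]
      · rw [hs₂]
    refine ⟨Multiplicative.ofAdd ((Additive.ofMul (Abelianization.of (τ x).1)) ⊗ₜ[ℤ]
      (Additive.ofMul (Abelianization.of (τ y).2))), ?_⟩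
    rw [e]
    have h1 : θ₀ ((Additive.ofMul (Abelianization.of (τ x).1)) ⊗ₜ[ℤ]
        (Additive.ofMul (Abelianization.of (τ y).2))) =
        Additive.ofMul (κ (Abelianization.of (τ x).1) (Abelianization.of (τ y).2)) :=
      TensorProduct.liftAddHom_tmul F hF _ _
    change ((Additive.toMul (θ₀ ((Additive.ofMul (Abelianization.of (τ x).1)) ⊗ₜ[ℤ]
        (Additive.ofMul (Abelianization.of (τ y).2)))) : τ.ker) : Δ) = _
    rw [h1, hκ]
    rfl

end pairing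

end Cfsg.Agent.Helper3.SchurMult
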