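import Mathlib
import Cfsg.Prelude.Def_KGroupFacts
import Cfsg.Agent.Helper3.SchurMultD

set_option autoImplicit false

namespace Cfsg.Agent.Helper3.SchurMult

universe u v w w'

open scoped commutatorElement

section divisible

/-- a hom on a central subgroup meeting the commutator subgroup trivially extends to the whole
group, if the target is a divisible abelian group. -/
theorem exists_extension_of_divisible {C : Type*} [Group C] (S : Subgroup C)
    (hSc : S ≤ Subgroup.center C) (hS : S ⊓ commutator C = ⊥) {D : Type*} [CommGroup D]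
    (hroot : ∀ (z : D) (k : ℕ), k ≠ 0 → ∃ w : D, w ^ k = z) (θ : S →* D) :
    ∃ μ : C →* D, ∀ s : S, μ s.1 = θ s := by
  let _ : CommGroup S := commGroupOfCentral S hSc
  have hdiv : DivisibleBy (Additive D) ℤ := by
    apply divisibleByOfSMulRightSurj
    intro n hn a
    obtain ⟨w, hw⟩ := hroot (Additive.toMul a) n.natAbs (Int.natAbs_ne_zero.2 hn)
    rcases Int.natAbs_eq n with h | h
    · refine ⟨Additive.ofMul w, ?_⟩
      change n • Additive.ofMul w = a
      rw [h, natCast_zsmul, ← ofMul_pow, hw]; rfl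
    · refine ⟨Additive.ofMul w⁻¹, ?_⟩
      change n • Additive.ofMul w⁻¹ = a
      rw [h, neg_zsmul, natCast_zsmul, ← ofMul_pow, inv_pow, hw, ofMul_inv, neg_neg]; rfl
  have hbaer : Module.Baer ℤ (Additive D) := Module.Baer.of_divisible _
  let ι : Additive S →ₗ[ℤ] Additive (Abelianization C) :=
    (MonoidHom.toAdditive ((Abelianization.of).comp S.subtype)).toIntLinearMap
  have hι : Function.Injective ι := by
    rw [← LinearMap.ker_eq_bot, LinearMap.ker_eq_bot']
    intro m hm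
    have h1 : (Abelianization.of (Additive.toMul m).1 : Abelianization C) = 1 := hm
    have h2 : (Additive.toMul m).1 ∈ commutator C := by
      rw [← Abelianization.ker_of]; exact MonoidHom.mem_ker.2 h1
    have h3 : (Additive.toMul m).1 ∈ S ⊓ commutator C := ⟨(Additive.toMul m).2, h2⟩
    rw [hS, Subgroup.mem_bot] at h3
    have : Additive.toMul m = 1 := Subtype.ext h3
    exact this
  let g : Additive S →ₗ[ℤ] Additive D := (MonoidHom.toAdditive θ).toIntLinearMap
  obtain ⟨h, hh⟩ := Module.Baer.extension_property hbaer ι hι g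
  let μ' : Abelianization C →* D := MonoidHom.toAdditive.symm h.toAddMonoidHom
  refine ⟨μ'.comp Abelianization.of, ?_⟩
  intro s
  have := DFunLike.congr_fun hh (Additive.ofMul s)
  exact this

end divisible

section projective

theorem lift_projective {Q : Type u} [Group Q] [Finite Q] {A : Type v} [CommGroup A]
    (hA : Cfsg.HasSchurMultiplier Q A) {Γ : Type w} [Group Γ] (σ : Γ →* Q)
    (hσ : Cfsg.IsStemExtension σ) (hk : Nonempty (σ.ker ≃* A))
    {G : Type w'} [Group G]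
    (hroot : ∀ z ∈ Subgroup.center G, ∀ k : ℕ, k ≠ 0 → ∃ w ∈ Subgroup.center G, w ^ k = z)
    (γ : Q →* G ⧸ Subgroup.center G) :
    ∃ ρ : Γ →* G, (QuotientGroup.mk' (Subgroup.center G)).comp ρ = γ.comp σ := by
  classical
  set q := QuotientGroup.mk' (Subgroup.center G) with hq
  have hsurj := pres_id_surjective (Q := Q)
  -- the pullback
  let E : Subgroup (Γ × G) :=
    ((γ.comp σ).comp (MonoidHom.fst Γ G)).eqLocus (q.comp (MonoidHom.snd Γ G))
  have hE : ∀ x : Γ × G, x ∈ E ↔ γ (σ x.1) = q x.2 := fun x => Iff.rfl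
  let ξ : E →* Q := (σ.comp (MonoidHom.fst Γ G)).comp E.subtype
  have hξ : ∀ e : E, ξ e = σ e.1.1 := fun e => rfl
  have hξsurj : Function.Surjective ξ := by
    intro q₀
    obtain ⟨x, hx⟩ := hσ.1 q₀
    obtain ⟨g, hg⟩ := QuotientGroup.mk'_surjective (Subgroup.center G) (γ q₀)
    refine ⟨⟨(x, g), ?_⟩, ?_⟩
    · rw [hE]
      change γ (σ x) = q g
      rw [hx, hq, hg]
    · rw [hξ]; exact hx
  have hξc : ξ.ker ≤ Subgroup.center E := by
    intro e he
    rw [MonoidHom.mem_ker, hξ] at he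
    have h1 : e.1.1 ∈ Subgroup.center Γ := hσ.2.1 (MonoidHom.mem_ker.2 he)
    have h2 : e.1.2 ∈ Subgroup.center G := by
      have := (hE e.1).1 e.2
      rw [he, map_one] at this
      exact (QuotientGroup.eq_one_iff _).1 this.symm
    rw [Subgroup.mem_center_iff]
    intro e'
    apply Subtype.ext
    apply Prod.ext
    · exact Subgroup.mem_center_iff.1 h1 e'.1.1
    · exact Subgroup.mem_center_iff.1 h2 e'.1.2
  obtain ⟨φ, hφ⟩ := cov_lift (id : Q → Q) ξ hξsurj hξc
  have hφ' : ∀ c, σ (φ c).1.1 = covMap (id : Q → Q) c := fun c => DFunLike.congr_fun hφ c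
  let φ₁ : Cov (id : Q → Q) →* Γ := ((MonoidHom.fst Γ G).comp E.subtype).comp φ
  let φ₂ : Cov (id : Q → Q) →* G := ((MonoidHom.snd Γ G).comp E.subtype).comp φ
  have h12 : ∀ c, γ (σ (φ₁ c)) = q (φ₂ c) := fun c => (hE (φ c).1).1 (φ c).2
  have hφ₁ : σ.comp φ₁ = covMap (id : Q → Q) := by
    apply MonoidHom.ext; intro c; exact hφ' c
  have hφ₁surj := lift_surjective_of_stem (id : Q → Q) σ hσ φ₁ hφ₁ hsurj
  -- S = ker φ₁
  set S := φ₁.ker with hSdef
  have hSK : S ≤ (covMap (id : Q → Q)).ker := by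
    intro c hc
    rw [MonoidHom.mem_ker] at hc ⊢
    rw [← hφ' c]
    change σ (φ₁ c) = 1
    rw [hc, map_one]
  have hSc : S ≤ Subgroup.center (Cov (id : Q → Q)) := hSK.trans (covKer_le_center _)
  -- S ∩ mult = ⊥ by counting
  obtain ⟨e⟩ := equiv_of_hasSchurMultiplier hA (id : Q → Q) hsurj
  obtain ⟨ek⟩ := hk
  have hfin := mult_finite (id : Q → Q) hsurj
  have hmap := map_mult_eq (id : Q → Q) σ hσ.2.1 φ₁ hφ₁ hsurj
  rw [inf_eq_left.2 hσ.2.2] at hmap
  let ψ : mult (id : Q → Q) → σ.ker := fun m =>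
    ⟨φ₁ m.1, by rw [← hmap]; exact Subgroup.mem_map_of_mem _ m.2⟩
  have hψsurj : Function.Surjective ψ := by
    rintro ⟨k, hk'⟩
    rw [← hmap] at hk'
    obtain ⟨m, hm, rfl⟩ := hk'
    exact ⟨⟨m, hm⟩, rfl⟩
  have hψbij : Function.Bijective ψ := by
    apply Function.Surjective.bijective_of_nat_card_le hψsurj
    rw [Nat.card_congr e.toEquiv, Nat.card_congr ek.toEquiv]
  have hSmult : S ⊓ commutator (Cov (id : Q → Q)) = ⊥ := by
    rw [eq_bot_iff]
    rintro c ⟨hc1, hc2⟩
    have hcm : c ∈ mult (id : Q → Q) := ⟨hSK hc1, hc2⟩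
    have : ψ ⟨c, hcm⟩ = ψ 1 := by
      apply Subtype.ext
      change φ₁ c = φ₁ 1
      rw [map_one]; exact MonoidHom.mem_ker.1 hc1
    have := hψbij.1 this
    exact congrArg Subtype.val this
  -- θ : S → center G
  have hφ₂S : ∀ s : S, φ₂ s.1 ∈ Subgroup.center G := by
    intro s
    have := h12 s.1
    rw [MonoidHom.mem_ker.1 s.2, map_one, map_one] at this
    exact (QuotientGroup.eq_one_iff _).1 this.symm
  let θ : S →* Subgroup.center G :=
    { toFun := fun s => ⟨φ₂ s.1, hφ₂S s⟩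
      map_one' := by apply Subtype.ext; simp
      map_mul' := by intro a b; apply Subtype.ext; simp }
  have hroot' : ∀ (z : Subgroup.center G) (k : ℕ), k ≠ 0 → ∃ w : Subgroup.center G, w ^ k = z := by
    intro z k hk0
    obtain ⟨w, hw, hwz⟩ := hroot z.1 z.2 k hk0
    exact ⟨⟨w, hw⟩, Subtype.ext hwz⟩
  obtain ⟨μ, hμ⟩ := @exists_extension_of_divisible _ _ S hSc hSmult _
    (commGroupOfCentral (Subgroup.center G) le_rfl) hroot' θ
  -- ρ' = φ₂ * μ⁻¹
  let ρ' : Cov (id : Q → Q) →* G :=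
    { toFun := fun c => φ₂ c * ((μ c)⁻¹ : Subgroup.center G).1
      map_one' := by simp
      map_mul' := by
        intro a b
        have hb := Subgroup.mem_center_iff.1 ((μ a)⁻¹ : Subgroup.center G).2
        simp only [map_mul, mul_inv_rev, Subgroup.coe_mul]
        calc φ₂ a * φ₂ b * (((μ b)⁻¹ : Subgroup.center G).1 * ((μ a)⁻¹ : Subgroup.center G).1)
            = φ₂ a * ((φ₂ b * ((μ b)⁻¹ : Subgroup.center G).1) *
                ((μ a)⁻¹ : Subgroup.center G).1) := by group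
          _ = φ₂ a * (((μ a)⁻¹ : Subgroup.center G).1 *
                (φ₂ b * ((μ b)⁻¹ : Subgroup.center G).1)) := by
              rw [hb (φ₂ b * ((μ b)⁻¹ : Subgroup.center G).1)]
          _ = _ := by group }
  have hρ'S : φ₁.ker ≤ ρ'.ker := by
    intro s hs
    rw [MonoidHom.mem_ker]
    change φ₂ s * ((μ s)⁻¹ : Subgroup.center G).1 = 1
    have := hμ ⟨s, hs⟩
    rw [this]
    change φ₂ s * (φ₂ s)⁻¹ = 1
    rw [mul_inv_cancel]
  have hqρ' : ∀ c, q (ρ' c) = q (φ₂ c) := by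
    intro c
    change q (φ₂ c * ((μ c)⁻¹ : Subgroup.center G).1) = q (φ₂ c)
    have h1 : q (((μ c)⁻¹ : Subgroup.center G).1) = 1 :=
      (QuotientGroup.eq_one_iff _).2 ((μ c)⁻¹ : Subgroup.center G).2
    rw [map_mul, h1, mul_one]
  refine ⟨φ₁.liftOfSurjective hφ₁surj ⟨ρ', hρ'S⟩, ?_⟩
  have hcomp : (φ₁.liftOfSurjective hφ₁surj ⟨ρ', hρ'S⟩).comp φ₁ = ρ' :=
    MonoidHom.liftOfRightInverse_comp _ _ _ _
  apply MonoidHom.ext
  intro x
  obtain ⟨c, rfl⟩ := hφ₁surj x
  have := DFunLike.congr_fun hcomp c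
  rw [MonoidHom.comp_apply] at this
  rw [MonoidHom.comp_apply, this, hqρ', ← h12]
  rfl

theorem center_GL_root (n : ℕ) : ∀ z ∈ Subgroup.center (GL (Fin n) ℂ), ∀ k : ℕ, k ≠ 0 →
    ∃ w ∈ Subgroup.center (GL (Fin n) ℂ), w ^ k = z := by
  intro z hz k hk
  rw [Matrix.GeneralLinearGroup.center_eq_range_scalar] at hz ⊢
  obtain ⟨a, rfl⟩ := hz
  obtain ⟨b, hb⟩ := IsAlgClosed.exists_pow_nat_eq (a : ℂ) (Nat.pos_of_ne_zero hk)
  have hb0 : b ≠ 0 := by
    intro h0
    rw [h0, zero_pow hk] at hb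
    exact a.ne_zero hb.symm
  refine ⟨Matrix.GeneralLinearGroup.scalar (Fin n) (Units.mk0 b hb0), ⟨_, rfl⟩, ?_⟩
  rw [← map_pow]
  congr 1
  apply Units.ext
  simp [hb]

end projective

end Cfsg.Agent.Helper3.SchurMult
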