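import Mathlib
import Cfsg.Prelude.Def_KGroupFacts
import Cfsg.Prelude.Def_Characters
import Cfsg.Agent.Helper6.Regular
import Cfsg.Agent.Helper6.CentralChar
import Cfsg.Agent.Helper6.IrrBasis
import Cfsg.Agent.Helper3.SchurMultE

set_option autoImplicit false

namespace Cfsg.Agent.Helper3.SchurMult

universe u v w w'

open scoped commutatorElement

section reps

/-- a finite group has, for each non-identity element, an irreducible matrix representation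
not killing it; central elements act by scalars. -/
theorem exists_irr_GL_not_one {Γ : Type u} [Group Γ] [Finite Γ] (k : Γ) (hk : k ≠ 1) :
    ∃ (n : ℕ) (ρ : Γ →* GL (Fin n) ℂ), ρ k ≠ 1 ∧
      ∀ z ∈ Subgroup.center Γ, ρ z ∈ Subgroup.center (GL (Fin n) ℂ) := by
  classical
  have hfinI : Finite (Cfsg.IrrCharacter Γ) := Cfsg.Agent.Helper6.irr_finite
  have _ : Fintype Γ := Fintype.ofFinite Γ
  have _ : Fintype (Cfsg.IrrCharacter Γ) := Fintype.ofFinite _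
  have h1 := Cfsg.Agent.Helper6.sum_degree_mul_irr (G := Γ) (1 : Γ)
  have hk' := Cfsg.Agent.Helper6.sum_degree_mul_irr (G := Γ) k
  rw [if_pos rfl] at h1
  rw [if_neg hk] at hk'
  have hex : ∃ χ : Cfsg.IrrCharacter Γ, (χ : Γ → ℂ) k ≠ (χ : Γ → ℂ) 1 := by
    by_contra hcon
    push Not at hcon
    have : ∑ χ : Cfsg.IrrCharacter Γ, (χ : Γ → ℂ) 1 * (χ : Γ → ℂ) k =
        ∑ χ : Cfsg.IrrCharacter Γ, (χ : Γ → ℂ) 1 * (χ : Γ → ℂ) 1 :=
      Finset.sum_congr rfl (fun χ _ => by rw [hcon χ])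
    rw [hk', h1] at this
    have hpos : (Nat.card Γ : ℂ) ≠ 0 := by
      exact_mod_cast (Nat.card_pos (α := Γ)).ne'
    exact hpos this.symm
  obtain ⟨⟨χ, n, ρ₀, hirr, hχ⟩, hχk⟩ := hex
  let toGL : ((Fin n → ℂ) →ₗ[ℂ] (Fin n → ℂ))ˣ →* GL (Fin n) ℂ :=
    (Matrix.GeneralLinearGroup.toLin (n := Fin n) (R := ℂ)).symm.toMonoidHom
  let ρ : Γ →* GL (Fin n) ℂ := toGL.comp ρ₀.asGroupHom
  have hρ : ∀ g, ((Matrix.GeneralLinearGroup.toLin (ρ g) :
      ((Fin n → ℂ) →ₗ[ℂ] (Fin n → ℂ))ˣ) : (Fin n → ℂ) →ₗ[ℂ] (Fin n → ℂ)) = ρ₀ g := by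
    intro g
    change ((Matrix.GeneralLinearGroup.toLin
      ((Matrix.GeneralLinearGroup.toLin (n := Fin n) (R := ℂ)).symm (ρ₀.asGroupHom g)) :
      ((Fin n → ℂ) →ₗ[ℂ] (Fin n → ℂ))ˣ) : (Fin n → ℂ) →ₗ[ℂ] (Fin n → ℂ)) = ρ₀ g
    rw [MulEquiv.apply_symm_apply]
    rfl
  refine ⟨n, ρ, ?_, ?_⟩
  · intro h1'
    apply hχk
    have h2 : ρ₀ k = ρ₀ 1 := by
      rw [← hρ k, h1', map_one, map_one]
      rfl
    change χ k = χ 1
    rw [← hχ]
    unfold Representation.character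
    rw [h2]
  · intro z hz
    have hcomm : ∀ g : Γ, ρ₀ z ∘ₗ ρ₀ g = ρ₀ g ∘ₗ ρ₀ z := by
      intro g
      change ρ₀ z * ρ₀ g = ρ₀ g * ρ₀ z
      rw [← map_mul, ← map_mul, Subgroup.mem_center_iff.1 hz g]
    have := hirr
    obtain ⟨c, hc⟩ := Cfsg.Agent.Helper6.exists_scalar_of_commute ρ₀ (ρ₀ z) hcomm
    rw [Subgroup.mem_center_iff]
    intro h
    apply (Matrix.GeneralLinearGroup.toLin (n := Fin n) (R := ℂ)).injective
    rw [map_mul, map_mul]
    apply Units.ext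
    rw [Units.val_mul, Units.val_mul, hρ z, hc]
    rw [mul_smul_comm, smul_mul_assoc]
    congr 1

/-- if all projective representations of `Q` lift to `Γ`, a stem extension mapping onto `Γ`
over `Q` does so injectively. -/
theorem ker_eq_bot_of_lifts {Q : Type u} [Group Q] {Γ' : Type v} [Group Γ'] [Finite Γ']
    (σ' : Γ' →* Q) (hσ' : Cfsg.IsStemExtension σ') {Γ : Type w} [Group Γ] (σ : Γ →* Q)
    (β : Γ' →* Γ) (hβ : σ.comp β = σ')
    (hlift : ∀ (n : ℕ) (γ : Q →* (GL (Fin n) ℂ ⧸ Subgroup.center (GL (Fin n) ℂ))),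
      ∃ ρ : Γ →* GL (Fin n) ℂ,
        (QuotientGroup.mk' (Subgroup.center (GL (Fin n) ℂ))).comp ρ = γ.comp σ) :
    β.ker = ⊥ := by
  rw [Subgroup.eq_bot_iff_forall]
  intro k hk
  by_contra hk1
  have hkσ : k ∈ σ'.ker := by
    rw [MonoidHom.mem_ker, ← hβ, MonoidHom.comp_apply, MonoidHom.mem_ker.1 hk, map_one]
  obtain ⟨n, ρ', hρ'k, hρ'c⟩ := exists_irr_GL_not_one k hk1
  set q := QuotientGroup.mk' (Subgroup.center (GL (Fin n) ℂ)) with hq
  have hker : σ'.ker ≤ (q.comp ρ').ker := by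
    intro x hx
    rw [MonoidHom.mem_ker, MonoidHom.comp_apply]
    exact (QuotientGroup.eq_one_iff _).2 (hρ'c x (hσ'.2.1 hx))
  let γ : Q →* GL (Fin n) ℂ ⧸ Subgroup.center (GL (Fin n) ℂ) :=
    σ'.liftOfSurjective hσ'.1 ⟨q.comp ρ', hker⟩
  have hγ : γ.comp σ' = q.comp ρ' := MonoidHom.liftOfRightInverse_comp _ _ _ _
  obtain ⟨ρ, hρ⟩ := hlift n γ
  have hcent : ∀ x : Γ', ρ' x * (ρ (β x))⁻¹ ∈ Subgroup.center (GL (Fin n) ℂ) := by
    intro x
    rw [← QuotientGroup.eq_one_iff]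
    change q (ρ' x * (ρ (β x))⁻¹) = 1
    rw [map_mul, map_inv]
    have h1 : q (ρ (β x)) = γ (σ (β x)) := DFunLike.congr_fun hρ (β x)
    have h2 : γ (σ' x) = q (ρ' x) := DFunLike.congr_fun hγ x
    have h3 : σ (β x) = σ' x := DFunLike.congr_fun hβ x
    rw [h1, h3, h2, mul_inv_cancel]
  let μ : Γ' →* GL (Fin n) ℂ :=
    { toFun := fun x => ρ' x * (ρ (β x))⁻¹
      map_one' := by simp
      map_mul' := by
        intro a b
        have hb := Subgroup.mem_center_iff.1 (hcent b)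
        simp only [map_mul, mul_inv_rev]
        calc ρ' a * ρ' b * ((ρ (β b))⁻¹ * (ρ (β a))⁻¹)
            = ρ' a * (ρ' b * (ρ (β b))⁻¹) * (ρ (β a))⁻¹ := by group
          _ = ρ' a * ((ρ (β a))⁻¹ * (ρ' b * (ρ (β b))⁻¹)) := by
              rw [mul_assoc, hb (ρ (β a))⁻¹]
          _ = _ := by group }
  have hμcomm : commutator Γ' ≤ μ.ker := by
    rw [commutator_eq_closure, Subgroup.closure_le]
    rintro _ ⟨a, b, rfl⟩
    rw [SetLike.mem_coe, MonoidHom.mem_ker, map_commutatorElement,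
      commutatorElement_eq_one_iff_commute]
    exact (Subgroup.mem_center_iff.1 (hcent b) (μ a))
  have hμk : μ k = 1 := MonoidHom.mem_ker.1 (hμcomm (hσ'.2.2 hkσ))
  change ρ' k * (ρ (β k))⁻¹ = 1 at hμk
  rw [MonoidHom.mem_ker.1 hk, map_one, inv_one, mul_one] at hμk
  exact hρ'k hμk

end reps

end Cfsg.Agent.Helper3.SchurMult
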