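import Mathlib
import Cfsg.Prelude.Def_KGroupFacts
import Cfsg.Agent.Helper3.SchurMultA
import Cfsg.Agent.Helper3.SchurMultB

set_option autoImplicit false

namespace Cfsg.Agent.Helper3.SchurMult

universe u v

open scoped commutatorElement

section gcov
variable {H : Type u} [Group H] {P : Type v} [Group P] (π : H →* P)

/-- `[H, ker π]`. -/
def gRelComm : Subgroup H := ⁅(⊤ : Subgroup H), π.ker⁆

instance gRelComm_normal : (gRelComm π).Normal := by unfold gRelComm; infer_instance

theorem gRelComm_le_ker : gRelComm π ≤ π.ker :=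
  Subgroup.commutator_le_right ⊤ π.ker

theorem gRelComm_le_commutator : gRelComm π ≤ commutator H := by
  unfold gRelComm
  rw [commutator_def]
  exact Subgroup.commutator_mono le_rfl le_top

/-- `H/[H, ker π]`. -/
abbrev GCov := H ⧸ gRelComm π

/-- `H/[H, ker π] → P`. -/
def gcovMap : GCov π →* P := QuotientGroup.lift (gRelComm π) π (gRelComm_le_ker π)

theorem gcovMap_mk (a : H) : gcovMap π (QuotientGroup.mk a) = π a := rfl

theorem gcovMap_surjective (h : Function.Surjective π) : Function.Surjective (gcovMap π) := by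
  intro q
  obtain ⟨a, rfl⟩ := h q
  exact ⟨QuotientGroup.mk a, rfl⟩

theorem gcovKer_le_center : (gcovMap π).ker ≤ Subgroup.center (GCov π) := by
  intro c hc
  obtain ⟨a, rfl⟩ := QuotientGroup.mk_surjective c
  rw [Subgroup.mem_center_iff]
  intro d
  obtain ⟨b, rfl⟩ := QuotientGroup.mk_surjective d
  have ha : a ∈ π.ker := hc
  have h1 : ⁅b, a⁆ ∈ gRelComm π := Subgroup.commutator_mem_commutator (Subgroup.mem_top b) ha
  have h2 : (QuotientGroup.mk ⁅b, a⁆ : GCov π) = 1 := (QuotientGroup.eq_one_iff _).2 h1
  rw [commutatorElement_def] at h2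
  have h3 : (QuotientGroup.mk b : GCov π) * QuotientGroup.mk a * (QuotientGroup.mk b)⁻¹ *
      (QuotientGroup.mk a)⁻¹ = 1 := h2
  calc (QuotientGroup.mk b : GCov π) * QuotientGroup.mk a
      = ((QuotientGroup.mk b : GCov π) * QuotientGroup.mk a * (QuotientGroup.mk b)⁻¹ *
        (QuotientGroup.mk a)⁻¹) * (QuotientGroup.mk a * QuotientGroup.mk b) := by group
    _ = QuotientGroup.mk a * QuotientGroup.mk b := by rw [h3, one_mul]

theorem mem_gcovKer_iff (a : H) : (QuotientGroup.mk a : GCov π) ∈ (gcovMap π).ker ↔ a ∈ π.ker :=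
  Iff.rfl

/-- the map to the abelianization of `H`. -/
def gcovAb : GCov π →* Abelianization H :=
  QuotientGroup.lift (gRelComm π) Abelianization.of (by
    rw [Abelianization.ker_of]; exact gRelComm_le_commutator π)

theorem gcovAb_mk (a : H) : gcovAb π (QuotientGroup.mk a) = Abelianization.of a := rfl

theorem gcovAb_ker : (gcovAb π).ker = commutator (GCov π) := by
  apply le_antisymm
  · intro c hc
    obtain ⟨a, rfl⟩ := QuotientGroup.mk_surjective c
    rw [MonoidHom.mem_ker, gcovAb_mk, ← MonoidHom.mem_ker, Abelianization.ker_of] at hc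
    have : (QuotientGroup.mk' (gRelComm π)) a ∈ (commutator H).map
        (QuotientGroup.mk' (gRelComm π)) := Subgroup.mem_map_of_mem _ hc
    rw [commutator_def, Subgroup.map_commutator, ← MonoidHom.range_eq_map,
      MonoidHom.range_eq_top.2 (QuotientGroup.mk'_surjective _)] at this
    exact this
  · exact Abelianization.commutator_subset_ker (gcovAb π)

/-- the multiplier-like subgroup of the generic cover. -/
def gmult : Subgroup (GCov π) := (gcovMap π).ker ⊓ commutator (GCov π)

theorem gmult_le_center : gmult π ≤ Subgroup.center (GCov π) :=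
  inf_le_left.trans (gcovKer_le_center π)

/-- lifting property when `H` is free. -/
theorem gcov_lift_of_free [IsFreeGroup H] {E : Type*} [Group E] (ξ : E →* P)
    (hξ : Function.Surjective ξ) (hc : ξ.ker ≤ Subgroup.center E) :
    ∃ ψ : GCov π →* E, ξ.comp ψ = gcovMap π := by
  choose s hs using hξ
  let ψ₀ : H →* E := IsFreeGroup.lift (fun x => s (π (IsFreeGroup.of x)))
  have h0 : ∀ a, ξ (ψ₀ a) = π a := by
    intro a
    have : ξ.comp ψ₀ = π := by
      apply IsFreeGroup.ext_hom
      intro x
      rw [MonoidHom.comp_apply, IsFreeGroup.lift_of, hs]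
    exact DFunLike.congr_fun this a
  have hker : gRelComm π ≤ ψ₀.ker := by
    unfold gRelComm
    rw [Subgroup.commutator_le]
    intro a _ b hb
    rw [MonoidHom.mem_ker, map_commutatorElement]
    have hb' : ψ₀ b ∈ Subgroup.center E := by
      apply hc
      rw [MonoidHom.mem_ker, h0]
      exact hb
    rw [commutatorElement_eq_one_iff_commute]
    exact ((Subgroup.mem_center_iff.1 hb') (ψ₀ a))
  refine ⟨QuotientGroup.lift (gRelComm π) ψ₀ hker, ?_⟩
  apply MonoidHom.ext
  intro c
  obtain ⟨a, rfl⟩ := QuotientGroup.mk_surjective c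
  exact h0 a

/-- torsion elements of a free group's generic cover lie in the commutator subgroup. -/
theorem mem_commutator_of_pow_eq_one [IsFreeGroup H] (x : GCov π) (k : ℕ) (hk : 0 < k)
    (hx : x ^ k = 1) : x ∈ commutator (GCov π) := by
  rw [← gcovAb_ker, MonoidHom.mem_ker]
  set y := gcovAb π x with hy
  have hyk : y ^ k = 1 := by rw [hy, ← map_pow, hx, map_one]
  let e : Abelianization H ≃* Abelianization (FreeGroup (IsFreeGroup.Generators H)) :=
    (IsFreeGroup.toFreeGroup H).abelianizationCongr
  have h1 : (e y) ^ k = 1 := by rw [← map_pow, hyk, map_one]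
  let z : FreeAbelianGroup (IsFreeGroup.Generators H) := Additive.ofMul (e y)
  have h2 : (k : ℤ) • z = 0 := by
    rw [natCast_zsmul]
    have : k • z = Additive.ofMul ((e y) ^ k) := rfl
    rw [this, h1]
    rfl
  have hk0 : (k : ℤ) ≠ 0 := by exact_mod_cast hk.ne'
  have h3 : z = 0 := by
    have hinj := smul_right_injective (FreeAbelianGroup (IsFreeGroup.Generators H)) hk0
    apply hinj
    change (k : ℤ) • z = (k : ℤ) • (0 : FreeAbelianGroup (IsFreeGroup.Generators H))
    rw [h2, smul_zero]
  have h4 : e y = 1 := h3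
  exact (e.map_eq_one_iff).1 h4

end gcov

section compare
variable {H : Type u} [Group H] {P : Type u} [Group P] [Finite P] (π : H →* P)

/-- for free `H`, the generic cover computes the multiplier. -/
theorem exists_gmult_equiv [IsFreeGroup H] (hπ : Function.Surjective π) :
    Nonempty (mult (id : P → P) ≃* gmult π) := by
  have hsurj := pres_id_surjective (Q := P)
  obtain ⟨φ, hφ⟩ := cov_lift (id : P → P) (gcovMap π) (gcovMap_surjective π hπ)
    (gcovKer_le_center π)
  have hmap : (mult (id : P → P)).map φ = gmult π :=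
    map_mult_eq (id : P → P) (gcovMap π) (gcovKer_le_center π) φ hφ hsurj
  obtain ⟨ψ, hψ⟩ := gcov_lift_of_free π (covMap (id : P → P))
    (covMap_surjective _ hsurj) (covKer_le_center _)
  have hφ' : ∀ c, gcovMap π (φ c) = covMap (id : P → P) c := fun c => DFunLike.congr_fun hφ c
  have hψ' : ∀ c, covMap (id : P → P) (ψ c) = gcovMap π c := fun c => DFunLike.congr_fun hψ c
  have hz : ∀ a : Cov (id : P → P), a⁻¹ * ψ (φ a) ∈ Subgroup.center (Cov (id : P → P)) := by
    intro a
    apply covKer_le_center
    rw [MonoidHom.mem_ker, map_mul, map_inv, hψ', hφ', inv_mul_cancel]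
  have hid : ∀ c ∈ commutator (Cov (id : P → P)), ψ (φ c) = c := by
    have hle : commutator (Cov (id : P → P)) ≤
        (ψ.comp φ).eqLocus (MonoidHom.id _) := by
      rw [commutator_eq_closure, Subgroup.closure_le]
      rintro _ ⟨a, b, rfl⟩
      change ψ (φ ⁅a, b⁆) = ⁅a, b⁆
      rw [map_commutatorElement, map_commutatorElement]
      have ea : ψ (φ a) = a * (a⁻¹ * ψ (φ a)) := by group
      have eb : ψ (φ b) = b * (b⁻¹ * ψ (φ b)) := by group
      rw [ea, eb, comm_mul_central_left (hz a), comm_mul_central_right (hz b)]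
    intro c hc
    exact hle hc
  let Φ : mult (id : P → P) →* gmult π :=
    (φ.comp (mult (id : P → P)).subtype).codRestrict (gmult π) (by
      intro m
      rw [← hmap]
      exact Subgroup.mem_map_of_mem _ m.2)
  have hΦinj : Function.Injective Φ := by
    intro m m' h
    have h1 : φ m.1 = φ m'.1 := congrArg Subtype.val h
    have h2 : ψ (φ m.1) = ψ (φ m'.1) := by rw [h1]
    rw [hid _ m.2.2, hid _ m'.2.2] at h2
    exact Subtype.ext h2
  have hΦsurj : Function.Surjective Φ := by
    rintro ⟨x, hx⟩
    rw [← hmap] at hx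
    obtain ⟨m, hm, rfl⟩ := hx
    exact ⟨⟨m, hm⟩, rfl⟩
  exact ⟨MulEquiv.ofBijective Φ ⟨hΦinj, hΦsurj⟩⟩

end compare

end Cfsg.Agent.Helper3.SchurMult
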