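import Mathlib
import Cfsg.Prelude.Def_KGroupFacts
import Cfsg.Agent.Helper3.SchurMultA
import Cfsg.Agent.Helper3.SchurMultB
import Cfsg.Agent.Helper3.SchurSylowA

set_option autoImplicit false

namespace Cfsg.Agent.Helper3.SchurMult

universe u

open scoped commutatorElement

section transfer
variable {G : Type u} [Group G] {X : Type u} (f : X → G) (P : Subgroup G)

/-- preimage of `P` in the free group. -/
abbrev preSub : Subgroup (FreeGroup X) := P.comap (pres f)

/-- the restricted presentation map. -/
abbrev preMap : preSub f P →* P := (pres f).subgroupComap P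

theorem mem_preMap_ker (a : preSub f P) : a ∈ (preMap f P).ker ↔ (a : FreeGroup X) ∈ (pres f).ker := by
  rw [MonoidHom.mem_ker, MonoidHom.mem_ker]
  constructor
  · intro h
    exact congrArg Subtype.val h
  · intro h
    exact Subtype.ext h

theorem ker_le_preSub : (pres f).ker ≤ preSub f P := by
  intro r hr
  change pres f r ∈ P
  rw [MonoidHom.mem_ker.1 hr]
  exact P.one_mem

theorem preMap_surjective (hsurj : Function.Surjective (pres f)) :
    Function.Surjective (preMap f P) :=
  (pres f).subgroupComap_surjective_of_surjective P hsurj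

/-- the natural map from the generic cover of `P` to the cover of `G`. -/
def gcovToCov : GCov (preMap f P) →* Cov f :=
  QuotientGroup.lift _ ((QuotientGroup.mk' (relComm f)).comp (preSub f P).subtype) (by
    unfold gRelComm
    rw [Subgroup.commutator_le]
    intro a _ b hb
    rw [MonoidHom.mem_ker, MonoidHom.comp_apply, QuotientGroup.mk'_apply,
      QuotientGroup.eq_one_iff]
    have hb' : (b : FreeGroup X) ∈ (pres f).ker := (mem_preMap_ker f P b).1 hb
    have : ((preSub f P).subtype ⁅a, b⁆) = ⁅(a : FreeGroup X), (b : FreeGroup X)⁆ :=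
      map_commutatorElement _ a b
    rw [this]
    exact Subgroup.commutator_mem_commutator (Subgroup.mem_top _) hb')

theorem gcovToCov_mk (a : preSub f P) :
    gcovToCov f P (QuotientGroup.mk a) = QuotientGroup.mk (a : FreeGroup X) := rfl

theorem covMap_gcovToCov (x : GCov (preMap f P)) :
    covMap f (gcovToCov f P x) = (gcovMap (preMap f P) x : G) := by
  obtain ⟨a, rfl⟩ := QuotientGroup.mk_surjective x
  rfl

theorem gcovToCov_mem_ker {x : GCov (preMap f P)} (hx : x ∈ (gcovMap (preMap f P)).ker) :
    gcovToCov f P x ∈ (covMap f).ker := by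
  rw [MonoidHom.mem_ker, covMap_gcovToCov, MonoidHom.mem_ker.1 hx]
  rfl

theorem gcovToCov_mem_mult {x : GCov (preMap f P)} (hx : x ∈ gmult (preMap f P)) :
    gcovToCov f P x ∈ mult f := by
  refine ⟨gcovToCov_mem_ker f P hx.1, ?_⟩
  have : gcovToCov f P x ∈ (commutator (GCov (preMap f P))).map (gcovToCov f P) :=
    Subgroup.mem_map_of_mem _ hx.2
  rw [commutator_def, Subgroup.map_commutator] at this
  rw [commutator_def]
  exact Subgroup.commutator_mono le_top le_top this

/-- conjugation `r ↦ t⁻¹ r t` followed by the projection to the generic cover. -/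
def conjToGcov (t : FreeGroup X) : (pres f).ker →* GCov (preMap f P) :=
  (QuotientGroup.mk' (gRelComm (preMap f P))).comp
    ((Subgroup.inclusion (ker_le_preSub f P)).comp
      (MulAut.conjNormal t⁻¹ : MulAut (pres f).ker).toMonoidHom)

theorem conjToGcov_mem_ker (t : FreeGroup X) (r : (pres f).ker) :
    conjToGcov f P t r ∈ (gcovMap (preMap f P)).ker := by
  change (QuotientGroup.mk _ : GCov (preMap f P)) ∈ _
  rw [mem_gcovKer_iff, mem_preMap_ker]
  exact ((MulAut.conjNormal t⁻¹ : MulAut (pres f).ker) r).2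

theorem conj_mem_preSub (t : FreeGroup X) (r : (pres f).ker) :
    t⁻¹ * (r : FreeGroup X) * t ∈ preSub f P := by
  apply ker_le_preSub f P
  have := ((MulAut.conjNormal t⁻¹ : MulAut (pres f).ker) r).2
  rwa [MulAut.conjNormal_apply, inv_inv] at this

theorem conjToGcov_apply (t : FreeGroup X) (r : (pres f).ker) :
    conjToGcov f P t r =
      QuotientGroup.mk (⟨t⁻¹ * (r : FreeGroup X) * t, conj_mem_preSub f P t r⟩ : preSub f P) := by
  change (QuotientGroup.mk _ : GCov (preMap f P)) = QuotientGroup.mk _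
  congr 1
  apply Subtype.ext
  change (((MulAut.conjNormal t⁻¹ : MulAut (pres f).ker) r : (pres f).ker) : FreeGroup X) = _
  rw [MulAut.conjNormal_apply, inv_inv]

theorem gcovToCov_conjToGcov (t : FreeGroup X) (r : (pres f).ker) :
    gcovToCov f P (conjToGcov f P t r) = QuotientGroup.mk (r : FreeGroup X) := by
  rw [conjToGcov_apply, gcovToCov_mk]
  change (QuotientGroup.mk (t⁻¹ * (r : FreeGroup X) * t) : Cov f) = _
  rw [QuotientGroup.mk_mul, QuotientGroup.mk_mul, QuotientGroup.mk_inv]
  have hc : (QuotientGroup.mk (r : FreeGroup X) : Cov f) ∈ Subgroup.center (Cov f) :=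
    covKer_le_center f r.2
  rw [Subgroup.mem_center_iff.1 hc, inv_mul_cancel_right]

/-- conjugating the argument by `x` permutes the factors. -/
theorem conjToGcov_conj (x t t' : FreeGroup X) (h : t'⁻¹ * (x⁻¹ * t) ∈ preSub f P)
    (r : (pres f).ker) :
    conjToGcov f P t ((MulAut.conjNormal x : MulAut (pres f).ker) r) = conjToGcov f P t' r := by
  have hk := gcovKer_le_center _ (conjToGcov_mem_ker f P t' r)
  have e : conjToGcov f P t ((MulAut.conjNormal x : MulAut (pres f).ker) r) =
      (QuotientGroup.mk (⟨t'⁻¹ * (x⁻¹ * t), h⟩ : preSub f P) : GCov (preMap f P))⁻¹ *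
        conjToGcov f P t' r * QuotientGroup.mk (⟨t'⁻¹ * (x⁻¹ * t), h⟩ : preSub f P) := by
    rw [conjToGcov_apply, conjToGcov_apply, ← QuotientGroup.mk_inv, ← QuotientGroup.mk_mul,
      ← QuotientGroup.mk_mul]
    congr 1
    apply Subtype.ext
    simp only [Subgroup.coe_mul, Subgroup.coe_inv, MulAut.conjNormal_apply]
    group
  rw [e, mul_assoc, ← Subgroup.mem_center_iff.1 hk, inv_mul_cancel_left]

/-- the transfer map `R/[F,R] → R/[H,R]`. -/
theorem exists_transfer [Finite G] (hsurj : Function.Surjective (pres f)) :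
    ∃ N : (covMap f).ker →* GCov (preMap f P),
      (∀ k, N k ∈ (gcovMap (preMap f P)).ker) ∧
      (∀ k : (covMap f).ker, gcovToCov f P (N k) = (k : Cov f) ^ P.index) := by
  classical
  have hidx : (preSub f P).index = P.index := Subgroup.index_comap_of_surjective P hsurj
  have hfi : (preSub f P).FiniteIndex := ⟨by rw [hidx]; exact Subgroup.index_ne_zero_of_finite⟩
  let _ : Fintype (FreeGroup X ⧸ preSub f P) := (preSub f P).fintypeQuotientOfFiniteIndex
  let _ : CommGroup (gcovMap (preMap f P)).ker := commGroupOfCentral _ (gcovKer_le_center _)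
  let _ : CommGroup (covMap f).ker := commGroupOfCentral _ (covKer_le_center f)
  let n : FreeGroup X → ((pres f).ker →* (gcovMap (preMap f P)).ker) := fun t =>
    (conjToGcov f P t).codRestrict _ (conjToGcov_mem_ker f P t)
  let N₀ : (pres f).ker →* (gcovMap (preMap f P)).ker :=
    ∏ q : FreeGroup X ⧸ preSub f P, n q.out
  have hN₀ : ∀ r, N₀ r = ∏ q : FreeGroup X ⧸ preSub f P, n q.out r :=
    fun r => MonoidHom.finsetProd_apply _ _ r
  have hinv : ∀ (x : FreeGroup X) (r : (pres f).ker),
      N₀ ((MulAut.conjNormal x : MulAut (pres f).ker) r) = N₀ r := by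
    intro x r
    rw [hN₀, hN₀]
    have h1 : ∀ q : FreeGroup X ⧸ preSub f P,
        n q.out ((MulAut.conjNormal x : MulAut (pres f).ker) r) =
          n ((x⁻¹ • q : FreeGroup X ⧸ preSub f P)).out r := by
      intro q
      apply Subtype.ext
      apply conjToGcov_conj f P x q.out (x⁻¹ • q : FreeGroup X ⧸ preSub f P).out
      rw [← QuotientGroup.eq, QuotientGroup.out_eq']
      conv_lhs => rw [← QuotientGroup.out_eq' q]
      rfl
    rw [Finset.prod_congr rfl (fun q _ => h1 q)]
    exact Fintype.prod_equiv (MulAction.toPerm (x⁻¹ : FreeGroup X)) _ _ (fun q => rfl)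
  have hkill : relComm f ≤ N₀.ker.map (pres f).ker.subtype := by
    unfold relComm
    rw [Subgroup.commutator_le]
    intro a _ b hb
    refine ⟨(MulAut.conjNormal a : MulAut (pres f).ker) ⟨b, hb⟩ * (⟨b, hb⟩ : (pres f).ker)⁻¹,
      ?_, ?_⟩
    · change _ ∈ N₀.ker
      rw [MonoidHom.mem_ker, map_mul, map_inv, hinv, mul_inv_cancel]
    · change (((MulAut.conjNormal a : MulAut (pres f).ker) ⟨b, hb⟩ *
        (⟨b, hb⟩ : (pres f).ker)⁻¹ : (pres f).ker) : FreeGroup X) = ⁅a, b⁆
      rw [Subgroup.coe_mul, MulAut.conjNormal_apply, commutatorElement_def]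
      rfl
  let ρ : (pres f).ker →* (covMap f).ker :=
    ((QuotientGroup.mk' (relComm f)).comp (pres f).ker.subtype).codRestrict _ (fun r => r.2)
  have hρsurj : Function.Surjective ρ := by
    rintro ⟨k, hk⟩
    obtain ⟨a, rfl⟩ := QuotientGroup.mk_surjective k
    exact ⟨⟨a, hk⟩, rfl⟩
  have hρker : ρ.ker ≤ N₀.ker := by
    intro r hr
    have h1 : (QuotientGroup.mk (r : FreeGroup X) : Cov f) = 1 :=
      congrArg Subtype.val (MonoidHom.mem_ker.1 hr)
    have h2 : (r : FreeGroup X) ∈ relComm f := (QuotientGroup.eq_one_iff _).1 h1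
    obtain ⟨r', hr', hrr'⟩ := hkill h2
    have : r' = r := Subtype.ext hrr'
    rw [← this]
    exact hr'
  let Nbar : (covMap f).ker →* (gcovMap (preMap f P)).ker :=
    ρ.liftOfSurjective hρsurj ⟨N₀, hρker⟩
  have hNbarc : Nbar.comp ρ = N₀ := MonoidHom.liftOfRightInverse_comp _ _ _ _
  have hNbar : ∀ r, Nbar (ρ r) = N₀ r := fun r => DFunLike.congr_fun hNbarc r
  refine ⟨(gcovMap (preMap f P)).ker.subtype.comp Nbar, fun k => (Nbar k).2, ?_⟩
  intro k
  obtain ⟨r, rfl⟩ := hρsurj k
  change gcovToCov f P ((Nbar (ρ r) : (gcovMap (preMap f P)).ker) : GCov (preMap f P)) = _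
  rw [hNbar]
  let Nu : (gcovMap (preMap f P)).ker →* (covMap f).ker :=
    ((gcovToCov f P).comp (gcovMap (preMap f P)).ker.subtype).codRestrict _
      (fun x => gcovToCov_mem_ker f P x.2)
  have h1 : Nu (N₀ r) = (ρ r) ^ P.index := by
    rw [hN₀, map_prod]
    have h2 : ∀ q : FreeGroup X ⧸ preSub f P, Nu (n q.out r) = ρ r := by
      intro q
      apply Subtype.ext
      exact gcovToCov_conjToGcov f P q.out r
    rw [Finset.prod_congr rfl (fun q _ => h2 q), Finset.prod_const, Finset.card_univ,
      ← Nat.card_eq_fintype_card, ← Subgroup.index_eq_card, hidx]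
  have h3 := congrArg Subtype.val h1
  rw [Subgroup.coe_pow] at h3
  exact h3

/-- restriction and transfer between the multipliers. -/
theorem exists_transfer_mult [Finite G] [Finite X] (hsurj : Function.Surjective (pres f)) :
    ∃ (ν : gmult (preMap f P) →* mult f) (N : mult f →* gmult (preMap f P)),
      ∀ x, ν (N x) = x ^ P.index := by
  obtain ⟨N, hN1, hN2⟩ := exists_transfer f P hsurj
  have hfin := mult_finite f hsurj
  let ι : mult f →* (covMap f).ker := Subgroup.inclusion inf_le_left
  have hmem : ∀ x : mult f, N (ι x) ∈ gmult (preMap f P) := by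
    intro x
    refine ⟨hN1 _, ?_⟩
    apply mem_commutator_of_pow_eq_one (preMap f P) _ (Nat.card (mult f)) Nat.card_pos
    rw [← map_pow, ← map_pow, pow_card_eq_one', map_one, map_one]
  let N' : mult f →* gmult (preMap f P) := (N.comp ι).codRestrict _ hmem
  let ν : gmult (preMap f P) →* mult f :=
    ((gcovToCov f P).comp (gmult (preMap f P)).subtype).codRestrict _
      (fun x => gcovToCov_mem_mult f P x.2)
  refine ⟨ν, N', ?_⟩
  intro x
  apply Subtype.ext
  change gcovToCov f P (N (ι x)) = ((x ^ P.index : mult f) : Cov f)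
  rw [hN2, Subgroup.coe_pow]
  rfl

end transfer

end Cfsg.Agent.Helper3.SchurMult
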