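import Mathlib

set_option autoImplicit false

namespace Cfsg.Agent.Helper3.SelfDualAb

open Module

section
variable {F : Type*} [Field F] {H : Type*} [CommGroup H]

/-- the inversion automorphism of the group algebra -/
noncomputable def invAlg : MonoidAlgebra F H →ₐ[F] MonoidAlgebra F H :=
  MonoidAlgebra.lift F (MonoidAlgebra F H) H
    ((MonoidAlgebra.of F H).comp (MulEquiv.inv H).toMonoidHom)

theorem invAlg_of (h : H) : invAlg (F := F) (MonoidAlgebra.of F H h) = MonoidAlgebra.of F H h⁻¹ := by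
  unfold invAlg
  rw [MonoidAlgebra.lift_of]
  rfl

theorem invAlg_invAlg (a : MonoidAlgebra F H) : invAlg (invAlg a) = a := by
  induction a using MonoidAlgebra.induction_on with
  | of h => rw [invAlg_of, invAlg_of, inv_inv]
  | add a b ha hb => rw [map_add, map_add, ha, hb]
  | smul r a ha => rw [map_smul, map_smul, ha]

variable (m : Ideal (MonoidAlgebra F H))

/-- the character `H → F[H]/m`. -/
noncomputable def chi : H →* (MonoidAlgebra F H ⧸ m) :=
  ((Ideal.Quotient.mk m : MonoidAlgebra F H →+* _) : MonoidAlgebra F H →* _).comp (MonoidAlgebra.of F H)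

theorem chi_apply (h : H) : chi m h = Ideal.Quotient.mk m (MonoidAlgebra.of F H h) := rfl

theorem chi_mul_inv (h : H) : chi m h * chi m h⁻¹ = 1 := by
  rw [← map_mul, mul_inv_cancel, map_one]

/-- every subalgebra containing all `chi h` is everything. -/
theorem subalgebra_eq_top (S : Subalgebra F (MonoidAlgebra F H ⧸ m)) (hS : ∀ h, chi m h ∈ S) :
    S = ⊤ := by
  rw [eq_top_iff]
  intro x _
  obtain ⟨a, rfl⟩ := Ideal.Quotient.mk_surjective x
  have key : ∀ a : MonoidAlgebra F H, Ideal.Quotient.mk m a ∈ S := by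
    intro a
    induction a using MonoidAlgebra.induction_on with
    | of h => exact hS h
    | add a b ha hb => rw [map_add]; exact S.add_mem ha hb
    | smul r a ha =>
      have : Ideal.Quotient.mk m (r • a) = r • Ideal.Quotient.mk m a := rfl
      rw [this]; exact S.smul_mem ha r
  exact key a

theorem adjoint_id (B : LinearMap.BilinForm F (MonoidAlgebra F H ⧸ m))
    (hinv : ∀ h x y, B (chi m h * x) (chi m h * y) = B x y) (a : MonoidAlgebra F H)
    (x y : MonoidAlgebra F H ⧸ m) :
    B (Ideal.Quotient.mk m a * x) y = B x (Ideal.Quotient.mk m (invAlg a) * y) := by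
  induction a using MonoidAlgebra.induction_on generalizing x y with
  | of h =>
    rw [invAlg_of, ← chi_apply, ← chi_apply]
    have := hinv h x (chi m h⁻¹ * y)
    rw [← mul_assoc, chi_mul_inv, one_mul] at this
    exact this
  | add a b ha hb =>
    rw [map_add, map_add, map_add, add_mul, add_mul, map_add, LinearMap.add_apply, map_add,
      ha, hb]
  | smul r a ha =>
    have h1 : Ideal.Quotient.mk m (r • a) = r • Ideal.Quotient.mk m a := rfl
    have h2 : Ideal.Quotient.mk m (r • invAlg a) = r • Ideal.Quotient.mk m (invAlg a) := rfl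
    rw [h1, map_smul invAlg r a, h2, smul_mul_assoc, smul_mul_assoc, map_smul B,
      LinearMap.smul_apply, map_smul (B x), ha]

theorem invAlg_mem (B : LinearMap.BilinForm F (MonoidAlgebra F H ⧸ m)) (hB : B.Nondegenerate)
    (hinv : ∀ h x y, B (chi m h * x) (chi m h * y) = B x y) (a : MonoidAlgebra F H)
    (ha : a ∈ m) : invAlg a ∈ m := by
  rw [← Ideal.Quotient.eq_zero_iff_mem] at ha ⊢
  have h1 : ∀ y, B (Ideal.Quotient.mk m (invAlg a) * 1) y = 0 := by
    intro y
    rw [adjoint_id m B hinv, invAlg_invAlg, ha, zero_mul, map_zero]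
  have := hB.1 _ h1
  rwa [mul_one] at this

/-- the automorphism induced by inversion. -/
noncomputable def sigma (B : LinearMap.BilinForm F (MonoidAlgebra F H ⧸ m)) (hB : B.Nondegenerate)
    (hinv : ∀ h x y, B (chi m h * x) (chi m h * y) = B x y) :
    (MonoidAlgebra F H ⧸ m) →ₐ[F] (MonoidAlgebra F H ⧸ m) :=
  Ideal.Quotient.liftₐ m ((Ideal.Quotient.mkₐ F m).comp invAlg)
    (fun a ha => by
      rw [AlgHom.comp_apply, Ideal.Quotient.mkₐ_eq_mk]
      exact Ideal.Quotient.eq_zero_iff_mem.2 (invAlg_mem m B hB hinv a ha))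

theorem sigma_mk (B : LinearMap.BilinForm F (MonoidAlgebra F H ⧸ m)) (hB : B.Nondegenerate)
    (hinv : ∀ h x y, B (chi m h * x) (chi m h * y) = B x y) (a : MonoidAlgebra F H) :
    sigma m B hB hinv (Ideal.Quotient.mk m a) = Ideal.Quotient.mk m (invAlg a) := by
  rfl

theorem sigma_chi (B : LinearMap.BilinForm F (MonoidAlgebra F H ⧸ m)) (hB : B.Nondegenerate)
    (hinv : ∀ h x y, B (chi m h * x) (chi m h * y) = B x y) (h : H) :
    sigma m B hB hinv (chi m h) = chi m h⁻¹ := by
  rw [chi_apply, sigma_mk, invAlg_of, chi_apply]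

theorem sigma_sigma (B : LinearMap.BilinForm F (MonoidAlgebra F H ⧸ m)) (hB : B.Nondegenerate)
    (hinv : ∀ h x y, B (chi m h * x) (chi m h * y) = B x y) (x : MonoidAlgebra F H ⧸ m) :
    sigma m B hB hinv (sigma m B hB hinv x) = x := by
  obtain ⟨a, rfl⟩ := Ideal.Quotient.mk_surjective x
  rw [sigma_mk, sigma_mk, invAlg_invAlg]

end

section forward
variable {F : Type*} [Field F] [Fintype F] {H : Type*} [CommGroup H] [Finite H]
variable (m : Ideal (MonoidAlgebra F H)) [m.IsMaximal]

attribute [local instance] Ideal.Quotient.field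

theorem forward (hinj : Function.Injective (chi m))
    (B : LinearMap.BilinForm F (MonoidAlgebra F H ⧸ m)) (hB : B.Nondegenerate)
    (hinv : ∀ h x y, B (chi m h * x) (chi m h * y) = B x y)
    (hn : 2 ≤ finrank F (MonoidAlgebra F H ⧸ m)) :
    Even (finrank F (MonoidAlgebra F H ⧸ m)) ∧
      Nat.card H ∣ Fintype.card F ^ (finrank F (MonoidAlgebra F H ⧸ m) / 2) + 1 := by
  have hfin : Finite (MonoidAlgebra F H ⧸ m) := Module.finite_of_finite F
  set n := finrank F (MonoidAlgebra F H ⧸ m) with hn_def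
  set σ := sigma m B hB hinv with hσ
  obtain ⟨⟨i, hilt⟩, hi⟩ :=
    (FiniteField.bijective_frobeniusAlgHom_pow F (MonoidAlgebra F H ⧸ m)).2 σ
  have hi' : FiniteField.frobeniusAlgHom F (MonoidAlgebra F H ⧸ m) ^ (i : ℕ) = σ := hi
  clear hi
  have hσ2 : σ ^ 2 = 1 := by
    apply AlgHom.ext
    intro x
    rw [pow_two, AlgHom.mul_apply, AlgHom.one_apply]
    exact sigma_sigma m B hB hinv x
  have hord := FiniteField.orderOf_frobeniusAlgHom F (MonoidAlgebra F H ⧸ m)
  have hdvd : n ∣ (i : ℕ) * 2 := by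
    rw [hn_def]
    rw [← hord]
    apply orderOf_dvd_of_pow_eq_one
    rw [pow_mul, hi', hσ2]
  have hilt : (i : ℕ) < n := hilt
  have hσpow : ∀ x, σ x = x ^ (Fintype.card F ^ (i : ℕ)) := by
    intro x
    rw [← hi', AlgHom.coe_pow, FiniteField.coe_frobeniusAlgHom, pow_iterate]
  obtain ⟨c, hc⟩ := hdvd
  have hc2 : c < 2 := by
    by_contra hcon
    push Not at hcon
    have : n * 2 ≤ n * c := Nat.mul_le_mul_left n hcon
    omega
  interval_cases c
  · -- i = 0
    exfalso
    have hi0 : (i : ℕ) = 0 := by omega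
    have hid : ∀ x, σ x = x := by
      intro x; rw [hσpow, hi0, pow_zero, pow_one]
    have hS : (⊥ : Subalgebra F (MonoidAlgebra F H ⧸ m)) = ⊤ := by
      apply subalgebra_eq_top
      intro h
      have h1 : chi m h = chi m h⁻¹ := by
        rw [← sigma_chi m B hB hinv h]; exact (hid _).symm
      have h2 : chi m h * chi m h = 1 := by
        nth_rw 2 [h1]; exact chi_mul_inv m h
      have h3 : (chi m h - 1) * (chi m h + 1) = 0 := by
        linear_combination h2
      rcases mul_eq_zero.1 h3 with h4 | h4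
      · rw [sub_eq_zero.1 h4]; exact Subalgebra.one_mem _
      · rw [eq_neg_of_add_eq_zero_left h4]; exact Subalgebra.neg_mem _ (Subalgebra.one_mem _)
    rw [Subalgebra.bot_eq_top_iff_finrank_eq_one] at hS
    omega
  · -- 2 i = n
    have hni : n = (i : ℕ) * 2 := by omega
    refine ⟨⟨i, by omega⟩, ?_⟩
    have hhalf : n / 2 = (i : ℕ) := by omega
    rw [hhalf]
    have hcyc : IsCyclic H := isCyclic_of_injective_ringHom (chi m) hinj
    rw [← IsCyclic.exponent_eq_card]
    apply Monoid.exponent_dvd_of_forall_pow_eq_one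
    intro h
    apply hinj
    rw [map_pow, map_one, pow_succ, ← hσpow, sigma_chi, mul_comm]
    exact chi_mul_inv m h

theorem backward (i : ℕ) (hH : ∀ h : H, h ^ (Fintype.card F ^ i + 1) = 1) :
    ∃ B : LinearMap.BilinForm F (MonoidAlgebra F H ⧸ m), B.Nondegenerate ∧
      ∀ h x y, B (chi m h * x) (chi m h * y) = B x y := by
  have hfin : Finite (MonoidAlgebra F H ⧸ m) := Module.finite_of_finite F
  set σ := FiniteField.frobeniusAlgHom F (MonoidAlgebra F H ⧸ m) ^ i with hσ
  have hσpow : ∀ x, σ x = x ^ (Fintype.card F ^ i) := by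
    intro x
    rw [hσ, AlgHom.coe_pow, FiniteField.coe_frobeniusAlgHom, pow_iterate]
  have hbij : Function.Bijective σ := AlgHom.bijective σ
  have hnd := traceForm_nondegenerate F (MonoidAlgebra F H ⧸ m)
  refine ⟨(Algebra.traceForm F (MonoidAlgebra F H ⧸ m)).compRight σ.toLinearMap, ⟨?_, ?_⟩, ?_⟩
  · intro x hx
    apply hnd.1 x
    intro z
    obtain ⟨y, rfl⟩ := hbij.2 z
    exact hx y
  · intro y hy
    have : σ y = 0 := hnd.2 (σ y) (fun x => hy x)
    exact hbij.1 (by rw [this, map_zero])
  · intro h x y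
    rw [LinearMap.BilinForm.compRight_apply, LinearMap.BilinForm.compRight_apply,
      AlgHom.toLinearMap_apply, AlgHom.toLinearMap_apply, map_mul σ, Algebra.traceForm_apply,
      Algebra.traceForm_apply]
    congr 1
    have h1 : chi m h * σ (chi m h) = 1 := by
      rw [hσpow, ← pow_succ', ← map_pow, hH, map_one]
    calc chi m h * x * (σ (chi m h) * σ y) = (chi m h * σ (chi m h)) * (x * σ y) := by ring
      _ = x * σ y := by rw [h1, one_mul]

end forward

section setup
variable {F : Type*} [Field F] {H : Type*} [CommGroup H] {V : Type*} [AddCommGroup V] [Module F V]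

theorem isSimple_asModule [Nontrivial V] (ρ : Representation F H V)
    (hirr : ∀ U : Submodule F V, (∀ h : H, ∀ u ∈ U, ρ h u ∈ U) → U = ⊥ ∨ U = ⊤) :
    IsSimpleModule (MonoidAlgebra F H) ρ.asModule := by
  have hnt : Nontrivial ρ.asModule := inferInstanceAs (Nontrivial V)
  refine { exists_pair_ne := ⟨⊥, ⊤, bot_ne_top⟩, eq_bot_or_eq_top := ?_ }
  intro N
  let U : Submodule F V := (N.restrictScalars F).comap ρ.asModuleEquiv.symm.toLinearMap
  have hU : ∀ v, v ∈ U ↔ ρ.asModuleEquiv.symm v ∈ N := fun v => Iff.rfl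
  have hinvU : ∀ h : H, ∀ u ∈ U, ρ h u ∈ U := by
    intro h u hu
    rw [hU] at hu ⊢
    rw [Representation.asModuleEquiv_symm_map_rho]
    exact N.smul_mem _ hu
  rcases hirr U hinvU with h0 | h1
  · left
    rw [Submodule.eq_bot_iff]
    intro n hn
    have : ρ.asModuleEquiv n ∈ U := by
      rw [hU, LinearEquiv.symm_apply_apply]; exact hn
    rw [h0, Submodule.mem_bot] at this
    exact (LinearEquiv.map_eq_zero_iff _).1 this
  · right
    rw [eq_top_iff]
    intro n _
    have : ρ.asModuleEquiv n ∈ U := by rw [h1]; exact Submodule.mem_top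
    rw [hU, LinearEquiv.symm_apply_apply] at this
    exact this

theorem exists_model [Nontrivial V] (ρ : Representation F H V)
    (hirr : ∀ U : Submodule F V, (∀ h : H, ∀ u ∈ U, ρ h u ∈ U) → U = ⊥ ∨ U = ⊤) :
    ∃ (m : Ideal (MonoidAlgebra F H)) (_ : m.IsMaximal) (φ : V ≃ₗ[F] (MonoidAlgebra F H ⧸ m)),
      ∀ h v, φ (ρ h v) = chi m h * φ v := by
  have hsimple := isSimple_asModule ρ hirr
  obtain ⟨m, hm, ⟨e⟩⟩ := isSimpleModule_iff_quot_maximal.1 hsimple
  refine ⟨m, hm, ρ.asModuleEquiv.symm.trans (e.restrictScalars F), ?_⟩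
  intro h v
  rw [LinearEquiv.trans_apply, Representation.asModuleEquiv_symm_map_rho,
    LinearEquiv.restrictScalars_apply, map_smul, LinearEquiv.trans_apply,
    LinearEquiv.restrictScalars_apply, chi_apply]
  generalize e (ρ.asModuleEquiv.symm v) = k
  obtain ⟨b, rfl⟩ := Ideal.Quotient.mk_surjective k
  rfl

end setup

end Cfsg.Agent.Helper3.SelfDualAb
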