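import Mathlib
import Cfsg.Agent.Helper3.ShAbsA

set_option autoImplicit false

namespace Cfsg.Agent.Helper3.Shult

open Module TensorProduct Cfsg.Agent.Helper3.FrobActC Cfsg.Agent.Helper3.FrobActB

universe u v

set_option maxHeartbeats 1000000 in
/-- Shult's theorem for an extraspecial group: abstract form. -/
theorem shult_abs_A {Γ : Type u} [Group Γ] {A : Type v} [CommGroup A] [Finite A] (p : ℕ)
    [hp : Fact p.Prime] [Module (ZMod p) (Additive A)]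
    (q r : ℕ) (hq : q.Prime) (hr : r.Prime) (hpq : p ≠ q) (hpr : p ≠ r) (hqr : q ≠ r)
    (ψ : Γ →* MulAut A) (x : Γ) (hx : x ^ r = 1) (Q : Subgroup Γ) [Finite Q] (hQ : IsPGroup q Q)
    (hxQ : ∀ g ∈ Q, x * g * x⁻¹ ∈ Q)
    (Z : Subgroup Γ) (hZ : ∀ g, g ∈ Z ↔ g ∈ Q ∧ ∀ h ∈ Q, g * h = h * g)
    (hZq : Nat.card Z = q) (hcommZ : ∀ g ∈ Q, ∀ h ∈ Q, g * h * g⁻¹ * h⁻¹ ∈ Z)
    (hCQ : ∀ g ∈ Q, x * g * x⁻¹ = g ↔ g ∈ Z)
    (hfaith : ∀ g ∈ Q, ψ g = 1 → g = 1) (hZQne : ∃ g ∈ Q, g ∉ Z)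
    (hfix : ∀ a : A, ψ x a = a → a = 1) :
    q = 2 ∧ ∃ n : ℕ, r = 2 ^ n + 1 ∧ Nat.card Q = 2 ^ (2 * n + 1) := by
  classical
  haveI : Fact q.Prime := ⟨hq⟩
  have hZQ : Z ≤ Q := fun g hg => ((hZ g).1 hg).1
  haveI : Finite ↥Z := Finite.of_injective (Subgroup.inclusion hZQ)
    (Subgroup.inclusion_injective hZQ)
  obtain ⟨ρ, hρ⟩ : ∃ ρ : Representation (KK p) Γ (KK p ⊗[ZMod p] Additive A),
      ρ = bcRep p ψ := ⟨_, rfl⟩
  have hρ1 : ∀ g, ρ g = 1 ↔ ψ g = 1 := by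
    intro g
    rw [hρ, bcRep_eq_one_iff]
  have hρfix : ∀ w, ρ x w = w → w = 0 := by
    intro w hw
    rw [hρ] at hw
    exact bcRep_no_fixed p _ x hfix w hw
  obtain ⟨k, hk⟩ := hQ.exists_card_eq
  have hcop_pq : Nat.Coprime q p := by
    rw [Nat.coprime_primes hq hp.out]
    exact hpq.symm
  have hQK : ((Nat.card Q : ℕ) : KK p) ≠ 0 := by
    apply cast_ne_zero_of_coprime
    rw [hk]
    exact Nat.Coprime.pow_left k hcop_pq
  have hZK : ((Nat.card Z : ℕ) : KK p) ≠ 0 := by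
    apply cast_ne_zero_of_coprime
    rw [hZq]
    exact hcop_pq
  have hrK : ((r : ℕ) : KK p) ≠ 0 := by
    apply cast_ne_zero_of_coprime
    rw [Nat.coprime_primes hr hp.out]
    exact hpr.symm
  -- a generator of Z
  haveI : Nontrivial ↥Z := by
    apply (Finite.one_lt_card_iff_nontrivial).1
    rw [hZq]; exact hq.one_lt
  obtain ⟨z₁, hz₁⟩ := exists_ne (1 : ↥Z)
  have hcentral : ∀ z ∈ Z, ∀ g ∈ Q, g * z * g⁻¹ = z := by
    intro z hz g hg
    have := ((hZ z).1 hz).2 g hg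
    rw [mul_inv_eq_iff_eq_mul]
    exact this.symm
  obtain ⟨W₂, hW₂0, hW₂Q, hW₂x, hmin, hfixZ⟩ := exists_min_sub ρ Q Z x
    (fun g hg z hz => by rw [hcentral z hz g hg]; exact hz)
    (fun z hz => by rw [(hCQ z (hZQ hz)).2 hz]; exact hz) hZK
    ⟨z₁, z₁.2, fun h => hz₁ (Subtype.ext (hfaith _ (hZQ z₁.2) ((hρ1 _).1 h)))⟩
  -- c3
  have hc3 : ∀ g ∈ Q, (∃ l : KK p, ∀ w ∈ W₂, ρ g w = l • w) → x * g * x⁻¹ = g := by
    intro g hg hsc
    rw [hCQ g hg]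
    by_contra hgZ
    have hex : ∃ h ∈ Q, g * h ≠ h * g := by
      by_contra hcon
      push Not at hcon
      exact hgZ ((hZ g).2 ⟨hg, hcon⟩)
    obtain ⟨h, hh, hgh⟩ := hex
    obtain ⟨l, hl⟩ := hsc
    obtain ⟨z', hz'⟩ : ∃ z', z' = h * g * h⁻¹ * g⁻¹ := ⟨_, rfl⟩
    have hz'Z : z' ∈ Z := by rw [hz']; exact hcommZ h hh g hg
    have hz'1 : z' ≠ 1 := by
      intro h1
      apply hgh
      rw [hz'] at h1
      have : h * g = g * h := by
        have := congrArg (· * g * h) h1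
        simpa [mul_assoc] using this
      exact this.symm
    have hz'fix : ∀ w ∈ W₂, ρ z' w = w := by
      intro w hw
      have h1 : ρ g⁻¹ w ∈ W₂ := hW₂Q.mem (Q.inv_mem hg) hw
      have h2 : ρ h⁻¹ (ρ g⁻¹ w) ∈ W₂ := hW₂Q.mem (Q.inv_mem hh) h1
      have h3 : w = l • ρ g⁻¹ w := by
        rw [← hl _ h1, rho_mul_inv]
      rw [hz', map_mul, map_mul, map_mul, Module.End.mul_apply, Module.End.mul_apply,
        Module.End.mul_apply, hl _ h2, map_smul, rho_mul_inv, ← h3]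
    let Fx : Subgroup Γ :=
      { carrier := {g | ∀ w ∈ W₂, ρ g w = w}
        mul_mem' := by
          intro a b ha hb w hw
          rw [map_mul, Module.End.mul_apply, hb w hw, ha w hw]
        one_mem' := by
          intro w _
          rw [map_one, Module.End.one_apply]
        inv_mem' := by
          intro a ha w hw
          have := ha w hw
          conv_lhs => rw [← this]
          exact rho_inv_mul ρ a w }
    have hzp : Subgroup.zpowers (⟨z', hz'Z⟩ : ↥Z) = ⊤ :=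
      zpowers_eq_top_of_prime_card hZq (fun h => hz'1 (congrArg Subtype.val h))
    have hZFx : Z ≤ Fx := by
      intro z hz
      have h1 : (⟨z, hz⟩ : ↥Z) ∈ Subgroup.zpowers (⟨z', hz'Z⟩ : ↥Z) := by rw [hzp]; trivial
      obtain ⟨n, hn⟩ := Subgroup.mem_zpowers_iff.1 h1
      have hn' : z' ^ n = z := by
        have := congrArg Subtype.val hn
        simpa using this
      rw [← hn']
      exact Fx.zpow_mem hz'fix n
    obtain ⟨w, hw, hw0⟩ := Submodule.exists_mem_ne_zero_of_ne_bot hW₂0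
    apply hw0
    apply hfixZ w hw
    intro z hz
    exact hZFx hz w hw
  have hc1 : ∀ g ∈ Q, ∀ h ∈ Q, x * (g * h * g⁻¹ * h⁻¹) * x⁻¹ = g * h * g⁻¹ * h⁻¹ := by
    intro g hg h hh
    have hm := hcommZ g hg h hh
    exact (hCQ _ (hZQ hm)).2 hm
  have hc2 : ∀ c ∈ Q, x * c * x⁻¹ = c → ∀ g ∈ Q, c * g = g * c := by
    intro c hc hcx g hg
    exact ((hZ c).1 ((hCQ c hc).1 hcx)).2 g hg
  have hc4 : ∀ c ∈ Q, x * c * x⁻¹ = c → c ^ r = 1 → c = 1 := by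
    intro c hc _ hcr
    exact eq_one_of_pgroup_of_pow hq hr hqr Q hQ c hc hcr
  have hC : ∀ g, g ∈ Z ↔ g ∈ Q ∧ x * g * x⁻¹ = g := by
    intro g
    constructor
    · intro hg
      exact ⟨hZQ hg, (hCQ g (hZQ hg)).2 hg⟩
    · rintro ⟨hg, hgx⟩
      exact (hCQ g hg).1 hgx
  obtain ⟨hD, hcard, -⟩ := shult_linear_rel ρ Q x r hr hx hxQ hQK hrK W₂ hW₂0 hW₂Q hW₂x
    hmin (fun w _ => hρfix w) hc1 hc2 hc3 hc4 Z hC
  rw [hZq] at hcard
  have hD1 : finrank (KK p) W₂ ≠ 1 := by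
    intro h1
    rw [h1, one_mul, one_mul] at hcard
    have hZQeq : Z = Q := Subgroup.eq_of_le_of_card_ge hZQ (by rw [hZq, hcard])
    obtain ⟨g, hg, hgZ⟩ := hZQne
    apply hgZ
    rw [hZQeq]; exact hg
  have hDr : finrank (KK p) W₂ + 1 = r := by
    rcases hD with h | h
    · exact absurd h hD1
    · exact h
  have hDdvd : finrank (KK p) W₂ ∣ q ^ k := by
    rw [← hk, ← hcard, mul_assoc]
    exact Dvd.intro _ rfl
  obtain ⟨m, -, hm⟩ := (Nat.dvd_prime_pow hq).1 hDdvd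
  have hq2 : q = 2 := by
    rcases hq.eq_two_or_odd' with h | hodd
    · exact h
    · exfalso
      have h1 : Odd (q ^ m) := hodd.pow
      have h2 : Even r := by
        rw [← hDr, hm]
        exact h1.add_one
      have h3 : r = 2 := (Nat.Prime.even_iff hr).1 h2
      apply hD1
      omega
  refine ⟨hq2, m, ?_, ?_⟩
  · rw [← hDr, hm, hq2]
  · rw [← hcard, hm, hq2]
    ring

/-- Shult's theorem for an extraspecial group: general form. -/
theorem shult_act_A {Γ : Type u} [Group Γ] {A : Type v} [inst : Group A] [Finite A]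
    (p q r : ℕ) (hp : p.Prime) (hq : q.Prime) (hr : r.Prime) (hpq : p ≠ q) (hpr : p ≠ r)
    (hqr : q ≠ r) (hcomm : ∀ a b : A, a * b = b * a) (hexp : ∀ a : A, a ^ p = 1)
    (ψ : Γ →* MulAut A) (x : Γ) (hx : x ^ r = 1) (Q : Subgroup Γ) [Finite Q] (hQ : IsPGroup q Q)
    (hxQ : ∀ g ∈ Q, x * g * x⁻¹ ∈ Q)
    (Z : Subgroup Γ) (hZ : ∀ g, g ∈ Z ↔ g ∈ Q ∧ ∀ h ∈ Q, g * h = h * g)
    (hZq : Nat.card Z = q) (hcommZ : ∀ g ∈ Q, ∀ h ∈ Q, g * h * g⁻¹ * h⁻¹ ∈ Z)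
    (hCQ : ∀ g ∈ Q, x * g * x⁻¹ = g ↔ g ∈ Z)
    (hfaith : ∀ g ∈ Q, ψ g = 1 → g = 1) (hZQne : ∃ g ∈ Q, g ∉ Z)
    (hfix : ∀ a : A, ψ x a = a → a = 1) :
    q = 2 ∧ ∃ n : ℕ, r = 2 ^ n + 1 ∧ Nat.card Q = 2 ^ (2 * n + 1) := by
  letI : CommGroup A := { inst with mul_comm := hcomm }
  haveI : Fact p.Prime := ⟨hp⟩
  letI : Module (ZMod p) (Additive A) := AddCommGroup.zmodModule (by
    intro a
    exact congrArg Additive.ofMul (hexp (Additive.toMul a)))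
  exact shult_abs_A (A := A) p q r hq hr hpq hpr hqr ψ x hx Q hQ hxQ Z hZ hZq hcommZ hCQ hfaith
    hZQne hfix

end Cfsg.Agent.Helper3.Shult
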