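import Mathlib

/-!
# Sharply 4-transitive actions: Tits' involution argument

A group acting sharply 4-transitively on a set `Ω` (no finiteness assumed) has
`|Ω| ∈ {4, 5, 6, 11}`.
-/

set_option autoImplicit false

namespace Cfsg.Agent.Helper3.SharpFour

open MulAction

variable {G Ω : Type*} [Group G] [MulAction G Ω]

/-- Four pairwise distinct points. -/
structure D4 (a b c d : Ω) : Prop where
  ab : a ≠ b
  ac : a ≠ c
  ad : a ≠ d
  bc : b ≠ c
  bd : b ≠ d
  cd : c ≠ d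

/-- The embedding `Fin 4 ↪ Ω` with prescribed distinct values. -/
def emb {a b c d : Ω} (h : D4 a b c d) : Fin 4 ↪ Ω :=
  ⟨![a, b, c, d], by
    obtain ⟨hab, hac, had, hbc, hbd, hcd⟩ := h
    intro i j hij
    fin_cases i <;> fin_cases j <;> simp_all⟩

theorem D4.of_emb (x : Fin 4 ↪ Ω) : D4 (x 0) (x 1) (x 2) (x 3) where
  ab := fun h => by simpa using x.injective h
  ac := fun h => by simpa using x.injective h
  ad := fun h => by simpa using x.injective h
  bc := fun h => by simpa using x.injective h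
  bd := fun h => by simpa using x.injective h
  cd := fun h => by simpa using x.injective h

/-- The sharp 4-transitivity hypothesis. -/
structure Hyp (G Ω : Type*) [Group G] [MulAction G Ω] : Prop where
  trans : IsMultiplyPretransitive G Ω 4
  sharp : ∀ x : Fin 4 ↪ Ω, stabilizer G x = ⊥

namespace Hyp

variable (H : Hyp G Ω)
include H

theorem eq_one {a b c d : Ω} (h : D4 a b c d) (g : G) (ha : g • a = a) (hb : g • b = b)
    (hc : g • c = c) (hd : g • d = d) : g = 1 := by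
  have hmem : g ∈ stabilizer G (emb h) := by
    rw [mem_stabilizer_iff]
    ext i
    fin_cases i
    · simpa [emb] using ha
    · simpa [emb] using hb
    · simpa [emb] using hc
    · simpa [emb] using hd
  rw [H.sharp] at hmem
  exact Subgroup.mem_bot.1 hmem

theorem eq_of_agree {a b c d : Ω} (h : D4 a b c d) (g k : G) (ha : g • a = k • a)
    (hb : g • b = k • b) (hc : g • c = k • c) (hd : g • d = k • d) : g = k := by
  have h1 : k⁻¹ * g = 1 := by
    apply H.eq_one h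
    · rw [mul_smul, ha, inv_smul_smul]
    · rw [mul_smul, hb, inv_smul_smul]
    · rw [mul_smul, hc, inv_smul_smul]
    · rw [mul_smul, hd, inv_smul_smul]
  have := congrArg (fun t => k * t) h1
  simpa using this

theorem exists_map {a b c d a' b' c' d' : Ω} (h : D4 a b c d) (h' : D4 a' b' c' d') :
    ∃ g : G, g • a = a' ∧ g • b = b' ∧ g • c = c' ∧ g • d = d' := by
  have := H.trans
  obtain ⟨g, hg⟩ := exists_smul_eq G (emb h) (emb h')
  refine ⟨g, ?_, ?_, ?_, ?_⟩
  · have := congrArg (fun x : Fin 4 ↪ Ω => x 0) hg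
    simpa [emb] using this
  · have := congrArg (fun x : Fin 4 ↪ Ω => x 1) hg
    simpa [emb] using this
  · have := congrArg (fun x : Fin 4 ↪ Ω => x 2) hg
    simpa [emb] using this
  · have := congrArg (fun x : Fin 4 ↪ Ω => x 3) hg
    simpa [emb] using this

end Hyp


theorem D4.swap12 {a b c d : Ω} (h : D4 a b c d) : D4 b a c d :=
  ⟨h.ab.symm, h.bc, h.bd, h.ac, h.ad, h.cd⟩

/-- Points moved by `u`, other than `a` and `b`. -/
def Rest (u : G) (a b z : Ω) : Prop := u • z ≠ z ∧ z ≠ a ∧ z ≠ b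

/-- `w` swaps `a, b` and fixes `z` and `u • z`. -/
def Spec (u : G) (a b : Ω) (w : G) (z : Ω) : Prop :=
  w • a = b ∧ w • b = a ∧ w • z = z ∧ w • (u • z) = u • z

/-- `z` is a moved point whose associated involution fixes `p`. -/
def Cls (u : G) (a b p z : Ω) : Prop := Rest u a b z ∧ ∃ w : G, Spec u a b w z ∧ w • p = p

/-- The involution `u` swapping `a, b` and fixing `c, d`. -/
structure Setting (G Ω : Type*) [Group G] [MulAction G Ω] (a b c d : Ω) (u : G) : Prop where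
  H : Hyp G Ω
  dist : D4 a b c d
  ua : u • a = b
  ub : u • b = a
  uc : u • c = c
  ud : u • d = d

namespace Setting

variable {a b c d : Ω} {u : G} (S : Setting G Ω a b c d u)
include S

theorem uu : u * u = 1 := by
  apply S.H.eq_one S.dist
  · rw [mul_smul, S.ua, S.ub]
  · rw [mul_smul, S.ub, S.ua]
  · rw [mul_smul, S.uc, S.uc]
  · rw [mul_smul, S.ud, S.ud]

theorem uuz (z : Ω) : u • u • z = z := by rw [← mul_smul, S.uu, one_smul]

theorem rest_smul {z : Ω} (hz : Rest u a b z) : Rest u a b (u • z) := by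
  refine ⟨?_, ?_, ?_⟩
  · rw [S.uuz]; exact hz.1.symm
  · intro h
    have := congrArg (fun t => u • t) h
    simp only [S.uuz, S.ua] at this
    exact hz.2.2 this
  · intro h
    have := congrArg (fun t => u • t) h
    simp only [S.uuz, S.ub] at this
    exact hz.2.1 this

theorem fix_ne_a {p : Ω} (hp : u • p = p) : p ≠ a := by
  rintro rfl
  rw [S.ua] at hp
  exact S.dist.ab hp.symm

theorem fix_ne_b {p : Ω} (hp : u • p = p) : p ≠ b := by
  rintro rfl
  rw [S.ub] at hp
  exact S.dist.ab hp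

omit S in
theorem fix_ne_rest {p z : Ω} (hp : u • p = p) (hz : Rest u a b z) : p ≠ z ∧ p ≠ u • z := by
  constructor
  · rintro rfl; exact hz.1 hp
  · intro h
    have h1 : u • p = u • z := by rw [hp]; exact h
    exact hz.1 (by rw [← smul_left_cancel u h1]; exact hp)

theorem d4_rest {z : Ω} (hz : Rest u a b z) : D4 a b z (u • z) :=
  ⟨S.dist.ab, hz.2.1.symm, (S.rest_smul hz).2.1.symm, hz.2.2.symm, (S.rest_smul hz).2.2.symm,
    hz.1.symm⟩

theorem d4_ab_fix {p q : Ω} (hp : u • p = p) (hq : u • q = q) (hpq : p ≠ q) : D4 a b p q :=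
  ⟨S.dist.ab, (S.fix_ne_a hp).symm, (S.fix_ne_a hq).symm, (S.fix_ne_b hp).symm,
    (S.fix_ne_b hq).symm, hpq⟩

omit S in
theorem d4_fix_rest {p q z : Ω} (hp : u • p = p) (hq : u • q = q) (hpq : p ≠ q)
    (hz : Rest u a b z) : D4 p q z (u • z) :=
  ⟨hpq, (fix_ne_rest hp hz).1, (fix_ne_rest hp hz).2, (fix_ne_rest hq hz).1,
    (fix_ne_rest hq hz).2, hz.1.symm⟩

theorem exists_spec {z : Ω} (hz : Rest u a b z) : ∃ w : G, Spec u a b w z :=
  S.H.exists_map (S.d4_rest hz) (S.d4_rest hz).swap12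

theorem spec_ww {w : G} {z : Ω} (hw : Spec u a b w z) (hz : Rest u a b z) : w * w = 1 := by
  obtain ⟨h1, h2, h3, h4⟩ := hw
  apply S.H.eq_one (S.d4_rest hz)
  · rw [mul_smul, h1, h2]
  · rw [mul_smul, h2, h1]
  · rw [mul_smul, h3, h3]
  · rw [mul_smul, h4, h4]

theorem spec_wwp {w : G} {z : Ω} (hw : Spec u a b w z) (hz : Rest u a b z) (p : Ω) :
    w • w • p = p := by rw [← mul_smul, S.spec_ww hw hz, one_smul]

theorem spec_comm {w : G} {z : Ω} (hw : Spec u a b w z) (hz : Rest u a b z) : w * u = u * w := by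
  obtain ⟨h1, h2, h3, h4⟩ := hw
  apply S.H.eq_of_agree (S.d4_rest hz)
  · rw [mul_smul, mul_smul, S.ua, h2, h1, S.ub]
  · rw [mul_smul, mul_smul, S.ub, h1, h2, S.ua]
  · rw [mul_smul, mul_smul, h3, h4]
  · rw [mul_smul, mul_smul, S.uuz, h3, h4, S.uuz]

theorem spec_fix {w : G} {z : Ω} (hw : Spec u a b w z) (hz : Rest u a b z) {p : Ω}
    (hp : u • p = p) : u • (w • p) = w • p := by
  rw [← mul_smul, ← S.spec_comm hw hz, mul_smul, hp]

theorem spec_not_two {w : G} {z : Ω} (hw : Spec u a b w z) (hz : Rest u a b z) {p q : Ω}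
    (hp : u • p = p) (hq : u • q = q) (hpq : p ≠ q) : ¬ (w • p = p ∧ w • q = q) := by
  rintro ⟨h1, h2⟩
  have : w = 1 := S.H.eq_one (d4_fix_rest hp hq hpq hz) w h1 h2 hw.2.2.1 hw.2.2.2
  have h3 := hw.1
  rw [this, one_smul] at h3
  exact S.dist.ab h3

theorem spec_unique {w1 w2 : G} {z : Ω} (h1 : Spec u a b w1 z) (h2 : Spec u a b w2 z)
    (hz : Rest u a b z) : w1 = w2 := by
  apply S.H.eq_of_agree (S.d4_rest hz)
  · rw [h1.1, h2.1]
  · rw [h1.2.1, h2.2.1]
  · rw [h1.2.2.1, h2.2.2.1]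
  · rw [h1.2.2.2, h2.2.2.2]

theorem key {w1 w2 : G} {z1 z2 : Ω} (h1 : Spec u a b w1 z1) (hz1 : Rest u a b z1)
    (h2 : Spec u a b w2 z2) (hz2 : Rest u a b z2) {p q : Ω} (hp : u • p = p) (hq : u • q = q)
    (hpq : p ≠ q) (e1 : w1 • p = w2 • p) (e2 : w1 • q = w2 • q) : z2 = z1 ∨ z2 = u • z1 := by
  have hw : w1 = w2 := by
    apply S.H.eq_of_agree (S.d4_ab_fix hp hq hpq)
    · rw [h1.1, h2.1]
    · rw [h1.2.1, h2.2.1]
    · exact e1
    · exact e2
  subst hw
  by_contra hcon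
  push Not at hcon
  obtain ⟨n1, n2⟩ := hcon
  have hd : D4 z1 (u • z1) z2 (u • z2) := by
    refine ⟨hz1.1.symm, fun h => n1 h.symm, ?_, fun h => n2 h.symm, ?_, hz2.1.symm⟩
    · intro h
      apply n2
      rw [h, S.uuz]
    · intro h
      exact n1 (smul_left_cancel u h).symm
  have : w1 = 1 := S.H.eq_one hd w1 h1.2.2.1 h1.2.2.2 h2.2.2.1 h2.2.2.2
  have h3 := h1.1
  rw [this, one_smul] at h3
  exact S.dist.ab h3

theorem cls_smul {p z : Ω} (h : Cls u a b p z) : Cls u a b p (u • z) := by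
  obtain ⟨hz, w, hw, hwp⟩ := h
  refine ⟨S.rest_smul hz, w, ⟨hw.1, hw.2.1, hw.2.2.2, ?_⟩, hwp⟩
  rw [S.uuz]
  exact hw.2.2.1

theorem cls_disj {p q z : Ω} (hp : u • p = p) (hq : u • q = q) (hpq : p ≠ q)
    (h1 : Cls u a b p z) (h2 : Cls u a b q z) : False := by
  obtain ⟨hz, w1, hw1, e1⟩ := h1
  obtain ⟨-, w2, hw2, e2⟩ := h2
  have := S.spec_unique hw1 hw2 hz
  subst this
  exact S.spec_not_two hw1 hz hp hq hpq ⟨e1, e2⟩

/-- transport of classes by an element fixing `a`, `b` and mapping fixed points to fixed points -/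
theorem cls_map {p q p' q' z : Ω} (hp : u • p = p) (hq : u • q = q) (hpq : p ≠ q)
    (hp' : u • p' = p') (hq' : u • q' = q') (hpq' : p' ≠ q') (h : Cls u a b p z) :
    ∃ z', Cls u a b p' z' := by
  obtain ⟨hz, w, hw, hwp⟩ := h
  obtain ⟨g, ga, gb, gp, gq⟩ := S.H.exists_map (S.d4_ab_fix hp hq hpq) (S.d4_ab_fix hp' hq' hpq')
  have hgu : g * u = u * g := by
    apply S.H.eq_of_agree (S.d4_ab_fix hp hq hpq)
    · rw [mul_smul, mul_smul, S.ua, gb, ga, S.ua]
    · rw [mul_smul, mul_smul, S.ub, ga, gb, S.ub]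
    · rw [mul_smul, mul_smul, hp, gp, hp']
    · rw [mul_smul, mul_smul, hq, gq, hq']
  have hgu' : ∀ x : Ω, g • u • x = u • g • x := fun x => by
    rw [← mul_smul, hgu, mul_smul]
  have ginv_a : g⁻¹ • a = a := by rw [inv_smul_eq_iff, ga]
  have ginv_b : g⁻¹ • b = b := by rw [inv_smul_eq_iff, gb]
  refine ⟨g • z, ⟨?_, ?_, ?_⟩, g * w * g⁻¹, ⟨?_, ?_, ?_, ?_⟩, ?_⟩
  · rw [← hgu']
    intro h
    exact hz.1 (smul_left_cancel g h)
  · intro h
    rw [← ga] at h
    exact hz.2.1 (smul_left_cancel g h)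
  · intro h
    rw [← gb] at h
    exact hz.2.2 (smul_left_cancel g h)
  · rw [mul_smul, mul_smul, ginv_a, hw.1, gb]
  · rw [mul_smul, mul_smul, ginv_b, hw.2.1, ga]
  · rw [mul_smul, mul_smul, inv_smul_smul, hw.2.2.1]
  · rw [← hgu', mul_smul, mul_smul, inv_smul_smul, hw.2.2.2]
  · rw [mul_smul, mul_smul, ← gp, inv_smul_smul, hwp]

end Setting

end Cfsg.Agent.Helper3.SharpFour
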