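import Mathlib
import Cfsg.Agent.Helper3.SharpFourA

/-!
# Sharply 4-transitive actions: the case analysis and the count
-/

set_option autoImplicit false

namespace Cfsg.Agent.Helper3.SharpFour

open MulAction

variable {G Ω : Type*} [Group G] [MulAction G Ω]

theorem ncard_insert_pair (s : Set Ω) (hs : s.Finite) {x y : Ω} (hx : x ∉ s) (hy : y ∉ s)
    (hxy : x ≠ y) :
    (insert x (insert y s)).Finite ∧ (insert x (insert y s)).ncard = s.ncard + 2 := by
  have h1 : (insert y s).Finite := hs.insert y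
  have h2 : x ∉ insert y s := by
    rw [Set.mem_insert_iff, not_or]
    exact ⟨hxy, hx⟩
  refine ⟨h1.insert x, ?_⟩
  rw [Set.ncard_insert_of_notMem h2 h1, Set.ncard_insert_of_notMem hy hs]

namespace Setting

variable {a b c d : Ω} {u : G} (S : Setting G Ω a b c d u)
include S

theorem swap_of_fix {p q r : Ω} (hp : u • p = p) (hq : u • q = q) (hpq : p ≠ q)
    (hall : ∀ x, u • x = x → x = p ∨ x = q ∨ x = r) {w : G} {z : Ω} (hw : Spec u a b w z)
    (hz : Rest u a b z) (hwp : w • p = p) : w • q = r := by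
  rcases hall _ (S.spec_fix hw hz hq) with h | h | h
  · exfalso
    rw [← hwp] at h
    exact hpq (smul_left_cancel w h).symm
  · exfalso
    exact S.spec_not_two hw hz hp hq hpq ⟨hwp, h⟩
  · exact h

theorem exists_fix {p q r : Ω} (hp : u • p = p) (hq : u • q = q) (hr : u • r = r) (hpq : p ≠ q)
    (hpr : p ≠ r) (hqr : q ≠ r) (hall : ∀ x, u • x = x → x = p ∨ x = q ∨ x = r) {w : G} {z : Ω}
    (hw : Spec u a b w z) (hz : Rest u a b z) : w • p = p ∨ w • q = q ∨ w • r = r := by
  by_contra hcon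
  push Not at hcon
  obtain ⟨n1, n2, n3⟩ := hcon
  rcases hall _ (S.spec_fix hw hz hp) with h | h | h
  · exact n1 h
  · have hq' : w • q = p := by rw [← h, S.spec_wwp hw hz]
    rcases hall _ (S.spec_fix hw hz hr) with h3 | h3 | h3
    · rw [← hq'] at h3
      exact hqr (smul_left_cancel w h3).symm
    · rw [← h] at h3
      exact hpr (smul_left_cancel w h3).symm
    · exact n3 h3
  · have hr' : w • r = p := by rw [← h, S.spec_wwp hw hz]
    rcases hall _ (S.spec_fix hw hz hq) with h3 | h3 | h3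
    · rw [← hr'] at h3
      exact hqr (smul_left_cancel w h3)
    · exact n2 h3
    · rw [← h] at h3
      exact hpq (smul_left_cancel w h3).symm

theorem cls_total {p q r : Ω} (hp : u • p = p) (hq : u • q = q) (hr : u • r = r) (hpq : p ≠ q)
    (hpr : p ≠ r) (hqr : q ≠ r) (hall : ∀ x, u • x = x → x = p ∨ x = q ∨ x = r) {z : Ω}
    (hz : Rest u a b z) : Cls u a b p z ∨ Cls u a b q z ∨ Cls u a b r z := by
  obtain ⟨w, hw⟩ := S.exists_spec hz
  rcases S.exists_fix hp hq hr hpq hpr hqr hall hw hz with h | h | h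
  · exact Or.inl ⟨hz, w, hw, h⟩
  · exact Or.inr (Or.inl ⟨hz, w, hw, h⟩)
  · exact Or.inr (Or.inr ⟨hz, w, hw, h⟩)

theorem cls_pair {p q r : Ω} (hp : u • p = p) (hq : u • q = q) (hpq : p ≠ q)
    (hall : ∀ x, u • x = x → x = p ∨ x = q ∨ x = r) {z1 z2 : Ω}
    (h1 : Cls u a b p z1) (h2 : Cls u a b p z2) : z2 = z1 ∨ z2 = u • z1 := by
  obtain ⟨hz1, w1, hw1, e1⟩ := h1
  obtain ⟨hz2, w2, hw2, e2⟩ := h2
  apply S.key hw1 hz1 hw2 hz2 hp hq hpq
  · rw [e1, e2]
  · rw [S.swap_of_fix hp hq hpq hall hw1 hz1 e1, S.swap_of_fix hp hq hpq hall hw2 hz2 e2]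

/-- When `u` fixes exactly `c` and `d`: all moved points other than `a, b` form one pair. -/
theorem pair_of_two (hall : ∀ x, u • x = x → x = c ∨ x = d) {z1 z2 : Ω}
    (hz1 : Rest u a b z1) (hz2 : Rest u a b z2) : z2 = z1 ∨ z2 = u • z1 := by
  have hsw : ∀ {w : G} {z : Ω}, Spec u a b w z → Rest u a b z → w • c = d ∧ w • d = c := by
    intro w z hw hz
    have hc : w • c = d := by
      rcases hall _ (S.spec_fix hw hz S.uc) with h | h
      · exfalso
        rcases hall _ (S.spec_fix hw hz S.ud) with h' | h'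
        · rw [← h] at h'
          exact S.dist.cd (smul_left_cancel w h').symm
        · exact S.spec_not_two hw hz S.uc S.ud S.dist.cd ⟨h, h'⟩
      · exact h
    refine ⟨hc, ?_⟩
    rw [← hc, S.spec_wwp hw hz]
  obtain ⟨w1, hw1⟩ := S.exists_spec hz1
  obtain ⟨w2, hw2⟩ := S.exists_spec hz2
  apply S.key hw1 hz1 hw2 hz2 S.uc S.ud S.dist.cd
  · rw [(hsw hw1 hz1).1, (hsw hw2 hz2).1]
  · rw [(hsw hw1 hz1).2, (hsw hw2 hz2).2]

theorem not_rest_of_mem {s0 : Set Ω} (h0 : ∀ x ∈ s0, u • x = x) {x : Ω}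
    (hx : x ∈ insert a (insert b s0)) : ¬ Rest u a b x := by
  rintro ⟨h1, h2, h3⟩
  rcases hx with rfl | rfl | hx
  · exact h2 rfl
  · exact h3 rfl
  · exact h1 (h0 x hx)

/-- The count when `u` fixes exactly two points. -/
theorem card_of_two (hall : ∀ x, u • x = x → x = c ∨ x = d) :
    Finite Ω ∧ (Nat.card Ω = 4 ∨ Nat.card Ω = 6) := by
  have hs0 : ({c, d} : Set Ω).Finite ∧ ({c, d} : Set Ω).ncard = 2 :=
    ⟨Set.toFinite _, Set.ncard_pair S.dist.cd⟩
  have h0 : ∀ x ∈ ({c, d} : Set Ω), u • x = x := by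
    rintro x (rfl | rfl)
    · exact S.uc
    · exact S.ud
  have hs1 := ncard_insert_pair ({c, d} : Set Ω) hs0.1 (x := a) (y := b)
    (by simp [S.dist.ac, S.dist.ad]) (by simp [S.dist.bc, S.dist.bd]) S.dist.ab
  rw [hs0.2] at hs1
  by_cases hR : ∃ z, Rest u a b z
  · obtain ⟨z1, hz1⟩ := hR
    have hs2 := ncard_insert_pair _ hs1.1 (x := z1) (y := u • z1)
      (fun h => S.not_rest_of_mem h0 h hz1)
      (fun h => S.not_rest_of_mem h0 h (S.rest_smul hz1)) hz1.1.symm
    rw [hs1.2] at hs2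
    have huniv : (Set.univ : Set Ω) = insert z1 (insert (u • z1) (insert a (insert b {c, d}))) := by
      apply Set.eq_of_subset_of_subset _ (Set.subset_univ _)
      intro x _
      by_cases hx : Rest u a b x
      · rcases S.pair_of_two hall hz1 hx with h | h
        · rw [h]; exact Set.mem_insert _ _
        · rw [h]; exact Set.mem_insert_of_mem _ (Set.mem_insert _ _)
      · unfold Rest at hx
        push Not at hx
        refine Set.mem_insert_of_mem _ (Set.mem_insert_of_mem _ ?_)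
        by_cases h1 : u • x = x
        · rcases hall x h1 with h | h
          · rw [h]; simp
          · rw [h]; simp
        · by_cases h2 : x = a
          · rw [h2]; simp
          · rw [hx h1 h2]; simp
    have hfin : Finite Ω := Set.finite_univ_iff.1 (huniv ▸ hs2.1)
    refine ⟨hfin, Or.inr ?_⟩
    rw [← Set.ncard_univ, huniv, hs2.2]
  · push Not at hR
    have huniv : (Set.univ : Set Ω) = insert a (insert b {c, d}) := by
      apply Set.eq_of_subset_of_subset _ (Set.subset_univ _)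
      intro x _
      have hx := hR x
      unfold Rest at hx
      push Not at hx
      by_cases h1 : u • x = x
      · rcases hall x h1 with h | h
        · rw [h]; simp
        · rw [h]; simp
      · by_cases h2 : x = a
        · rw [h2]; simp
        · rw [hx h1 h2]; simp
    have hfin : Finite Ω := Set.finite_univ_iff.1 (huniv ▸ hs1.1)
    refine ⟨hfin, Or.inl ?_⟩
    rw [← Set.ncard_univ, huniv, hs1.2]

/-- One step of the count: adjoining a class `{z, u • z}`. -/
theorem step (s : Set Ω) (hs : s.Finite) (P : Ω → Prop) (hP : ∀ x ∈ s, P x) {p z : Ω}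
    (hz : Cls u a b p z) (hnot : ∀ x, P x → Cls u a b p x → False) :
    (insert z (insert (u • z) s)).Finite ∧ (insert z (insert (u • z) s)).ncard = s.ncard + 2 ∧
      ∀ x ∈ insert z (insert (u • z) s), P x ∨ Cls u a b p x := by
  have h1 := ncard_insert_pair s hs (x := z) (y := u • z)
    (fun h => hnot z (hP z h) hz) (fun h => hnot _ (hP _ h) (S.cls_smul hz)) hz.1.1.symm
  refine ⟨h1.1, h1.2, ?_⟩
  rintro x (rfl | rfl | hx)
  · exact Or.inr hz
  · exact Or.inr (S.cls_smul hz)
  · exact Or.inl (hP x hx)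

/-- The count when `u` fixes three points. -/
theorem card_of_three {e : Ω} (he : u • e = e) (hec : e ≠ c) (hed : e ≠ d) :
    Finite Ω ∧ (Nat.card Ω = 5 ∨ Nat.card Ω = 11) := by
  have hall : ∀ x, u • x = x → x = c ∨ x = d ∨ x = e := by
    intro x hx
    by_contra hcon
    push Not at hcon
    obtain ⟨n1, n2, n3⟩ := hcon
    have hd4 : D4 c d e x :=
      ⟨S.dist.cd, hec.symm, fun h => n1 h.symm, hed.symm, fun h => n2 h.symm, fun h => n3 h.symm⟩
    have h1 : u = 1 := S.H.eq_one hd4 u S.uc S.ud he hx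
    have h3 := S.ua
    rw [h1, one_smul] at h3
    exact S.dist.ab h3
  have hall_d : ∀ x, u • x = x → x = d ∨ x = c ∨ x = e := fun x hx => by
    rcases hall x hx with h | h | h <;> simp [h]
  have hall_e : ∀ x, u • x = x → x = e ∨ x = c ∨ x = d := fun x hx => by
    rcases hall x hx with h | h | h <;> simp [h]
  have hs0 : ({c, d, e} : Set Ω).Finite ∧ ({c, d, e} : Set Ω).ncard = 3 := by
    refine ⟨Set.toFinite _, ?_⟩
    rw [Set.ncard_insert_of_notMem (by simp [S.dist.cd, hec.symm]) (Set.toFinite _),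
      Set.ncard_pair hed.symm]
  have h0 : ∀ x ∈ ({c, d, e} : Set Ω), u • x = x := by
    rintro x (rfl | rfl | rfl)
    · exact S.uc
    · exact S.ud
    · exact he
  have hs1 := ncard_insert_pair ({c, d, e} : Set Ω) hs0.1 (x := a) (y := b)
    (by simp [S.dist.ac, S.dist.ad, (S.fix_ne_a he).symm])
    (by simp [S.dist.bc, S.dist.bd, (S.fix_ne_b he).symm]) S.dist.ab
  rw [hs0.2] at hs1
  have hnr : ∀ x, ¬ Rest u a b x → x ∈ insert a (insert b ({c, d, e} : Set Ω)) := by
    intro x hx
    unfold Rest at hx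
    push Not at hx
    by_cases h1 : u • x = x
    · rcases hall x h1 with h | h | h
      · rw [h]; simp
      · rw [h]; simp
      · rw [h]; simp
    · by_cases h2 : x = a
      · rw [h2]; simp
      · rw [hx h1 h2]; simp
  by_cases hR : ∃ z, Rest u a b z
  · obtain ⟨z0, hz0⟩ := hR
    have hex : (∃ z, Cls u a b c z) ∧ (∃ z, Cls u a b d z) ∧ (∃ z, Cls u a b e z) := by
      rcases S.cls_total S.uc S.ud he S.dist.cd hec.symm hed.symm hall hz0 with h | h | h
      · exact ⟨⟨z0, h⟩, S.cls_map S.uc S.ud S.dist.cd S.ud S.uc S.dist.cd.symm h,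
          S.cls_map S.uc S.ud S.dist.cd he S.uc hec h⟩
      · exact ⟨S.cls_map S.ud S.uc S.dist.cd.symm S.uc S.ud S.dist.cd h, ⟨z0, h⟩,
          S.cls_map S.ud S.uc S.dist.cd.symm he S.uc hec h⟩
      · exact ⟨S.cls_map he S.uc hec S.uc S.ud S.dist.cd h,
          S.cls_map he S.uc hec S.ud S.uc S.dist.cd.symm h, ⟨z0, h⟩⟩
    obtain ⟨⟨zc, hzc⟩, ⟨zd, hzd⟩, ⟨ze, hze⟩⟩ := hex
    have m1 : ∀ x ∈ insert a (insert b ({c, d, e} : Set Ω)), ¬ Rest u a b x :=
      fun x hx => S.not_rest_of_mem h0 hx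
    obtain ⟨f2, c2, m2⟩ := S.step _ hs1.1 (fun x => ¬ Rest u a b x) m1 hzc
      (fun x hx hx' => hx hx'.1)
    obtain ⟨f3, c3, m3⟩ := S.step _ f2 (fun x => ¬ Rest u a b x ∨ Cls u a b c x) m2 hzd
      (fun x hx hx' => by
        rcases hx with hx | hx
        · exact hx hx'.1
        · exact S.cls_disj S.uc S.ud S.dist.cd hx hx')
    obtain ⟨f4, c4, m4⟩ := S.step _ f3
      (fun x => (¬ Rest u a b x ∨ Cls u a b c x) ∨ Cls u a b d x) m3 hze
      (fun x hx hx' => by
        rcases hx with (hx | hx) | hx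
        · exact hx hx'.1
        · exact S.cls_disj S.uc he hec.symm hx hx'
        · exact S.cls_disj S.ud he hed.symm hx hx')
    rw [c3, c2, hs1.2] at c4
    have huniv : (Set.univ : Set Ω) = insert ze (insert (u • ze) (insert zd (insert (u • zd)
        (insert zc (insert (u • zc) (insert a (insert b ({c, d, e} : Set Ω)))))))) := by
      apply Set.eq_of_subset_of_subset _ (Set.subset_univ _)
      intro x _
      by_cases hx : Rest u a b x
      · rcases S.cls_total S.uc S.ud he S.dist.cd hec.symm hed.symm hall hx with h | h | h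
        · rcases S.cls_pair S.uc S.ud S.dist.cd hall hzc h with h' | h'
          · rw [h']; simp
          · rw [h']; simp
        · rcases S.cls_pair S.ud S.uc S.dist.cd.symm hall_d hzd h with h' | h'
          · rw [h']; simp
          · rw [h']; simp
        · rcases S.cls_pair he S.uc hec hall_e hze h with h' | h'
          · rw [h']; simp
          · rw [h']; simp
      · have := hnr x hx
        simp only [Set.mem_insert_iff] at this ⊢
        tauto
    have hfin : Finite Ω := Set.finite_univ_iff.1 (huniv ▸ f4)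
    refine ⟨hfin, Or.inr ?_⟩
    rw [← Set.ncard_univ, huniv, c4]
  · push Not at hR
    have huniv : (Set.univ : Set Ω) = insert a (insert b ({c, d, e} : Set Ω)) := by
      apply Set.eq_of_subset_of_subset _ (Set.subset_univ _)
      intro x _
      exact hnr x (hR x)
    have hfin : Finite Ω := Set.finite_univ_iff.1 (huniv ▸ hs1.1)
    refine ⟨hfin, Or.inl ?_⟩
    rw [← Set.ncard_univ, huniv, hs1.2]

end Setting

/-- **Jordan–Tits**: a sharply 4-transitive action has degree 4, 5, 6 or 11. -/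
theorem card_mem (H : Hyp G Ω) (x0 : Fin 4 ↪ Ω) :
    Finite Ω ∧ (Nat.card Ω = 4 ∨ Nat.card Ω = 5 ∨ Nat.card Ω = 6 ∨ Nat.card Ω = 11) := by
  have hd := D4.of_emb x0
  obtain ⟨u, h1, h2, h3, h4⟩ := H.exists_map hd hd.swap12
  have S : Setting G Ω (x0 0) (x0 1) (x0 2) (x0 3) u := ⟨H, hd, h1, h2, h3, h4⟩
  by_cases he : ∃ e, u • e = e ∧ e ≠ x0 2 ∧ e ≠ x0 3
  · obtain ⟨e, he1, he2, he3⟩ := he
    obtain ⟨hf, h | h⟩ := S.card_of_three he1 he2 he3
    · exact ⟨hf, Or.inr (Or.inl h)⟩
    · exact ⟨hf, Or.inr (Or.inr (Or.inr h))⟩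
  · push Not at he
    have hall : ∀ x, u • x = x → x = x0 2 ∨ x = x0 3 := fun x hx => by
      by_contra hcon
      push Not at hcon
      exact hcon.2 (he x hx hcon.1)
    obtain ⟨hf, h | h⟩ := S.card_of_two hall
    · exact ⟨hf, Or.inl h⟩
    · exact ⟨hf, Or.inr (Or.inr (Or.inl h))⟩

end Cfsg.Agent.Helper3.SharpFour
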