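import Mathlib
import Cfsg.Agent.Helper3.SharpFourB

/-!
# Sharply `k`-transitive actions: descent to point stabilizers
-/

set_option autoImplicit false

namespace Cfsg.Agent.Helper3.SharpFour

open MulAction

variable {G Ω : Type*} [Group G] [MulAction G Ω]

/-- The sharp `k`-transitivity hypothesis. -/
structure SharpK (G Ω : Type*) [Group G] [MulAction G Ω] (k : ℕ) : Prop where
  trans : IsMultiplyPretransitive G Ω k
  sharp : ∀ x : Fin k ↪ Ω, stabilizer G x = ⊥

theorem SharpK.isPretransitive [Finite Ω] {k : ℕ} (h : SharpK G Ω (k + 1))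
    (hk : k + 1 ≤ Nat.card Ω) : IsPretransitive G Ω := by
  have := h.trans
  rw [← is_one_pretransitive_iff]
  apply isMultiplyPretransitive_of_le (n := k + 1) (by omega)
  exact hk

theorem SharpK.descent [Finite Ω] {k : ℕ} (h : SharpK G Ω (k + 1)) (hk : k + 1 ≤ Nat.card Ω)
    (a : Ω) : SharpK (stabilizer G a) (SubMulAction.ofStabilizer G a) k := by
  have hpre := h.isPretransitive hk
  have htr := h.trans
  refine ⟨(SubMulAction.ofStabilizer.isMultiplyPretransitive (a := a)).1 htr, ?_⟩
  intro y
  rw [eq_bot_iff]
  intro g hg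
  rw [mem_stabilizer_iff] at hg
  have hmem : (g : G) ∈ stabilizer G (SubMulAction.ofStabilizer.snoc y) := by
    rw [mem_stabilizer_iff]
    ext i
    rcases Fin.eq_castSucc_or_eq_last i with ⟨j, rfl⟩ | rfl
    · rw [Function.Embedding.smul_apply, SubMulAction.ofStabilizer.snoc_castSucc]
      have := congrArg (fun z : Fin k ↪ SubMulAction.ofStabilizer G a => ((z j : SubMulAction.ofStabilizer G a) : Ω)) hg
      simp only [Function.Embedding.smul_apply, SubMulAction.val_smul] at this
      exact this
    · rw [Function.Embedding.smul_apply, SubMulAction.ofStabilizer.snoc_last]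
      exact g.2
  rw [h.sharp] at hmem
  rw [Subgroup.mem_bot] at hmem ⊢
  exact Subtype.ext hmem

end Cfsg.Agent.Helper3.SharpFour
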