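import Mathlib
import Cfsg.Agent.Helper3.SharpDescent

/-!
# Sharply `k`-transitive actions for `k ≥ 5`
-/

set_option autoImplicit false

namespace Cfsg.Agent.Helper3.SharpFour

open MulAction

/-- If a finite group `G` of order `p * m` with `p ∤ m` acts faithfully on a set with `p` points,
then the number of Sylow `p`-subgroups is `m / d` for some divisor `d` of `p - 1`. -/
theorem sylow_regular_count {G Ω : Type*} [Group G] [MulAction G Ω] [FaithfulSMul G Ω] [Finite G]
    (p : ℕ) [hp : Fact p.Prime] (hΩ : Nat.card Ω = p) (m : ℕ) (hG : Nat.card G = p * m)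
    (hpm : ¬ p ∣ m) : ∃ d, d ∣ p - 1 ∧ d ∣ m ∧ m / d ≡ 1 [MOD p] := by
  classical
  have hfinΩ : Finite Ω := Nat.finite_of_card_ne_zero (by rw [hΩ]; exact hp.out.ne_zero)
  obtain ⟨P⟩ : Nonempty (Sylow p G) := inferInstance
  have hm0 : m ≠ 0 := by rintro rfl; exact hpm (dvd_zero p)
  have hPcard : Nat.card (P : Subgroup G) = p := by
    rw [Sylow.card_eq_multiplicity, hG, Nat.factorization_mul hp.out.ne_zero hm0]
    simp [hp.out.factorization_self, Nat.factorization_eq_zero_of_not_dvd hpm]
  have hcyc : IsCyclic (P : Subgroup G) := isCyclic_of_prime_card hPcard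
  have hcomm : ∀ w y : G, w ∈ (P : Subgroup G) → y ∈ (P : Subgroup G) → w * y = y * w := by
    intro w y hw hy
    let _ := IsCyclic.commGroup (α := (P : Subgroup G))
    have := mul_comm (⟨w, hw⟩ : (P : Subgroup G)) ⟨y, hy⟩
    exact congrArg Subtype.val this
  -- a nontrivial element
  have hnt : ∃ y : G, y ∈ (P : Subgroup G) ∧ y ≠ 1 := by
    by_contra hcon
    push Not at hcon
    have hbot : (P : Subgroup G) = ⊥ := by
      rw [eq_bot_iff]
      intro y hy
      exact Subgroup.mem_bot.2 (hcon y hy)
    rw [hbot, Subgroup.card_bot] at hPcard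
    exact hp.out.one_lt.ne hPcard
  obtain ⟨y0, hy0P, hy01⟩ := hnt
  have hmove : ∃ a : Ω, y0 • a ≠ a := by
    by_contra hcon
    push Not at hcon
    apply hy01
    apply eq_of_smul_eq_smul (α := Ω)
    intro a
    rw [hcon a, one_smul]
  obtain ⟨a, ha⟩ := hmove
  -- P is transitive
  have htrans : ∀ b : Ω, ∃ y : G, y ∈ (P : Subgroup G) ∧ y • a = b := by
    have hst : stabilizer (P : Subgroup G) a = ⊥ := by
      have hfact : Fact (Nat.card (P : Subgroup G)).Prime := ⟨by rw [hPcard]; exact hp.out⟩
      rcases Subgroup.eq_bot_or_eq_top_of_prime_card (stabilizer (P : Subgroup G) a) with h | h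
      · exact h
      · exfalso
        have : (⟨y0, hy0P⟩ : (P : Subgroup G)) ∈ stabilizer (P : Subgroup G) a := by
          rw [h]; exact Subgroup.mem_top _
        rw [mem_stabilizer_iff] at this
        exact ha this
    have hidx := index_stabilizer (P : Subgroup G) a
    rw [hst, Subgroup.index_bot, hPcard] at hidx
    have huniv : orbit (P : Subgroup G) a = Set.univ := by
      rw [Set.eq_univ_iff_ncard, ← hidx, hΩ]
    intro b
    have hb : b ∈ orbit (P : Subgroup G) a := by rw [huniv]; exact Set.mem_univ b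
    obtain ⟨y, hy⟩ := hb
    exact ⟨y.1, y.2, hy⟩
  -- centralizer of P is P
  have hcent : Subgroup.centralizer ((P : Subgroup G) : Set G) = (P : Subgroup G) := by
    apply le_antisymm
    · intro g hg
      rw [Subgroup.mem_centralizer_iff] at hg
      obtain ⟨y, hyP, hy⟩ := htrans (g • a)
      have hz : y⁻¹ * g = 1 := by
        apply eq_of_smul_eq_smul (α := Ω)
        intro b
        obtain ⟨w, hwP, rfl⟩ := htrans b
        rw [one_smul, mul_smul, ← mul_smul g w, ← hg w hwP, mul_smul, ← hy, ← mul_smul w y,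
          hcomm w y hwP hyP, mul_smul, inv_smul_smul]
      have : g = y := by
        have := congrArg (fun t => y * t) hz
        simpa using this
      rw [this]; exact hyP
    · intro g hg
      rw [Subgroup.mem_centralizer_iff]
      intro w hw
      exact hcomm w g hw hg
  set N := Subgroup.normalizer ((P : Subgroup G) : Set G) with hN
  set C := Subgroup.centralizer ((P : Subgroup G) : Set G) with hC
  have hCN : C ≤ N := Subgroup.centralizer_le_normalizer _
  have hker : (P : Subgroup G).normalizerMonoidHom.ker = C.subgroupOf N :=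
    Subgroup.normalizerMonoidHom_ker (P : Subgroup G)
  set d := Nat.card (P : Subgroup G).normalizerMonoidHom.range with hd
  have hd1 : d ∣ p - 1 := by
    have h1 : d ∣ Nat.card (MulAut (P : Subgroup G)) := Subgroup.card_subgroup_dvd_card _
    rwa [IsCyclic.card_mulAut, hPcard, Nat.totient_prime hp.out] at h1
  have hNcard : Nat.card N = p * d := by
    have h1 := Subgroup.card_mul_index (P : Subgroup G).normalizerMonoidHom.ker
    rw [Subgroup.index_ker, hker] at h1
    have h2 : Nat.card (C.subgroupOf N) = p := by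
      rw [Nat.card_congr (Subgroup.subgroupOfEquivOfLe hCN).toEquiv, hcent, hPcard]
    rw [h2] at h1
    exact h1.symm
  have hidx : N.index * d = m := by
    have h1 := Subgroup.card_mul_index N
    rw [hNcard, hG] at h1
    have h2 : p * (d * N.index) = p * m := by rw [← h1]; ring
    have h3 := Nat.eq_of_mul_eq_mul_left hp.out.pos h2
    rw [← h3]; ring
  have hdpos : 0 < d := Nat.card_pos
  refine ⟨d, hd1, ⟨N.index, by rw [← hidx]; ring⟩, ?_⟩
  have hmd : m / d = N.index := by
    rw [← hidx, Nat.mul_div_cancel _ hdpos]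
  rw [hmd]
  have h1 : Nat.card (Sylow p G) = N.index := Sylow.card_eq_index_normalizer P
  rw [← h1]
  exact card_sylow_modEq_one p G

variable {G Ω : Type*} [Group G] [MulAction G Ω]

theorem SharpK.exists_emb [Finite Ω] {k : ℕ} (hk : k ≤ Nat.card Ω) : Nonempty (Fin k ↪ Ω) := by
  classical
  have := Fintype.ofFinite Ω
  exact Function.Embedding.nonempty_of_card_le (by simpa [Nat.card_eq_fintype_card] using hk)

theorem SharpK.faithful [Finite Ω] {k : ℕ} (h : SharpK G Ω k) (hk : k ≤ Nat.card Ω) :
    FaithfulSMul G Ω := by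
  obtain ⟨x0⟩ : Nonempty (Fin k ↪ Ω) := SharpK.exists_emb hk
  refine ⟨fun {g g'} hgg => ?_⟩
  have hmem : g'⁻¹ * g ∈ stabilizer G x0 := by
    rw [mem_stabilizer_iff]
    ext i
    rw [Function.Embedding.smul_apply, mul_smul, hgg, inv_smul_smul]
  rw [h.sharp, Subgroup.mem_bot] at hmem
  have := congrArg (fun t => g' * t) hmem
  simpa using this

theorem SharpK.card_group [Finite Ω] {k : ℕ} (h : SharpK G Ω k) (hk : k ≤ Nat.card Ω) :
    Nat.card G = (Nat.card Ω).descFactorial k := by
  classical
  have := Fintype.ofFinite Ω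
  obtain ⟨x0⟩ : Nonempty (Fin k ↪ Ω) := SharpK.exists_emb hk
  have := h.trans
  have hbij : Function.Bijective (fun g : G => g • x0) := by
    refine ⟨?_, fun y => exists_smul_eq G x0 y⟩
    intro g g' hgg
    have hmem : g'⁻¹ * g ∈ stabilizer G x0 := by
      rw [mem_stabilizer_iff, mul_smul]
      change g'⁻¹ • (g • x0) = x0
      have : g • x0 = g' • x0 := hgg
      rw [this, inv_smul_smul]
    rw [h.sharp, Subgroup.mem_bot] at hmem
    have := congrArg (fun t => g' * t) hmem
    simpa using this
  rw [Nat.card_eq_of_bijective _ hbij, Nat.card_eq_fintype_card, Fintype.card_embedding_eq,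
    Fintype.card_fin, Nat.card_eq_fintype_card]

/-- Degrees of sharply 5-transitive actions. -/
theorem SharpK.card_mem5 [Finite Ω] (h : SharpK G Ω 5) (hk : 5 ≤ Nat.card Ω) :
    Nat.card Ω = 5 ∨ Nat.card Ω = 6 ∨ Nat.card Ω = 7 ∨ Nat.card Ω = 12 := by
  have hne : Nonempty Ω := by
    by_contra hcon
    rw [not_nonempty_iff] at hcon
    rw [Nat.card_of_isEmpty] at hk
    omega
  obtain ⟨a⟩ := hne
  have h' := h.descent hk a
  have hcard := SubMulAction.nat_card_ofStabilizer_add_one_eq G a
  obtain ⟨x0⟩ : Nonempty (Fin 4 ↪ SubMulAction.ofStabilizer G a) :=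
    SharpK.exists_emb (by omega)
  obtain ⟨-, h4⟩ := card_mem (G := stabilizer G a) (Ω := SubMulAction.ofStabilizer G a)
    ⟨h'.trans, h'.sharp⟩ x0
  omega

theorem SharpK.not_thirteen [Finite Ω] (h : SharpK G Ω 6) : Nat.card Ω ≠ 13 := by
  intro h13
  have hk : 6 ≤ Nat.card Ω := by omega
  have hG := h.card_group hk
  rw [h13] at hG
  have hG' : Nat.card G = 13 * 95040 := by rw [hG]; decide
  have := h.faithful hk
  have : Finite G := Nat.finite_of_card_ne_zero (by rw [hG']; norm_num)
  have : Fact (Nat.Prime 13) := ⟨by norm_num⟩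
  obtain ⟨d, hd1, hd2, hd3⟩ := sylow_regular_count (G := G) (Ω := Ω) 13 h13 95040 hG' (by norm_num)
  have hd12 : d ≤ 12 := Nat.le_of_dvd (by norm_num) hd1
  have hd0 : 0 < d := Nat.pos_of_dvd_of_pos hd1 (by norm_num)
  interval_cases d <;> revert hd1 hd3 <;> decide

/-- Degrees of sharply `k`-transitive actions for `k ≥ 6`. -/
theorem SharpK.card_mem_ge6 (k : ℕ) (hk6 : 6 ≤ k) :
    ∀ (G : Type*) (Ω : Type*) [Group G] [MulAction G Ω] [Finite Ω], SharpK G Ω k →
      k ≤ Nat.card Ω → Nat.card Ω = k ∨ Nat.card Ω = k + 1 ∨ Nat.card Ω = k + 2 := by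
  induction k, hk6 using Nat.le_induction with
  | base =>
    intro G Ω _ _ _ h hk
    have hne : Nonempty Ω := by
      by_contra hcon
      rw [not_nonempty_iff] at hcon
      rw [Nat.card_of_isEmpty] at hk
      omega
    obtain ⟨a⟩ := hne
    have h' := h.descent hk a
    have hcard := SubMulAction.nat_card_ofStabilizer_add_one_eq G a
    have h5 := h'.card_mem5 (by omega)
    have h13 := h.not_thirteen
    omega
  | succ k hk6 ih =>
    intro G Ω _ _ _ h hk
    have hne : Nonempty Ω := by
      by_contra hcon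
      rw [not_nonempty_iff] at hcon
      rw [Nat.card_of_isEmpty] at hk
      omega
    obtain ⟨a⟩ := hne
    have h' := h.descent hk a
    have hcard := SubMulAction.nat_card_ofStabilizer_add_one_eq G a
    have h5 := ih (stabilizer G a) (SubMulAction.ofStabilizer G a) h' (by omega)
    omega

end Cfsg.Agent.Helper3.SharpFour
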