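import Mathlib
import Cfsg.Agent.Helper3.SharpSix

/-!
# Sharply 4-transitive groups of degree 11 are simple of order 7920
-/

set_option autoImplicit false

namespace Cfsg.Agent.Helper3.SharpFour

open MulAction

/-- If a finite group `G` acts faithfully on a set with `p` points (`p` prime) and `P` is a subgroup
of order `p`, then the normalizer of `P` has order `p * d` for some divisor `d` of `p - 1`. -/
theorem normalizer_card_of_prime_degree {G Ω : Type*} [Group G] [MulAction G Ω] [FaithfulSMul G Ω]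
    [Finite G] (p : ℕ) [hp : Fact p.Prime] (hΩ : Nat.card Ω = p) (P : Subgroup G)
    (hPcard : Nat.card P = p) :
    ∃ d, d ∣ p - 1 ∧ Nat.card (Subgroup.normalizer (P : Set G)) = p * d := by
  classical
  have hfinΩ : Finite Ω := Nat.finite_of_card_ne_zero (by rw [hΩ]; exact hp.out.ne_zero)
  have hcyc : IsCyclic P := isCyclic_of_prime_card hPcard
  have hcomm : ∀ w y : G, w ∈ P → y ∈ P → w * y = y * w := by
    intro w y hw hy
    let _ := IsCyclic.commGroup (α := P)
    have := mul_comm (⟨w, hw⟩ : P) ⟨y, hy⟩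
    exact congrArg Subtype.val this
  have hnt : ∃ y : G, y ∈ P ∧ y ≠ 1 := by
    by_contra hcon
    push Not at hcon
    have hbot : P = ⊥ := by
      rw [eq_bot_iff]
      intro y hy
      exact Subgroup.mem_bot.2 (hcon y hy)
    rw [hbot, Subgroup.card_bot] at hPcard
    exact hp.out.one_lt.ne hPcard
  obtain ⟨y0, hy0P, hy01⟩ := hnt
  have hmove : ∃ a : Ω, y0 • a ≠ a := by
    by_contra hcon
    push Not at hcon
    apply hy01
    apply eq_of_smul_eq_smul (α := Ω)
    intro a
    rw [hcon a, one_smul]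
  obtain ⟨a, ha⟩ := hmove
  have htrans : ∀ b : Ω, ∃ y : G, y ∈ P ∧ y • a = b := by
    have hst : stabilizer P a = ⊥ := by
      have hfact : Fact (Nat.card P).Prime := ⟨by rw [hPcard]; exact hp.out⟩
      rcases Subgroup.eq_bot_or_eq_top_of_prime_card (stabilizer P a) with h | h
      · exact h
      · exfalso
        have : (⟨y0, hy0P⟩ : P) ∈ stabilizer P a := by
          rw [h]; exact Subgroup.mem_top _
        rw [mem_stabilizer_iff] at this
        exact ha this
    have hidx := index_stabilizer P a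
    rw [hst, Subgroup.index_bot, hPcard] at hidx
    have huniv : orbit P a = Set.univ := by
      rw [Set.eq_univ_iff_ncard, ← hidx, hΩ]
    intro b
    have hb : b ∈ orbit P a := by rw [huniv]; exact Set.mem_univ b
    obtain ⟨y, hy⟩ := hb
    exact ⟨y.1, y.2, hy⟩
  have hcent : Subgroup.centralizer (P : Set G) = P := by
    apply le_antisymm
    · intro g hg
      rw [Subgroup.mem_centralizer_iff] at hg
      obtain ⟨y, hyP, hy⟩ := htrans (g • a)
      have hz : y⁻¹ * g = 1 := by
        apply eq_of_smul_eq_smul (α := Ω)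
        intro b
        obtain ⟨w, hwP, rfl⟩ := htrans b
        rw [one_smul, mul_smul, ← mul_smul g w, ← hg w hwP, mul_smul, ← hy, ← mul_smul w y,
          hcomm w y hwP hyP, mul_smul, inv_smul_smul]
      have : g = y := by
        have := congrArg (fun t => y * t) hz
        simpa using this
      rw [this]; exact hyP
    · intro g hg
      rw [Subgroup.mem_centralizer_iff]
      intro w hw
      exact hcomm w g hw hg
  set N := Subgroup.normalizer (P : Set G) with hN
  set C := Subgroup.centralizer (P : Set G) with hC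
  have hCN : C ≤ N := Subgroup.centralizer_le_normalizer _
  have hker : P.normalizerMonoidHom.ker = C.subgroupOf N :=
    Subgroup.normalizerMonoidHom_ker P
  set d := Nat.card P.normalizerMonoidHom.range with hd
  have hd1 : d ∣ p - 1 := by
    have h1 : d ∣ Nat.card (MulAut P) := Subgroup.card_subgroup_dvd_card _
    rwa [IsCyclic.card_mulAut, hPcard, Nat.totient_prime hp.out] at h1
  refine ⟨d, hd1, ?_⟩
  have h1 := Subgroup.card_mul_index P.normalizerMonoidHom.ker
  rw [Subgroup.index_ker, hker] at h1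
  have h2 : Nat.card (C.subgroupOf N) = p := by
    rw [Nat.card_congr (Subgroup.subgroupOfEquivOfLe hCN).toEquiv, hcent, hPcard]
  rw [h2] at h1
  exact h1.symm

theorem factorization_prime_mul {p m : ℕ} (hp : p.Prime) (hm : ¬ p ∣ m) :
    (p * m).factorization p = 1 := by
  have hm0 : m ≠ 0 := by rintro rfl; exact hm (dvd_zero p)
  rw [Nat.factorization_mul hp.ne_zero hm0]
  simp [hp.factorization_self, Nat.factorization_eq_zero_of_not_dvd hm]

variable {G Ω : Type*} [Group G] [MulAction G Ω]

theorem exists_ne3 [Finite Ω] (h : 4 ≤ Nat.card Ω) (a b c : Ω) :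
    ∃ d, d ≠ a ∧ d ≠ b ∧ d ≠ c := by
  classical
  by_contra hcon
  push Not at hcon
  have hsub : (Set.univ : Set Ω) ⊆ {a, b, c} := by
    intro d _
    by_cases h1 : d = a
    · simp [h1]
    by_cases h2 : d = b
    · simp [h2]
    have := hcon d h1 h2
    simp [this]
  have h1 := Set.ncard_le_ncard hsub (Set.toFinite _)
  rw [Set.ncard_univ] at h1
  have h2 : ({a, b, c} : Set Ω).ncard ≤ 3 := by
    calc ({a, b, c} : Set Ω).ncard ≤ ({b, c} : Set Ω).ncard + 1 := Set.ncard_insert_le _ _
      _ ≤ (({c} : Set Ω).ncard + 1) + 1 := by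
          have := Set.ncard_insert_le b ({c} : Set Ω)
          omega
      _ = 3 := by rw [Set.ncard_singleton]
  omega

theorem Hyp.exists_map3 [Finite Ω] (H : Hyp G Ω) (hc : 4 ≤ Nat.card Ω) {a b c a' b' c' : Ω}
    (hab : a ≠ b) (hac : a ≠ c) (hbc : b ≠ c) (hab' : a' ≠ b') (hac' : a' ≠ c') (hbc' : b' ≠ c') :
    ∃ g : G, g • a = a' ∧ g • b = b' ∧ g • c = c' := by
  obtain ⟨d, hda, hdb, hdc⟩ := exists_ne3 hc a b c
  obtain ⟨d', hda', hdb', hdc'⟩ := exists_ne3 hc a' b' c'
  obtain ⟨g, h1, h2, h3, -⟩ := H.exists_map (a := a) (b := b) (c := c) (d := d)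
    ⟨hab, hac, hda.symm, hbc, hdb.symm, hdc.symm⟩ (a' := a') (b' := b') (c' := c') (d' := d')
    ⟨hab', hac', hda'.symm, hbc', hdb'.symm, hdc'.symm⟩
  exact ⟨g, h1, h2, h3⟩

theorem arith_M11 (d i : ℕ) (hd : d ∣ 10) (h1 : 11 * d * i = 7920) (h2 : i % 11 = 1) : d = 5 := by
  have hd10 : d ≤ 10 := Nat.le_of_dvd (by norm_num) hd
  have hd0 : 0 < d := Nat.pos_of_dvd_of_pos hd (by norm_num)
  interval_cases d <;> omega

/-- A sharply 4-transitive group of degree 11 is simple of order 7920. -/
theorem SharpK.simple_M11 [Finite Ω] (h : SharpK G Ω 4) (h11 : Nat.card Ω = 11) :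
    IsSimpleGroup G ∧ Nat.card G = 7920 := by
  classical
  have hk : 4 ≤ Nat.card Ω := by omega
  have hG : Nat.card G = 7920 := by rw [h.card_group hk, h11]; decide
  have hfaith := h.faithful hk
  have hfinG : Finite G := Nat.finite_of_card_ne_zero (by rw [hG]; norm_num)
  have H : Hyp G Ω := ⟨h.trans, h.sharp⟩
  have hp11 : Fact (Nat.Prime 11) := ⟨by norm_num⟩
  refine ⟨?_, hG⟩
  have hnt : Nontrivial G := by
    rw [← Finite.one_lt_card_iff_nontrivial, hG]; norm_num
  refine { exists_pair_ne := hnt.exists_pair_ne, eq_bot_or_eq_top_of_normal := ?_ }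
  intro N hN
  by_cases hbot : N = ⊥
  · exact Or.inl hbot
  right
  obtain ⟨g, hgN, hg1⟩ : ∃ g ∈ N, g ≠ 1 := by
    by_contra hcon
    push Not at hcon
    exact hbot ((Subgroup.eq_bot_iff_forall _).2 hcon)
  obtain ⟨b, hb⟩ : ∃ b : Ω, g • b ≠ b := by
    by_contra hcon
    push Not at hcon
    apply hg1
    apply eq_of_smul_eq_smul (α := Ω)
    intro x
    rw [hcon x, one_smul]
  -- N is transitive
  have hNtr : ∀ x y : Ω, ∃ n ∈ N, n • x = y := by
    intro x y
    by_cases hxy : x = y
    · exact ⟨1, N.one_mem, by rw [one_smul, hxy]⟩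
    obtain ⟨c, hcb, hcgb, -⟩ := exists_ne3 hk b (g • b) b
    obtain ⟨c', hcx, hcy, -⟩ := exists_ne3 hk x y x
    obtain ⟨t, ht1, ht2, -⟩ := H.exists_map3 hk (a := b) (b := g • b) (c := c) (a' := x) (b' := y)
      (c' := c') (Ne.symm hb) hcb.symm hcgb.symm hxy hcx.symm hcy.symm
    refine ⟨t * g * t⁻¹, hN.conj_mem g hgN t, ?_⟩
    have e1 : t⁻¹ • x = b := by rw [← ht1, inv_smul_smul]
    rw [mul_smul, mul_smul, e1, ht2]
  have horb : ∀ x : Ω, orbit N x = Set.univ := by
    intro x
    rw [Set.eq_univ_iff_forall]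
    intro y
    obtain ⟨n, hn, hny⟩ := hNtr x y
    exact ⟨⟨n, hn⟩, hny⟩
  have hidx11 : (stabilizer N b).index = 11 := by
    rw [index_stabilizer, horb, Set.ncard_univ, h11]
  have h11N : 11 ∣ Nat.card N := by rw [← hidx11]; exact Subgroup.index_dvd_card _
  -- an element of order 11 in N
  obtain ⟨x, hx⟩ := exists_prime_orderOf_dvd_card' (G := N) 11 h11N
  set P : Subgroup G := Subgroup.zpowers (x : G) with hP
  have hPcard : Nat.card P = 11 := by
    rw [hP, Nat.card_zpowers, Subgroup.orderOf_coe, hx]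
  have hPN : P ≤ N := by
    rw [hP, Subgroup.zpowers_le]; exact x.2
  have hPsyl : Nat.card P = 11 ^ (Nat.card G).factorization 11 := by
    rw [hPcard, hG, show (7920 : ℕ) = 11 * 720 by norm_num,
      factorization_prime_mul (by norm_num) (by norm_num), pow_one]
  set Q : Sylow 11 G := Sylow.ofCard P hPsyl with hQ
  have hQP : (Q : Subgroup G) = P := rfl
  have hfr : Subgroup.normalizer (P : Set G) ⊔ N = ⊤ := Sylow.normalizer_sup_eq_top' Q hPN
  obtain ⟨d, hd1, hd2⟩ := normalizer_card_of_prime_degree (G := G) (Ω := Ω) 11 h11 P hPcard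
  have hmod : (Subgroup.normalizer (P : Set G)).index % 11 = 1 := by
    have h1 : Nat.card (Sylow 11 G) = (Subgroup.normalizer (P : Set G)).index :=
      Sylow.card_eq_index_normalizer Q
    have h2 := card_sylow_modEq_one 11 G
    rw [h1] at h2
    exact h2
  have hmul := Subgroup.card_mul_index (Subgroup.normalizer (P : Set G))
  rw [hd2, hG] at hmul
  have hd5 : d = 5 := arith_M11 d _ hd1 hmul hmod
  rw [hd5] at hd2
  -- the index of N divides 5
  have hNidx : N.index ∣ 5 := by
    have h1 : N.relIndex (Subgroup.normalizer (P : Set G) ⊔ N)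
        = N.relIndex (Subgroup.normalizer (P : Set G)) := Subgroup.relIndex_sup_right _ _
    rw [hfr, Subgroup.relIndex_top_right] at h1
    rw [h1]
    have h2 : N.relIndex (Subgroup.normalizer (P : Set G))
        ∣ P.relIndex (Subgroup.normalizer (P : Set G)) := Subgroup.relIndex_dvd_of_le_left _ hPN
    have h3 : P.relIndex (Subgroup.normalizer (P : Set G)) = 5 := by
      have h4 := Subgroup.card_mul_index (P.subgroupOf (Subgroup.normalizer (P : Set G)))
      rw [Nat.card_congr (Subgroup.subgroupOfEquivOfLe Subgroup.le_normalizer).toEquiv, hPcard,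
        hd2] at h4
      have h5 : P.relIndex (Subgroup.normalizer (P : Set G))
          = (P.subgroupOf (Subgroup.normalizer (P : Set G))).index := rfl
      rw [h5]
      omega
    rwa [h3] at h2
  have h5cases : N.index = 1 ∨ N.index = 5 := by
    have := (Nat.dvd_prime (by norm_num : Nat.Prime 5)).1 hNidx
    exact this
  rcases h5cases with h1 | h5
  · exact Subgroup.index_eq_one.1 h1
  exfalso
  have hNcard : Nat.card N = 1584 := by
    have := Subgroup.card_mul_index N
    rw [h5, hG] at this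
    omega
  -- a nontrivial element of N fixing b
  obtain ⟨g0, hg0N, hg0b, hg01⟩ : ∃ g0 ∈ N, g0 • b = b ∧ g0 ≠ 1 := by
    by_contra hcon
    push Not at hcon
    have hst : stabilizer N b = ⊥ := by
      rw [eq_bot_iff]
      intro n hn
      rw [mem_stabilizer_iff] at hn
      rw [Subgroup.mem_bot]
      exact Subtype.ext (hcon n.1 n.2 hn)
    rw [hst, Subgroup.index_bot, hNcard] at hidx11
    omega
  obtain ⟨c, hc⟩ : ∃ c : Ω, g0 • c ≠ c := by
    by_contra hcon
    push Not at hcon
    apply hg01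
    apply eq_of_smul_eq_smul (α := Ω)
    intro x
    rw [hcon x, one_smul]
  have hcb : c ≠ b := by
    rintro rfl
    exact hc hg0b
  have hgcb : g0 • c ≠ b := by
    intro h'
    apply hcb
    have : g0 • c = g0 • b := by rw [h', hg0b]
    exact smul_left_cancel g0 this
  set M : Subgroup G := N ⊓ stabilizer G b with hM
  have hMtr : ∀ x y : Ω, x ≠ b → y ≠ b → x ≠ y → ∃ m ∈ M, m • x = y := by
    intro x y hxb hyb hxy
    obtain ⟨t, ht1, ht2, ht3⟩ := H.exists_map3 hk (a := b) (b := c) (c := g0 • c) (a' := b)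
      (b' := x) (c' := y) hcb.symm hgcb.symm (Ne.symm hc) hxb.symm hyb.symm hxy
    have e0 : t⁻¹ • b = b := by
      conv_lhs => rw [← ht1]
      rw [inv_smul_smul]
    have e1 : t⁻¹ • x = c := by rw [← ht2, inv_smul_smul]
    refine ⟨t * g0 * t⁻¹, Subgroup.mem_inf.2 ⟨hN.conj_mem g0 hg0N t, ?_⟩, ?_⟩
    · rw [mem_stabilizer_iff, mul_smul, mul_smul, e0, hg0b, ht1]
    · rw [mul_smul, mul_smul, e1, ht3]
  have horbM : insert b (orbit M c) = Set.univ := by
    rw [Set.eq_univ_iff_forall]
    intro y
    by_cases hyb : y = b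
    · rw [hyb]; exact Set.mem_insert _ _
    · apply Set.mem_insert_of_mem
      by_cases hyc : c = y
      · rw [← hyc]; exact mem_orbit_self c
      · obtain ⟨m, hm, hmy⟩ := hMtr c y hcb hyb hyc
        exact ⟨⟨m, hm⟩, hmy⟩
  have hbnot : b ∉ orbit M c := by
    rintro ⟨m, hm⟩
    have hmb : (m : G) • b = b := (Subgroup.mem_inf.1 m.2).2
    apply hcb
    have : (m : G) • c = (m : G) • b := by rw [hmb]; exact hm
    exact smul_left_cancel (m : G) this
  have hcardorb : (orbit M c).ncard = 10 := by
    have h1 := Set.ncard_insert_of_notMem hbnot (Set.toFinite _)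
    rw [horbM, Set.ncard_univ, h11] at h1
    omega
  have h10 : 10 ∣ Nat.card M := by
    rw [← hcardorb, ← index_stabilizer]
    exact Subgroup.index_dvd_card _
  have hMN : Nat.card M ∣ Nat.card N := Subgroup.card_dvd_of_le inf_le_left
  rw [hNcard] at hMN
  have := h10.trans hMN
  omega

end Cfsg.Agent.Helper3.SharpFour
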