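import Mathlib
import Cfsg.Agent.Helper3.SharpM11

/-!
# Sharply 5-transitive groups of degree 12 are simple of order 95040
-/

set_option autoImplicit false

namespace Cfsg.Agent.Helper3.SharpFour

open MulAction

variable {G Ω : Type*} [Group G] [MulAction G Ω]

/-- A sharply 5-transitive group of degree 12 is simple of order 95040. -/
theorem SharpK.simple_M12 [Finite Ω] (h : SharpK G Ω 5) (h12 : Nat.card Ω = 12) :
    IsSimpleGroup G ∧ Nat.card G = 95040 := by
  classical
  have hk : 5 ≤ Nat.card Ω := by omega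
  have hG : Nat.card G = 95040 := by rw [h.card_group hk, h12]; decide
  have hfaith := h.faithful hk
  have hfinG : Finite G := Nat.finite_of_card_ne_zero (by rw [hG]; norm_num)
  have htr5 := h.trans
  have htr2 : IsMultiplyPretransitive G Ω 2 :=
    isMultiplyPretransitive_of_le (n := 5) (by norm_num) hk
  rw [is_two_pretransitive_iff] at htr2
  refine ⟨?_, hG⟩
  have hnt : Nontrivial G := by
    rw [← Finite.one_lt_card_iff_nontrivial, hG]; norm_num
  refine { exists_pair_ne := hnt.exists_pair_ne, eq_bot_or_eq_top_of_normal := ?_ }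
  intro N hN
  by_cases hbot : N = ⊥
  · exact Or.inl hbot
  right
  obtain ⟨g, hgN, hg1⟩ : ∃ g ∈ N, g ≠ 1 := by
    by_contra hcon
    push Not at hcon
    exact hbot ((Subgroup.eq_bot_iff_forall _).2 hcon)
  obtain ⟨b, hb⟩ : ∃ b : Ω, g • b ≠ b := by
    by_contra hcon
    push Not at hcon
    apply hg1
    apply eq_of_smul_eq_smul (α := Ω)
    intro x
    rw [hcon x, one_smul]
  -- N is transitive
  have hNtr : ∀ x y : Ω, ∃ n ∈ N, n • x = y := by
    intro x y
    by_cases hxy : x = y
    · exact ⟨1, N.one_mem, by rw [one_smul, hxy]⟩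
    obtain ⟨t, ht1, ht2⟩ := htr2 (Ne.symm hb) hxy
    refine ⟨t * g * t⁻¹, hN.conj_mem g hgN t, ?_⟩
    have e1 : t⁻¹ • x = b := by rw [← ht1, inv_smul_smul]
    rw [mul_smul, mul_smul, e1, ht2]
  -- the point stabilizer is simple
  have hdesc := h.descent hk b
  have hcard11 : Nat.card (SubMulAction.ofStabilizer G b) = 11 := by
    have := SubMulAction.nat_card_ofStabilizer_add_one_eq G b
    omega
  have hsimp : IsSimpleGroup (stabilizer G b) := (hdesc.simple_M11 hcard11).1
  have hKnorm : (N.subgroupOf (stabilizer G b)).Normal := inferInstance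
  rcases hKnorm.eq_bot_or_eq_top with hK | hK
  · -- N is regular: contradiction
    exfalso
    rw [Subgroup.subgroupOf_eq_bot] at hK
    have hreg : ∀ n ∈ N, n • b = b → n = 1 := by
      intro n hn hnb
      have : n ∈ N ⊓ stabilizer G b := Subgroup.mem_inf.2 ⟨hn, hnb⟩
      rw [hK.eq_bot] at this
      exact Subgroup.mem_bot.1 this
    have hconj : ∀ n1 ∈ N, ∀ n2 ∈ N, n1 ≠ 1 → n2 ≠ 1 → orderOf n1 = orderOf n2 := by
      intro n1 hn1 n2 hn2 h1 h2
      have hb1 : b ≠ n1 • b := fun h' => h1 (hreg n1 hn1 h'.symm)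
      have hb2 : b ≠ n2 • b := fun h' => h2 (hreg n2 hn2 h'.symm)
      obtain ⟨t, ht1, ht2⟩ := htr2 hb1 hb2
      have e0 : t⁻¹ • b = b := by
        conv_lhs => rw [← ht1]
        rw [inv_smul_smul]
      have hfix : n2⁻¹ * (t * n1 * t⁻¹) = 1 := by
        apply hreg _ (N.mul_mem (N.inv_mem hn2) (hN.conj_mem n1 hn1 t))
        rw [mul_smul, mul_smul, mul_smul, e0, ht2, inv_smul_smul]
      have heq : t * n1 * t⁻¹ = n2 := by
        have := congrArg (fun z => n2 * z) hfix
        simpa using this
      rw [← heq]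
      exact ((MulAut.conj t).orderOf_eq n1).symm
    have hst : stabilizer N b = ⊥ := by
      rw [eq_bot_iff]
      intro n hn
      rw [mem_stabilizer_iff] at hn
      rw [Subgroup.mem_bot]
      exact Subtype.ext (hreg n.1 n.2 hn)
    have horb : orbit N b = Set.univ := by
      rw [Set.eq_univ_iff_forall]
      intro y
      obtain ⟨n, hn, hny⟩ := hNtr b y
      exact ⟨⟨n, hn⟩, hny⟩
    have hNcard : Nat.card N = 12 := by
      have := index_stabilizer N b
      rw [hst, Subgroup.index_bot, horb, Set.ncard_univ, h12] at this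
      exact this
    have hp2 : Fact (Nat.Prime 2) := ⟨by norm_num⟩
    have hp3 : Fact (Nat.Prime 3) := ⟨by norm_num⟩
    obtain ⟨x2, hx2⟩ := exists_prime_orderOf_dvd_card' (G := N) 2 (by rw [hNcard]; norm_num)
    obtain ⟨x3, hx3⟩ := exists_prime_orderOf_dvd_card' (G := N) 3 (by rw [hNcard]; norm_num)
    have h2 : orderOf (x2 : G) = 2 := by rw [Subgroup.orderOf_coe, hx2]
    have h3 : orderOf (x3 : G) = 3 := by rw [Subgroup.orderOf_coe, hx3]
    have hne2 : (x2 : G) ≠ 1 := by
      intro h'
      rw [h', orderOf_one] at h2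
      omega
    have hne3 : (x3 : G) ≠ 1 := by
      intro h'
      rw [h', orderOf_one] at h3
      omega
    have := hconj x2 x2.2 x3 x3.2 hne2 hne3
    omega
  · -- N contains the point stabilizer
    rw [Subgroup.subgroupOf_eq_top] at hK
    rw [eq_top_iff]
    intro g' _
    obtain ⟨n, hn, hny⟩ := hNtr b (g' • b)
    have hmem : n⁻¹ * g' ∈ stabilizer G b := by
      rw [mem_stabilizer_iff, mul_smul, ← hny, inv_smul_smul]
    have h1 := hK hmem
    have h2 := N.mul_mem hn h1
    simpa using h2

end Cfsg.Agent.Helper3.SharpFour
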