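import Mathlib
import Cfsg.Prelude.Def_Balance
import Cfsg.Agent.Helper2.GenHyper

/-!
# Reduction of S1294 to the solvable signalizer functor theorem (S0217)

`SSFT G p` is the frozen statement of S0217 for the group `G` and the prime `p`, taken as a
hypothesis. From it, `main` derives the statement of S1294: an equivariant balanced solvable
`p'`-valued functor on the elements of order `p` with `m_p(C_G(a)) ≥ 3` is trivial when
`O_{p'}(G) = 1` and the reduced rank-2 commuting graph is connected.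
-/

set_option autoImplicit false

namespace Cfsg.Agent.Helper3.SigGraph

open Cfsg

variable {G : Type*} [Group G]

/-- The elements on which the functor is defined: order `p` and `m_p(C_G(a)) ≥ 3`. -/
def Good (p : ℕ) (a : G) : Prop :=
  orderOf a = p ∧ ¬ Cfsg.PRankLE p 2 ↥(Subgroup.centralizer ({a} : Set G))

/-- The join of the values of `θ` on the non-identity elements of `A`. -/
def W (θ : G → Subgroup G) (A : Subgroup G) : Subgroup G :=
  ⨆ a : {a : G // a ∈ A ∧ a ≠ 1}, θ a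

/-- The statement of the solvable signalizer functor theorem (S0217) for `G` and `p`. -/
def SSFT (G : Type*) [Group G] (p : ℕ) : Prop :=
  ∀ (A : Subgroup G), (∀ a ∈ A, ∀ b ∈ A, a * b = b * a) → (∀ a ∈ A, a ^ p = 1) →
    p ^ 3 ≤ Nat.card A → ∀ θ : G → Subgroup G,
    (∀ a ∈ A, a ≠ 1 → θ a ≤ Subgroup.centralizer {a}) →
    (∀ a ∈ A, a ≠ 1 → ¬ p ∣ Nat.card (θ a)) →
    (∀ a ∈ A, a ≠ 1 → ∀ b ∈ A, ∀ x ∈ θ a, b * x * b⁻¹ ∈ θ a) →
    (∀ a ∈ A, a ≠ 1 → Group.IsSolvable (θ a)) →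
    (∀ a ∈ A, a ≠ 1 → ∀ b ∈ A, b ≠ 1 → θ a ⊓ Subgroup.centralizer {b} ≤ θ b) →
    ¬ p ∣ Nat.card ↥(⨆ a : {a : G // a ∈ A ∧ a ≠ 1}, θ a) ∧
      ∀ a ∈ A, a ≠ 1 →
        (⨆ b : {a : G // a ∈ A ∧ a ≠ 1}, θ b) ⊓ Subgroup.centralizer {a} = θ a

/-- Elementary abelian of rank at least 3. -/
def EA3 (p : ℕ) (A : Subgroup G) : Prop :=
  (∀ a ∈ A, ∀ b ∈ A, a * b = b * a) ∧ (∀ a ∈ A, a ^ p = 1) ∧ p ^ 3 ≤ Nat.card A

theorem comm_sup {A B : Subgroup G} (hA : ∀ a ∈ A, ∀ b ∈ A, a * b = b * a)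
    (hB : ∀ a ∈ B, ∀ b ∈ B, a * b = b * a) (hAB : ∀ a ∈ A, ∀ b ∈ B, a * b = b * a) :
    ∀ x ∈ A ⊔ B, ∀ y ∈ A ⊔ B, x * y = y * x := by
  have h1 : A ⊔ B ≤ Subgroup.centralizer (A : Set G) := by
    apply sup_le
    · intro a ha
      rw [Subgroup.mem_centralizer_iff]
      intro x hx
      exact hA x hx a ha
    · intro b hb
      rw [Subgroup.mem_centralizer_iff]
      intro x hx
      exact hAB x hx b hb
  have h2 : A ⊔ B ≤ Subgroup.centralizer (B : Set G) := by
    apply sup_le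
    · intro a ha
      rw [Subgroup.mem_centralizer_iff]
      intro x hx
      exact (hAB a ha x hx).symm
    · intro b hb
      rw [Subgroup.mem_centralizer_iff]
      intro x hx
      exact hB x hx b hb
  have h3 : A ⊔ B ≤ Subgroup.centralizer ((A ⊔ B : Subgroup G) : Set G) := by
    apply sup_le
    · rw [Subgroup.le_centralizer_iff]; exact h1
    · rw [Subgroup.le_centralizer_iff]; exact h2
  intro x hx y hy
  exact Subgroup.mem_centralizer_iff.mp (h3 hy) x hx

theorem exp_sup {p : ℕ} {A B : Subgroup G}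
    (hcomm : ∀ x ∈ A ⊔ B, ∀ y ∈ A ⊔ B, x * y = y * x)
    (hA : ∀ a ∈ A, a ^ p = 1) (hB : ∀ b ∈ B, b ^ p = 1) : ∀ x ∈ A ⊔ B, x ^ p = 1 := by
  let T : Subgroup G :=
    { carrier := {x | x ∈ A ⊔ B ∧ x ^ p = 1}
      mul_mem' := by
        rintro a b ⟨ha, ha'⟩ ⟨hb, hb'⟩
        refine ⟨mul_mem ha hb, ?_⟩
        have hc : Commute a b := hcomm a ha b hb
        rw [hc.mul_pow, ha', hb', one_mul]
      one_mem' := ⟨one_mem _, one_pow _⟩
      inv_mem' := by
        rintro a ⟨ha, ha'⟩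
        exact ⟨inv_mem ha, by rw [inv_pow, ha', inv_one]⟩ }
  have hT : A ⊔ B ≤ T :=
    sup_le (fun a ha => ⟨Subgroup.mem_sup_left ha, hA a ha⟩)
      (fun b hb => ⟨Subgroup.mem_sup_right hb, hB b hb⟩)
  intro x hx
  exact (hT hx).2

/-- A subgroup containing an elementary abelian subgroup of rank at least 3 has `p`-rank `> 2`. -/
theorem not_rank_of_le {p : ℕ} [hp : Fact p.Prime] [Finite G] {A C : Subgroup G} (hA : EA3 p A)
    (hAC : A ≤ C) : ¬ Cfsg.PRankLE p 2 ↥C := by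
  intro h
  have hcomm : IsMulCommutative ↥(A.subgroupOf C) := by
    refine ⟨⟨fun x y => ?_⟩⟩
    apply Subtype.ext
    apply Subtype.ext
    have := hA.1 _ (Subgroup.mem_subgroupOf.mp x.2) _ (Subgroup.mem_subgroupOf.mp y.2)
    simpa using this
  have hexp : ∀ a ∈ A.subgroupOf C, a ^ p = 1 := by
    intro a ha
    apply Subtype.ext
    have := hA.2.1 _ (Subgroup.mem_subgroupOf.mp ha)
    simpa using this
  have h1 := h (A.subgroupOf C) hcomm hexp
  rw [Nat.card_congr (Subgroup.subgroupOfEquivOfLe hAC).toEquiv] at h1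
  have h2 : p ^ 2 < p ^ 3 := Nat.pow_lt_pow_right hp.out.one_lt (by norm_num)
  have := hA.2.2
  omega

theorem good_of_mem {p : ℕ} [hp : Fact p.Prime] [Finite G] {A : Subgroup G} (hA : EA3 p A)
    {a : G} (ha : a ∈ A) (ha1 : a ≠ 1) : Good p a := by
  refine ⟨orderOf_eq_prime (hA.2.1 a ha) ha1, ?_⟩
  apply not_rank_of_le hA
  intro x hx
  rw [Subgroup.mem_centralizer_singleton_iff]
  exact hA.1 x hx a ha

theorem vertex_of_le {p : ℕ} [hp : Fact p.Prime] [Finite G] {A E : Subgroup G} (hA : EA3 p A)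
    (hEA : E ≤ A) (hE2 : p ^ 2 ≤ Nat.card E) : Cfsg.IsRankGraphVertex p 2 E := by
  refine ⟨⟨⟨⟨fun x y => ?_⟩⟩, fun a ha => hA.2.1 a (hEA ha)⟩, hE2, ?_⟩
  · apply Subtype.ext
    have := hA.1 _ (hEA x.2) _ (hEA y.2)
    simpa using this
  · apply not_rank_of_le hA
    intro x hx
    rw [Subgroup.mem_centralizer_iff]
    intro e he
    exact hA.1 e (hEA he) x hx

/-- If `C` has `p`-rank `> 2` and `E` is elementary abelian and centralized by `C`, then `E` lies in
an elementary abelian subgroup of rank at least 3. -/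
theorem exists_ea3 {p : ℕ} [hp : Fact p.Prime] [Finite G] {C E : Subgroup G}
    (hEc : ∀ a ∈ E, ∀ b ∈ E, a * b = b * a) (hEe : ∀ a ∈ E, a ^ p = 1)
    (hEC : ∀ e ∈ E, ∀ c ∈ C, e * c = c * e) (hr : ¬ Cfsg.PRankLE p 2 ↥C) :
    ∃ A : Subgroup G, EA3 p A ∧ E ≤ A := by
  unfold Cfsg.PRankLE at hr
  push Not at hr
  obtain ⟨B, hBc, hBe, hBcard⟩ := hr
  set B' : Subgroup G := B.map C.subtype with hB'
  have hB'c : ∀ a ∈ B', ∀ b ∈ B', a * b = b * a := by
    rintro _ ⟨a, ha, rfl⟩ _ ⟨b, hb, rfl⟩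
    have := hBc.is_comm.comm ⟨a, ha⟩ ⟨b, hb⟩
    have h2 := congrArg (fun z : ↥B => ((z : ↥C) : G)) this
    simpa using h2
  have hB'e : ∀ a ∈ B', a ^ p = 1 := by
    rintro _ ⟨a, ha, rfl⟩
    have := hBe a ha
    have h2 := congrArg (fun z : ↥C => (z : G)) this
    simpa using h2
  have hB'C : B' ≤ C := by
    rintro _ ⟨a, _, rfl⟩
    exact a.2
  have hcard : Nat.card B' = Nat.card B :=
    Subgroup.card_map_of_injective (Subgroup.subtype_injective C)
  have hc : ∀ x ∈ E ⊔ B', ∀ y ∈ E ⊔ B', x * y = y * x :=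
    comm_sup hEc hB'c (fun e he b hb => hEC e he b (hB'C hb))
  have he : ∀ x ∈ E ⊔ B', x ^ p = 1 := exp_sup hc hEe hB'e
  refine ⟨E ⊔ B', ⟨hc, he, ?_⟩, le_sup_left⟩
  have hpg : IsPGroup p ↥(E ⊔ B' : Subgroup G) := by
    intro x
    refine ⟨1, ?_⟩
    rw [pow_one]
    apply Subtype.ext
    rw [Subgroup.coe_pow, Subgroup.coe_one]
    exact he x x.2
  obtain ⟨k, hk⟩ := IsPGroup.iff_card.mp hpg
  have h1 : Nat.card B' ≤ Nat.card ↥(E ⊔ B' : Subgroup G) :=
    Nat.le_of_dvd Nat.card_pos (Subgroup.card_dvd_of_le le_sup_right)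
  rw [hk]
  have h2 : p ^ 2 < p ^ k := by
    rw [← hk]
    omega
  have h3 : 2 < k := (Nat.pow_lt_pow_iff_right hp.out.one_lt).mp h2
  exact Nat.pow_le_pow_right hp.out.pos h3

theorem exists_ea3_of_good {p : ℕ} [hp : Fact p.Prime] [Finite G] {a : G} (ha : Good p a) :
    ∃ A : Subgroup G, EA3 p A ∧ a ∈ A := by
  have hap : a ^ p = 1 := by
    have := pow_orderOf_eq_one a
    rwa [ha.1] at this
  have hz : ∀ x ∈ Subgroup.zpowers a, ∀ c : G, a * c = c * a → x * c = c * x := by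
    intro x hx c hc
    obtain ⟨k, rfl⟩ := Subgroup.mem_zpowers_iff.mp hx
    have : Commute a c := hc
    exact (this.zpow_left k)
  obtain ⟨A, hA, hle⟩ := exists_ea3 (p := p) (C := Subgroup.centralizer ({a} : Set G))
    (E := Subgroup.zpowers a)
    (by
      intro x hx y hy
      apply hz x hx y
      exact (hz y hy a rfl).symm)
    (by
      intro x hx
      obtain ⟨k, rfl⟩ := Subgroup.mem_zpowers_iff.mp hx
      rw [← zpow_natCast, ← zpow_mul, mul_comm, zpow_mul, zpow_natCast, hap, one_zpow])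
    (by
      intro e he c hc
      apply hz e he c
      exact (Subgroup.mem_centralizer_singleton_iff.mp hc).symm)
    ha.2
  exact ⟨A, hA, hle (Subgroup.mem_zpowers a)⟩

theorem exists_ea3_of_vertex {p : ℕ} [hp : Fact p.Prime] [Finite G] {E : Subgroup G}
    (hE : Cfsg.IsRankGraphVertex p 2 E) : ∃ A : Subgroup G, EA3 p A ∧ E ≤ A := by
  apply exists_ea3 (C := Subgroup.centralizer (E : Set G)) _ hE.1.2 _ hE.2.2
  · intro a ha b hb
    have := hE.1.1.is_comm.comm ⟨a, ha⟩ ⟨b, hb⟩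
    exact congrArg Subtype.val this
  · intro e he c hc
    exact Subgroup.mem_centralizer_iff.mp hc e he

section main

variable [Finite G] {p : ℕ} [hp : Fact p.Prime] (hS : SSFT G p) (θ : G → Subgroup G)
  (hC : ∀ a : G, Good p a → θ a ≤ Subgroup.centralizer ({a} : Set G) ∧
    ¬ p ∣ Nat.card ↥(θ a) ∧ Group.IsSolvable ↥(θ a))
  (heq : ∀ a g : G, Good p a → θ (g * a * g⁻¹) = (θ a).map (MulAut.conj g).toMonoidHom)
  (hbal : ∀ a b : G, Good p a → Good p b → a * b = b * a →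
    θ a ⊓ Subgroup.centralizer {b} ≤ θ b)

include hS hC heq hbal

theorem ssft_apply {A : Subgroup G} (hA : EA3 p A) :
    ¬ p ∣ Nat.card ↥(W θ A) ∧
      ∀ a ∈ A, a ≠ 1 → W θ A ⊓ Subgroup.centralizer {a} = θ a := by
  unfold W
  apply hS A hA.1 hA.2.1 hA.2.2 θ
  · intro a ha ha1
    exact (hC a (good_of_mem hA ha ha1)).1
  · intro a ha ha1
    exact (hC a (good_of_mem hA ha ha1)).2.1
  · intro a ha ha1 b hb x hx
    have h1 := heq a b (good_of_mem hA ha ha1)
    have hba : b * a * b⁻¹ = a := by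
      rw [hA.1 b hb a ha]; group
    rw [hba] at h1
    rw [h1]
    exact ⟨x, hx, rfl⟩
  · intro a ha ha1
    exact (hC a (good_of_mem hA ha ha1)).2.2
  · intro a ha ha1 b hb hb1
    exact hbal a b (good_of_mem hA ha ha1) (good_of_mem hA hb hb1) (hA.1 a ha b hb)

omit hS hC hbal [Finite G] hp in
theorem W_map {E : Subgroup G} (hgood : ∀ e ∈ E, e ≠ 1 → Good p e) (g : G) :
    W θ (E.map (MulAut.conj g).toMonoidHom) = (W θ E).map (MulAut.conj g).toMonoidHom := by
  apply le_antisymm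
  · apply iSup_le
    rintro ⟨x, ⟨e, he, rfl⟩, hx1⟩
    have he1 : e ≠ 1 := by
      rintro rfl
      exact hx1 (map_one _)
    have h1 := heq e g (hgood e he he1)
    show θ ((MulAut.conj g).toMonoidHom e) ≤ _
    rw [show (MulAut.conj g).toMonoidHom e = g * e * g⁻¹ from rfl, h1]
    exact Subgroup.map_mono
      (le_iSup (fun a : {a : G // a ∈ E ∧ a ≠ 1} => θ a) ⟨e, he, he1⟩)
  · unfold W
    rw [Subgroup.map_iSup]
    apply iSup_le
    rintro ⟨e, he, he1⟩
    rw [← heq e g (hgood e he he1)]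
    have hne : g * e * g⁻¹ ≠ 1 := by
      intro h
      apply he1
      have : e = g⁻¹ * (g * e * g⁻¹) * g := by group
      rw [this, h]; group
    exact le_iSup
      (fun a : {a : G // a ∈ E.map (MulAut.conj g).toMonoidHom ∧ a ≠ 1} => θ a)
      ⟨g * e * g⁻¹, ⟨e, he, rfl⟩, hne⟩

/-- Coprime generation: `W` of a noncyclic subgroup of `A` is all of `W A`. -/
theorem W_eq_of_le {A E : Subgroup G} (hA : EA3 p A) (hEA : E ≤ A)
    (hE2 : p ^ 2 ≤ Nat.card E) : W θ E = W θ A := by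
  obtain ⟨hp', hfix⟩ := ssft_apply hS θ hC heq hbal hA
  apply le_antisymm
  · apply iSup_le
    rintro ⟨e, he, he1⟩
    exact le_iSup (fun a : {a : G // a ∈ A ∧ a ≠ 1} => θ a) ⟨e, hEA he, he1⟩
  · have hEel : Cfsg.IsElementaryAbelian p E := (vertex_of_le hA hEA hE2).1
    have hnorm : E ≤ Subgroup.normalizer ((W θ A : Subgroup G) : Set G) := by
      apply Cfsg.Agent.Helper2.le_normalizer_of_conj_mem
      intro b hb x hx
      have hmap : (W θ A).map (MulAut.conj b).toMonoidHom ≤ W θ A := by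
        unfold W
        rw [Subgroup.map_iSup]
        apply iSup_le
        rintro ⟨a, ha, ha1⟩
        have h1 := heq a b (good_of_mem hA ha ha1)
        have hba : b * a * b⁻¹ = a := by
          rw [hA.1 b (hEA hb) a ha]; group
        rw [hba] at h1
        rw [← h1]
        exact le_iSup (fun a : {a : G // a ∈ A ∧ a ≠ 1} => θ a) ⟨a, ha, ha1⟩
      exact hmap ⟨x, hx, rfl⟩
    have h := Cfsg.Agent.Helper2.le_iSup_hyperplane_centralizers p _ E (W θ A) rfl hEel hp' hnorm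
    refine h.trans ?_
    apply iSup_le
    rintro ⟨B, hBE, hidx⟩
    obtain ⟨e, heB, he1⟩ : ∃ e ∈ B, e ≠ 1 := by
      by_contra hno
      push Not at hno
      have hB : B = ⊥ := (Subgroup.eq_bot_iff_forall B).mpr hno
      have h1 := Cfsg.Agent.Helper1.relIndex_mul_card_of_le hBE
      rw [hB, Subgroup.card_bot, mul_one] at h1
      rw [hB] at hidx
      have h2 : p < p ^ 2 := by
        have := Nat.pow_lt_pow_right hp.out.one_lt (show 1 < 2 by norm_num)
        simpa using this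
      omega
    have h1 : W θ A ⊓ Subgroup.centralizer (B : Set G) ≤
        W θ A ⊓ Subgroup.centralizer {e} :=
      inf_le_inf_left _ (Subgroup.centralizer_le (by simpa using heB))
    rw [hfix e (hEA (hBE heB)) he1] at h1
    exact h1.trans (le_iSup (fun a : {a : G // a ∈ E ∧ a ≠ 1} => θ a) ⟨e, hBE heB, he1⟩)

theorem W_eq_of_adj {E E' : Subgroup G} (hE : Cfsg.IsRankGraphVertex p 2 E)
    (hE' : Cfsg.IsRankGraphVertex p 2 E') (hcomm : ∀ a ∈ E, ∀ b ∈ E', a * b = b * a) :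
    W θ E = W θ E' := by
  have hEc : ∀ a ∈ E, ∀ b ∈ E, a * b = b * a := by
    intro a ha b hb
    exact congrArg Subtype.val (hE.1.1.is_comm.comm ⟨a, ha⟩ ⟨b, hb⟩)
  have hE'c : ∀ a ∈ E', ∀ b ∈ E', a * b = b * a := by
    intro a ha b hb
    exact congrArg Subtype.val (hE'.1.1.is_comm.comm ⟨a, ha⟩ ⟨b, hb⟩)
  have hc := comm_sup hEc hE'c hcomm
  have he := exp_sup hc hE.1.2 hE'.1.2
  by_cases h3 : p ^ 3 ≤ Nat.card ↥(E ⊔ E' : Subgroup G)
  · have hD : EA3 p (E ⊔ E') := ⟨hc, he, h3⟩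
    rw [W_eq_of_le hS θ hC heq hbal hD le_sup_left hE.2.1,
      W_eq_of_le hS θ hC heq hbal hD le_sup_right hE'.2.1]
  · have hpg : IsPGroup p ↥(E ⊔ E' : Subgroup G) := by
      intro x
      refine ⟨1, ?_⟩
      rw [pow_one]
      apply Subtype.ext
      rw [Subgroup.coe_pow, Subgroup.coe_one]
      exact he x x.2
    obtain ⟨k, hk⟩ := IsPGroup.iff_card.mp hpg
    have hk3 : k < 3 := by
      rw [hk, not_le] at h3
      exact (Nat.pow_lt_pow_iff_right hp.out.one_lt).mp h3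
    have hle : Nat.card ↥(E ⊔ E' : Subgroup G) ≤ p ^ 2 := by
      rw [hk]
      exact Nat.pow_le_pow_right hp.out.pos (by omega)
    have h1 : E = E ⊔ E' := Subgroup.eq_of_le_of_card_ge le_sup_left (hle.trans hE.2.1)
    have h2 : E' = E ⊔ E' := Subgroup.eq_of_le_of_card_ge le_sup_right (hle.trans hE'.2.1)
    rw [h1]
    conv_rhs => rw [h2]

theorem W_eq_of_chain {E E' : Subgroup G}
    (h : Relation.ReflTransGen
      (fun A B : Subgroup G => Cfsg.IsRankGraphVertex p 2 A ∧ Cfsg.IsRankGraphVertex p 2 B ∧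
        ∀ a ∈ A, ∀ b ∈ B, a * b = b * a) E E') : W θ E = W θ E' := by
  induction h with
  | refl => rfl
  | tail _ hstep ih =>
    exact ih.trans (W_eq_of_adj hS θ hC heq hbal hstep.1 hstep.2.1 hstep.2.2)

omit hS hC heq hbal [Finite G] hp in
theorem ea3_map {A : Subgroup G} (hA : EA3 p A) (g : G) :
    EA3 p (A.map (MulAut.conj g).toMonoidHom) := by
  refine ⟨?_, ?_, ?_⟩
  · rintro _ ⟨a, ha, rfl⟩ _ ⟨b, hb, rfl⟩
    rw [← map_mul, ← map_mul, hA.1 a ha b hb]
  · rintro _ ⟨a, ha, rfl⟩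
    rw [← map_pow, hA.2.1 a ha, map_one]
  · rw [Subgroup.card_map_of_injective (MulAut.conj g).injective]
    exact hA.2.2

/-- The statement of S1294, from the statement of S0217. -/
theorem main (hO : Cfsg.pPrimeCore p G = ⊥) (hconn : Cfsg.IsRankGraphConnected p 2 G)
    (a : G) (ha : Good p a) : θ a = ⊥ := by
  obtain ⟨A, hA, haA⟩ := exists_ea3_of_good ha
  have ha1 : a ≠ 1 := by
    rintro rfl
    have := ha.1
    rw [orderOf_one] at this
    exact hp.out.one_lt.ne this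
  obtain ⟨hp', hfix⟩ := ssft_apply hS θ hC heq hbal hA
  have h23 : p ^ 2 ≤ p ^ 3 := Nat.pow_le_pow_right hp.out.pos (by norm_num)
  have hAv : Cfsg.IsRankGraphVertex p 2 A := vertex_of_le hA le_rfl (h23.trans hA.2.2)
  have hnormal : (W θ A).Normal := by
    constructor
    intro x hx g
    have hAg : Cfsg.IsRankGraphVertex p 2 (A.map (MulAut.conj g).toMonoidHom) := by
      apply vertex_of_le (ea3_map hA g) le_rfl
      rw [Subgroup.card_map_of_injective (MulAut.conj g).injective]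
      exact h23.trans hA.2.2
    have h1 : W θ (A.map (MulAut.conj g).toMonoidHom) = W θ A :=
      W_eq_of_chain hS θ hC heq hbal (hconn _ _ hAg hAv)
    rw [W_map θ heq (fun e he he1 => good_of_mem hA he he1)] at h1
    rw [← h1]
    exact ⟨x, hx, rfl⟩
  have hle : W θ A ≤ Cfsg.pPrimeCore p G := by
    apply le_sSup
    refine ⟨hnormal, ?_⟩
    exact ((Nat.Prime.coprime_iff_not_dvd hp.out).mpr hp').symm
  rw [hO] at hle
  rw [← hfix a haA ha1, eq_bot_iff]
  exact inf_le_left.trans hle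

end main

end Cfsg.Agent.Helper3.SigGraph
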