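import Mathlib
import Cfsg.Agent.Helper3.SigGraph
import Cfsg.Agent.Helper2.SolvBalance
import Cfsg.Agent.Helper2.Standard1
import Cfsg.Agent.Helper2.ExtLayer4
import Cfsg.Agent.Helper2.CharPLocal
import Cfsg.Agent.Helper2.PConstrained3

/-!
# Reduction of S1295 to the solvable signalizer functor theorem (S0217)

With `θ a = O_{p'}(C_G(a))`, balance follows from the triviality of the `p`-layers
(helper2's `coreOf_inf_centralizer_le`), so `SigGraph.main` gives `O_{p'}(C_G(a)) = 1`, and then
`F*(C_G(a)) = O_p(C_G(a))`.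
-/

set_option autoImplicit false

namespace Cfsg.Agent.Helper3.SigGraph

open Cfsg Cfsg.Agent.Helper1 Cfsg.Agent.Helper2

variable {G : Type*} [Group G] [Finite G] {p : ℕ} [hp : Fact p.Prime]

/-- The statement of S1295, from the statement of S0217. -/
theorem main2 (hS : SSFT G p) (hO : Cfsg.pPrimeCore p G = ⊥)
    (hconn : Cfsg.IsRankGraphConnected p 2 G)
    (hL : ∀ a : G, Good p a →
      Cfsg.pLayer p ↥(Subgroup.centralizer ({a} : Set G)) = ⊥ ∧
        Group.IsSolvable ↥(Cfsg.centralizerPPrimeCore p a))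
    (a : G) (ha : Good p a) :
    Cfsg.generalizedFittingSubgroup ↥(Subgroup.centralizer ({a} : Set G)) =
      Cfsg.pCore p ↥(Subgroup.centralizer ({a} : Set G)) := by
  have hpg : ∀ x : G, Good p x → IsPGroup p ↥(Subgroup.zpowers x) := by
    intro x hx
    apply IsPGroup.of_card (n := 1)
    rw [Nat.card_zpowers, hx.1, pow_one]
  have hθ : Cfsg.centralizerPPrimeCore p a = ⊥ := by
    apply main hS (fun a => Cfsg.centralizerPPrimeCore p a) _ _ _ hO hconn a ha
    · intro x hx
      refine ⟨coreOf_le p _, ?_, (hL x hx).2⟩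
      have h1 := card_coreOf_coprime p (Subgroup.centralizer ({x} : Set G))
      exact (Nat.Prime.coprime_iff_not_dvd hp.out).mp h1.symm
    · intro x g hx
      show coreOf p (Subgroup.centralizer ({g * x * g⁻¹} : Set G)) = _
      rw [← cj_centralizer_singleton, coreOf_cj]
      rfl
    · intro x y hx hy hxy
      exact coreOf_inf_centralizer_le p x y hxy (hpg x hx) (hL y hy).1
  set C := Subgroup.centralizer ({a} : Set G) with hC
  have hOC : Cfsg.pPrimeCore p ↥C = ⊥ := by
    unfold Cfsg.centralizerPPrimeCore at hθ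
    exact (Subgroup.map_eq_bot_iff_of_injective _ (Subgroup.subtype_injective _)).mp hθ
  have hE : Cfsg.layer ↥C = ⊥ := by
    have h1 := (pLayer_eq_bot_iff_layer p).mp (hL a ha).1
    have h2 := map_layer_le (QuotientGroup.mk' (Cfsg.pPrimeCore p ↥C))
      (QuotientGroup.mk'_surjective _)
    rw [h1, le_bot_iff, Subgroup.map_eq_bot_iff, QuotientGroup.ker_mk', hOC] at h2
    exact le_bot_iff.mp h2
  rw [generalizedFittingSubgroup_eq_pCore_iff]
  exact hasCharP_of_layer_eq_bot p hOC hE

end Cfsg.Agent.Helper3.SigGraph
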