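import Mathlib

set_option autoImplicit false

namespace Cfsg.Agent.Helper3.SingerA

open scoped BigOperators
open Module

universe u v

section irreducible

variable {F : Type v} [Field F] {V : Type u} [AddCommGroup V] [Module F V]

/-- The subalgebra generated by the (commuting) elements of `A`. -/
def alg (A : Subgroup (Module.End F V)ˣ) : Subalgebra F (Module.End F V) :=
  Algebra.adjoin F {b | ∃ a ∈ A, ((a : (Module.End F V)ˣ) : Module.End F V) = b}

theorem coe_mem_alg (A : Subgroup (Module.End F V)ˣ) {a : (Module.End F V)ˣ} (ha : a ∈ A) :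
    ((a : (Module.End F V)ˣ) : Module.End F V) ∈ alg A :=
  Algebra.subset_adjoin ⟨a, ha, rfl⟩

theorem alg_commute (A : Subgroup (Module.End F V)ˣ) (hcomm : ∀ a ∈ A, ∀ b ∈ A, a * b = b * a)
    {b : Module.End F V} (hb : b ∈ alg A) {a : (Module.End F V)ˣ} (ha : a ∈ A) :
    (a : Module.End F V) * b = b * a := by
  have hle : alg A ≤ Subalgebra.centralizer F
      {b | ∃ a ∈ A, ((a : (Module.End F V)ˣ) : Module.End F V) = b} := by
    apply Algebra.adjoin_le
    rintro _ ⟨x, hx, rfl⟩
    rw [SetLike.mem_coe, Subalgebra.mem_centralizer_iff]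
    rintro _ ⟨y, hy, rfl⟩
    rw [← Units.val_mul, ← Units.val_mul, hcomm y hy x hx]
  exact (Subalgebra.mem_centralizer_iff F).mp (hle hb) _ ⟨a, ha, rfl⟩

/-- `A`-irreducibility of `V`. -/
def Irred (A : Subgroup (Module.End F V)ˣ) : Prop :=
  ∀ W : Submodule F V,
    (∀ a ∈ A, ∀ w ∈ W, ((a : (Module.End F V)ˣ) : Module.End F V) w ∈ W) → W = ⊥ ∨ W = ⊤

theorem alg_injective (A : Subgroup (Module.End F V)ˣ)
    (hcomm : ∀ a ∈ A, ∀ b ∈ A, a * b = b * a) (hirr : Irred A)
    {b : Module.End F V} (hb : b ∈ alg A) (hb0 : b ≠ 0) : Function.Injective b := by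
  have hinv : ∀ a ∈ A, ∀ w ∈ LinearMap.ker b,
      ((a : (Module.End F V)ˣ) : Module.End F V) w ∈ LinearMap.ker b := by
    intro a ha w hw
    rw [LinearMap.mem_ker] at hw ⊢
    rw [← Module.End.mul_apply, ← alg_commute A hcomm hb ha, Module.End.mul_apply, hw, map_zero]
  rcases hirr _ hinv with h | h
  · exact LinearMap.ker_eq_bot.mp h
  · exfalso
    apply hb0
    ext v
    have : v ∈ LinearMap.ker b := by rw [h]; trivial
    simpa using this

theorem alg_apply_injective (A : Subgroup (Module.End F V)ˣ)
    (hcomm : ∀ a ∈ A, ∀ b ∈ A, a * b = b * a) (hirr : Irred A) {v : V} (hv : v ≠ 0)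
    {b₁ b₂ : Module.End F V} (h₁ : b₁ ∈ alg A) (h₂ : b₂ ∈ alg A) (h : b₁ v = b₂ v) : b₁ = b₂ := by
  by_contra hne
  have hsub : b₁ - b₂ ∈ alg A := (alg A).sub_mem h₁ h₂
  have hinj := alg_injective A hcomm hirr hsub (sub_ne_zero.mpr hne)
  apply hv
  apply hinj
  rw [map_zero, LinearMap.sub_apply, h, sub_self]

theorem unit_apply_ne_zero (a : (Module.End F V)ˣ) {v : V} (hv : v ≠ 0) :
    ((a : (Module.End F V)ˣ) : Module.End F V) v ≠ 0 := by
  intro h0
  have : ((a⁻¹ : (Module.End F V)ˣ) : Module.End F V)
      (((a : (Module.End F V)ˣ) : Module.End F V) v) = v := by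
    rw [← Module.End.mul_apply, Units.inv_mul, Module.End.one_apply]
  rw [h0, map_zero] at this
  exact hv this.symm

/-- The orbit map `a ↦ a v` into the nonzero vectors. -/
def orbMap (A : Subgroup (Module.End F V)ˣ) {v : V} (hv : v ≠ 0) : A → {w : V // w ≠ 0} :=
  fun a => ⟨((a : (Module.End F V)ˣ) : Module.End F V) v,
    unit_apply_ne_zero (a : (Module.End F V)ˣ) hv⟩

theorem orbMap_injective (A : Subgroup (Module.End F V)ˣ)
    (hcomm : ∀ a ∈ A, ∀ b ∈ A, a * b = b * a) (hirr : Irred A) {v : V} (hv : v ≠ 0) :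
    Function.Injective (orbMap A hv) := by
  intro a b hab
  have h1 : ((a : (Module.End F V)ˣ) : Module.End F V) v
      = ((b : (Module.End F V)ˣ) : Module.End F V) v := congrArg Subtype.val hab
  have := alg_apply_injective A hcomm hirr hv (coe_mem_alg A a.2) (coe_mem_alg A b.2) h1
  exact Subtype.ext (Units.ext this)

variable [Finite V]

theorem card_nonzero : Nat.card {w : V // w ≠ 0} + 1 = Nat.card V := by
  classical
  have := Fintype.ofFinite V
  rw [Nat.card_eq_fintype_card, Nat.card_eq_fintype_card, Fintype.card_subtype_compl,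
    Fintype.card_subtype_eq]
  have : 0 < Fintype.card V := Fintype.card_pos
  omega

theorem card_add_one_le_of_irred [Nontrivial V] (A : Subgroup (Module.End F V)ˣ)
    (hcomm : ∀ a ∈ A, ∀ b ∈ A, a * b = b * a) (hirr : Irred A) :
    Nat.card A + 1 ≤ Nat.card V := by
  obtain ⟨v, hv⟩ := exists_ne (0 : V)
  have hle := Nat.card_le_card_of_injective _ (orbMap_injective A hcomm hirr hv)
  have := card_nonzero (V := V)
  omega

theorem exists_eq_of_card_eq (A : Subgroup (Module.End F V)ˣ)
    (hcomm : ∀ a ∈ A, ∀ b ∈ A, a * b = b * a) (hirr : Irred A)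
    (hcard : Nat.card A + 1 = Nat.card V) {b : Module.End F V} (hb : b ∈ alg A) (hb0 : b ≠ 0) :
    ∃ a ∈ A, ((a : (Module.End F V)ˣ) : Module.End F V) = b := by
  have hnt : Nontrivial V := by
    by_contra h
    rw [not_nontrivial_iff_subsingleton] at h
    apply hb0
    ext v
    exact Subsingleton.elim _ _
  obtain ⟨v, hv⟩ := exists_ne (0 : V)
  have hbij : Function.Bijective (orbMap A hv) := by
    apply (orbMap_injective A hcomm hirr hv).bijective_of_nat_card_le
    have := card_nonzero (V := V)
    omega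
  have hbv : b v ≠ 0 := by
    intro h0
    apply hv
    apply alg_injective A hcomm hirr hb hb0
    rw [h0, map_zero]
  obtain ⟨a, ha⟩ := hbij.2 ⟨b v, hbv⟩
  refine ⟨a, a.2, ?_⟩
  have h1 : ((a : (Module.End F V)ˣ) : Module.End F V) v = b v := congrArg Subtype.val ha
  exact alg_apply_injective A hcomm hirr hv (coe_mem_alg A a.2) hb h1

theorem card_alg_of_card_eq (A : Subgroup (Module.End F V)ˣ)
    (hcomm : ∀ a ∈ A, ∀ b ∈ A, a * b = b * a) (hirr : Irred A)
    (hcard : Nat.card A + 1 = Nat.card V) : Nat.card (alg A) = Nat.card V := by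
  have hnt : Nontrivial V := by
    by_contra h
    rw [not_nontrivial_iff_subsingleton] at h
    have h1 : Nat.card V = 1 := Nat.card_unique
    have h2 : 0 < Nat.card A := Nat.card_pos
    omega
  obtain ⟨v, hv⟩ := exists_ne (0 : V)
  apply Nat.card_eq_of_bijective (fun b : alg A => (b : Module.End F V) v)
  constructor
  · intro b₁ b₂ h
    exact Subtype.ext (alg_apply_injective A hcomm hirr hv b₁.2 b₂.2 h)
  · intro w
    by_cases hw : w = 0
    · exact ⟨0, by simp [hw]⟩
    · have hbij : Function.Bijective (orbMap A hv) := by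
        apply (orbMap_injective A hcomm hirr hv).bijective_of_nat_card_le
        have := card_nonzero (V := V)
        omega
      obtain ⟨a, ha⟩ := hbij.2 ⟨w, hw⟩
      exact ⟨⟨_, coe_mem_alg A a.2⟩, congrArg Subtype.val ha⟩

end irreducible

section reducible

variable {F : Type v} [Field F] {V : Type u} [AddCommGroup V] [Module F V]

/-- Restriction of the group `A` to an invariant subspace. -/
def resHom (A : Subgroup (Module.End F V)ˣ) (W : Submodule F V)
    (hW : ∀ a ∈ A, ∀ w ∈ W, ((a : (Module.End F V)ˣ) : Module.End F V) w ∈ W) :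
    A →* (Module.End F W)ˣ where
  toFun a :=
    { val := ((a : (Module.End F V)ˣ) : Module.End F V).restrict (hW a a.2)
      inv := (((a : (Module.End F V)ˣ)⁻¹ : (Module.End F V)ˣ) : Module.End F V).restrict
        (hW _ (A.inv_mem a.2))
      val_inv := LinearMap.ext (fun w => Subtype.ext (by
        rw [Module.End.mul_apply, LinearMap.coe_restrict_apply, LinearMap.coe_restrict_apply,
          ← Module.End.mul_apply, Units.mul_inv]
        rfl))
      inv_val := LinearMap.ext (fun w => Subtype.ext (by
        rw [Module.End.mul_apply, LinearMap.coe_restrict_apply, LinearMap.coe_restrict_apply,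
          ← Module.End.mul_apply, Units.inv_mul]
        rfl)) }
  map_one' := Units.ext (LinearMap.ext (fun w => Subtype.ext (by
    change ((1 : (Module.End F V)ˣ) : Module.End F V) (w : V) = w
    rw [Units.val_one, Module.End.one_apply])))
  map_mul' a b := Units.ext (LinearMap.ext (fun w => Subtype.ext (by
    change (((a : (Module.End F V)ˣ) * (b : (Module.End F V)ˣ) : (Module.End F V)ˣ) :
      Module.End F V) (w : V) = ((a : (Module.End F V)ˣ) : Module.End F V)
        (((b : (Module.End F V)ˣ) : Module.End F V) (w : V))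
    rw [Units.val_mul, Module.End.mul_apply])))

theorem resHom_apply (A : Subgroup (Module.End F V)ˣ) (W : Submodule F V)
    (hW : ∀ a ∈ A, ∀ w ∈ W, ((a : (Module.End F V)ˣ) : Module.End F V) w ∈ W) (a : A) (w : W) :
    ((((resHom A W hW a : (Module.End F W)ˣ) : Module.End F W) w : W) : V) =
      ((a : (Module.End F V)ˣ) : Module.End F V) (w : V) := rfl

/-- The induced action of the group `A` on the quotient by an invariant subspace. -/
def quotHom (A : Subgroup (Module.End F V)ˣ) (W : Submodule F V)
    (hW : ∀ a ∈ A, ∀ w ∈ W, ((a : (Module.End F V)ˣ) : Module.End F V) w ∈ W) :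
    A →* (Module.End F (V ⧸ W))ˣ where
  toFun a :=
    { val := W.mapQ W ((a : (Module.End F V)ˣ) : Module.End F V) (fun w hw => hW a a.2 w hw)
      inv := W.mapQ W (((a : (Module.End F V)ˣ)⁻¹ : (Module.End F V)ˣ) : Module.End F V)
        (fun w hw => hW _ (A.inv_mem a.2) w hw)
      val_inv := LinearMap.ext (fun x => by
        obtain ⟨v, rfl⟩ := Submodule.mkQ_surjective W x
        rw [Module.End.mul_apply]
        change W.mapQ W _ _ (W.mapQ W _ _ (Submodule.Quotient.mk v)) = Submodule.Quotient.mk v
        rw [Submodule.mapQ_apply, Submodule.mapQ_apply, ← Module.End.mul_apply, Units.mul_inv,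
          Module.End.one_apply])
      inv_val := LinearMap.ext (fun x => by
        obtain ⟨v, rfl⟩ := Submodule.mkQ_surjective W x
        rw [Module.End.mul_apply]
        change W.mapQ W _ _ (W.mapQ W _ _ (Submodule.Quotient.mk v)) = Submodule.Quotient.mk v
        rw [Submodule.mapQ_apply, Submodule.mapQ_apply, ← Module.End.mul_apply, Units.inv_mul,
          Module.End.one_apply]) }
  map_one' := Units.ext (LinearMap.ext (fun x => by
    obtain ⟨v, rfl⟩ := Submodule.mkQ_surjective W x
    rfl))
  map_mul' a b := Units.ext (LinearMap.ext (fun x => by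
    obtain ⟨v, rfl⟩ := Submodule.mkQ_surjective W x
    rfl))

theorem quotHom_apply (A : Subgroup (Module.End F V)ˣ) (W : Submodule F V)
    (hW : ∀ a ∈ A, ∀ w ∈ W, ((a : (Module.End F V)ˣ) : Module.End F V) w ∈ W) (a : A) (v : V) :
    ((quotHom A W hW a : (Module.End F (V ⧸ W))ˣ) : Module.End F (V ⧸ W))
      (Submodule.Quotient.mk v) =
      Submodule.Quotient.mk (((a : (Module.End F V)ˣ) : Module.End F V) v) := rfl

theorem pow_char_eq_one_of_sq_zero (p : ℕ) [CharP F p] (a : Module.End F V)
    (h : (a - 1) * (a - 1) = 0) : a ^ p = 1 := by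
  set N := a - 1 with hN
  have ha : a = 1 + N := by rw [hN]; abel
  have hpow : ∀ m : ℕ, (1 + N) ^ m = 1 + m • N := by
    intro m
    induction m with
    | zero => simp
    | succ m ih =>
      rw [pow_succ, ih, mul_add, mul_one, add_mul, one_mul, smul_mul_assoc, h, smul_zero,
        add_zero, succ_nsmul]
      abel
  rw [ha, hpow, ← Nat.cast_smul_eq_nsmul F, CharP.cast_eq_zero F p, zero_smul, add_zero]

theorem eq_one_of_res_quot_trivial (p : ℕ) [Fact p.Prime] [CharP F p]
    (A : Subgroup (Module.End F V)ˣ) (hcop : (Nat.card A).Coprime p) (W : Submodule F V)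
    (hW : ∀ a ∈ A, ∀ w ∈ W, ((a : (Module.End F V)ˣ) : Module.End F V) w ∈ W) (a : A)
    (h1 : resHom A W hW a = 1) (h2 : quotHom A W hW a = 1) : a = 1 := by
  have hfixW : ∀ w ∈ W, ((a : (Module.End F V)ˣ) : Module.End F V) w = w := by
    intro w hw
    have := resHom_apply A W hW a ⟨w, hw⟩
    rw [h1] at this
    exact this.symm
  have hmod : ∀ v : V, ((a : (Module.End F V)ˣ) : Module.End F V) v - v ∈ W := by
    intro v
    have := quotHom_apply A W hW a v
    rw [h2] at this
    exact (Submodule.Quotient.eq W).mp this.symm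
  have hsq : (((a : (Module.End F V)ˣ) : Module.End F V) - 1) *
      (((a : (Module.End F V)ˣ) : Module.End F V) - 1) = 0 := by
    ext v
    simp only [Module.End.mul_apply, LinearMap.sub_apply, Module.End.one_apply,
      LinearMap.zero_apply]
    rw [hfixW _ (hmod v), sub_self]
  have hpow := pow_char_eq_one_of_sq_zero p _ hsq
  have hpow' : a ^ p = 1 := by
    apply Subtype.ext
    apply Units.ext
    rw [Subgroup.coe_pow, Units.val_pow_eq_pow_val, hpow]
    rfl
  have hdvd1 : orderOf a ∣ p := orderOf_dvd_of_pow_eq_one hpow'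
  have hdvd2 : orderOf a ∣ Nat.card A := orderOf_dvd_natCard a
  have h1' : orderOf a = 1 := Nat.eq_one_of_dvd_coprimes hcop hdvd2 hdvd1
  exact orderOf_eq_one_iff.mp h1'

theorem abelian_bound [Finite F] (p : ℕ) [hp : Fact p.Prime] [CharP F p] :
    ∀ (d : ℕ) (V : Type u) [AddCommGroup V] [Module F V] [Finite V] [Nontrivial V]
      (A : Subgroup (Module.End F V)ˣ),
      (∀ a ∈ A, ∀ b ∈ A, a * b = b * a) → (Nat.card A).Coprime p → finrank F V = d →
      Nat.card A + 1 ≤ Nat.card V ∧ (Nat.card A + 1 = Nat.card V → Irred A) := by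
  intro d
  induction d using Nat.strong_induction_on with
  | _ d ih =>
  intro V _ _ _ _ A hcomm hcop hd
  by_cases hirr : Irred A
  · exact ⟨card_add_one_le_of_irred A hcomm hirr, fun _ => hirr⟩
  · unfold Irred at hirr
    push Not at hirr
    obtain ⟨W, hW, hW0, hW1⟩ := hirr
    haveI : Module.Finite F V := Module.Finite.of_finite
    have hntW : Nontrivial W := Submodule.nontrivial_iff_ne_bot.mpr hW0
    have hntQ : Nontrivial (V ⧸ W) := Submodule.Quotient.nontrivial_iff.mpr hW1
    have hfinQ : Finite (V ⧸ W) := Finite.of_surjective W.mkQ (Submodule.mkQ_surjective W)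
    have hdim := Submodule.finrank_quotient_add_finrank W
    have hposW : 1 ≤ finrank F W := Submodule.one_le_finrank_iff.mpr hW0
    have hltW : finrank F W < finrank F V := Submodule.finrank_lt hW1
    set AW := (resHom A W hW).range with hAW
    set AQ := (quotHom A W hW).range with hAQ
    have hcommW : ∀ a ∈ AW, ∀ b ∈ AW, a * b = b * a := by
      rintro _ ⟨a, rfl⟩ _ ⟨b, rfl⟩
      rw [← map_mul, ← map_mul]
      congr 1
      exact Subtype.ext (hcomm a a.2 b b.2)
    have hcommQ : ∀ a ∈ AQ, ∀ b ∈ AQ, a * b = b * a := by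
      rintro _ ⟨a, rfl⟩ _ ⟨b, rfl⟩
      rw [← map_mul, ← map_mul]
      congr 1
      exact Subtype.ext (hcomm a a.2 b b.2)
    have hcopW : (Nat.card AW).Coprime p :=
      Nat.Coprime.coprime_dvd_left (Subgroup.card_range_dvd _) hcop
    have hcopQ : (Nat.card AQ).Coprime p :=
      Nat.Coprime.coprime_dvd_left (Subgroup.card_range_dvd _) hcop
    obtain ⟨hbW, -⟩ := ih (finrank F W) (by omega) W AW hcommW hcopW rfl
    obtain ⟨hbQ, -⟩ := ih (finrank F (V ⧸ W)) (by omega) (V ⧸ W) AQ hcommQ hcopQ rfl
    have hinj : Function.Injective (fun a : A =>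
        ((⟨resHom A W hW a, a, rfl⟩ : AW), (⟨quotHom A W hW a, a, rfl⟩ : AQ))) := by
      intro a b hab
      have h1 : resHom A W hW a = resHom A W hW b := congrArg (fun x => (x.1 : (Module.End F W)ˣ)) hab
      have h2 : quotHom A W hW a = quotHom A W hW b :=
        congrArg (fun x => (x.2 : (Module.End F (V ⧸ W))ˣ)) hab
      have h3 : resHom A W hW (a * b⁻¹) = 1 := by rw [map_mul, map_inv, h1, mul_inv_cancel]
      have h4 : quotHom A W hW (a * b⁻¹) = 1 := by rw [map_mul, map_inv, h2, mul_inv_cancel]
      have := eq_one_of_res_quot_trivial p A hcop W hW (a * b⁻¹) h3 h4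
      exact mul_inv_eq_one.mp this
    have hfinA : Finite A := by
      have : Finite (Module.End F V) := Finite.of_injective (fun f : Module.End F V => (f : V → V))
        DFunLike.coe_injective
      have : Finite (Module.End F V)ˣ := Finite.of_injective (fun u : (Module.End F V)ˣ => (u : Module.End F V)) Units.val_injective
      infer_instance
    have hfinAW : Finite AW := Finite.of_surjective (resHom A W hW).rangeRestrict
      (resHom A W hW).rangeRestrict_surjective
    have hfinAQ : Finite AQ := Finite.of_surjective (quotHom A W hW).rangeRestrict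
      (quotHom A W hW).rangeRestrict_surjective
    have hle := Nat.card_le_card_of_injective _ hinj
    rw [Nat.card_prod] at hle
    have hcardV := Submodule.card_eq_card_quotient_mul_card W
    have hposAW : 1 ≤ Nat.card AW := Nat.card_pos
    have hposAQ : 1 ≤ Nat.card AQ := Nat.card_pos
    have hlt : Nat.card A + 1 < Nat.card V := by
      rw [hcardV]
      have := Nat.mul_le_mul hbW hbQ
      nlinarith
    exact ⟨le_of_lt hlt, fun heq => absurd heq (ne_of_lt hlt)⟩

end reducible

end Cfsg.Agent.Helper3.SingerA
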