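import Mathlib

/-! Helper library (helper3): soft subgroups of finite `p`-groups (Héthelyi), part A:
basic lemmas, behaviour under quotients by normal subgroups contained in the soft subgroup. -/

set_option autoImplicit false

namespace Cfsg.Agent.Helper3.Soft

universe u

variable {G : Type u} [Group G]

/-- `A` is a soft subgroup of `G` (for the prime `p`): abelian, self-centralizing, of index `p`
in its normalizer. -/
structure IsSoft (p : ℕ) (A : Subgroup G) : Prop where
  comm : ∀ a ∈ A, ∀ b ∈ A, a * b = b * a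
  cent : Subgroup.centralizer (A : Set G) ≤ A
  card_norm : Nat.card (Subgroup.normalizer (A : Set G)) = p * Nat.card A

theorem card_lt_card_of_lt [Finite G] {A H : Subgroup G} (h : A < H) : Nat.card A < Nat.card H := by
  by_contra hcon
  push Not at hcon
  exact h.ne (Subgroup.eq_of_le_of_card_ge h.le hcon)

/-- Sandwich lemma for prime index. -/
theorem eq_of_lt_of_le_of_card [Finite G] {p : ℕ} (hp : p.Prime) {A H N : Subgroup G} (hAH : A < H)
    (hHN : H ≤ N) (hcard : Nat.card N = p * Nat.card A) : H = N := by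
  have h1 : Nat.card A ∣ Nat.card H := Subgroup.card_dvd_of_le hAH.le
  have h2 : Nat.card H ∣ Nat.card N := Subgroup.card_dvd_of_le hHN
  obtain ⟨m, hm⟩ := h1
  have hApos : 0 < Nat.card A := Nat.card_pos
  have hlt : Nat.card A < Nat.card H := card_lt_card_of_lt hAH
  have hmp : m ∣ p := by
    rw [hm, hcard, mul_comm p] at h2
    exact Nat.dvd_of_mul_dvd_mul_left hApos h2
  have hm1 : m ≠ 1 := by
    rintro rfl
    rw [mul_one] at hm
    omega
  have hmp' : m = p := by
    rcases (Nat.dvd_prime hp).1 hmp with h | h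
    · exact absurd h hm1
    · exact h
  apply Subgroup.eq_of_le_of_card_ge hHN
  rw [hcard, hm, hmp', mul_comm]

theorem exists_mem_normalizer_not_mem [Finite G] {p : ℕ} [Fact p.Prime] (hG : IsPGroup p G)
    {H : Subgroup G} (hH : H ≠ ⊤) : ∃ g ∈ Subgroup.normalizer (H : Set G), g ∉ H := by
  have := hG.isNilpotent
  have h := Group.normalizerCondition_of_isNilpotent (G := G) H (lt_top_iff_ne_top.2 hH)
  obtain ⟨g, hg1, hg2⟩ := SetLike.exists_of_lt h
  exact ⟨g, hg1, hg2⟩

theorem exists_mem_normalizer_not_mem_of_lt [Finite G] {p : ℕ} [Fact p.Prime] (hG : IsPGroup p G)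
    {A K : Subgroup G} (hAK : A < K) :
    ∃ g ∈ K, g ∈ Subgroup.normalizer (A : Set G) ∧ g ∉ A := by
  have hK : IsPGroup p K := hG.to_subgroup K
  have hne : A.subgroupOf K ≠ ⊤ := by
    intro h
    rw [Subgroup.subgroupOf_eq_top] at h
    exact hAK.not_ge h
  obtain ⟨g, hg1, hg2⟩ := exists_mem_normalizer_not_mem hK hne
  rw [← Subgroup.subgroupOf_normalizer_eq hAK.le] at hg1
  exact ⟨g, g.2, hg1, hg2⟩

theorem IsSoft.le_normalizer {p : ℕ} {A : Subgroup G} (_hA : IsSoft p A) :
    A ≤ Subgroup.normalizer (A : Set G) := Subgroup.le_normalizer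

theorem IsSoft.normalizer_le_of_lt [Finite G] {p : ℕ} [hp : Fact p.Prime] (hG : IsPGroup p G)
    {A : Subgroup G} (hA : IsSoft p A) {K : Subgroup G} (hAK : A < K) :
    Subgroup.normalizer (A : Set G) ≤ K := by
  obtain ⟨g, hgK, hgN, hgA⟩ := exists_mem_normalizer_not_mem_of_lt hG hAK
  have h1 : A < Subgroup.normalizer (A : Set G) ⊓ K := by
    refine lt_of_le_of_ne (le_inf Subgroup.le_normalizer hAK.le) ?_
    intro h
    apply hgA
    rw [h]
    exact ⟨hgN, hgK⟩
  have h2 := eq_of_lt_of_le_of_card hp.out h1 inf_le_left hA.card_norm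
  rw [← h2]
  exact inf_le_right

theorem IsSoft.ne_bot_or [Finite G] {p : ℕ} [hp : Fact p.Prime] {A : Subgroup G} (hA : IsSoft p A) :
    A ≠ ⊥ := by
  intro h
  have h1 : Subgroup.centralizer ((⊥ : Subgroup G) : Set G) = ⊤ := by
    rw [Subgroup.coe_bot, Subgroup.centralizer_eq_top_iff_subset]
    intro x hx
    rw [Set.mem_singleton_iff] at hx
    rw [hx]
    exact (Subgroup.center G).one_mem
  have h2 := hA.cent
  rw [h, h1, top_le_iff] at h2
  have h3 := hA.card_norm
  rw [h] at h3
  have h4 : Subgroup.normalizer (((⊥ : Subgroup G)) : Set G) = ⊤ := Subgroup.normalizer_eq_top _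
  rw [h4, Subgroup.card_top, Subgroup.card_bot, mul_one] at h3
  have h5 : Nat.card G = 1 := by
    rw [← Subgroup.card_top (G := G), ← h2, Subgroup.card_bot]
  rw [h5] at h3
  exact hp.out.one_lt.ne h3

section Quotient

variable (N : Subgroup G) [N.Normal]

theorem map_normalizer_mk {K : Subgroup G} (hNK : N ≤ K) :
    Subgroup.normalizer ((K.map (QuotientGroup.mk' N) : Subgroup (G ⧸ N)) : Set (G ⧸ N)) =
      (Subgroup.normalizer (K : Set G)).map (QuotientGroup.mk' N) := by
  have hsurj : Function.Surjective (QuotientGroup.mk' N) := QuotientGroup.mk'_surjective N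
  have h1 := Subgroup.comap_normalizer_eq_of_surjective (K.map (QuotientGroup.mk' N)) hsurj
  have h2 : (K.map (QuotientGroup.mk' N)).comap (QuotientGroup.mk' N) = K := by
    apply Subgroup.comap_map_eq_self
    rw [QuotientGroup.ker_mk']
    exact hNK
  rw [h2] at h1
  rw [← h1, Subgroup.map_comap_eq_self_of_surjective hsurj]

theorem card_map_mk_mul [Finite G] {K : Subgroup G} (hNK : N ≤ K) :
    Nat.card (K.map (QuotientGroup.mk' N)) * Nat.card N = Nat.card K := by
  have hsurj : Function.Surjective (QuotientGroup.mk' N) := QuotientGroup.mk'_surjective N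
  have h1 : (K.map (QuotientGroup.mk' N)).index = K.index :=
    Subgroup.index_map_eq K hsurj (by rw [QuotientGroup.ker_mk']; exact hNK)
  have h2 := Subgroup.card_mul_index (K.map (QuotientGroup.mk' N))
  have h3 := Subgroup.card_mul_index K
  have h4 := Subgroup.card_eq_card_quotient_mul_card_subgroup N
  have hpos : 0 < K.index := Nat.pos_of_ne_zero Subgroup.index_ne_zero_of_finite
  rw [h1] at h2
  apply Nat.eq_of_mul_eq_mul_right hpos
  calc Nat.card (K.map (QuotientGroup.mk' N)) * Nat.card N * K.index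
      = Nat.card (K.map (QuotientGroup.mk' N)) * K.index * Nat.card N := by ring
    _ = Nat.card (G ⧸ N) * Nat.card N := by rw [h2]
    _ = Nat.card G := h4.symm
    _ = Nat.card K * K.index := h3.symm

omit [N.Normal] in
theorem card_quotient_lt [Finite G] (hN : N ≠ ⊥) : Nat.card (G ⧸ N) < Nat.card G := by
  have h4 := Subgroup.card_eq_card_quotient_mul_card_subgroup N
  have h5 : 1 < Nat.card N := by
    rw [Finite.one_lt_card_iff_nontrivial]
    exact (Subgroup.nontrivial_iff_ne_bot N).2 hN
  have h6 : 0 < Nat.card (G ⧸ N) := Nat.card_pos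
  rw [h4]
  nlinarith

theorem map_mk_ne_top {K : Subgroup G} (hNK : N ≤ K) (hK : K ≠ ⊤) :
    K.map (QuotientGroup.mk' N) ≠ ⊤ := by
  intro h
  apply hK
  have h2 : (K.map (QuotientGroup.mk' N)).comap (QuotientGroup.mk' N) = K := by
    apply Subgroup.comap_map_eq_self
    rw [QuotientGroup.ker_mk']
    exact hNK
  rw [← h2, h, Subgroup.comap_top]

theorem mem_map_mk_iff {K : Subgroup G} (hNK : N ≤ K) (g : G) :
    (QuotientGroup.mk' N g) ∈ K.map (QuotientGroup.mk' N) ↔ g ∈ K := by
  have h2 : (K.map (QuotientGroup.mk' N)).comap (QuotientGroup.mk' N) = K := by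
    apply Subgroup.comap_map_eq_self
    rw [QuotientGroup.ker_mk']
    exact hNK
  rw [← Subgroup.mem_comap, h2]

/-- The preimage of the centralizer of the image of `A` in `G ⧸ N`. -/
def cstar (A : Subgroup G) : Subgroup G :=
  (Subgroup.centralizer ((A.map (QuotientGroup.mk' N) : Subgroup (G ⧸ N)) : Set (G ⧸ N))).comap
    (QuotientGroup.mk' N)

theorem mem_cstar_iff (A : Subgroup G) (g : G) :
    g ∈ cstar N A ↔ ∀ a ∈ A, g * a * g⁻¹ * a⁻¹ ∈ N := by
  unfold cstar
  rw [Subgroup.mem_comap, Subgroup.mem_centralizer_iff]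
  constructor
  · intro h a ha
    have h1 := h (QuotientGroup.mk' N a) (Subgroup.mem_map_of_mem _ ha)
    rw [← QuotientGroup.eq_one_iff]
    have : ((g * a * g⁻¹ * a⁻¹ : G) : G ⧸ N) =
        QuotientGroup.mk' N g * QuotientGroup.mk' N a * (QuotientGroup.mk' N g)⁻¹ *
          (QuotientGroup.mk' N a)⁻¹ := by
      simp
    rw [this, ← h1]
    group
  · intro h x hx
    rw [SetLike.mem_coe, Subgroup.mem_map] at hx
    obtain ⟨a, ha, rfl⟩ := hx
    have h1 := h a ha
    rw [← QuotientGroup.eq_one_iff] at h1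
    have : ((g * a * g⁻¹ * a⁻¹ : G) : G ⧸ N) =
        QuotientGroup.mk' N g * QuotientGroup.mk' N a * (QuotientGroup.mk' N g)⁻¹ *
          (QuotientGroup.mk' N a)⁻¹ := by
      simp
    rw [this] at h1
    have h2 : QuotientGroup.mk' N g * QuotientGroup.mk' N a =
        QuotientGroup.mk' N a * QuotientGroup.mk' N g := by
      have := congrArg (fun t => t * QuotientGroup.mk' N a * QuotientGroup.mk' N g) h1
      simpa [mul_assoc] using this
    exact h2.symm

theorem le_cstar {p : ℕ} {A : Subgroup G} (hA : IsSoft p A) : A ≤ cstar N A := by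
  intro g hg
  rw [mem_cstar_iff]
  intro a ha
  have : g * a * g⁻¹ * a⁻¹ = 1 := by
    rw [hA.comm g hg a ha]
    group
  rw [this]
  exact N.one_mem

theorem cstar_le_normalizer {A : Subgroup G} (hNA : N ≤ A) :
    cstar N A ≤ Subgroup.normalizer (A : Set G) := by
  intro g hg
  rw [mem_cstar_iff] at hg
  have key : ∀ g : G, (∀ a ∈ A, g * a * g⁻¹ * a⁻¹ ∈ N) → ∀ a ∈ A, g * a * g⁻¹ ∈ A := by
    intro g hg a ha
    have h1 := hNA (hg a ha)
    have : g * a * g⁻¹ = g * a * g⁻¹ * a⁻¹ * a := by group
    rw [this]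
    exact A.mul_mem h1 ha
  have hginv : ∀ a ∈ A, g⁻¹ * a * g⁻¹⁻¹ * a⁻¹ ∈ N := by
    intro a ha
    have h1 := hg a ha
    have h2 : g⁻¹ * a * g⁻¹⁻¹ * a⁻¹ = (g⁻¹ * (g * a * g⁻¹ * a⁻¹) * g⁻¹⁻¹)⁻¹ := by group
    rw [h2]
    exact N.inv_mem ((inferInstance : N.Normal).conj_mem _ h1 g⁻¹)
  rw [Subgroup.mem_normalizer_iff]
  intro a
  constructor
  · intro ha
    exact key g hg a ha
  · intro ha
    have h1 := key g⁻¹ hginv _ ha
    have : g⁻¹ * (g * a * g⁻¹) * g⁻¹⁻¹ = a := by group
    rwa [this] at h1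

/-- If the image of `A` is self-centralizing in `G ⧸ N`, it is soft. -/
theorem soft_quotient_A [Finite G] {p : ℕ} {A : Subgroup G} (hA : IsSoft p A) (hNA : N ≤ A)
    (hc : cstar N A ≤ A) : IsSoft p (A.map (QuotientGroup.mk' N)) := by
  refine ⟨?_, ?_, ?_⟩
  · intro x hx y hy
    rw [Subgroup.mem_map] at hx hy
    obtain ⟨a, ha, rfl⟩ := hx
    obtain ⟨b, hb, rfl⟩ := hy
    rw [← map_mul, ← map_mul, hA.comm a ha b hb]
  · intro x hx
    obtain ⟨g, rfl⟩ := QuotientGroup.mk'_surjective N x
    have : g ∈ cstar N A := hx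
    exact Subgroup.mem_map_of_mem _ (hc this)
  · rw [map_normalizer_mk N hNA]
    have h1 := card_map_mk_mul N (hNA.trans Subgroup.le_normalizer)
    have h2 := card_map_mk_mul N hNA
    have h3 := hA.card_norm
    have hpos : 0 < Nat.card N := Nat.card_pos
    apply Nat.eq_of_mul_eq_mul_right hpos
    rw [h1, h3, mul_assoc, h2]

/-- If the centralizer of the image of `A` in `G ⧸ N` is the image of `N_G(A)`, and
`N_G(A)` has index `p` in its normalizer, then the image of `N_G(A)` is soft. -/
theorem soft_quotient_N [Finite G] {p : ℕ} (hp : p.Prime) {A : Subgroup G} (hA : IsSoft p A)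
    (hNA : N ≤ A)
    (hc : Subgroup.normalizer (A : Set G) ≤ cstar N A)
    (hn : Nat.card (Subgroup.normalizer ((Subgroup.normalizer (A : Set G) : Subgroup G) : Set G)) =
      p * Nat.card (Subgroup.normalizer (A : Set G))) :
    IsSoft p ((Subgroup.normalizer (A : Set G)).map (QuotientGroup.mk' N)) := by
  set N1 := Subgroup.normalizer (A : Set G) with hN1
  have hAN1 : A ≤ N1 := Subgroup.le_normalizer
  -- commutators of elements of N1 lie in N
  have hcomm : ∀ g ∈ N1, ∀ h ∈ N1, QuotientGroup.mk' N g * QuotientGroup.mk' N h =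
      QuotientGroup.mk' N h * QuotientGroup.mk' N g := by
    intro g hg
    -- S = elements of N1 whose image commutes with the image of g
    let S : Subgroup G := N1 ⊓ (Subgroup.centralizer {QuotientGroup.mk' N g}).comap (QuotientGroup.mk' N)
    have hAS : A ≤ S := by
      intro a ha
      refine Subgroup.mem_inf.2 ⟨hAN1 ha, ?_⟩
      rw [Subgroup.mem_comap, Subgroup.mem_centralizer_iff]
      intro x hx
      rw [Set.mem_singleton_iff] at hx
      rw [hx]
      have h1 := hc hg
      unfold cstar at h1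
      rw [Subgroup.mem_comap, Subgroup.mem_centralizer_iff] at h1
      exact (h1 _ (Subgroup.mem_map_of_mem _ ha)).symm
    have hgS : g ∈ S := by
      refine Subgroup.mem_inf.2 ⟨hg, ?_⟩
      rw [Subgroup.mem_comap, Subgroup.mem_centralizer_iff]
      intro x hx
      rw [Set.mem_singleton_iff] at hx
      rw [hx]
    have hSN1 : S = N1 := by
      by_cases hgA : g ∈ A
      · apply le_antisymm inf_le_left
        intro h hh
        refine Subgroup.mem_inf.2 ⟨hh, ?_⟩
        rw [Subgroup.mem_comap, Subgroup.mem_centralizer_iff]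
        intro x hx
        rw [Set.mem_singleton_iff] at hx
        rw [hx]
        have h1 := hc hh
        unfold cstar at h1
        rw [Subgroup.mem_comap, Subgroup.mem_centralizer_iff] at h1
        exact (h1 _ (Subgroup.mem_map_of_mem _ hgA))
      · have hlt : A < S := lt_of_le_of_ne hAS (fun h => hgA (h ▸ hgS))
        exact eq_of_lt_of_le_of_card hp hlt inf_le_left hA.card_norm
    intro h hh
    have h1 : h ∈ S := hSN1 ▸ hh
    have h2 := (Subgroup.mem_inf.1 h1).2
    rw [Subgroup.mem_comap, Subgroup.mem_centralizer_iff] at h2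
    exact h2 _ rfl
  refine ⟨?_, ?_, ?_⟩
  · intro x hx y hy
    rw [Subgroup.mem_map] at hx hy
    obtain ⟨a, ha, rfl⟩ := hx
    obtain ⟨b, hb, rfl⟩ := hy
    exact hcomm a ha b hb
  · intro x hx
    obtain ⟨g, rfl⟩ := QuotientGroup.mk'_surjective N x
    have h1 : g ∈ cstar N A := by
      unfold cstar
      rw [Subgroup.mem_comap, Subgroup.mem_centralizer_iff]
      intro y hy
      rw [Subgroup.mem_centralizer_iff] at hx
      apply hx
      rw [SetLike.mem_coe] at hy ⊢
      exact Subgroup.map_mono hAN1 hy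
    exact Subgroup.mem_map_of_mem _ (cstar_le_normalizer N hNA h1)
  · have hNN1 : N ≤ N1 := hNA.trans hAN1
    rw [map_normalizer_mk N hNN1]
    have h1 := card_map_mk_mul N (hNN1.trans Subgroup.le_normalizer)
    have h2 := card_map_mk_mul N hNN1
    have hpos : 0 < Nat.card N := Nat.card_pos
    apply Nat.eq_of_mul_eq_mul_right hpos
    rw [h1, hn, mul_assoc, h2]

end Quotient

end Cfsg.Agent.Helper3.Soft
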