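import Mathlib
import Cfsg.Agent.Helper3.SoftA

/-! Helper library (helper3): soft subgroups of finite `p`-groups (Héthelyi), part B:
the second normalizer has index `p` over the first; every proper subgroup containing a soft subgroup
has index `p` in its normalizer; the subgroups containing a soft subgroup form a chain. -/

set_option autoImplicit false

namespace Cfsg.Agent.Helper3.Soft

universe u

variable {G : Type u} [Group G]

theorem card_mul_relIndex {H K : Subgroup G} (h : H ≤ K) :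
    Nat.card H * H.relIndex K = Nat.card K := by
  have h1 := Subgroup.card_mul_index (H.subgroupOf K)
  rw [Nat.card_congr (Subgroup.subgroupOfEquivOfLe h).toEquiv] at h1
  exact h1

/-- Conjugate subgroup. -/
abbrev cj (g : G) (A : Subgroup G) : Subgroup G := A.map (MulAut.conj g).toMonoidHom

theorem mem_cj {g : G} {A : Subgroup G} {x : G} : x ∈ cj g A ↔ ∃ a ∈ A, g * a * g⁻¹ = x := by
  unfold cj
  rw [Subgroup.mem_map]
  rfl

theorem card_cj [Finite G] (g : G) (A : Subgroup G) : Nat.card (cj g A) = Nat.card A :=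
  Subgroup.card_map_of_injective (MulAut.conj g).injective

theorem cj_eq_iff_mem_normalizer {g : G} {A : Subgroup G} :
    cj g A = A ↔ g ∈ Subgroup.normalizer (A : Set G) :=
  Subgroup.mem_normalizer_iff_map_conj_eq.symm

theorem cj_le_of_mem_normalizer {g : G} {A N : Subgroup G} (hAN : A ≤ N)
    (hg : g ∈ Subgroup.normalizer (N : Set G)) : cj g A ≤ N := by
  intro x hx
  rw [mem_cj] at hx
  obtain ⟨a, ha, rfl⟩ := hx
  exact (Subgroup.mem_normalizer_iff.1 hg a).1 (hAN ha)

theorem card_eq_p_mul_of_lt [Finite G] {p : ℕ} [hp : Fact p.Prime] (hG : IsPGroup p G)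
    {H K : Subgroup G} (hHK : H < K) (hlt : Nat.card K < p ^ 2 * Nat.card H) :
    Nat.card K = p * Nat.card H := by
  obtain ⟨a, ha⟩ := (hG.to_subgroup H).exists_card_eq
  obtain ⟨b, hb⟩ := (hG.to_subgroup K).exists_card_eq
  have h1 : Nat.card H < Nat.card K := card_lt_card_of_lt hHK
  rw [ha, hb] at h1 hlt
  rw [ha, hb]
  have hp1 : 1 < p := hp.out.one_lt
  have h2 : a < b := (Nat.pow_lt_pow_iff_right hp1).1 h1
  rw [← pow_add] at hlt
  have h3 : b < 2 + a := (Nat.pow_lt_pow_iff_right hp1).1 hlt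
  have : b = a + 1 := by omega
  rw [this, pow_succ, mul_comm]

section F1

variable [Finite G] {p : ℕ} [hp : Fact p.Prime]

/-- The second normalizer of a soft subgroup has index `p` over the first. -/
theorem f1 (hG : IsPGroup p G) {A : Subgroup G} (hA : IsSoft p A)
    (hne : Subgroup.normalizer (A : Set G) ≠ ⊤) :
    Nat.card (Subgroup.normalizer ((Subgroup.normalizer (A : Set G) : Subgroup G) : Set G)) =
      p * Nat.card (Subgroup.normalizer (A : Set G)) := by
  classical
  set N1 := Subgroup.normalizer (A : Set G) with hN1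
  set N2 := Subgroup.normalizer (N1 : Set G) with hN2
  have hAN1 : A ≤ N1 := Subgroup.le_normalizer
  have hN12 : N1 ≤ N2 := Subgroup.le_normalizer
  have hp1 : 1 < p := hp.out.one_lt
  obtain ⟨y, hyN2, hyN1⟩ := exists_mem_normalizer_not_mem hG hne
  -- the centre of `N1`
  set Z0 : Subgroup G := N1 ⊓ Subgroup.centralizer (N1 : Set G) with hZ0
  have hZ0A : Z0 ≤ A := by
    intro z hz
    apply hA.cent
    exact Subgroup.centralizer_le (show (A : Set G) ⊆ N1 from hAN1) (Subgroup.mem_inf.1 hz).2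
  have hZ0N1 : Z0 ≤ N1 := inf_le_left
  have hZ0conj : ∀ g ∈ N2, ∀ z ∈ Z0, g * z * g⁻¹ ∈ Z0 := by
    intro g hg z hz
    obtain ⟨hz1, hz2⟩ := Subgroup.mem_inf.1 hz
    refine Subgroup.mem_inf.2 ⟨(Subgroup.mem_normalizer_iff.1 hg z).1 hz1, ?_⟩
    rw [Subgroup.mem_centralizer_iff]
    intro n hn
    have hn' : g⁻¹ * n * g ∈ N1 := (Subgroup.mem_normalizer_iff''.1 hg n).1 hn
    have h1 := (Subgroup.mem_centralizer_iff.1 hz2) _ hn'
    -- (g⁻¹ n g) z = z (g⁻¹ n g)
    calc n * (g * z * g⁻¹) = g * ((g⁻¹ * n * g) * z) * g⁻¹ := by group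
      _ = g * (z * (g⁻¹ * n * g)) * g⁻¹ := by rw [h1]
      _ = g * z * g⁻¹ * n := by group
  -- intersections of distinct conjugates lie in the centre
  have hint : ∀ g ∈ N2, g ∉ N1 → A ⊓ cj g A ≤ Z0 := by
    intro g hg hgN1
    have hcjN1 : cj g A ≤ N1 := cj_le_of_mem_normalizer hAN1 hg
    have hne' : cj g A ≠ A := fun h => hgN1 (cj_eq_iff_mem_normalizer.1 h)
    have hnle : ¬ cj g A ≤ A := by
      intro h
      apply hne'
      apply Subgroup.eq_of_le_of_card_ge h
      rw [card_cj]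
    have hlt : A < A ⊔ cj g A := by
      refine lt_of_le_of_ne le_sup_left ?_
      intro h
      apply hnle
      have h' : cj g A ≤ A ⊔ cj g A := le_sup_right
      rw [← h] at h'
      exact h'
    have hsup : A ⊔ cj g A = N1 :=
      eq_of_lt_of_le_of_card hp.out hlt (sup_le hAN1 hcjN1) hA.card_norm
    intro z hz
    obtain ⟨hz1, hz2⟩ := Subgroup.mem_inf.1 hz
    refine Subgroup.mem_inf.2 ⟨hAN1 hz1, ?_⟩
    -- the centralizer of z contains A and its conjugate
    have h1 : A ≤ Subgroup.centralizer {z} := by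
      intro a ha
      rw [Subgroup.mem_centralizer_iff]
      intro x hx
      rw [Set.mem_singleton_iff] at hx
      rw [hx]
      exact hA.comm z hz1 a ha
    have h2 : cj g A ≤ Subgroup.centralizer {z} := by
      intro a ha
      rw [Subgroup.mem_centralizer_iff]
      intro x hx
      rw [Set.mem_singleton_iff] at hx
      rw [hx]
      rw [mem_cj] at ha hz2
      obtain ⟨a', ha', rfl⟩ := ha
      obtain ⟨z', hz', rfl⟩ := hz2
      have := hA.comm z' hz' a' ha'
      calc g * z' * g⁻¹ * (g * a' * g⁻¹) = g * (z' * a') * g⁻¹ := by group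
        _ = g * (a' * z') * g⁻¹ := by rw [this]
        _ = g * a' * g⁻¹ * (g * z' * g⁻¹) := by group
    have h3 : N1 ≤ Subgroup.centralizer {z} := hsup ▸ sup_le h1 h2
    rw [Subgroup.mem_centralizer_iff]
    intro n hn
    have := Subgroup.mem_centralizer_iff.1 (h3 hn) z rfl
    exact this.symm
  -- `|N1| ≤ p² |Z0|`
  have hcard1 : Nat.card N1 ≤ p ^ 2 * Nat.card Z0 := by
    have hcjN1 : cj y A ≤ N1 := cj_le_of_mem_normalizer hAN1 hyN2
    have hD : A ⊓ cj y A ≤ Z0 := hint y hyN2 hyN1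
    have h1 := card_mul_relIndex hAN1
    have h2 := card_mul_relIndex hcjN1
    have h3 := card_mul_relIndex ((inf_le_left : A ⊓ cj y A ≤ A).trans hAN1)
    have h4 : (A ⊓ cj y A).relIndex N1 ≤ A.relIndex N1 * (cj y A).relIndex N1 :=
      Subgroup.relIndex_inf_le
    have hApos : 0 < Nat.card A := Nat.card_pos
    have h5 : A.relIndex N1 = p := by
      rw [hA.card_norm, mul_comm] at h1
      exact Nat.eq_of_mul_eq_mul_right hApos h1
    have h6 : (cj y A).relIndex N1 = p := by
      rw [card_cj, hA.card_norm, mul_comm] at h2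
      exact Nat.eq_of_mul_eq_mul_right hApos h2
    rw [h5, h6] at h4
    have h7 : Nat.card (A ⊓ cj y A : Subgroup G) ≤ Nat.card Z0 := Subgroup.card_le_of_le hD
    calc Nat.card N1 = Nat.card (A ⊓ cj y A : Subgroup G) * (A ⊓ cj y A).relIndex N1 := h3.symm
      _ ≤ Nat.card Z0 * (p * p) := Nat.mul_le_mul h7 h4
      _ = p ^ 2 * Nat.card Z0 := by ring
  -- pick x in A outside the centre
  have hZ0ne : Z0 ≠ A := by
    intro h
    have h1 : N1 ≤ Subgroup.centralizer (A : Set G) := by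
      intro n hn
      rw [Subgroup.mem_centralizer_iff]
      intro a ha
      have ha' : a ∈ Z0 := h ▸ ha
      exact (Subgroup.mem_centralizer_iff.1 (Subgroup.mem_inf.1 ha').2 n hn).symm
    have h2 : N1 = A := le_antisymm (h1.trans hA.cent) hAN1
    have h3 := hA.card_norm
    rw [← hN1, h2] at h3
    have hApos : 0 < Nat.card A := Nat.card_pos
    nlinarith
  obtain ⟨x, hxA, hxZ0⟩ := SetLike.exists_of_lt (lt_of_le_of_ne hZ0A hZ0ne)
  -- key: an element of N2 conjugating x into A lies in N1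
  have hkey : ∀ h ∈ N2, h * x * h⁻¹ ∈ A → h ∈ N1 := by
    intro h hh hxh
    by_contra hcon
    have h1 : h * x * h⁻¹ ∈ Z0 := hint h hh hcon (Subgroup.mem_inf.2 ⟨hxh, mem_cj.2 ⟨x, hxA, rfl⟩⟩)
    have h2 := hZ0conj h⁻¹ (N2.inv_mem hh) _ h1
    apply hxZ0
    have : h⁻¹ * (h * x * h⁻¹) * h⁻¹⁻¹ = x := by group
    rwa [this] at h2
  -- counting
  have : Fintype G := Fintype.ofFinite G
  have eN1 : Nat.card N1 = (N1 : Set G).toFinset.card := Nat.card_eq_card_toFinset (N1 : Set G)
  have eN2 : Nat.card N2 = (N2 : Set G).toFinset.card := Nat.card_eq_card_toFinset (N2 : Set G)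
  have eZ0 : Nat.card Z0 = (Z0 : Set G).toFinset.card := Nat.card_eq_card_toFinset (Z0 : Set G)
  let S : Finset (G × G) := (N2 : Set G).toFinset ×ˢ (Z0 : Set G).toFinset
  let T : Finset G := ((N1 : Set G).toFinset).erase 1
  let f : G × G → G := fun q => q.1 * x * q.1⁻¹ * q.2
  have hST : ∀ q ∈ S, f q ∈ T := by
    intro q hq
    rw [Finset.mem_product, Set.mem_toFinset, Set.mem_toFinset] at hq
    obtain ⟨hq1, hq2⟩ := hq
    rw [Finset.mem_erase, Set.mem_toFinset]
    constructor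
    · intro h1
      -- q.1 x q.1⁻¹ = q.2⁻¹ ∈ Z0
      have h2 : q.1 * x * q.1⁻¹ = q.2⁻¹ := eq_inv_of_mul_eq_one_left h1
      have h3 : q.1 * x * q.1⁻¹ ∈ A := by rw [h2]; exact A.inv_mem (hZ0A hq2)
      have h4 := hkey q.1 hq1 h3
      -- then x ∈ Z0
      apply hxZ0
      have h5 := hZ0conj q.1⁻¹ (N2.inv_mem hq1) _ (h2 ▸ Z0.inv_mem hq2 : q.1 * x * q.1⁻¹ ∈ Z0)
      have : q.1⁻¹ * (q.1 * x * q.1⁻¹) * q.1⁻¹⁻¹ = x := by group
      rwa [this] at h5
    · exact N1.mul_mem ((Subgroup.mem_normalizer_iff.1 hq1 x).1 (hAN1 hxA)) (hZ0N1 hq2)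
  have hfib : ∀ b ∈ T, (S.filter (fun q => f q = b)).card ≤ Nat.card N1 := by
    intro b _
    by_cases hemp : (S.filter (fun q => f q = b)) = ∅
    · rw [hemp, Finset.card_empty]; exact Nat.zero_le _
    · obtain ⟨q', hq'⟩ := Finset.nonempty_iff_ne_empty.2 hemp
      rw [Finset.mem_filter, Finset.mem_product, Set.mem_toFinset, Set.mem_toFinset] at hq'
      obtain ⟨⟨hq'1, hq'2⟩, hq'b⟩ := hq'
      rw [eN1]
      apply Finset.card_le_card_of_injOn (fun q => q'.1⁻¹ * q.1)
      · intro q hq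
        rw [Finset.coe_filter, Set.mem_ofPred_eq, Finset.mem_product, Set.mem_toFinset,
          Set.mem_toFinset] at hq
        obtain ⟨⟨hq1, hq2⟩, hqb⟩ := hq
        rw [Finset.mem_coe, Set.mem_toFinset, SetLike.mem_coe]
        apply hkey _ (N2.mul_mem (N2.inv_mem hq'1) hq1)
        -- (q'⁻¹ q) x (q'⁻¹ q)⁻¹ = x * q'⁻¹ (q'.2 q.2⁻¹) q'
        have h1 : q.1 * x * q.1⁻¹ * q.2 = q'.1 * x * q'.1⁻¹ * q'.2 := by
          show f q = f q'
          rw [hqb, hq'b]
        have h2 : q'.1⁻¹ * q.1 * x * (q'.1⁻¹ * q.1)⁻¹ =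
            x * (q'.1⁻¹ * (q'.2 * q.2⁻¹) * q'.1⁻¹⁻¹) := by
          have : q.1 * x * q.1⁻¹ = q'.1 * x * q'.1⁻¹ * q'.2 * q.2⁻¹ := by
            rw [← h1]; group
          calc q'.1⁻¹ * q.1 * x * (q'.1⁻¹ * q.1)⁻¹ = q'.1⁻¹ * (q.1 * x * q.1⁻¹) * q'.1 := by group
            _ = q'.1⁻¹ * (q'.1 * x * q'.1⁻¹ * q'.2 * q.2⁻¹) * q'.1 := by rw [this]
            _ = x * (q'.1⁻¹ * (q'.2 * q.2⁻¹) * q'.1⁻¹⁻¹) := by group
        rw [h2]
        exact A.mul_mem hxA (hZ0A (hZ0conj _ (N2.inv_mem hq'1) _ (Z0.mul_mem hq'2 (Z0.inv_mem hq2))))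
      · intro q hq r hr hqr
        rw [Finset.coe_filter, Set.mem_ofPred_eq] at hq hr
        have h1 : q.1 = r.1 := mul_left_cancel hqr
        have h2 : f q = f r := by rw [hq.2, hr.2]
        have h3 : q.2 = r.2 := by
          simp only [f] at h2
          rw [h1] at h2
          exact mul_left_cancel h2
        exact Prod.ext h1 h3
  have hcount := Finset.card_le_mul_card_image_of_maps_to hST (Nat.card N1) hfib
  have hS : S.card = Nat.card N2 * Nat.card Z0 := by
    rw [Finset.card_product, eN2, eZ0]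
  have hT : T.card + 1 = Nat.card N1 := by
    rw [eN1]
    apply Finset.card_erase_add_one
    rw [Set.mem_toFinset]
    exact N1.one_mem
  have hlt12 : N1 < N2 := by
    refine lt_of_le_of_ne hN12 ?_
    intro h
    exact hyN1 (h ▸ hyN2)
  apply card_eq_p_mul_of_lt hG hlt12
  -- |N2| |Z0| ≤ |N1| (|N1| - 1) < |N1|² ≤ |N1| p² |Z0|
  rw [hS] at hcount
  have hZ0pos : 0 < Nat.card Z0 := Nat.card_pos
  have hN1pos : 0 < Nat.card N1 := Nat.card_pos
  have h1 : Nat.card N2 * Nat.card Z0 < Nat.card N1 * (p ^ 2 * Nat.card Z0) := by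
    calc Nat.card N2 * Nat.card Z0 ≤ Nat.card N1 * T.card := hcount
      _ < Nat.card N1 * Nat.card N1 := by
        apply Nat.mul_lt_mul_of_pos_left _ hN1pos
        omega
      _ ≤ Nat.card N1 * (p ^ 2 * Nat.card Z0) := Nat.mul_le_mul_left _ hcard1
  have h2 : Nat.card N2 * Nat.card Z0 < (p ^ 2 * Nat.card N1) * Nat.card Z0 := by
    calc Nat.card N2 * Nat.card Z0 < Nat.card N1 * (p ^ 2 * Nat.card Z0) := h1
      _ = (p ^ 2 * Nat.card N1) * Nat.card Z0 := by ring
  exact Nat.lt_of_mul_lt_mul_right h2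

end F1

section NI

theorem transfer_ni [Finite G] {p : ℕ} (N : Subgroup G) [N.Normal] {K : Subgroup G} (hNK : N ≤ K)
    (h : Nat.card (Subgroup.normalizer ((K.map (QuotientGroup.mk' N) : Subgroup (G ⧸ N)) : Set (G ⧸ N))) =
      p * Nat.card (K.map (QuotientGroup.mk' N))) :
    Nat.card (Subgroup.normalizer (K : Set G)) = p * Nat.card K := by
  rw [map_normalizer_mk N hNK] at h
  have h1 := card_map_mk_mul N (hNK.trans Subgroup.le_normalizer)
  have h2 := card_map_mk_mul N hNK
  rw [← h1, h, mul_assoc, h2]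

theorem exists_central_order_p [Finite G] [Nontrivial G] {p : ℕ} [hp : Fact p.Prime]
    (hG : IsPGroup p G) : ∃ z ∈ Subgroup.center G, orderOf z = p := by
  have := hG.center_nontrivial
  have h1 : p ∣ Nat.card (Subgroup.center G) := by
    rcases (hG.to_subgroup (Subgroup.center G)).card_eq_or_dvd with h | h
    · have := Finite.one_lt_card (α := Subgroup.center G)
      omega
    · exact h
  obtain ⟨x, hx⟩ := exists_prime_orderOf_dvd_card' p h1
  exact ⟨x, x.2, by rw [Subgroup.orderOf_coe]; exact hx⟩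

theorem zpowers_normal_of_mem_center {z : G} (hz : z ∈ Subgroup.center G) :
    (Subgroup.zpowers z).Normal := by
  constructor
  intro n hn g
  have h1 : n ∈ Subgroup.center G := (Subgroup.zpowers_le.2 hz) hn
  have h2 : g * n = n * g := (Subgroup.mem_center_iff.1 h1 g)
  have : g * n * g⁻¹ = n := by rw [h2]; group
  rw [this]
  exact hn

theorem ni_aux (p : ℕ) [hp : Fact p.Prime] : ∀ n : ℕ, ∀ (G : Type u) [Group G] [Finite G],
    Nat.card G = n → IsPGroup p G → ∀ A : Subgroup G, IsSoft p A → ∀ K : Subgroup G, A ≤ K → K ≠ ⊤ →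
    Nat.card (Subgroup.normalizer (K : Set G)) = p * Nat.card K := by
  intro n
  induction n using Nat.strong_induction_on with
  | _ n ih =>
  intro G _ _ hn hG A hA K hAK hK
  by_cases hAeqK : A = K
  · subst hAeqK; exact hA.card_norm
  have hlt : A < K := lt_of_le_of_ne hAK hAeqK
  have hN1K := hA.normalizer_le_of_lt hG hlt
  have hN1ne : Subgroup.normalizer (A : Set G) ≠ ⊤ := fun h => hK (top_le_iff.1 (h ▸ hN1K))
  have hf1 := f1 hG hA hN1ne
  have hnt : Nontrivial G := by
    by_contra hcon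
    rw [not_nontrivial_iff_subsingleton] at hcon
    exact hK (Subsingleton.elim _ _)
  obtain ⟨z, hz, hzord⟩ := exists_central_order_p hG
  have hZn : (Subgroup.zpowers z).Normal := zpowers_normal_of_mem_center hz
  have hZcard : Nat.card (Subgroup.zpowers z) = p := by rw [Nat.card_zpowers, hzord]
  have hZA : Subgroup.zpowers z ≤ A := by
    rw [Subgroup.zpowers_le]
    exact hA.cent (Subgroup.center_le_centralizer _ hz)
  have hZbot : Subgroup.zpowers z ≠ ⊥ := by
    intro h
    rw [h, Subgroup.card_bot] at hZcard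
    exact hp.out.one_lt.ne hZcard
  have hlt' : Nat.card (G ⧸ Subgroup.zpowers z) < n := hn ▸ card_quotient_lt _ hZbot
  have hGq : IsPGroup p (G ⧸ Subgroup.zpowers z) := hG.to_quotient _
  have hKtop : K.map (QuotientGroup.mk' (Subgroup.zpowers z)) ≠ ⊤ :=
    map_mk_ne_top _ (hZA.trans hAK) hK
  apply transfer_ni (Subgroup.zpowers z) (hZA.trans hAK)
  by_cases hc : cstar (Subgroup.zpowers z) A ≤ A
  · have hsoft := soft_quotient_A (Subgroup.zpowers z) hA hZA hc
    exact ih _ hlt' (G ⧸ Subgroup.zpowers z) rfl hGq _ hsoft _ (Subgroup.map_mono hAK) hKtop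
  · have hAc : A < cstar (Subgroup.zpowers z) A :=
      lt_of_le_of_ne (le_cstar _ hA) (fun h => hc (h ▸ le_rfl))
    have hceq := eq_of_lt_of_le_of_card hp.out hAc (cstar_le_normalizer _ hZA) hA.card_norm
    have hsoft := soft_quotient_N (Subgroup.zpowers z) hp.out hA hZA hceq.ge hf1
    exact ih _ hlt' (G ⧸ Subgroup.zpowers z) rfl hGq _ hsoft _ (Subgroup.map_mono hN1K) hKtop

variable [Finite G] {p : ℕ} [hp : Fact p.Prime]

/-- Every proper subgroup containing a soft subgroup has index `p` in its normalizer. -/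
theorem ni (hG : IsPGroup p G) {A : Subgroup G} (hA : IsSoft p A) {K : Subgroup G} (hAK : A ≤ K)
    (hK : K ≠ ⊤) : Nat.card (Subgroup.normalizer (K : Set G)) = p * Nat.card K :=
  ni_aux p _ G rfl hG A hA K hAK hK

/-- The subgroups containing a soft subgroup form a chain. -/
theorem chain (hG : IsPGroup p G) {A : Subgroup G} (hA : IsSoft p A) {K L : Subgroup G}
    (hK : A ≤ K) (hL : A ≤ L) : K ≤ L ∨ L ≤ K := by
  by_contra hcon
  push Not at hcon
  obtain ⟨h1, h2⟩ := hcon
  have hDK : K ⊓ L < K := lt_of_le_of_ne inf_le_left (fun h => h1 (h ▸ inf_le_right))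
  have hDL : K ⊓ L < L := lt_of_le_of_ne inf_le_right (fun h => h2 (h ▸ inf_le_left))
  have hDtop : K ⊓ L ≠ ⊤ := fun h => h1 (by
    have : K ⊓ L ≤ L := inf_le_right
    rw [h] at this
    exact le_top.trans this)
  have hcard := ni hG hA (le_inf hK hL) hDtop
  have key : ∀ M : Subgroup G, K ⊓ L < M → Subgroup.normalizer ((K ⊓ L : Subgroup G) : Set G) ≤ M := by
    intro M hM
    obtain ⟨g, hgM, hgN, hgD⟩ := exists_mem_normalizer_not_mem_of_lt hG hM
    have hlt : K ⊓ L < Subgroup.normalizer ((K ⊓ L : Subgroup G) : Set G) ⊓ M := by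
      refine lt_of_le_of_ne (le_inf Subgroup.le_normalizer hM.le) ?_
      intro h
      apply hgD
      rw [h]
      exact ⟨hgN, hgM⟩
    have := eq_of_lt_of_le_of_card hp.out hlt inf_le_left hcard
    rw [← this]
    exact inf_le_right
  have h3 := le_inf (key K hDK) (key L hDL)
  obtain ⟨g, _, hgN, hgD⟩ := exists_mem_normalizer_not_mem_of_lt hG hDK
  exact hgD (h3 hgN)

end NI

end Cfsg.Agent.Helper3.Soft
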