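import Mathlib
import Cfsg.Agent.Helper3.SoftB

/-! Helper library (helper3): soft subgroups of finite `p`-groups (Héthelyi), part C:
the nilpotency class of the maximal subgroup containing a soft subgroup. -/

set_option autoImplicit false

namespace Cfsg.Agent.Helper3.Soft

universe u

variable {G : Type u} [Group G]

/-- The centre of a subgroup `M`, as a subgroup of `G`. -/
def zc (M : Subgroup G) : Subgroup G := M ⊓ Subgroup.centralizer (M : Set G)

theorem zc_le (M : Subgroup G) : zc M ≤ M := inf_le_left

theorem zc_conj {M : Subgroup G} {g : G} (hg : g ∈ Subgroup.normalizer (M : Set G)) {z : G}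
    (hz : z ∈ zc M) : g * z * g⁻¹ ∈ zc M := by
  obtain ⟨hz1, hz2⟩ := Subgroup.mem_inf.1 hz
  refine Subgroup.mem_inf.2 ⟨(Subgroup.mem_normalizer_iff.1 hg z).1 hz1, ?_⟩
  rw [Subgroup.mem_centralizer_iff]
  intro n hn
  have hn' : g⁻¹ * n * g ∈ M := (Subgroup.mem_normalizer_iff''.1 hg n).1 hn
  have h1 := (Subgroup.mem_centralizer_iff.1 hz2) _ hn'
  calc n * (g * z * g⁻¹) = g * ((g⁻¹ * n * g) * z) * g⁻¹ := by group
    _ = g * (z * (g⁻¹ * n * g)) * g⁻¹ := by rw [h1]
    _ = g * z * g⁻¹ * n := by group

theorem zc_normal {M : Subgroup G} (hM : M.Normal) : (zc M).Normal := by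
  constructor
  intro z hz g
  apply zc_conj _ hz
  rw [Subgroup.normalizer_eq_top_iff.2 hM]
  exact Subgroup.mem_top g

theorem sup_cj_le_centralizer {p : ℕ} {A : Subgroup G} (hA : IsSoft p A) {g z : G}
    (hz : z ∈ A ⊓ cj g A) : A ⊔ cj g A ≤ Subgroup.centralizer {z} := by
  obtain ⟨hz1, hz2⟩ := Subgroup.mem_inf.1 hz
  have h1 : A ≤ Subgroup.centralizer {z} := by
    intro a ha
    rw [Subgroup.mem_centralizer_iff]
    intro x hx
    rw [Set.mem_singleton_iff] at hx
    rw [hx]
    exact hA.comm z hz1 a ha
  have h2 : cj g A ≤ Subgroup.centralizer {z} := by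
    intro a ha
    rw [Subgroup.mem_centralizer_iff]
    intro x hx
    rw [Set.mem_singleton_iff] at hx
    rw [hx]
    rw [mem_cj] at ha hz2
    obtain ⟨a', ha', rfl⟩ := ha
    obtain ⟨z', hz', rfl⟩ := hz2
    have := hA.comm z' hz' a' ha'
    calc g * z' * g⁻¹ * (g * a' * g⁻¹) = g * (z' * a') * g⁻¹ := by group
      _ = g * (a' * z') * g⁻¹ := by rw [this]
      _ = g * a' * g⁻¹ * (g * z' * g⁻¹) := by group
  exact sup_le h1 h2

section Top

variable [Finite G] {p : ℕ} [hp : Fact p.Prime]

theorem normal_of_card (hG : IsPGroup p G) {A : Subgroup G} (hA : IsSoft p A) {M : Subgroup G}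
    (hAM : A ≤ M) (hM : Nat.card G = p * Nat.card M) : M.Normal := by
  have hMtop : M ≠ ⊤ := by
    intro h
    rw [h, Subgroup.card_top] at hM
    have : 0 < Nat.card G := Nat.card_pos
    have := hp.out.one_lt
    nlinarith
  have h1 := ni hG hA hAM hMtop
  rw [← hM] at h1
  rw [← Subgroup.normalizer_eq_top_iff]
  exact (Subgroup.card_eq_iff_eq_top _).1 h1

theorem ne_top_of_card {M : Subgroup G} (hM : Nat.card G = p * Nat.card M) : M ≠ ⊤ := by
  intro h
  rw [h, Subgroup.card_top] at hM
  have : 0 < Nat.card G := Nat.card_pos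
  have := hp.out.one_lt
  nlinarith

/-- Two conjugates of `A` by an element outside the maximal subgroup `M` generate `M`. -/
theorem sup_cj_eq (hG : IsPGroup p G) {A : Subgroup G} (hA : IsSoft p A) {M : Subgroup G}
    (hAM : A ≤ M) (hM : Nat.card G = p * Nat.card M) {u : G} (hu : u ∉ M) :
    A ⊔ cj u A = M := by
  have hMn : M.Normal := normal_of_card hG hA hAM hM
  have hMtop : M ≠ ⊤ := ne_top_of_card hM
  have hcjM : cj u A ≤ M := by
    apply cj_le_of_mem_normalizer hAM
    rw [Subgroup.normalizer_eq_top_iff.2 hMn]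
    exact Subgroup.mem_top u
  set H := A ⊔ cj u A with hH
  have hHM : H ≤ M := sup_le hAM hcjM
  by_contra hne
  have hHlt : H < M := lt_of_le_of_ne hHM hne
  have hHtop : H ≠ ⊤ := fun h => hMtop (top_le_iff.1 (h ▸ hHM))
  -- u normalizes H
  have hAH' : A ≤ cj u⁻¹ H := by
    intro a ha
    rw [mem_cj]
    refine ⟨u * a * u⁻¹, ?_, by group⟩
    exact (le_sup_right : cj u A ≤ H) (mem_cj.2 ⟨a, ha, rfl⟩)
  have hcardH' : Nat.card (cj u⁻¹ H) = Nat.card H := card_cj _ _
  have hHeq : cj u⁻¹ H = H := by
    rcases chain hG hA hAH' (le_sup_left : A ≤ H) with h | h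
    · exact Subgroup.eq_of_le_of_card_ge h hcardH'.ge
    · exact (Subgroup.eq_of_le_of_card_ge h hcardH'.le).symm
  have huN : u ∈ Subgroup.normalizer (H : Set G) := by
    have := cj_eq_iff_mem_normalizer.1 hHeq
    simpa using (Subgroup.normalizer (H : Set G)).inv_mem this
  have hcard := ni hG hA (le_sup_left : A ≤ H) hHtop
  rcases chain hG hA ((le_sup_left : A ≤ H).trans Subgroup.le_normalizer) hAM with h | h
  · exact hu (h huN)
  · have hlt : M < Subgroup.normalizer (H : Set G) :=
      lt_of_le_of_ne h (fun h' => hu (h' ▸ huN))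
    have h1 : Subgroup.normalizer (H : Set G) = ⊤ :=
      eq_of_lt_of_le_of_card hp.out hlt le_top (by rw [Subgroup.card_top]; exact hM)
    rw [h1, Subgroup.card_top, hM] at hcard
    have hpos : 0 < p := hp.out.pos
    have h2 : Nat.card M = Nat.card H := Nat.eq_of_mul_eq_mul_left hpos hcard
    exact hne (Subgroup.eq_of_le_of_card_ge hHM h2.le)

/-- The intersection of two such conjugates is the centre of `M`. -/
theorem inf_cj_eq (hG : IsPGroup p G) {A : Subgroup G} (hA : IsSoft p A) {M : Subgroup G}
    (hAM : A ≤ M) (hM : Nat.card G = p * Nat.card M) {u : G} (hu : u ∉ M) :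
    A ⊓ cj u A = zc M := by
  have hMn : M.Normal := normal_of_card hG hA hAM hM
  have hsup := sup_cj_eq hG hA hAM hM hu
  apply le_antisymm
  · intro z hz
    have h1 := sup_cj_le_centralizer hA hz
    rw [hsup] at h1
    refine Subgroup.mem_inf.2 ⟨hAM (Subgroup.mem_inf.1 hz).1, ?_⟩
    rw [Subgroup.mem_centralizer_iff]
    intro n hn
    exact (Subgroup.mem_centralizer_iff.1 (h1 hn) z rfl).symm
  · intro z hz
    have hzA : ∀ w ∈ zc M, w ∈ A := by
      intro w hw
      apply hA.cent
      exact Subgroup.centralizer_le (show (A : Set G) ⊆ M from hAM) (Subgroup.mem_inf.1 hw).2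
    refine Subgroup.mem_inf.2 ⟨hzA z hz, ?_⟩
    rw [mem_cj]
    refine ⟨u⁻¹ * z * u, ?_, by group⟩
    have := (zc_normal hMn).conj_mem z hz u⁻¹
    rw [inv_inv] at this
    exact hzA _ this

end Top

/-- The maximal subgroup containing a soft subgroup of index `p ^ (n + 1)` has class `n + 1`. -/
theorem class_aux (p : ℕ) [hp : Fact p.Prime] : ∀ n : ℕ, ∀ (G : Type u) [Group G] [Finite G],
    IsPGroup p G → ∀ A : Subgroup G, IsSoft p A → ∀ M : Subgroup G, A ≤ M →
    Nat.card G = p * Nat.card M → Nat.card M = p ^ n * Nat.card A →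
    Group.nilpotencyClass M = n + 1 := by
  intro n
  induction n with
  | zero =>
    intro G _ _ hG A hA M hAM hM hMA
    rw [pow_zero, one_mul] at hMA
    have hMeq : A = M := Subgroup.eq_of_le_of_card_ge hAM hMA.le
    subst hMeq
    have : Group.IsNilpotent A := (hG.to_subgroup A).isNilpotent
    apply le_antisymm
    · rw [← Subgroup.upperCentralSeries_eq_top_iff_nilpotencyClass_le, Subgroup.upperCentralSeries_one, eq_top_iff]
      intro x _
      rw [Subgroup.mem_center_iff]
      intro y
      exact Subtype.ext (hA.comm y y.2 x x.2)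
    · by_contra hcon
      have h0 : Group.nilpotencyClass A = 0 := by omega
      rw [Group.nilpotencyClass_zero_iff_subsingleton] at h0
      apply hA.ne_bot_or
      rw [Subgroup.eq_bot_iff_forall]
      intro x hx
      have := Subsingleton.elim (⟨x, hx⟩ : A) 1
      exact congrArg Subtype.val this
  | succ n ih =>
    intro G _ _ hG A hA M hAM hM hMA
    have hMn := normal_of_card hG hA hAM hM
    have hMtop := ne_top_of_card (p := p) hM
    have hp1 : 1 < p := hp.out.one_lt
    have hAltM : A < M := by
      refine lt_of_le_of_ne hAM ?_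
      intro h
      subst h
      have hApos : 0 < Nat.card A := Nat.card_pos
      have : 1 < p ^ (n + 1) := Nat.one_lt_pow (by omega) hp1
      nlinarith
    have hN1M := hA.normalizer_le_of_lt hG hAltM
    have hN1top : Subgroup.normalizer (A : Set G) ≠ ⊤ := fun h => hMtop (top_le_iff.1 (h ▸ hN1M))
    have hf1 := f1 hG hA hN1top
    obtain ⟨u, -, hu⟩ := SetLike.exists_of_lt (lt_top_iff_ne_top.2 hMtop)
    have hinf := inf_cj_eq hG hA hAM hM hu
    have hZn : (zc M).Normal := zc_normal hMn
    have hZA : zc M ≤ A := hinf ▸ inf_le_left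
    have hZM : zc M ≤ M := zc_le M
    have hGq : IsPGroup p (G ⧸ zc M) := hG.to_quotient _
    have hZpos : 0 < Nat.card (zc M) := Nat.card_pos
    have hcardq : Nat.card (G ⧸ zc M) = p * Nat.card (M.map (QuotientGroup.mk' (zc M))) := by
      have h1 := card_map_mk_mul (zc M) hZM
      have h2 := Subgroup.card_eq_card_quotient_mul_card_subgroup (zc M)
      apply Nat.eq_of_mul_eq_mul_right hZpos
      rw [← h2, hM, ← h1]
      ring
    by_cases hc : cstar (zc M) A ≤ A
    · exfalso
      have hsoft := soft_quotient_A (zc M) hA hZA hc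
      have huq : QuotientGroup.mk' (zc M) u ∉ M.map (QuotientGroup.mk' (zc M)) :=
        fun h => hu ((mem_map_mk_iff _ hZM u).1 h)
      have hinfq := inf_cj_eq hGq hsoft (Subgroup.map_mono hAM) hcardq huq
      have hbot : A.map (QuotientGroup.mk' (zc M)) ⊓
          cj (QuotientGroup.mk' (zc M) u) (A.map (QuotientGroup.mk' (zc M))) = ⊥ := by
        rw [eq_bot_iff]
        intro x hx
        obtain ⟨hx1, hx2⟩ := Subgroup.mem_inf.1 hx
        rw [Subgroup.mem_map] at hx1
        obtain ⟨a, ha, rfl⟩ := hx1
        rw [mem_cj] at hx2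
        obtain ⟨y, hy, hyx⟩ := hx2
        rw [Subgroup.mem_map] at hy
        obtain ⟨a', ha', rfl⟩ := hy
        have h0 : QuotientGroup.mk' (zc M) (u * a' * u⁻¹) = QuotientGroup.mk' (zc M) a := by
          rw [← hyx]
          simp
        have h1 : a⁻¹ * (u * a' * u⁻¹) ∈ zc M := by
          rw [← QuotientGroup.eq_one_iff]
          have : ((a⁻¹ * (u * a' * u⁻¹) : G) : G ⧸ zc M) =
              (QuotientGroup.mk' (zc M) a)⁻¹ * QuotientGroup.mk' (zc M) (u * a' * u⁻¹) := by
            simp
          rw [this, h0, inv_mul_cancel]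
        have h2 : u * a' * u⁻¹ ∈ A := by
          have : u * a' * u⁻¹ = a * (a⁻¹ * (u * a' * u⁻¹)) := by group
          rw [this]
          exact A.mul_mem ha (hZA h1)
        have h3 : u * a' * u⁻¹ ∈ zc M :=
          hinf ▸ Subgroup.mem_inf.2 ⟨h2, mem_cj.2 ⟨a', ha', rfl⟩⟩
        rw [Subgroup.mem_bot, ← h0]
        exact (QuotientGroup.eq_one_iff _).2 h3
      rw [hbot] at hinfq
      have hMq : M.map (QuotientGroup.mk' (zc M)) = ⊥ := by
        by_contra hne
        have : Nontrivial (M.map (QuotientGroup.mk' (zc M))) :=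
          (Subgroup.nontrivial_iff_ne_bot _).2 hne
        have hcn := (hGq.to_subgroup (M.map (QuotientGroup.mk' (zc M)))).center_nontrivial
        obtain ⟨c, hc1⟩ := exists_ne (1 : Subgroup.center (M.map (QuotientGroup.mk' (zc M))))
        have hmem : ((c : M.map (QuotientGroup.mk' (zc M))) : G ⧸ zc M) ∈
            zc (M.map (QuotientGroup.mk' (zc M))) := by
          refine Subgroup.mem_inf.2 ⟨(c : M.map (QuotientGroup.mk' (zc M))).2, ?_⟩
          rw [Subgroup.mem_centralizer_iff]
          intro m hm
          have := Subgroup.mem_center_iff.1 c.2 ⟨m, hm⟩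
          exact congrArg Subtype.val this
        rw [← hinfq, Subgroup.mem_bot] at hmem
        apply hc1
        apply Subtype.ext
        apply Subtype.ext
        exact hmem
      rw [Subgroup.map_eq_bot_iff, QuotientGroup.ker_mk'] at hMq
      exact hAltM.not_ge (hMq.trans hZA)
    · have hAc : A < cstar (zc M) A :=
        lt_of_le_of_ne (le_cstar _ hA) (fun h => hc (h ▸ le_rfl))
      have hceq := eq_of_lt_of_le_of_card hp.out hAc (cstar_le_normalizer _ hZA) hA.card_norm
      have hsoft := soft_quotient_N (zc M) hp.out hA hZA hceq.ge hf1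
      have hcardMq : Nat.card (M.map (QuotientGroup.mk' (zc M))) =
          p ^ n * Nat.card ((Subgroup.normalizer (A : Set G)).map (QuotientGroup.mk' (zc M))) := by
        have h1 := card_map_mk_mul (zc M) hZM
        have h2 := card_map_mk_mul (zc M) (hZA.trans Subgroup.le_normalizer)
        apply Nat.eq_of_mul_eq_mul_right hZpos
        rw [h1, mul_assoc, h2, hA.card_norm, hMA]
        ring
      have hclass := ih (G ⧸ zc M) hGq _ hsoft (M.map (QuotientGroup.mk' (zc M)))
        (Subgroup.map_mono hN1M) hcardq hcardMq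
      let φ : M →* M.map (QuotientGroup.mk' (zc M)) := (QuotientGroup.mk' (zc M)).subgroupMap M
      have hφs : Function.Surjective φ := MonoidHom.subgroupMap_surjective _ _
      have hker : φ.ker = Subgroup.center M := by
        ext m
        rw [MonoidHom.mem_ker, Subgroup.mem_center_iff]
        constructor
        · intro h
          have h1 : (m : G) ∈ zc M := by
            have := congrArg Subtype.val h
            rw [← QuotientGroup.eq_one_iff]
            exact this
          intro g
          apply Subtype.ext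
          exact (Subgroup.mem_centralizer_iff.1 (Subgroup.mem_inf.1 h1).2 g g.2)
        · intro h
          apply Subtype.ext
          show (QuotientGroup.mk' (zc M)) (m : G) = 1
          rw [QuotientGroup.mk'_apply, QuotientGroup.eq_one_iff]
          refine Subgroup.mem_inf.2 ⟨m.2, ?_⟩
          rw [Subgroup.mem_centralizer_iff]
          intro g hg
          exact congrArg Subtype.val (h ⟨g, hg⟩)
      have : Group.IsNilpotent (M.map (QuotientGroup.mk' (zc M))) := (hGq.to_subgroup _).isNilpotent
      have : Group.IsNilpotent M := (hG.to_subgroup _).isNilpotent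
      apply le_antisymm
      · have h1 := Group.nilpotencyClass_le_of_ker_le_center φ hker.le
        rw [hclass] at h1
        exact h1
      · have hle : Subgroup.center M ≤ φ.ker := hker.ge
        let ψ : M ⧸ Subgroup.center M →* M.map (QuotientGroup.mk' (zc M)) :=
          QuotientGroup.lift (Subgroup.center M) φ hle
        have hψ : Function.Surjective ψ := by
          intro y
          obtain ⟨m, rfl⟩ := hφs y
          exact ⟨QuotientGroup.mk m, rfl⟩
        have h1 := Group.nilpotencyClass_le_of_surjective ψ hψ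
        rw [hclass, Group.nilpotencyClass_quotient_center] at h1
        omega

theorem card_subgroupOf_of_le {H L : Subgroup G} (h : H ≤ L) :
    Nat.card (H.subgroupOf L) = Nat.card H :=
  Nat.card_congr (Subgroup.subgroupOfEquivOfLe h).toEquiv

theorem IsSoft.subgroupOf {p : ℕ} {A : Subgroup G} (hA : IsSoft p A) {L : Subgroup G}
    (hAL : A ≤ L) (hNL : Subgroup.normalizer (A : Set G) ≤ L) : IsSoft p (A.subgroupOf L) := by
  refine ⟨?_, ?_, ?_⟩
  · intro a ha b hb
    exact Subtype.ext (hA.comm a ha b hb)
  · intro x hx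
    rw [Subgroup.mem_subgroupOf]
    apply hA.cent
    rw [Subgroup.mem_centralizer_iff] at hx ⊢
    intro a ha
    have := hx ⟨a, hAL ha⟩ (by rw [SetLike.mem_coe, Subgroup.mem_subgroupOf]; exact ha)
    exact congrArg Subtype.val this
  · rw [← Subgroup.subgroupOf_normalizer_eq hAL, card_subgroupOf_of_le hNL,
      card_subgroupOf_of_le hAL]
    exact hA.card_norm

/-- Nilpotency class of the subgroups in the tower of a soft subgroup. -/
theorem class_of_tower [Finite G] {p : ℕ} [hp : Fact p.Prime] (hG : IsPGroup p G) {A : Subgroup G}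
    (hA : IsSoft p A) {K : Subgroup G} (hAK : A ≤ K) (hK : K ≠ ⊤) {i : ℕ}
    (hcard : Nat.card K = p ^ i * Nat.card A) : Group.nilpotencyClass K = i + 1 := by
  set L := Subgroup.normalizer (K : Set G) with hL
  have hKL : K ≤ L := Subgroup.le_normalizer
  have hcardL : Nat.card L = p * Nat.card K := ni hG hA hAK hK
  have hNL : Subgroup.normalizer (A : Set G) ≤ L := by
    by_cases hAeq : A = K
    · rw [hL, ← hAeq]
    · exact (hA.normalizer_le_of_lt hG (lt_of_le_of_ne hAK hAeq)).trans hKL
  have hAL : A ≤ L := hAK.trans hKL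
  have hsoft := hA.subgroupOf hAL hNL
  have hGL : IsPGroup p L := hG.to_subgroup L
  have h1 : Nat.card L = p * Nat.card (K.subgroupOf L) := by
    rw [card_subgroupOf_of_le hKL]; exact hcardL
  have h2 : Nat.card (K.subgroupOf L) = p ^ i * Nat.card (A.subgroupOf L) := by
    rw [card_subgroupOf_of_le hKL, card_subgroupOf_of_le hAL]; exact hcard
  have h3 : A.subgroupOf L ≤ K.subgroupOf L := by
    intro x hx
    rw [Subgroup.mem_subgroupOf] at hx ⊢
    exact hAK hx
  have hclass := class_aux p i L hGL _ hsoft (K.subgroupOf L) h3 h1 h2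
  have e : K.subgroupOf L ≃* K := Subgroup.subgroupOfEquivOfLe hKL
  have : Group.IsNilpotent (K.subgroupOf L) := (hGL.to_subgroup _).isNilpotent
  have : Group.IsNilpotent K := (hG.to_subgroup _).isNilpotent
  apply le_antisymm
  · rw [← hclass]
    exact Group.nilpotencyClass_le_of_surjective e.toMonoidHom e.surjective
  · rw [← hclass]
    exact Group.nilpotencyClass_le_of_surjective e.symm.toMonoidHom e.symm.surjective

end Cfsg.Agent.Helper3.Soft
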