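import Cfsg.Agent.Helper8.TensSE

/-!
# S5666, leaf [A2], part A: the pure reduction for a symmetric component side

Generic setting (apply it to `t.flip`): `t : U →ₗ W →ₗ V`, the *component side* `(U, s)` with `s`
symmetric, the *fibre side* `(W, a)` with `a` alternating, `B` on `V` with
`B (t u w) (t u' w') = s u u' * a w w'`, `X` a group of isometries of `B`.  For `q ∈ X` in the
unipotent radical at the fibre `U ⊗ w₀` with component `C` at `z ⊥ w₀`:
`[1 ⊗ t_z(c), q] = Xi C C' (-c)` (helper8's `pure_red`, with the form `B` instead of a quadratic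
form), and the consequences `Xi_memG`, `starG`.
-/

set_option autoImplicit false
set_option linter.unusedSectionVars false
set_option linter.unusedVariables false

namespace Cfsg.Agent.Helper6.SpO.H3

open Module Cfsg.Agent.Helper7.ExtF Cfsg.Agent.Helper8.Tens Cfsg.Agent.Helper3.TensOm

variable {F : Type*} [Field F] {U W V : Type*} [AddCommGroup U] [Module F U]
  [AddCommGroup W] [Module F W] [AddCommGroup V] [Module F V]
  {t : U →ₗ[F] W →ₗ[F] V} {B : LinearMap.BilinForm F V} {s : LinearMap.BilinForm F U}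
  {a : LinearMap.BilinForm F W} {X : Subgroup (V ≃ₗ[F] V)}

/-- generic hypotheses: component side `(U, s)` symmetric, fibre side `(W, a)` alternating. -/
structure HypG (t : U →ₗ[F] W →ₗ[F] V) (B : LinearMap.BilinForm F V)
    (s : LinearMap.BilinForm F U) (a : LinearMap.BilinForm F W) (X : Subgroup (V ≃ₗ[F] V)) :
    Prop where
  symm₁ : ∀ u u', s u u' = s u' u
  nd₁ : ∀ u, (∀ v, s u v = 0) → u = 0
  alt₂ : ∀ w, a w w = 0
  nd₂ : ∀ w, (∀ y, a w y = 0) → w = 0
  pol : ∀ u w u' w', B (t u w) (t u' w') = s u u' * a w w'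
  isom : ∀ g ∈ X, ∀ v v', B (g v) (g v') = B v v'

theorem B_pureG (ht : IsTensorProduct t) (h : HypG t B s a X) (u : U) (w : W) (v : V) :
    B v (t u w) = s (ev ht (a.flip w) v) u := by
  have e : B.flip (t u w) = (s.flip u).comp (ev ht (a.flip w)) := by
    apply ext_pure ht
    intro u' w'
    rw [LinearMap.comp_apply, ev_t]
    show B (t u' w') (t u w) = s ((a.flip w) w' • u') u
    rw [h.pol, map_smul, LinearMap.smul_apply, smul_eq_mul, mul_comm]
    rfl
  exact LinearMap.congr_fun e v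

theorem ev_lamG (ht : IsTensorProduct t) (h : HypG t B s a X) {w₀ : W} {q : V ≃ₗ[F] V}
    (hqX : q ∈ X) (hq : InRS t a w₀ q) (x : V) :
    ev ht (a.flip w₀) (q x) = ev ht (a.flip w₀) x := by
  have hsub : ev ht (a.flip w₀) (q x) - ev ht (a.flip w₀) x = 0 := by
    apply h.nd₁
    intro u
    rw [map_sub, LinearMap.sub_apply, ← B_pureG ht h, ← B_pureG ht h]
    have := h.isom q hqX x (t u w₀)
    rw [hq.1] at this
    rw [this, sub_self]
  exact sub_eq_zero.mp hsub

theorem ev_zG (ht : IsTensorProduct t) (h : HypG t B s a X) {w₀ z : W} {q : V ≃ₗ[F] V}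
    (hqX : q ∈ X) (hq : InRS t a w₀ q) {C C' : Module.End F U}
    (hC : ∀ u, q (t u z) = t u z + t (C u) w₀) (hadj : IsAdj s C C') (x : V) :
    ev ht (a.flip z) (q x) = ev ht (a.flip z) x - C' (ev ht (a.flip w₀) x) := by
  have hsub : ev ht (a.flip z) (q x) - (ev ht (a.flip z) x - C' (ev ht (a.flip w₀) x)) = 0 := by
    apply h.nd₁
    intro u
    rw [map_sub, LinearMap.sub_apply, map_sub, LinearMap.sub_apply, ← B_pureG ht h,
      ← B_pureG ht h]
    have e1 : s (C' (ev ht (a.flip w₀) x)) u = B x (t (C u) w₀) := by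
      rw [B_pureG ht h, h.symm₁, ← hadj, h.symm₁]
    rw [e1]
    have h1 := h.isom q hqX x (t u z)
    rw [hC, map_add] at h1
    have h2 := h.isom q hqX x (t (C u) w₀)
    rw [hq.1] at h2
    rw [h2] at h1
    linear_combination h1
  exact sub_eq_zero.mp hsub

/-- **pure reduction**, for the form `B`. -/
theorem pure_redG (ht : IsTensorProduct t) (h : HypG t B s a X) {w₀ z : W} {q : V ≃ₗ[F] V}
    (hqX : q ∈ X) (hq : InRS t a w₀ q) (hz : a z w₀ = 0) {C C' : Module.End F U}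
    (hC : ∀ u, q (t u z) = t u z + t (C u) w₀) (hadj : IsAdj s C C') (c : F) :
    yB ht a h.alt₂ z c * q * (yB ht a h.alt₂ z c)⁻¹ * q⁻¹ = Xi ht h.alt₂ C C' hz (-c) := by
  have hz' : a w₀ z = 0 := alt_perp_symm a h.alt₂ hz
  have key : ∀ x, q (t (ev ht (a.flip z) x) z)
      = t (ev ht (a.flip z) (q x)) z + MC ht a C C' w₀ z (q x) := by
    intro x
    rw [MC_apply, ev_zG ht h hqX hq hC hadj, ev_lamG ht h hqX hq, hC]
    simp only [map_sub, LinearMap.sub_apply]
    abel
  have hyinv : ∀ v, (yB ht a h.alt₂ z c)⁻¹ v = v - c • t (ev ht (a.flip z) v) z := by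
    intro v
    rw [yB, xB_inv_apply, lw, ev_smul, LinearMap.smul_apply, map_smul, LinearMap.smul_apply]
  have hNM : ∀ v, ev ht (a.flip z) (MC ht a C C' w₀ z v) = 0 := by
    intro v
    rw [MC_apply]
    simp only [map_add, ev_t]
    have e1 : (a.flip z) w₀ = 0 := hz'
    have e2 : (a.flip z) z = 0 := h.alt₂ z
    rw [e1, e2]; simp
  have e : q * (yB ht a h.alt₂ z c)⁻¹ = (yB ht a h.alt₂ z c)⁻¹ * Xi ht h.alt₂ C C' hz (-c) * q := by
    apply LinearEquiv.ext
    intro x
    rw [LinearEquiv.mul_apply, LinearEquiv.mul_apply, LinearEquiv.mul_apply, hyinv, hyinv,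
      Xi_apply, map_sub, map_smul, key, map_add, map_smul, hNM]
    simp only [smul_zero, add_zero, neg_smul, smul_add]
    abel
  calc yB ht a h.alt₂ z c * q * (yB ht a h.alt₂ z c)⁻¹ * q⁻¹
      = yB ht a h.alt₂ z c * (q * (yB ht a h.alt₂ z c)⁻¹) * q⁻¹ := by group
    _ = Xi ht h.alt₂ C C' hz (-c) := by rw [e]; group

/-- the explicit elements obtained by pure reduction lie in `X`. -/
theorem Xi_memG (ht : IsTensorProduct t) (h : HypG t B s a X)
    (hXB : ∀ w c, yB ht a h.alt₂ w c ∈ X) {w₀ z : W} {q : V ≃ₗ[F] V}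
    (hqX : q ∈ X) (hq : InRS t a w₀ q) (hz : a z w₀ = 0) {C C' : Module.End F U}
    (hC : ∀ u, q (t u z) = t u z + t (C u) w₀) (hadj : IsAdj s C C') (c : F) :
    Xi ht h.alt₂ C C' hz c ∈ X := by
  have := pure_redG ht h hqX hq hz hC hadj (-c)
  rw [neg_neg] at this
  rw [← this]
  have hy := hXB z (-c)
  exact X.mul_mem (X.mul_mem (X.mul_mem hy hqX) (X.inv_mem hy)) (X.inv_mem hqX)

/-- the elements `ζ` of `H` in the radical lie in `X`. -/
theorem zeta_memG (ht : IsTensorProduct t) (h : HypG t B s a X)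
    (hXB : ∀ w c, yB ht a h.alt₂ w c ∈ X) {w₀ z' : W} (hz' : a z' w₀ = 0) (c : F) :
    Xi ht h.alt₂ 1 1 hz' c ∈ X := by
  rw [← zeta_eq ht h.alt₂ hz' c]
  exact X.mul_mem (hXB _ _) (hXB _ _)

/-- **(★)**: if every central element `nN N w₀` of `X` has a scalar parameter, then `C + C'` is a
scalar for the component `C` of an element of the radical in `X`. -/
theorem starG (ht : IsTensorProduct t) (h : HypG t B s a X)
    (hXB : ∀ w c, yB ht a h.alt₂ w c ∈ X) {w₀ z z' : W}
    (hcen : ∀ N : Module.End F U, nN ht h.alt₂ N w₀ ∈ X → ∃ c : F, N = c • 1)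
    {q : V ≃ₗ[F] V} (hqX : q ∈ X) (hq : InRS t a w₀ q) (hz : a z w₀ = 0) (hz' : a z' w₀ = 0)
    (hzz' : a z z' ≠ 0) {C C' : Module.End F U}
    (hC : ∀ u, q (t u z) = t u z + t (C u) w₀) (hadj : IsAdj s C C') :
    ∃ c : F, C + C' = c • 1 := by
  have h1 := Xi_memG ht h hXB hqX hq hz hC hadj 1
  have h2 := zeta_memG ht h hXB hz' 1
  have h3 := pairing ht h.alt₂ C C' hz hz' 1 1
  have h4 : nN ht h.alt₂ ((-(1 * 1 * a z z')) • (C + C')) w₀ ∈ X := by
    rw [← h3]
    exact X.mul_mem (X.mul_mem (X.mul_mem h1 h2) (X.inv_mem h1)) (X.inv_mem h2)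
  obtain ⟨c, hc⟩ := hcen _ h4
  refine ⟨(-(a z z'))⁻¹ * c, ?_⟩
  rw [one_mul, one_mul] at hc
  rw [mul_smul, ← hc, smul_smul, inv_mul_cancel₀ (neg_ne_zero.mpr hzz'), one_smul]

end Cfsg.Agent.Helper6.SpO.H3
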