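import Cfsg.Agent.Helper3.SpOA2A
import Cfsg.Agent.Helper8.TensSF

/-!
# S5666, leaf [A2], part B: every component of an element of the radical is a scalar

Generic setting of part A.  The pairing of two explicit elements `Xi C C'` (at `z`) and `Xi D D'`
(at `z'`) is the central element with parameter `(c c' a(z',z)) (C D' + D C')`; conjugation of
`Xi` by elements `R ⊗ T`; and the conclusion `comp_scalarG`: if all central elements of `X` are
scalar and `X` contains `1 ⊗ Sp(W)` and enough involutions `r ⊗ 1`, then each component is a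
scalar (modulo the operator lemma `hSk`, helper2's `skew_eq_zero`).
-/

set_option autoImplicit false
set_option linter.unusedSectionVars false
set_option linter.unusedVariables false

namespace Cfsg.Agent.Helper6.SpO.H3

open Module Cfsg.Agent.Helper7.ExtF Cfsg.Agent.Helper8.Tens Cfsg.Agent.Helper3.TensOm

variable {F : Type*} [Field F] {U W V : Type*} [AddCommGroup U] [Module F U]
  [AddCommGroup W] [Module F W] [AddCommGroup V] [Module F V]
  {t : U →ₗ[F] W →ₗ[F] V} {B : LinearMap.BilinForm F V} {s : LinearMap.BilinForm F U}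
  {a : LinearMap.BilinForm F W} {X : Subgroup (V ≃ₗ[F] V)}

/-- **the pairing** of two explicit elements of the radical. -/
theorem pairing2 (ht : IsTensorProduct t) (halt₂ : ∀ w, a w w = 0) (C C' D D' : Module.End F U)
    {w₀ z z' : W} (hz : a z w₀ = 0) (hz' : a z' w₀ = 0) (c c' : F) :
    Xi ht halt₂ C C' hz c * Xi ht halt₂ D D' hz' c' * (Xi ht halt₂ C C' hz c)⁻¹ *
        (Xi ht halt₂ D D' hz' c')⁻¹
      = nN ht halt₂ ((c * c' * a z' z) • (C * D' + D * C')) w₀ := by
  unfold Xi nN
  apply uni_comm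
  have hAB : (c • MC ht a C C' w₀ z) * (c' • MC ht a D D' w₀ z')
      = tl ht ((c * c' * a z' z) • (C * D')) (P a w₀ w₀) := by
    rw [smul_mul_smul_comm, MC_mul_MC ht halt₂ C C' D D' hz hz', ← tl_smul_left, smul_smul]
  have hBA : (c' • MC ht a D D' w₀ z') * (c • MC ht a C C' w₀ z)
      = tl ht ((c * c' * a z z') • (D * C')) (P a w₀ w₀) := by
    rw [smul_mul_smul_comm, MC_mul_MC ht halt₂ D D' C C' hz' hz, ← tl_smul_left, smul_smul,
      mul_comm c' c]
  have h3 : (c' • MC ht a D D' w₀ z') * (c • MC ht a C C' w₀ z) * (c' • MC ht a D D' w₀ z')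
      = 0 := by
    rw [hBA, mul_smul_comm, n0_mul_MC ht halt₂ D D' _ hz', smul_zero]
  have h4 : (c • MC ht a C C' w₀ z) * (c' • MC ht a D D' w₀ z') * (c • MC ht a C C' w₀ z)
      = 0 := by
    rw [hAB, mul_smul_comm, n0_mul_MC ht halt₂ C C' _ hz, smul_zero]
  rw [h3, h4, zero_mul, hAB, hBA, alt_skew a halt₂ z z']
  simp only [add_zero, sub_zero, tl_smul_left, mul_neg, neg_smul, tl_neg_left, tl_add_left,
    smul_add]
  abel

/-- conjugation of an explicit element by `R ⊗ T`, `T` an isometry fixing `w₀`. -/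
theorem Xi_conjG (ht : IsTensorProduct t) (halt₂ : ∀ w, a w w = 0) {g₀ : V ≃ₗ[F] V}
    {R R' : Module.End F U} {T T' : Module.End F W}
    (hg : ∀ u w, g₀ (t u w) = t (R u) (T w)) (hg' : ∀ u w, g₀⁻¹ (t u w) = t (R' u) (T' w))
    (hR : ∀ u, R' (R u) = u) (hT : ∀ w w', a (T' w) w' = a w (T w')) {w₀ z : W}
    (hw₀ : T w₀ = w₀) (C C' : Module.End F U) (hz : a z w₀ = 0) (hTz : a (T z) w₀ = 0) (c : F) :
    g₀ * Xi ht halt₂ C C' hz c * g₀⁻¹ = Xi ht halt₂ (R * C * R') (R * C' * R') hTz c := by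
  apply equiv_ext_pure ht
  intro u w
  have e0 : t (R (R' u)) (T (T' w)) = t u w := by
    rw [← hg, ← hg', apply_inv_self]
  have e1 : a (T' w) w₀ = a w w₀ := by rw [hT, hw₀]
  rw [LinearEquiv.mul_apply, LinearEquiv.mul_apply, hg', Xi_t, Xi_t]
  simp only [map_add, map_smul, hg, hw₀, hT, e1, Module.End.mul_apply, hR, e0]

/-- adjoints for a nondegenerate symmetric form. -/
theorem exists_adjS [FiniteDimensional F U] (hsymm : ∀ u u', s u u' = s u' u)
    (hnd : ∀ u, (∀ v, s u v = 0) → u = 0) (C : Module.End F U) :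
    ∃ C' : Module.End F U, IsAdj s C C' := by
  have hnd' : s.Nondegenerate := by
    refine ⟨hnd, fun y hy => hnd y (fun x => ?_)⟩
    rw [hsymm, hy]
  refine ⟨s.leftAdjointOfNondegenerate hnd' C, fun x y => ?_⟩
  have h := LinearMap.BilinForm.isAdjointPairLeftAdjointOfNondegenerate s hnd' C
  have h1 : s (s.leftAdjointOfNondegenerate hnd' C y) x = s y (C x) := h y x
  rw [hsymm, ← h1, hsymm]

section algebra

variable {A : Type*} [Ring A] [Algebra F A]

theorem alg_KK {K : A} {C C' : A} {σ c₃ : F} (hC : C = K + σ • 1) (hC' : C' = σ • 1 - K)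
    (hprod : C * C' = c₃ • 1) : K * K = (σ * σ - c₃) • 1 := by
  subst hC hC'
  simp only [mul_add, add_mul, mul_sub, sub_mul, smul_mul_assoc, mul_smul_comm, mul_one,
    one_mul] at hprod
  rw [sub_smul, ← hprod]
  module

theorem alg_KrKr {K r : A} {C C' : A} {σ c₄ : F} (hC : C = K + σ • 1) (hC' : C' = σ • 1 - K)
    (hrr : r * r = 1) (hr : C * (r * C' * r) + (r * C * r) * C' = c₄ • 1) :
    K * r * K * r + r * K * r * K = (2 * (σ * σ) - c₄) • 1 := by
  subst hC hC'
  have hrr' : ∀ x : A, r * (r * x) = x := fun x => by rw [← mul_assoc, hrr, one_mul]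
  simp only [mul_add, add_mul, mul_sub, sub_mul, smul_mul_assoc, mul_smul_comm, mul_one,
    one_mul, mul_assoc, hrr, hrr'] at hr ⊢
  rw [sub_smul, ← hr]
  module

end algebra

end Cfsg.Agent.Helper6.SpO.H3
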