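import Cfsg.Agent.Helper3.SpOA2B

/-!
# S5666, leaf [A2], part C: `comp_scalarG`

Generic setting of parts A, B: every component of an element of the radical in `X` is a scalar,
modulo the operator lemma `hSk` (helper2's `skew_eq_zero`).
-/

set_option autoImplicit false
set_option linter.unusedSectionVars false
set_option linter.unusedVariables false
set_option linter.unusedSimpArgs false

namespace Cfsg.Agent.Helper6.SpO.H3

open Module Cfsg.Agent.Helper7.ExtF Cfsg.Agent.Helper8.Tens Cfsg.Agent.Helper3.TensOm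

variable {F : Type*} [Field F] {U W V : Type*} [AddCommGroup U] [Module F U]
  [AddCommGroup W] [Module F W] [AddCommGroup V] [Module F V]
  {t : U →ₗ[F] W →ₗ[F] V} {B : LinearMap.BilinForm F V} {s : LinearMap.BilinForm F U}
  {a : LinearMap.BilinForm F W} {X : Subgroup (V ≃ₗ[F] V)}

theorem Tv_adjG (halt₂ : ∀ w, a w w = 0) (e : W) (c : F) (w w' : W) :
    a (Tv a e (-c) w) w' = a w (Tv a e c w') := by
  rw [← Tv_isom halt₂ e c (Tv a e (-c) w) w', Tv_Tv_neg halt₂]

/-- **all components are scalars.** -/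
theorem comp_scalarG [FiniteDimensional F U] (ht : IsTensorProduct t) (h : HypG t B s a X)
    (h2 : (2 : F) ≠ 0)
    (hXB : ∀ w c, yB ht a h.alt₂ w c ∈ X) {w₀ : W} (hw₀ : w₀ ≠ 0)
    (hcen : ∀ N : Module.End F U, nN ht h.alt₂ N w₀ ∈ X → ∃ c : F, N = c • 1)
    (hSk : ∀ K : Module.End F U, (∀ x y, s (K x) y = - s x (K y)) → (∃ κ : F, K * K = κ • 1) →
      (∀ r : Module.End F U, r * r = 1 → (∃ g ∈ X, ∀ u w, g (t u w) = t (r u) w) →
        ∃ c : F, K * r * K * r + r * K * r * K = c • 1) → K = 0)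
    {q : V ≃ₗ[F] V} (hqX : q ∈ X) (hq : InRS t a w₀ q) {z : W} (hz : a z w₀ = 0)
    {C : Module.End F U} (hC : ∀ u, q (t u z) = t u z + t (C u) w₀) :
    ∃ σ : F, C = σ • 1 := by
  by_cases hzw : ∃ a₀ : F, z = a₀ • w₀
  · obtain ⟨a₀, rfl⟩ := hzw
    refine ⟨0, ?_⟩
    rw [zero_smul]
    apply LinearMap.ext; intro u
    have h1 := hC u
    rw [map_smul, map_smul, hq.1] at h1
    have h3 : t (C u) w₀ = 0 := by
      have := h1
      rwa [left_eq_add] at this
    rcases (t_eq_zero_iff ht).mp h3 with h4 | h4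
    · exact h4
    · exact absurd h4 hw₀
  · push Not at hzw
    obtain ⟨C', hadj⟩ := exists_adjS h.symm₁ h.nd₁ C
    obtain ⟨e, he1, he2⟩ := exists_perp_not_perp a h.nd₂ hw₀ hzw
    have he : a e w₀ = 0 := alt_perp_symm a h.alt₂ he1
    obtain ⟨c₁, hc₁⟩ := starG ht h hXB hcen hqX hq hz he he2 hC hadj
    obtain ⟨σ, rfl⟩ : ∃ σ : F, c₁ = 2 * σ := ⟨c₁ / 2, by field_simp⟩
    -- the second position
    have hz₂ : a (Tv a e 1 z) w₀ = 0 := by
      rw [Tv_apply, map_add, LinearMap.add_apply, map_smul, LinearMap.smul_apply, hz, he,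
        smul_zero, add_zero]
    obtain ⟨α, hα⟩ : ∃ α : F, α = a (Tv a e 1 z) z := ⟨_, rfl⟩
    have hα0 : α ≠ 0 := by
      rw [hα, Tv_apply, map_add, LinearMap.add_apply, map_smul, LinearMap.smul_apply, h.alt₂,
        zero_add, one_mul, smul_eq_mul, alt_skew a h.alt₂ e z]
      exact mul_ne_zero he2 (neg_ne_zero.mpr he2)
    have hw₀T : Tv a e 1 w₀ = w₀ := by
      rw [Tv_apply, he1, mul_zero, zero_smul, add_zero]
    have hG₁ := Xi_memG ht h hXB hqX hq hz hC hadj 1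
    have hconj := Xi_conjG ht h.alt₂ (g₀ := yB ht a h.alt₂ e 1) (R := 1) (R' := 1)
      (T := Tv a e 1) (T' := Tv a e (-1))
      (fun u w => yB_t' ht h.alt₂ e 1 u w) (fun u w => yB_inv_t ht h.alt₂ e 1 u w)
      (fun u => rfl) (Tv_adjG h.alt₂ e 1) hw₀T C C' hz hz₂ 1
    simp only [one_mul, mul_one] at hconj
    have hG₂ : Xi ht h.alt₂ C C' hz₂ 1 ∈ X := by
      rw [← hconj]
      exact X.mul_mem (X.mul_mem (hXB e 1) hG₁) (X.inv_mem (hXB e 1))
    -- `C C'` is a scalar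
    have hp := pairing2 ht h.alt₂ C C' C C' hz hz₂ 1 1
    have hp' : nN ht h.alt₂ ((1 * 1 * a (Tv a e 1 z) z) • (C * C' + C * C')) w₀ ∈ X := by
      rw [← hp]
      exact X.mul_mem (X.mul_mem (X.mul_mem hG₁ hG₂) (X.inv_mem hG₁)) (X.inv_mem hG₂)
    obtain ⟨c₂, hc₂⟩ := hcen _ hp'
    rw [one_mul, one_mul, ← hα] at hc₂
    have hprod : C * C' = ((2 * α)⁻¹ * c₂) • 1 := by
      have e1 : (2 * α) • (C * C') = c₂ • 1 := by
        rw [← hc₂]; module
      rw [mul_smul, ← e1, smul_smul, inv_mul_cancel₀ (mul_ne_zero h2 hα0), one_smul]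
    obtain ⟨K, hK⟩ : ∃ K : Module.End F U, K = C - σ • 1 := ⟨_, rfl⟩
    have hCK : C = K + σ • 1 := by rw [hK]; abel
    have hC'K : C' = σ • 1 - K := by
      rw [eq_sub_of_add_eq' hc₁, hK]; module
    have hKK := alg_KK hCK hC'K hprod
    have hskew : ∀ x y, s (K x) y = - s x (K y) := by
      intro x y
      have e1 : C' y = σ • y - K y := by
        rw [hC'K]; simp
      have e2 : K x = C x - σ • x := by
        rw [hK]; simp
      rw [e2, map_sub, LinearMap.sub_apply, hadj x y, e1, map_sub, map_smul, map_smul,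
        LinearMap.smul_apply]
      ring
    have hK0 : K = 0 := by
      apply hSk K hskew ⟨_, hKK⟩
      intro r hrr hgr
      obtain ⟨g, hgX, hg⟩ := hgr
      have hrr' : ∀ u, r (r u) = u := fun u => by
        rw [← Module.End.mul_apply, hrr]; rfl
      have hginv : ∀ u w, g⁻¹ (t u w) = t (r u) w := by
        intro u w
        have e1 : g (t (r u) w) = t u w := by rw [hg, hrr']
        rw [← e1, inv_apply_self]
      have hconj₂ := Xi_conjG ht h.alt₂ (g₀ := g) (R := r) (R' := r)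
        (T := 1) (T' := 1) (fun u w => hg u w) hginv hrr' (fun w w' => rfl) rfl C C' hz₂ hz₂ 1
      have hG₃ : Xi ht h.alt₂ (r * C * r) (r * C' * r) hz₂ 1 ∈ X := by
        rw [← hconj₂]
        exact X.mul_mem (X.mul_mem hgX hG₂) (X.inv_mem hgX)
      have hp₂ := pairing2 ht h.alt₂ C C' (r * C * r) (r * C' * r) hz hz₂ 1 1
      have hp₂' : nN ht h.alt₂ ((1 * 1 * a (Tv a e 1 z) z) •
          (C * (r * C' * r) + (r * C * r) * C')) w₀ ∈ X := by
        rw [← hp₂]
        exact X.mul_mem (X.mul_mem (X.mul_mem hG₁ hG₃) (X.inv_mem hG₁)) (X.inv_mem hG₃)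
      obtain ⟨c₄, hc₄⟩ := hcen _ hp₂'
      rw [one_mul, one_mul, ← hα] at hc₄
      have hr : C * (r * C' * r) + (r * C * r) * C' = (α⁻¹ * c₄) • 1 := by
        rw [mul_smul, ← hc₄, smul_smul, inv_mul_cancel₀ hα0, one_smul]
      exact ⟨_, alg_KrKr hCK hC'K hrr hr⟩
    refine ⟨σ, ?_⟩
    rw [hCK, hK0, zero_add]

end Cfsg.Agent.Helper6.SpO.H3
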