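import Cfsg.Agent.Helper3.SpOA2C
import Cfsg.Agent.Helper2.SpOSkew
import Cfsg.Agent.Helper2.SpOLQB
import Cfsg.Agent.Helper7.SpOStabB

/-!
# S5666, leaf [A2]: an element of `X` in the unipotent radical `R_S` of the stabiliser of a fibre
`S = u ⊗ W` is a tensor (given [LQ])

Instantiation of the generic parts A–C at the flipped map `t.flip` (component side `(W, f₂)`
symmetric, fibre side `(U, f₁)` alternating): all components of `g` are scalars, so `g` agrees on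
`u^⊥ ⊗ W` with an element `T_p ⊗ 1` of `H`; the quotient lies in `Q_S`, hence is a root element by
[LQ].
-/

set_option autoImplicit false
set_option linter.unusedSectionVars false
set_option linter.unusedVariables false
set_option linter.unusedSimpArgs false

namespace Cfsg.Agent.Helper6.SpO

open Module Cfsg.Agent.Helper7.ExtF Cfsg.Agent.Helper8.Tens Cfsg.Agent.Helper3.TensOm
  Cfsg.Agent.Helper9.TensFlip

variable {F : Type*} [Field F] {U W V : Type*} [AddCommGroup U] [Module F U]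
  [AddCommGroup W] [Module F W] [AddCommGroup V] [Module F V]
  {t : U →ₗ[F] W →ₗ[F] V} {B : LinearMap.BilinForm F V} {f₁ : LinearMap.BilinForm F U}
  {f₂ : LinearMap.BilinForm F W} {X : Subgroup (V ≃ₗ[F] V)}
  [FiniteDimensional F U] [FiniteDimensional F W] [FiniteDimensional F V]

namespace H3

/-- the generic hypotheses for the flipped map. -/
theorem hypG_flip (h : Hyp t B f₁ f₂ X) : HypG t.flip B f₂ f₁ X where
  symm₁ := h.symm₂
  nd₁ := h.nd₂
  alt₂ := h.alt₁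
  nd₂ := h.nd₁
  pol := fun w u w' u' => by
    show B (t u w) (t u' w') = _
    rw [h.pol, mul_comm]
  isom := h.isom

theorem isTens_yA (ht : IsTensorProduct t) (halt₁ : ∀ u, f₁ u u = 0) (v : U) (c : F) :
    IsTens t (yA ht f₁ halt₁ v c) :=
  ⟨ftv (lw f₁ v c) v (lw_self halt₁ v c), 1, fun x w => by
    rw [yA_t, ftv_apply, lw_apply]; rfl⟩

theorem inRS_flip (ht : IsTensorProduct t) {u : U} {g : V ≃ₗ[F] V} (hR : InRU ht f₁ u g) :
    InRS t.flip f₁ u g :=
  ⟨fun w => hR.1 _ (mem_fibU.mpr ⟨w, rfl⟩), fun w z hz => hR.2 _ (t_mem_SperpU ht hz w)⟩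

theorem hXB_flip (ht : IsTensorProduct t) (h : Hyp t B f₁ f₂ X) (u : U) (c : F) :
    yB (isTP_flip ht) f₁ h.alt₁ u c ∈ X := by
  rw [yB_flip]
  exact stabU_yA_mem ht h u c

/-- central elements of the radical in `X` have a scalar parameter (from [LQ]). -/
theorem hcen_flip (ht : IsTensorProduct t) (h : Hyp t B f₁ f₂ X)
    (hLQ : ∀ u : U, u ≠ 0 → ∀ g ∈ X, InQU ht f₁ u g → ∃ c : F, g = yA ht f₁ h.alt₁ u c)
    {u : U} (hu : u ≠ 0) (N : Module.End F W) (hN : nN (isTP_flip ht) h.alt₁ N u ∈ X) :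
    ∃ c : F, N = c • 1 := by
  have hQ : InQU ht f₁ u (nN (isTP_flip ht) h.alt₁ N u) := by
    intro x hx
    have hx0 : evU ht (f₁.flip u) x = 0 := hx
    rw [nN, uni_apply, tl_P, ev_flip ht, hx0, map_zero, map_zero, LinearMap.zero_apply, add_zero]
  obtain ⟨c, hc⟩ := hLQ u hu _ hN hQ
  obtain ⟨us, hus⟩ := stabU_exists_partner h hu
  refine ⟨c, ?_⟩
  apply LinearMap.ext; intro w
  have h1 : nN (isTP_flip ht) h.alt₁ N u (t us w) = yA ht f₁ h.alt₁ u c (t us w) := by rw [hc]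
  have h2 : nN (isTP_flip ht) h.alt₁ N u (t us w) = t us w + f₁ us u • t u (N w) :=
    nN_t (isTP_flip ht) h.alt₁ N u w us
  rw [h2, yA_t, hus, mul_one, one_smul, map_add, LinearMap.add_apply, map_smul,
    LinearMap.smul_apply, add_right_inj] at h1
  have h3 : t.flip (N w) u = t.flip (c • w) u := by
    show t u (N w) = t u (c • w)
    rw [h1, map_smul]
  have := t_left_injective (isTP_flip ht) hu h3
  rw [this]; rfl

/-- the operator lemma (helper2's `skew_eq_zero`) in the shape needed by `comp_scalarG`. -/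
theorem hSk_flip (h : Hyp t B f₁ f₂ X) (hb : 3 ≤ finrank F W) (K : Module.End F W)
    (hK : ∀ x y, f₂ (K x) y = - f₂ x (K y)) (hK2 : ∃ κ : F, K * K = κ • 1)
    (hr : ∀ r : Module.End F W, r * r = 1 →
      (∃ g ∈ X, ∀ w u, g (t.flip w u) = t.flip (r w) u) →
        ∃ c : F, K * r * K * r + r * K * r * K = c • 1) : K = 0 := by
  obtain ⟨κ, hκ⟩ := hK2
  refine skew_eq_zero f₂ h.symm₂ h.nd₂ h.two hb K hK κ hκ (fun y hy => ?_)
  apply hr (reflL f₂ y)
  · apply LinearMap.ext; intro w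
    exact reflL_reflL h.symm₂ hy w
  · have hinj : Function.Injective (reflL f₂ y) := by
      intro a b hab
      rw [← reflL_reflL h.symm₂ hy a, hab, reflL_reflL h.symm₂ hy]
    obtain ⟨C, hC⟩ : ∃ C : W ≃ₗ[F] W, C = LinearEquiv.ofInjectiveEndo _ hinj := ⟨_, rfl⟩
    have hCx : ∀ x, C x = reflL f₂ y x := fun x => by
      rw [hC, LinearEquiv.coe_ofInjectiveEndo]
    obtain ⟨k, hk, hkt⟩ := movO h C (fun w w' => by rw [hCx, hCx, reflL_isom h.symm₂ hy])
    exact ⟨k, hk, fun w u => by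
      show k (t u w) = t u (reflL f₂ y w)
      rw [hkt, hCx]⟩

/-- **[A2]** (no restriction on `dim U`). -/
theorem A2_main (ht : IsTensorProduct t) (h : Hyp t B f₁ f₂ X) (hb : 3 ≤ finrank F W)
    (hLQ : ∀ u : U, u ≠ 0 → ∀ g ∈ X, InQU ht f₁ u g → ∃ c : F, g = yA ht f₁ h.alt₁ u c)
    {u : U} (hu : u ≠ 0) {g : V ≃ₗ[F] V} (hg : g ∈ X) (hR : InRU ht f₁ u g) : IsTens t g := by
  have hG := hypG_flip h
  have hq := inRS_flip ht hR
  obtain ⟨us, hus⟩ := stabU_exists_partner h hu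
  obtain ⟨l₀, hl₀def⟩ : ∃ l₀ : Module.Dual F U, l₀ = f₁ us := ⟨_, rfl⟩
  have hl₀ : l₀ u = 1 := by rw [hl₀def]; exact hus
  -- all components are scalars
  have hsc : ∀ p, f₁ p u = 0 → ∃ σ : F, Cz (isTP_flip ht) l₀ g p = σ • 1 := by
    intro p hp
    exact comp_scalarG (isTP_flip ht) hG h.two (hXB_flip ht h) hu
      (fun N hN => hcen_flip ht h hLQ hu N hN) (fun K hK hK2 hr => hSk_flip h hb K hK hK2 hr)
      hg hq hp (Cz_spec (isTP_flip ht) hl₀ hq hp)
  -- the functional `p ↦ σ_p`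
  have hW : Nontrivial W := by
    apply Module.nontrivial_of_finrank_pos (R := F)
    omega
  obtain ⟨w₁, hw₁⟩ := exists_ne (0 : W)
  obtain ⟨m, hm⟩ := exists_dual_eq_one (F := F) hw₁
  obtain ⟨φ, hφ⟩ : ∃ φ : Module.Dual F U, φ = m.comp ((ev (isTP_flip ht) l₀).comp
      (((g : V →ₗ[F] V) - 1).comp (t.flip w₁))) := ⟨_, rfl⟩
  have hφp : ∀ p, φ p = m (Cz (isTP_flip ht) l₀ g p w₁) := by
    intro p; rw [hφ]; rfl
  have hφσ : ∀ p, f₁ p u = 0 → Cz (isTP_flip ht) l₀ g p = φ p • 1 := by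
    intro p hp
    obtain ⟨σ, hσ⟩ := hsc p hp
    rw [hφp, hσ, LinearMap.smul_apply, Module.End.one_apply, map_smul, hm, smul_eq_mul, mul_one]
  -- represent `φ` by a vector
  have hnd' : f₁.Nondegenerate := by
    refine ⟨h.nd₁, fun y hy => h.nd₁ y (fun x => ?_)⟩
    rw [alt_skew f₁ h.alt₁, hy, neg_zero]
  obtain ⟨p₀, hp₀def⟩ : ∃ p₀ : U, p₀ = -((f₁.toDual hnd').symm φ) := ⟨_, rfl⟩
  have hp₀ : ∀ x, f₁ x p₀ = φ x := by
    intro x
    rw [hp₀def, map_neg, ← alt_skew f₁ h.alt₁, LinearMap.BilinForm.apply_toDual_symm_apply]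
  have hφu : φ u = 0 := by
    rw [hφp]
    have : Cz (isTP_flip ht) l₀ g u w₁ = 0 := by
      show ev (isTP_flip ht) l₀ (g (t u w₁) - t u w₁) = 0
      have := hq.1 w₁
      have e : g (t u w₁) = t u w₁ := this
      rw [e, sub_self, map_zero]
    rw [this, map_zero]
  have hp₀u : f₁ p₀ u = 0 := alt_perp_symm f₁ h.alt₁ (by rw [hp₀, hφu])
  -- the element `T_{p₀} ⊗ 1`
  obtain ⟨h₀, hh₀⟩ : ∃ h₀ : V ≃ₗ[F] V, h₀ = stabU_r ht f₁ h.alt₁ u p₀ := ⟨_, rfl⟩
  have hh₀X : h₀ ∈ X := by rw [hh₀]; exact stabU_r_mem ht h u p₀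
  have hh₀T : IsTens t h₀ := by
    rw [hh₀, stabU_r]
    exact ((isTens_yA ht h.alt₁ _ _).mul ht (isTens_yA ht h.alt₁ _ _)).mul ht
      (isTens_yA ht h.alt₁ _ _)
  have hagree : ∀ x w, f₁ x u = 0 → g (t x w) = h₀ (t x w) := by
    intro x w hx
    have h1 : g (t.flip w x) = t.flip w x + t.flip (Cz (isTP_flip ht) l₀ g x w) u :=
      Cz_spec (isTP_flip ht) hl₀ hq hx w
    have h1' : g (t x w) = t x w + t u (Cz (isTP_flip ht) l₀ g x w) := h1
    rw [h1', hφσ x hx, hh₀, stabU_r_t ht h hp₀u, hx, zero_smul, add_zero, hp₀, map_add,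
      LinearMap.add_apply, LinearMap.smul_apply, Module.End.one_apply, map_smul, map_smul,
      LinearMap.smul_apply]
  -- the quotient lies in `Q_S`
  have hg'X : h₀⁻¹ * g ∈ X := X.mul_mem (X.inv_mem hh₀X) hg
  have hQ' : InQU ht f₁ u (h₀⁻¹ * g) := by
    refine stabU_Sperp_induction ht h hu (p := fun v => (h₀⁻¹ * g) v = v) ?_ ?_ ?_
    · exact map_zero _
    · intro a b ha hb'
      rw [map_add, ha, hb']
    · intro x w hx
      rw [LinearEquiv.mul_apply, hagree x w hx, inv_apply_self]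
  obtain ⟨c, hc⟩ := hLQ u hu _ hg'X hQ'
  have e : g = h₀ * yA ht f₁ h.alt₁ u c := by
    rw [← hc]; group
  rw [e]
  exact hh₀T.mul ht (isTens_yA ht h.alt₁ u c)

end H3

/-- **[A2]**, helper6's stub (the hypothesis `ha` is not used). -/
theorem A2 (ht : IsTensorProduct t) (h : Hyp t B f₁ f₂ X) (ha : 4 ≤ finrank F U)
    (hb : 3 ≤ finrank F W)
    (hLQ : ∀ u : U, u ≠ 0 → ∀ g ∈ X, InQU ht f₁ u g → ∃ c : F, g = yA ht f₁ h.alt₁ u c)
    {u : U} (hu : u ≠ 0) {g : V ≃ₗ[F] V} (hg : g ∈ X) (hR : InRU ht f₁ u g) : IsTens t g :=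
  H3.A2_main ht h hb hLQ hu hg hR

end Cfsg.Agent.Helper6.SpO
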