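import Cfsg.Agent.Helper6.SpOA
import Cfsg.Agent.Helper3.TensOmBA

/-!
# S5666: glue for the opposite-pair lemma — the root groups as subgroups

For the generic (B-side) root elements `yB ht f₂ halt₂ w c` and for the `U`-side root elements
`yA ht f₁ halt₁ u c`: the root groups `EB`, `EU` as subgroups of `V ≃ₗ[F] V`, abelian,
`p`-groups in characteristic `p`, of cardinality `|F|`; finiteness of `V ≃ₗ[F] V`.
-/

set_option autoImplicit false
set_option linter.unusedSectionVars false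
set_option linter.unusedVariables false

namespace Cfsg.Agent.Helper6.SpO

open Module Cfsg.Agent.Helper7.ExtF Cfsg.Agent.Helper8.Tens Cfsg.Agent.Helper3.TensOm

variable {F : Type*} [Field F] {U W V : Type*} [AddCommGroup U] [Module F U]
  [AddCommGroup W] [Module F W] [AddCommGroup V] [Module F V]
  {t : U →ₗ[F] W →ₗ[F] V} {f₁ : LinearMap.BilinForm F U} {f₂ : LinearMap.BilinForm F W}

theorem finite_linearEquiv [Finite F] [FiniteDimensional F V] : Finite (V ≃ₗ[F] V) := by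
  have : Finite V := Module.finite_of_finite F
  exact Finite.of_injective (fun g : V ≃ₗ[F] V => (g : V → V)) DFunLike.coe_injective

section B

theorem yB_add (ht : IsTensorProduct t) (halt₂ : ∀ w, f₂ w w = 0) (w : W) (c c' : F) :
    yB ht f₂ halt₂ w (c + c') = yB ht f₂ halt₂ w c * yB ht f₂ halt₂ w c' := by
  apply equiv_ext_pure ht
  intro u w'
  rw [LinearEquiv.mul_apply, yB_t, yB_t, yB_t]
  congr 1
  simp only [map_add, map_smul, LinearMap.add_apply, LinearMap.smul_apply, halt₂, smul_eq_mul,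
    mul_zero, add_zero]
  module

theorem yB_zero (ht : IsTensorProduct t) (halt₂ : ∀ w, f₂ w w = 0) (w : W) :
    yB ht f₂ halt₂ w 0 = 1 := by
  apply equiv_ext_pure ht
  intro u w'
  rw [yB_t, zero_mul, zero_smul, add_zero]
  rfl

/-- the homomorphism `c ↦ 1 ⊗ t_w(c)`. -/
noncomputable def yBHom (ht : IsTensorProduct t) (f₂ : LinearMap.BilinForm F W)
    (halt₂ : ∀ w, f₂ w w = 0) (w : W) : Multiplicative F →* (V ≃ₗ[F] V) where
  toFun c := yB ht f₂ halt₂ w c.toAdd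
  map_one' := yB_zero ht halt₂ w
  map_mul' c c' := yB_add ht halt₂ w c.toAdd c'.toAdd

/-- the root group `{1 ⊗ t_w(c)}`. -/
noncomputable def EB (ht : IsTensorProduct t) (f₂ : LinearMap.BilinForm F W)
    (halt₂ : ∀ w, f₂ w w = 0) (w : W) : Subgroup (V ≃ₗ[F] V) := (yBHom ht f₂ halt₂ w).range

theorem mem_EB (ht : IsTensorProduct t) (halt₂ : ∀ w, f₂ w w = 0) (w : W) {g : V ≃ₗ[F] V} :
    g ∈ EB ht f₂ halt₂ w ↔ ∃ c : F, g = yB ht f₂ halt₂ w c := by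
  constructor
  · rintro ⟨c, rfl⟩
    exact ⟨c.toAdd, rfl⟩
  · rintro ⟨c, rfl⟩
    exact ⟨Multiplicative.ofAdd c, rfl⟩

theorem yB_mem_EB (ht : IsTensorProduct t) (halt₂ : ∀ w, f₂ w w = 0) (w : W) (c : F) :
    yB ht f₂ halt₂ w c ∈ EB ht f₂ halt₂ w := (mem_EB ht halt₂ w).mpr ⟨c, rfl⟩

theorem EB_comm (ht : IsTensorProduct t) (halt₂ : ∀ w, f₂ w w = 0) (w : W) :
    ∀ x ∈ EB ht f₂ halt₂ w, ∀ y ∈ EB ht f₂ halt₂ w, x * y = y * x := by
  intro x hx y hy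
  obtain ⟨c, rfl⟩ := (mem_EB ht halt₂ w).mp hx
  obtain ⟨c', rfl⟩ := (mem_EB ht halt₂ w).mp hy
  rw [← yB_add, ← yB_add, add_comm]

theorem yB_injective (ht : IsTensorProduct t) (halt₂ : ∀ w, f₂ w w = 0)
    (hnd₂ : ∀ w, (∀ y, f₂ w y = 0) → w = 0) (hU : ∃ u : U, u ≠ 0) {w : W} (hw : w ≠ 0) :
    Function.Injective (yB ht f₂ halt₂ w) := by
  intro c c' h
  obtain ⟨u, hu⟩ := hU
  obtain ⟨ws, hws⟩ := exists_pair f₂ hnd₂ hw
  have h1 : yB ht f₂ halt₂ w c (t u ws) = yB ht f₂ halt₂ w c' (t u ws) := by rw [h]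
  rw [yB_t, yB_t, alt_skew f₂ halt₂ ws w, hws] at h1
  have h2 : t u ((c * -1 - c' * -1) • w) = 0 := by
    have : t u (ws + (c * -1) • w) - t u (ws + (c' * -1) • w) = 0 := by rw [h1, sub_self]
    rw [← map_sub] at this
    rw [← this]
    congr 1
    module
  rcases (t_eq_zero_iff ht).mp h2 with h3 | h3
  · exact absurd h3 hu
  · rcases smul_eq_zero.mp h3 with h4 | h4
    · linear_combination -h4
    · exact absurd h4 hw

theorem yB_ne_one (ht : IsTensorProduct t) (halt₂ : ∀ w, f₂ w w = 0)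
    (hnd₂ : ∀ w, (∀ y, f₂ w y = 0) → w = 0) (hU : ∃ u : U, u ≠ 0) {w : W} (hw : w ≠ 0) {c : F}
    (hc : c ≠ 0) : yB ht f₂ halt₂ w c ≠ 1 := by
  intro h
  rw [← yB_zero ht halt₂ w] at h
  exact hc (yB_injective ht halt₂ hnd₂ hU hw h)

theorem card_EB [Finite F] (ht : IsTensorProduct t) (halt₂ : ∀ w, f₂ w w = 0)
    (hnd₂ : ∀ w, (∀ y, f₂ w y = 0) → w = 0) (hU : ∃ u : U, u ≠ 0) {w : W} (hw : w ≠ 0) :
    Nat.card (EB ht f₂ halt₂ w) = Nat.card F := by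
  have hinj : Function.Injective (yBHom ht f₂ halt₂ w) := by
    intro c c' h
    have := yB_injective ht halt₂ hnd₂ hU hw h
    exact Multiplicative.toAdd.injective this
  rw [EB, Nat.card_congr (MonoidHom.ofInjective hinj).toEquiv.symm]
  exact Nat.card_congr Multiplicative.toAdd

theorem isPGroup_EB (p : ℕ) [Fact p.Prime] [CharP F p] (ht : IsTensorProduct t)
    (halt₂ : ∀ w, f₂ w w = 0) (w : W) : IsPGroup p (EB ht f₂ halt₂ w) := by
  rintro ⟨g, hg⟩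
  obtain ⟨c, rfl⟩ := (mem_EB ht halt₂ w).mp hg
  refine ⟨1, Subtype.ext ?_⟩
  rw [pow_one, SubmonoidClass.coe_pow]
  show yB ht f₂ halt₂ w c ^ p = 1
  have h1 : yB ht f₂ halt₂ w c = yBHom ht f₂ halt₂ w (Multiplicative.ofAdd c) := rfl
  rw [h1, ← map_pow, ← ofAdd_nsmul, nsmul_eq_mul, CharP.cast_eq_zero, zero_mul]
  exact yB_zero ht halt₂ w

end B

section A

open Cfsg.Agent.Helper9.TensFlip

/-- the root group `{t_u(c) ⊗ 1}`. -/
noncomputable def EU (ht : IsTensorProduct t) (f₁ : LinearMap.BilinForm F U)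
    (halt₁ : ∀ u, f₁ u u = 0) (u : U) : Subgroup (V ≃ₗ[F] V) := EB (isTP_flip ht) f₁ halt₁ u

theorem mem_EU (ht : IsTensorProduct t) (halt₁ : ∀ u, f₁ u u = 0) (u : U) {g : V ≃ₗ[F] V} :
    g ∈ EU ht f₁ halt₁ u ↔ ∃ c : F, g = yA ht f₁ halt₁ u c := by
  rw [EU, mem_EB]
  constructor
  · rintro ⟨c, rfl⟩
    exact ⟨c, yB_flip ht f₁ halt₁ u c⟩
  · rintro ⟨c, rfl⟩
    exact ⟨c, (yB_flip ht f₁ halt₁ u c).symm⟩

theorem yA_mem_EU (ht : IsTensorProduct t) (halt₁ : ∀ u, f₁ u u = 0) (u : U) (c : F) :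
    yA ht f₁ halt₁ u c ∈ EU ht f₁ halt₁ u := (mem_EU ht halt₁ u).mpr ⟨c, rfl⟩

theorem yA_add (ht : IsTensorProduct t) (halt₁ : ∀ u, f₁ u u = 0) (u : U) (c c' : F) :
    yA ht f₁ halt₁ u (c + c') = yA ht f₁ halt₁ u c * yA ht f₁ halt₁ u c' := by
  rw [← yB_flip, ← yB_flip, ← yB_flip, yB_add]

theorem yA_zero (ht : IsTensorProduct t) (halt₁ : ∀ u, f₁ u u = 0) (u : U) :
    yA ht f₁ halt₁ u 0 = 1 := by
  rw [← yB_flip, yB_zero]

theorem EU_comm (ht : IsTensorProduct t) (halt₁ : ∀ u, f₁ u u = 0) (u : U) :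
    ∀ x ∈ EU ht f₁ halt₁ u, ∀ y ∈ EU ht f₁ halt₁ u, x * y = y * x :=
  EB_comm (isTP_flip ht) halt₁ u

theorem yA_injective (ht : IsTensorProduct t) (halt₁ : ∀ u, f₁ u u = 0)
    (hnd₁ : ∀ u, (∀ y, f₁ u y = 0) → u = 0) (hW : ∃ w : W, w ≠ 0) {u : U} (hu : u ≠ 0) :
    Function.Injective (yA ht f₁ halt₁ u) := by
  intro c c' h
  rw [← yB_flip, ← yB_flip] at h
  exact yB_injective (isTP_flip ht) halt₁ hnd₁ hW hu h

theorem yA_ne_one (ht : IsTensorProduct t) (halt₁ : ∀ u, f₁ u u = 0)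
    (hnd₁ : ∀ u, (∀ y, f₁ u y = 0) → u = 0) (hW : ∃ w : W, w ≠ 0) {u : U} (hu : u ≠ 0) {c : F}
    (hc : c ≠ 0) : yA ht f₁ halt₁ u c ≠ 1 := by
  rw [← yB_flip]
  exact yB_ne_one (isTP_flip ht) halt₁ hnd₁ hW hu hc

theorem card_EU [Finite F] (ht : IsTensorProduct t) (halt₁ : ∀ u, f₁ u u = 0)
    (hnd₁ : ∀ u, (∀ y, f₁ u y = 0) → u = 0) (hW : ∃ w : W, w ≠ 0) {u : U} (hu : u ≠ 0) :
    Nat.card (EU ht f₁ halt₁ u) = Nat.card F :=
  card_EB (isTP_flip ht) halt₁ hnd₁ hW hu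

theorem isPGroup_EU (p : ℕ) [Fact p.Prime] [CharP F p] (ht : IsTensorProduct t)
    (halt₁ : ∀ u, f₁ u u = 0) (u : U) : IsPGroup p (EU ht f₁ halt₁ u) :=
  isPGroup_EB p (isTP_flip ht) halt₁ u

end A

end Cfsg.Agent.Helper6.SpO
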