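import Cfsg.Agent.Helper9.SpOMain4
import Cfsg.Agent.Helper3.SpOA2D

/-! S5666: the `dim U ≥ 3` branch of `mainSO`, complete (helper9's assembly `mainSO_of_A2` with
helper3's leaf [A2]). -/

set_option autoImplicit false
set_option linter.unusedSectionVars false
set_option linter.unusedVariables false

namespace Cfsg.Agent.Helper6.SpO

open Module Cfsg.Agent.Helper7.ExtF Cfsg.Agent.Helper8.Tens

variable {F : Type*} [Field F] {U W V : Type*} [AddCommGroup U] [Module F U]
  [AddCommGroup W] [Module F W] [AddCommGroup V] [Module F V]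
  {t : U →ₗ[F] W →ₗ[F] V} {B : LinearMap.BilinForm F V} {f₁ : LinearMap.BilinForm F U}
  {f₂ : LinearMap.BilinForm F W} {X : Subgroup (V ≃ₗ[F] V)}
  [FiniteDimensional F U] [FiniteDimensional F W] [FiniteDimensional F V]

/-- the `dim U ≥ 3` branch of `mainSO`. -/
theorem mainSO_ge3 [Finite F] (ht : IsTensorProduct t) (h : Hyp t B f₁ f₂ X)
    (ha : 3 ≤ finrank F U) (hb : 3 ≤ finrank F W) (hn : 14 ≤ finrank F U * finrank F W)
    (hex : ¬ (Nat.card F = 3 ∧ finrank F W = 3)) :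
    HasPureTv t B h.altB X ∨ ∀ g ∈ X, IsTens t g :=
  mainSO_of_A2 ht h ha hb hn hex (fun hLQ u hu g hg hR => H3.A2_main ht h hb hLQ hu hg hR)

/-- alias (seat-specific name). -/
theorem H3.mainSO_ge3_h3 [Finite F] (ht : IsTensorProduct t) (h : Hyp t B f₁ f₂ X)
    (ha : 3 ≤ finrank F U) (hb : 3 ≤ finrank F W) (hn : 14 ≤ finrank F U * finrank F W)
    (hex : ¬ (Nat.card F = 3 ∧ finrank F W = 3)) :
    HasPureTv t B h.altB X ∨ ∀ g ∈ X, IsTens t g :=
  mainSO_ge3 ht h ha hb hn hex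

end Cfsg.Agent.Helper6.SpO
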