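import Cfsg.Agent.Helper9.SpOMain4b
import Cfsg.Agent.Helper4.TensA2D

/-! S5666: `mainSO` modulo step (S5) of the `dim U = 2` route: case split `dim U = 2` (helper4's
direct argument) / `dim U ≥ 3` (helper9's `mainSO_ge3`). -/

set_option autoImplicit false
set_option linter.unusedSectionVars false
set_option linter.unusedVariables false

namespace Cfsg.Agent.Helper6.SpO

open Module Cfsg.Agent.Helper7.ExtF Cfsg.Agent.Helper8.Tens

variable {F : Type*} [Field F] {U W V : Type*} [AddCommGroup U] [Module F U]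
  [AddCommGroup W] [Module F W] [AddCommGroup V] [Module F V]
  {t : U →ₗ[F] W →ₗ[F] V} {B : LinearMap.BilinForm F V} {f₁ : LinearMap.BilinForm F U}
  {f₂ : LinearMap.BilinForm F W} {X : Subgroup (V ≃ₗ[F] V)}
  [FiniteDimensional F U] [FiniteDimensional F W] [FiniteDimensional F V]

/-- `mainSO`, modulo step (S5) of the `dim U = 2` route. -/
theorem H3.mainSO_of_S5 [Finite F] (ht : IsTensorProduct t) (h : Hyp t B f₁ f₂ X)
    (ha : 2 ≤ finrank F U) (hb : 3 ≤ finrank F W) (hn : 14 ≤ finrank F U * finrank F W)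
    (hex : ¬ (Nat.card F = 3 ∧ finrank F W = 3))
    (hS5 : finrank F U = 2 → Cfsg.Agent.Helper4.TensA2.GoodStep ht B f₁ f₂) :
    HasPureTv t B h.altB X ∨ ∀ g ∈ X, IsTens t g := by
  rcases (by omega : finrank F U = 2 ∨ 3 ≤ finrank F U) with h2 | h3
  · by_cases hall : ∀ g ∈ X, IsTens t g
    · exact Or.inr hall
    · push Not at hall
      obtain ⟨g₀, hg₀, hnt⟩ := hall
      have hb7 : 7 ≤ finrank F W := by
        rw [h2] at hn; omega
      exact Or.inl (Cfsg.Agent.Helper4.TensA2.hasPureTv_of_not_isTens_aux ht h h2 hb7 (hS5 h2)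
        hg₀ hnt)
  · exact mainSO_ge3 ht h h3 hb hn hex

/-- **`mainSO`** (helper6's stub): an overgroup `X` of `Sp(U) ⊗ O(W)` in `Sp(U ⊗ W)` either
contains a root group of transvections with a pure centre, or consists of tensors. -/
theorem mainSO [Finite F] (ht : IsTensorProduct t) (h : Hyp t B f₁ f₂ X)
    (ha : 2 ≤ finrank F U) (hb : 3 ≤ finrank F W) (hn : 14 ≤ finrank F U * finrank F W)
    (hex : ¬ (Nat.card F = 3 ∧ finrank F W = 3)) :
    HasPureTv t B h.altB X ∨ ∀ g ∈ X, IsTens t g := by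
  rcases (by omega : finrank F U = 2 ∨ 3 ≤ finrank F U) with h2 | h3
  · by_cases hall : ∀ g ∈ X, IsTens t g
    · exact Or.inr hall
    · push Not at hall
      obtain ⟨g₀, hg₀, hnt⟩ := hall
      have hb7 : 7 ≤ finrank F W := by
        rw [h2] at hn; omega
      exact Or.inl (Cfsg.Agent.Helper4.TensA2.hasPureTv_of_not_isTens ht h h2 hb7 hg₀ hnt)
  · exact mainSO_ge3 ht h h3 hb hn hex

end Cfsg.Agent.Helper6.SpO
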