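import Cfsg.Agent.Helper3.OppPair

/-!
# S5666, Leaf OPP in the shape of `notes/helper6_S5666_stubs.md`, and its variant for `a = 2`

* `Cfsg.Agent.Helper6.SpO.opp_false`: the opposite-pair lemma for a finite group acting on a set.
* `Cfsg.Agent.Helper6.SpO.opp_exists_sq`: the variant where the point stabiliser is `E₁ ⊔ C` with
  `C` an elementary abelian `2`-group centralising `E₁` (`p` odd): some `(x * y)²` lies in a
  conjugate of `E₁`.
-/

set_option autoImplicit false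
set_option linter.unusedVariables false
set_option linter.unusedSectionVars false

namespace Cfsg.Agent.Helper3.OppPair

open Subgroup
open scoped Pointwise

section Core

variable {L : Type*} [Group L] [Finite L] {p : ℕ} [Fact p.Prime]

/-- the common core of the opposite-pair lemmas: a Sylow `p`-subgroup `E` with `N(E) ≤ C(E)`
and a `p`-subgroup `E'` of order at least `3`: some product `x * y` commutes with a non-trivial
element of a conjugate of `E`. -/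
theorem opp_core (E E' : Subgroup L) (hE : IsPGroup p E) (hE' : IsPGroup p E')
    (h3 : 3 ≤ Nat.card E') (hne : ∃ x ∈ E, x ≠ 1) (hidx : ¬ p ∣ E.index)
    (hNC : normalizer (E : Set L) ≤ centralizer (E : Set L)) :
    ∃ x ∈ E, x ≠ 1 ∧ ∃ y ∈ E', y ≠ 1 ∧ ∃ g₁ l : L, l * g₁ * l⁻¹ ∈ E ∧ l * g₁ * l⁻¹ ≠ 1 ∧
      (x * y) * g₁ = g₁ * (x * y) := by
  classical
  set P : Sylow p L := hE.toSylow hidx with hPdef
  have hP : normalizer (P : Set L) ≤ centralizer (P : Set L) := hNC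
  set φ := MonoidHom.transferSylow P hP with hφ
  have hcompl := MonoidHom.ker_transferSylow_isComplement' P hP
  have hdisjP : Disjoint φ.ker (P : Subgroup L) := hcompl.disjoint
  have hdisj' : Disjoint φ.ker E' := MonoidHom.ker_transferSylow_disjoint P hP E' hE'
  have hcop : ¬ p ∣ Nat.card φ.ker := MonoidHom.not_dvd_card_ker_transferSylow P hP
  obtain ⟨x, hx, hx1⟩ := hne
  have hφx : φ x ≠ 1 := by
    intro h0
    apply hx1
    have hxk : x ∈ φ.ker := MonoidHom.mem_ker.mpr h0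
    have := (disjoint_def.mp hdisjP) hxk hx
    exact this
  -- injectivity of `φ` on `E'`
  have hinj : ∀ y₁ ∈ E', ∀ y₂ ∈ E', φ y₁ = φ y₂ → y₁ = y₂ := by
    intro y₁ h1 y₂ h2 he
    have hk : y₁ * y₂⁻¹ ∈ φ.ker := by
      rw [MonoidHom.mem_ker, map_mul, map_inv, he, mul_inv_cancel]
    have := (disjoint_def.mp hdisj') hk (E'.mul_mem h1 (E'.inv_mem h2))
    exact mul_inv_eq_one.mp this
  -- two distinct non-trivial elements of `E'`
  have hex : ∃ y₁ ∈ E', ∃ y₂ ∈ E', y₁ ≠ 1 ∧ y₂ ≠ 1 ∧ y₁ ≠ y₂ := by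
    have : Fintype E' := Fintype.ofFinite _
    have h3' : 2 < Fintype.card E' := by
      rw [← Nat.card_eq_fintype_card]; omega
    obtain ⟨a, b, c, hab', hac, hbc⟩ := Fintype.two_lt_card_iff.mp h3'
    by_cases ha : a = 1
    · refine ⟨b, b.2, c, c.2, ?_, ?_, ?_⟩
      · intro hb; apply hab'; rw [ha]; exact (Subtype.ext hb).symm
      · intro hc'; apply hac; rw [ha]; exact (Subtype.ext hc').symm
      · intro h; exact hbc (Subtype.ext h)
    · by_cases hb : b = 1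
      · refine ⟨a, a.2, c, c.2, ?_, ?_, ?_⟩
        · intro h; exact ha (Subtype.ext h)
        · intro hc'; apply hbc; rw [hb]; exact (Subtype.ext hc').symm
        · intro h; exact hac (Subtype.ext h)
      · refine ⟨a, a.2, b, b.2, ?_, ?_, ?_⟩
        · intro h; exact ha (Subtype.ext h)
        · intro h; exact hb (Subtype.ext h)
        · intro h; exact hab' (Subtype.ext h)
  obtain ⟨y₁, hy₁, y₂, hy₂, hy₁1, hy₂1, hy12⟩ := hex
  -- choose `y` with `φ (x * y) ≠ 1`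
  obtain ⟨y, hy, hy1, hφxy⟩ : ∃ y ∈ E', y ≠ 1 ∧ φ (x * y) ≠ 1 := by
    by_cases h1 : φ (x * y₁) = 1
    · refine ⟨y₂, hy₂, hy₂1, fun h2 => hy12 (hinj y₁ hy₁ y₂ hy₂ ?_)⟩
      rw [map_mul] at h1 h2
      exact mul_left_cancel (h1.trans h2.symm)
    · exact ⟨y₁, hy₁, hy₁1, h1⟩
  set g := x * y with hg
  set N := Nat.card φ.ker with hNdef
  set g₁ := g ^ N with hg₁
  obtain ⟨n, hn⟩ := IsPGroup.iff_card.mp hE
  -- `g₁` is a `p`-element
  have hcardL : Nat.card L = N * p ^ n := by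
    have := hcompl.card_mul_card
    rw [← this, ← hn]
    rfl
  have hg₁p : g₁ ^ p ^ n = 1 := by
    rw [hg₁, ← pow_mul, ← hcardL]
    exact pow_card_eq_one'
  -- `g₁ ≠ 1`
  have hg₁1 : g₁ ≠ 1 := by
    intro h0
    have h1 : (φ g) ^ N = 1 := by rw [← map_pow, ← hg₁, h0, map_one]
    have h2 : orderOf (φ g) ∣ N := orderOf_dvd_of_pow_eq_one h1
    obtain ⟨k, hk⟩ := (IsPGroup.iff_orderOf.mp P.2) (φ g)
    rw [hk] at h2
    cases k with
    | zero =>
      rw [pow_zero, orderOf_eq_one_iff] at hk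
      exact hφxy hk
    | succ k =>
      exact hcop (dvd_trans (dvd_pow_self p (Nat.succ_ne_zero k)) h2)
  -- `g₁` lies in a conjugate of `E`
  have hzp : IsPGroup p (zpowers g₁) := by
    rintro ⟨z, hz⟩
    obtain ⟨j, rfl⟩ := mem_zpowers_iff.mp hz
    refine ⟨n, Subtype.ext ?_⟩
    rw [SubmonoidClass.coe_pow]
    show (g₁ ^ j) ^ p ^ n = 1
    rw [← zpow_natCast, ← zpow_mul, mul_comm, zpow_mul, zpow_natCast, hg₁p, one_zpow]
  obtain ⟨Q, hQ⟩ := hzp.exists_le_sylow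
  obtain ⟨l, hl⟩ := MulAction.exists_smul_eq L Q P
  have hg₁Q : g₁ ∈ Q := hQ (mem_zpowers g₁)
  have hx₁ : l * g₁ * l⁻¹ ∈ E := by
    have h1 : MulAut.conj l • g₁ ∈ MulAut.conj l • (Q : Subgroup L) :=
      Subgroup.smul_mem_pointwise_smul_iff.mpr hg₁Q
    rw [← Sylow.coe_subgroup_smul, hl, MulAut.smul_def, MulAut.conj_apply] at h1
    exact h1
  have hx₁1 : l * g₁ * l⁻¹ ≠ 1 := by
    intro h0
    apply hg₁1
    have : g₁ = l⁻¹ * (l * g₁ * l⁻¹) * l := by group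
    rw [this, h0]; group
  have hcomm : g * g₁ = g₁ * g := by
    rw [hg₁, ← pow_succ', ← pow_succ]
  have hx₁1 : l * g₁ * l⁻¹ ≠ 1 := by
    intro h0
    apply hg₁1
    have : g₁ = l⁻¹ * (l * g₁ * l⁻¹) * l := by group
    rw [this, h0]; group
  exact ⟨x, hx, hx1, y, hy, hy1, g₁, l, hx₁, hx₁1, hcomm⟩

end Core

section Sq

variable {L : Type*} [Group L] [Finite L] {p : ℕ} [Fact p.Prime]

/-- the variant with a point stabiliser `D ⊇ E` all of whose elements are `e * c`, `e ∈ E`,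
`c` an involution centralising `E` (`p` odd). -/
theorem opp_sq_top (hp2 : p ≠ 2) (E E' D : Subgroup L) (hED : E ≤ D)
    (hD : ∀ m ∈ D, ∃ e ∈ E, ∃ c : L, c * c = 1 ∧ (∀ x ∈ E, c * x = x * c) ∧ m = e * c)
    (hE : IsPGroup p E) (hE' : IsPGroup p E') (h3 : 3 ≤ Nat.card E') (hne : ∃ x ∈ E, x ≠ 1)
    (hab : ∀ x ∈ E, ∀ y ∈ E, x * y = y * x)
    (hTI : ∀ x ∈ E, x ≠ 1 → ∀ l : L, l⁻¹ * x * l ∈ D → l ∈ D) :
    ∃ x ∈ E, x ≠ 1 ∧ ∃ y ∈ E', y ≠ 1 ∧ ∃ l : L, l⁻¹ * ((x * y) * (x * y)) * l ∈ E := by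
  classical
  -- `N(E) ≤ D`
  have hND : normalizer (E : Set L) ≤ D := by
    intro n hn
    obtain ⟨x, hx, hx1⟩ := hne
    apply hTI x hx hx1
    have h1 := (mem_normalizer_iff.mp (inv_mem hn) x).mp hx
    rw [inv_inv] at h1
    exact hED h1
  -- `D ≤ C(E)`
  have hDC : D ≤ centralizer (E : Set L) := by
    intro m hm
    obtain ⟨e, he, c, -, hc, rfl⟩ := hD m hm
    rw [mem_centralizer_iff]
    intro x hx
    rw [← mul_assoc, hab x hx e he, mul_assoc, ← hc x hx, mul_assoc]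
  have hsq : ∀ m ∈ D, m * m ∈ E := by
    intro m hm
    obtain ⟨e, he, c, hc2, hc, rfl⟩ := hD m hm
    have : e * c * (e * c) = e * e := by
      rw [mul_assoc, ← mul_assoc c e c, hc e he, mul_assoc e c c, hc2, mul_one]
    rw [this]
    exact E.mul_mem he he
  -- `p ∤ [L : E]`
  have hidx : ¬ p ∣ E.index := by
    obtain ⟨n, hn⟩ := IsPGroup.iff_card.mp hE
    have h1 := Sylow.card_quotient_normalizer_modEq_card_quotient (p := p) hn
    have : (E.comap (normalizer (E : Set L)).subtype).Normal :=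
      (normal_in_normalizer : (E.subgroupOf (normalizer (E : Set L))).Normal)
    have h2 : IsPGroup 2 (↥(normalizer (E : Set L)) ⧸ E.comap (normalizer (E : Set L)).subtype) := by
      intro gq
      obtain ⟨⟨m, hm⟩, rfl⟩ := QuotientGroup.mk_surjective gq
      refine ⟨1, ?_⟩
      rw [pow_one, pow_two, ← QuotientGroup.mk_mul, QuotientGroup.eq_one_iff, mem_comap]
      exact hsq m (hND hm)
    obtain ⟨k, hk⟩ := IsPGroup.iff_card.mp h2
    rw [hk, ← index_eq_card] at h1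
    intro hdvd
    have h4 : E.index ≡ 0 [MOD p] := (Nat.modEq_zero_iff_dvd).mpr hdvd
    have h5 : 2 ^ k ≡ 0 [MOD p] := h1.trans h4
    have h6 : p ∣ 2 ^ k := (Nat.modEq_zero_iff_dvd).mp h5
    have h7 : p ∣ 2 := (Fact.out : p.Prime).dvd_of_dvd_pow h6
    exact hp2 ((Nat.prime_dvd_prime_iff_eq Fact.out Nat.prime_two).mp h7)
  obtain ⟨x, hx, hx1, y, hy, hy1, g₁, l, hx₁, hx₁1, hcomm⟩ :=
    opp_core E E' hE hE' h3 hne hidx (hND.trans hDC)
  refine ⟨x, hx, hx1, y, hy, hy1, l⁻¹, ?_⟩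
  have hm : l * (x * y)⁻¹ * l⁻¹ ∈ D := by
    apply hTI _ hx₁ hx₁1
    have e : (l * (x * y)⁻¹ * l⁻¹)⁻¹ * (l * g₁ * l⁻¹) * (l * (x * y)⁻¹ * l⁻¹)
        = l * ((x * y) * g₁ * (x * y)⁻¹) * l⁻¹ := by
      group
    rw [e, hcomm, mul_inv_cancel_right]
    exact hED hx₁
  have hm' : l * (x * y) * l⁻¹ ∈ D := by
    have := D.inv_mem hm
    have e : (l * (x * y)⁻¹ * l⁻¹)⁻¹ = l * (x * y) * l⁻¹ := by group
    rwa [e] at this
  have := hsq _ hm'
  have e : l⁻¹⁻¹ * ((x * y) * (x * y)) * l⁻¹ = l * (x * y) * l⁻¹ * (l * (x * y) * l⁻¹) := by group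
  rw [e]
  exact this

end Sq

end Cfsg.Agent.Helper3.OppPair

namespace Cfsg.Agent.Helper6.SpO

open Subgroup
open scoped Pointwise

/-- **Leaf OPP** (helper6's stub). -/
theorem opp_false {G : Type*} [Group G] [Finite G] {α : Type*} [MulAction G α] (p : ℕ)
    [Fact p.Prime] (E₁ E₂ : Subgroup G) (a₁ : α) (hgen : E₁ ⊔ E₂ = ⊤)
    (hstab : MulAction.stabilizer G a₁ = E₁)
    (hcomm : ∀ x ∈ E₁, ∀ y ∈ E₁, x * y = y * x)
    (hp₁ : IsPGroup p E₁) (hp₂ : IsPGroup p E₂) (hcard : Nat.card E₁ ≤ Nat.card E₂)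
    (h3 : 3 ≤ Nat.card E₁)
    (hsemi : ∀ x ∈ E₁, x ≠ 1 → ∀ g : G, x • (g • a₁) = g • a₁ → g • a₁ = a₁)
    (Qd : G → Prop) (hQc : ∀ g x, Qd x → Qd (g * x * g⁻¹)) (hQ : ∀ x ∈ E₁, Qd x)
    (hprod : ∀ x ∈ E₁, ∀ y ∈ E₂, x ≠ 1 → y ≠ 1 → ¬ Qd (x * y)) : False := by
  have hne : ∃ x ∈ E₁, x ≠ 1 := by
    by_contra hcon
    push Not at hcon
    have hbot : E₁ = ⊥ := (Subgroup.eq_bot_iff_forall _).mpr hcon
    rw [hbot, Subgroup.card_bot] at h3
    omega
  refine Cfsg.Agent.Helper3.OppPair.opp_false_top (p := p) E₁ E₂ hp₁ hp₂ (le_trans h3 hcard) hne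
    hcomm ?_ ?_
  · intro x hx hx1 l hl
    rw [← hstab, MulAction.mem_stabilizer_iff] at hl ⊢
    apply hsemi x hx hx1 l
    have e : x • l • a₁ = l • ((l⁻¹ * x * l) • a₁) := by
      rw [smul_smul, smul_smul]
      congr 1
      group
    rw [e, hl]
  · intro x hx hx1 y hy hy1 l hl
    apply hprod x hx y hy hx1 hy1
    have := hQc l _ (hQ _ hl)
    have e : l * (l⁻¹ * (x * y) * l) * l⁻¹ = x * y := by group
    rwa [e] at this

/-- **Leaf OPP, variant for `a = 2`** (helper6's stub): the point stabiliser is `E₁ ⊔ C`, `C` an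
elementary abelian `2`-group centralising `E₁`, `p` odd. -/
theorem opp_exists_sq {G : Type*} [Group G] [Finite G] {α : Type*} [MulAction G α] (p : ℕ)
    [Fact p.Prime] (hp2 : p ≠ 2) (E₁ E₂ C : Subgroup G) (a₁ : α) (hgen : E₁ ⊔ E₂ = ⊤)
    (hstab : MulAction.stabilizer G a₁ = E₁ ⊔ C) (hC : C ≤ centralizer (E₁ : Set G))
    (hC2 : ∀ c ∈ C, c * c = 1)
    (hcomm : ∀ x ∈ E₁, ∀ y ∈ E₁, x * y = y * x)
    (hp₁ : IsPGroup p E₁) (hp₂ : IsPGroup p E₂) (hcard : Nat.card E₁ ≤ Nat.card E₂)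
    (h3 : 3 ≤ Nat.card E₁)
    (hsemi : ∀ x ∈ E₁, x ≠ 1 → ∀ g : G, x • (g • a₁) = g • a₁ → g • a₁ = a₁)
    (Qd : G → Prop) (hQc : ∀ g x, Qd x → Qd (g * x * g⁻¹)) (hQ : ∀ x ∈ E₁, Qd x) :
    ∃ x ∈ E₁, ∃ y ∈ E₂, x ≠ 1 ∧ y ≠ 1 ∧ Qd ((x * y) * (x * y)) := by
  have hne : ∃ x ∈ E₁, x ≠ 1 := by
    by_contra hcon
    push Not at hcon
    have hbot : E₁ = ⊥ := (Subgroup.eq_bot_iff_forall _).mpr hcon
    rw [hbot, Subgroup.card_bot] at h3
    omega
  have hCN : C ≤ normalizer (E₁ : Set G) := hC.trans (centralizer_le_normalizer _)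
  have hD : ∀ m ∈ E₁ ⊔ C, ∃ e ∈ E₁, ∃ c : G, c * c = 1 ∧ (∀ x ∈ E₁, c * x = x * c) ∧ m = e * c := by
    intro m hm
    have hm' : m ∈ ((E₁ ⊔ C : Subgroup G) : Set G) := hm
    rw [coe_mul_of_right_le_normalizer_left E₁ C hCN, Set.mem_mul] at hm'
    obtain ⟨e, he, c, hc, rfl⟩ := hm'
    refine ⟨e, he, c, hC2 c hc, fun x hx => ?_, rfl⟩
    exact ((mem_centralizer_iff.mp (hC hc)) x hx).symm
  obtain ⟨x, hx, hx1, y, hy, hy1, l, hl⟩ :=
    Cfsg.Agent.Helper3.OppPair.opp_sq_top (p := p) hp2 E₁ E₂ (E₁ ⊔ C) le_sup_left hD hp₁ hp₂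
      (le_trans h3 hcard) hne hcomm (by
        intro x hx hx1 l hl
        rw [← hstab, MulAction.mem_stabilizer_iff] at hl ⊢
        apply hsemi x hx hx1 l
        have e : x • l • a₁ = l • ((l⁻¹ * x * l) • a₁) := by
          rw [smul_smul, smul_smul]
          congr 1
          group
        rw [e, hl])
  refine ⟨x, hx, y, hy, hx1, hy1, ?_⟩
  have := hQc l _ (hQ _ hl)
  have e : l * (l⁻¹ * ((x * y) * (x * y)) * l) * l⁻¹ = (x * y) * (x * y) := by group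
  rwa [e] at this

end Cfsg.Agent.Helper6.SpO
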