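import Cfsg.Agent.Helper3.SpOOpp

/-!
# S5666, Leaf OPP: the `a = 2` variant in the relative form (helper6's second shape)

`Cfsg.Agent.Helper3.OppPair.opp_sq`: `L` a finite subgroup of a group, `E ≤ L` a non-trivial
abelian `p`-subgroup (`p` odd), `C` a subgroup centralising `E` with `c * c = 1` for `c ∈ C`; if
`x ∈ E ∖ 1`, `l ∈ L`, `l⁻¹ x l ∈ E` force `l ∈ E C`, then for every `p`-subgroup `E' ≤ L` of order
at least `3` some `(x y)²` (`x ∈ E ∖ 1`, `y ∈ E' ∖ 1`) lies in an `L`-conjugate of `E`.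
-/

set_option autoImplicit false
set_option linter.unusedVariables false
set_option linter.unusedSectionVars false

namespace Cfsg.Agent.Helper3.OppPair

open Subgroup
open scoped Pointwise

section SqTop

variable {L : Type*} [Group L] [Finite L] {p : ℕ} [Fact p.Prime]

theorem opp_sq_top' (hp2 : p ≠ 2) (E E' : Subgroup L)
    (hE : IsPGroup p E) (hE' : IsPGroup p E') (h3 : 3 ≤ Nat.card E') (hne : ∃ x ∈ E, x ≠ 1)
    (hab : ∀ x ∈ E, ∀ y ∈ E, x * y = y * x)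
    (hTI : ∀ x ∈ E, x ≠ 1 → ∀ l : L, l⁻¹ * x * l ∈ E →
      ∃ e ∈ E, ∃ c : L, c * c = 1 ∧ (∀ x ∈ E, c * x = x * c) ∧ l = e * c) :
    ∃ x ∈ E, x ≠ 1 ∧ ∃ y ∈ E', y ≠ 1 ∧ ∃ l : L, l⁻¹ * ((x * y) * (x * y)) * l ∈ E := by
  classical
  have hform : ∀ n ∈ normalizer (E : Set L),
      ∃ e ∈ E, ∃ c : L, c * c = 1 ∧ (∀ x ∈ E, c * x = x * c) ∧ n = e * c := by
    intro n hn
    obtain ⟨x, hx, hx1⟩ := hne
    apply hTI x hx hx1
    have h1 := (mem_normalizer_iff.mp (inv_mem hn) x).mp hx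
    rwa [inv_inv] at h1
  have hsq' : ∀ (e : L), e ∈ E → ∀ c : L, c * c = 1 → (∀ x ∈ E, c * x = x * c) →
      e * c * (e * c) ∈ E := by
    intro e he c hc2 hc
    have : e * c * (e * c) = e * e := by
      rw [mul_assoc, ← mul_assoc c e c, hc e he, mul_assoc e c c, hc2, mul_one]
    rw [this]
    exact E.mul_mem he he
  have hNC : normalizer (E : Set L) ≤ centralizer (E : Set L) := by
    intro m hm
    obtain ⟨e, he, c, -, hc, rfl⟩ := hform m hm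
    rw [mem_centralizer_iff]
    intro x hx
    rw [← mul_assoc, hab x hx e he, mul_assoc, ← hc x hx, mul_assoc]
  have hidx : ¬ p ∣ E.index := by
    obtain ⟨n, hn⟩ := IsPGroup.iff_card.mp hE
    have h1 := Sylow.card_quotient_normalizer_modEq_card_quotient (p := p) hn
    have : (E.comap (normalizer (E : Set L)).subtype).Normal :=
      (normal_in_normalizer : (E.subgroupOf (normalizer (E : Set L))).Normal)
    have h2 : IsPGroup 2 (↥(normalizer (E : Set L)) ⧸ E.comap (normalizer (E : Set L)).subtype) := by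
      intro gq
      obtain ⟨⟨m, hm⟩, rfl⟩ := QuotientGroup.mk_surjective gq
      refine ⟨1, ?_⟩
      rw [pow_one, pow_two, ← QuotientGroup.mk_mul, QuotientGroup.eq_one_iff, mem_comap]
      obtain ⟨e, he, c, hc2, hc, rfl⟩ := hform m hm
      exact hsq' e he c hc2 hc
    obtain ⟨k, hk⟩ := IsPGroup.iff_card.mp h2
    rw [hk, ← index_eq_card] at h1
    intro hdvd
    have h4 : E.index ≡ 0 [MOD p] := (Nat.modEq_zero_iff_dvd).mpr hdvd
    have h5 : 2 ^ k ≡ 0 [MOD p] := h1.trans h4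
    have h6 : p ∣ 2 ^ k := (Nat.modEq_zero_iff_dvd).mp h5
    have h7 : p ∣ 2 := (Fact.out : p.Prime).dvd_of_dvd_pow h6
    exact hp2 ((Nat.prime_dvd_prime_iff_eq Fact.out Nat.prime_two).mp h7)
  obtain ⟨x, hx, hx1, y, hy, hy1, g₁, l, hx₁, hx₁1, hcomm⟩ :=
    opp_core E E' hE hE' h3 hne hidx hNC
  refine ⟨x, hx, hx1, y, hy, hy1, l⁻¹, ?_⟩
  obtain ⟨e, he, c, hc2, hc, hm⟩ := hTI _ hx₁ hx₁1 (l * (x * y)⁻¹ * l⁻¹) (by
    have e : (l * (x * y)⁻¹ * l⁻¹)⁻¹ * (l * g₁ * l⁻¹) * (l * (x * y)⁻¹ * l⁻¹)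
        = l * ((x * y) * g₁ * (x * y)⁻¹) * l⁻¹ := by
      group
    rw [e, hcomm, mul_inv_cancel_right]
    exact hx₁)
  have h1 := E.inv_mem (hsq' e he c hc2 hc)
  rw [← hm] at h1
  have e' : l⁻¹⁻¹ * ((x * y) * (x * y)) * l⁻¹
      = (l * (x * y)⁻¹ * l⁻¹ * (l * (x * y)⁻¹ * l⁻¹))⁻¹ := by group
  rw [e']
  exact h1

end SqTop

section SqRel

variable {G : Type*} [Group G]

/-- **the `a = 2` variant of the opposite-pair lemma**, relative form. -/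
theorem opp_sq (L : Subgroup G) [Finite L] {p : ℕ} [Fact p.Prime] (hp2 : p ≠ 2)
    (E E' C : Subgroup G) (hEL : E ≤ L) (hE'L : E' ≤ L)
    (hCE : ∀ c ∈ C, ∀ x ∈ E, c * x = x * c) (hC2 : ∀ c ∈ C, c * c = 1)
    (hE : IsPGroup p E) (hE' : IsPGroup p E') (h3 : 3 ≤ Nat.card E') (hne : ∃ x ∈ E, x ≠ 1)
    (hab : ∀ x ∈ E, ∀ y ∈ E, x * y = y * x)
    (hTI : ∀ x ∈ E, x ≠ 1 → ∀ l ∈ L, l⁻¹ * x * l ∈ E → ∃ e ∈ E, ∃ c ∈ C, l = e * c) :
    ∃ x ∈ E, x ≠ 1 ∧ ∃ y ∈ E', y ≠ 1 ∧ ∃ l ∈ L, l⁻¹ * ((x * y) * (x * y)) * l ∈ E := by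
  obtain ⟨⟨x, hxL⟩, hx, hx1, ⟨y, hyL⟩, hy, hy1, ⟨l, hlL⟩, hl⟩ :=
    opp_sq_top' (L := ↥L) (p := p) hp2 (E.subgroupOf L) (E'.subgroupOf L)
      hE.comap_subtype hE'.comap_subtype
      (by rw [Nat.card_congr (subgroupOfEquivOfLe hE'L).toEquiv]; exact h3)
      (by
        obtain ⟨x, hx, hx1⟩ := hne
        exact ⟨⟨x, hEL hx⟩, mem_subgroupOf.mpr hx, fun h => hx1 (congrArg Subtype.val h)⟩)
      (by
        rintro ⟨x, hxL⟩ hx ⟨y, hyL⟩ hy
        exact Subtype.ext (hab x (mem_subgroupOf.mp hx) y (mem_subgroupOf.mp hy)))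
      (by
        rintro ⟨x, hxL⟩ hx hx1 ⟨l, hlL⟩ hl
        rw [mem_subgroupOf] at hx hl
        obtain ⟨e, he, c, hc, hlec⟩ := hTI x hx (fun h => hx1 (Subtype.ext h)) l hlL hl
        have hcL : c ∈ L := by
          have : c = e⁻¹ * l := by rw [hlec]; group
          rw [this]
          exact L.mul_mem (L.inv_mem (hEL he)) hlL
        refine ⟨⟨e, hEL he⟩, mem_subgroupOf.mpr he, ⟨c, hcL⟩, Subtype.ext (hC2 c hc), ?_,
          Subtype.ext hlec⟩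
        rintro ⟨z, hzL⟩ hz
        exact Subtype.ext (hCE c hc z (mem_subgroupOf.mp hz)))
  rw [mem_subgroupOf] at hx hy hl
  exact ⟨x, hx, fun h => hx1 (Subtype.ext h), y, hy, fun h => hy1 (Subtype.ext h), l, hlL, hl⟩

end SqRel

end Cfsg.Agent.Helper3.OppPair
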