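import Cfsg.Agent.Helper6.SpOA

/-!
# S5666, Step A of [STL]: `S^⊥ = S + (S^⊥ ∩ R^⊥)` for a max pair

`Sperp_eq_sup`: for `S = u ⊗ W` and `R = g₀ (u₀ ⊗ W)` (`g₀ ∈ X` an isometry of `B`) with
`S ∩ R^⊥ = S ∩ R`, the perpendicular space `S^⊥ = u^⊥ ⊗ W` is `S + (S^⊥ ∩ R^⊥)`.
-/

set_option autoImplicit false
set_option linter.unusedSectionVars false
set_option linter.unusedVariables false

namespace Cfsg.Agent.Helper6.SpO

open Module Cfsg.Agent.Helper7.ExtF Cfsg.Agent.Helper8.Tens Cfsg.Agent.Helper9.TensFlip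

variable {F : Type*} [Field F] {U W V : Type*} [AddCommGroup U] [Module F U]
  [AddCommGroup W] [Module F W] [AddCommGroup V] [Module F V]
  {t : U →ₗ[F] W →ₗ[F] V} {B : LinearMap.BilinForm F V} {f₁ : LinearMap.BilinForm F U}
  {f₂ : LinearMap.BilinForm F W} {X : Subgroup (V ≃ₗ[F] V)}

namespace H3

theorem B_skew (h : Hyp t B f₁ f₂ X) (x y : V) : B x y = - B y x := by
  have h1 := h.altB (x + y)
  simp only [map_add, LinearMap.add_apply, h.altB, zero_add, add_zero] at h1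
  linear_combination h1

theorem B_nondeg (h : Hyp t B f₁ f₂ X) : B.Nondegenerate := by
  refine ⟨h.ndB, fun y hy => h.ndB y (fun x => ?_)⟩
  rw [B_skew h, hy, neg_zero]

/-- the form against a pure tensor, through the contraction. -/
theorem B_pure (ht : IsTensorProduct t) (h : Hyp t B f₁ f₂ X) (u : U) (w : W) (v : V) :
    B v (t u w) = f₂ (ev (isTP_flip ht) (f₁.flip u) v) w := by
  have e : B.flip (t u w) = (f₂.flip w).comp (ev (isTP_flip ht) (f₁.flip u)) := by
    apply ext_pure ht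
    intro u' w'
    rw [LinearMap.comp_apply, ev_flip ht, evU_t]
    show B (t u' w') (t u w) = f₂ ((f₁.flip u) u' • w') w
    rw [h.pol, map_smul, LinearMap.smul_apply, smul_eq_mul]
    rfl
  have := LinearMap.congr_fun e v
  exact this

/-- `u^⊥ ⊗ W` is the `B`-orthogonal of `u ⊗ W`. -/
theorem Sperp_eq_orthogonal (ht : IsTensorProduct t) (h : Hyp t B f₁ f₂ X) (u : U) :
    Sperp (isTP_flip ht) f₁ u = B.orthogonal (fib t.flip u) := by
  ext v
  rw [mem_Sperp, LinearMap.BilinForm.mem_orthogonal_iff]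
  constructor
  · intro hv n hn
    obtain ⟨w, rfl⟩ := mem_fib_flip.mp hn
    rw [B_skew h, B_pure ht h, hv, map_zero, LinearMap.zero_apply, neg_zero]
  · intro hv
    apply h.nd₂
    intro w
    rw [← B_pure ht h, B_skew h, hv _ (mem_fib_flip.mpr ⟨w, rfl⟩), neg_zero]

theorem img_orthogonal (h : Hyp t B f₁ f₂ X) {g : V ≃ₗ[F] V} (hg : g ∈ X) (N : Submodule F V) :
    img g (B.orthogonal N) = B.orthogonal (img g N) := by
  ext v
  rw [mem_img, LinearMap.BilinForm.mem_orthogonal_iff]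
  constructor
  · rintro ⟨y, hy, rfl⟩ n hn
    obtain ⟨m, hm, rfl⟩ := mem_img.mp hn
    rw [h.isom g hg]
    exact hy m hm
  · intro hv
    refine ⟨g⁻¹ v, ?_, ?_⟩
    · intro n hn
      have := hv (g n) (apply_mem_img hn)
      rw [← h.isom g hg, ← LinearEquiv.mul_apply, mul_inv_cancel]
      exact this
    · rw [← LinearEquiv.mul_apply, mul_inv_cancel]
      rfl

end H3

variable [FiniteDimensional F U] [FiniteDimensional F W] [FiniteDimensional F V]

/-- **Step A of [STL]**: `S^⊥ = S + (S^⊥ ∩ R^⊥)`. -/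
theorem Sperp_eq_sup (ht : IsTensorProduct t) (h : Hyp t B f₁ f₂ X) {u u₀ : U} (hu : u ≠ 0)
    (hu₀ : u₀ ≠ 0) {g₀ : V ≃ₗ[F] V} (hg₀ : g₀ ∈ X)
    (hD : fib t.flip u ⊓ img g₀ (Sperp (isTP_flip ht) f₁ u₀)
      = fib t.flip u ⊓ img g₀ (fib t.flip u₀)) :
    Sperp (isTP_flip ht) f₁ u =
      fib t.flip u ⊔ (Sperp (isTP_flip ht) f₁ u ⊓ img g₀ (Sperp (isTP_flip ht) f₁ u₀)) := by
  set S := fib t.flip u with hS
  set R := img g₀ (fib t.flip u₀) with hR
  have hnd := H3.B_nondeg h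
  have hS' : Sperp (isTP_flip ht) f₁ u = B.orthogonal S := H3.Sperp_eq_orthogonal ht h u
  have hR' : img g₀ (Sperp (isTP_flip ht) f₁ u₀) = B.orthogonal R := by
    rw [H3.Sperp_eq_orthogonal ht h u₀, H3.img_orthogonal h hg₀]
  rw [hR'] at hD ⊢
  rw [hS']
  -- `S` is totally isotropic
  have hSle : S ≤ B.orthogonal S := by
    intro v hv
    obtain ⟨w, rfl⟩ := mem_fib_flip.mp hv
    rw [LinearMap.BilinForm.mem_orthogonal_iff]
    intro n hn
    obtain ⟨w', rfl⟩ := mem_fib_flip.mp hn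
    rw [h.pol, h.alt₁, zero_mul]
  have hle : S ⊔ (B.orthogonal S ⊓ B.orthogonal R) ≤ B.orthogonal S :=
    sup_le hSle inf_le_left
  symm
  apply Submodule.eq_of_le_of_finrank_le hle
  -- dimensions
  have hfS : finrank F S = finrank F W := finrank_fib (isTP_flip ht) hu
  have hfR : finrank F R = finrank F W := by
    rw [hR, finrank_img, finrank_fib (isTP_flip ht) hu₀]
  have e1 := Submodule.finrank_sup_add_finrank_inf_eq S R
  have e2 := LinearMap.BilinForm.finrank_orthogonal hnd (S ⊔ R)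
  have e3 := LinearMap.BilinForm.finrank_orthogonal hnd S
  have e4 : finrank F (B.orthogonal (S ⊔ R)) ≤ finrank F ↥(B.orthogonal S ⊓ B.orthogonal R) := by
    apply Submodule.finrank_mono
    exact le_inf (LinearMap.BilinForm.orthogonal_le le_sup_left)
      (LinearMap.BilinForm.orthogonal_le le_sup_right)
  have e5 := Submodule.finrank_sup_add_finrank_inf_eq S (B.orthogonal S ⊓ B.orthogonal R)
  have e6 : S ⊓ (B.orthogonal S ⊓ B.orthogonal R) = S ⊓ R := by
    rw [← inf_assoc, inf_of_le_left hSle, hD]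
  rw [e6] at e5
  have e7 : finrank F ↥(S ⊔ R) ≤ finrank F V := Submodule.finrank_le _
  have e8 : finrank F ↥(S ⊓ R) ≤ finrank F S := Submodule.finrank_mono inf_le_left
  omega

end Cfsg.Agent.Helper6.SpO
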