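import Mathlib

/-!
# S5666 (leaf for `stabU`): extension of a similitude of `u^⊥` fixing `u` to a similitude of `U`
-/

set_option autoImplicit false
set_option linter.unusedVariables false

namespace Cfsg.Agent.Helper6.SpO

/-- a similitude of `u^⊥` fixing `u` extends to a similitude of `U` with the same multiplier. -/
theorem exists_sim_ext {F : Type*} [Field F] {U : Type*} [AddCommGroup U] [Module F U]
    [FiniteDimensional F U]
    (f₁ : LinearMap.BilinForm F U) (alt₁ : ∀ u, f₁ u u = 0) (nd₁ : ∀ u, (∀ v, f₁ u v = 0) → u = 0)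
    {u : U} (hu : u ≠ 0) (μ : F) (hμ : μ ≠ 0) (A₀ : U →ₗ[F] U) (hA₀u : A₀ u = u)
    (hA₀ : ∀ x, f₁ x u = 0 → f₁ (A₀ x) u = 0)
    (hsim : ∀ x y, f₁ x u = 0 → f₁ y u = 0 → f₁ (A₀ x) (A₀ y) = μ * f₁ x y) :
    ∃ A : U ≃ₗ[F] U, A u = u ∧ (∀ x y, f₁ (A x) (A y) = μ * f₁ x y) ∧
      ∀ x, f₁ x u = 0 → ∃ k : F, A x = A₀ x + k • u := by
  have skew : ∀ x y, f₁ x y = - f₁ y x := by
    intro x y
    have h := alt₁ (x + y)
    simp only [map_add, LinearMap.add_apply, alt₁, zero_add, add_zero] at h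
    linear_combination h
  -- `u*`
  obtain ⟨us, h1⟩ : ∃ us, f₁ u us = 1 := by
    by_contra hcon
    push Not at hcon
    apply hu
    apply nd₁
    intro v
    by_contra hv
    apply hcon ((f₁ u v)⁻¹ • v)
    rw [map_smul, smul_eq_mul, inv_mul_cancel₀ hv]
  have h1' : f₁ us u = -1 := by rw [skew, h1]
  -- the projection onto `u^⊥` along `u*`
  set π : U →ₗ[F] U := LinearMap.id - (f₁ u).smulRight us with hπdef
  have hπ : ∀ x, π x = x - f₁ u x • us := fun x => rfl
  have hπu : ∀ x, f₁ (π x) u = 0 := by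
    intro x
    rw [hπ, map_sub, LinearMap.sub_apply, map_smul, LinearMap.smul_apply, h1', skew x u]
    simp
  have hπself : ∀ x, f₁ x u = 0 → π x = x := by
    intro x hx
    rw [hπ, skew, hx, neg_zero, zero_smul, sub_zero]
  set κ : U →ₗ[F] F := (f₁.flip us).comp π - (f₁.flip us).comp (A₀.comp π) with hκdef
  have hκ : ∀ x, κ x = f₁ (π x) us - f₁ (A₀ (π x)) us := fun x => rfl
  set A : U →ₗ[F] U := A₀.comp π + μ • (f₁ u).smulRight us + κ.smulRight u with hAdef
  have hA : ∀ x, A x = A₀ (π x) + (μ * f₁ u x) • us + κ x • u := by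
    intro x
    simp only [hAdef, LinearMap.add_apply, LinearMap.comp_apply, LinearMap.smul_apply,
      LinearMap.smulRight_apply, smul_smul]
  have hdec : ∀ x y, f₁ x y = f₁ (π x) (π y) + f₁ u y * f₁ (π x) us - f₁ u x * f₁ (π y) us := by
    intro x y
    have hx : x = π x + f₁ u x • us := by rw [hπ]; abel
    have hy : y = π y + f₁ u y • us := by rw [hπ]; abel
    conv_lhs => rw [hx, hy]
    simp only [map_add, map_smul, LinearMap.add_apply, LinearMap.smul_apply, smul_eq_mul, alt₁]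
    rw [skew us (π y)]
    ring
  have hsimA : ∀ x y, f₁ (A x) (A y) = μ * f₁ x y := by
    intro x y
    have e1 := hsim (π x) (π y) (hπu x) (hπu y)
    have e2 := hA₀ (π x) (hπu x)
    have e3 : f₁ u (A₀ (π y)) = 0 := by rw [skew, hA₀ (π y) (hπu y), neg_zero]
    rw [hA, hA, hdec x y]
    simp only [map_add, map_smul, LinearMap.add_apply, LinearMap.smul_apply, smul_eq_mul]
    rw [e1, e2, e3, alt₁ us, alt₁ u, h1, h1', skew us (A₀ (π y)), hκ, hκ]
    ring
  have hinj : Function.Injective A := by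
    rw [injective_iff_map_eq_zero]
    intro x hx
    apply nd₁
    intro y
    have := hsimA x y
    rw [hx, map_zero, LinearMap.zero_apply] at this
    rcases mul_eq_zero.mp this.symm with h | h
    · exact absurd h hμ
    · exact h
  refine ⟨LinearEquiv.ofInjectiveEndo A hinj, ?_, ?_, ?_⟩
  · rw [LinearEquiv.coe_ofInjectiveEndo, hA, hπself u (alt₁ u), alt₁ u, mul_zero, zero_smul,
      add_zero, hκ, hπself u (alt₁ u), hA₀u, sub_self, zero_smul, add_zero]
  · intro x y
    rw [LinearEquiv.coe_ofInjectiveEndo]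
    exact hsimA x y
  · intro x hx
    refine ⟨κ x, ?_⟩
    rw [LinearEquiv.coe_ofInjectiveEndo, hA, hπself x hx, skew u x, hx, neg_zero, mul_zero,
      zero_smul, add_zero]

end Cfsg.Agent.Helper6.SpO
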