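import Mathlib
import Cfsg.Agent.Helper5.SL2Borel

/-!
Helper lemmas (helper3): abstract rank-one Steinberg relations.  A group `Gt` with two families
`x, y : K → Gt` satisfying additivity and the relations `w(t) x(u) w(t)⁻¹ = y(-t⁻² u)`,
`w'(t) y(u) w'(t)⁻¹ = x(-t⁻² u)`, generated by them, and mapping to `SL₂(K)` in the obvious way.
We derive the Bruhat decomposition of `Gt` and show that the kernel of the map to `SL₂(K)` is central
and contained in the subgroup generated by the `h(t) = w(t) w(1)⁻¹`.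
-/

set_option autoImplicit false

namespace Cfsg.Agent.Helper3.Stein

open Cfsg.Agent.Helper5.SLB

/-- Abstract rank-one Steinberg data. -/
structure StData (K : Type*) [Field K] (Gt : Type*) [Group Gt] where
  x : K → Gt
  y : K → Gt
  x_add : ∀ t u, x t * x u = x (t + u)
  y_add : ∀ t u, y t * y u = y (t + u)
  relx : ∀ t u, t ≠ 0 →
    (x t * y (-t⁻¹) * x t) * x u * (x t * y (-t⁻¹) * x t)⁻¹ = y (-(t⁻¹ ^ 2 * u))
  rely : ∀ t u, t ≠ 0 →
    (y t * x (-t⁻¹) * y t) * y u * (y t * x (-t⁻¹) * y t)⁻¹ = x (-(t⁻¹ ^ 2 * u))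
  gen : ∀ P : Subgroup Gt, (∀ t, x t ∈ P) → (∀ t, y t ∈ P) → P = ⊤
  π : Gt →* Matrix.SpecialLinearGroup (Fin 2) K
  πx : ∀ t, π (x t) = uMat t
  πy : ∀ t, π (y t) = lMat t

namespace StData

variable {K : Type*} [Field K] {Gt : Type*} [Group Gt] (D : StData K Gt)

theorem x_zero : D.x 0 = 1 := by
  have h := D.x_add 0 0
  rw [add_zero] at h
  exact mul_eq_left.mp h

theorem y_zero : D.y 0 = 1 := by
  have h := D.y_add 0 0
  rw [add_zero] at h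
  exact mul_eq_left.mp h

theorem x_inv (t : K) : (D.x t)⁻¹ = D.x (-t) :=
  inv_eq_of_mul_eq_one_right (by rw [D.x_add, add_neg_cancel, D.x_zero])

theorem y_inv (t : K) : (D.y t)⁻¹ = D.y (-t) :=
  inv_eq_of_mul_eq_one_right (by rw [D.y_add, add_neg_cancel, D.y_zero])

/-- The Weyl-type element `w(t)`. -/
def w (t : K) : Gt := D.x t * D.y (-t⁻¹) * D.x t

theorem w_inv (t : K) : (D.w t)⁻¹ = D.w (-t) := by
  unfold w
  rw [mul_inv_rev, mul_inv_rev, D.x_inv, D.y_inv, inv_neg, neg_neg, mul_assoc]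

theorem Cx (t u : K) (ht : t ≠ 0) : D.w t * D.x u = D.y (-(t⁻¹ ^ 2 * u)) * D.w t :=
  mul_inv_eq_iff_eq_mul.mp (D.relx t u ht)

theorem F1 (t : K) (ht : t ≠ 0) : D.w t = D.y (-t⁻¹) * D.x t * D.y (-t⁻¹) := by
  have h := D.Cx t t ht
  have e : -(t⁻¹ ^ 2 * t) = -t⁻¹ := by field_simp
  rw [e] at h
  unfold w at h ⊢
  apply mul_right_cancel (b := D.x t)
  rw [h]
  simp only [mul_assoc]

theorem Cy (t u : K) (ht : t ≠ 0) : D.w t * D.y u = D.x (-(t ^ 2 * u)) * D.w t := by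
  have hs : -t⁻¹ ≠ 0 := neg_ne_zero.mpr (inv_ne_zero ht)
  have h := D.rely (-t⁻¹) u hs
  have e1 : -(-t⁻¹)⁻¹ = t := by rw [inv_neg, inv_inv, neg_neg]
  have e2 : ((-t⁻¹)⁻¹) ^ 2 * u = t ^ 2 * u := by rw [inv_neg, inv_inv, neg_sq]
  rw [e1, e2, ← D.F1 t ht] at h
  exact mul_inv_eq_iff_eq_mul.mp h

/-- The element `w = w(1)`. -/
def ww : Gt := D.w 1

theorem ww_x (u : K) : D.ww * D.x u = D.y (-u) * D.ww := by
  have h := D.Cx 1 u one_ne_zero
  simpa [ww] using h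

theorem ww_y (u : K) : D.ww * D.y u = D.x (-u) * D.ww := by
  have h := D.Cy 1 u one_ne_zero
  simpa [ww] using h

theorem wwi_x (u : K) : D.ww⁻¹ * D.x u = D.y (-u) * D.ww⁻¹ := by
  have h := D.ww_y (-u)
  rw [neg_neg] at h
  rw [inv_mul_eq_iff_eq_mul, ← mul_assoc, h, mul_inv_cancel_right]

theorem wwi_y (u : K) : D.ww⁻¹ * D.y u = D.x (-u) * D.ww⁻¹ := by
  have h := D.ww_x (-u)
  rw [neg_neg] at h
  rw [inv_mul_eq_iff_eq_mul, ← mul_assoc, h, mul_inv_cancel_right]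

/-- The torus-type element `h(t) = w(t) w(1)⁻¹`. -/
def h (t : K) : Gt := D.w t * D.ww⁻¹

theorem h_x (t u : K) (ht : t ≠ 0) : D.h t * D.x u = D.x (t ^ 2 * u) * D.h t := by
  unfold h
  rw [mul_assoc, D.wwi_x, ← mul_assoc, D.Cy t _ ht, mul_assoc, mul_neg, neg_neg]

theorem h_y (t u : K) (ht : t ≠ 0) : D.h t * D.y u = D.y (t⁻¹ ^ 2 * u) * D.h t := by
  unfold h
  rw [mul_assoc, D.wwi_y, ← mul_assoc, D.Cx t _ ht, mul_assoc, mul_neg, neg_neg]

theorem ww_w (t : K) (ht : t ≠ 0) : D.ww * D.w t = D.w t⁻¹ * D.ww := by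
  rw [D.F1 t⁻¹ (inv_ne_zero ht), inv_inv]
  unfold w
  calc D.ww * (D.x t * D.y (-t⁻¹) * D.x t) = (D.ww * D.x t) * D.y (-t⁻¹) * D.x t := by
        simp only [mul_assoc]
    _ = D.y (-t) * (D.ww * D.y (-t⁻¹)) * D.x t := by rw [D.ww_x]; simp only [mul_assoc]
    _ = D.y (-t) * D.x t⁻¹ * (D.ww * D.x t) := by rw [D.ww_y, neg_neg]; simp only [mul_assoc]
    _ = _ := by rw [D.ww_x]; simp only [mul_assoc]

theorem ww_h (t : K) (ht : t ≠ 0) : D.ww * D.h t = D.h t⁻¹ * D.ww := by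
  unfold h
  rw [← mul_assoc, D.ww_w t ht, mul_assoc, mul_assoc, mul_inv_cancel, inv_mul_cancel]

theorem w_eq (t : K) : D.w t = D.h t * D.ww := by
  unfold h
  rw [inv_mul_cancel_right]

theorem ww_sq : D.ww * D.ww = (D.h (-1))⁻¹ := by
  unfold h
  rw [mul_inv_rev, inv_inv, ← D.w_inv, inv_inv]
  rfl

theorem F6 (v : K) : D.y v = D.x v⁻¹ * D.w (-v⁻¹) * D.x v⁻¹ := by
  unfold w
  have e : -(-v⁻¹)⁻¹ = v := by rw [inv_neg, inv_inv, neg_neg]
  rw [e]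
  simp only [← mul_assoc]
  rw [D.x_add, add_neg_cancel, D.x_zero, one_mul, mul_assoc, D.x_add, neg_add_cancel, D.x_zero,
    mul_one]

theorem sq_x (a : K) : D.ww * D.ww * D.x a = D.x a * (D.ww * D.ww) := by
  rw [mul_assoc, D.ww_x, ← mul_assoc, D.ww_y, neg_neg, mul_assoc]

theorem key (c : K) :
    D.ww * D.x c * D.ww = D.x (-c⁻¹) * (D.h c⁻¹ * (D.ww * D.ww)) * D.ww * D.x (-c⁻¹) := by
  have e1 : (-c)⁻¹ = -c⁻¹ := inv_neg
  rw [D.ww_x, D.F6 (-c), e1, neg_neg, D.w_eq c⁻¹]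
  have h := D.sq_x (-c⁻¹)
  calc D.x (-c⁻¹) * (D.h c⁻¹ * D.ww) * D.x (-c⁻¹) * D.ww * D.ww
      = D.x (-c⁻¹) * (D.h c⁻¹ * D.ww) * (D.x (-c⁻¹) * (D.ww * D.ww)) := by simp only [mul_assoc]
    _ = D.x (-c⁻¹) * (D.h c⁻¹ * D.ww) * (D.ww * D.ww * D.x (-c⁻¹)) := by rw [h]
    _ = _ := by simp only [mul_assoc]

/-! ### Images in `SL₂(K)` -/

theorem π_w (t : K) (ht : t ≠ 0) :
    ((D.π (D.w t) : Matrix.SpecialLinearGroup (Fin 2) K) : Matrix (Fin 2) (Fin 2) K) =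
      !![0, t; -t⁻¹, 0] := by
  unfold w
  rw [map_mul, map_mul, D.πx, D.πy, Matrix.SpecialLinearGroup.coe_mul,
    Matrix.SpecialLinearGroup.coe_mul, uMat_coe, lMat_coe, Matrix.mul_fin_two, Matrix.mul_fin_two]
  ext i j
  fin_cases i <;> fin_cases j <;> simp [ht]

theorem π_ww :
    ((D.π D.ww : Matrix.SpecialLinearGroup (Fin 2) K) : Matrix (Fin 2) (Fin 2) K) =
      !![0, 1; -1, 0] := by
  have h := D.π_w 1 one_ne_zero
  simpa [ww] using h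

theorem π_h (t : K) (ht : t ≠ 0) :
    ((D.π (D.h t) : Matrix.SpecialLinearGroup (Fin 2) K) : Matrix (Fin 2) (Fin 2) K) =
      !![t, 0; 0, t⁻¹] := by
  unfold h
  rw [map_mul, map_inv, Matrix.SpecialLinearGroup.coe_mul, Matrix.SpecialLinearGroup.coe_inv,
    D.π_w t ht, D.π_ww, Matrix.adjugate_fin_two_of, Matrix.mul_fin_two]
  ext i j
  fin_cases i <;> fin_cases j <;> simp

/-! ### The torus -/

/-- `k` acts on the root subgroups like `diag(d, d⁻¹)` and maps to it. -/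
def Tor (d : K) (k : Gt) : Prop :=
  d ≠ 0 ∧ (∀ u, k * D.x u = D.x (d ^ 2 * u) * k) ∧ (∀ u, k * D.y u = D.y (d⁻¹ ^ 2 * u) * k) ∧
    ((D.π k : Matrix.SpecialLinearGroup (Fin 2) K) : Matrix (Fin 2) (Fin 2) K) = !![d, 0; 0, d⁻¹]

theorem tor_one : D.Tor 1 1 := by
  refine ⟨one_ne_zero, fun u => by simp, fun u => by simp, ?_⟩
  rw [map_one, Matrix.SpecialLinearGroup.coe_one]
  ext i j
  fin_cases i <;> fin_cases j <;> simp

theorem tor_h (t : K) (ht : t ≠ 0) : D.Tor t (D.h t) :=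
  ⟨ht, fun u => D.h_x t u ht, fun u => D.h_y t u ht, D.π_h t ht⟩

theorem Tor.mul {d₁ d₂ : K} {k₁ k₂ : Gt} (h₁ : D.Tor d₁ k₁) (h₂ : D.Tor d₂ k₂) :
    D.Tor (d₁ * d₂) (k₁ * k₂) := by
  obtain ⟨hd₁, hx₁, hy₁, hπ₁⟩ := h₁
  obtain ⟨hd₂, hx₂, hy₂, hπ₂⟩ := h₂
  refine ⟨mul_ne_zero hd₁ hd₂, fun u => ?_, fun u => ?_, ?_⟩
  · rw [mul_assoc, hx₂, ← mul_assoc, hx₁, mul_assoc]
    congr 2
    ring
  · rw [mul_assoc, hy₂, ← mul_assoc, hy₁, mul_assoc]
    congr 2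
    rw [mul_inv]
    ring
  · rw [map_mul, Matrix.SpecialLinearGroup.coe_mul, hπ₁, hπ₂, Matrix.mul_fin_two]
    ext i j
    fin_cases i <;> fin_cases j <;> simp [mul_comm]

theorem Tor.inv {d : K} {k : Gt} (h : D.Tor d k) : D.Tor d⁻¹ k⁻¹ := by
  obtain ⟨hd, hx, hy, hπ⟩ := h
  refine ⟨inv_ne_zero hd, fun u => ?_, fun u => ?_, ?_⟩
  · rw [inv_mul_eq_iff_eq_mul, ← mul_assoc, hx, mul_inv_cancel_right]
    congr 1
    field_simp
  · rw [inv_mul_eq_iff_eq_mul, ← mul_assoc, hy, mul_inv_cancel_right]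
    congr 1
    field_simp
  · rw [map_inv, Matrix.SpecialLinearGroup.coe_inv, hπ, Matrix.adjugate_fin_two_of]
    ext i j
    fin_cases i <;> fin_cases j <;> simp

/-- The subgroup generated by the `h(t)`. -/
def Ht : Subgroup Gt := Subgroup.closure {g | ∃ t : K, t ≠ 0 ∧ g = D.h t}

theorem h_mem (t : K) (ht : t ≠ 0) : D.h t ∈ D.Ht :=
  Subgroup.subset_closure ⟨t, ht, rfl⟩

theorem exists_tor {k : Gt} (hk : k ∈ D.Ht) : ∃ d, D.Tor d k := by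
  induction hk using Subgroup.closure_induction with
  | mem g hg =>
    obtain ⟨t, ht, rfl⟩ := hg
    exact ⟨t, D.tor_h t ht⟩
  | one => exact ⟨1, D.tor_one⟩
  | mul a b _ _ iha ihb =>
    obtain ⟨d₁, h₁⟩ := iha
    obtain ⟨d₂, h₂⟩ := ihb
    exact ⟨_, h₁.mul D h₂⟩
  | inv a _ iha =>
    obtain ⟨d, h⟩ := iha
    exact ⟨_, h.inv D⟩

theorem conj_mem {k : Gt} (hk : k ∈ D.Ht) : D.ww * k * D.ww⁻¹ ∈ D.Ht := by
  induction hk using Subgroup.closure_induction with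
  | mem g hg =>
    obtain ⟨t, ht, rfl⟩ := hg
    rw [D.ww_h t ht, mul_inv_cancel_right]
    exact D.h_mem _ (inv_ne_zero ht)
  | one => simp
  | mul a b _ _ iha ihb =>
    have e : D.ww * (a * b) * D.ww⁻¹ = (D.ww * a * D.ww⁻¹) * (D.ww * b * D.ww⁻¹) := by group
    rw [e]
    exact mul_mem iha ihb
  | inv a _ iha =>
    have e : D.ww * a⁻¹ * D.ww⁻¹ = (D.ww * a * D.ww⁻¹)⁻¹ := by group
    rw [e]
    exact inv_mem iha

theorem sq_mem : D.ww * D.ww ∈ D.Ht := by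
  rw [D.ww_sq]
  exact inv_mem (D.h_mem _ (neg_ne_zero.mpr one_ne_zero))

/-! ### Bruhat decomposition -/

/-- `g` lies in `Ũ H̃ ∪ Ũ H̃ w Ũ`. -/
def Cell (g : Gt) : Prop :=
  (∃ a, ∃ k ∈ D.Ht, g = D.x a * k) ∨ (∃ a c, ∃ k ∈ D.Ht, g = D.x a * k * D.ww * D.x c)

theorem cell_one : D.Cell 1 :=
  Or.inl ⟨0, 1, one_mem _, by rw [D.x_zero, one_mul]⟩

theorem cell_x (t : K) {g : Gt} (hg : D.Cell g) : D.Cell (D.x t * g) := by
  rcases hg with ⟨a, k, hk, rfl⟩ | ⟨a, c, k, hk, rfl⟩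
  · exact Or.inl ⟨t + a, k, hk, by rw [← mul_assoc, D.x_add]⟩
  · exact Or.inr ⟨t + a, c, k, hk, by simp only [← mul_assoc, D.x_add]⟩

theorem cell_h {k' : Gt} (hk' : k' ∈ D.Ht) {g : Gt} (hg : D.Cell g) : D.Cell (k' * g) := by
  obtain ⟨d, -, hx, -, -⟩ := D.exists_tor hk'
  rcases hg with ⟨a, k, hk, rfl⟩ | ⟨a, c, k, hk, rfl⟩
  · exact Or.inl ⟨d ^ 2 * a, k' * k, mul_mem hk' hk, by rw [← mul_assoc, hx, mul_assoc]⟩
  · refine Or.inr ⟨d ^ 2 * a, c, k' * k, mul_mem hk' hk, ?_⟩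
    simp only [← mul_assoc]
    rw [hx]

/-- Moving a torus element to the left of a root element. -/
theorem x_tor {d : K} {k : Gt} (h : D.Tor d k) (a : K) : D.x a * k = k * D.x (d⁻¹ ^ 2 * a) := by
  obtain ⟨hd, hx, -, -⟩ := h
  rw [hx]
  congr 2
  field_simp

theorem cell_w {g : Gt} (hg : D.Cell g) : D.Cell (D.ww * g) := by
  rcases hg with ⟨a, k, hk, rfl⟩ | ⟨a, c, k, hk, rfl⟩
  · obtain ⟨d, hd⟩ := D.exists_tor hk
    refine Or.inr ⟨0, d⁻¹ ^ 2 * a, D.ww * k * D.ww⁻¹, D.conj_mem hk, ?_⟩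
    rw [D.x_zero, one_mul, inv_mul_cancel_right, ← mul_assoc, mul_assoc D.ww, D.x_tor hd,
      ← mul_assoc]
  · obtain ⟨d, hd⟩ := D.exists_tor hk
    have e1 : D.ww * (D.x a * k * D.ww * D.x c) =
        (D.ww * k * D.ww⁻¹) * (D.ww * D.x (d⁻¹ ^ 2 * a) * D.ww) * D.x c := by
      rw [D.x_tor hd]
      group
    rw [e1]
    by_cases ha : d⁻¹ ^ 2 * a = 0
    · rw [ha, D.x_zero, mul_one]
      have hk2 : D.ww * k * D.ww⁻¹ * (D.ww * D.ww) ∈ D.Ht := mul_mem (D.conj_mem hk) D.sq_mem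
      obtain ⟨d', -, hx', -, -⟩ := D.exists_tor hk2
      exact Or.inl ⟨d' ^ 2 * c, _, hk2, hx' c⟩
    · rw [D.key]
      have hk2 : D.ww * k * D.ww⁻¹ ∈ D.Ht := D.conj_mem hk
      obtain ⟨d', -, hx', -, -⟩ := D.exists_tor hk2
      have hk3 : D.h (d⁻¹ ^ 2 * a)⁻¹ * (D.ww * D.ww) ∈ D.Ht :=
        mul_mem (D.h_mem _ (inv_ne_zero ha)) D.sq_mem
      refine Or.inr ⟨d' ^ 2 * -(d⁻¹ ^ 2 * a)⁻¹, -(d⁻¹ ^ 2 * a)⁻¹ + c,
        D.ww * k * D.ww⁻¹ * (D.h (d⁻¹ ^ 2 * a)⁻¹ * (D.ww * D.ww)), mul_mem hk2 hk3, ?_⟩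
      have e2 := hx' (-(d⁻¹ ^ 2 * a)⁻¹)
      rw [← D.x_add]
      generalize D.ww * k * D.ww⁻¹ = k2 at e2 ⊢
      simp only [← mul_assoc]
      rw [e2]

theorem cell_wi {g : Gt} (hg : D.Cell g) : D.Cell (D.ww⁻¹ * g) := by
  have e : D.ww⁻¹ = D.h (-1) * D.ww := by
    have := D.ww_sq
    rw [eq_comm, inv_eq_iff_eq_inv] at this
    rw [this]
    group
  rw [e, mul_assoc]
  exact D.cell_h (D.h_mem _ (neg_ne_zero.mpr one_ne_zero)) (D.cell_w hg)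

theorem y_eq (t : K) : D.y t = D.ww * D.x (-t) * D.ww⁻¹ := by
  rw [D.ww_x, neg_neg, mul_inv_cancel_right]

theorem cell_y (t : K) {g : Gt} (hg : D.Cell g) : D.Cell (D.y t * g) := by
  rw [D.y_eq, mul_assoc, mul_assoc]
  exact D.cell_w (D.cell_x _ (D.cell_wi hg))

theorem cell_all (g : Gt) : D.Cell g := by
  have hgen : Subgroup.closure (Set.range D.x ∪ Set.range D.y) = ⊤ :=
    D.gen _ (fun t => Subgroup.subset_closure (Or.inl ⟨t, rfl⟩))
      (fun t => Subgroup.subset_closure (Or.inr ⟨t, rfl⟩))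
  have hg : g ∈ Subgroup.closure (Set.range D.x ∪ Set.range D.y) := by
    rw [hgen]; exact Subgroup.mem_top g
  induction hg using Subgroup.closure_induction_left with
  | one => exact D.cell_one
  | mul_left a ha b _ ih =>
    rcases ha with ⟨t, rfl⟩ | ⟨t, rfl⟩
    · exact D.cell_x t ih
    · exact D.cell_y t ih
  | inv_mul_cancel a ha b _ ih =>
    rcases ha with ⟨t, rfl⟩ | ⟨t, rfl⟩
    · rw [D.x_inv]; exact D.cell_x _ ih
    · rw [D.y_inv]; exact D.cell_y _ ih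

/-! ### The kernel -/

theorem mem_center_of_comm {k : Gt} (hx : ∀ u, k * D.x u = D.x u * k)
    (hy : ∀ u, k * D.y u = D.y u * k) : k ∈ Subgroup.center Gt := by
  have h : Subgroup.centralizer {k} = ⊤ := by
    apply D.gen
    · intro t
      rw [Subgroup.mem_centralizer_iff]
      intro g hg
      rw [Set.mem_singleton_iff] at hg
      rw [hg, hx]
    · intro t
      rw [Subgroup.mem_centralizer_iff]
      intro g hg
      rw [Set.mem_singleton_iff] at hg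
      rw [hg, hy]
  rw [Subgroup.mem_center_iff]
  intro g
  have hg : g ∈ Subgroup.centralizer {k} := by rw [h]; exact Subgroup.mem_top g
  rw [Subgroup.mem_centralizer_iff] at hg
  exact (hg k rfl).symm

theorem ker_le : D.π.ker ≤ D.Ht ⊓ Subgroup.center Gt := by
  intro g hg
  rw [MonoidHom.mem_ker] at hg
  have hg' : ((D.π g : Matrix.SpecialLinearGroup (Fin 2) K) : Matrix (Fin 2) (Fin 2) K) = 1 := by
    rw [hg, Matrix.SpecialLinearGroup.coe_one]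
  rcases D.cell_all g with ⟨a, k, hk, rfl⟩ | ⟨a, c, k, hk, rfl⟩
  · obtain ⟨d, hd, hx, hy, hπ⟩ := D.exists_tor hk
    rw [map_mul, Matrix.SpecialLinearGroup.coe_mul, D.πx, uMat_coe, hπ, Matrix.mul_fin_two] at hg'
    have h00 := congrFun (congrFun hg' 0) 0
    have h01 := congrFun (congrFun hg' 0) 1
    simp at h00 h01
    have hd1 : d = 1 := h00
    subst hd1
    have ha : a = 0 := by simpa using h01
    subst ha
    rw [D.x_zero, one_mul]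
    refine ⟨hk, D.mem_center_of_comm (fun u => ?_) (fun u => ?_)⟩
    · rw [hx]; simp
    · rw [hy]; simp
  · exfalso
    obtain ⟨d, hd, hx, hy, hπ⟩ := D.exists_tor hk
    rw [map_mul, map_mul, map_mul, Matrix.SpecialLinearGroup.coe_mul,
      Matrix.SpecialLinearGroup.coe_mul, Matrix.SpecialLinearGroup.coe_mul, D.πx, D.πx, uMat_coe,
      uMat_coe, hπ, D.π_ww, Matrix.mul_fin_two, Matrix.mul_fin_two, Matrix.mul_fin_two] at hg'
    have h10 := congrFun (congrFun hg' 1) 0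
    simp at h10
    exact hd h10

end StData

end Cfsg.Agent.Helper3.Stein
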