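import Mathlib
import Cfsg.Agent.Helper3.StemC
import Cfsg.Agent.S0261
import Cfsg.Agent.S0262

/-!
Helper lemmas (helper3): the commutator pairing on the unipotent subgroup of `SL₂(F)` in a central
extension, good subgroups for primes different from the characteristic, and the bound `|M(SL₂(9))| ≤ 3`.
-/

set_option autoImplicit false

namespace Cfsg.Agent.Helper3.Stem

open scoped commutatorElement
open Cfsg.Agent.Helper5.SLB

/-- The commutator pairing on the preimage of the unipotent subgroup. -/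
theorem unip_pairing {F : Type*} [Field F] {Γ : Type*} [Group Γ]
    (σ : Γ →* Matrix.SpecialLinearGroup (Fin 2) F)
    (hcen : σ.ker ≤ Subgroup.center Γ) (hsurj : Function.Surjective σ) :
    ∃ β : F → F → Γ, (∀ x y, β x y ∈ σ.ker) ∧ (∀ x x' y, β (x + x') y = β x y * β x' y) ∧
      (∀ x y y', β x (y + y') = β x y * β x y') ∧ (∀ x, β x x = 1) ∧
      (∀ g₁ g₂ x y, σ g₁ = uMat x → σ g₂ = uMat y → ⁅g₁, g₂⁆ = β x y) := by
  obtain ⟨n, hn⟩ : ∃ n : F → Γ, ∀ x, σ (n x) = uMat x :=
    ⟨fun x => Function.surjInv hsurj (uMat x), fun x => Function.surjInv_eq hsurj _⟩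
  have hker : ∀ x y, ⁅n x, n y⁆ ∈ σ.ker := by
    intro x y
    rw [MonoidHom.mem_ker, map_commutatorElement, hn, hn,
      commutatorElement_eq_one_iff_mul_comm, uMat_mul, uMat_mul, add_comm]
  have hcentral : ∀ x y (g : Γ), g * ⁅n x, n y⁆ = ⁅n x, n y⁆ * g := by
    intro x y g
    have := hcen (hker x y)
    rw [Subgroup.mem_center_iff] at this
    exact this g
  have hl : ∀ x x' y, ⁅n (x + x'), n y⁆ = ⁅n x, n y⁆ * ⁅n x', n y⁆ := by
    intro x x' y
    have e1 : ⁅n (x + x'), n y⁆ = ⁅n x * n x', n y⁆ := by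
      apply comm_congr σ hcen _ rfl
      rw [map_mul, hn, hn, hn, uMat_mul]
    rw [e1, comm_mul_left, hcentral x' y (n x), mul_inv_cancel_right, hcentral]
  refine ⟨fun x y => ⁅n x, n y⁆, hker, hl, ?_, ?_, ?_⟩
  · intro x y y'
    change ⁅n x, n (y + y')⁆ = ⁅n x, n y⁆ * ⁅n x, n y'⁆
    rw [← commutatorElement_inv, hl, mul_inv_rev, commutatorElement_inv, commutatorElement_inv,
      hcentral]
  · intro x
    exact commutatorElement_self _
  · intro g₁ g₂ x y h1 h2
    exact comm_congr σ hcen (h1.trans (hn x).symm) (h2.trans (hn y).symm)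

/-- For a prime different from the characteristic there is a good subgroup of `SL₂(q)` of index
prime to it. -/
theorem exists_good_ne_char {F : Type*} [Field F] [Fintype F] (p : ℕ) [hp : Fact p.Prime]
    [CharP F p] {Γ : Type*} [Group Γ]
    (σ : Γ →* Matrix.SpecialLinearGroup (Fin 2) F)
    (hcen : σ.ker ≤ Subgroup.center Γ) (hsurj : Function.Surjective σ) (s : ℕ) (hs : s.Prime)
    (hsp : s ≠ p) :
    ∃ U : Subgroup (Matrix.SpecialLinearGroup (Fin 2) F), ¬ s ∣ U.index ∧ Good σ U := by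
  have : Fact s.Prime := ⟨hs⟩
  by_cases hs2 : s = 2
  · subst hs2
    have hodd : Odd (Fintype.card F) := by
      obtain ⟨n, -, hcard⟩ := FiniteField.card F p
      rw [hcard]
      apply Odd.pow
      rcases hp.out.eq_two_or_odd' with h | h
      · exact absurd h.symm hsp
      · exact h
    let P : Sylow 2 (Matrix.SpecialLinearGroup (Fin 2) F) := default
    obtain ⟨k, -, ⟨e⟩⟩ := Cfsg.Agent.S0261.result hodd P
    exact ⟨P, P.not_dvd_index, good_of_quaternion σ hcen hsurj _ e⟩
  · let P : Sylow s (Matrix.SpecialLinearGroup (Fin 2) F) := default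
    have : IsCyclic (P : Subgroup (Matrix.SpecialLinearGroup (Fin 2) F)) :=
      Cfsg.Agent.S0262.result p s hs2 hsp P
    exact ⟨P, P.not_dvd_index, good_of_isCyclic σ hcen hsurj _⟩

/-- Elements of the kernel of a stem extension of `SL₂(q)` have order a power of the
characteristic. -/
theorem prime_dvd_orderOf_ker {F : Type*} [Field F] [Fintype F] (p : ℕ) [hp : Fact p.Prime]
    [CharP F p] {Γ : Type*} [Group Γ] [Finite Γ]
    (σ : Γ →* Matrix.SpecialLinearGroup (Fin 2) F) (hσ : Cfsg.IsStemExtension σ)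
    (z : Γ) (hz : z ∈ σ.ker) (s : ℕ) (hs : s.Prime) (hsd : s ∣ orderOf z) : s = p := by
  by_contra hsp
  obtain ⟨U, hU1, hU2⟩ := exists_good_ne_char p σ hσ.2.1 hσ.1 s hs hsp
  have h1 := pow_index_eq_one_of_good σ hσ U hU2 z hz
  exact hU1 (hsd.trans (orderOf_dvd_of_pow_eq_one h1))

/-- A biadditive alternating pairing on a field with nine elements takes
values in a cyclic group of order dividing three. -/
theorem pairing_cyclic {F A : Type*} [Field F] [Fintype F] [Group A] (hF : Fintype.card F = 9)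
    (β : F → F → A)
    (hl : ∀ x x' y, β (x + x') y = β x y * β x' y)
    (hr : ∀ x y y', β x (y + y') = β x y * β x y') (halt : ∀ x, β x x = 1) :
    ∃ w : A, w ^ 3 = 1 ∧ ∀ x y, β x y ∈ Subgroup.zpowers w := by
  -- characteristic three
  obtain ⟨p, hchar⟩ := CharP.exists F
  obtain ⟨n, hp, hcard⟩ := FiniteField.card F p
  have hp3 : p = 3 := by
    have h1 : p ∣ 9 := by
      rw [← hF, hcard]; exact dvd_pow_self p n.pos.ne'
    have h2 : p ∣ 3 := hp.dvd_of_dvd_pow (show p ∣ 3 ^ 2 by norm_num; exact h1)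
    exact (Nat.prime_dvd_prime_iff_eq hp Nat.prime_three).mp h2
  subst hp3
  have h3 : ∀ x : F, 3 • x = 0 := by
    intro x
    rw [nsmul_eq_mul]
    have : ((3 : ℕ) : F) = 0 := CharP.cast_eq_zero F 3
    rw [this, zero_mul]
  -- zero and multiples
  have hzl : ∀ y, β 0 y = 1 := by
    intro y
    have := hl 0 0 y
    rw [add_zero] at this
    exact (mul_eq_left.mp this.symm)
  have hzr : ∀ x, β x 0 = 1 := by
    intro x
    have := hr x 0 0
    rw [add_zero] at this
    exact (mul_eq_left.mp this.symm)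
  have hnl : ∀ (k : ℕ) x y, β (k • x) y = β x y ^ k := by
    intro k x y
    induction k with
    | zero => rw [zero_smul, pow_zero, hzl]
    | succ k ih => rw [succ_nsmul, hl, ih, pow_succ]
  have hnr : ∀ (k : ℕ) x y, β x (k • y) = β x y ^ k := by
    intro k x y
    induction k with
    | zero => rw [zero_smul, pow_zero, hzr]
    | succ k ih => rw [succ_nsmul, hr, ih, pow_succ]
  have hanti : ∀ x y, β y x = (β x y)⁻¹ := by
    intro x y
    have h := halt (x + y)
    rw [hl, hr, hr, halt, halt, one_mul, mul_one] at h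
    exact eq_inv_of_mul_eq_one_right h
  -- a basis over the prime field
  let _ : Algebra (ZMod 3) F := ZMod.algebra F 3
  have hfin : Module.finrank (ZMod 3) F = 2 := by
    have h1 := Module.card_eq_pow_finrank (K := ZMod 3) (V := F)
    rw [← Nat.card_eq_fintype_card (α := F), Nat.card_eq_fintype_card (α := F)] at h1
    rw [hF, ZMod.card] at h1
    have : (3 : ℕ) ^ 2 = 3 ^ Module.finrank (ZMod 3) F := by rw [← h1]; norm_num
    exact (Nat.pow_right_injective (show 2 ≤ 3 by norm_num) this).symm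
  let b : Module.Basis (Fin 2) (ZMod 3) F := Module.finBasisOfFinrankEq (ZMod 3) F hfin
  have hrepr : ∀ x : F, ∃ a c : ℕ, x = a • b 0 + c • b 1 := by
    intro x
    refine ⟨(b.repr x 0).val, (b.repr x 1).val, ?_⟩
    have h1 := b.sum_repr x
    rw [Fin.sum_univ_two] at h1
    have h2 : ∀ (r : ZMod 3) (v : F), r • v = r.val • v := by
      intro r v
      rw [← Nat.cast_smul_eq_nsmul (ZMod 3), ZMod.natCast_zmod_val]
    rw [h2, h2] at h1
    exact h1.symm
  refine ⟨β (b 0) (b 1), ?_, ?_⟩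
  · rw [← hnl, h3, hzl]
  · intro x y
    obtain ⟨a, c, rfl⟩ := hrepr x
    obtain ⟨a', c', rfl⟩ := hrepr y
    rw [hl, hr, hr, hnl, hnl, hnl, hnl, hnr, hnr, hnr, hnr, halt, halt, hanti (b 0) (b 1)]
    simp only [one_pow, mul_one, one_mul]
    apply Subgroup.mul_mem
    · exact Subgroup.pow_mem _ (Subgroup.pow_mem _ (Subgroup.mem_zpowers _) _) _
    · exact Subgroup.pow_mem _ (Subgroup.pow_mem _ (Subgroup.inv_mem _ (Subgroup.mem_zpowers _)) _) _

/-- The kernel of a finite stem extension of `SL₂(9)` has order `1` or `3`. -/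
theorem card_ker_sl2_nine {F : Type*} [Field F] [Fintype F] (hF : Fintype.card F = 9)
    {Γ : Type*} [Group Γ] [Finite Γ]
    (σ : Γ →* Matrix.SpecialLinearGroup (Fin 2) F) (hσ : Cfsg.IsStemExtension σ) :
    Nat.card σ.ker = 1 ∨ Nat.card σ.ker = 3 := by
  -- characteristic three
  obtain ⟨p, hchar⟩ := CharP.exists F
  obtain ⟨n, hp, hcard⟩ := FiniteField.card F p
  have hp3 : p = 3 := by
    have h1 : p ∣ 9 := by
      rw [← hF, hcard]; exact dvd_pow_self p n.pos.ne'
    have h2 : p ∣ 3 := hp.dvd_of_dvd_pow (show p ∣ 3 ^ 2 by norm_num; exact h1)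
    exact (Nat.prime_dvd_prime_iff_eq hp Nat.prime_three).mp h2
  subst hp3
  have : Fact (Nat.Prime 3) := ⟨hp⟩
  have hprime : ∀ z ∈ σ.ker, ∀ s : ℕ, s.Prime → s ∣ orderOf z → s = 3 :=
    fun z hz s hs hsd => prime_dvd_orderOf_ker 3 σ hσ z hz s hs hsd
  obtain ⟨hsurj, hcen, hder⟩ := hσ
  obtain ⟨β, hβker, hβl, hβr, hβalt, hβkey⟩ := unip_pairing σ hcen hsurj
  obtain ⟨w, hw3, hw⟩ := pairing_cyclic hF β hβl hβr hβalt
  -- all commutators of the preimage of `unip F` lie in `zpowers w`
  have hcomm : ∀ x : (unip F).comap σ, x ∈ commutator ((unip F).comap σ) →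
      (x : Γ) ∈ Subgroup.zpowers w := by
    intro x hx
    rw [commutator_eq_closure] at hx
    induction hx using Subgroup.closure_induction with
    | mem y hy =>
      obtain ⟨g₁, g₂, rfl⟩ := hy
      obtain ⟨a, ha⟩ := g₁.2
      obtain ⟨c, hc⟩ := g₂.2
      have : (((⁅g₁, g₂⁆ : (unip F).comap σ)) : Γ) = ⁅(g₁ : Γ), (g₂ : Γ)⁆ := rfl
      rw [this, hβkey _ _ a c ha.symm hc.symm]
      exact hw a c
    | one => exact Subgroup.one_mem _
    | mul y y' _ _ h1 h2 => exact Subgroup.mul_mem _ h1 h2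
    | inv y _ h1 => exact Subgroup.inv_mem _ h1
  have hidx : ((unip F).comap σ).index = 80 := by
    rw [Subgroup.index_comap_of_surjective _ hsurj, index_unip, hF]; norm_num
  have hpow : ∀ z ∈ σ.ker, z ^ 80 ∈ Subgroup.zpowers w := by
    intro z hz
    obtain ⟨h, hmem⟩ := pow_index_mem_commutator ((unip F).comap σ) z (hcen hz) (hder hz)
    have h1 : z ^ ((unip F).comap σ).index ∈ Subgroup.zpowers w := hcomm _ hmem
    rw [hidx] at h1
    exact h1
  -- injectivity of the 80-th power map on the kernel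
  have hinj : ∀ u ∈ σ.ker, u ^ 80 = 1 → u = 1 := by
    intro u hu h80
    by_contra hne
    have hord : orderOf u ≠ 1 := by rwa [Ne, orderOf_eq_one_iff]
    obtain ⟨s, hs, hsd⟩ := Nat.exists_prime_and_dvd hord
    have hs3 := hprime u hu s hs hsd
    subst hs3
    have := hsd.trans (orderOf_dvd_of_pow_eq_one h80)
    norm_num at this
  have hle : Nat.card σ.ker ≤ Nat.card (Subgroup.zpowers w) := by
    let f : σ.ker → Subgroup.zpowers w := fun z => ⟨(z : Γ) ^ 80, hpow z z.2⟩
    apply Nat.card_le_card_of_injective f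
    intro z z' hzz
    have h1 : (z : Γ) ^ 80 = (z' : Γ) ^ 80 := congrArg (fun k : Subgroup.zpowers w => (k : Γ)) hzz
    have hc : Commute (z : Γ) ((z' : Γ)⁻¹) := by
      have := hcen z.2
      rw [Subgroup.mem_center_iff] at this
      exact (this _).symm
    have h2 : ((z : Γ) * (z' : Γ)⁻¹) ^ 80 = 1 := by
      rw [hc.mul_pow, h1, inv_pow, mul_inv_cancel]
    have h3 := hinj _ (σ.ker.mul_mem z.2 (σ.ker.inv_mem z'.2)) h2
    apply Subtype.ext
    exact mul_inv_eq_one.mp h3
  have hw_card : Nat.card (Subgroup.zpowers w) ≤ 3 := by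
    rw [Nat.card_zpowers]
    exact Nat.le_of_dvd (by norm_num) (orderOf_dvd_of_pow_eq_one hw3)
  have hpos : 0 < Nat.card σ.ker := Nat.card_pos
  have h123 : Nat.card σ.ker = 1 ∨ Nat.card σ.ker = 2 ∨ Nat.card σ.ker = 3 := by omega
  rcases h123 with h | h | h
  · exact Or.inl h
  · exfalso
    have : Fact (Nat.Prime 2) := ⟨Nat.prime_two⟩
    obtain ⟨z, hz⟩ := exists_prime_orderOf_dvd_card' (G := σ.ker) 2 (by rw [h])
    have hz' : orderOf (z : Γ) = 2 := by rw [Subgroup.orderOf_coe]; exact hz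
    have := hprime z z.2 2 Nat.prime_two (by rw [hz'])
    norm_num at this
  · exact Or.inr h

end Cfsg.Agent.Helper3.Stem
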