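import Mathlib
import Cfsg.Agent.Helper3.SteinA
import Cfsg.Agent.Helper3.StemA
import Cfsg.Agent.Helper3.StemF

/-!
Helper lemmas (helper3): the rank-one Steinberg relations over a finite field present `SL₂(K)`:
the kernel of the map to `SL₂(K)` is a stem extension kernel, which is killed by transfer to the
Sylow subgroups (the preimage of the unipotent subgroup is commutative; the Sylow subgroups for the
other primes are cyclic or quaternion).
-/

set_option autoImplicit false

namespace Cfsg.Agent.Helper3.Stein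

open Cfsg.Agent.Helper5.SLB Cfsg.Agent.Helper3.Stem
open scoped commutatorElement

/-- Version of `pow_index_eq_one_of_good` where only the quotient is finite. -/
theorem pow_index_eq_one_of_good' {Γ G : Type*} [Group Γ] [Group G] [Finite G] (σ : Γ →* G)
    (hσ : Cfsg.IsStemExtension σ) (U : Subgroup G) (hU : Good σ U) (z : Γ) (hz : z ∈ σ.ker) :
    z ^ U.index = 1 := by
  obtain ⟨hsurj, hcen, hder⟩ := hσ
  have hidx : (U.comap σ).index = U.index := Subgroup.index_comap_of_surjective U hsurj
  have : (U.comap σ).FiniteIndex := ⟨by rw [hidx]; exact Subgroup.FiniteIndex.index_ne_zero⟩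
  obtain ⟨h, hmem⟩ := pow_index_mem_commutator (U.comap σ) z (hcen hz) (hder hz)
  have h1 := hU ⟨z ^ (U.comap σ).index, h⟩ hmem (Subgroup.pow_mem _ hz _)
  have h2 := congrArg (fun x : U.comap σ => (x : Γ)) h1
  simp only [Subgroup.coe_one] at h2
  rw [← hidx]
  exact h2

/-- Version of `ker_eq_bot_of_forall_good` where only the quotient is finite. -/
theorem ker_eq_bot_of_forall_good' {Γ G : Type*} [Group Γ] [Group G] [Finite G] (σ : Γ →* G)
    (hσ : Cfsg.IsStemExtension σ)
    (h : ∀ s : ℕ, s.Prime → ∃ U : Subgroup G, ¬ s ∣ U.index ∧ Good σ U) : σ.ker = ⊥ := by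
  by_contra hne
  obtain ⟨z, hz, hz1⟩ : ∃ z ∈ σ.ker, z ≠ 1 := by
    by_contra hcon
    push Not at hcon
    apply hne
    rw [eq_bot_iff]
    intro x hx
    rw [Subgroup.mem_bot]
    exact hcon x hx
  have hord : orderOf z ≠ 1 := by
    rw [Ne, orderOf_eq_one_iff]; exact hz1
  obtain ⟨s, hs, hsd⟩ := Nat.exists_prime_and_dvd hord
  obtain ⟨U, hU1, hU2⟩ := h s hs
  have h1 := pow_index_eq_one_of_good' σ hσ U hU2 z hz
  exact hU1 (hsd.trans (orderOf_dvd_of_pow_eq_one h1))

namespace StData

variable {K : Type*} [Field K] {Gt : Type*} [Group Gt] (D : StData K Gt)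

theorem surjective : Function.Surjective D.π := by
  rw [← MonoidHom.range_eq_top]
  apply eq_top_of_unip_le_of_not_le_borel
  · rintro _ ⟨s, rfl⟩
    exact ⟨D.x s, D.πx s⟩
  · intro hle
    exact lMat_not_mem_borel (hle ⟨D.y 1, D.πy 1⟩)

theorem x_mem_commutator (t₀ : K) (ht₀ : t₀ ≠ 0) (h1 : t₀ ^ 2 ≠ 1) (u : K) :
    D.x u ∈ commutator Gt := by
  have hne : t₀ ^ 2 - 1 ≠ 0 := sub_ne_zero.mpr h1
  have e : D.x u = ⁅D.h t₀, D.x (u / (t₀ ^ 2 - 1))⁆ := by
    rw [commutatorElement_def, D.h_x _ _ ht₀, mul_inv_cancel_right, D.x_inv, D.x_add]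
    congr 1
    field_simp
    ring
  rw [e]
  exact Subgroup.commutator_mem_commutator (Subgroup.mem_top _) (Subgroup.mem_top _)

theorem y_mem_commutator (t₀ : K) (ht₀ : t₀ ≠ 0) (h1 : t₀ ^ 2 ≠ 1) (u : K) :
    D.y u ∈ commutator Gt := by
  have h1' : t₀⁻¹ ^ 2 ≠ 1 := by
    intro h
    apply h1
    rw [inv_pow, inv_eq_one] at h
    exact h
  have hne : t₀⁻¹ ^ 2 - 1 ≠ 0 := sub_ne_zero.mpr h1'
  have e : D.y u = ⁅D.h t₀, D.y (u / (t₀⁻¹ ^ 2 - 1))⁆ := by
    rw [commutatorElement_def, D.h_y _ _ ht₀, mul_inv_cancel_right, D.y_inv, D.y_add]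
    congr 1
    field_simp
    ring
  rw [e]
  exact Subgroup.commutator_mem_commutator (Subgroup.mem_top _) (Subgroup.mem_top _)

theorem w_mem_commutator_of_three (h3 : (3 : K) = 0) (t : K) (ht : t ≠ 0) :
    D.w t ∈ commutator Gt := by
  have e : D.w t = D.x t * ⁅D.w t, D.x t⁆ * (D.x t)⁻¹ := by
    rw [commutatorElement_def]
    have h := D.relx t t ht
    have e1 : -(t⁻¹ ^ 2 * t) = -t⁻¹ := by field_simp
    rw [e1] at h
    change D.w t * D.x t * (D.w t)⁻¹ = _ at h
    rw [h, D.x_inv, mul_assoc, mul_assoc, D.x_add]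
    unfold w
    rw [mul_assoc]
    congr 3
    linear_combination t * h3
  rw [e]
  exact (inferInstance : (commutator Gt).Normal).conj_mem _
    (Subgroup.commutator_mem_commutator (Subgroup.mem_top _) (Subgroup.mem_top _)) _

theorem ker_le_commutator : D.π.ker ≤ commutator Gt := by
  by_cases hex : ∃ t₀ : K, t₀ ≠ 0 ∧ t₀ ^ 2 ≠ 1
  · obtain ⟨t₀, ht₀, h1⟩ := hex
    have htop : commutator Gt = ⊤ :=
      D.gen _ (D.x_mem_commutator t₀ ht₀ h1) (D.y_mem_commutator t₀ ht₀ h1)
    rw [htop]
    exact le_top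
  · push Not at hex
    by_cases h2 : (2 : K) = 0
    · -- the torus is trivial
      have hH : D.Ht = ⊥ := by
        rw [eq_bot_iff]
        unfold Ht
        rw [Subgroup.closure_le]
        rintro g ⟨t, ht, rfl⟩
        have h1 := hex t ht
        have h3 : (t - 1) * (t - 1) = 0 := by
          linear_combination h1 + (1 - t) * h2
        have h4 : t = 1 := by
          rcases mul_self_eq_zero.mp h3 with h
          exact sub_eq_zero.mp h
        subst h4
        change D.h 1 = 1
        unfold h ww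
        exact mul_inv_cancel _
      refine D.ker_le.trans ?_
      rw [hH]
      exact inf_le_left.trans bot_le
    · have h3 : (3 : K) = 0 := by
        have h4 := hex 2 h2
        linear_combination h4
      have hH : D.Ht ≤ commutator Gt := by
        unfold Ht
        rw [Subgroup.closure_le]
        rintro g ⟨t, ht, rfl⟩
        exact mul_mem (D.w_mem_commutator_of_three h3 t ht)
          (inv_mem (D.w_mem_commutator_of_three h3 1 one_ne_zero))
      exact D.ker_le.trans (inf_le_left.trans hH)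

theorem isStem : Cfsg.IsStemExtension D.π :=
  ⟨D.surjective, D.ker_le.trans inf_le_right, D.ker_le_commutator⟩

theorem good_unip : Good D.π (unip K) := by
  apply good_of_comm
  have key : ∀ a : Gt, D.π a ∈ unip K → ∃ s : K, ∃ z ∈ Subgroup.center Gt, a = D.x s * z := by
    rintro a ⟨s, hs⟩
    refine ⟨s, (D.x s)⁻¹ * a, ?_, by group⟩
    apply (D.ker_le.trans inf_le_right)
    rw [MonoidHom.mem_ker, map_mul, map_inv, D.πx, hs, inv_mul_cancel]
  intro a b ha hb
  obtain ⟨s, z, hz, rfl⟩ := key a ha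
  obtain ⟨s', z', hz', rfl⟩ := key b hb
  rw [Subgroup.mem_center_iff] at hz hz'
  calc D.x s * z * (D.x s' * z') = D.x s * (z * D.x s') * z' := by group
    _ = D.x s * (D.x s' * z) * z' := by rw [hz]
    _ = (D.x s * D.x s') * (z * z') := by group
    _ = (D.x s' * D.x s) * (z' * z) := by rw [D.x_add, D.x_add, add_comm, hz' z]
    _ = D.x s' * (D.x s * z') * z := by group
    _ = D.x s' * (z' * D.x s) * z := by rw [hz']
    _ = _ := by group

theorem injective [Finite K] : Function.Injective D.π := by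
  rw [← MonoidHom.ker_eq_bot_iff]
  have : Fintype K := Fintype.ofFinite K
  obtain ⟨p, hp⟩ := CharP.exists K
  have : Fact p.Prime := ⟨CharP.char_is_prime K p⟩
  apply ker_eq_bot_of_forall_good' D.π D.isStem
  intro s hs
  by_cases hsp : s = p
  · subst hsp
    exact ⟨unip K, not_dvd_index_unip s, D.good_unip⟩
  · exact exists_good_ne_char p D.π (D.ker_le.trans inf_le_right) D.surjective s hs hsp

/-- The Steinberg relations present `SL₂(K)`. -/
noncomputable def equiv [Finite K] : Gt ≃* Matrix.SpecialLinearGroup (Fin 2) K :=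
  MulEquiv.ofBijective D.π ⟨D.injective, D.surjective⟩

theorem equiv_apply [Finite K] (g : Gt) : D.equiv g = D.π g := rfl

end StData

end Cfsg.Agent.Helper3.Stein
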