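import Mathlib
import Cfsg.Prelude.Def_KGroupFacts

/-!
Helper lemmas (helper3): comparing stem extensions of a quotient `Gb` of a perfect group `G` with
trivial Schur multiplier: every finite stem extension of `Gb` has order at most `|G|`.
-/

set_option autoImplicit false

namespace Cfsg.Agent.Helper3.Stem

/-- The iterated commutator subgroups of a subgroup. -/
def dser {X : Type*} [Group X] (P : Subgroup X) : ℕ → Subgroup X
  | 0 => P
  | (n + 1) => ⁅dser P n, dser P n⁆

theorem dser_succ_le {X : Type*} [Group X] (P : Subgroup X) (n : ℕ) : dser P (n + 1) ≤ dser P n :=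
  Subgroup.commutator_le_self _

theorem dser_antitone {X : Type*} [Group X] (P : Subgroup X) : Antitone (dser P) :=
  antitone_nat_of_succ_le (dser_succ_le P)

theorem dser_le {X : Type*} [Group X] (P : Subgroup X) (n : ℕ) : dser P n ≤ P :=
  dser_antitone P (Nat.zero_le n)

theorem exists_dser_stable {X : Type*} [Group X] [Finite X] (P : Subgroup X) :
    ∃ n, dser P (n + 1) = dser P n := by
  by_contra hcon
  push Not at hcon
  have hlt : ∀ n, Nat.card (dser P n) + n ≤ Nat.card P := by
    intro n
    induction n with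
    | zero => exact le_rfl
    | succ n ih =>
      have h1 : dser P (n + 1) < dser P n := lt_of_le_of_ne (dser_succ_le P n) (hcon n)
      have h2 : Nat.card (dser P (n + 1)) < Nat.card (dser P n) := by
        have hss : (dser P (n + 1) : Set X) ⊂ (dser P n : Set X) := by
          rw [Set.ssubset_iff_subset_ne]
          exact ⟨h1.le, fun h => h1.ne (SetLike.coe_injective h)⟩
        have := Set.ncard_lt_ncard hss (Set.toFinite _)
        rwa [← Nat.card_coe_set_eq, ← Nat.card_coe_set_eq] at this
      omega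
  have := hlt (Nat.card P + 1)
  omega

theorem map_dser {X Y : Type*} [Group X] [Group Y] (f : X →* Y) (P : Subgroup X) (n : ℕ) :
    (dser P n).map f = dser (P.map f) n := by
  induction n with
  | zero => rfl
  | succ n ih =>
    change Subgroup.map f ⁅dser P n, dser P n⁆ = ⁅dser (P.map f) n, dser (P.map f) n⁆
    rw [Subgroup.map_commutator, ih]

theorem dser_top_of_perfect {X : Type*} [Group X] (h : commutator X = ⊤) (n : ℕ) :
    dser (⊤ : Subgroup X) n = ⊤ := by
  induction n with
  | zero => rfl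
  | succ n ih =>
    change ⁅dser (⊤ : Subgroup X) n, dser (⊤ : Subgroup X) n⁆ = ⊤
    rw [ih]
    exact h

/-- The source of a stem extension of a perfect group is perfect. -/
theorem perfect_of_stem {Γ Gb : Type*} [Group Γ] [Group Gb] (σ : Γ →* Gb)
    (hσ : Cfsg.IsStemExtension σ) (hperf : commutator Gb = ⊤) : commutator Γ = ⊤ := by
  obtain ⟨hsurj, -, hder⟩ := hσ
  rw [eq_top_iff]
  intro γ _
  have h1 : σ γ ∈ (commutator Γ).map σ := by
    rw [commutator_def, Subgroup.map_commutator, ← MonoidHom.range_eq_map,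
      MonoidHom.range_eq_top.mpr hsurj]
    change σ γ ∈ commutator Gb
    rw [hperf]; exact Subgroup.mem_top _
  obtain ⟨γ', hγ', he⟩ := h1
  have h2 : γ'⁻¹ * γ ∈ σ.ker := by
    rw [MonoidHom.mem_ker, map_mul, map_inv, he, inv_mul_cancel]
  have h3 : γ = γ' * (γ'⁻¹ * γ) := by group
  rw [h3]
  exact Subgroup.mul_mem _ hγ' (hder h2)

/-- If `G` is a finite perfect group all of whose (relevant) stem extensions are trivial and `Gb`
is a quotient of `G`, then every finite stem extension of `Gb` has order at most `|G|`. -/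
theorem card_le_of_cover {G Gb Γ : Type*} [Group G] [Group Gb] [Group Γ] [Finite G] [Finite Γ]
    (hperf : commutator G = ⊤)
    (hTM : ∀ (D : Subgroup (Γ × G)) (τ : D →* G), Cfsg.IsStemExtension τ → τ.ker = ⊥)
    (q : G →* Gb) (hq : Function.Surjective q)
    (σ : Γ →* Gb) (hσ : Cfsg.IsStemExtension σ) : Nat.card Γ ≤ Nat.card G := by
  have hperfb : commutator Gb = ⊤ := by
    rw [commutator_def, ← MonoidHom.range_eq_top.mpr hq, MonoidHom.range_eq_map,
      ← Subgroup.map_commutator]
    change Subgroup.map q (commutator G) = _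
    rw [hperf]
  have hperfΓ : commutator Γ = ⊤ := perfect_of_stem σ hσ hperfb
  obtain ⟨hsurj, hcen, hder⟩ := hσ
  -- the pullback
  let P : Subgroup (Γ × G) :=
    (σ.comp (MonoidHom.fst Γ G)).eqLocus (q.comp (MonoidHom.snd Γ G))
  have hP : ∀ x : Γ × G, x ∈ P ↔ σ x.1 = q x.2 := fun x => Iff.rfl
  have hP1 : P.map (MonoidHom.fst Γ G) = ⊤ := by
    rw [eq_top_iff]
    intro γ _
    obtain ⟨g, hg⟩ := hq (σ γ)
    exact ⟨(γ, g), (hP _).mpr hg.symm, rfl⟩
  have hP2 : P.map (MonoidHom.snd Γ G) = ⊤ := by
    rw [eq_top_iff]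
    intro g _
    obtain ⟨γ, hγ⟩ := hsurj (q g)
    exact ⟨(γ, g), (hP _).mpr hγ, rfl⟩
  obtain ⟨n, hn⟩ := exists_dser_stable P
  obtain ⟨D, hD⟩ : ∃ D : Subgroup (Γ × G), D = dser P n := ⟨_, rfl⟩
  have hDD : ⁅D, D⁆ = D := by rw [hD]; exact hn
  have hD1 : D.map (MonoidHom.fst Γ G) = ⊤ := by
    rw [hD, map_dser, hP1, dser_top_of_perfect hperfΓ]
  have hD2 : D.map (MonoidHom.snd Γ G) = ⊤ := by
    rw [hD, map_dser, hP2, dser_top_of_perfect hperf]
  have hDP : D ≤ P := by rw [hD]; exact dser_le P n
  -- the stem extension `D → G`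
  let τ : D →* G := (MonoidHom.snd Γ G).comp D.subtype
  have hτ : Cfsg.IsStemExtension τ := by
    refine ⟨?_, ?_, ?_⟩
    · intro g
      have : g ∈ D.map (MonoidHom.snd Γ G) := by rw [hD2]; exact Subgroup.mem_top _
      obtain ⟨x, hx, rfl⟩ := this
      exact ⟨⟨x, hx⟩, rfl⟩
    · intro x hx
      rw [MonoidHom.mem_ker] at hx
      have hx2 : (x : Γ × G).2 = 1 := hx
      have hx1 : (x : Γ × G).1 ∈ Subgroup.center Γ := by
        apply hcen
        rw [MonoidHom.mem_ker, (hP _).mp (hDP x.2), hx2, map_one]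
      rw [Subgroup.mem_center_iff] at hx1 ⊢
      intro y
      apply Subtype.ext
      apply Prod.ext
      · exact hx1 _
      · change (y : Γ × G).2 * (x : Γ × G).2 = (x : Γ × G).2 * (y : Γ × G).2
        rw [hx2, mul_one, one_mul]
    · have : Group.IsPerfect D := Subgroup.isPerfect_iff.mpr hDD
      rw [this.commutator_eq_top]
      exact le_top
  have hker := hTM D τ hτ
  have hinj : Function.Injective τ := (MonoidHom.ker_eq_bot_iff τ).mp hker
  have h1 : Nat.card D ≤ Nat.card G := Nat.card_le_card_of_injective τ hinj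
  have h2 : Nat.card Γ ≤ Nat.card D := by
    let ρ : D →* Γ := (MonoidHom.fst Γ G).comp D.subtype
    have hρ : Function.Surjective ρ := by
      intro γ
      have : γ ∈ D.map (MonoidHom.fst Γ G) := by rw [hD1]; exact Subgroup.mem_top _
      obtain ⟨x, hx, rfl⟩ := this
      exact ⟨⟨x, hx⟩, rfl⟩
    exact Nat.card_le_card_of_surjective ρ hρ
  exact h2.trans h1

/-- Consequently the kernel of any finite stem extension of `Gb` has order at most `|ker q|`. -/
theorem card_ker_le_of_cover {G Gb Γ : Type*} [Group G] [Group Gb] [Group Γ] [Finite G] [Finite Γ]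
    (hperf : commutator G = ⊤)
    (hTM : ∀ (D : Subgroup (Γ × G)) (τ : D →* G), Cfsg.IsStemExtension τ → τ.ker = ⊥)
    (q : G →* Gb) (hq : Function.Surjective q)
    (σ : Γ →* Gb) (hσ : Cfsg.IsStemExtension σ) : Nat.card σ.ker ≤ Nat.card q.ker := by
  have h := card_le_of_cover hperf hTM q hq σ hσ
  have h1 := Subgroup.card_mul_index σ.ker
  have h2 := Subgroup.card_mul_index q.ker
  rw [Subgroup.index_ker, MonoidHom.range_eq_top.mpr hσ.1] at h1
  rw [Subgroup.index_ker, MonoidHom.range_eq_top.mpr hq] at h2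
  rw [← h1, ← h2] at h
  have : Finite Gb := Finite.of_surjective q hq
  have hpos : 0 < Nat.card (⊤ : Subgroup Gb) := Nat.card_pos
  exact Nat.le_of_mul_le_mul_right h hpos

end Cfsg.Agent.Helper3.Stem
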