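import Mathlib
import Cfsg.Prelude.Def_KGroupFacts

/-!
Helper lemmas (helper3): fiber products of central extensions give stem extensions.
-/

set_option autoImplicit false

namespace Cfsg.Agent.Helper3.Stem

/-- Given a surjection `q : G → Q` with finite kernel and a central extension `π : X → Q` whose kernel
lies in `X'` and has order prime to `|ker q|`, the fiber product of `q` and `π` is a stem extension
of `G` with kernel isomorphic to `ker π`. -/
theorem exists_stem_of_fiber {G Q X : Type*} [Group G] [Group Q] [Group X] [Finite G] [Finite X]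
    (q : G →* Q) (hq : Function.Surjective q)
    (π : X →* Q) (hπ : Function.Surjective π) (hπc : π.ker ≤ Subgroup.center X)
    (hπd : π.ker ≤ commutator X)
    (hcop : (Nat.card q.ker).Coprime (Nat.card π.ker)) :
    ∃ (Γ : Subgroup (G × X)) (σ : Γ →* G), Cfsg.IsStemExtension σ ∧ Nonempty (σ.ker ≃* π.ker) := by
  let Γ : Subgroup (G × X) :=
    (q.comp (MonoidHom.fst G X)).eqLocus (π.comp (MonoidHom.snd G X))
  have hΓ : ∀ y : G × X, y ∈ Γ ↔ q y.1 = π y.2 := fun y => Iff.rfl
  let σ : Γ →* G := (MonoidHom.fst G X).comp Γ.subtype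
  let pr : Γ →* X := (MonoidHom.snd G X).comp Γ.subtype
  have hσ_apply : ∀ y : Γ, σ y = (y : G × X).1 := fun _ => rfl
  have hpr_apply : ∀ y : Γ, pr y = (y : G × X).2 := fun _ => rfl
  have hker : ∀ y : Γ, y ∈ σ.ker → (y : G × X).2 ∈ π.ker := by
    intro y hy
    rw [MonoidHom.mem_ker, hσ_apply] at hy
    rw [MonoidHom.mem_ker, ← (hΓ _).mp y.2, hy, map_one]
  have hprsurj : Function.Surjective pr := by
    intro x
    obtain ⟨g, hg⟩ := hq (π x)
    exact ⟨⟨(g, x), (hΓ _).mpr hg⟩, rfl⟩
  refine ⟨Γ, σ, ⟨?_, ?_, ?_⟩, ?_⟩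
  · intro g
    obtain ⟨x, hx⟩ := hπ (q g)
    exact ⟨⟨(g, x), (hΓ _).mpr hx.symm⟩, rfl⟩
  · intro y hy
    have h2 := hπc (hker y hy)
    rw [MonoidHom.mem_ker, hσ_apply] at hy
    rw [Subgroup.mem_center_iff] at h2 ⊢
    intro t
    apply Subtype.ext
    apply Prod.ext
    · change (t : G × X).1 * (y : G × X).1 = (y : G × X).1 * (t : G × X).1
      rw [hy, mul_one, one_mul]
    · exact h2 _
  · intro y hy
    have hm : (y : G × X).2 ∈ commutator X := hπd (hker y hy)
    have hmap : (commutator Γ).map pr = commutator X := by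
      rw [commutator_def, Subgroup.map_commutator, ← MonoidHom.range_eq_map,
        MonoidHom.range_eq_top.mpr hprsurj]
      rfl
    rw [← hmap] at hm
    obtain ⟨x, hx, hxy⟩ := hm
    rw [hpr_apply] at hxy
    -- `x.1 ∈ ker q`
    have hx1 : (x : G × X).1 ∈ q.ker := by
      rw [MonoidHom.mem_ker, (hΓ _).mp x.2, hxy]
      exact hker y hy
    have hpow1 : (x : G × X).1 ^ Nat.card q.ker = 1 := by
      have := pow_card_eq_one' (G := q.ker) (x := ⟨_, hx1⟩)
      have := congrArg (fun k : q.ker => (k : G)) this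
      simpa using this
    have hpow2 : (y : G × X).2 ^ Nat.card π.ker = 1 := by
      have := pow_card_eq_one' (G := π.ker) (x := ⟨_, hker y hy⟩)
      have := congrArg (fun k : π.ker => (k : X)) this
      simpa using this
    have hbez := Nat.gcd_eq_gcd_ab (Nat.card q.ker) (Nat.card π.ker)
    rw [hcop, Nat.cast_one] at hbez
    have hy1 : (y : G × X).1 = 1 := by
      rw [MonoidHom.mem_ker, hσ_apply] at hy
      exact hy
    have hyx : y = (x ^ Nat.card q.ker) ^ (Nat.gcdA (Nat.card q.ker) (Nat.card π.ker)) := by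
      apply Subtype.ext
      apply Prod.ext
      · rw [hy1]
        simp only [Subgroup.coe_zpow, Subgroup.coe_pow, Prod.pow_fst, hpow1,
          one_zpow]
      · simp only [Subgroup.coe_zpow, Subgroup.coe_pow, Prod.pow_snd, hxy]
        have e1 : ((y : G × X).2 ^ Nat.card q.ker) ^ Nat.gcdA (Nat.card q.ker) (Nat.card π.ker) =
            (y : G × X).2 ^ ((Nat.card q.ker : ℤ) * Nat.gcdA (Nat.card q.ker) (Nat.card π.ker)) := by
          rw [zpow_mul, zpow_natCast]
        have e2 : (y : G × X).2 ^ ((Nat.card π.ker : ℤ) * Nat.gcdB (Nat.card q.ker) (Nat.card π.ker))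
            = 1 := by
          rw [zpow_mul, zpow_natCast, hpow2, one_zpow]
        rw [e1, ← mul_one ((y : G × X).2 ^ _), ← e2, ← zpow_add, ← hbez, zpow_one]
    rw [hyx]
    exact Subgroup.zpow_mem _ (Subgroup.pow_mem _ hx _) _
  · let f : σ.ker →* π.ker :=
      (pr.comp σ.ker.subtype).codRestrict π.ker (fun y => hker y.1 y.2)
    have hinj : Function.Injective f := by
      intro y y' h
      have h2 : ((y : Γ) : G × X).2 = ((y' : Γ) : G × X).2 :=
        congrArg (fun k : π.ker => (k : X)) h
      have h1 : ((y : Γ) : G × X).1 = ((y' : Γ) : G × X).1 := by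
        have e1 := y.2
        have e2 := y'.2
        rw [MonoidHom.mem_ker, hσ_apply] at e1 e2
        rw [e1, e2]
      apply Subtype.ext
      apply Subtype.ext
      exact Prod.ext h1 h2
    have hsurj : Function.Surjective f := by
      rintro ⟨m, hm⟩
      have hmem : ((1 : G), m) ∈ Γ := by
        rw [hΓ, map_one]
        exact (MonoidHom.mem_ker.mp hm).symm
      refine ⟨⟨⟨(1, m), hmem⟩, ?_⟩, ?_⟩
      · rw [MonoidHom.mem_ker, hσ_apply]
      · apply Subtype.ext
        rfl
    exact ⟨MulEquiv.ofBijective f ⟨hinj, hsurj⟩⟩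

end Cfsg.Agent.Helper3.Stem
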