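import Cfsg.Agent.Helper8.SylAltG
import Cfsg.Prelude.Def_TwoFusion

/-!
# S2221 support, piece CASEA (helper3): one non-trivial orbit of size at least 8

If the Sylow 2-subgroup `Q` of `Perm Ω` has a single non-trivial orbit, of size at least `8`, then
`Q ⊓ alternatingGroup Ω` is not the product of two commuting non-trivial subgroups with trivial
intersection.
-/

namespace Cfsg.Agent.Helper8.SylAlt

open Equiv Classical

variable {Ω : Type*} [Fintype Ω] [DecidableEq Ω]

/-- with a single non-trivial orbit, `Q` fixes every point off it. -/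
theorem caseA_fix_off (Q : Sylow 2 (Perm Ω)) (ω₀ : Ω)
    (hone : ∀ ω, orb (Q : Subgroup (Perm Ω)) ω = orb (Q : Subgroup (Perm Ω)) ω₀ ∨
      Nat.card ↥(orb (Q : Subgroup (Perm Ω)) ω) = 1)
    {y : Perm Ω} (hy : y ∈ Q) {a : Ω} (ha : a ∉ orb (Q : Subgroup (Perm Ω)) ω₀) : y a = a := by
  rcases hone a with h | h
  · exact absurd (h ▸ self_mem_orb _ a) ha
  · have h1 : y a ∈ orb (Q : Subgroup (Perm Ω)) a := mem_orb.mpr ⟨y, hy, rfl⟩
    have h2 : a ∈ orb (Q : Subgroup (Perm Ω)) a := self_mem_orb _ a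
    rw [Nat.card_coe_set_eq, Set.ncard_eq_one] at h
    obtain ⟨p, hp⟩ := h
    rw [hp, Set.mem_singleton_iff] at h1 h2
    rw [h1, h2]

theorem caseA_sign_cases (x : Perm Ω) : Perm.sign x = 1 ∨ Perm.sign x = -1 :=
  Int.units_eq_one_or _

/-- an element central in the even part of `Q` is central in `Q`, if `Q` has an orbit with at least
`8` points. -/
theorem caseA_central (Q : Sylow 2 (Perm Ω)) (ω₀ : Ω)
    (h8 : 8 ≤ Nat.card ↥(orb (Q : Subgroup (Perm Ω)) ω₀))
    {w : Perm Ω} (hw : w ∈ (Q : Subgroup (Perm Ω)) ⊓ alternatingGroup Ω)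
    (hwc : ∀ p ∈ (Q : Subgroup (Perm Ω)) ⊓ alternatingGroup Ω, w * p = p * w) :
    ∀ x ∈ Q, w * x = x * w := by
  set O := orb (Q : Subgroup (Perm Ω)) ω₀ with hOdef
  have hO := le_presSub_orb (Q : Subgroup (Perm Ω)) ω₀
  have hwQ : w ∈ Q := hw.1
  have hwsign : Perm.sign w = 1 := Perm.mem_alternatingGroup.mp hw.2
  -- a transposition of `Q` on the orbit
  have hex : ∃ a, a ∈ O ∧ a ≠ ω₀ := by
    by_contra hcon
    push Not at hcon
    have : O = {ω₀} := by
      ext a
      constructor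
      · intro ha; exact hcon a ha
      · intro ha; rw [Set.mem_singleton_iff] at ha; rw [ha]; exact self_mem_orb _ _
    rw [this] at h8
    simp at h8
  obtain ⟨a₀, ha₀, ha₀ne⟩ := hex
  obtain ⟨c, d, hcO, hdO, hcd, ht₀⟩ := exists_swap_mem Q ha₀ ha₀ne
  have ht₀sq : swap c d * swap c d = 1 := swap_mul_self c d
  have ht₀inv : (swap c d)⁻¹ = swap c d := swap_inv c d
  have ht₀sign : Perm.sign (swap c d) = -1 := Perm.sign_swap hcd
  -- membership in the even part
  have hmemP : ∀ x : Perm Ω, x ∈ Q → Perm.sign x = 1 →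
      x ∈ (Q : Subgroup (Perm Ω)) ⊓ alternatingGroup Ω :=
    fun x hx hs => ⟨hx, Perm.mem_alternatingGroup.mpr hs⟩
  -- key claim
  have key : w * swap c d = swap c d * w := by
    by_contra hne
    -- the commutator
    set d₀ : Perm Ω := w * (swap c d * w⁻¹ * (swap c d)⁻¹) with hd₀
    have hd₀' : d₀ = swap (w c) (w d) * swap c d := by
      rw [hd₀, ht₀inv, Equiv.swap_apply_apply]
      simp only [mul_assoc]
    have hd₀ne : d₀ ≠ 1 := by
      intro h1
      apply hne
      have h2 : w * swap c d * w⁻¹ * (swap c d)⁻¹ = 1 := by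
        rw [← h1, hd₀]; simp only [mul_assoc]
      rw [mul_inv_eq_one, mul_inv_eq_iff_eq_mul] at h2
      exact h2
    have hd₀Q : d₀ ∈ Q := by
      rw [hd₀]
      exact mul_mem hwQ (mul_mem (mul_mem ht₀ (inv_mem hwQ)) (inv_mem ht₀))
    have hd₀sign : Perm.sign d₀ = 1 := by
      rw [hd₀]
      simp only [Perm.sign_mul, Perm.sign_inv, hwsign, ht₀sign]
      decide
    have hd₀P : d₀ ∈ (Q : Subgroup (Perm Ω)) ⊓ alternatingGroup Ω := hmemP d₀ hd₀Q hd₀sign
    -- `d₀` is central in the even part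
    have hd₀c : ∀ p ∈ (Q : Subgroup (Perm Ω)) ⊓ alternatingGroup Ω, Commute d₀ p := by
      intro p hp
      have hp' : (swap c d)⁻¹ * p * swap c d ∈ (Q : Subgroup (Perm Ω)) ⊓ alternatingGroup Ω := by
        refine hmemP _ (mul_mem (mul_mem (inv_mem ht₀) hp.1) ht₀) ?_
        have hps : Perm.sign p = 1 := Perm.mem_alternatingGroup.mp hp.2
        simp only [Perm.sign_mul, Perm.sign_inv, hps, ht₀sign]
        decide
      have h1 : Commute w p := hwc p hp
      have h2 : Commute w⁻¹ ((swap c d)⁻¹ * p * swap c d) :=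
        (show Commute w ((swap c d)⁻¹ * p * swap c d) from hwc _ hp').inv_left
      have h3 : Commute (swap c d * w⁻¹ * (swap c d)⁻¹)
          (swap c d * ((swap c d)⁻¹ * p * swap c d) * (swap c d)⁻¹) :=
        h2.conj (swap c d)
      have h4 : swap c d * ((swap c d)⁻¹ * p * swap c d) * (swap c d)⁻¹ = p := by
        simp only [mul_assoc, mul_inv_cancel, mul_one, mul_inv_cancel_left]
      rw [h4] at h3
      exact h1.mul_left h3
    -- the support of `d₀` lies in `F`
    set F : Finset Ω := {c, d, w c, w d} with hF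
    have hFcard : F.card ≤ 4 := Finset.card_le_four
    have hsuppF : ∀ b, d₀ b ≠ b → b ∈ F := by
      intro b hb
      by_contra hbF
      apply hb
      simp only [hF, Finset.mem_insert, Finset.mem_singleton, not_or] at hbF
      obtain ⟨h1, h2, h3, h4⟩ := hbF
      rw [hd₀', Perm.mul_apply, swap_apply_of_ne_of_ne h1 h2, swap_apply_of_ne_of_ne h3 h4]
    have hFO : ∀ b ∈ F, b ∈ O := by
      intro b hb
      simp only [hF, Finset.mem_insert, Finset.mem_singleton] at hb
      rcases hb with rfl | rfl | rfl | rfl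
      · exact hcO
      · exact hdO
      · exact (hO hwQ _).mpr hcO
      · exact (hO hwQ _).mpr hdO
    have htF : ∀ b ∈ F, swap c d b ∈ F := by
      intro b hb
      by_cases hbc : b = c
      · rw [hbc, swap_apply_left]; simp [hF]
      · by_cases hbd : b = d
        · rw [hbd, swap_apply_right]; simp [hF]
        · rw [swap_apply_of_ne_of_ne hbc hbd]; exact hb
    obtain ⟨a, ha⟩ : ∃ a, d₀ a ≠ a := by
      by_contra hcon
      push Not at hcon
      exact hd₀ne (Equiv.ext hcon)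
    have haF : a ∈ F := hsuppF a ha
    have haO : a ∈ O := hFO a haF
    have hgF : ∀ g ∈ (Q : Subgroup (Perm Ω)) ⊓ alternatingGroup Ω, g a ∈ F := by
      intro g hg
      apply hsuppF
      have h1 : d₀ (g a) = g (d₀ a) := by
        rw [← Perm.mul_apply, (hd₀c g hg).eq, Perm.mul_apply]
      rw [h1]
      exact fun h => ha (g.injective h)
    have hOF : O ⊆ (F : Set Ω) := by
      intro b hb
      have hb' : b ∈ orb (Q : Subgroup (Perm Ω)) a := by
        rw [orb_eq_of_mem haO]; exact hb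
      obtain ⟨x, hx, hxa⟩ := mem_orb.mp hb'
      rcases caseA_sign_cases x with hs | hs
      · rw [← hxa]
        exact hgF x (hmemP x hx hs)
      · have hp : swap c d * x ∈ (Q : Subgroup (Perm Ω)) ⊓ alternatingGroup Ω := by
          refine hmemP _ (mul_mem ht₀ hx) ?_
          rw [Perm.sign_mul, hs, ht₀sign]; decide
        have h1 : x = swap c d * (swap c d * x) := by
          rw [← mul_assoc, ht₀sq, one_mul]
        rw [← hxa, h1, Perm.mul_apply]
        exact htF _ (hgF _ hp)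
    have hcard : Nat.card ↥O ≤ 4 := by
      rw [Nat.card_coe_set_eq]
      calc O.ncard ≤ (F : Set Ω).ncard := Set.ncard_le_ncard hOF (Finset.finite_toSet F)
        _ = F.card := Set.ncard_coe_finset F
        _ ≤ 4 := hFcard
    omega
  intro x hx
  rcases caseA_sign_cases x with hs | hs
  · exact hwc x (hmemP x hx hs)
  · have hp : x * swap c d ∈ (Q : Subgroup (Perm Ω)) ⊓ alternatingGroup Ω := by
      refine hmemP _ (mul_mem hx ht₀) ?_
      rw [Perm.sign_mul, hs, ht₀sign]; decide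
    have h1 : x = x * swap c d * swap c d := by
      rw [mul_assoc, ht₀sq, mul_one]
    have h2 := hwc _ hp
    calc w * x = w * (x * swap c d * swap c d) := by rw [← h1]
      _ = (w * (x * swap c d)) * swap c d := by simp only [mul_assoc]
      _ = (x * swap c d * w) * swap c d := by rw [h2]
      _ = x * swap c d * (w * swap c d) := by simp only [mul_assoc]
      _ = x * swap c d * (swap c d * w) := by rw [key]
      _ = (x * swap c d * swap c d) * w := by simp only [mul_assoc]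
      _ = x * w := by rw [← h1]

omit [DecidableEq Ω] in
/-- a non-trivial subgroup of `Q` has a non-trivial element of its centre. -/
theorem caseA_exists_central (Q : Sylow 2 (Perm Ω)) (S : Subgroup (Perm Ω))
    (hS : S ≤ (Q : Subgroup (Perm Ω))) (hS1 : S ≠ ⊥) :
    ∃ z ∈ S, z ≠ 1 ∧ ∀ s ∈ S, z * s = s * z := by
  have hp : IsPGroup 2 ↥S := Q.isPGroup'.to_le hS
  have : Nontrivial ↥S := (Subgroup.nontrivial_iff_ne_bot S).mpr hS1
  have := hp.center_nontrivial
  obtain ⟨z, hz⟩ := exists_ne (1 : Subgroup.center ↥S)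
  refine ⟨z.1.1, z.1.2, ?_, ?_⟩
  · intro h1
    apply hz
    apply Subtype.ext
    apply Subtype.ext
    exact h1
  · intro s hs
    have h1 := Subgroup.mem_center_iff.mp z.2 ⟨s, hs⟩
    have h2 := congrArg Subtype.val h1
    simpa using h2.symm

/-- **Piece CASEA.** -/
theorem caseA_false (hW : WFacts) (Q : Sylow 2 (Perm Ω)) (ω₀ : Ω) (h8 : 8 ≤ Nat.card ↥(orb (Q : Subgroup (Perm Ω)) ω₀))
    (hone : ∀ ω, orb (Q : Subgroup (Perm Ω)) ω = orb (Q : Subgroup (Perm Ω)) ω₀ ∨ Nat.card ↥(orb (Q : Subgroup (Perm Ω)) ω) = 1)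
    (S T : Subgroup (Perm Ω)) (hS : S ≤ (Q : Subgroup (Perm Ω)) ⊓ alternatingGroup Ω) (hT : T ≤ (Q : Subgroup (Perm Ω)) ⊓ alternatingGroup Ω)
    (hc : ∀ s ∈ S, ∀ t ∈ T, s * t = t * s) (hinf : S ⊓ T = ⊥) (hsup : S ⊔ T = (Q : Subgroup (Perm Ω)) ⊓ alternatingGroup Ω) (hS1 : S ≠ ⊥) (hT1 : T ≠ ⊥) : False := by
  have hSQ : S ≤ (Q : Subgroup (Perm Ω)) := hS.trans inf_le_left
  have hTQ : T ≤ (Q : Subgroup (Perm Ω)) := hT.trans inf_le_left
  have hO := le_presSub_orb (Q : Subgroup (Perm Ω)) ω₀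
  obtain ⟨z, hzQ, hz1, hzsupp, hzcomm, hz2, hzsign, _, hzuniq⟩ :=
    big_orbit_data hW Q ω₀ (by omega)
  -- central elements of `Q` are `1` or `z`
  have hcent : ∀ y ∈ Q, (∀ x ∈ Q, y * x = x * y) → y = 1 ∨ y = z := by
    intro y hy hycomm
    have h1 := hzuniq y hy (by
      intro x hx
      rw [← cut_mul (hO hy) (hO hx), ← cut_mul (hO hx) (hO hy), hycomm x hx])
    rwa [cut_eq_self (fun a ha => caseA_fix_off Q ω₀ hone hy ha)] at h1
  obtain ⟨zS, hzS, hzS1, hzSc⟩ := caseA_exists_central Q S hSQ hS1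
  obtain ⟨zT, hzT, hzT1, hzTc⟩ := caseA_exists_central Q T hTQ hT1
  -- both are central in the even part
  have hS_c : ∀ p ∈ (Q : Subgroup (Perm Ω)) ⊓ alternatingGroup Ω, zS * p = p * zS := by
    intro p hp
    rw [← hsup] at hp
    obtain ⟨s, hs, t, ht, rfl⟩ := exists_mul_of_mem_sup' hc hp
    rw [← mul_assoc, hzSc s hs, mul_assoc, hc zS hzS t ht, ← mul_assoc]
  have hT_c : ∀ p ∈ (Q : Subgroup (Perm Ω)) ⊓ alternatingGroup Ω, zT * p = p * zT := by
    intro p hp
    rw [← hsup] at hp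
    obtain ⟨s, hs, t, ht, rfl⟩ := exists_mul_of_mem_sup' hc hp
    rw [← mul_assoc, ← hc s hs zT hzT, mul_assoc, hzTc t ht, ← mul_assoc]
  have hzSz : zS = z := by
    rcases hcent zS (hSQ hzS) (caseA_central Q ω₀ h8 (hS hzS) hS_c) with h | h
    · exact absurd h hzS1
    · exact h
  have hzTz : zT = z := by
    rcases hcent zT (hTQ hzT) (caseA_central Q ω₀ h8 (hT hzT) hT_c) with h | h
    · exact absurd h hzT1
    · exact h
  have : z ∈ S ⊓ T := ⟨hzSz ▸ hzS, hzTz ▸ hzT⟩
  rw [hinf, Subgroup.mem_bot] at this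
  exact hz1 this

end Cfsg.Agent.Helper8.SylAlt
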