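import Mathlib

/-!
# S2221, piece WR, statement W1 (helper3)

`W1`: the iterated wreath product `C₂ ≀ ⋯ ≀ C₂` is not the product of two commuting proper
subgroups.  Self-contained general step `W1_step` for `D ≀ᵣ C₂`, `D` any finite 2-group.
-/

namespace Cfsg.Agent.Helper8.SylAlt

namespace H3W1

open RegularWreathProduct

/-- commuting subgroups generating the group are normal -/
theorem normal_of_comm_sup {G : Type*} [Group G] (A B : Subgroup G)
    (hc : ∀ a ∈ A, ∀ b ∈ B, a * b = b * a) (hAB : A ⊔ B = ⊤) : A.Normal := by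
  rw [← Subgroup.normalizer_eq_top_iff, eq_top_iff, ← hAB]
  refine sup_le Subgroup.le_normalizer ?_
  intro b hb
  rw [Subgroup.mem_normalizer_iff]
  intro n
  constructor
  · intro hn
    have : b * n * b⁻¹ = n := by rw [← hc n hn b hb, mul_inv_cancel_right]
    rwa [this]
  · intro hm
    have h1 := hc _ hm b hb
    have h2 : b * n = b * (b * n * b⁻¹) := by simpa using h1
    have h3 : n = b * n * b⁻¹ := mul_left_cancel h2
    rw [h3]; exact hm

/-- the generator of `C₂` -/
def sg : Multiplicative (ZMod 2) := Multiplicative.ofAdd 1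

theorem sg_cases (q : Multiplicative (ZMod 2)) : q = 1 ∨ q = sg := by
  revert q; decide

theorem sg_inv : sg⁻¹ = sg := by decide
theorem sg_mul_sg : sg * sg = 1 := by decide
theorem sg_ne_one : sg ≠ 1 := by decide
theorem one_ne_sg : (1 : Multiplicative (ZMod 2)) ≠ sg := by decide

variable {D : Type*} [Group D]

/-- constant function, trivial top component -/
def zc (z : D) : D ≀ᵣ Multiplicative (ZMod 2) := ⟨fun _ => z, 1⟩

/-- `(z at 1, 1 at σ; σ)` -/
def hf (z : D) : D ≀ᵣ Multiplicative (ZMod 2) := ⟨fun y => if y = 1 then z else 1, sg⟩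

theorem hf_sq (z : D) : hf z ^ 2 = zc z := by
  rw [sq]
  ext y
  · rcases sg_cases y with rfl | rfl
    · simp [hf, zc, sg_inv, sg_ne_one]
    · simp [hf, zc, sg_inv, sg_ne_one, sg_mul_sg]
  · simp [hf, zc, sg_mul_sg]

/-- Key step: if `A ∋ g = (x, σ)` is normal and `B` centralises `A`, every element of `B` lies in
`A · {(const z, 1) : z ∈ Z(D)}`. -/
theorem step_aux (A B : Subgroup (D ≀ᵣ Multiplicative (ZMod 2)))
    (hc : ∀ a ∈ A, ∀ b ∈ B, a * b = b * a) (hN : A.Normal)
    (g : D ≀ᵣ Multiplicative (ZMod 2)) (hg : g ∈ A) (hgr : g.right = sg)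
    (h : D ≀ᵣ Multiplicative (ZMod 2)) (hh : h ∈ B) :
    ∃ a ∈ A, ∃ z ∈ Subgroup.center D, h = a * zc z := by
  -- commutator elements `[g, e_u]`
  have hcu : ∀ u : D, (⟨fun y => if y = 1 then u⁻¹ else g.left sg * u * (g.left sg)⁻¹, 1⟩ :
      D ≀ᵣ Multiplicative (ZMod 2)) ∈ A := by
    intro u
    set e : D ≀ᵣ Multiplicative (ZMod 2) := ⟨fun y => if y = 1 then u else 1, 1⟩ with he
    have h1 : g * (e * g⁻¹ * e⁻¹) ∈ A := A.mul_mem hg (hN.conj_mem _ (A.inv_mem hg) e)
    convert h1 using 1
    ext y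
    · rcases sg_cases y with rfl | rfl
      · simp [he, hgr, sg_inv, sg_ne_one, sg_mul_sg]
      · simp [he, hgr, sg_inv, sg_ne_one, sg_mul_sg, mul_assoc]
    · simp [he, hgr, sg_inv, sg_mul_sg]
  have hgh := hc g hg h hh
  have hch := fun u => hc _ (hcu u) h hh
  rcases sg_cases h.right with hr | hr
  · -- `h` in the base group
    have c1 : ∀ u : D, u⁻¹ * h.left 1 = h.left 1 * u⁻¹ := by
      intro u
      have := congrFun (congrArg RegularWreathProduct.left (hch u)) 1
      simpa [hr] using this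
    have c2 : ∀ u : D, g.left sg * u * (g.left sg)⁻¹ * h.left sg
        = h.left sg * (g.left sg * u * (g.left sg)⁻¹) := by
      intro u
      have := congrFun (congrArg RegularWreathProduct.left (hch u)) sg
      simpa [hr, sg_ne_one] using this
    have c3 : g.left 1 * h.left sg = h.left 1 * g.left 1 := by
      have := congrFun (congrArg RegularWreathProduct.left hgh) 1
      simpa [hr, hgr, sg_inv] using this
    have hz : h.left 1 ∈ Subgroup.center D := by
      rw [Subgroup.mem_center_iff]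
      intro v
      have := c1 v⁻¹
      simpa using this
    have heq : h.left sg = h.left 1 := by
      rw [Subgroup.mem_center_iff] at hz
      have : g.left 1 * h.left sg = g.left 1 * h.left 1 := by rw [c3, hz]
      exact mul_left_cancel this
    refine ⟨1, A.one_mem, h.left 1, hz, ?_⟩
    ext y
    · rcases sg_cases y with rfl | rfl
      · simp [zc]
      · simp [zc, heq]
    · simp [zc, hr]
  · -- `h` outside the base group: `D` is abelian
    have d1 : ∀ u : D, u⁻¹ * h.left 1 = h.left 1 * (g.left sg * u * (g.left sg)⁻¹) := by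
      intro u
      have := congrFun (congrArg RegularWreathProduct.left (hch u)) 1
      simpa [hr, sg_inv, sg_ne_one] using this
    have d3 : g.left 1 * h.left sg = h.left 1 * g.left sg := by
      have := congrFun (congrArg RegularWreathProduct.left hgh) 1
      simpa [hr, hgr, sg_inv] using this
    have hinv : ∀ u : D, u⁻¹ = (h.left 1 * g.left sg) * u * (h.left 1 * g.left sg)⁻¹ := by
      intro u
      have := d1 u
      rw [eq_mul_inv_iff_mul_eq, ← mul_assoc, this]
      simp [mul_assoc]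
    have hcomm : ∀ u v : D, u * v = v * u := by
      intro u v
      have h1 := hinv (u⁻¹ * v⁻¹)
      have h2 := hinv u⁻¹
      have h3 := hinv v⁻¹
      have h4 : (u⁻¹ * v⁻¹)⁻¹ = u⁻¹⁻¹ * v⁻¹⁻¹ := by
        rw [h1, h2, h3]; simp [mul_assoc]
      simpa using h4.symm
    refine ⟨g, hg, (g.left 1)⁻¹ * h.left 1, ?_, ?_⟩
    · rw [Subgroup.mem_center_iff]
      intro v
      exact hcomm _ _
    · ext y
      · rcases sg_cases y with rfl | rfl
        · simp [zc]
        · show h.left sg = g.left sg * ((g.left 1)⁻¹ * h.left 1)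
          have e1 : h.left sg = (g.left 1)⁻¹ * (h.left 1 * g.left sg) := by
            rw [← d3, inv_mul_cancel_left]
          rw [e1, hcomm (g.left sg) _, mul_assoc]
      · simp [zc, hr, hgr]

theorem card_C2 : Nat.card (Multiplicative (ZMod 2)) = 2 := by
  rw [Nat.card_eq_fintype_card, Fintype.card_multiplicative, ZMod.card]

theorem isPGroup_wr [Finite D] (hD : IsPGroup 2 D) :
    IsPGroup 2 (D ≀ᵣ Multiplicative (ZMod 2)) := by
  obtain ⟨m, hm⟩ := IsPGroup.iff_card.mp hD
  refine IsPGroup.of_card (n := 2 * m + 1) ?_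
  rw [RegularWreathProduct.card, hm, card_C2]
  ring

/-- a finite 2-group in which every element is a square is trivial -/
theorem eq_one_of_sq_surj {Q : Type*} [Group Q] [Finite Q] (hQ : IsPGroup 2 Q)
    (hsq : ∀ q : Q, ∃ r : Q, r ^ 2 = q) (q : Q) : q = 1 := by
  have hinj : Function.Injective (fun q : Q => q ^ 2) :=
    Finite.injective_iff_surjective.mpr hsq
  have key : ∀ n : ℕ, ∀ q : Q, q ^ 2 ^ n = 1 → q = 1 := by
    intro n
    induction n with
    | zero => intro q hq; simpa using hq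
    | succ n ih =>
      intro q hq
      have h1 : (q ^ 2) ^ 2 ^ n = 1 := by rw [← pow_mul, ← pow_succ']; exact hq
      have h2 : q ^ 2 = 1 := ih _ h1
      apply hinj
      simpa using h2
  obtain ⟨n, hn⟩ := hQ q
  exact key n q hn

/-- one half of `W1_step` -/
theorem step_top [Finite D] (hD : IsPGroup 2 D) (A B : Subgroup (D ≀ᵣ Multiplicative (ZMod 2)))
    (hc : ∀ a ∈ A, ∀ b ∈ B, a * b = b * a) (hAB : A ⊔ B = ⊤)
    (g : D ≀ᵣ Multiplicative (ZMod 2)) (hg : g ∈ A) (hgr : g.right = sg) : A = ⊤ := by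
  have hN : A.Normal := normal_of_comm_sup A B hc hAB
  have hQ : IsPGroup 2 ((D ≀ᵣ Multiplicative (ZMod 2)) ⧸ A) := (isPGroup_wr hD).to_quotient A
  have hsq : ∀ q : (D ≀ᵣ Multiplicative (ZMod 2)) ⧸ A, ∃ r, r ^ 2 = q := by
    intro q
    obtain ⟨w, rfl⟩ := QuotientGroup.mk_surjective q
    have hw : w ∈ A ⊔ B := hAB ▸ Subgroup.mem_top w
    obtain ⟨a, ha, b, hb, rfl⟩ := Subgroup.mem_sup_of_normal_left.mp hw
    obtain ⟨a', ha', z, -, rfl⟩ := step_aux A B hc hN g hg hgr b hb
    refine ⟨((hf z : D ≀ᵣ Multiplicative (ZMod 2)) : (D ≀ᵣ Multiplicative (ZMod 2)) ⧸ A), ?_⟩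
    rw [← QuotientGroup.mk_pow, hf_sq, ← mul_assoc, QuotientGroup.mk_mul,
      (QuotientGroup.eq_one_iff (a * a')).mpr (A.mul_mem ha ha'), one_mul]
  rw [Subgroup.eq_top_iff']
  intro w
  exact (QuotientGroup.eq_one_iff w).mp (eq_one_of_sq_surj hQ hsq _)

end H3W1

open H3W1 in
/-- **General step of W1**: for a finite 2-group `D`, the wreath product `D ≀ᵣ C₂` is not
generated by two commuting proper subgroups. -/
theorem W1_step {D : Type*} [Group D] [Finite D] (hD : IsPGroup 2 D)
    (A B : Subgroup (D ≀ᵣ Multiplicative (ZMod 2)))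
    (hc : ∀ a ∈ A, ∀ b ∈ B, a * b = b * a) (hAB : A ⊔ B = ⊤) : A = ⊤ ∨ B = ⊤ := by
  by_cases hA : ∃ g ∈ A, g.right = sg
  · obtain ⟨g, hg, hgr⟩ := hA
    exact Or.inl (step_top hD A B hc hAB g hg hgr)
  by_cases hB : ∃ g ∈ B, g.right = sg
  · obtain ⟨g, hg, hgr⟩ := hB
    exact Or.inr (step_top hD B A (fun b hb a ha => (hc a ha b hb).symm)
      (by rw [sup_comm]; exact hAB) g hg hgr)
  exfalso
  have hle : A ⊔ B ≤ (RegularWreathProduct.rightHom :
      D ≀ᵣ Multiplicative (ZMod 2) →* Multiplicative (ZMod 2)).ker := by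
    refine sup_le ?_ ?_
    · intro a ha
      rw [MonoidHom.mem_ker]
      rcases sg_cases a.right with h | h
      · exact h
      · exact absurd ⟨a, ha, h⟩ hA
    · intro b hb
      rw [MonoidHom.mem_ker]
      rcases sg_cases b.right with h | h
      · exact h
      · exact absurd ⟨b, hb, h⟩ hB
  rw [hAB] at hle
  have : (⟨1, sg⟩ : D ≀ᵣ Multiplicative (ZMod 2)) ∈ (RegularWreathProduct.rightHom :
      D ≀ᵣ Multiplicative (ZMod 2) →* Multiplicative (ZMod 2)).ker := hle (Subgroup.mem_top _)
  rw [MonoidHom.mem_ker] at this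
  exact sg_ne_one this

theorem isPGroup_iter (k : ℕ) : IsPGroup 2 (IteratedWreathProduct (Multiplicative (ZMod 2)) k) := by
  refine IsPGroup.of_card (n := ∑ i ∈ Finset.range k, 2 ^ i) ?_
  rw [IteratedWreathProduct.card, H3W1.card_C2]

/-- **W1** (helper8's stub, with `Wk k := IteratedWreathProduct C2 k`,
`C2 := Multiplicative (ZMod 2)` unfolded). -/
theorem W1 (k : ℕ) (A B : Subgroup (IteratedWreathProduct (Multiplicative (ZMod 2)) k))
    (hc : ∀ a ∈ A, ∀ b ∈ B, a * b = b * a) (hAB : A ⊔ B = ⊤) : A = ⊤ ∨ B = ⊤ := by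
  cases k with
  | zero =>
    left
    rw [Subgroup.eq_top_iff']
    intro x
    have : x = 1 := by
      have : Subsingleton (IteratedWreathProduct (Multiplicative (ZMod 2)) 0) :=
        (inferInstance : Subsingleton PUnit)
      exact Subsingleton.elim _ _
    rw [this]; exact A.one_mem
  | succ k =>
    exact W1_step (D := IteratedWreathProduct (Multiplicative (ZMod 2)) k) (isPGroup_iter k)
      A B hc hAB

end Cfsg.Agent.Helper8.SylAlt
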