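import Mathlib
set_option autoImplicit false
namespace Cfsg.Agent.Helper3.SymSyl

open Equiv

/-- `H` is generated by its elements of order dividing `p`. -/
def GenBy (p : ℕ) {G : Type*} [Group G] (H : Subgroup G) : Prop :=
  H ≤ Subgroup.closure {x | x ∈ H ∧ x ^ p = 1}

section basics
variable {p : ℕ} {G H : Type*} [Group G] [Group H]

theorem GenBy.map (φ : G →* H) {K : Subgroup G} (hK : GenBy p K) : GenBy p (K.map φ) := by
  rintro _ ⟨k, hk, rfl⟩
  have h1 := Subgroup.mem_map_of_mem φ (hK hk)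
  rw [MonoidHom.map_closure] at h1
  refine Subgroup.closure_mono ?_ h1
  rintro _ ⟨x, ⟨hx, hxp⟩, rfl⟩
  exact ⟨Subgroup.mem_map_of_mem φ hx, by rw [← map_pow, hxp, map_one]⟩

theorem GenBy.of_map (φ : G →* H) (hφ : Function.Injective φ) {K : Subgroup G}
    (hK : GenBy p (K.map φ)) : GenBy p K := by
  intro k hk
  have h1 := hK (Subgroup.mem_map_of_mem φ hk)
  have h2 : {x | x ∈ K.map φ ∧ x ^ p = 1} ⊆ φ '' {x | x ∈ K ∧ x ^ p = 1} := by
    rintro _ ⟨⟨x, hx, rfl⟩, hxp⟩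
    refine ⟨x, ⟨hx, hφ ?_⟩, rfl⟩
    rw [map_pow, hxp, map_one]
  have h3 := Subgroup.closure_mono h2 h1
  rw [← MonoidHom.map_closure] at h3
  obtain ⟨k', hk', hkk⟩ := h3
  rw [← hφ hkk]
  exact hk'

theorem GenBy.bot : GenBy p (⊥ : Subgroup G) := by
  intro x hx
  rw [Subgroup.mem_bot] at hx
  rw [hx]
  exact Subgroup.one_mem _

theorem pow_mem_commutator_iff (G : Type*) [Group G] (p : ℕ) (x : G) :
    x ^ p ∈ commutator G ↔ (Abelianization.of x) ^ p = 1 := by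
  rw [← Abelianization.ker_of, MonoidHom.mem_ker, map_pow]

/-- In a group generated by elements of order dividing `p`, `p`-th powers lie in the derived
subgroup. -/
theorem GenBy.pow_mem_commutator {K : Subgroup G} (hK : GenBy p K) (x : K) :
    x ^ p ∈ commutator K := by
  have key : ∀ y ∈ Subgroup.closure {x | x ∈ K ∧ x ^ p = 1},
      ∃ hy : y ∈ K, (⟨y, hy⟩ : K) ^ p ∈ commutator K := by
    intro y hy
    induction hy using Subgroup.closure_induction with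
    | mem y hy =>
      refine ⟨hy.1, ?_⟩
      have : (⟨y, hy.1⟩ : K) ^ p = 1 := Subtype.ext (by simpa using hy.2)
      rw [this]
      exact Subgroup.one_mem _
    | one => exact ⟨K.one_mem, by
        have : (⟨1, K.one_mem⟩ : K) = 1 := rfl
        rw [this, one_pow]; exact Subgroup.one_mem _⟩
    | mul a b _ _ iha ihb =>
      obtain ⟨ha, ha'⟩ := iha
      obtain ⟨hb, hb'⟩ := ihb
      refine ⟨K.mul_mem ha hb, ?_⟩
      have h1 : (⟨a * b, K.mul_mem ha hb⟩ : K) = ⟨a, ha⟩ * ⟨b, hb⟩ := rfl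
      rw [pow_mem_commutator_iff] at ha' hb' ⊢
      rw [h1, map_mul, mul_pow, ha', hb', one_mul]
    | inv a _ iha =>
      obtain ⟨ha, ha'⟩ := iha
      refine ⟨K.inv_mem ha, ?_⟩
      have h1 : (⟨a⁻¹, K.inv_mem ha⟩ : K) = (⟨a, ha⟩ : K)⁻¹ := rfl
      rw [h1, inv_pow]
      exact Subgroup.inv_mem _ ha'
  obtain ⟨_, h⟩ := key x.1 (hK x.2)
  exact h

end basics

section wreath
variable (p : ℕ) [Fact p.Prime] {Y : Type} [Fintype Y] [DecidableEq Y]

/-- The element `(y, i) ↦ (σ y, i + f y)` of the wreath product. -/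
def wrElt (σ : Perm Y) (f : Y → ZMod p) : Perm (Y × ZMod p) where
  toFun := fun x => (σ x.1, x.2 + f x.1)
  invFun := fun x => (σ⁻¹ x.1, x.2 - f (σ⁻¹ x.1))
  left_inv := by
    intro x
    simp
  right_inv := by
    intro x
    simp

theorem wrElt_apply (σ : Perm Y) (f : Y → ZMod p) (y : Y) (i : ZMod p) :
    wrElt p σ f (y, i) = (σ y, i + f y) := rfl

theorem wrElt_mul (σ σ' : Perm Y) (f f' : Y → ZMod p) :
    wrElt p σ f * wrElt p σ' f' = wrElt p (σ * σ') (fun y => f' y + f (σ' y)) := by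
  ext ⟨y, i⟩ <;> simp [wrElt_apply, Perm.mul_apply, add_assoc]

theorem wrElt_one : wrElt p (1 : Perm Y) (0 : Y → ZMod p) = 1 := by
  ext ⟨y, i⟩ <;> simp [wrElt_apply]

theorem wrElt_inv (σ : Perm Y) (f : Y → ZMod p) :
    (wrElt p σ f)⁻¹ = wrElt p σ⁻¹ (fun y => - f (σ⁻¹ y)) := by
  rw [inv_eq_iff_mul_eq_one, wrElt_mul, ← wrElt_one]
  congr 1
  · simp
  · funext y; simp

theorem wrElt_injective (σ σ' : Perm Y) (f f' : Y → ZMod p)
    (h : wrElt p σ f = wrElt p σ' f') : σ = σ' ∧ f = f' := by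
  constructor
  · ext y
    have := congrArg (fun g : Perm (Y × ZMod p) => (g (y, 0)).1) h
    simpa [wrElt_apply] using this
  · funext y
    have := congrArg (fun g : Perm (Y × ZMod p) => (g (y, 0)).2) h
    simpa [wrElt_apply] using this

/-- The permutational wreath product `C_p ≀ Q` inside `Perm (Y × ZMod p)`. -/
def wr (Q : Subgroup (Perm Y)) : Subgroup (Perm (Y × ZMod p)) where
  carrier := {g | ∃ σ ∈ Q, ∃ f : Y → ZMod p, g = wrElt p σ f}
  one_mem' := ⟨1, Q.one_mem, 0, (wrElt_one p).symm⟩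
  mul_mem' := by
    rintro _ _ ⟨σ, hσ, f, rfl⟩ ⟨σ', hσ', f', rfl⟩
    exact ⟨σ * σ', Q.mul_mem hσ hσ', _, wrElt_mul p σ σ' f f'⟩
  inv_mem' := by
    rintro _ ⟨σ, hσ, f, rfl⟩
    exact ⟨σ⁻¹, Q.inv_mem hσ, _, wrElt_inv p σ f⟩

theorem mem_wr (Q : Subgroup (Perm Y)) (g : Perm (Y × ZMod p)) :
    g ∈ wr p Q ↔ ∃ σ ∈ Q, ∃ f : Y → ZMod p, g = wrElt p σ f := Iff.rfl

theorem card_wr (Q : Subgroup (Perm Y)) :
    Nat.card (wr p Q) = Nat.card Q * p ^ Fintype.card Y := by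
  have e : (Q × (Y → ZMod p)) ≃ wr p Q :=
    Equiv.ofBijective (fun x => ⟨wrElt p x.1.1 x.2, ⟨x.1.1, x.1.2, x.2, rfl⟩⟩) (by
      constructor
      · rintro ⟨⟨σ, hσ⟩, f⟩ ⟨⟨σ', hσ'⟩, f'⟩ h
        have h1 := wrElt_injective p σ σ' f f' (congrArg Subtype.val h)
        obtain ⟨rfl, rfl⟩ := h1
        rfl
      · rintro ⟨_, σ, hσ, f, rfl⟩
        exact ⟨⟨⟨σ, hσ⟩, f⟩, rfl⟩)
  rw [← Nat.card_congr e, Nat.card_prod, Nat.card_fun, Nat.card_eq_fintype_card (α := ZMod p),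
    ZMod.card, Nat.card_eq_fintype_card (α := Y)]

theorem wrElt_one_pow (f : Y → ZMod p) (k : ℕ) :
    (wrElt p (1 : Perm Y) f) ^ k = wrElt p 1 (k • f) := by
  induction k with
  | zero => rw [pow_zero, zero_smul, wrElt_one]
  | succ k ih =>
    rw [pow_succ, ih, wrElt_mul]
    congr 1
    funext y
    simp only [Perm.one_apply, Pi.smul_apply, add_smul, one_smul, Pi.add_apply]
    rw [add_comm]

theorem wrElt_one_pow_p (f : Y → ZMod p) : (wrElt p (1 : Perm Y) f) ^ p = 1 := by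
  rw [wrElt_one_pow, ← wrElt_one]
  congr 1
  funext y
  simp

/-- The top group as a homomorphism. -/
def wrTop : Perm Y →* Perm (Y × ZMod p) where
  toFun σ := wrElt p σ 0
  map_one' := wrElt_one p
  map_mul' := by
    intro σ σ'
    rw [wrElt_mul]
    congr 1
    funext y
    simp

theorem wrTop_apply (σ : Perm Y) : wrTop p σ = wrElt p σ 0 := rfl

theorem wrElt_decomp (σ : Perm Y) (f : Y → ZMod p) :
    wrElt p σ f = wrElt p 1 (fun y => f (σ⁻¹ y)) * wrTop p σ := by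
  rw [wrTop_apply, wrElt_mul]
  congr 1
  funext y; simp

theorem GenBy.wr {Q : Subgroup (Perm Y)} (hQ : GenBy p Q) : GenBy p (wr p Q) := by
  rintro _ ⟨σ, hσ, f, rfl⟩
  rw [wrElt_decomp]
  apply Subgroup.mul_mem
  · apply Subgroup.subset_closure
    exact ⟨⟨1, Q.one_mem, _, rfl⟩, wrElt_one_pow_p p _⟩
  · have h1 := Subgroup.mem_map_of_mem (wrTop p) (hQ hσ)
    rw [MonoidHom.map_closure] at h1
    refine Subgroup.closure_mono ?_ h1
    rintro _ ⟨x, ⟨hx, hxp⟩, rfl⟩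
    exact ⟨⟨x, hx, 0, rfl⟩, by rw [← map_pow, hxp, map_one]⟩

end wreath

end Cfsg.Agent.Helper3.SymSyl
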