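import Mathlib
import Cfsg.Agent.Helper3.SymSylA
set_option autoImplicit false
namespace Cfsg.Agent.Helper3.SymSyl

open Equiv

theorem card_map_of_injective {G H : Type*} [Group G] [Group H] (φ : G →* H)
    (hφ : Function.Injective φ) (K : Subgroup G) : Nat.card (K.map φ) = Nat.card K :=
  (Nat.card_congr (K.equivMapOfInjective φ hφ).toEquiv).symm

/-- **Explicit Sylow subgroups of symmetric groups**: there is a subgroup of `Perm X` of order the
full `p`-part of `|X|!` which is generated by elements of order dividing `p`. -/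
theorem exists_sylow_genBy (p : ℕ) [Fact p.Prime] :
    ∀ (n : ℕ) (X : Type) [Fintype X] [DecidableEq X], Fintype.card X = n →
      ∃ P : Subgroup (Perm X), Nat.card P = p ^ padicValNat p n.factorial ∧ GenBy p P := by
  have hp := (Fact.out : p.Prime)
  intro n
  induction n using Nat.strong_induction_on with
  | _ n ih =>
  intro X _ _ hX
  rcases Nat.eq_zero_or_pos n with hn0 | hnpos
  · subst hn0
    refine ⟨⊥, ?_, GenBy.bot⟩
    rw [Subgroup.card_bot, Nat.factorial_zero, padicValNat.one, pow_zero]
  by_cases hdvd : p ∣ n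
  · obtain ⟨m, rfl⟩ := hdvd
    have hm : 0 < m := by
      rcases Nat.eq_zero_or_pos m with h | h
      · subst h; simp at hnpos
      · exact h
    have hlt : m < p * m := by
      have := hp.two_le
      nlinarith
    obtain ⟨Q, hQc, hQg⟩ := ih m hlt (Fin m) (Fintype.card_fin m)
    have hcard : Fintype.card (Fin m × ZMod p) = Fintype.card X := by
      rw [Fintype.card_prod, Fintype.card_fin, ZMod.card, hX, mul_comm]
    let e : Fin m × ZMod p ≃ X := Fintype.equivOfCardEq hcard
    refine ⟨(wr p Q).map (Equiv.permCongrHom e).toMonoidHom, ?_, (GenBy.wr p hQg).map _⟩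
    rw [card_map_of_injective _ (Equiv.permCongrHom e).injective, card_wr, hQc, Fintype.card_fin,
      ← pow_add, padicValNat_factorial_mul]
  · have hne : Nonempty X := by
      rw [← Fintype.card_pos_iff, hX]; exact hnpos
    obtain ⟨x₀⟩ := hne
    have hX' : Fintype.card {x : X // x ≠ x₀} = n - 1 := by
      rw [Fintype.card_subtype_compl (fun x => x = x₀), hX]
      simp
    obtain ⟨Q, hQc, hQg⟩ := ih (n - 1) (by omega) {x : X // x ≠ x₀} hX'
    refine ⟨Q.map Equiv.Perm.ofSubtype, ?_, hQg.map _⟩
    rw [card_map_of_injective _ Equiv.Perm.ofSubtype_injective, hQc]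
    congr 1
    obtain ⟨k, rfl⟩ : ∃ k, n = k + 1 := ⟨n - 1, by omega⟩
    rw [Nat.add_sub_cancel, Nat.factorial_succ,
      padicValNat.mul (by omega) (Nat.factorial_ne_zero k),
      padicValNat.eq_zero_of_not_dvd hdvd, zero_add]

end Cfsg.Agent.Helper3.SymSyl
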