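import Mathlib
import Cfsg.Agent.Helper3.SymSylB
set_option autoImplicit false
namespace Cfsg.Agent.Helper3.SymSyl

open Equiv

theorem units_eq_one_of_odd_pow (k : ℕ) (hk : Odd k) (u : ℤˣ) (h : u ^ k = 1) : u = 1 := by
  rcases Int.units_eq_one_or u with rfl | rfl
  · rfl
  · rw [Odd.neg_one_pow hk] at h
    exact absurd h (by decide)

/-- A subgroup of a symmetric group containing an odd permutation meets the alternating group in
a subgroup of index two. -/
theorem two_mul_card_inf_alternating {Z : Type} [Fintype Z] [DecidableEq Z]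
    (W : Subgroup (Perm Z)) (w : Perm Z) (hw : w ∈ W) (hodd : Perm.sign w = -1) :
    2 * Nat.card (W ⊓ alternatingGroup Z : Subgroup (Perm Z)) = Nat.card W := by
  let s : W →* ℤˣ := Perm.sign.comp W.subtype
  have hker : s.ker = (alternatingGroup Z).subgroupOf W := by
    rw [← MonoidHom.comap_ker]
    rfl
  have hrange : s.range = ⊤ := by
    rw [eq_top_iff]
    intro u _
    rcases Int.units_eq_one_or u with rfl | rfl
    · exact Subgroup.one_mem _
    · exact ⟨⟨w, hw⟩, hodd⟩
  have h1 := Subgroup.card_mul_index s.ker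
  have hu : Nat.card ℤˣ = 2 := by simp
  rw [Subgroup.index_ker, hrange, Subgroup.card_top, hu, hker] at h1
  have h2 : Nat.card ((alternatingGroup Z).subgroupOf W) =
      Nat.card (W ⊓ alternatingGroup Z : Subgroup (Perm Z)) := by
    rw [← Subgroup.inf_subgroupOf_right, inf_comm]
    exact Nat.card_congr (Subgroup.subgroupOfEquivOfLe inf_le_left).toEquiv
  rw [h2] at h1
  rw [← h1, mul_comm]

section even
variable {Y : Type} [Fintype Y] [DecidableEq Y]

theorem sign_wrTop (σ : Perm Y) : Perm.sign (wrTop 2 σ) = 1 := by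
  have h1 : wrTop 2 σ = Equiv.prodCongrLeft (fun _ : ZMod 2 => σ) := by
    ext ⟨y, i⟩ <;> simp [wrTop_apply, wrElt_apply, Equiv.prodCongrLeft]
  rw [h1, Perm.sign_prodCongrLeft, Finset.prod_const, Finset.card_univ, ZMod.card, Int.units_sq]

theorem wrElt_single_eq_swap (y₀ : Y) :
    wrElt 2 (1 : Perm Y) (Pi.single y₀ 1) = Equiv.swap (y₀, (0 : ZMod 2)) (y₀, 1) := by
  apply Equiv.ext
  rintro ⟨y, i⟩
  rw [wrElt_apply]
  by_cases hy : y = y₀
  · subst hy
    have hi : i = 0 ∨ i = 1 := by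
      fin_cases i
      · left; rfl
      · right; rfl
    rcases hi with rfl | rfl
    · rw [Equiv.swap_apply_left, Pi.single_eq_same, Perm.one_apply, zero_add]
    · rw [Equiv.swap_apply_right, Pi.single_eq_same, Perm.one_apply]
      rfl
  · rw [Equiv.swap_apply_of_ne_of_ne, Pi.single_eq_of_ne hy, Perm.one_apply, add_zero]
    · intro h; exact hy (Prod.ext_iff.1 h).1
    · intro h; exact hy (Prod.ext_iff.1 h).1

theorem genBy_wr_inf_alternating {Q : Subgroup (Perm Y)} (hQ : GenBy 2 Q) :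
    GenBy 2 (wr 2 Q ⊓ alternatingGroup (Y × ZMod 2)) := by
  rintro w ⟨⟨σ, hσ, f, rfl⟩, hwA0⟩
  have hwA : Perm.sign (wrElt 2 σ f) = 1 := Perm.mem_alternatingGroup.1 hwA0
  rw [wrElt_decomp, map_mul, sign_wrTop, mul_one] at hwA
  rw [wrElt_decomp]
  apply Subgroup.mul_mem
  · apply Subgroup.subset_closure
    exact ⟨⟨⟨1, Q.one_mem, _, rfl⟩, Perm.mem_alternatingGroup.2 hwA⟩, wrElt_one_pow_p 2 _⟩
  · have h1 := Subgroup.mem_map_of_mem (wrTop 2) (hQ hσ)
    rw [MonoidHom.map_closure] at h1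
    refine Subgroup.closure_mono ?_ h1
    rintro _ ⟨x, ⟨hx, hxp⟩, rfl⟩
    exact ⟨⟨⟨x, hx, 0, rfl⟩, Perm.mem_alternatingGroup.2 (sign_wrTop x)⟩,
      by rw [← map_pow, hxp, map_one]⟩

end even

theorem padicValNat_two_factorial_half (n : ℕ) (hn : 2 ≤ n) :
    padicValNat 2 n.factorial = padicValNat 2 (n.factorial / 2) + 1 := by
  have h2 : 2 ∣ n.factorial := Nat.dvd_factorial (by norm_num) hn
  obtain ⟨k, hk⟩ := h2
  have hk0 : k ≠ 0 := by
    rintro rfl
    exact Nat.factorial_ne_zero n (by simpa using hk)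
  rw [hk, Nat.mul_div_cancel_left k (by norm_num), padicValNat.mul (by norm_num) hk0,
    padicValNat_self, add_comm]

theorem padicValNat_odd_factorial_half (p : ℕ) [Fact p.Prime] (hp2 : p ≠ 2) (n : ℕ) (hn : 2 ≤ n) :
    padicValNat p n.factorial = padicValNat p (n.factorial / 2) := by
  have h2 : 2 ∣ n.factorial := Nat.dvd_factorial (by norm_num) hn
  obtain ⟨k, hk⟩ := h2
  have hk0 : k ≠ 0 := by
    rintro rfl
    exact Nat.factorial_ne_zero n (by simpa using hk)
  have hnd : ¬ p ∣ 2 := by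
    intro h
    exact hp2 ((Nat.prime_dvd_prime_iff_eq Fact.out Nat.prime_two).1 h)
  rw [hk, Nat.mul_div_cancel_left k (by norm_num), padicValNat.mul (by norm_num) hk0,
    padicValNat.eq_zero_of_not_dvd hnd, zero_add]

/-- Even degree, `p = 2`. -/
theorem exists_alt_sylow_two_even (m : ℕ) (hm : 1 ≤ m) (X : Type) [Fintype X] [DecidableEq X]
    (hX : Fintype.card X = 2 * m) :
    ∃ E : Subgroup (Perm X), E ≤ alternatingGroup X ∧
      Nat.card E = 2 ^ padicValNat 2 ((2 * m).factorial / 2) ∧ GenBy 2 E := by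
  obtain ⟨Q, hQc, hQg⟩ := exists_sylow_genBy 2 m (Fin m) (Fintype.card_fin m)
  have hcard : Fintype.card (Fin m × ZMod 2) = Fintype.card X := by
    rw [Fintype.card_prod, Fintype.card_fin, ZMod.card, hX, mul_comm]
  let e : Fin m × ZMod 2 ≃ X := Fintype.equivOfCardEq hcard
  let E₀ : Subgroup (Perm (Fin m × ZMod 2)) := wr 2 Q ⊓ alternatingGroup (Fin m × ZMod 2)
  refine ⟨E₀.map (Equiv.permCongrHom e).toMonoidHom, ?_, ?_, (genBy_wr_inf_alternating hQg).map _⟩
  · rintro _ ⟨g, hg, rfl⟩
    rw [Perm.mem_alternatingGroup]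
    have : (Equiv.permCongrHom e).toMonoidHom g = e.permCongr g := rfl
    rw [this, Perm.sign_permCongr]
    exact Perm.mem_alternatingGroup.1 hg.2
  · rw [card_map_of_injective _ (Equiv.permCongrHom e).injective]
    have y₀ : Fin m := ⟨0, hm⟩
    have h1 := two_mul_card_inf_alternating (wr 2 Q) (wrElt 2 1 (Pi.single y₀ 1))
      ⟨1, Q.one_mem, _, rfl⟩ (by
        rw [wrElt_single_eq_swap]
        apply Perm.sign_swap
        intro h
        have := (Prod.ext_iff.1 h).2
        exact (by decide : (0 : ZMod 2) ≠ 1) this)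
    rw [card_wr, hQc, Fintype.card_fin, ← pow_add, ← padicValNat_factorial_mul,
      padicValNat_two_factorial_half (2 * m) (by omega), pow_succ, mul_comm] at h1
    exact Nat.eq_of_mul_eq_mul_right (by norm_num) h1

/-- `p = 2`, all degrees at least 2. -/
theorem exists_alt_sylow_two (n : ℕ) (hn : 2 ≤ n) (X : Type) [Fintype X] [DecidableEq X]
    (hX : Fintype.card X = n) :
    ∃ E : Subgroup (Perm X), E ≤ alternatingGroup X ∧
      Nat.card E = 2 ^ padicValNat 2 (n.factorial / 2) ∧ GenBy 2 E := by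
  rcases Nat.even_or_odd' n with ⟨m, rfl | rfl⟩
  · exact exists_alt_sylow_two_even m (by omega) X hX
  · have hne : Nonempty X := by
      rw [← Fintype.card_pos_iff, hX]; omega
    obtain ⟨x₀⟩ := hne
    have hX' : Fintype.card {x : X // x ≠ x₀} = 2 * m := by
      rw [Fintype.card_subtype_compl (fun x => x = x₀), hX]
      simp
    obtain ⟨E', hE'A, hE'c, hE'g⟩ := exists_alt_sylow_two_even m (by omega) {x : X // x ≠ x₀} hX'
    refine ⟨E'.map Equiv.Perm.ofSubtype, ?_, ?_, hE'g.map _⟩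
    · rintro _ ⟨g, hg, rfl⟩
      rw [Perm.mem_alternatingGroup, Perm.sign_ofSubtype]
      exact Perm.mem_alternatingGroup.1 (hE'A hg)
    · rw [card_map_of_injective _ Equiv.Perm.ofSubtype_injective, hE'c]
      congr 1
      have h2 : 2 ∣ (2 * m).factorial := Nat.dvd_factorial (by norm_num) (by omega)
      obtain ⟨k, hk⟩ := h2
      have hk0 : k ≠ 0 := by
        rintro rfl
        exact Nat.factorial_ne_zero (2 * m) (by simpa using hk)
      have hL : (2 * m).factorial / 2 = k := by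
        rw [hk, Nat.mul_div_cancel_left _ (by norm_num)]
      have hR : (2 * m + 1).factorial / 2 = (2 * m + 1) * k := by
        rw [Nat.factorial_succ, hk, show (2 * m + 1) * (2 * k) = 2 * ((2 * m + 1) * k) by ring,
          Nat.mul_div_cancel_left _ (by norm_num)]
      rw [hL, hR, padicValNat.mul (by omega) hk0,
        padicValNat.eq_zero_of_not_dvd (by omega : ¬ 2 ∣ 2 * m + 1), zero_add]

/-- Odd `p`. -/
theorem exists_alt_sylow_odd (p : ℕ) [Fact p.Prime] (hp2 : p ≠ 2) (n : ℕ) (hn : 2 ≤ n) (X : Type)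
    [Fintype X] [DecidableEq X] (hX : Fintype.card X = n) :
    ∃ E : Subgroup (Perm X), E ≤ alternatingGroup X ∧
      Nat.card E = p ^ padicValNat p (n.factorial / 2) ∧ GenBy p E := by
  obtain ⟨P, hPc, hPg⟩ := exists_sylow_genBy p n X hX
  refine ⟨P, ?_, ?_, hPg⟩
  · intro g hg
    rw [Perm.mem_alternatingGroup]
    have hP : IsPGroup p P := IsPGroup.of_card hPc
    obtain ⟨k, hk⟩ := hP ⟨g, hg⟩
    have hk' : g ^ (p ^ k) = 1 := by
      have := congrArg Subtype.val hk
      simpa using this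
    apply units_eq_one_of_odd_pow (p ^ k)
    · apply Odd.pow
      exact (Fact.out : p.Prime).odd_of_ne_two hp2
    · rw [← map_pow, hk', map_one]
  · rw [hPc, padicValNat_odd_factorial_half p hp2 n hn]

theorem exists_alt_sylow (p : ℕ) [Fact p.Prime] (n : ℕ) (hn : 2 ≤ n) (X : Type)
    [Fintype X] [DecidableEq X] (hX : Fintype.card X = n) :
    ∃ E : Subgroup (Perm X), E ≤ alternatingGroup X ∧
      Nat.card E = p ^ padicValNat p (n.factorial / 2) ∧ GenBy p E := by
  by_cases hp2 : p = 2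
  · subst hp2
    exact exists_alt_sylow_two n hn X hX
  · exact exists_alt_sylow_odd p hp2 n hn X hX

end Cfsg.Agent.Helper3.SymSyl
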