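import Mathlib

/-!
TI subgroups (helper3), in the form `∀ g ∉ N(P), P ⊓ MulAut.conj g • P = ⊥`, and its elementwise
version `TIElem`.
-/

set_option autoImplicit false

namespace Cfsg.Agent.Helper3

open scoped Pointwise

variable {G : Type*} [Group G]

theorem mem_conj_smul_iff' (H : Subgroup G) (g x : G) :
    x ∈ MulAut.conj g • H ↔ g⁻¹ * x * g ∈ H := by
  rw [Subgroup.mem_pointwise_smul_iff_inv_smul_mem]
  simp [MulAut.smul_def, mul_assoc]

/-- elementwise TI property. -/
def TIElem (P : Subgroup G) : Prop :=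
  ∀ g x : G, x ∈ P → g⁻¹ * x * g ∈ P → x ≠ 1 → g ∈ Subgroup.normalizer (P : Set G)

theorem ti_iff_tiElem (P : Subgroup G) :
    (∀ g : G, g ∉ Subgroup.normalizer (P : Set G) → P ⊓ (MulAut.conj g • P) = ⊥) ↔ TIElem P := by
  constructor
  · intro h g x hx hgx hx1
    by_contra hg
    have := h g hg
    have hmem : x ∈ P ⊓ (MulAut.conj g • P) := ⟨hx, (mem_conj_smul_iff' P g x).2 hgx⟩
    rw [this, Subgroup.mem_bot] at hmem
    exact hx1 hmem
  · intro h g hg
    rw [Subgroup.eq_bot_iff_forall]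
    rintro x ⟨hx, hx'⟩
    by_contra hx1
    exact hg (h g x hx ((mem_conj_smul_iff' P g x).1 hx') hx1)

/-- membership in the normalizer of a conjugate. -/
theorem mem_normalizer_conj_smul_iff (P : Subgroup G) (a g : G) :
    g ∈ Subgroup.normalizer ((MulAut.conj a • P : Subgroup G) : Set G) ↔
      a⁻¹ * g * a ∈ Subgroup.normalizer (P : Set G) := by
  rw [Subgroup.mem_normalizer_iff, Subgroup.mem_normalizer_iff]
  constructor
  · intro h y
    have := h (a * y * a⁻¹)
    rw [mem_conj_smul_iff', mem_conj_smul_iff'] at this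
    have e1 : a⁻¹ * (a * y * a⁻¹) * a = y := by group
    have e2 : a⁻¹ * (g * (a * y * a⁻¹) * g⁻¹) * a = a⁻¹ * g * a * y * (a⁻¹ * g * a)⁻¹ := by group
    rw [e1, e2] at this
    exact this
  · intro h z
    rw [mem_conj_smul_iff', mem_conj_smul_iff']
    have := h (a⁻¹ * z * a)
    have e2 : a⁻¹ * g * a * (a⁻¹ * z * a) * (a⁻¹ * g * a)⁻¹ = a⁻¹ * (g * z * g⁻¹) * a := by group
    rw [e2] at this
    exact this

/-- a conjugate of a TI subgroup is TI. -/
theorem TIElem.conj {P : Subgroup G} (h : TIElem P) (a : G) : TIElem (MulAut.conj a • P) := by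
  intro g x hx hgx hx1
  rw [mem_normalizer_conj_smul_iff]
  rw [mem_conj_smul_iff'] at hx hgx
  apply h (a⁻¹ * g * a) (a⁻¹ * x * a) hx
  · have : (a⁻¹ * g * a)⁻¹ * (a⁻¹ * x * a) * (a⁻¹ * g * a) = a⁻¹ * (g⁻¹ * x * g) * a := by group
    rw [this]; exact hgx
  · intro h1
    apply hx1
    have : x = a * (a⁻¹ * x * a) * a⁻¹ := by group
    rw [this, h1]; group

/-- every Sylow `p`-subgroup is TI if one is. -/
theorem TIElem.sylow [Finite G] {p : ℕ} [Fact p.Prime] {P : Sylow p G} (h : TIElem (P : Subgroup G))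
    (Q : Sylow p G) : TIElem (Q : Subgroup G) := by
  obtain ⟨a, rfl⟩ := MulAction.exists_smul_eq G P Q
  rw [Sylow.coe_subgroup_smul]
  exact h.conj a

end Cfsg.Agent.Helper3
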