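import Mathlib

set_option autoImplicit false

/-!
Word identities in groups generated by involutions (Coxeter-type relations of type `A₃`),
used for 3-transposition groups.
-/

namespace Cfsg.Agent.Helper3.TT

variable {G : Type*} [Group G]

theorem inv_self_of_sq {a : G} (ha : a * a = 1) : a⁻¹ = a := inv_eq_of_mul_eq_one_left ha

theorem cancel_sq {a : G} (ha : a * a = 1) (w : G) : a * (a * w) = w := by
  rw [← mul_assoc, ha, one_mul]

theorem sq_of_orderOf_two {a : G} (ha : orderOf a = 2) : a * a = 1 := by
  have := pow_orderOf_eq_one a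
  rw [ha, pow_two] at this
  exact this

theorem ne_one_of_orderOf_two {a : G} (ha : orderOf a = 2) : a ≠ 1 := by
  intro h
  rw [h, orderOf_one] at ha
  omega

theorem commute_of_mul_sq {a b : G} (ha : a * a = 1) (hb : b * b = 1) (h : (a * b) ^ 2 = 1) :
    Commute a b := by
  have h1 : a * b * (a * b) = 1 := by rw [← pow_two]; exact h
  have h2 : a * b = (a * b)⁻¹ := by
    rw [eq_inv_iff_mul_eq_one]; exact h1
  rw [mul_inv_rev, inv_self_of_sq ha, inv_self_of_sq hb] at h2
  exact h2

theorem mul_sq_of_commute {a b : G} (ha : a * a = 1) (hb : b * b = 1) (h : Commute a b) :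
    (a * b) ^ 2 = 1 := by
  rw [pow_two]
  calc a * b * (a * b) = a * (b * a) * b := by group
    _ = a * (a * b) * b := by rw [h.eq]
    _ = (a * a) * (b * b) := by group
    _ = 1 := by rw [ha, hb, one_mul]

/-- braid relation from `(ac)^3 = 1`. -/
theorem braid {a c : G} (ha : a * a = 1) (hc : c * c = 1) (h : (a * c) ^ 3 = 1) :
    a * c * a = c * a * c := by
  have h1 : a * c * a * (c * a * c) = 1 := by
    have : (a * c) ^ 3 = a * c * a * (c * a * c) := by
      simp only [pow_succ, pow_zero, one_mul, mul_assoc]
    rw [← this]; exact h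
  have h2 : (c * a * c) * (c * a * c) = 1 := by
    calc (c * a * c) * (c * a * c) = c * a * (c * c) * a * c := by group
      _ = c * (a * a) * c := by rw [hc]; group
      _ = 1 := by rw [ha, mul_one, hc]
  calc a * c * a = a * c * a * ((c * a * c) * (c * a * c)) := by rw [h2, mul_one]
    _ = (a * c * a * (c * a * c)) * (c * a * c) := by group
    _ = c * a * c := by rw [h1, one_mul]

/-- applied form of the braid relation -/
theorem braid' {a c : G} (ha : a * a = 1) (hc : c * c = 1) (h : (a * c) ^ 3 = 1) (w : G) :
    a * (c * (a * w)) = c * (a * (c * w)) := by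
  have := braid ha hc h
  calc a * (c * (a * w)) = (a * c * a) * w := by group
    _ = (c * a * c) * w := by rw [this]
    _ = c * (a * (c * w)) := by group

theorem pow_three_swap {a c : G} (ha : a * a = 1) (hc : c * c = 1) (h : (a * c) ^ 3 = 1) :
    (c * a) ^ 3 = 1 := by
  have h1 : c * a = (a * c)⁻¹ := by
    rw [mul_inv_rev, inv_self_of_sq ha, inv_self_of_sq hc]
  rw [h1, inv_pow, h, inv_one]

/-- Key `A₃` identity: with `a, b` commuting involutions and `c` an involution joined to both,
`c` commutes with `x c x`, where `x = ab`. -/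
theorem key_comm {a b c : G} (ha : a * a = 1) (hb : b * b = 1) (hc : c * c = 1)
    (hab : a * b = b * a) (hac : (a * c) ^ 3 = 1) (hbc : (b * c) ^ 3 = 1) :
    c * ((a * b) * c * (a * b)) = ((a * b) * c * (a * b)) * c := by
  -- x c x = a (b c b) a = a (c b c) a = (a c a) b (a c a) = (c a c) b (c a c) = c (x c x) c
  have h1 : b * c * b = c * b * c := braid hb hc hbc
  have h2 : a * c * a = c * a * c := braid ha hc hac
  have hx : (a * b) * c * (a * b) = c * ((a * b) * c * (a * b)) * c := by
    calc (a * b) * c * (a * b) = (a * b) * c * (b * a) := by rw [← hab]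
      _ = a * (b * c * b) * a := by group
      _ = a * (c * b * c) * a := by rw [h1]
      _ = (a * c * a) * (a * b * a) * (a * c * a) := by
          have : a * c * a * (a * b * a) * (a * c * a) = a * c * (a * a) * b * (a * a) * c * a := by
            group
          rw [this, ha]; group
      _ = (c * a * c) * (a * b * a) * (c * a * c) := by rw [h2]
      _ = c * (a * (c * b * c) * a) * c := by
          have : a * b * a = b := by rw [hab]; rw [mul_assoc, ha, mul_one]
          rw [this]; group
      _ = c * (a * (b * c * b) * a) * c := by rw [h1]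
      _ = c * ((a * b) * c * (a * b)) * c := by
          have : a * (b * c * b) * a = (a * b) * c * (a * b) := by
            calc a * (b * c * b) * a = (a * b) * c * (b * a) := by group
              _ = (a * b) * c * (a * b) := by rw [← hab]
          rw [this]
  set y := (a * b) * c * (a * b) with hy
  calc c * y = c * (c * y * c) := by rw [← hx]
    _ = (c * c) * y * c := by group
    _ = y * c := by rw [hc, one_mul]

/-- conjugation formula in `S₄`: `o = b (d a) b` conjugates `d` to `a`. -/
theorem conj_formula {d a b : G} (hd : d * d = 1) (ha : a * a = 1) (hb : b * b = 1)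
    (hda : d * a = a * d) (hdb : (d * b) ^ 3 = 1) (hab : (a * b) ^ 3 = 1) :
    (b * (d * a) * b) * d * (b * (d * a) * b) = a := by
  have h1 : b * d * b = d * b * d := braid hb hd (pow_three_swap hd hb hdb)
  have h2 : b * a * b * a * b = a := by
    have h3 : (b * a) ^ 3 = 1 := pow_three_swap ha hb hab
    have h4 : b * a * b * a * b * a = 1 := by
      have : (b * a) ^ 3 = b * a * b * a * b * a := by
        simp only [pow_succ, pow_zero, one_mul, mul_assoc]
      rw [← this]; exact h3
    calc b * a * b * a * b = b * a * b * a * b * (a * a) := by rw [ha, mul_one]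
      _ = (b * a * b * a * b * a) * a := by group
      _ = a := by rw [h4, one_mul]
  calc (b * (d * a) * b) * d * (b * (d * a) * b)
      = b * d * a * (b * d * b) * d * a * b := by group
    _ = b * d * a * (d * b * d) * d * a * b := by rw [h1]
    _ = b * (d * a) * d * b * (d * d) * a * b := by group
    _ = b * (a * d) * d * b * 1 * a * b := by rw [hda, hd]
    _ = b * a * (d * d) * b * a * b := by group
    _ = b * a * b * a * b := by rw [hd]; group
    _ = a := h2

/-- if `y` commutes with `x y x` (involutions) then `(xy)^4 = 1`. -/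
theorem pow_four_of_comm {x y : G} (hx : x * x = 1) (hy : y * y = 1)
    (h : y * (x * y * x) = (x * y * x) * y) : (x * y) ^ 4 = 1 := by
  have h1 : (x * y) ^ 4 = (x * y * x) * y * ((x * y * x) * y) := by
    simp only [pow_succ, pow_zero, one_mul, mul_assoc]
  rw [h1]
  calc (x * y * x) * y * ((x * y * x) * y) = (x * y * x) * (y * (x * y * x)) * y := by group
    _ = (x * y * x) * ((x * y * x) * y) * y := by rw [h]
    _ = x * y * (x * x) * y * x * (y * y) := by group
    _ = 1 := by simp only [mul_assoc, hx, hy, mul_one]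

/-- an involution mapping a subgroup into itself normalizes it. -/
theorem invol_mem_normalizer (H : Subgroup G) {z : G} (hzz : z * z = 1)
    (key : ∀ x ∈ H, z * x * z⁻¹ ∈ H) : z ∈ Subgroup.normalizer (H : Set G) := by
  rw [Subgroup.mem_normalizer_iff]
  intro x
  refine ⟨key x, fun hx => ?_⟩
  have h2 := key _ hx
  have : z * (z * x * z⁻¹) * z⁻¹ = x := by
    calc z * (z * x * z⁻¹) * z⁻¹ = (z * z) * x * (z * z)⁻¹ := by group
      _ = x := by rw [hzz]; group
  rwa [this] at h2

theorem isPGroup_zpowers_of_pow {p : ℕ} (hp : p.Prime) (a : G) (k : ℕ)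
    (ha : a ^ p ^ k = 1) : IsPGroup p (Subgroup.zpowers a) := by
  have hd : orderOf a ∣ p ^ k := orderOf_dvd_of_pow_eq_one ha
  obtain ⟨j, -, hj⟩ := (Nat.dvd_prime_pow hp).mp hd
  exact IsPGroup.of_card (n := j) (by rw [Nat.card_zpowers, hj])

/-- two involutions whose product has order dividing `4` generate a `2`-group. -/
theorem isPGroup_two_of_pow_four {x y : G} (hx : x * x = 1) (hy : y * y = 1)
    (h : (x * y) ^ 4 = 1) : IsPGroup 2 ↥(Subgroup.zpowers x ⊔ Subgroup.zpowers y) := by
  have hR : IsPGroup 2 ↥(Subgroup.zpowers (x * y)) :=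
    isPGroup_zpowers_of_pow Nat.prime_two (x * y) 2 (by norm_num; exact h)
  have hX : IsPGroup 2 ↥(Subgroup.zpowers x) :=
    isPGroup_zpowers_of_pow Nat.prime_two x 1 (by rw [pow_one, pow_two]; exact hx)
  have hnorm : Subgroup.zpowers x ≤ Subgroup.normalizer (Subgroup.zpowers (x * y) : Set G) := by
    rw [Subgroup.zpowers_le]
    apply invol_mem_normalizer _ hx
    intro w hw
    obtain ⟨k, rfl⟩ := Subgroup.mem_zpowers_iff.mp hw
    have h1 : x * (x * y) ^ k * x⁻¹ = (x * (x * y) * x⁻¹) ^ k := by
      rw [conj_zpow]
    have h2 : x * (x * y) * x⁻¹ = (x * y)⁻¹ := by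
      rw [mul_inv_rev, inv_self_of_sq hx, inv_self_of_sq hy]
      calc x * (x * y) * x = (x * x) * y * x := by group
        _ = y * x := by rw [hx, one_mul]
    rw [h1, h2]
    exact Subgroup.zpow_mem _ (Subgroup.inv_mem _ (Subgroup.mem_zpowers _)) k
  have hsup : IsPGroup 2 ↥(Subgroup.zpowers x ⊔ Subgroup.zpowers (x * y)) :=
    hX.to_sup_of_normal_right' hR hnorm
  refine hsup.to_le (sup_le le_sup_left ?_)
  rw [Subgroup.zpowers_le]
  have hmem : x⁻¹ * (x * y) ∈ Subgroup.zpowers x ⊔ Subgroup.zpowers (x * y) :=
    Subgroup.mul_mem _ (Subgroup.inv_mem _ (Subgroup.mem_sup_left (Subgroup.mem_zpowers x)))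
      (Subgroup.mem_sup_right (Subgroup.mem_zpowers _))
  have : x⁻¹ * (x * y) = y := by group
  rwa [this] at hmem

end Cfsg.Agent.Helper3.TT
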