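import Mathlib
import Cfsg.Prelude.Def_SporadicB
import Cfsg.Agent.Helper2.BaerSuzuki
import Cfsg.Agent.Helper9.Core
import Cfsg.Agent.Helper3.TTA

set_option autoImplicit false

/-!
3-transposition sets on which commuting is an equivalence relation: products of commuting members
lie in `O₂(G)`.
-/

namespace Cfsg.Agent.Helper3.TT

open Cfsg.Agent.Helper2

variable {G : Type*} [Group G]

/-- a conjugation-invariant generating set of 3-transpositions on which commuting is an equivalence
relation. -/
structure Hyp (D : Set G) : Prop where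
  tt : Cfsg.IsThreeTranspositionSet D
  conj : ∀ g : G, ∀ a ∈ D, g * a * g⁻¹ ∈ D
  gen : Subgroup.closure D = ⊤
  eqv : ∀ a ∈ D, ∀ b ∈ D, Commute a b → ∀ e ∈ D, (Commute b e ↔ Commute a e)

namespace Hyp

variable {D : Set G} (H : Hyp D)
include H

theorem sq {a : G} (ha : a ∈ D) : a * a = 1 := sq_of_orderOf_two (H.tt.1 a ha)

theorem ne_one {a : G} (ha : a ∈ D) : a ≠ 1 := ne_one_of_orderOf_two (H.tt.1 a ha)

theorem inv_eq {a : G} (ha : a ∈ D) : a⁻¹ = a := inv_self_of_sq (H.sq ha)

theorem conj' {a : G} (g : G) (hg : g * g = 1) (ha : a ∈ D) : g * a * g ∈ D := by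
  have := H.conj g a ha
  rwa [inv_self_of_sq hg] at this

theorem cube {a b : G} (ha : a ∈ D) (hb : b ∈ D) (h : ¬ Commute a b) : (a * b) ^ 3 = 1 := by
  rcases H.tt.2 a ha b hb with h2 | h3
  · exact absurd (commute_of_mul_sq (H.sq ha) (H.sq hb) h2) h
  · exact h3

theorem trans {a b e : G} (ha : a ∈ D) (hb : b ∈ D) (he : e ∈ D) (hab : Commute a b)
    (hbe : Commute b e) : Commute a e := (H.eqv a ha b hb hab e he).mp hbe

/-- product of two commuting members is an involution or trivial -/
theorem mul_sq {a b : G} (ha : a ∈ D) (hb : b ∈ D) (hab : Commute a b) :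
    (a * b) * (a * b) = 1 := by
  rw [← pow_two]; exact mul_sq_of_commute (H.sq ha) (H.sq hb) hab

/-- key: `(xy)^4 = 1` for `x = ab`, `y = ce` products of commuting pairs. -/
theorem pow_four {a b c e : G} (ha : a ∈ D) (hb : b ∈ D) (hc : c ∈ D) (he : e ∈ D)
    (hab : Commute a b) (hce : Commute c e) : ((a * b) * (c * e)) ^ 4 = 1 := by
  have hx := H.mul_sq ha hb hab
  have hy := H.mul_sq hc he hce
  apply pow_four_of_comm hx hy
  by_cases hac : Commute a c
  · -- everything commutes
    have hbc : Commute b c := (H.eqv a ha b hb hab c hc).mpr hac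
    have hae : Commute a e := H.trans ha hc he hac hce
    have hbe : Commute b e := (H.eqv a ha b hb hab e he).mpr hae
    have hxy : Commute (a * b) (c * e) :=
      Commute.mul_left (Commute.mul_right hac hae) (Commute.mul_right hbc hbe)
    have : (a * b) * (c * e) * (a * b) = c * e := by
      rw [hxy.eq, mul_assoc, hx, mul_one]
    rw [this]
  · have hbc : ¬ Commute b c := fun h => hac ((H.eqv a ha b hb hab c hc).mp h)
    have hae : ¬ Commute a e := fun h => hac (H.trans ha he hc h hce.symm)
    have hbe : ¬ Commute b e := fun h => hae ((H.eqv a ha b hb hab e he).mp h)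
    set x := a * b with hxdef
    -- c commutes with x c x, e commutes with x e x
    have k1 : c * (x * c * x) = (x * c * x) * c :=
      key_comm (H.sq ha) (H.sq hb) (H.sq hc) hab.eq (H.cube ha hc hac) (H.cube hb hc hbc)
    have k2 : e * (x * e * x) = (x * e * x) * e :=
      key_comm (H.sq ha) (H.sq hb) (H.sq he) hab.eq (H.cube ha he hae) (H.cube hb he hbe)
    have hcx : x * c * x ∈ D := H.conj' x hx hc
    have hex : x * e * x ∈ D := H.conj' x hx he
    have c1 : Commute c (x * c * x) := k1
    have c2 : Commute e (x * e * x) := k2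
    have c3 : Commute c (x * e * x) := H.trans hc he hex hce c2
    have c4 : Commute e (x * c * x) := H.trans he hc hcx hce.symm c1
    have hsplit : x * (c * e) * x = (x * c * x) * (x * e * x) := by
      calc x * (c * e) * x = x * c * 1 * e * x := by group
        _ = x * c * (x * x) * e * x := by rw [hx]
        _ = (x * c * x) * (x * e * x) := by group
    rw [hsplit]
    exact (Commute.mul_left (Commute.mul_right c1 c3) (Commute.mul_right c4 c2)).eq

/-- products of commuting members lie in `O₂(G)`. -/
theorem mul_mem_pCore [Finite G] {a b : G} (ha : a ∈ D) (hb : b ∈ D) (hab : Commute a b) :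
    a * b ∈ Cfsg.pCore 2 G := by
  have : Fact (Nat.Prime 2) := ⟨Nat.prime_two⟩
  set x := a * b with hxdef
  have hx := H.mul_sq ha hb hab
  have hX : IsPGroup 2 ↥(Subgroup.zpowers x) :=
    isPGroup_zpowers_of_pow Nat.prime_two x 1 (by rw [pow_one, pow_two]; exact hx)
  obtain ⟨N, hNn, hNp, hXN⟩ := baer_suzuki (p := 2) (Subgroup.zpowers x) hX (by
    intro g
    have hcj : cj g (Subgroup.zpowers x) = Subgroup.zpowers ((g * a * g⁻¹) * (g * b * g⁻¹)) := by
      unfold cj
      rw [MonoidHom.map_zpowers]
      congr 1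
      simp only [MulEquiv.coe_toMonoidHom, MulAut.conj_apply, hxdef]
      group
    rw [hcj]
    have ha' := H.conj g a ha
    have hb' := H.conj g b hb
    have hab' : Commute (g * a * g⁻¹) (g * b * g⁻¹) := by
      have := hab.eq
      show g * a * g⁻¹ * (g * b * g⁻¹) = g * b * g⁻¹ * (g * a * g⁻¹)
      calc g * a * g⁻¹ * (g * b * g⁻¹) = g * (a * b) * g⁻¹ := by group
        _ = g * (b * a) * g⁻¹ := by rw [this]
        _ = g * b * g⁻¹ * (g * a * g⁻¹) := by group
    exact isPGroup_two_of_pow_four hx (H.mul_sq ha' hb' hab') (H.pow_four ha hb ha' hb' hab hab'))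
  exact Cfsg.Agent.Helper9.le_pCore N hNn hNp (hXN (Subgroup.mem_zpowers x))

end Hyp

end Cfsg.Agent.Helper3.TT
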