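import Mathlib
import Cfsg.Agent.Helper2.ZStarM
import Cfsg.Agent.Helper4.HallConverseB
import Cfsg.Agent.Helper3.TTA

set_option autoImplicit false

/-!
Fischer's lemma: a finite group generated by a class of involutions `z^Q` such that `z` is isolated
and `z · z^g` has order dividing `3` for every `g`, is generated by `z` and any Sylow `3`-subgroup.
-/

namespace Cfsg.Agent.Helper3.TT

universe u

variable {Q : Type u} [Group Q]

/-- an element of a `p`-subgroup with `w ^ 3 = 1`, `p ≠ 3`, is trivial. -/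
theorem eq_one_of_pow_three {p : ℕ} (hp : p.Prime) (hp3 : p ≠ 3) {S : Subgroup Q}
    (hS : IsPGroup p S) {w : Q} (hw : w ∈ S) (h3 : w ^ 3 = 1) : w = 1 := by
  obtain ⟨k, hk⟩ := hS ⟨w, hw⟩
  have hk' : w ^ p ^ k = 1 := by
    have := congrArg Subtype.val hk
    simpa using this
  have h1 : orderOf w ∣ p ^ k := orderOf_dvd_of_pow_eq_one hk'
  have h2 : orderOf w ∣ 3 := orderOf_dvd_of_pow_eq_one h3
  have hcop : Nat.Coprime (p ^ k) 3 := by
    apply Nat.Coprime.pow_left
    exact (Nat.coprime_primes hp Nat.prime_three).mpr hp3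
  exact orderOf_eq_one_iff.mp (Nat.eq_one_of_dvd_coprimes hcop h1 h2)

variable [Finite Q]

/-- for every prime `p ≠ 3`, the centralizer of `z` has index prime to `p`. -/
theorem not_dvd_index_centralizer (z : Q) (hz : Cfsg.IsIsolatedInvolution z)
    (h3 : ∀ g : Q, (z * (g * z * g⁻¹)) ^ 3 = 1) {p : ℕ} (hp : p.Prime) (hp3 : p ≠ 3) :
    ¬ p ∣ (Subgroup.centralizer ({z} : Set Q)).index := by
  have : Fact p.Prime := ⟨hp⟩
  have hzz : z * z = 1 := sq_of_orderOf_two hz.1
  have hzi : z⁻¹ = z := inv_self_of_sq hzz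
  -- it suffices to find a Sylow `p`-subgroup inside the centralizer
  suffices h : ∃ P : Sylow p Q, (P : Subgroup Q) ≤ Subgroup.centralizer ({z} : Set Q) by
    obtain ⟨P, hP⟩ := h
    intro hd
    exact P.not_dvd_index (hd.trans (Subgroup.index_dvd_of_le hP))
  -- a `z`-invariant Sylow `p`-subgroup
  have hex : ∃ P : Sylow p Q, z ∈ Subgroup.normalizer ((P : Subgroup Q) : Set Q) := by
    by_cases hp2 : p = 2
    · subst hp2
      have hzp : IsPGroup 2 ↥(Subgroup.zpowers z) :=
        isPGroup_zpowers_of_pow Nat.prime_two z 1 (by rw [pow_one, pow_two]; exact hzz)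
      obtain ⟨P, hP⟩ := hzp.exists_le_sylow
      exact ⟨P, Subgroup.le_normalizer (hP (Subgroup.mem_zpowers z))⟩
    · exact Cfsg.Agent.Helper2.ZStar.exists_invariant_sylow z hz hp2
  obtain ⟨P, hzP⟩ := hex
  refine ⟨P, fun s hs => ?_⟩
  rw [Subgroup.mem_centralizer_iff]
  intro y hy
  rw [Set.mem_singleton_iff] at hy
  subst hy
  -- w = y (s y s⁻¹) ∈ P has w^3 = 1
  have hw : y * (s * y * s⁻¹) ∈ (P : Subgroup Q) := by
    have h1 : y * s * y⁻¹ ∈ (P : Subgroup Q) := (Subgroup.mem_normalizer_iff.mp hzP s).mp hs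
    have : y * (s * y * s⁻¹) = (y * s * y⁻¹) * s⁻¹ := by rw [hzi]; group
    rw [this]
    exact Subgroup.mul_mem _ h1 (Subgroup.inv_mem _ hs)
  have h1 := eq_one_of_pow_three hp hp3 P.2 hw (h3 s)
  -- so s y s⁻¹ = y
  have h2 : s * y * s⁻¹ = y := by
    have : s * y * s⁻¹ = y⁻¹ * (y * (s * y * s⁻¹)) := by group
    rw [this, h1, mul_one, hzi]
  calc y * s = (s * y * s⁻¹) * s := by rw [h2]
    _ = s * y := by group

/-- **Fischer's lemma**: `Q` is generated by `z` and any Sylow `3`-subgroup. -/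
theorem fischer (z : Q) (hz : Cfsg.IsIsolatedInvolution z)
    (h3 : ∀ g : Q, (z * (g * z * g⁻¹)) ^ 3 = 1)
    (hgen : Subgroup.closure (Set.range fun g : Q => g * z * g⁻¹) = ⊤)
    (P : Sylow 3 Q) : Subgroup.zpowers z ⊔ (P : Subgroup Q) = ⊤ := by
  have : Fact (Nat.Prime 3) := ⟨Nat.prime_three⟩
  set C := Subgroup.centralizer ({z} : Set Q) with hC
  have hidx : Nat.Coprime C.index (P : Subgroup Q).index := by
    rw [Nat.coprime_comm]
    apply Nat.Coprime.symm
    apply Nat.coprime_of_dvd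
    intro k hk hk1 hk2
    by_cases h : k = 3
    · subst h; exact P.not_dvd_index hk2
    · exact not_dvd_index_centralizer z hz h3 hk h hk1
  rw [eq_top_iff, ← hgen, Subgroup.closure_le]
  rintro _ ⟨g, rfl⟩
  obtain ⟨u, hu, c, hc, rfl⟩ := Cfsg.Agent.Helper4.exists_mul_of_coprime_index C (P : Subgroup Q) hidx g
  have hcz : c * z = z * c := by
    have := Subgroup.mem_centralizer_iff.mp hc z (Set.mem_singleton z)
    exact this.symm
  have : u * c * z * (u * c)⁻¹ = u * z * u⁻¹ := by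
    calc u * c * z * (u * c)⁻¹ = u * (c * z) * c⁻¹ * u⁻¹ := by group
      _ = u * (z * c) * c⁻¹ * u⁻¹ := by rw [hcz]
      _ = u * z * u⁻¹ := by group
  show u * c * z * (u * c)⁻¹ ∈ _
  rw [this]
  exact Subgroup.mul_mem _ (Subgroup.mul_mem _ (Subgroup.mem_sup_right hu)
    (Subgroup.mem_sup_left (Subgroup.mem_zpowers z))) (Subgroup.inv_mem _ (Subgroup.mem_sup_right hu))

end Cfsg.Agent.Helper3.TT
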