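import Mathlib
import Cfsg.Agent.Helper3.TTB
import Cfsg.Agent.Helper3.TTC

set_option autoImplicit false

/-!
3-transposition sets on which commuting is an equivalence relation: a member `d` not commuting with
some other member normalizes a Sylow `3`-subgroup.
-/

namespace Cfsg.Agent.Helper3.TT

open Cfsg.Agent.Helper2

universe u

variable {G : Type u} [Group G] [Finite G] {D : Set G}

omit [Finite G] in
/-- an element lying in a `2`-subgroup and in a `3`-subgroup is trivial -/
theorem eq_one_of_mem_two_three {A B : Subgroup G} (hA : IsPGroup 2 A) (hB : IsPGroup 3 B)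
    {x : G} (hxA : x ∈ A) (hxB : x ∈ B) : x = 1 := by
  obtain ⟨k, hk⟩ := hA ⟨x, hxA⟩
  obtain ⟨j, hj⟩ := hB ⟨x, hxB⟩
  have hk' : x ^ 2 ^ k = 1 := by simpa using congrArg Subtype.val hk
  have hj' : x ^ 3 ^ j = 1 := by simpa using congrArg Subtype.val hj
  have h1 := orderOf_dvd_of_pow_eq_one hk'
  have h2 := orderOf_dvd_of_pow_eq_one hj'
  have hcop : Nat.Coprime (2 ^ k) (3 ^ j) := Nat.Coprime.pow _ _ (by norm_num)
  exact orderOf_eq_one_iff.mp (Nat.eq_one_of_dvd_coprimes hcop h1 h2)

/-- a member `d` of `D` not commuting with some member of `D` normalizes a Sylow `3`-subgroup. -/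
theorem exists_invariant_sylow_three (H : Hyp D) {d b0 : G} (hd : d ∈ D) (hb0 : b0 ∈ D)
    (hnc : ¬ Commute d b0) :
    ∃ S : Sylow 3 G, d ∈ Subgroup.normalizer ((S : Subgroup G) : Set G) := by
  classical
  have hf3 : Fact (Nat.Prime 3) := ⟨Nat.prime_three⟩
  have hf2 : Fact (Nat.Prime 2) := ⟨Nat.prime_two⟩
  set O := Cfsg.pCore 2 G with hO
  have hOn : O.Normal := Cfsg.Agent.Helper9.pCore_normal
  have hOp : IsPGroup 2 O := Cfsg.Agent.Helper9.pCore_isPGroup
  have hdd := H.sq hd
  have hdi := H.inv_eq hd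
  have hbb := H.sq hb0
  set x0 := d * b0 with hx0
  have hx03 : x0 ^ 3 = 1 := H.cube hd hb0 hnc
  set b := b0 * d * b0 with hbdef
  have hbD : b ∈ D := H.conj' b0 hbb hd
  have hbsq := H.sq hbD
  have hbr : d * b0 * d = b0 * d * b0 := braid hdd hbb hx03
  have hnb : ¬ Commute d b := by
    intro hc
    apply hnc
    have h1 : d * (d * b0 * d) = (d * b0 * d) * d := by rw [hbr]; exact hc.eq
    show d * b0 = b0 * d
    calc d * b0 = (d * b0 * d) * d := by rw [mul_assoc (d * b0), hdd, mul_one]
      _ = d * (d * b0 * d) := h1.symm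
      _ = b0 * d := by rw [← mul_assoc, ← mul_assoc, hdd, one_mul]
  -- the family of `d`-invariant `3`-subgroups containing `x0`
  let 𝓡 : Set (Subgroup G) :=
    {R | IsPGroup 3 R ∧ d ∈ Subgroup.normalizer (R : Set G) ∧ x0 ∈ R}
  have hne : 𝓡.Nonempty := by
    refine ⟨Subgroup.zpowers x0,
      isPGroup_zpowers_of_pow Nat.prime_three x0 1 (by rw [pow_one]; exact hx03), ?_,
      Subgroup.mem_zpowers x0⟩
    apply invol_mem_normalizer _ hdd
    intro w hw
    obtain ⟨k, rfl⟩ := Subgroup.mem_zpowers_iff.mp hw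
    rw [← conj_zpow]
    have : d * x0 * d⁻¹ = x0⁻¹ := by
      rw [hdi, hx0, mul_inv_rev, H.inv_eq hb0, hdi]
      calc d * (d * b0) * d = (d * d) * b0 * d := by group
        _ = b0 * d := by rw [hdd, one_mul]
    rw [this]
    exact Subgroup.zpow_mem _ (Subgroup.inv_mem _ (Subgroup.mem_zpowers _)) k
  obtain ⟨R, hR𝓡, hmax⟩ :=
    Set.exists_max_image 𝓡 (fun R => Nat.card R) (Set.toFinite _) hne
  obtain ⟨hRp, hdR, hx0R⟩ := hR𝓡
  -- extension principle
  have ext : ∀ t : G, t ∈ Subgroup.normalizer (R : Set G) → (∃ k : ℕ, t ^ 3 ^ k = 1) →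
      (d * t * d⁻¹ = t ∨ d * t * d⁻¹ = t⁻¹) → t ∈ R := by
    intro t htN ⟨k, hk⟩ hdt
    have hT : IsPGroup 3 ↥(Subgroup.zpowers t) :=
      isPGroup_zpowers_of_pow Nat.prime_three t k hk
    have hsup : IsPGroup 3 ↥(R ⊔ Subgroup.zpowers t) :=
      hRp.to_sup_of_normal_left' hT (by rw [Subgroup.zpowers_le]; exact htN)
    have hdN : d ∈ Subgroup.normalizer ((R ⊔ Subgroup.zpowers t : Subgroup G) : Set G) := by
      apply invol_mem_normalizer _ hdd
      intro w hw
      have h1 : d * w * d⁻¹ ∈ cj d (R ⊔ Subgroup.zpowers t) := conj_mem_cj _ d w hw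
      have h2 : cj d (R ⊔ Subgroup.zpowers t) ≤ R ⊔ Subgroup.zpowers t := by
        unfold cj
        rw [Subgroup.map_sup]
        apply sup_le
        · have : cj d R = R := (mem_normalizer_iff_cj R d).mp hdR
          exact le_trans (le_of_eq this) le_sup_left
        · rw [MonoidHom.map_zpowers]
          apply le_trans _ le_sup_right
          rw [Subgroup.zpowers_le]
          show d * t * d⁻¹ ∈ _
          rcases hdt with h | h
          · rw [h]; exact Subgroup.mem_zpowers t
          · rw [h]; exact Subgroup.inv_mem _ (Subgroup.mem_zpowers t)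
      exact h2 h1
    have hmem : (R ⊔ Subgroup.zpowers t) ∈ 𝓡 := ⟨hsup, hdN, Subgroup.mem_sup_left hx0R⟩
    have hle := hmax _ hmem
    have heq : R = R ⊔ Subgroup.zpowers t := Subgroup.eq_of_le_of_card_ge le_sup_left hle
    rw [heq]
    exact Subgroup.mem_sup_right (Subgroup.mem_zpowers t)
  obtain ⟨S, hRS⟩ := hRp.exists_le_sylow
  suffices hRS' : R = (S : Subgroup G) by
    exact ⟨S, hRS' ▸ hdR⟩
  by_contra hne'
  have hlt : R < (S : Subgroup G) := lt_of_le_of_ne hRS hne'
  obtain ⟨y, hyS, hyR, hyN⟩ := exists_mem_normalizer_notMem_of_lt S.2 hlt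
  set e := y⁻¹ * d * y with he
  have heD : e ∈ D := by
    have := H.conj y⁻¹ d hd
    rwa [inv_inv] at this
  have hee := H.sq heD
  have hei := H.inv_eq heD
  have heN : e ∈ Subgroup.normalizer (R : Set G) := mul_mem (mul_mem (inv_mem hyN) hdR) hyN
  set r := d * e with hr
  have hrN : r ∈ Subgroup.normalizer (R : Set G) := mul_mem hdR heN
  have hdyd : d * y * d⁻¹ = y * r⁻¹ := by
    rw [hr, mul_inv_rev, hei, hdi, he]; group
  by_cases hce : Commute d e
  · -- the commuting case
    have hrO : r ∈ O := H.mul_mem_pCore hd heD hce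
    have hrr : r * r = 1 := H.mul_sq hd heD hce
    have hri : r⁻¹ = r := inv_self_of_sq hrr
    have hbN : b ∈ Subgroup.normalizer (R : Set G) := by
      have hx0N : x0 ∈ Subgroup.normalizer (R : Set G) := Subgroup.le_normalizer hx0R
      have : x0⁻¹ * d * x0 = b := by
        rw [hx0, mul_inv_rev, H.inv_eq hb0, hdi, hbdef]
        calc b0 * d * d * (d * b0) = b0 * (d * d) * d * b0 := by group
          _ = b0 * d * b0 := by rw [hdd, mul_one]
      rw [← this]
      exact mul_mem (mul_mem (inv_mem hx0N) hdR) hx0N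
    set o := b * r * b with ho
    have hoO : o ∈ O := by
      have := hOn.conj_mem r hrO b
      rwa [H.inv_eq hbD] at this
    have hoN : o ∈ Subgroup.normalizer (R : Set G) := mul_mem (mul_mem hbN hrN) hbN
    have hoo : o * o = 1 := by
      rw [ho]
      calc b * r * b * (b * r * b) = b * r * (b * b) * r * b := by group
        _ = b * (r * r) * b := by rw [hbsq]; group
        _ = 1 := by rw [hrr, mul_one, hbsq]
    have hneb : ¬ Commute e b := fun h => hnb ((H.eqv d hd e heD hce b hbD).mp h)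
    have hodo : o * d * o = e := by
      rw [ho, hr]
      exact conj_formula hdd hee hbsq hce.eq (H.cube hd hbD hnb) (H.cube heD hbD hneb)
    have hdod : d * o * d⁻¹ = r * o := by
      rw [hdi]
      calc d * o * d = d * o * d * (o * o) := by rw [hoo, mul_one]
        _ = d * (o * d * o) * o := by group
        _ = d * e * o := by rw [hodo]
    set c := y * o with hc
    have hcN : c ∈ Subgroup.normalizer (R : Set G) := mul_mem hyN hoN
    have hdc : d * c * d⁻¹ = c := by
      have : d * c * d⁻¹ = (d * y * d⁻¹) * (d * o * d⁻¹) := by rw [hc]; group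
      rw [this, hdyd, hdod, hri, hc]
      calc y * r * (r * o) = y * (r * r) * o := by group
        _ = y * o := by rw [hrr, mul_one]
    set n2 := Nat.card O with hn2
    obtain ⟨k, hk⟩ := S.2 ⟨y, hyS⟩
    have hk' : y ^ 3 ^ k = 1 := by simpa using congrArg Subtype.val hk
    have hpow : ∀ m : ℕ, (c ^ m) * (y ^ m)⁻¹ ∈ O := by
      intro m
      have h1 : ((c : G) : G ⧸ O) = ((y : G) : G ⧸ O) := by
        rw [hc, QuotientGroup.mk_mul, (QuotientGroup.eq_one_iff o).mpr hoO, mul_one]
      have : ((c ^ m * (y ^ m)⁻¹ : G) : G ⧸ O) = 1 := by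
        rw [QuotientGroup.mk_mul, QuotientGroup.mk_inv, QuotientGroup.mk_pow,
          QuotientGroup.mk_pow, h1, mul_inv_cancel]
      exact (QuotientGroup.eq_one_iff _).mp this
    have hOpow : ∀ g ∈ O, g ^ n2 = 1 := by
      intro g hg
      have h := pow_card_eq_one' (G := O) (x := ⟨g, hg⟩)
      have h' := congrArg Subtype.val h
      rw [Subgroup.coe_pow, Subgroup.coe_one] at h'
      exact h'
    set t := c ^ n2 with ht
    have htN : t ∈ Subgroup.normalizer (R : Set G) := pow_mem hcN n2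
    have hdt : d * t * d⁻¹ = t := by rw [ht, ← conj_pow, hdc]
    have ht3 : t ^ 3 ^ k = 1 := by
      have h1 : c ^ 3 ^ k ∈ O := by
        have := hpow (3 ^ k)
        rwa [hk', inv_one, mul_one] at this
      rw [ht, ← pow_mul, mul_comm, pow_mul]
      exact hOpow _ h1
    have htR : t ∈ R := ext t htN ⟨k, ht3⟩ (Or.inl hdt)
    have hty : t = y ^ n2 := by
      have h1 : t * (y ^ n2)⁻¹ ∈ O := hpow n2
      have h2 : t * (y ^ n2)⁻¹ ∈ (S : Subgroup G) :=
        mul_mem (hRS htR) (inv_mem (pow_mem hyS n2))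
      have h3 := eq_one_of_mem_two_three hOp S.2 h1 h2
      exact mul_inv_eq_one.mp h3
    have hcop : Nat.Coprime n2 (orderOf y) := by
      obtain ⟨i, hi⟩ := IsPGroup.iff_card.mp hOp
      have h1 : orderOf y ∣ 3 ^ k := orderOf_dvd_of_pow_eq_one hk'
      rw [hn2, hi]
      exact Nat.Coprime.coprime_dvd_right h1 (Nat.Coprime.pow _ _ (by norm_num))
    obtain ⟨m, hm⟩ := exists_pow_eq_self_of_coprime hcop
    apply hyR
    rw [← hm, ← hty]
    exact pow_mem htR m
  · -- the non-commuting case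
    have hr3 : r ^ 3 = 1 := H.cube hd heD hce
    have hdr : d * r * d⁻¹ = r⁻¹ := by
      rw [hr, mul_inv_rev, hei, hdi]
      calc d * (d * e) * d = (d * d) * e * d := by group
        _ = e * d := by rw [hdd, one_mul]
    have hrR : r ∈ R := ext r hrN ⟨1, by rw [pow_one]; exact hr3⟩ (Or.inr hdr)
    set c := y * r with hc
    have hcN : c ∈ Subgroup.normalizer (R : Set G) := mul_mem hyN hrN
    have hcS : c ∈ (S : Subgroup G) := mul_mem hyS (hRS hrR)
    obtain ⟨k, hk⟩ := S.2 ⟨c, hcS⟩
    have hk' : c ^ 3 ^ k = 1 := by simpa using congrArg Subtype.val hk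
    have hdc : d * c * d⁻¹ = c := by
      have h0 : d * c * d⁻¹ = (d * y * d⁻¹) * (d * r * d⁻¹) := by rw [hc]; group
      rw [h0, hdyd, hdr, hc]
      have h : r * r * r = 1 := by
        rw [← hr3]; simp only [pow_succ, pow_zero, one_mul]
      have h' : r⁻¹ * r⁻¹ = r := by
        calc r⁻¹ * r⁻¹ = r⁻¹ * r⁻¹ * (r * r * r) := by rw [h, mul_one]
          _ = r := by group
      rw [mul_assoc, h']
    have hcR : c ∈ R := ext c hcN ⟨k, hk'⟩ (Or.inl hdc)
    apply hyR
    have : y = c * r⁻¹ := by rw [hc]; group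
    rw [this]
    exact mul_mem hcR (inv_mem hrR)

end Cfsg.Agent.Helper3.TT
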