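import Mathlib
import Cfsg.Agent.Helper3.TTD

set_option autoImplicit false

/-!
Main theorem: for a class `D` of 3-transpositions generating `G` on which commuting is an
equivalence relation, `G = ⟨d⟩ P O₂(G)` for some `d`-invariant Sylow `3`-subgroup `P`.
-/

namespace Cfsg.Agent.Helper3.TT

open Cfsg.Agent.Helper2

universe u

variable {G : Type u} [Group G] [Finite G] {D : Set G}

theorem main (H : Hyp D) {d : G} (hd : d ∈ D) (hconjd : ∀ a ∈ D, ∃ g : G, a = g * d * g⁻¹) :
    ∃ P : Sylow 3 G, d ∈ Subgroup.normalizer ((P : Subgroup G) : Set G) ∧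
      Subgroup.zpowers d ⊔ (P : Subgroup G) ⊔ Cfsg.pCore 2 G = ⊤ := by
  classical
  have hf3 : Fact (Nat.Prime 3) := ⟨Nat.prime_three⟩
  have hf2 : Fact (Nat.Prime 2) := ⟨Nat.prime_two⟩
  set O := Cfsg.pCore 2 G with hO
  have hOn : O.Normal := Cfsg.Agent.Helper9.pCore_normal
  have hOp : IsPGroup 2 O := Cfsg.Agent.Helper9.pCore_isPGroup
  have hdd := H.sq hd
  have hdi := H.inv_eq hd
  by_cases hall : ∀ b ∈ D, Commute d b
  · -- `d` is central
    have hcen : ∀ g : G, g * d = d * g := by
      intro g
      have hg : g ∈ Subgroup.closure D := by rw [H.gen]; exact Subgroup.mem_top g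
      have hle : Subgroup.closure D ≤ Subgroup.centralizer ({d} : Set G) := by
        rw [Subgroup.closure_le]
        intro a ha
        rw [SetLike.mem_coe, Subgroup.mem_centralizer_iff]
        intro y hy
        rw [Set.mem_singleton_iff] at hy
        subst hy
        exact (hall a ha).eq
      have := Subgroup.mem_centralizer_iff.mp (hle hg) d (Set.mem_singleton d)
      exact this.symm
    obtain ⟨P⟩ := (inferInstance : Nonempty (Sylow 3 G))
    refine ⟨P, ?_, ?_⟩
    · rw [Subgroup.mem_normalizer_iff]
      intro x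
      have : d * x * d⁻¹ = x := by
        rw [← hcen x, mul_assoc, mul_inv_cancel, mul_one]
      rw [this]
    · rw [eq_top_iff, ← H.gen, Subgroup.closure_le]
      intro a ha
      have h1 : d * a ∈ O := H.mul_mem_pCore hd ha (hall a ha)
      have h2 : a = d⁻¹ * (d * a) := by group
      rw [SetLike.mem_coe, h2]
      exact mul_mem (inv_mem (Subgroup.mem_sup_left (Subgroup.mem_sup_left (Subgroup.mem_zpowers d))))
        (Subgroup.mem_sup_right h1)
  · push Not at hall
    obtain ⟨b0, hb0, hnc⟩ := hall
    obtain ⟨S, hdS⟩ := exists_invariant_sylow_three H hd hb0 hnc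
    refine ⟨S, hdS, ?_⟩
    -- the quotient
    let π : G →* G ⧸ O := QuotientGroup.mk' O
    have hπs : Function.Surjective π := QuotientGroup.mk'_surjective O
    have hker : ∀ g : G, π g = 1 ↔ g ∈ O := fun g => QuotientGroup.eq_one_iff g
    set z := π d with hz
    have hzz : z * z = 1 := by rw [hz, ← map_mul, hdd, map_one]
    -- `d ∉ O`
    have hdO : d ∉ O := by
      intro hdO
      apply hnc
      have hbO : b0 ∈ O := by
        obtain ⟨g, hg⟩ := hconjd b0 hb0
        rw [hg]
        exact hOn.conj_mem d hdO g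
      have h1 : d * b0 ∈ O := mul_mem hdO hbO
      have h3 : (d * b0) ^ 3 = 1 := H.cube hd hb0 hnc
      have hB : IsPGroup 3 ↥(Subgroup.zpowers (d * b0)) :=
        isPGroup_zpowers_of_pow Nat.prime_three (d * b0) 1 (by rw [pow_one]; exact h3)
      have h4 := eq_one_of_mem_two_three hOp hB h1 (Subgroup.mem_zpowers _)
      have h5 : b0 = d := by
        have : b0 = d⁻¹ * (d * b0) := by group
        rw [this, h4, mul_one, hdi]
      rw [h5]
    have hz1 : z ≠ 1 := fun h => hdO ((hker d).mp h)
    have hzo : orderOf z = 2 := orderOf_eq_prime (by rw [pow_two]; exact hzz) hz1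
    have hzi : z⁻¹ = z := inv_self_of_sq hzz
    -- images of members of `D`
    have himg : ∀ e ∈ D, (Commute z (π e) → π e = z) ∧ (z * π e) ^ 3 = 1 := by
      intro e he
      have hee := H.sq he
      have hπee : π e * π e = 1 := by rw [← map_mul, hee, map_one]
      by_cases hc : Commute d e
      · have h1 : d * e ∈ O := H.mul_mem_pCore hd he hc
        have h2 : z * π e = 1 := by rw [hz, ← map_mul]; exact (hker _).mpr h1
        have h3 : π e = z := by
          have : π e = z⁻¹ * (z * π e) := by group
          rw [this, h2, mul_one, hzi]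
        exact ⟨fun _ => h3, by rw [h2, one_pow]⟩
      · have h3 : (z * π e) ^ 3 = 1 := by
          rw [hz, ← map_mul, ← map_pow, H.cube hd he hc, map_one]
        refine ⟨fun hcz => ?_, h3⟩
        have h2 : (z * π e) ^ 2 = 1 := mul_sq_of_commute hzz hπee hcz
        have h1 : z * π e = 1 := by
          have : z * π e = (z * π e) ^ 3 * ((z * π e) ^ 2)⁻¹ := by group
          rw [this, h3, h2, inv_one, mul_one]
        have : π e = z⁻¹ * (z * π e) := by group
        rw [this, h1, mul_one, hzi]
    have hconjimg : ∀ q : G ⧸ O, ∃ e ∈ D, q * z * q⁻¹ = π e := by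
      intro q
      obtain ⟨g, rfl⟩ := hπs q
      exact ⟨g * d * g⁻¹, H.conj g d hd, by rw [hz, map_mul, map_mul, map_inv]⟩
    have hiso : Cfsg.IsIsolatedInvolution z := by
      refine ⟨hzo, fun q hq => ?_⟩
      obtain ⟨e, he, hqe⟩ := hconjimg q
      rw [hqe] at hq ⊢
      exact (himg e he).1 hq
    have h3 : ∀ q : G ⧸ O, (z * (q * z * q⁻¹)) ^ 3 = 1 := by
      intro q
      obtain ⟨e, he, hqe⟩ := hconjimg q
      rw [hqe]
      exact (himg e he).2
    have hgen : Subgroup.closure (Set.range fun q : G ⧸ O => q * z * q⁻¹) = ⊤ := by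
      rw [eq_top_iff]
      have h1 : (Subgroup.closure D).map π = ⊤ := by
        rw [H.gen]; exact Subgroup.map_top_of_surjective π hπs
      rw [← h1, MonoidHom.map_closure, Subgroup.closure_le]
      rintro _ ⟨a, ha, rfl⟩
      apply Subgroup.subset_closure
      obtain ⟨g, hg⟩ := hconjd a ha
      exact ⟨π g, by rw [hg, hz, map_mul, map_mul, map_inv]⟩
    have hF := fischer z hiso h3 hgen (S.mapSurjective hπs)
    rw [Sylow.coe_mapSurjective] at hF
    -- pull back
    rw [eq_top_iff]
    intro g _
    have hg : π g ∈ Subgroup.zpowers z ⊔ (S : Subgroup G).map π := by rw [hF]; exact Subgroup.mem_top _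
    have hmap : Subgroup.zpowers z ⊔ (S : Subgroup G).map π =
        (Subgroup.zpowers d ⊔ (S : Subgroup G)).map π := by
      rw [Subgroup.map_sup, MonoidHom.map_zpowers]
    rw [hmap] at hg
    obtain ⟨h, hh, hhg⟩ := hg
    have h1 : h⁻¹ * g ∈ O := by
      rw [← hker, map_mul, map_inv, hhg, inv_mul_cancel]
    have h2 : g = h * (h⁻¹ * g) := by group
    rw [h2]
    exact mul_mem (Subgroup.mem_sup_left hh) (Subgroup.mem_sup_right h1)

end Cfsg.Agent.Helper3.TT
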