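import Cfsg.Agent.Helper8.TensG

/-!
# The generic fibre criterion

An automorphism `g` of `V = U ⊗ W` mapping every fibre `U ⊗ w` onto a fibre preserves the
tensor decomposition (`IsTens t g`).  No group, no forms.
-/

set_option autoImplicit false
set_option linter.unusedSectionVars false

namespace Cfsg.Agent.Helper3.TensS

open Module Cfsg.Agent.Helper7.ExtF Cfsg.Agent.Helper8.Tens

variable {F : Type*} [Field F] {U W V : Type*} [AddCommGroup U] [Module F U]
  [AddCommGroup W] [Module F W] [AddCommGroup V] [Module F V]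
  {t : U →ₗ[F] W →ₗ[F] V}
  [FiniteDimensional F U] [FiniteDimensional F W] [FiniteDimensional F V]

/-- the automorphism of `U` induced by an element mapping a fibre onto a fibre. -/
theorem exists_A_of_fibTo (ht : IsTensorProduct t) {g : V ≃ₗ[F] V} {w w' : W} (hw : w ≠ 0)
    (hw' : w' ≠ 0) (hS : img g (fib t w) = fib t w') :
    ∃ A : U ≃ₗ[F] U, ∀ u, g (t u w) = t (A u) w' := by
  obtain ⟨l₀, hl₀⟩ := exists_dual_eq_one (F := F) hw'
  set A₀ : U →ₗ[F] U := (ev ht l₀).comp ((g : V →ₗ[F] V).comp (t.flip w)) with hA₀
  have hA : ∀ u, g (t u w) = t (A₀ u) w' := by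
    intro u
    have hmem : g (t u w) ∈ fib t w' := by
      rw [← hS]; exact apply_mem_img (t_mem_fib u w)
    obtain ⟨u', hu'⟩ := mem_fib.mp hmem
    have : A₀ u = u' := by
      rw [hA₀, LinearMap.comp_apply, LinearMap.comp_apply, LinearMap.flip_apply,
        LinearEquiv.coe_coe, ← hu', ev_t, hl₀, one_smul]
    rw [this, hu']
  have hinj : Function.Injective A₀ := by
    rw [injective_iff_map_eq_zero]
    intro u hu
    have := hA u
    rw [hu, LinearMap.map_zero₂] at this
    have h2 : t u w = 0 := by
      have h3 : g (t u w) = g 0 := by rw [this, map_zero]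
      exact g.injective h3
    rcases (t_eq_zero_iff ht).mp h2 with h4 | h4
    · exact h4
    · exact absurd h4 hw
  refine ⟨LinearEquiv.ofInjectiveEndo A₀ hinj, fun u => ?_⟩
  rw [hA u]; rfl

/-- **the fibre criterion**: an automorphism permuting the fibres preserves the tensor
decomposition. -/
theorem isTens_of_perm (ht : IsTensorProduct t) (hU : 1 ≤ finrank F U) {g : V ≃ₗ[F] V}
    (hperm : ∀ w : W, w ≠ 0 → ∃ w' : W, w' ≠ 0 ∧ img g (fib t w) = fib t w') :
    IsTens t g := by
  by_cases hW : ∀ w : W, w = 0
  · refine ⟨1, 1, fun u w => ?_⟩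
    rw [hW w, map_zero, map_zero, map_zero, map_zero]
  push Not at hW
  obtain ⟨w₁, hw₁⟩ := hW
  obtain ⟨w₁', hw₁', hS₁⟩ := hperm w₁ hw₁
  obtain ⟨A, hA⟩ := exists_A_of_fibTo ht hw₁ hw₁' hS₁
  obtain ⟨u₀, hu₀⟩ := exists_ne_zero_of_one_le (F := F) (M := U) hU
  have hAu₀ : A u₀ ≠ 0 := by
    intro h0
    apply hu₀
    have : A u₀ = A 0 := by rw [h0, map_zero]
    exact A.injective this
  have claim : ∀ w : W, ∃ b : W, ∀ u, g (t u w) = t (A u) b := by
    intro w
    by_cases hdep : w ∈ Submodule.span F {w₁}
    · obtain ⟨c, rfl⟩ := Submodule.mem_span_singleton.mp hdep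
      exact ⟨c • w₁', fun u => by rw [map_smul, map_smul, hA, map_smul]⟩
    · have hw : w ≠ 0 := by
        rintro rfl
        exact hdep (Submodule.zero_mem _)
      obtain ⟨w', hw', hS⟩ := hperm w hw
      obtain ⟨Aw, hAw⟩ := exists_A_of_fibTo ht hw hw' hS
      have hsum : w + w₁ ≠ 0 := by
        intro h0
        apply hdep
        have : w = (-1 : F) • w₁ := by
          rw [neg_one_smul]; exact eq_neg_of_add_eq_zero_left h0
        rw [this]
        exact Submodule.smul_mem _ _ (Submodule.mem_span_singleton_self _)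
      obtain ⟨w'', hw'', hS''⟩ := hperm (w + w₁) hsum
      obtain ⟨A'', hA''⟩ := exists_A_of_fibTo ht hsum hw'' hS''
      have hind : w' ∉ Submodule.span F {w₁'} := by
        intro hmem
        obtain ⟨c, hc⟩ := Submodule.mem_span_singleton.mp hmem
        have hc0 : c ≠ 0 := by
          rintro rfl
          rw [zero_smul] at hc
          exact hw' hc.symm
        have hff : fib t w' = fib t w₁' := by rw [← hc, fib_smul hc0]
        have h1 : img g (fib t w) = img g (fib t w₁) := by rw [hS, hS₁, hff]
        have h2 : fib t w = fib t w₁ := by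
          have := congrArg (img g⁻¹) h1
          rwa [img_inv_img, img_inv_img] at this
        have h3 : t u₀ w ∈ fib t w₁ := by rw [← h2]; exact t_mem_fib u₀ w
        obtain ⟨c', hc'⟩ := span_of_t_mem_fib ht hu₀ h3
        exact hdep (by
          rw [hc']; exact Submodule.smul_mem _ _ (Submodule.mem_span_singleton_self _))
      have hK : KInd (K := F) w₁' w' := ⟨hw₁', hind⟩
      obtain ⟨l, hl1, hl2⟩ := exists_kfunc_two hK 1 0
      obtain ⟨l', hl'1, hl'2⟩ := exists_kfunc_two hK 0 1
      have heq : ∀ u, t (A'' u) w'' = t (Aw u) w' + t (A u) w₁' := by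
        intro u
        rw [← hA'', map_add, map_add, hAw, hA]
      have e1 : ∀ u, l w'' • A'' u = A u := by
        intro u
        have := congrArg (ev ht l) (heq u)
        rw [ev_t, map_add, ev_t, ev_t, hl1, hl2, zero_smul, zero_add, one_smul] at this
        exact this
      have e2 : ∀ u, l' w'' • A'' u = Aw u := by
        intro u
        have := congrArg (ev ht l') (heq u)
        rw [ev_t, map_add, ev_t, ev_t, hl'1, hl'2, zero_smul, add_zero, one_smul] at this
        exact this
      have hα : l w'' ≠ 0 := by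
        intro h0
        have := e1 u₀
        rw [h0, zero_smul] at this
        exact hAu₀ this.symm
      refine ⟨(l' w'' / l w'') • w', fun u => ?_⟩
      rw [hAw, ← e2 u, ← e1 u]
      simp only [map_smul, LinearMap.smul_apply, smul_smul]
      rw [div_mul_cancel₀ _ hα]
  choose B hB using claim
  have huniq : ∀ b b' : W, t (A u₀) b = t (A u₀) b' → b = b' :=
    fun b b' hbb => t_right_injective ht hAu₀ hbb
  let BL : W →ₗ[F] W :=
    { toFun := B
      map_add' := fun x y => huniq _ _ (by rw [← hB, map_add, map_add, hB, hB, map_add])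
      map_smul' := fun c x => huniq _ _ (by
        rw [← hB, map_smul, map_smul, hB, RingHom.id_apply, map_smul]) }
  have hinj : Function.Injective BL := by
    rw [injective_iff_map_eq_zero]
    intro w hw0
    have h1 : B w = 0 := hw0
    have h2 := hB w u₀
    rw [h1, map_zero] at h2
    have h3 : t u₀ w = 0 := by
      have : g (t u₀ w) = g 0 := by rw [h2, map_zero]
      exact g.injective this
    rcases (t_eq_zero_iff ht).mp h3 with h4 | h4
    · exact absurd h4 hu₀
    · exact h4
  exact ⟨A, LinearEquiv.ofInjectiveEndo BL hinj, fun u w => hB w u⟩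

end Cfsg.Agent.Helper3.TensS
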