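import Mathlib
import Cfsg.Agent.Helper3.TensOmA1

/-!
# S5704 piece (A1), `U ↔ W` flipped: a non-scalar element of the centre of the radical of a
`U`-fibre `u ⊗ W`

An element `g ∈ M` of the shape `t u' w' ↦ t u' w' + f₁ u' u • t u (N w')` with `N : W → W`
non-scalar gives `SG Q ≤ M` (a type (II) seed `t u (N w) ∈ AS Q M (t u w)`).
-/

set_option autoImplicit false

namespace Cfsg.Agent.Helper3.TensOm

open Module Cfsg.Agent.Helper8.QuadForm Cfsg.Agent.Helper8.WittQuad Cfsg.Agent.Helper8.OrthOrder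
  Cfsg.Agent.Helper8.Siegel Cfsg.Agent.Helper8.SiegelGroup Cfsg.Agent.Helper8.ExtO

variable {F : Type*} [Field F] {U W V : Type*} [AddCommGroup U] [Module F U]
  [AddCommGroup W] [Module F W] [AddCommGroup V] [Module F V]
  {t : U →ₗ[F] W →ₗ[F] V} {Q : QuadraticForm F V} {f₁ : LinearMap.BilinForm F U}
  {f₂ : LinearMap.BilinForm F W} {M : Subgroup ↥(Isom Q)}

theorem Hyp.centreW_alt (h : Hyp t Q f₁ f₂ M) {u : U} (hu : u ≠ 0) (N : W →ₗ[F] W)
    {g : ↥(Isom Q)}
    (hgN : ∀ u' w', (g : V ≃ₗ[F] V) (t u' w') = t u' w' + f₁ u' u • t u (N w')) (w₁ : W) :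
    f₂ w₁ (N w₁) = 0 := by
  obtain ⟨us, hus⟩ := exists_pair f₁ h.nd₁ hu
  have hsu : f₁ us u = -1 := by rw [alt_skew f₁ h.alt₁, hus]
  have h1 := g.2 (t us w₁)
  rw [hgN, hsu, QuadraticMap.map_add Q, h.pure, QuadraticMap.map_smul, h.pure,
    QuadraticMap.polar_smul_right, h.pol, hsu] at h1
  simp only [smul_eq_mul, mul_zero, zero_add, mul_neg, mul_one, neg_neg, neg_mul, one_mul]
    at h1
  linear_combination h1

theorem Hyp.centreW_adj (h : Hyp t Q f₁ f₂ M) {u : U} (hu : u ≠ 0) (N : W →ₗ[F] W)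
    {g : ↥(Isom Q)}
    (hgN : ∀ u' w', (g : V ≃ₗ[F] V) (t u' w') = t u' w' + f₁ u' u • t u (N w')) (x y : W) :
    f₂ (N x) y = f₂ x (N y) := by
  have h1 := h.centreW_alt hu N hgN (x + y)
  have h2 := h.centreW_alt hu N hgN x
  have h3 := h.centreW_alt hu N hgN y
  simp only [map_add, LinearMap.add_apply, h2, h3, zero_add, add_zero] at h1
  rw [alt_skew f₂ h.alt₂ (N x) y]
  linear_combination -h1

/-- **(A1), flipped**: a central element of the radical of the `U`-fibre `u ⊗ W` with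
non-scalar parameter gives all Siegel transformations. -/
theorem Hyp.SG_le_of_centreW (h : Hyp t Q f₁ f₂ M) {u : U} (hu : u ≠ 0) (N : W →ₗ[F] W)
    {g : ↥(Isom Q)} (hg : g ∈ M)
    (hgN : ∀ u' w', (g : V ≃ₗ[F] V) (t u' w') = t u' w' + f₁ u' u • t u (N w'))
    {w : W} (hNw : ∀ a : F, N w ≠ a • w) : SG Q ≤ M := by
  have hw : w ≠ 0 := by
    rintro rfl
    exact hNw 0 (by rw [map_zero, smul_zero])
  have halt := h.centreW_alt hu N hgN
  have hadj := h.centreW_adj hu N hgN
  have hz : Q (t u w) = 0 := h.pure _ _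
  have hzs : ∀ c : F, QuadraticMap.polar Q (t u w) (c • t u (N w)) = 0 := by
    intro c
    rw [QuadraticMap.polar_smul_right, h.pol, h.alt₁, zero_mul, smul_zero]
  have hseed : t u (N w) ∈ AS Q M (t u w) := by
    refine ⟨by rw [h.pol, h.alt₁, zero_mul], fun c => ?_⟩
    obtain ⟨hh, hhM, hhe⟩ := h.movB w c
    have key : ∀ x : V, (hh : V ≃ₗ[F] V) ((g : V ≃ₗ[F] V) x)
        = siegE Q (t u w) (c • t u (N w)) ((g : V ≃ₗ[F] V) ((hh : V ≃ₗ[F] V) x)) := by
      intro x
      have hx : x ∈ Submodule.span F {v | ∃ u w, v = t u w} := by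
        rw [h.span]; trivial
      induction hx using Submodule.span_induction with
      | mem x hx =>
        obtain ⟨u', w', rfl⟩ := hx
        rw [hgN, map_add, map_smul, hhe, hhe, hgN, siegE_apply Q hz (hzs c), sieg_apply]
        simp only [QuadraticMap.polar_smul_right, QuadraticMap.polar_add_left,
          QuadraticMap.polar_smul_left, h.pol,
          QuadraticMap.map_smul, h.pure, h.alt₂, h.alt₁, halt, hadj w' w, map_add, map_smul,
          smul_eq_mul, mul_zero, zero_mul, zero_smul,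
          add_zero, sub_zero, smul_add, smul_smul]
        module
      | zero => simp only [map_zero]
      | add x y _ _ ihx ihy => simp only [map_add, ihx, ihy]
      | smul a x _ ihx => simp only [map_smul, ihx]
    have e : siegG Q (t u w) (c • t u (N w)) = hh * g * hh⁻¹ * g⁻¹ := by
      rw [eq_mul_inv_iff_mul_eq, eq_mul_inv_iff_mul_eq]
      apply Subtype.ext
      apply LinearEquiv.ext
      intro x
      rw [Subgroup.coe_mul, Subgroup.coe_mul, Subgroup.coe_mul, siegG_val,
        LinearEquiv.mul_apply, LinearEquiv.mul_apply, LinearEquiv.mul_apply]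
      exact (key x).symm
    rw [e]
    exact M.mul_mem (M.mul_mem (M.mul_mem hhM hg) (M.inv_mem hhM)) (M.inv_mem hg)
  exact h.SG_le_of_seedII hu hw hNw hseed

end Cfsg.Agent.Helper3.TensOm
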