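import Cfsg.Agent.Helper3.TensSMain
import Cfsg.Agent.Helper3.TensFibCrit

/-!
# S5704: the assembly of `mainS` from the leaves

`mainS_of_leaves`: from Leaf F ((Q-S): an element of `XM M` in the unipotent radical of the
stabiliser of a fibre preserves the tensor decomposition) and Leaf D (`rootHypS_of_QS`), via
MAIN-S (`fibres_permutedS`) and the fibre criterion (`isTens_of_perm`):
`SG Q ≤ M ∨ ∀ g ∈ M, IsTens t g`.  The two leaves are hypotheses here, in the exact shape of
`notes/helper8_S5704_stubs.md`.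
-/

set_option autoImplicit false
set_option linter.unusedSectionVars false

namespace Cfsg.Agent.Helper3.TensS

open Module Cfsg.Agent.Helper7.ExtF Cfsg.Agent.Helper8.OrthOrder Cfsg.Agent.Helper8.ExtO
  Cfsg.Agent.Helper8.Siegel Cfsg.Agent.Helper8.SiegelGroup Cfsg.Agent.Helper3.TensOm
  Cfsg.Agent.Helper8.Tens

variable {F : Type*} [Field F] {U W V : Type*} [AddCommGroup U] [Module F U]
  [AddCommGroup W] [Module F W] [AddCommGroup V] [Module F V]
  {t : U →ₗ[F] W →ₗ[F] V} {Q : QuadraticForm F V} {f₁ : LinearMap.BilinForm F U}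
  {f₂ : LinearMap.BilinForm F W} {M : Subgroup ↥(Isom Q)}
  [FiniteDimensional F U] [FiniteDimensional F W] [FiniteDimensional F V]

/-- the statement (Q-S) (Leaf F; the hypothesis `hQS` of Leaf D). -/
def QS (ht : IsTensorProduct t) (f₂ : LinearMap.BilinForm F W) (M : Subgroup ↥(Isom Q)) : Prop :=
  ∀ q ∈ XM M, ∀ w₀ : W, w₀ ≠ 0 → (∀ x ∈ fib t w₀, q x = x) →
    (∀ x ∈ Sperp ht f₂ w₀, q x - x ∈ fib t w₀) → IsTens t q

/-- **assembly of `mainS`** from Leaf F and Leaf D. -/
theorem mainS_of_leaves (ht : IsTensorProduct t) (h : Hyp t Q f₁ f₂ M) (ha : 2 ≤ finrank F U)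
    (hab : finrank F U + 2 ≤ finrank F W)
    (leafF : ¬ SG Q ≤ M → QS ht f₂ M)
    (leafD : ¬ SG Q ≤ M → QS ht f₂ M → RootHypS ht f₂ h.alt₂ (XM M)) :
    SG Q ≤ M ∨ ∀ g ∈ M, IsTens t ((g : ↥(Isom Q)) : V ≃ₗ[F] V) := by
  by_cases hno : SG Q ≤ M
  · exact Or.inl hno
  · refine Or.inr (fun g hg => ?_)
    have hyp := leafD hno (leafF hno)
    have hperm := fibres_permutedS ht h (by omega) hab hyp
    exact isTens_of_perm ht (by omega) (hperm _ (coe_mem_XM hg))

end Cfsg.Agent.Helper3.TensS
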