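import Cfsg.Agent.Helper8.TensSA

/-!
# S5704, MAIN-S: the max-intersection argument for the symplectic root elements

On top of helper8's framework `TensSA` (`yB`, `XM`, `IsRootS`, `RootHypS`) and of his generic
`max_le`: if every conjugate (in `XM M`) of a symplectic root element `1 ⊗ t_w(c)` which
stabilises a fibre is again such a root element, and `dim U + 2 ≤ dim W`, then `XM M` permutes
the fibres `U ⊗ w`.
-/

set_option autoImplicit false
set_option linter.unusedSectionVars false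

namespace Cfsg.Agent.Helper3.TensS

open Module Cfsg.Agent.Helper7.ExtF Cfsg.Agent.Helper8.OrthOrder Cfsg.Agent.Helper8.ExtO
  Cfsg.Agent.Helper8.Siegel Cfsg.Agent.Helper8.SiegelGroup Cfsg.Agent.Helper3.TensOm
  Cfsg.Agent.Helper8.Tens

variable {F : Type*} [Field F] {U W V : Type*} [AddCommGroup U] [Module F U]
  [AddCommGroup W] [Module F W] [AddCommGroup V] [Module F V]
  {t : U →ₗ[F] W →ₗ[F] V} {Q : QuadraticForm F V} {f₁ : LinearMap.BilinForm F U}
  {f₂ : LinearMap.BilinForm F W} {M : Subgroup ↥(Isom Q)}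

theorem lw_ne_zero (h : Hyp t Q f₁ f₂ M) {w : W} (hw : w ≠ 0) {c : F} (hc : c ≠ 0) :
    lw f₂ w c ≠ 0 := by
  obtain ⟨y, hy⟩ := exists_pair f₂ h.nd₂ hw
  intro h0
  have h1 : lw f₂ w c y = 0 := by rw [h0]; rfl
  rw [lw_apply, alt_skew f₂ h.alt₂, hy] at h1
  apply hc
  linear_combination -h1

theorem disp_yB (ht : IsTensorProduct t) (h : Hyp t Q f₁ f₂ M) {w : W} (hw : w ≠ 0) {c : F}
    (hc : c ≠ 0) : disp (yB ht f₂ h.alt₂ w c) = fib t w :=
  disp_xB ht (lw_self h.alt₂ w c) (lw_ne_zero h hw hc)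

section

variable [FiniteDimensional F U] [FiniteDimensional F W] [FiniteDimensional F V]

/-- a symplectic root element cannot stabilise a non-fibre of the orbit. -/
theorem no_stabS (ht : IsTensorProduct t) (h : Hyp t Q f₁ f₂ M) (hU : 1 ≤ finrank F U)
    (hyp : RootHypS ht f₂ h.alt₂ (XM M)) {g : V ≃ₗ[F] V} (hg : g ∈ XM M) {w₀ : W}
    (hw₀ : w₀ ≠ 0) (hR : ∀ w' : W, w' ≠ 0 → img g (fib t w₀) ≠ fib t w')
    {w : W} {c : F} (hw : w ≠ 0) (hc : c ≠ 0)
    (hst : img (yB ht f₂ h.alt₂ w c) (img g (fib t w₀)) = img g (fib t w₀)) : False := by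
  set x := yB ht f₂ h.alt₂ w c with hx
  have hxr : IsRootS ht f₂ h.alt₂ x := ⟨w, c, hw, hc, rfl⟩
  have hx'st : img (g⁻¹ * x * g⁻¹⁻¹) (fib t w₀) = fib t w₀ := by
    rw [inv_inv, img_mul, img_mul, hst, img_inv_img]
  obtain ⟨w'', c'', hw'', hc'', hx'⟩ := hyp g⁻¹ ((XM M).inv_mem hg) x hxr w₀ hw₀ hx'st
  rw [hx'] at hx'st
  have hl''w₀ : lw f₂ w'' c'' w₀ = 0 :=
    dual_eq_zero_of_stab ht hU (lw_self h.alt₂ w'' c'') hw'' hw₀ hx'st
  have h0 : f₂ w₀ w'' = 0 := by
    rw [lw_apply] at hl''w₀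
    rcases mul_eq_zero.mp hl''w₀ with h1 | h1
    · exact absurd h1 hc''
    · exact h1
  set x₀ := yB ht f₂ h.alt₂ w₀ 1 with hx₀
  have hcomm : x₀ * yB ht f₂ h.alt₂ w'' c'' = yB ht f₂ h.alt₂ w'' c'' * x₀ :=
    xB_commute ht (lw_self h.alt₂ w₀ 1) (lw_self h.alt₂ w'' c'')
      (by rw [lw_apply, alt_perp_symm f₂ h.alt₂ h0, mul_zero]) hl''w₀
  set y := g * x₀ * g⁻¹ with hy
  have hxg : x = g * yB ht f₂ h.alt₂ w'' c'' * g⁻¹ := by
    rw [← hx']; group
  have hyx : y * x = x * y := by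
    rw [hxg, hy]; exact conj_commute g _ _ hcomm
  have hyst : img y (fib t w) = fib t w := by
    have := img_disp_of_commute hyx
    rwa [hx, disp_yB ht h hw hc] at this
  have hx₀r : IsRootS ht f₂ h.alt₂ x₀ := ⟨w₀, 1, hw₀, one_ne_zero, rfl⟩
  obtain ⟨w₃, c₃, hw₃, hc₃, hy₃⟩ := hyp g hg x₀ hx₀r w hw hyst
  have hd : disp y = img g (fib t w₀) := by
    rw [hy, disp_conj, hx₀, disp_yB ht h hw₀ one_ne_zero]
  have hy₃' : y = yB ht f₂ h.alt₂ w₃ c₃ := hy₃
  rw [hy₃', disp_yB ht h hw₃ hc₃] at hd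
  exact hR w₃ hw₃ hd.symm

/-- **MAIN-S**: under `RootHypS`, the group permutes the fibres. -/
theorem fibres_permutedS (ht : IsTensorProduct t) (h : Hyp t Q f₁ f₂ M) (hU : 1 ≤ finrank F U)
    (hab : finrank F U + 2 ≤ finrank F W) (hyp : RootHypS ht f₂ h.alt₂ (XM M)) :
    ∀ g ∈ XM M, ∀ w : W, w ≠ 0 → ∃ w' : W, w' ≠ 0 ∧ img g (fib t w) = fib t w' := by
  classical
  by_contra hcon
  push Not at hcon
  obtain ⟨g₁, hg₁, w₁, hw₁, hnf₁⟩ := hcon
  set X := XM M with hX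
  set R₁ := img g₁ (fib t w₁) with hR₁
  have hR₁O : R₁ ∈ Orb t X := ⟨g₁, hg₁, w₁, hw₁, rfl⟩
  have hR₁n : NonFib t R₁ := fun w' hw' => hnf₁ w' hw'
  have hbound : ∀ n, PD t X n → n ≤ finrank F U := by
    rintro n ⟨w, hw, R, hR, -, rfl⟩
    rw [← finrank_fib ht hw]
    exact Submodule.finrank_mono inf_le_left
  have hP0 : PD t X (finrank F ↥(fib t w₁ ⊓ R₁)) := ⟨w₁, hw₁, R₁, hR₁O, hR₁n, rfl⟩
  set d := Nat.findGreatest (PD t X) (finrank F U) with hd
  have hPd : PD t X d := Nat.findGreatest_spec (hbound _ hP0) hP0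
  have hmax : ∀ n, PD t X n → n ≤ d := fun n hn => Nat.le_findGreatest (hbound n hn) hn
  obtain ⟨w, hw, R, hR, hRn, hdR⟩ := hPd
  -- a vector of `R` outside the fibre
  have hex : ∃ r₀ ∈ R, r₀ ∉ fib t w := by
    by_contra hcon
    push Not at hcon
    have hle : R ≤ fib t w := hcon
    have := eq_of_le_of_finrank hle (by rw [finrank_fib ht hw, finrank_Orb ht hR])
    exact hRn w hw this
  obtain ⟨r₀, hr₀, hr₀w⟩ := hex
  set L : W →ₗ[F] U := (evAt ht r₀).comp (f₂.flip : W →ₗ[F] Module.Dual F W) with hL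
  have hLapp : ∀ w', L w' = ev ht (f₂.flip w') r₀ := fun w' => rfl
  have key : ∀ w', f₂ w w' = 0 → L w' = 0 → w' = 0 := by
    intro w' hww' hLw'
    by_contra hw'0
    set x := yB ht f₂ h.alt₂ w' 1 with hx
    have hxX : x ∈ X := yB_mem ht h w' 1
    have hR'O : img x R ∈ Orb t X := img_mem_Orb hxX hR
    have hne : img x R ≠ R := by
      intro hst
      obtain ⟨g, hg, w₀, hw₀, rfl⟩ := hR
      exact no_stabS ht h hU hyp hg hw₀ hRn hw'0 one_ne_zero hst
    have hle := max_le ht hmax hR hR'O hne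
    have hlw : lw f₂ w' 1 w = 0 := by rw [lw_apply, hww', mul_zero]
    have hfix : ∀ v ∈ fib t w, x v = v := by
      intro v hv
      rw [hx, yB_apply, ev_eq_zero_of_mem_fib ht hlw hv, map_zero, LinearMap.zero_apply,
        add_zero]
    have hDle : fib t w ⊓ R ≤ R ⊓ img x R := by
      rintro v ⟨hv1, hv2⟩
      refine ⟨hv2, ?_⟩
      rw [← hfix v hv1]; exact apply_mem_img hv2
    have hDeq : fib t w ⊓ R = R ⊓ img x R :=
      eq_of_le_of_finrank hDle (by rw [hdR]; exact hle)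
    have hxr₀ : x r₀ = r₀ := by
      have e : lw f₂ w' 1 = f₂.flip w' := by
        unfold lw
        rw [one_smul]
      rw [hx, yB_apply, e, ← hLapp, hLw', map_zero, LinearMap.zero_apply, add_zero]
    have hmem : r₀ ∈ R ⊓ img x R := ⟨hr₀, by rw [← hxr₀]; exact apply_mem_img hr₀⟩
    rw [← hDeq] at hmem
    exact hr₀w hmem.1
  have hinj : Function.Injective (L.domRestrict (LinearMap.ker (f₂ w))) := by
    rw [injective_iff_map_eq_zero]
    rintro ⟨w', hw'⟩ hker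
    rw [LinearMap.domRestrict_apply] at hker
    exact Subtype.ext (key w' (LinearMap.mem_ker.mp hw') hker)
  have h1 := LinearMap.finrank_le_finrank_of_injective hinj
  have h2 := LinearMap.finrank_range_add_finrank_ker (f₂ w)
  have h3 : finrank F ↥(LinearMap.range (f₂ w)) ≤ 1 := by
    have := Submodule.finrank_le (LinearMap.range (f₂ w))
    rwa [Module.finrank_self] at this
  omega

end

end Cfsg.Agent.Helper3.TensS
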