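import Cfsg.Agent.Helper3.TensOmA1W

/-!
# S5704, Leaf F piece (F-d): the `θ`-commutator

`θ₁ = 1 + (u ∨ u') ⊗ (w ∧ z)` and `θ₂ = 1 + (u ∨ u'') ⊗ (w' ∧ z')` (with `u ⊥ u', u''`,
`f₁ u' u'' = 1`, `(w, w')`, `(z, z')` orthogonal hyperbolic pairs) have commutator
`1 - E_u ⊗ π_{W₀}`, `W₀ = ⟨w, w', z, z'⟩`, a central element of the radical of `u ⊗ W` with
non-scalar parameter as soon as `W₀ ≠ W`; so `θ₁, θ₂ ∈ M` gives `SG Q ≤ M`.
-/

set_option autoImplicit false
set_option linter.unusedSimpArgs false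

namespace Cfsg.Agent.Helper3.TensOm

open Module Cfsg.Agent.Helper8.QuadForm Cfsg.Agent.Helper8.WittQuad Cfsg.Agent.Helper8.OrthOrder
  Cfsg.Agent.Helper8.Siegel Cfsg.Agent.Helper8.SiegelGroup Cfsg.Agent.Helper8.ExtO

variable {F : Type*} [Field F] {U W V : Type*} [AddCommGroup U] [Module F U]
  [AddCommGroup W] [Module F W] [AddCommGroup V] [Module F V]
  {t : U →ₗ[F] W →ₗ[F] V} {Q : QuadraticForm F V} {f₁ : LinearMap.BilinForm F U}
  {f₂ : LinearMap.BilinForm F W} {M : Subgroup ↥(Isom Q)}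

/-- `(a ∨ b) x = f x a • b + f x b • a` (an element of the Lie algebra of the form). -/
def symE {X : Type*} [AddCommGroup X] [Module F X] (f : LinearMap.BilinForm F X) (a b : X) :
    Module.End F X :=
  (f.flip a).smulRight b + (f.flip b).smulRight a

/-- `(w ∧ z) y = f y z • w - f y w • z`. -/
def altE {X : Type*} [AddCommGroup X] [Module F X] (f : LinearMap.BilinForm F X) (w z : X) :
    Module.End F X :=
  (f.flip z).smulRight w - (f.flip w).smulRight z

theorem symE_apply {X : Type*} [AddCommGroup X] [Module F X] (f : LinearMap.BilinForm F X)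
    (a b x : X) : symE f a b x = f x a • b + f x b • a := rfl

theorem altE_apply {X : Type*} [AddCommGroup X] [Module F X] (f : LinearMap.BilinForm F X)
    (w z y : X) : altE f w z y = f y z • w - f y w • z := rfl

/-- **(F-d)**: the commutator of two `θ`-elements gives all Siegel transformations. -/
theorem Hyp.SG_le_of_theta (h : Hyp t Q f₁ f₂ M) {u u' u'' : U} {w z w' z' : W}
    (hu : u ≠ 0) (h1 : f₁ u u' = 0) (h2 : f₁ u u'' = 0) (h3 : f₁ u' u'' = 1)
    (hww' : f₂ w w' = 1) (hzz' : f₂ z z' = 1) (hwz : f₂ w z = 0) (hwz' : f₂ w z' = 0)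
    (hw'z : f₂ w' z = 0) (hw'z' : f₂ w' z' = 0)
    {g₁ g₂ : ↥(Isom Q)} (hg₁ : g₁ ∈ M) (hg₂ : g₂ ∈ M)
    (e₁ : ∀ x y, (g₁ : V ≃ₗ[F] V) (t x y) = t x y + t (symE f₁ u u' x) (altE f₂ w z y))
    (e₂ : ∀ x y, (g₂ : V ≃ₗ[F] V) (t x y) = t x y + t (symE f₁ u u'' x) (altE f₂ w' z' y))
    (hy₀ : ∃ y₀ : W, y₀ ≠ 0 ∧ f₂ y₀ w = 0 ∧ f₂ y₀ w' = 0 ∧ f₂ y₀ z = 0 ∧ f₂ y₀ z' = 0) :
    SG Q ≤ M := by
  have sk₁ := alt_skew f₁ h.alt₁
  have sk₂ := alt_skew f₂ h.alt₂
  have h1' : f₁ u' u = 0 := alt_perp_symm f₁ h.alt₁ h1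
  have h2' : f₁ u'' u = 0 := alt_perp_symm f₁ h.alt₁ h2
  have h3' : f₁ u'' u' = -1 := by rw [sk₁, h3]
  -- products of the `U`-parts
  have EE11 : ∀ x, symE f₁ u u' (symE f₁ u u' x) = 0 := by
    intro x
    simp only [symE_apply, map_add, map_smul, LinearMap.add_apply, LinearMap.smul_apply,
      h.alt₁, h1, h1', smul_eq_mul, mul_zero, zero_smul, add_zero, smul_zero]
  have EE22 : ∀ x, symE f₁ u u'' (symE f₁ u u'' x) = 0 := by
    intro x
    simp only [symE_apply, map_add, map_smul, LinearMap.add_apply, LinearMap.smul_apply,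
      h.alt₁, h2, h2', smul_eq_mul, mul_zero, zero_smul, add_zero, smul_zero]
  have EE12 : ∀ x, symE f₁ u u' (symE f₁ u u'' x) = -(f₁ x u • u) := by
    intro x
    simp only [symE_apply, map_add, map_smul, LinearMap.add_apply, LinearMap.smul_apply,
      h.alt₁, h1, h2', h3', smul_eq_mul, mul_zero, zero_smul, add_zero, zero_add]
    module
  have EE21 : ∀ x, symE f₁ u u'' (symE f₁ u u' x) = f₁ x u • u := by
    intro x
    simp only [symE_apply, map_add, map_smul, LinearMap.add_apply, LinearMap.smul_apply,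
      h.alt₁, h2, h1', h3, smul_eq_mul, mul_zero, zero_smul, add_zero, zero_add]
    module
  have Eu1 : symE f₁ u u' u = 0 := by
    simp only [symE_apply, h.alt₁, h1, zero_smul, add_zero]
  have Eu2 : symE f₁ u u'' u = 0 := by
    simp only [symE_apply, h.alt₁, h2, zero_smul, add_zero]
  -- inverses on pure tensors
  have i₁ : ∀ x y, ((g₁⁻¹ : ↥(Isom Q)) : V ≃ₗ[F] V) (t x y)
      = t x y - t (symE f₁ u u' x) (altE f₂ w z y) := by
    intro x y
    have : (g₁ : V ≃ₗ[F] V) (t x y - t (symE f₁ u u' x) (altE f₂ w z y)) = t x y := by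
      rw [map_sub, e₁, e₁, EE11, map_zero, LinearMap.zero_apply, add_zero, add_sub_cancel_right]
    have h' := congrArg ((g₁⁻¹ : ↥(Isom Q)) : V ≃ₗ[F] V) this
    rw [← LinearEquiv.mul_apply, ← Subgroup.coe_mul, inv_mul_cancel] at h'
    exact h'.symm
  have i₂ : ∀ x y, ((g₂⁻¹ : ↥(Isom Q)) : V ≃ₗ[F] V) (t x y)
      = t x y - t (symE f₁ u u'' x) (altE f₂ w' z' y) := by
    intro x y
    have : (g₂ : V ≃ₗ[F] V) (t x y - t (symE f₁ u u'' x) (altE f₂ w' z' y)) = t x y := by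
      rw [map_sub, e₂, e₂, EE22, map_zero, LinearMap.zero_apply, add_zero, add_sub_cancel_right]
    have h' := congrArg ((g₂⁻¹ : ↥(Isom Q)) : V ≃ₗ[F] V) this
    rw [← LinearEquiv.mul_apply, ← Subgroup.coe_mul, inv_mul_cancel] at h'
    exact h'.symm
  -- the commutator
  set N : W →ₗ[F] W := -(altE f₂ w z * altE f₂ w' z' + altE f₂ w' z' * altE f₂ w z) with hN
  have hNapp : ∀ y, N y = -(altE f₂ w z (altE f₂ w' z' y) + altE f₂ w' z' (altE f₂ w z y)) :=
    fun y => rfl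
  set g := g₁ * g₂ * g₁⁻¹ * g₂⁻¹ with hg
  have hgM : g ∈ M := M.mul_mem (M.mul_mem (M.mul_mem hg₁ hg₂) (M.inv_mem hg₁)) (M.inv_mem hg₂)
  have hgN : ∀ x y, (g : V ≃ₗ[F] V) (t x y) = t x y + f₁ x u • t u (N y) := by
    intro x y
    rw [hg, Subgroup.coe_mul, Subgroup.coe_mul, Subgroup.coe_mul, LinearEquiv.mul_apply,
      LinearEquiv.mul_apply, LinearEquiv.mul_apply]
    simp only [i₂, i₁, map_sub, map_add, e₂, e₁, EE11, EE22, EE12, EE21, map_zero,
      LinearMap.zero_apply, map_neg, map_smul, LinearMap.neg_apply, LinearMap.smul_apply, Eu1, Eu2,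
      hNapp, smul_neg, smul_add, add_zero, sub_zero, neg_zero, smul_zero]
    abel
  -- the parameter is not scalar
  obtain ⟨y₀, hy₀0, a1, a2, a3, a4⟩ := hy₀
  have hNy : N (w + y₀) = -w := by
    rw [hNapp]
    simp only [altE_apply, map_add, map_sub, map_smul, map_neg, map_zero, LinearMap.add_apply,
      LinearMap.sub_apply, LinearMap.smul_apply, LinearMap.neg_apply, LinearMap.zero_apply,
      a1, a2, a3, a4, hww', hzz', hwz, hwz', hw'z, hw'z', h.alt₂,
      sk₂ z' z, sk₂ z' w, sk₂ z w, sk₂ w' w, sk₂ z w', sk₂ z' w', smul_eq_mul, mul_zero, zero_smul,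
      add_zero, sub_zero, zero_add, neg_zero, zero_sub, mul_one, one_smul, neg_neg, neg_smul,
      smul_zero, mul_neg, sub_self]
  refine h.SG_le_of_centreW hu N hgM hgN (w := w + y₀) (fun a ha => ?_)
  rw [hNy] at ha
  have hb := congrArg (fun v => f₂ v w') ha
  simp only [map_neg, LinearMap.neg_apply, map_add, map_smul, LinearMap.add_apply,
    LinearMap.smul_apply, hww', a2, smul_eq_mul, mul_one, mul_zero, add_zero] at hb
  rw [← hb, neg_one_smul, neg_add] at ha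
  have h0 : (0 : W) = -y₀ := add_left_cancel (a := -w) (by rw [add_zero]; exact ha)
  exact hy₀0 (neg_eq_zero.mp h0.symm)

end Cfsg.Agent.Helper3.TensOm
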