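import Cfsg.Agent.Helper3.TensSTheta

/-!
# S5704, Leaf F piece: from ONE `θ`-element to all Siegel transformations

`θ = 1 + (u ∨ u') ⊗ (w₀ ∧ z) ∈ M` with `u ⊥ u'`, `u' ∉ F u`, `w₀ ⊥ z`, `z ∉ F w₀` gives
`SG Q ≤ M`: conjugating by suitable products of the transvections of `H₁` yields the second
`θ`-element needed in `Hyp.SG_le_of_theta`.
-/

set_option autoImplicit false
set_option linter.unusedSimpArgs false

namespace Cfsg.Agent.Helper3.TensOm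

open Module Cfsg.Agent.Helper8.QuadForm Cfsg.Agent.Helper8.WittQuad Cfsg.Agent.Helper8.OrthOrder
  Cfsg.Agent.Helper8.Siegel Cfsg.Agent.Helper8.SiegelGroup Cfsg.Agent.Helper8.ExtO

variable {F : Type*} [Field F] {U W V : Type*} [AddCommGroup U] [Module F U]
  [AddCommGroup W] [Module F W] [AddCommGroup V] [Module F V]
  {t : U →ₗ[F] W →ₗ[F] V} {Q : QuadraticForm F V} {f₁ : LinearMap.BilinForm F U}
  {f₂ : LinearMap.BilinForm F W} {M : Subgroup ↥(Isom Q)}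

theorem TA_surj {X : Type*} [AddCommGroup X] [Module F X] (f : LinearMap.BilinForm F X)
    (halt : ∀ x, f x x = 0) (v : X) (c : F) : Function.Surjective (TA f v c) := by
  intro x
  refine ⟨TA f v (-c) x, ?_⟩
  rw [TA_apply, TA_apply]
  simp only [map_add, map_smul, LinearMap.add_apply, LinearMap.smul_apply, halt, smul_eq_mul,
    mul_zero, add_zero]
  module

/-- conjugating a `θ`-element by an element of `H₁`. -/
theorem Mov.conj_theta {τ : U →ₗ[F] U} {σ : W →ₗ[F] W} (hm : Mov t Q f₁ f₂ M τ σ)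
    (hτ : Function.Surjective τ) (hσ : Function.Surjective σ) {g : ↥(Isom Q)} (hg : g ∈ M)
    {a b : U} {c d : W}
    (e : ∀ x y, (g : V ≃ₗ[F] V) (t x y) = t x y + t (symE f₁ a b x) (altE f₂ c d y)) :
    ∃ g' ∈ M, ∀ x y, ((g' : ↥(Isom Q)) : V ≃ₗ[F] V) (t x y)
      = t x y + t (symE f₁ (τ a) (τ b) x) (altE f₂ (σ c) (σ d) y) := by
  obtain ⟨i₁, i₂, m, hmM, em⟩ := hm
  refine ⟨m * g * m⁻¹, M.mul_mem (M.mul_mem hmM hg) (M.inv_mem hmM), fun x y => ?_⟩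
  obtain ⟨x', rfl⟩ := hτ x
  obtain ⟨y', rfl⟩ := hσ y
  have h1 : ((m⁻¹ : ↥(Isom Q)) : V ≃ₗ[F] V) (t (τ x') (σ y')) = t x' y' := by
    rw [← em, ← LinearEquiv.mul_apply, ← Subgroup.coe_mul, inv_mul_cancel]
    rfl
  rw [Subgroup.coe_mul, Subgroup.coe_mul, LinearEquiv.mul_apply, LinearEquiv.mul_apply, h1, e,
    map_add, em, em]
  congr 2
  · rw [symE_apply, symE_apply, map_add, map_smul, map_smul, i₁, i₁]
  · rw [altE_apply, altE_apply, map_sub, map_smul, map_smul, i₂, i₂]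

/-- **from one `θ`-element to all Siegel transformations.** -/
theorem Hyp.SG_le_of_one_theta (h : Hyp t Q f₁ f₂ M) {u u' : U} {w₀ z : W}
    (hu : u ≠ 0) (h1 : f₁ u u' = 0) (hu' : ∀ a : F, u' ≠ a • u)
    (hz : f₂ w₀ z = 0) (hz' : ∀ a : F, z ≠ a • w₀) (hw₀ : w₀ ≠ 0)
    {g : ↥(Isom Q)} (hg : g ∈ M)
    (e : ∀ x y, (g : V ≃ₗ[F] V) (t x y) = t x y + t (symE f₁ u u' x) (altE f₂ w₀ z y))
    (hfive : ∀ a b c d : W, ∃ y₀ : W, y₀ ≠ 0 ∧ f₂ y₀ a = 0 ∧ f₂ y₀ b = 0 ∧ f₂ y₀ c = 0 ∧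
      f₂ y₀ d = 0) : SG Q ≤ M := by
  have sk₁ := alt_skew f₁ h.alt₁
  have sk₂ := alt_skew f₂ h.alt₂
  -- `u''`
  obtain ⟨v, hv1, hv2⟩ := exists_perp_not_perp f₁ h.nd₁ hu hu'
  obtain ⟨u'', hu''⟩ : ∃ x : U, x = (f₁ u' v)⁻¹ • v := ⟨_, rfl⟩
  have h2 : f₁ u u'' = 0 := by rw [hu'', map_smul, hv1, smul_zero]
  have h3 : f₁ u' u'' = 1 := by rw [hu'', map_smul, smul_eq_mul, inv_mul_cancel₀ hv2]
  -- `w'` : `⊥ z`, pairing `1` with `w₀`
  have hz0 : z ≠ 0 := by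
    rintro rfl
    exact hz' 0 (by rw [zero_smul])
  have hw₀z : ∀ a : F, w₀ ≠ a • z := by
    intro a ha
    have ha0 : a ≠ 0 := by
      rintro rfl
      rw [zero_smul] at ha
      exact hw₀ ha
    apply hz' a⁻¹
    rw [ha, smul_smul, inv_mul_cancel₀ ha0, one_smul]
  obtain ⟨p, hp1, hp2⟩ := exists_perp_not_perp f₂ h.nd₂ hz0 hw₀z
  obtain ⟨w', hw'⟩ : ∃ x : W, x = (f₂ w₀ p)⁻¹ • p := ⟨_, rfl⟩
  have hww' : f₂ w₀ w' = 1 := by rw [hw', map_smul, smul_eq_mul, inv_mul_cancel₀ hp2]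
  have hzw' : f₂ z w' = 0 := by rw [hw', map_smul, hp1, smul_zero]
  -- `z'` : `⊥ w₀, w'`, pairing `1` with `z`
  obtain ⟨r, hr1, hr2⟩ := exists_perp_not_perp f₂ h.nd₂ hw₀ hz'
  obtain ⟨z'', hz''⟩ : ∃ x : W, x = (f₂ z r)⁻¹ • r := ⟨_, rfl⟩
  have hzz'' : f₂ z z'' = 1 := by rw [hz'', map_smul, smul_eq_mul, inv_mul_cancel₀ hr2]
  have hw₀z'' : f₂ w₀ z'' = 0 := by rw [hz'', map_smul, hr1, smul_zero]
  obtain ⟨z', hzd⟩ : ∃ x : W, x = z'' + f₂ w' z'' • w₀ := ⟨_, rfl⟩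
  have hzz' : f₂ z z' = 1 := by
    rw [hzd, map_add, map_smul, hzz'', sk₂ z w₀, hz, neg_zero, smul_zero, add_zero]
  have hw₀z' : f₂ w₀ z' = 0 := by
    rw [hzd, map_add, map_smul, hw₀z'', h.alt₂, smul_zero, add_zero]
  have hw'z' : f₂ w' z' = 0 := by
    rw [hzd, map_add, map_smul, sk₂ w' w₀, hww', smul_eq_mul, mul_neg, mul_one, add_neg_cancel]
  -- the conjugating element
  have hmA := h.movA' (u'' - u') 1
  have hmB1 := h.movB' (w' - w₀) 1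
  have hmB2 := h.movB' (z' - z) 1
  have hm := (hmA.comp hmB2).comp hmB1
  have hτu : TA f₁ (u'' - u') 1 u = u := by
    rw [TA_apply, map_sub, h1, h2, sub_self, mul_zero, zero_smul, add_zero]
  have hτu' : TA f₁ (u'' - u') 1 u' = u'' := by
    rw [TA_apply, map_sub, h3, h.alt₁, sub_zero, mul_one, one_smul]
    abel
  have hσ2w₀ : TA f₂ (z' - z) 1 w₀ = w₀ := by
    rw [TA_apply, map_sub, hw₀z', hz, sub_self, mul_zero, zero_smul, add_zero]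
  have hσ2z : TA f₂ (z' - z) 1 z = z' := by
    rw [TA_apply, map_sub, hzz', h.alt₂, sub_zero, mul_one, one_smul]
    abel
  have hσ1w₀ : TA f₂ (w' - w₀) 1 w₀ = w' := by
    rw [TA_apply, map_sub, hww', h.alt₂, sub_zero, mul_one, one_smul]
    abel
  have hσ1z' : TA f₂ (w' - w₀) 1 z' = z' := by
    rw [TA_apply, map_sub, sk₂ z' w', hw'z', sk₂ z' w₀, hw₀z', sub_self, mul_zero, zero_smul,
      add_zero]
  obtain ⟨g₂, hg₂, e₂⟩ := hm.conj_theta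
    (((Function.surjective_id).comp (TA_surj f₁ h.alt₁ _ _)).comp Function.surjective_id)
    (((TA_surj f₂ h.alt₂ _ _)).comp (((Function.surjective_id).comp (TA_surj f₂ h.alt₂ _ _))))
    hg e
  simp only [LinearMap.comp_apply, LinearMap.id_coe, id_eq, hτu, hτu', hσ2w₀, hσ2z, hσ1w₀,
    hσ1z'] at e₂
  obtain hy₀ := hfive w₀ w' z z'
  exact h.SG_le_of_theta hu h1 h2 h3 hww' hzz' hz hw₀z' (by rw [sk₂, hzw', neg_zero]) hw'z'
    hg hg₂ e e₂ hy₀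

/-- the hypothesis `hfive` of `Hyp.SG_le_of_one_theta` from the dimension. -/
theorem five_of_finrank {X : Type*} [AddCommGroup X] [Module F X] [FiniteDimensional F X]
    (f : LinearMap.BilinForm F X) (h5 : 5 ≤ finrank F X) (a b c d : X) :
    ∃ y₀ : X, y₀ ≠ 0 ∧ f y₀ a = 0 ∧ f y₀ b = 0 ∧ f y₀ c = 0 ∧ f y₀ d = 0 := by
  set φ : X →ₗ[F] F × F × F × F :=
    (f.flip a).prod ((f.flip b).prod ((f.flip c).prod (f.flip d))) with hφ
  have hlt : finrank F (F × F × F × F) < finrank F X := by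
    simp only [Module.finrank_prod, Module.finrank_self]
    omega
  have hker := LinearMap.ker_ne_bot_of_finrank_lt hlt (f := φ)
  obtain ⟨y₀, hy₀, hne⟩ := Submodule.exists_mem_ne_zero_of_ne_bot hker
  refine ⟨y₀, hne, ?_⟩
  have h0 : φ y₀ = 0 := LinearMap.mem_ker.mp hy₀
  rw [hφ, LinearMap.prod_apply] at h0
  have h1 := Prod.mk_eq_zero.mp h0
  have h2 := Prod.mk_eq_zero.mp h1.2
  have h3 := Prod.mk_eq_zero.mp h2.2
  exact ⟨h1.1, h2.1, h3.1, h3.2⟩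

end Cfsg.Agent.Helper3.TensOm
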