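import Cfsg.Agent.Helper3.TensSThetaB
import Cfsg.Agent.Helper8.TensSH

/-!
# S5704, Leaf F piece: bridge from helper8's `theta` elements to `SG Q ≤ M`

One element `theta … κ ∈ XM M` (`κ ≠ 0`, `u ≠ 0`, `u' ∉ F u`, `w ≠ 0`, `z ∉ F w`) and
`5 ≤ dim W` give `SG Q ≤ M` (via `Hyp.SG_le_of_one_theta`).
-/

set_option autoImplicit false
set_option linter.unusedSectionVars false
set_option linter.unusedVariables false

namespace Cfsg.Agent.Helper8.Tens

open Module Cfsg.Agent.Helper7.ExtF Cfsg.Agent.Helper8.OrthOrder Cfsg.Agent.Helper3.TensOm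
  Cfsg.Agent.Helper8.SiegelGroup

variable {F : Type*} [Field F] {U W V : Type*} [AddCommGroup U] [Module F U]
  [AddCommGroup W] [Module F W] [AddCommGroup V] [Module F V]
  {t : U →ₗ[F] W →ₗ[F] V} {Q : QuadraticForm F V} {f₁ : LinearMap.BilinForm F U}
  {f₂ : LinearMap.BilinForm F W} {M : Subgroup ↥(Isom Q)}

theorem sv_eq_symE {X : Type*} [AddCommGroup X] [Module F X] (f : LinearMap.BilinForm F X)
    (u v x : X) : sv f u v x = symE f u v x := by
  rw [sv_apply, symE_apply, add_comm]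

theorem av_eq_altE {X : Type*} [AddCommGroup X] [Module F X] (f : LinearMap.BilinForm F X)
    (w z x : X) : av f w z x = altE f w z x := rfl

theorem symE_smul_right {X : Type*} [AddCommGroup X] [Module F X] (f : LinearMap.BilinForm F X)
    (κ : F) (u v x : X) : symE f u (κ • v) x = κ • symE f u v x := by
  simp only [symE_apply, map_smul, smul_eq_mul, smul_add, smul_smul, mul_comm]

/-- **one `θ` suffices** (in the `theta` formalism). -/
theorem SG_le_of_theta_mem (ht : IsTensorProduct t) (h : Hyp t Q f₁ f₂ M)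
    [FiniteDimensional F W] (hb : 5 ≤ finrank F W) {u u' : U} {w z : W}
    (hu : u ≠ 0) (h1 : f₁ u u' = 0) (hu' : ∀ a : F, u' ≠ a • u)
    (hwz : f₂ w z = 0) (hw : w ≠ 0) (hz' : ∀ a : F, z ≠ a • w) {κ : F} (hκ : κ ≠ 0)
    (hθ : theta ht h.alt₁ h.alt₂ h1 hwz κ ∈ XM M) : SG Q ≤ M := by
  obtain ⟨hi, hm⟩ := mem_XM.mp hθ
  have h1' : f₁ u (κ • u') = 0 := by rw [map_smul, h1, smul_zero]
  have hu'' : ∀ a : F, κ • u' ≠ a • u := by
    intro a ha
    apply hu' (κ⁻¹ * a)
    rw [mul_smul, ← ha, smul_smul, inv_mul_cancel₀ hκ, one_smul]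
  refine h.SG_le_of_one_theta hu h1' hu'' hwz hz' hw hm ?_ (five_of_finrank f₂ hb)
  intro x y
  change theta ht h.alt₁ h.alt₂ h1 hwz κ (t x y) = _
  rw [theta_t, sv_eq_symE, av_eq_altE, symE_smul_right, map_smul, LinearMap.smul_apply]

end Cfsg.Agent.Helper8.Tens
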