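import Cfsg.Agent.Helper3.TensSThetaC
import Cfsg.Agent.Helper3.TensSAsm
import Cfsg.Agent.Helper5.TensSX
import Cfsg.Agent.Helper8.TensSI
import Cfsg.Agent.Helper9.TensSD5

/-!
# S5704, Leaf F: assembly of (Q-S) and of `mainS`, modulo the `dim U = 2` branch

* `SG_le_of_nonscalar`: the branch `3 ≤ dim U`: a non-scalar component gives `SG Q ≤ M`.
* `QS_of_not_SG`: (Q-S), with the branch `dim U = 2` (`SG_le_of_mu`) as a hypothesis.
* `mainS_of_mu`: `mainS` modulo that hypothesis.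
-/

set_option autoImplicit false
set_option linter.unusedSectionVars false
set_option linter.unusedVariables false

namespace Cfsg.Agent.Helper3.TensS

open Module Cfsg.Agent.Helper7.ExtF Cfsg.Agent.Helper8.OrthOrder Cfsg.Agent.Helper3.TensOm
  Cfsg.Agent.Helper8.SiegelGroup Cfsg.Agent.Helper8.Tens

variable {F : Type*} [Field F] {U W V : Type*} [AddCommGroup U] [Module F U]
  [AddCommGroup W] [Module F W] [AddCommGroup V] [Module F V]
  {t : U →ₗ[F] W →ₗ[F] V} {Q : QuadraticForm F V} {f₁ : LinearMap.BilinForm F U}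
  {f₂ : LinearMap.BilinForm F W} {M : Subgroup ↥(Isom Q)}

/-- in dimension two, a vector not on the line `F u` is not perpendicular to `u`. -/
theorem not_perp_of_finrank_two {X : Type*} [AddCommGroup X] [Module F X]
    [FiniteDimensional F X] (f : LinearMap.BilinForm F X) (halt : ∀ x, f x x = 0)
    (hnd : ∀ x, (∀ y, f x y = 0) → x = 0) (h2 : finrank F X = 2) {u y : X} (hu : u ≠ 0)
    (hy : ∀ a : F, y ≠ a • u) : f y u ≠ 0 := by
  intro h0
  have hli : LinearIndependent F ![u, y] := by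
    rw [LinearIndependent.pair_iff' hu]
    intro a ha
    exact hy a ha.symm
  have hspan : Submodule.span F (Set.range ![u, y]) = ⊤ := by
    apply Submodule.eq_top_of_finrank_eq
    rw [finrank_span_eq_card hli, h2]
    simp
  have hle : Submodule.span F (Set.range ![u, y]) ≤ LinearMap.ker (f.flip u) := by
    rw [Submodule.span_le]
    rintro x ⟨i, rfl⟩
    fin_cases i
    · show f.flip u u = 0
      exact halt u
    · show f.flip u y = 0
      exact h0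
  rw [hspan] at hle
  have hker : ∀ x, f x u = 0 := fun x => hle (Submodule.mem_top : x ∈ ⊤)
  apply hu
  apply hnd u
  intro x
  rw [alt_skew f halt, hker x, neg_zero]

section

variable [FiniteDimensional F U] [FiniteDimensional F W]

/-- **the branch `3 ≤ dim U` of (Q-S)**: a non-scalar component gives `SG Q ≤ M`. -/
theorem SG_le_of_nonscalar (ht : IsTensorProduct t) (h : Hyp t Q f₁ f₂ M)
    (ha3 : 3 ≤ finrank F U) (hb : 5 ≤ finrank F W) (hno : ¬ SG Q ≤ M) {w₀ z : W}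
    (hw₀ : w₀ ≠ 0) {q : V ≃ₗ[F] V} (hqM : q ∈ XM M) (hq : InRS t f₂ w₀ q)
    (hz : f₂ z w₀ = 0) (hzw : ∀ a : F, z ≠ a • w₀) {C : Module.End F U}
    (hC : ∀ u, q (t u z) = t u z + t (C u) w₀) {u : U} (hCu : ∀ a : F, C u ≠ a • u) :
    SG Q ≤ M := by
  have hu : u ≠ 0 := by
    rintro rfl
    exact hCu 0 (by rw [map_zero, smul_zero])
  obtain ⟨u', h1, h2, h3⟩ := Cfsg.Agent.Helper5.TensSX.x2 f₁ h.alt₁ h.nd₁ ha3 hu hCu
  have hθ := exists_theta ht h hno hw₀ hqM hq hz hzw hC h1 h2 1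
  exact SG_le_of_theta_mem ht h hb hu h1 h3 (alt_perp_symm f₂ h.alt₂ hz) hw₀ hzw one_ne_zero hθ

variable [FiniteDimensional F V]

/-- **(Q-S)**, with the branch `dim U = 2` as a hypothesis (`SG_le_of_mu`). -/
theorem QS_of_not_SG (ht : IsTensorProduct t) (h : Hyp t Q f₁ f₂ M) (ha : 2 ≤ finrank F U)
    (hab : finrank F U + 2 ≤ finrank F W)
    (hmu : finrank F U = 2 → ∀ {w₀ z : W}, w₀ ≠ 0 → ∀ {q : V ≃ₗ[F] V}, q ∈ XM M →
      InRS t f₂ w₀ q → f₂ z w₀ = 0 → (∀ a : F, z ≠ a • w₀) → ∀ {C C' : Module.End F U},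
      (∀ u, q (t u z) = t u z + t (C u) w₀) → IsAdj f₁ C C' → ∀ {u : U},
      f₁ (C u) u ≠ 0 → SG Q ≤ M)
    (hno : ¬ SG Q ≤ M) : QS ht f₂ M := by
  intro q hqM w₀ hw₀ hfix hperp
  have hq : InRS t f₂ w₀ q :=
    ⟨fun u => hfix _ (t_mem_fib u w₀), fun u z hz => hperp _ (t_mem_Sperp ht hz u)⟩
  obtain ⟨l₀, hl₀⟩ := exists_dual_eq_one (F := F) hw₀
  by_contra hnot
  apply hno
  have hex : ∃ z, f₂ z w₀ = 0 ∧ ∃ u, ∀ a : F, Cz ht l₀ q z u ≠ a • u := by
    by_contra hcon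
    push Not at hcon
    exact hnot (isTens_of_scalar ht h hno (by omega) hw₀ hqM hq hl₀ hcon)
  obtain ⟨z, hz, u, hCu⟩ := hex
  have hC := Cz_spec ht hl₀ hq hz
  have hu : u ≠ 0 := by
    rintro rfl
    exact hCu 0 (by rw [map_zero, smul_zero])
  have hzw : ∀ a : F, z ≠ a • w₀ := by
    rintro a rfl
    apply hCu 0
    have e : q (t u (a • w₀)) = t u (a • w₀) := by
      rw [map_smul, map_smul, hq.1]
    show ev ht l₀ (q (t u (a • w₀)) - t u (a • w₀)) = (0 : F) • u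
    rw [e, sub_self, map_zero, zero_smul]
  rcases (by omega : finrank F U = 2 ∨ 3 ≤ finrank F U) with h2 | h3
  · obtain ⟨C', hadj⟩ := exists_adj h.alt₁ h.nd₁ (Cz ht l₀ q z)
    exact hmu h2 hw₀ hqM hq hz hzw hC hadj
      (not_perp_of_finrank_two f₁ h.alt₁ h.nd₁ h2 hu hCu)
  · exact SG_le_of_nonscalar ht h h3 (by omega) hno hw₀ hqM hq hz hzw hC hCu

/-- **`mainS`** modulo the branch `dim U = 2` (`SG_le_of_mu`). -/
theorem mainS_of_mu (ht : IsTensorProduct t) (h : Hyp t Q f₁ f₂ M) (ha : 2 ≤ finrank F U)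
    (hab : finrank F U + 2 ≤ finrank F W)
    (hmu : finrank F U = 2 → ∀ {w₀ z : W}, w₀ ≠ 0 → ∀ {q : V ≃ₗ[F] V}, q ∈ XM M →
      InRS t f₂ w₀ q → f₂ z w₀ = 0 → (∀ a : F, z ≠ a • w₀) → ∀ {C C' : Module.End F U},
      (∀ u, q (t u z) = t u z + t (C u) w₀) → IsAdj f₁ C C' → ∀ {u : U},
      f₁ (C u) u ≠ 0 → SG Q ≤ M) :
    SG Q ≤ M ∨ ∀ g ∈ M, IsTens t ((g : ↥(Isom Q)) : V ≃ₗ[F] V) :=
  mainS_of_leaves ht h ha hab
    (fun hno => QS_of_not_SG ht h ha hab hmu hno)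
    (fun hno hQS => Cfsg.Agent.Helper9.TensSD.rootHypS_of_QS ht h ha hab hno hQS)

end

end Cfsg.Agent.Helper3.TensS
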