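import Cfsg.Agent.Helper3.TensSThetaD
import Cfsg.Agent.Helper2.TensSMu

/-!
# S5704: `mainS` (backup assembly by helper3; helper8's `Helper8/TensSJ.mainS` is the one used)
-/

set_option autoImplicit false
set_option linter.unusedSectionVars false
set_option linter.unusedVariables false

namespace Cfsg.Agent.Helper3.TensS

open Module Cfsg.Agent.Helper7.ExtF Cfsg.Agent.Helper8.OrthOrder Cfsg.Agent.Helper3.TensOm
  Cfsg.Agent.Helper8.SiegelGroup Cfsg.Agent.Helper8.Tens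

variable {F : Type*} [Field F] {U W V : Type*} [AddCommGroup U] [Module F U]
  [AddCommGroup W] [Module F W] [AddCommGroup V] [Module F V]
  {t : U →ₗ[F] W →ₗ[F] V} {Q : QuadraticForm F V} {f₁ : LinearMap.BilinForm F U}
  {f₂ : LinearMap.BilinForm F W} {M : Subgroup ↥(Isom Q)}
  [FiniteDimensional F U] [FiniteDimensional F W] [FiniteDimensional F V]

/-- **`mainS`** (backup copy). -/
theorem mainS_backup (ht : IsTensorProduct t) (h : Hyp t Q f₁ f₂ M) (ha : 2 ≤ finrank F U)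
    (hab : finrank F U + 2 ≤ finrank F W)
    (hF : finrank F U = 2 → ∃ c : F, c ≠ 0 ∧ c ≠ 1) :
    SG Q ≤ M ∨ ∀ g ∈ M, IsTens t ((g : ↥(Isom Q)) : V ≃ₗ[F] V) :=
  mainS_of_mu ht h ha hab
    (fun h2 _ _ hw₀ _ hqM hq hz hzw _ _ hC hadj _ hμ =>
      SG_le_of_mu ht h (hF h2) hw₀ hqM hq hz hzw hC hadj hμ)

end Cfsg.Agent.Helper3.TensS
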