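import Mathlib

/-! Helper library for S3370: a `p`-group acting linearly and transitively on nonzero vectors. -/

set_option autoImplicit false
set_option linter.unusedSectionVars false
set_option linter.style.haveILetI false
set_option linter.deprecated false

namespace Cfsg.Agent.Helper3.TransVec
universe u v


theorem nt_two {n p b : ℕ} (hp : p.Prime) (hb : 1 ≤ b) (h : 2 ^ n = p ^ b + 1) : b = 1 := by
  have hp2 : p ≠ 2 := by
    rintro rfl
    have h1 : Even (2 ^ b) := (Nat.even_pow' (by omega)).2 even_two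
    rcases Nat.eq_zero_or_pos n with rfl | hn
    · have : 0 < 2 ^ b := by positivity
      omega
    · have h2 : Even (2 ^ n) := (Nat.even_pow' (by omega)).2 even_two
      rw [h] at h2
      rw [Nat.even_add_one] at h2
      exact h2 h1
  have hp3 : 3 ≤ p := by
    have := hp.two_le
    omega
  have hodd : Odd p := hp.odd_of_ne_two hp2
  have hpb : p ≤ p ^ b := Nat.le_self_pow (by omega) p
  have hn2 : 2 ≤ n := by
    by_contra hcon
    have : n = 0 ∨ n = 1 := by omega
    rcases this with rfl | rfl <;> omega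
  have h4 : 2 ^ n % 4 = 0 := by
    obtain ⟨k, rfl⟩ : ∃ k, n = k + 2 := ⟨n - 2, by omega⟩
    rw [pow_add]; omega
  rcases Nat.even_or_odd b with ⟨c, hc⟩ | hbo
  · exfalso
    have hx : Odd (p ^ c) := hodd.pow
    have e : p ^ b = p ^ c * p ^ c := by rw [hc, pow_add]
    have h5 : p ^ c % 4 = 1 ∨ p ^ c % 4 = 3 := by
      have := Nat.odd_iff.1 hx
      omega
    have h6 : p ^ c * p ^ c % 4 = 1 := by
      rcases h5 with h5 | h5 <;> rw [Nat.mul_mod, h5]
    rw [h, e] at h4
    omega
  · -- b odd
    have hdvd : p + 1 ∣ p ^ b + 1 := by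
      have := Odd.nat_add_dvd_pow_add_pow p 1 hbo
      simpa using this
    rw [← h] at hdvd
    obtain ⟨k, hkn, hk⟩ := (Nat.dvd_prime_pow Nat.prime_two).1 hdvd
    have hk2 : 2 ≤ k := by
      by_contra hcon
      have : k = 0 ∨ k = 1 := by omega
      rcases this with rfl | rfl <;> omega
    have hpk : p = 2 ^ k - 1 := by omega
    have hsq : p ^ 2 ≡ 1 [MOD 2 ^ (k + 1)] := by
      obtain ⟨t, ht⟩ := hodd
      have e : p ^ 2 = 2 ^ (k + 1) * t + 1 := by
        rw [pow_succ 2 k, ← hk, ht]; ring
      rw [e]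
      show (2 ^ (k + 1) * t + 1) % 2 ^ (k + 1) = 1 % 2 ^ (k + 1)
      rw [Nat.mul_add_mod]
    have hb' : p ^ b ≡ p [MOD 2 ^ (k + 1)] := by
      obtain ⟨c, hc⟩ := hbo
      rw [hc, pow_succ p (2 * c), pow_mul]
      have := (hsq.pow c).mul_right p
      simpa using this
    have hnk : n ≤ k := by
      by_contra hcon
      push Not at hcon
      have h5 : 2 ^ (k + 1) ∣ 2 ^ n := pow_dvd_pow 2 hcon
      rw [h] at h5
      have h6 : p ^ b + 1 ≡ p + 1 [MOD 2 ^ (k + 1)] := hb'.add_right 1
      have h7 : 2 ^ (k + 1) ∣ p + 1 := (Nat.modEq_zero_iff_dvd.1 ((h6.symm.trans (Nat.modEq_zero_iff_dvd.2 h5))))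
      rw [hk] at h7
      have := Nat.le_of_dvd (by positivity) h7
      have : 2 ^ k < 2 ^ (k + 1) := Nat.pow_lt_pow_right (by norm_num) (by omega)
      omega
    have hkn' : k = n := le_antisymm hkn hnk
    subst hkn'
    have hpp : p ^ b = p ^ 1 := by rw [pow_one]; omega
    exact Nat.pow_right_injective hp.two_le hpp

theorem nt_odd {q n b : ℕ} (hq : q.Prime) (hq2 : q ≠ 2) (hn : 1 ≤ n) (h : q ^ n - 1 = 2 ^ b) :
    n = 1 ∨ (q = 3 ∧ n = 2) := by
  have hq3 : 3 ≤ q := by
    have := hq.two_le
    omega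
  have hoddq : Odd q := hq.odd_of_ne_two hq2
  have hpos : ∀ k, 1 ≤ q ^ k := fun k => Nat.one_le_pow _ _ (by omega)
  rcases Nat.even_or_odd n with ⟨k, hk⟩ | hno
  · right
    have hk1 : 1 ≤ k := by omega
    have e : q ^ n - 1 = (q ^ k - 1) * (q ^ k + 1) := by
      have := hpos k
      rw [hk, pow_add]
      zify [this, Nat.one_le_iff_ne_zero.2 (mul_pos (hpos k) (hpos k)).ne']
      ring
    rw [e] at h
    have hd1 : q ^ k - 1 ∣ 2 ^ b := Dvd.intro _ h
    have hd2 : q ^ k + 1 ∣ 2 ^ b := Dvd.intro_left _ h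
    obtain ⟨i, -, hi⟩ := (Nat.dvd_prime_pow Nat.prime_two).1 hd1
    obtain ⟨j, -, hj⟩ := (Nat.dvd_prime_pow Nat.prime_two).1 hd2
    have hqk : q ≤ q ^ k := Nat.le_self_pow (by omega) q
    have hij : 2 ^ j = 2 ^ i + 2 := by omega
    have hi1 : i = 1 := by
      by_contra hcon
      rcases Nat.lt_or_ge i 1 with hi0 | hi2
      · have : i = 0 := by omega
        subst this
        omega
      · have hi2' : 2 ≤ i := by omega
        have h4 : 2 ^ i % 4 = 0 := by
          obtain ⟨t, rfl⟩ : ∃ t, i = t + 2 := ⟨i - 2, by omega⟩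
          rw [pow_add]; omega
        have hj2 : j < 2 := by
          by_contra hj2
          push Not at hj2
          have h5 : 2 ^ j % 4 = 0 := by
            obtain ⟨t, rfl⟩ : ∃ t, j = t + 2 := ⟨j - 2, by omega⟩
            rw [pow_add]; omega
          omega
        have : j = 0 ∨ j = 1 := by omega
        have h2i : 4 ≤ 2 ^ i := by
          calc 4 = 2 ^ 2 := by norm_num
            _ ≤ 2 ^ i := Nat.pow_le_pow_right (by norm_num) hi2'
        rcases this with rfl | rfl <;> omega
    subst hi1
    have hqk3 : q ^ k = 3 := by omega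
    have hq3' : q = 3 := by
      have : q ∣ 3 := by
        rw [← hqk3]; exact dvd_pow_self q (by omega)
      exact (Nat.prime_dvd_prime_iff_eq hq Nat.prime_three).1 this
    subst hq3'
    have : k = 1 := by
      have h3 : 3 ^ k = 3 ^ 1 := by rw [pow_one]; exact hqk3
      exact Nat.pow_right_injective (le_refl 2 |>.trans (by norm_num : 2 ≤ 3)) h3
    omega
  · left
    -- geometric sum
    have hS : (∑ i ∈ Finset.range n, q ^ i) * (q - 1) = q ^ n - 1 := by
      have := hpos n
      have h1 : (1 : ℕ) ≤ q := by omega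
      zify [this, h1]
      exact geom_sum_mul (q : ℤ) n
    have hSodd : Odd (∑ i ∈ Finset.range n, q ^ i) := by
      rw [Finset.odd_sum_iff_odd_card_odd]
      have : (Finset.range n).filter (fun x => Odd (q ^ x)) = Finset.range n := by
        apply Finset.filter_true_of_mem
        intro x _
        exact hoddq.pow
      rw [this, Finset.card_range]
      exact hno
    have hSd : (∑ i ∈ Finset.range n, q ^ i) ∣ 2 ^ b := by
      rw [← h, ← hS]; exact Dvd.intro _ rfl
    obtain ⟨j, -, hj⟩ := (Nat.dvd_prime_pow Nat.prime_two).1 hSd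
    have hj0 : j = 0 := by
      by_contra hcon
      rw [hj] at hSodd
      have : Even (2 ^ j) := (Nat.even_pow' hcon).2 even_two
      exact (Nat.not_odd_iff_even.2 this) hSodd
    rw [hj0, pow_zero] at hj
    by_contra hn1
    have hn2 : 2 ≤ n := by omega
    obtain ⟨t, rfl⟩ : ∃ t, n = t + 2 := ⟨n - 2, by omega⟩
    rw [Finset.sum_range_succ, Finset.sum_range_succ] at hj
    have := hpos (t + 1)
    have := hpos t
    omega



section act
variable {q : ℕ} [Fact q.Prime] {V : Type u} [AddCommGroup V] [Module (ZMod q) V] [Finite V]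
  {G : Type v} [Group G] [Finite G] (ρ : G →* (V ≃ₗ[ZMod q] V))

/-- the stabiliser of a vector -/
def stab (v : V) : Subgroup G where
  carrier := {g | ρ g v = v}
  one_mem' := by simp
  mul_mem' := by
    intro a b ha hb
    simp only [Set.mem_setOf_eq] at ha hb ⊢
    rw [map_mul, LinearEquiv.mul_apply, hb, ha]
  inv_mem' := by
    intro a ha
    simp only [Set.mem_setOf_eq] at ha ⊢
    rw [map_inv]
    have : (ρ a)⁻¹ (ρ a v) = v := (ρ a).symm_apply_apply v
    rw [ha] at this
    exact this

theorem mem_stab {v : V} {g : G} : g ∈ stab ρ v ↔ ρ g v = v := Iff.rfl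

theorem card_eq (htrans : ∀ v w : V, v ≠ 0 → w ≠ 0 → ∃ g : G, ρ g v = w) {v : V} (hv : v ≠ 0) :
    Nat.card G = (Nat.card V - 1) * Nat.card (stab ρ v) := by
  letI : MulAction G V := MulAction.compHom V ρ
  have hst : MulAction.stabilizer G v = stab ρ v := by
    ext g; rfl
  have h1 : (stab ρ v).index = (MulAction.orbit G v).ncard := by
    rw [← hst]; exact MulAction.index_stabilizer G v
  have h2 : MulAction.orbit G v = {w | w ≠ 0} := by
    ext w
    constructor
    · rintro ⟨g, rfl⟩
      show ρ g v ≠ 0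
      simpa using hv
    · intro hw
      obtain ⟨g, hg⟩ := htrans v w hv hw
      exact ⟨g, hg⟩
  have h3 : ({w : V | w ≠ 0}).ncard = Nat.card V - 1 := by
    have : {w : V | w ≠ 0} = ({0} : Set V)ᶜ := by ext; simp
    rw [this, Set.ncard_compl, Set.ncard_singleton]
  rw [← (stab ρ v).index_mul_card, h1, h2, h3]

/-- an involution without nonzero fixed vectors is `-1` -/
theorem neg_of_no_fixed {t : G} (ht : t ^ 2 = 1) (hfix : ∀ w : V, ρ t w = w → w = 0) (w : V) :
    ρ t w = -w := by
  have h1 : ρ t (w + ρ t w) = w + ρ t w := by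
    rw [map_add]
    have : ρ t (ρ t w) = w := by
      have h2 : ρ t * ρ t = 1 := by rw [← map_mul, ← pow_two, ht, map_one]
      have := congrArg (fun f : V ≃ₗ[ZMod q] V => f w) h2
      simpa using this
    rw [this, add_comm]
  have h3 := hfix _ h1
  exact (eq_neg_of_add_eq_zero_right h3)

/-- an element acting as `-1` is central -/
theorem central_of_neg (hρ : Function.Injective ρ) {t : G} (hneg : ∀ w : V, ρ t w = -w) (g : G) :
    t * g = g * t := by
  apply hρ
  apply LinearEquiv.ext
  intro w
  rw [map_mul, map_mul, LinearEquiv.mul_apply, LinearEquiv.mul_apply, hneg, hneg, map_neg]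

/-- a central element fixing a nonzero vector is trivial -/
theorem eq_one_of_central_of_fixed (hρ : Function.Injective ρ)
    (htrans : ∀ v w : V, v ≠ 0 → w ≠ 0 → ∃ g : G, ρ g v = w) {t : G}
    (hc : ∀ g : G, t * g = g * t) {v : V} (hv : v ≠ 0) (hfix : ρ t v = v) : t = 1 := by
  apply hρ
  rw [map_one]
  apply LinearEquiv.ext
  intro w
  by_cases hw : w = 0
  · rw [hw]; simp
  obtain ⟨g, rfl⟩ := htrans v w hv hw
  have := congrArg (fun s => ρ s v) (hc g)
  simp only [map_mul, LinearEquiv.mul_apply] at this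
  rw [this, hfix]
  rfl


theorem stab_eq_bot_of_card_succ {p : ℕ} [hp : Fact p.Prime] (hG : IsPGroup p G)
    (hρ : Function.Injective ρ) (hN : Nat.card V = p + 1) {v : V} (hv : v ≠ 0) :
    stab ρ v = ⊥ := by
  set S := stab ρ v with hS
  letI : MulAction S V := MulAction.compHom V (ρ.comp S.subtype)
  have hSp : IsPGroup p S := hG.to_subgroup S
  have hmod := hSp.card_modEq_card_fixedPoints V
  have h0 : (0 : V) ∈ MulAction.fixedPoints S V := by
    intro s
    show ρ (s : G) 0 = 0
    simp
  have hvf : v ∈ MulAction.fixedPoints S V := by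
    intro s
    show ρ (s : G) v = v
    exact s.2
  have hge : 2 ≤ Nat.card (MulAction.fixedPoints S V) := by
    rw [Nat.card_coe_set_eq]
    have hsub : ({0, v} : Set V) ⊆ MulAction.fixedPoints S V := by
      intro x hx
      rcases hx with rfl | rfl
      · exact h0
      · exact hvf
    have h2 : ({0, v} : Set V).ncard = 2 := Set.ncard_pair (Ne.symm hv)
    rw [← h2]
    exact Set.ncard_le_ncard hsub (Set.toFinite _)
  have hle : Nat.card (MulAction.fixedPoints S V) ≤ p + 1 := by
    rw [← hN]
    exact Nat.card_le_card_of_injective _ Subtype.val_injective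
  have hcard : Nat.card (MulAction.fixedPoints S V) = p + 1 := by
    rw [hN] at hmod
    have h1 : (p + 1) % p = 1 % p := by simp
    have h3 : Nat.card (MulAction.fixedPoints S V) % p = 1 % p := by
      rw [← h1]; exact hmod.symm
    have hp2 := hp.out.two_le
    rw [Nat.mod_eq_of_lt (by omega : 1 < p)] at h3
    set c := Nat.card (MulAction.fixedPoints S V) with hc
    have h4 : c = p * (c / p) + 1 := by
      have := Nat.div_add_mod c p
      rw [h3] at this
      exact this.symm
    generalize c / p = k at h4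
    have hk1 : 1 ≤ k := by
      by_contra hcon
      have : k = 0 := by omega
      subst this
      omega
    have hk2 : k ≤ 1 := by
      by_contra hcon
      have : p * 2 ≤ p * k := Nat.mul_le_mul_left p (by omega)
      omega
    have : k = 1 := by omega
    subst this
    omega
  have huniv : MulAction.fixedPoints S V = Set.univ := by
    rw [Set.eq_univ_iff_ncard, ← Nat.card_coe_set_eq, hcard, hN]
  rw [Subgroup.eq_bot_iff_forall]
  intro g hg
  apply hρ
  rw [map_one]
  apply LinearEquiv.ext
  intro w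
  have hw : w ∈ MulAction.fixedPoints S V := by rw [huniv]; trivial
  exact hw ⟨g, hg⟩

theorem dim_one [Nontrivial V] (hN : Nat.card V = q) (hρ : Function.Injective ρ)
    (htrans : ∀ v w : V, v ≠ 0 → w ≠ 0 → ∃ g : G, ρ g v = w) :
    IsCyclic G ∧ Nat.card G = q - 1 := by
  obtain ⟨v, hv⟩ := exists_ne (0 : V)
  have hinj : Function.Injective (fun c : ZMod q => c • v) := by
    intro c c' h
    simp only at h
    have h0 : (c - c') • v = 0 := by rw [sub_smul, h, sub_self]
    rcases smul_eq_zero.1 h0 with h1 | h1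
    · exact sub_eq_zero.1 h1
    · exact absurd h1 hv
  have hbij : Function.Bijective (fun c : ZMod q => c • v) := by
    rw [Nat.bijective_iff_injective_and_card]
    exact ⟨hinj, by rw [Nat.card_zmod, hN]⟩
  have hsurj := hbij.2
  have hsc : ∀ g : G, ∃ c : ZMod q, ∀ w, ρ g w = c • w := by
    intro g
    obtain ⟨c, hc⟩ := hsurj (ρ g v)
    refine ⟨c, fun w => ?_⟩
    obtain ⟨d, rfl⟩ := hsurj w
    simp only at hc ⊢
    rw [map_smul, ← hc, smul_comm]
  choose f hf using hsc
  have hf1 : f 1 = 1 := by
    apply hinj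
    simp only
    rw [← hf, map_one, one_smul]
    rfl
  have hfmul : ∀ g h, f (g * h) = f g * f h := by
    intro g h
    apply hinj
    simp only
    rw [← hf, map_mul, LinearEquiv.mul_apply, hf h, hf g, smul_smul]
  let F : G →* ZMod q := { toFun := f, map_one' := hf1, map_mul' := hfmul }
  have hFinj : Function.Injective F := by
    intro g h hgh
    apply hρ
    apply LinearEquiv.ext
    intro w
    rw [hf, hf]
    have : f g = f h := hgh
    rw [this]
  refine ⟨isCyclic_of_subgroup_isDomain F hFinj, ?_⟩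
  have hst : stab ρ v = ⊥ := by
    rw [Subgroup.eq_bot_iff_forall]
    intro g hg
    apply hρ
    rw [map_one]
    apply LinearEquiv.ext
    intro w
    obtain ⟨d, rfl⟩ := hsurj w
    simp only
    rw [map_smul, (mem_stab ρ).1 hg]
    rfl
  have := card_eq ρ htrans hv
  rw [hst, Subgroup.card_bot, mul_one, hN] at this
  exact this

end act


theorem card_aut_nine {V : Type u} [AddCommGroup V] [Module (ZMod 3) V] [Finite V]
    (hN : Nat.card V = 9) : Nat.card (V ≃ₗ[ZMod 3] V) = 48 := by
  have : Fintype V := Fintype.ofFinite V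
  have hfr : Module.finrank (ZMod 3) V = 2 := by
    have h1 := Module.card_eq_pow_finrank (K := ZMod 3) (V := V)
    rw [← Nat.card_eq_fintype_card, hN, ZMod.card] at h1
    have h2 : 3 ^ 2 = 3 ^ Module.finrank (ZMod 3) V := by rw [← h1]; norm_num
    exact (Nat.pow_right_injective (by norm_num : 2 ≤ 3) h2).symm
  let b := Module.finBasisOfFinrankEq (ZMod 3) V hfr
  have e1 := Matrix.GeneralLinearGroup.toLin' b
  have e2 := LinearMap.GeneralLinearGroup.generalLinearEquiv (ZMod 3) V
  rw [← Nat.card_congr (e1.trans e2).toEquiv, Matrix.card_GL_field]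
  simp [Fin.prod_univ_two]



theorem eq_of_card_two {G : Type v} [Group G] {H : Subgroup G} (hH : Nat.card H = 2) {a b : G}
    (ha : a ∈ H) (hb : b ∈ H) (ha1 : a ≠ 1) (hb1 : b ≠ 1) : a = b := by
  obtain ⟨y, -, hy⟩ := (Nat.card_eq_two_iff' (1 : H)).1 hH
  have h1 : (⟨a, ha⟩ : H) = y := hy _ (by
    intro h; exact ha1 (congrArg Subtype.val h))
  have h2 : (⟨b, hb⟩ : H) = y := hy _ (by
    intro h; exact hb1 (congrArg Subtype.val h))
  exact congrArg Subtype.val (h1.trans h2.symm)

theorem exists_ne_one_of_card_two {G : Type v} [Group G] {H : Subgroup G} (hH : Nat.card H = 2) :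
    ∃ a ∈ H, a ≠ 1 ∧ a ^ 2 = 1 := by
  obtain ⟨y, hy1, -⟩ := (Nat.card_eq_two_iff' (1 : H)).1 hH
  refine ⟨y, y.2, ?_, ?_⟩
  · intro h; exact hy1 (Subtype.ext h)
  · have : y ^ 2 = 1 := by rw [← hH]; exact pow_card_eq_one'
    exact_mod_cast congrArg Subtype.val this

theorem quat_zero_infinite : Infinite (QuaternionGroup 0) := by
  apply Infinite.of_injective (fun i : ℤ => (QuaternionGroup.a (i : ZMod (2 * 0)) : QuaternionGroup 0))
  intro i j h
  have h1 := QuaternionGroup.a.inj h
  have h3 : @Eq (ZMod 0) i j := by simpa using h1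
  exact h3


end Cfsg.Agent.Helper3.TransVec
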