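import Mathlib

set_option autoImplicit false

namespace Cfsg.Agent.Helper3.TransferSq

open Subgroup MulAction

variable {G : Type*} [Group G] [Finite G]

omit [Finite G] in
/-- membership in `⁅P, P⁆` via the abelianization of `↥P`. -/
theorem of_eq_one_iff (P : Subgroup G) (y : G) (hy : y ∈ P) :
    (Abelianization.of (⟨y, hy⟩ : ↥P) = 1) ↔ y ∈ ⁅P, P⁆ := by
  rw [← MonoidHom.mem_ker, Abelianization.ker_of, ← Subgroup.map_subtype_commutator]
  constructor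
  · intro h
    exact ⟨⟨y, hy⟩, h, rfl⟩
  · rintro ⟨z, hz, hzy⟩
    have : z = ⟨y, hy⟩ := Subtype.ext hzy
    rw [← this]; exact hz

theorem core (N P : Subgroup G) [N.Normal]
    (hNP : ∀ g : G, ∃ n ∈ N, ∃ u ∈ P, g = n * u)
    (h2 : ∃ k, Nat.card P = 2 ^ k)
    (hidx : Odd P.index)
    (hP : ∀ x ∈ P, x ^ 2 ∈ (P ⊓ N) ⊔ ⁅P, P⁆)
    (hQ : ∀ x ∈ P ⊓ N, x ^ 2 ∈ ⁅P ⊓ N, P ⊓ N⁆)
    (hodd : Odd (Nat.card (Abelianization N))) :
    ∀ x ∈ P, x ^ 2 ∈ ⁅P, P⁆ := by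
  classical
  set φ : ↥P →* Abelianization ↥P := Abelianization.of with hφ
  set T : G →* Abelianization ↥P := MonoidHom.transfer φ with hT
  -- squares of elements of `Q` die in `A`
  have hQ' : ∀ q (hq : q ∈ P ⊓ N), φ ⟨q, hq.1⟩ ^ 2 = 1 := by
    intro q hq
    rw [← map_pow]
    have h1 : q ^ 2 ∈ ⁅P, P⁆ :=
      Subgroup.commutator_mono inf_le_left inf_le_left (hQ q hq)
    have := (of_eq_one_iff P (q ^ 2) (P.pow_mem hq.1 2)).2 h1
    exact this
  -- (a) `T` kills `N`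
  have hTN : ∀ n ∈ N, T n = 1 := by
    intro n hn
    set ψ : ↥N →* Abelianization ↥P := T.comp N.subtype with hψ
    have h1 : T n = Abelianization.lift ψ (Abelianization.of ⟨n, hn⟩) := by
      rw [Abelianization.lift_apply_of]; rfl
    have h3 : (T n) ^ Nat.card (Abelianization ↥N) = 1 := by
      rw [h1, ← map_pow, pow_card_eq_one', map_one]
    have h4 : (T n) ^ Nat.card (Abelianization ↥P) = 1 := pow_card_eq_one'
    obtain ⟨k, hk⟩ := h2
    have h5 : Nat.card (Abelianization ↥P) ∣ 2 ^ k := by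
      rw [← hk]
      exact Subgroup.card_dvd_of_surjective (Abelianization.of (G := ↥P)) (fun a => Quotient.inductionOn a (fun b => ⟨b, rfl⟩))
    have h6 : orderOf (T n) ∣ 2 ^ k := (orderOf_dvd_of_pow_eq_one h4).trans h5
    have h7 : orderOf (T n) ∣ Nat.card (Abelianization ↥N) := orderOf_dvd_of_pow_eq_one h3
    have h8 : Nat.Coprime (2 ^ k) (Nat.card (Abelianization ↥N)) :=
      Nat.Coprime.pow_left k (Nat.coprime_two_left.mpr hodd)
    have h9 : orderOf (T n) = 1 := Nat.eq_one_of_dvd_coprimes h8 h6 h7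
    exact orderOf_eq_one_iff.1 h9
  -- (b) `T` kills `⁅P, P⁆`
  have hTc : ∀ c ∈ ⁅P, P⁆, T c = 1 := by
    intro c hc
    have h1 : ⁅P, P⁆ ≤ commutator G := by
      rw [_root_.commutator_def]
      exact Subgroup.commutator_mono le_top le_top
    exact (Abelianization.commutator_subset_ker T) (h1 hc)
  -- (c)
  have hTsq : ∀ y ∈ P, T y ^ 2 = 1 := by
    intro y hy
    rw [← map_pow]
    have h1 : (P ⊓ N) ⊔ ⁅P, P⁆ ≤ T.ker := by
      refine sup_le ?_ ?_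
      · intro q hq; exact hTN q hq.2
      · intro c hc; exact hTc c hc
    exact h1 (hP y hy)
  -- conjugation lemma
  have hconj : ∀ (z : G) (hz : z ∈ P) (g : G) (hg : g⁻¹ * z * g ∈ P),
      φ ⟨g⁻¹ * z * g, hg⟩ ^ 2 = φ ⟨z, hz⟩ ^ 2 := by
    intro z hz g hg
    obtain ⟨n, hn, u, hu, rfl⟩ := hNP g
    have hw : u⁻¹ * z * u ∈ P := P.mul_mem (P.mul_mem (P.inv_mem hu) hz) hu
    set m : G := (u⁻¹ * z * u)⁻¹ * ((n * u)⁻¹ * z * (n * u)) with hm
    have hmP : m ∈ P := P.mul_mem (P.inv_mem hw) hg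
    have hmN : m ∈ N := by
      have h1 : m = u⁻¹ * ((z⁻¹ * n⁻¹ * z) * n) * u := by
        rw [hm]; group
      rw [h1]
      have h2 : z⁻¹ * n⁻¹ * z ∈ N := by
        have := ‹N.Normal›.conj_mem n⁻¹ (N.inv_mem hn) z⁻¹
        simpa using this
      have h3 := ‹N.Normal›.conj_mem _ (N.mul_mem h2 hn) u⁻¹
      simpa using h3
    have h4 : (⟨(n * u)⁻¹ * z * (n * u), hg⟩ : ↥P) = ⟨u⁻¹ * z * u, hw⟩ * ⟨m, hmP⟩ := by
      apply Subtype.ext
      simp only [Subgroup.coe_mul, hm]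
      group
    have h5 : (⟨u⁻¹ * z * u, hw⟩ : ↥P) = (⟨u, hu⟩ : ↥P)⁻¹ * ⟨z, hz⟩ * ⟨u, hu⟩ := by
      apply Subtype.ext; simp
    rw [h4, map_mul, mul_pow, hQ' m ⟨hmP, hmN⟩, mul_one, h5, map_mul, map_mul, map_inv]
    rw [mul_comm (φ ⟨u, hu⟩)⁻¹, mul_assoc, inv_mul_cancel, mul_one]
  -- (e)
  have h4 : ∀ y (hy : y ∈ P), φ ⟨y, hy⟩ ^ 4 = 1 := by
    intro y hy
    set S : Subgroup G := (((powMonoidHom 2 : Abelianization ↥P →* Abelianization ↥P).comp φ).ker).map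
      P.subtype with hS
    have hS1 : P ⊓ N ≤ S := by
      intro q hq
      refine ⟨⟨q, hq.1⟩, ?_, rfl⟩
      rw [SetLike.mem_coe, MonoidHom.mem_ker, MonoidHom.comp_apply, powMonoidHom_apply]
      exact hQ' q hq
    have hS2 : ⁅P, P⁆ ≤ S := by
      intro c hc
      have hcP : c ∈ P := Subgroup.commutator_le_self P hc
      refine ⟨⟨c, hcP⟩, ?_, rfl⟩
      rw [SetLike.mem_coe, MonoidHom.mem_ker, MonoidHom.comp_apply, powMonoidHom_apply,
        (of_eq_one_iff P c hcP).2 hc, one_pow]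
    obtain ⟨z, hz, hzy⟩ := (sup_le hS1 hS2) (hP y hy)
    rw [SetLike.mem_coe, MonoidHom.mem_ker, MonoidHom.comp_apply, powMonoidHom_apply] at hz
    have h1 : z = (⟨y, hy⟩ : ↥P) ^ 2 := by
      apply Subtype.ext; rw [← Subgroup.subtype_apply, hzy]; simp
    rw [h1, map_pow, ← pow_mul] at hz
    exact hz
  -- (d)
  intro y hy
  have hd : T y ^ 2 = φ ⟨y, hy⟩ ^ (2 * P.index) := by
    let _ : Fintype (Quotient (orbitRel (zpowers y) (G ⧸ P))) := Fintype.ofFinite _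
    rw [hT, MonoidHom.transfer_eq_prod_quotient_orbitRel_zpowers_quot, ← Finset.prod_pow]
    rw [Subgroup.index_eq_sum_minimalPeriod P y, Finset.mul_sum, ← Finset.prod_pow_eq_pow_sum]
    refine Finset.prod_congr rfl (fun q _ => ?_)
    rw [hconj (y ^ Function.minimalPeriod (y • ·) q.out) (P.pow_mem hy _) q.out.out]
    rw [← map_pow, ← map_pow]
    congr 1
    apply Subtype.ext
    simp only [Subgroup.coe_pow]
    rw [← pow_mul, Nat.mul_comm]
  rw [hTsq y hy] at hd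
  obtain ⟨j, hj⟩ := hidx
  have h5 : φ ⟨y, hy⟩ ^ 2 = 1 := by
    have : φ ⟨y, hy⟩ ^ (2 * P.index) = (φ ⟨y, hy⟩ ^ 4) ^ j * φ ⟨y, hy⟩ ^ 2 := by
      rw [hj, ← pow_mul, ← pow_add]; congr 1; ring
    rw [this, h4 y hy, one_pow, one_mul] at hd
    exact hd.symm
  rw [← map_pow] at h5
  exact (of_eq_one_iff P (y ^ 2) (P.pow_mem hy 2)).1 h5

end Cfsg.Agent.Helper3.TransferSq
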