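import Mathlib
import Cfsg.Agent.S1611

/-!
Helper lemmas (helper3): the monomial automorphism group of the hexacode as a group `3.A₆`:
a finite group mapping onto `A₆` with central kernel of order 3 contained in its commutator subgroup.
-/

set_option autoImplicit false

namespace Cfsg.Agent.Helper3.TripleA6

open Cfsg Cfsg.Agent.Helper7.F4Mat Cfsg.Agent.S1610 Cfsg.Agent.S1611 Equiv
open scoped commutatorElement

/-- The permutation action on coefficient vectors. -/
def permAut : Perm (Fin 6) →* MulAut (Fin 6 → F4ˣ) where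
  toFun σ :=
    { toFun := fun c i => c (σ.symm i)
      invFun := fun c i => c (σ i)
      left_inv := fun c => by funext i; simp
      right_inv := fun c => by funext i; simp
      map_mul' := fun _ _ => rfl }
  map_one' := rfl
  map_mul' _ _ := rfl

/-- The full monomial group. -/
abbrev S : Type := (Fin 6 → F4ˣ) ⋊[permAut] Perm (Fin 6)

/-- The monomial automorphisms of the hexacode. -/
def M : Subgroup S where
  carrier := {s | Valid F4.w s.right s.left}
  one_mem' := valid_one F4.w
  mul_mem' := fun {_ _} hs ht => valid_mul hs ht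
  inv_mem' := fun {_} hs => valid_inv hs

theorem mem_M (s : S) : s ∈ M ↔ Valid F4.w s.right s.left := Iff.rfl

instance : Finite S := by
  have : Function.Injective (fun s : S => (s.left, s.right)) := by
    intro s t h
    have h1 := congrArg Prod.fst h
    have h2 := congrArg Prod.snd h
    exact SemidirectProduct.ext h1 h2
  exact Finite.of_injective _ this

/-- The projection to the permutation part. -/
def proj : M →* alternatingGroup (Fin 6) :=
  (SemidirectProduct.rightHom.comp M.subtype).codRestrict _ (fun m => by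
    rw [← SetLike.mem_coe, ← V_eq F4.w H3a_F4 H3b_F4]
    exact ⟨m.1.left, m.2⟩)

theorem proj_coe (m : M) : ((proj m : alternatingGroup (Fin 6)) : Perm (Fin 6)) = m.1.right := rfl

theorem proj_surjective : Function.Surjective proj := by
  rintro ⟨τ, hτ⟩
  rw [← SetLike.mem_coe, ← V_eq F4.w H3a_F4 H3b_F4] at hτ
  obtain ⟨c, hc⟩ := hτ
  exact ⟨⟨⟨c, τ⟩, hc⟩, Subtype.ext rfl⟩

theorem mem_ker_proj (m : M) : m ∈ proj.ker ↔ m.1.right = 1 := by
  rw [MonoidHom.mem_ker]
  constructor
  · intro h
    have := congrArg (fun x : alternatingGroup (Fin 6) => (x : Perm (Fin 6))) h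
    exact this
  · intro h
    apply Subtype.ext
    exact h

theorem ker_le_center : proj.ker ≤ Subgroup.center M := by
  intro m hm
  rw [mem_ker_proj] at hm
  have hconst : ∀ i j, m.1.left i = m.1.left j := by
    apply H2_F4
    have := m.2
    rw [mem_M, hm] at this
    exact this
  rw [Subgroup.mem_center_iff]
  intro t
  apply Subtype.ext
  apply SemidirectProduct.ext
  · change t.1.left * permAut t.1.right m.1.left = m.1.left * permAut m.1.right t.1.left
    rw [hm, map_one, mul_comm]
    congr 1
    funext i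
    exact hconst _ _
  · change t.1.right * m.1.right = m.1.right * t.1.right
    rw [hm, mul_one, one_mul]

theorem card_M : Nat.card M = 1080 := by
  rw [← card_valid F4.w F4.card H2_F4 H3a_F4 H3b_F4]
  apply Nat.card_congr
  exact
    { toFun := fun m => ⟨(m.1.right, m.1.left), m.2⟩
      invFun := fun f => ⟨⟨f.1.2, f.1.1⟩, f.2⟩
      left_inv := fun _ => rfl
      right_inv := fun _ => rfl }

theorem card_ker : Nat.card proj.ker = 3 := by
  have h1 := Subgroup.card_mul_index proj.ker
  rw [Subgroup.index_ker, MonoidHom.range_eq_top.mpr proj_surjective, card_M, Subgroup.card_top,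
    nat_card_alternatingGroup, Nat.card_eq_fintype_card (α := Fin 6), Fintype.card_fin] at h1
  obtain ⟨k, hk⟩ : ∃ k, k = Nat.card proj.ker := ⟨_, rfl⟩
  rw [← hk] at h1 ⊢
  norm_num [Nat.factorial] at h1
  omega

/-- A lift of the three-cycle `0 → 1 → 2 → 0`. -/
def liftA : S := ⟨fun i => uu (tbl 0 1 2 i), swap (0 : Fin 6) 1 * swap 1 2⟩

/-- A lift of the three-cycle `3 → 4 → 5 → 3`. -/
def liftB : S := ⟨fun i => uu (tbl 3 4 5 i), swap (3 : Fin 6) 4 * swap 4 5⟩

theorem liftA_mem : liftA ∈ M := by
  rw [mem_M]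
  change Valid F4.w (swap (0 : Fin 6) 1 * swap 1 2) (fun i => uu (tbl 0 1 2 i))
  rw [valid_iff_validK _ _ (tbl 0 1 2) (fun i => rfl)]
  exact cycle_K 0 1 2 (by decide) (by decide) (by decide)

theorem liftB_mem : liftB ∈ M := by
  rw [mem_M]
  change Valid F4.w (swap (3 : Fin 6) 4 * swap 4 5) (fun i => uu (tbl 3 4 5 i))
  rw [valid_iff_validK _ _ (tbl 3 4 5) (fun i => rfl)]
  exact cycle_K 3 4 5 (by decide) (by decide) (by decide)

theorem comm_right : (⁅liftA, liftB⁆ : S).right = 1 := by
  change ⁅swap (0 : Fin 6) 1 * swap 1 2, swap (3 : Fin 6) 4 * swap 4 5⁆ = 1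
  decide

theorem comm_ne_one : (⁅liftA, liftB⁆ : S) ≠ 1 := by
  intro h
  have h1 := congrArg (fun s : S => ((s.left 0 : F4ˣ) : F4)) h
  revert h1
  decide

theorem ker_le_commutator : proj.ker ≤ commutator M := by
  let a : M := ⟨liftA, liftA_mem⟩
  let b : M := ⟨liftB, liftB_mem⟩
  have hx : ⁅a, b⁆ ∈ proj.ker := by
    rw [mem_ker_proj]
    exact comm_right
  have hne : (⟨⁅a, b⁆, hx⟩ : proj.ker) ≠ 1 := by
    intro h
    have h1 := congrArg (fun k : proj.ker => ((k : M) : S)) h
    exact comm_ne_one h1
  have : Fact (Nat.Prime 3) := ⟨Nat.prime_three⟩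
  have htop := zpowers_eq_top_of_prime_card (G := proj.ker) (p := 3) card_ker hne
  intro y hy
  have hy' : (⟨y, hy⟩ : proj.ker) ∈ Subgroup.zpowers (⟨⁅a, b⁆, hx⟩ : proj.ker) := by
    rw [htop]; exact Subgroup.mem_top _
  obtain ⟨k, hk⟩ := Subgroup.mem_zpowers_iff.mp hy'
  have hk' : ⁅a, b⁆ ^ k = y := by
    have := congrArg (fun k : proj.ker => (k : M)) hk
    simpa using this
  rw [← hk']
  apply Subgroup.zpow_mem
  rw [commutator_eq_closure]
  exact Subgroup.subset_closure ⟨a, b, rfl⟩

/-- The triple cover of `A₆`. -/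
theorem exists_triple_cover : ∃ (X : Type) (_ : Group X) (_ : Finite X)
    (π : X →* alternatingGroup (Fin 6)), Function.Surjective π ∧ π.ker ≤ Subgroup.center X ∧
      π.ker ≤ commutator X ∧ Nat.card π.ker = 3 :=
  ⟨M, inferInstance, inferInstance, proj, proj_surjective, ker_le_center, ker_le_commutator,
    card_ker⟩

end Cfsg.Agent.Helper3.TripleA6
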