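import Mathlib
import Cfsg.Agent.Helper1.PGroup

set_option autoImplicit false

namespace Cfsg.Agent.Helper3.TwoGen

open scoped commutatorElement

universe u

/-- In a finite `p`-group whose Frattini quotient has order `p²`, a normal subgroup not contained in
the Frattini subgroup has a cyclic supplement. -/
theorem exists_supplement {S : Type u} [Group S] [Finite S] {p : ℕ} [hp : Fact p.Prime]
    (hS : IsPGroup p S) (hidx : (frattini S).index = p ^ 2) (A : Subgroup S) [hAn : A.Normal]
    (hA : ¬ A ≤ frattini S) : ∃ y : S, ∀ x : S, ∃ a ∈ A, ∃ k : ℤ, x = a * y ^ k := by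
  obtain ⟨x, hxA, hxΦ⟩ := SetLike.not_le_iff_exists.1 hA
  have hcardV : Nat.card (S ⧸ frattini S) = p ^ 2 := by
    rw [← Subgroup.index_eq_card]; exact hidx
  set xb : S ⧸ frattini S := (x : S ⧸ frattini S) with hxb
  have hxb1 : xb ≠ 1 := fun h => hxΦ ((QuotientGroup.eq_one_iff x).1 h)
  have hxbp : xb ^ p = 1 := by
    rw [hxb, ← QuotientGroup.mk_pow]
    exact (QuotientGroup.eq_one_iff _).2 (Cfsg.Agent.Helper1.IsPGroup.pow_mem_frattini hS x)
  have hxbo : orderOf xb = p := orderOf_eq_prime hxbp hxb1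
  have hcardX : Nat.card (Subgroup.zpowers xb) = p := by rw [Nat.card_zpowers, hxbo]
  have hp1 : 1 < p := hp.out.one_lt
  have hne : Subgroup.zpowers xb ≠ ⊤ := by
    intro h
    rw [h, Subgroup.card_top, hcardV] at hcardX
    nlinarith
  obtain ⟨yb, -, hyb⟩ := SetLike.exists_of_lt (lt_top_iff_ne_top.2 hne)
  obtain ⟨y, rfl⟩ := QuotientGroup.mk_surjective yb
  -- the two images generate the quotient
  have hW : Subgroup.zpowers xb ⊔ Subgroup.zpowers (y : S ⧸ frattini S) = ⊤ := by
    set W := Subgroup.zpowers xb ⊔ Subgroup.zpowers (y : S ⧸ frattini S) with hWdef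
    have h1 : Nat.card W ∣ p ^ 2 := by rw [← hcardV]; exact Subgroup.card_subgroup_dvd_card W
    have h2 : p ∣ Nat.card W := by
      rw [← hcardX]; exact Subgroup.card_dvd_of_le le_sup_left
    have h3 : Nat.card W ≠ p := by
      intro h
      have : Subgroup.zpowers xb = W := by
        apply Subgroup.eq_of_le_of_card_ge le_sup_left
        rw [h, hcardX]
      apply hyb
      rw [this]
      exact le_sup_right (a := Subgroup.zpowers xb) (Subgroup.mem_zpowers _)
    obtain ⟨j, hj, hjW⟩ := (Nat.dvd_prime_pow hp.out).1 h1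
    have hj2 : j = 2 := by
      interval_cases j
      · rw [hjW, pow_zero] at h2
        exact absurd (Nat.le_of_dvd one_pos h2) (by omega)
      · rw [pow_one] at hjW; exact absurd hjW h3
      · rfl
    rw [hj2] at hjW
    exact (Subgroup.card_eq_iff_eq_top W).1 (by rw [hjW, hcardV])
  -- so x and y generate modulo the Frattini subgroup
  have hK : (Subgroup.zpowers x ⊔ Subgroup.zpowers y) ⊔ frattini S = ⊤ := by
    rw [eq_top_iff]
    intro s _
    have h1 : (s : S ⧸ frattini S) ∈ Subgroup.zpowers xb ⊔ Subgroup.zpowers (y : S ⧸ frattini S) := by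
      rw [hW]; trivial
    have h2 : Subgroup.zpowers xb ⊔ Subgroup.zpowers (y : S ⧸ frattini S) =
        (Subgroup.zpowers x ⊔ Subgroup.zpowers y).map (QuotientGroup.mk' (frattini S)) := by
      rw [Subgroup.map_sup, MonoidHom.map_zpowers, MonoidHom.map_zpowers]
      rfl
    rw [h2] at h1
    obtain ⟨k, hk, hks⟩ := h1
    have h3 : k⁻¹ * s ∈ frattini S := by
      rw [← QuotientGroup.eq_one_iff, QuotientGroup.mk_mul, QuotientGroup.mk_inv]
      have : (k : S ⧸ frattini S) = (s : S ⧸ frattini S) := hks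
      rw [this, inv_mul_cancel]
    have : s = k * (k⁻¹ * s) := by group
    rw [this]
    exact Subgroup.mul_mem _ (Subgroup.mem_sup_left hk) (Subgroup.mem_sup_right h3)
  have hKtop : Subgroup.zpowers x ⊔ Subgroup.zpowers y = ⊤ := frattini_nongenerating hK
  have hAy : A ⊔ Subgroup.zpowers y = ⊤ := by
    rw [eq_top_iff, ← hKtop]
    exact sup_le_sup_right ((Subgroup.zpowers_le).2 hxA) _
  refine ⟨y, fun s => ?_⟩
  have hs : s ∈ (↑(A ⊔ Subgroup.zpowers y) : Set S) := by rw [hAy]; trivial
  rw [Subgroup.normal_mul] at hs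
  obtain ⟨a, ha, z, hz, rfl⟩ := Set.mem_mul.1 hs
  obtain ⟨k, rfl⟩ := Subgroup.mem_zpowers_iff.1 hz
  exact ⟨a, ha, k, rfl⟩

/-- With a cyclic supplement, all commutators lie in the normal subgroup. -/
theorem commutator_mem_of_supplement {S : Type u} [Group S] (A : Subgroup S) [hAn : A.Normal]
    (y : S) (h : ∀ x : S, ∃ a ∈ A, ∃ k : ℤ, x = a * y ^ k) (s t : S) : ⁅s, t⁆ ∈ A := by
  rw [← QuotientGroup.eq_one_iff, ← QuotientGroup.mk'_apply, map_commutatorElement,
    commutatorElement_eq_one_iff_commute]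
  obtain ⟨a, ha, k, rfl⟩ := h s
  obtain ⟨b, hb, l, rfl⟩ := h t
  have e1 : (QuotientGroup.mk' A) (a * y ^ k) = ((QuotientGroup.mk' A) y) ^ k := by
    rw [map_mul, map_zpow, QuotientGroup.mk'_apply, (QuotientGroup.eq_one_iff a).2 ha, one_mul]
  have e2 : (QuotientGroup.mk' A) (b * y ^ l) = ((QuotientGroup.mk' A) y) ^ l := by
    rw [map_mul, map_zpow, QuotientGroup.mk'_apply, (QuotientGroup.eq_one_iff b).2 hb, one_mul]
  rw [e1, e2]
  exact (Commute.refl _).zpow_zpow k l

end Cfsg.Agent.Helper3.TwoGen
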