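import Mathlib
import Cfsg.Agent.Helper3.TwoGenA
import Cfsg.Agent.Helper1.Tate
import Cfsg.Agent.Helper1.Fitting
import Cfsg.Agent.Helper2.PComp1
import Cfsg.Prelude.Def_Solvable

set_option autoImplicit false

namespace Cfsg.Agent.Helper3.TwoGen

open scoped commutatorElement

universe u

variable {G : Type u} [Group G]

/-- The image in `G` of the Frattini subgroup of `P`. -/
def Phi (P : Subgroup G) : Subgroup G := (frattini ↥P).map P.subtype

/-- The hypotheses. -/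
structure Hyp {p : ℕ} [Fact p.Prime] (P : Sylow p G) : Prop where
  na : ¬ IsMulCommutative (P : Subgroup G)
  gen : (frattini ↥(P : Subgroup G)).index = p ^ 2
  core : Cfsg.pPrimeCore p G = ⊥
  frat : (Phi (P : Subgroup G)).normalCore = ⊥

variable [Finite G] {p : ℕ} [hp : Fact p.Prime] {P : Sylow p G}

/-- A `P`-invariant subgroup whose intersection with `P` is not inside the Frattini subgroup
supplements a cyclic subgroup, and contains all commutators of `P`. -/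
theorem gen_of_not_le (hgen : (frattini ↥(P : Subgroup G)).index = p ^ 2) (A : Subgroup G)
    (hAn : ∀ x ∈ (P : Subgroup G), ∀ a ∈ A, x * a * x⁻¹ ∈ A)
    (hA : ¬ A ⊓ (P : Subgroup G) ≤ Phi (P : Subgroup G)) :
    ∃ y ∈ (P : Subgroup G), (∀ x ∈ (P : Subgroup G), ∃ a ∈ A ⊓ (P : Subgroup G), ∃ k : ℤ,
      x = a * y ^ k) ∧ ∀ s ∈ (P : Subgroup G), ∀ t ∈ (P : Subgroup G), ⁅s, t⁆ ∈ A := by
  haveI hn : (A.subgroupOf (P : Subgroup G)).Normal := by
    refine ⟨fun a ha x => ?_⟩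
    rw [Subgroup.mem_subgroupOf] at ha ⊢
    simpa using hAn x x.2 a ha
  have hnot : ¬ A.subgroupOf (P : Subgroup G) ≤ frattini ↥(P : Subgroup G) := by
    intro h
    apply hA
    intro z hz
    exact ⟨⟨z, hz.2⟩, h (Subgroup.mem_subgroupOf.2 hz.1), rfl⟩
  obtain ⟨y, hy⟩ := exists_supplement P.2 hgen (A.subgroupOf (P : Subgroup G)) hnot
  refine ⟨y, y.2, ?_, ?_⟩
  · intro x hx
    obtain ⟨a, ha, k, hk⟩ := hy ⟨x, hx⟩
    refine ⟨a, ⟨Subgroup.mem_subgroupOf.1 ha, a.2⟩, k, ?_⟩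
    have := congrArg Subtype.val hk
    simpa using this
  · intro s hs t ht
    have := commutator_mem_of_supplement (A.subgroupOf (P : Subgroup G)) y hy ⟨s, hs⟩ ⟨t, ht⟩
    rw [Subgroup.mem_subgroupOf] at this
    simpa [commutatorElement_def] using this

/-- Normal subgroups meeting `P` inside `Φ(P)` are trivial. -/
theorem normal_eq_bot (h : Hyp P) (N : Subgroup G) [hN : N.Normal]
    (hle : N ⊓ (P : Subgroup G) ≤ Phi (P : Subgroup G)) : N = ⊥ := by
  obtain ⟨Q, C, hCn, hCQ⟩ := Cfsg.Agent.Helper1.tate_normal_pcomplement P N hle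
  have hcop : (Nat.card C).Coprime p := by
    rw [← hCQ.index_eq_card]
    exact ((Nat.Prime.coprime_iff_not_dvd hp.out).2 Q.not_dvd_index).symm
  have hC1 : C ≤ Cfsg.pPrimeCore p ↥N := Cfsg.Agent.Helper1.le_pPrimeCore hCn hcop
  have hC2 : C.map N.subtype ≤ Cfsg.pPrimeCore p G :=
    (Subgroup.map_mono hC1).trans (Cfsg.Agent.Helper2.pPrimeCore_normal_le p N)
  rw [h.core, le_bot_iff] at hC2
  have hCbot : C = ⊥ := by
    rw [eq_bot_iff]
    intro c hc
    have : (c : G) ∈ C.map N.subtype := ⟨c, hc, rfl⟩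
    rw [hC2, Subgroup.mem_bot] at this
    rw [Subgroup.mem_bot]
    exact Subtype.ext this
  have hNp : IsPGroup p N := by
    have h1 := hCQ.card_mul_card
    rw [hCbot, Subgroup.card_bot, one_mul] at h1
    obtain ⟨k, hk⟩ := IsPGroup.iff_card.1 Q.2
    exact IsPGroup.of_card (n := k) (by rw [← h1, hk])
  have hNP : N ≤ (P : Subgroup G) := hNp.le_sylow_of_normal P
  have hNΦ : N ≤ Phi (P : Subgroup G) := by
    have : N ⊓ (P : Subgroup G) = N := inf_eq_left.2 hNP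
    rwa [this] at hle
  have := (Subgroup.normal_le_normalCore).2 hNΦ
  rwa [h.frat, le_bot_iff] at this

/-- Two nontrivial normal subgroups meet nontrivially. -/
theorem normal_inf_ne_bot (h : Hyp P) (N₁ N₂ : Subgroup G) [hN₁ : N₁.Normal] [hN₂ : N₂.Normal]
    (h1 : N₁ ≠ ⊥) (h2 : N₂ ≠ ⊥) : N₁ ⊓ N₂ ≠ ⊥ := by
  intro hbot
  have hn1 : ¬ N₁ ⊓ (P : Subgroup G) ≤ Phi (P : Subgroup G) := fun hle => h1 (normal_eq_bot h N₁ hle)
  have hn2 : ¬ N₂ ⊓ (P : Subgroup G) ≤ Phi (P : Subgroup G) := fun hle => h2 (normal_eq_bot h N₂ hle)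
  obtain ⟨-, -, -, hc1⟩ := gen_of_not_le h.gen N₁ (fun x _ a ha => hN₁.conj_mem a ha x) hn1
  obtain ⟨-, -, -, hc2⟩ := gen_of_not_le h.gen N₂ (fun x _ a ha => hN₂.conj_mem a ha x) hn2
  apply h.na
  constructor; constructor
  rintro ⟨s, hs⟩ ⟨t, ht⟩
  apply Subtype.ext
  have h3 : ⁅s, t⁆ ∈ N₁ ⊓ N₂ := ⟨hc1 s hs t ht, hc2 s hs t ht⟩
  rw [hbot, Subgroup.mem_bot, commutatorElement_eq_one_iff_commute] at h3
  exact h3.eq

/-- There is a least nontrivial normal subgroup. -/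
theorem exists_least (h : Hyp P) :
    ∃ M : Subgroup G, M.Normal ∧ M ≠ ⊥ ∧ ∀ N : Subgroup G, N.Normal → N ≠ ⊥ → M ≤ N := by
  let 𝒮 : Set (Subgroup G) := {X | X.Normal ∧ X ≠ ⊥}
  have htop : (⊤ : Subgroup G) ∈ 𝒮 := by
    refine ⟨inferInstance, fun htb => h.na ?_⟩
    constructor; constructor
    intro a b
    have : Subsingleton G := by
      rw [← Subgroup.subsingleton_iff, ← subsingleton_iff_bot_eq_top]; exact htb.symm
    exact Subsingleton.elim _ _
  obtain ⟨M, -, hMmin⟩ := (Set.toFinite 𝒮).exists_le_minimal htop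
  obtain ⟨hMn, hMne⟩ := hMmin.prop
  refine ⟨M, hMn, hMne, fun N hNn hNne => ?_⟩
  haveI := hMn
  haveI := hNn
  have h1 : M ⊓ N ∈ 𝒮 := ⟨inferInstance, normal_inf_ne_bot h M N hMne hNne⟩
  have h2 : M ≤ M ⊓ N := hMmin.le_of_le h1 inf_le_left
  exact h2.trans inf_le_right

/-- The image of `P` modulo a nontrivial normal subgroup is cyclic. -/
theorem cyclic_image (h : Hyp P) (N : Subgroup G) [hN : N.Normal] (hne : N ≠ ⊥) :
    IsCyclic ↥((P : Subgroup G).map (QuotientGroup.mk' N)) := by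
  have hn1 : ¬ N ⊓ (P : Subgroup G) ≤ Phi (P : Subgroup G) := fun hle => hne (normal_eq_bot h N hle)
  obtain ⟨y, hyP, hy, -⟩ := gen_of_not_le h.gen N (fun x _ a ha => hN.conj_mem a ha x) hn1
  refine ⟨⟨⟨(QuotientGroup.mk' N) y, Subgroup.mem_map_of_mem _ hyP⟩, ?_⟩⟩
  rintro ⟨_, x, hx, rfl⟩
  obtain ⟨a, ha, k, rfl⟩ := hy x hx
  refine ⟨k, ?_⟩
  apply Subtype.ext
  simp only [Subgroup.coe_zpow, map_mul, map_zpow, QuotientGroup.mk'_apply]
  rw [(QuotientGroup.eq_one_iff a).2 ha.1, one_mul]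

end Cfsg.Agent.Helper3.TwoGen
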