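import Mathlib
import Cfsg.Agent.Helper3.TwoGenB
import Cfsg.Agent.Helper2.Layer3
import Cfsg.Agent.Helper2.Balance5
import Cfsg.Agent.Helper1.Gaschutz
import Cfsg.Agent.Helper1.Transfer1
import Cfsg.Agent.Helper1.Subnormal
import Cfsg.Agent.Helper1.CNGroup2

set_option autoImplicit false

namespace Cfsg.Agent.Helper3.TwoGen

open scoped commutatorElement

universe u

variable {G : Type u} [Group G] [Finite G] {p : ℕ} [hp : Fact p.Prime] {P : Sylow p G}

theorem gfit_ne_bot (h : Hyp P) : Cfsg.generalizedFittingSubgroup G ≠ ⊥ := by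
  intro hbot
  have h1 := Cfsg.Agent.Helper2.centralizer_generalizedFittingSubgroup_le (G := G)
  rw [hbot] at h1
  have h2 : (⊤ : Subgroup G) ≤ ⊥ := by
    refine le_trans ?_ h1
    intro x _
    rw [Subgroup.mem_centralizer_iff]
    intro y hy
    have : y = 1 := hy
    rw [this, one_mul, mul_one]
  apply h.na
  constructor; constructor
  intro a b
  apply Subtype.ext
  have ha : (a : G) = 1 := by
    have : (a : G) ∈ (⊥ : Subgroup G) := h2 (Subgroup.mem_top _)
    exact this
  have hb : (b : G) = 1 := by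
    have : (b : G) ∈ (⊥ : Subgroup G) := h2 (Subgroup.mem_top _)
    exact this
  simp [ha, hb]

/-- Case B: the least normal subgroup is not commutative. -/
theorem gfit_le_of_nonabelian (M : Subgroup G) [hMn : M.Normal] (hMne : M ≠ ⊥)
    (hleast : ∀ N : Subgroup G, N.Normal → N ≠ ⊥ → M ≤ N)
    (hna : ¬ ∀ a ∈ M, ∀ b ∈ M, a * b = b * a) :
    Subgroup.centralizer (M : Set G) = ⊥ ∧ Cfsg.fittingSubgroup G = ⊥ ∧
      Cfsg.generalizedFittingSubgroup G ≤ M := by
  have hC : Subgroup.centralizer (M : Set G) = ⊥ := by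
    by_contra hne
    apply hna
    intro a ha b hb
    have := hleast _ inferInstance hne hb
    rw [Subgroup.mem_centralizer_iff] at this
    exact this a ha
  have hF : Cfsg.fittingSubgroup G = ⊥ := by
    by_contra hne
    have hMF : M ≤ Cfsg.fittingSubgroup G := hleast _ inferInstance hne
    have hFnil : Group.IsNilpotent ↥(Cfsg.fittingSubgroup G) :=
      Cfsg.Agent.Helper1.fittingSubgroup_isNilpotent
    have hMnil : Group.IsNilpotent ↥M := by
      haveI := hFnil
      exact Cfsg.Agent.Helper2.isNilpotent_of_mulEquiv (Subgroup.subgroupOfEquivOfLe hMF)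
        inferInstance
    obtain ⟨z, hzM, hz1, hzc⟩ := Cfsg.Agent.Helper1.exists_central_ne_one hMnil hMne
    apply hz1
    have : z ∈ Subgroup.centralizer (M : Set G) := by
      rw [Subgroup.mem_centralizer_iff]
      intro y hy
      exact (hzc y hy).symm
    rw [hC] at this
    exact this
  refine ⟨hC, hF, ?_⟩
  unfold Cfsg.generalizedFittingSubgroup
  rw [hF, sup_bot_eq]
  apply sSup_le
  intro K hK
  rcases Cfsg.Agent.Helper2.component_le_or_commutator_eq_bot K M hK
    (by rw [Subgroup.normalizer_eq_top]; exact le_top) with h1 | h1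
  · exact h1
  · exfalso
    rw [Subgroup.commutator_eq_bot_iff_le_centralizer, hC] at h1
    exact Cfsg.Agent.Helper2.component_ne_bot hK (le_bot_iff.1 h1)


omit [Finite G] in
/-- elements `a y^k` with `a` in a commutative normal subgroup commute as soon as they centralize it -/
theorem comm_of_centralizes (M : Subgroup G) (hab : ∀ a ∈ M, ∀ b ∈ M, a * b = b * a) (y : G)
    (D : Subgroup G) (hD : ∀ x ∈ D, ∃ a ∈ M, ∃ k : ℤ, x = a * y ^ k)
    (hDM : ∀ d ∈ D, ∀ m ∈ M, d * m = m * d) : ∀ x ∈ D, ∀ x' ∈ D, x * x' = x' * x := by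
  intro x hx x' hx'
  obtain ⟨a, ha, k, hk⟩ := hD x hx
  obtain ⟨a', ha', k', hk'⟩ := hD x' hx'
  have hpow : ∀ (z : G) (hz : z ∈ D) (b : G) (hb : b ∈ M) (j : ℤ), z = b * y ^ j →
      ∀ m ∈ M, Commute (y ^ j) m := by
    intro z hz b hb j hzj m hm
    have e : y ^ j = b⁻¹ * z := by rw [hzj]; group
    rw [e]
    have h1 : Commute b⁻¹ m := (hab b⁻¹ (M.inv_mem hb) m hm)
    have h2 : Commute z m := hDM z hz m hm
    exact h1.mul_left h2
  have c1 : Commute a a' := hab a ha a' ha'
  have c2 : Commute (y ^ k) a' := hpow x hx a ha k hk a' ha'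
  have c3 : Commute a (y ^ k') := (hpow x' hx' a' ha' k' hk' a ha).symm
  have c4 : Commute (y ^ k) (y ^ k') := (Commute.refl y).zpow_zpow k k'
  rw [hk, hk']
  exact ((c1.mul_right c3).mul_left (c2.mul_right c4)).eq

/-- Case A: the least normal subgroup is commutative. -/
theorem gfit_le_of_abelian (h : Hyp P) (M : Subgroup G) [hMn : M.Normal] (hMne : M ≠ ⊥)
    (hleast : ∀ N : Subgroup G, N.Normal → N ≠ ⊥ → M ≤ N)
    (hab : ∀ a ∈ M, ∀ b ∈ M, a * b = b * a) :
    Cfsg.generalizedFittingSubgroup G ≤ M := by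
  haveI hMc : IsMulCommutative ↥M := ⟨⟨fun a b => Subtype.ext (hab a a.2 b b.2)⟩⟩
  set R := Cfsg.pCore p G with hR
  haveI hRn : R.Normal := Cfsg.Agent.Helper1.pCore_normal p
  have hRp : IsPGroup p R := Cfsg.Agent.Helper1.pCore_isPGroup p
  have hRP : R ≤ (P : Subgroup G) := Cfsg.Agent.Helper1.pCore_le_sylow P
  have hFR : Cfsg.fittingSubgroup G ≤ R :=
    Cfsg.Agent.Helper2.fittingSubgroup_le_pCore_of_pPrimeCore_eq_bot p h.core
  have hMR : M ≤ R := by
    refine le_trans ?_ hFR
    apply Cfsg.Agent.Helper1.le_fittingSubgroup hMn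
    open scoped IsMulCommutative in infer_instance
  have hMP : M ≤ (P : Subgroup G) := hMR.trans hRP
  obtain ⟨y, hyP, hy, -⟩ := gen_of_not_le h.gen M (fun x _ a ha => hMn.conj_mem a ha x)
    (fun hle => hMne (normal_eq_bot h M hle))
  have hy' : ∀ D : Subgroup G, D ≤ (P : Subgroup G) → ∀ x ∈ D, ∃ a ∈ M, ∃ k : ℤ, x = a * y ^ k := by
    intro D hD x hx
    obtain ⟨a, ha, k, hk⟩ := hy x (hD hx)
    exact ⟨a, ha.1, k, hk⟩
  -- M is central in R
  have hRne : R ≠ ⊥ := fun hb => hMne (le_bot_iff.1 (hb ▸ hMR))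
  have hZR : ∀ r ∈ R, ∀ m ∈ M, r * m = m * r := by
    have hZn : (R ⊓ Subgroup.centralizer (R : Set G)).Normal := inferInstance
    have hZne : R ⊓ Subgroup.centralizer (R : Set G) ≠ ⊥ := by
      obtain ⟨z, hzR, hz1, hzc⟩ := Cfsg.Agent.Helper1.exists_central_ne_one hRp.isNilpotent hRne
      intro hb
      apply hz1
      have : z ∈ R ⊓ Subgroup.centralizer (R : Set G) := by
        refine Subgroup.mem_inf.2 ⟨hzR, ?_⟩
        rw [Subgroup.mem_centralizer_iff]
        intro y hy
        exact (hzc y hy).symm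
      rw [hb] at this
      exact this
    intro r hr m hm
    have := (Subgroup.mem_inf.1 (hleast _ hZn hZne hm)).2
    rw [Subgroup.mem_centralizer_iff] at this
    exact this r hr
  have hRab : ∀ x ∈ R, ∀ x' ∈ R, x * x' = x' * x :=
    comm_of_centralizes M hab y R (hy' R hRP) hZR
  have hRexp : ∀ x ∈ R, x ^ p = 1 := by
    intro x hx
    have : x ^ p ∈ (Phi (P : Subgroup G)).normalCore := by
      show ∀ b : G, b * x ^ p * b⁻¹ ∈ Phi (P : Subgroup G)
      intro b
      have hb : b * x * b⁻¹ ∈ (P : Subgroup G) := hRP (hRn.conj_mem x hx b)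
      rw [← conj_pow]
      refine ⟨(⟨b * x * b⁻¹, hb⟩ : (P : Subgroup G)) ^ p,
        Cfsg.Agent.Helper1.IsPGroup.pow_mem_frattini P.2 _, ?_⟩
      simp
    rw [h.frat] at this
    exact this
  -- R = M
  have hRM : R ≤ M := by
    by_contra hnot
    obtain ⟨r, hrR, hrM⟩ := SetLike.not_le_iff_exists.1 hnot
    obtain ⟨a, ha, k, hk⟩ := hy r (hRP hrR)
    have hg0R : y ^ k ∈ R := by
      have : y ^ k = a⁻¹ * r := by rw [hk]; group
      rw [this]; exact R.mul_mem (R.inv_mem (hMR ha.1)) hrR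
    have hg0M : y ^ k ∉ M := by
      intro hc
      apply hrM
      rw [hk]; exact M.mul_mem ha.1 hc
    have hg0p : (y ^ k) ^ p = 1 := hRexp _ hg0R
    obtain ⟨e, he⟩ : ∃ e, orderOf y = p ^ e := by
      obtain ⟨e, he⟩ := (IsPGroup.iff_orderOf.1 P.2) ⟨y, hyP⟩
      exact ⟨e, by rw [← he, Subgroup.orderOf_mk]⟩
    set yb : G ⧸ M := (QuotientGroup.mk' M) y with hyb
    have hd : orderOf yb ∣ p ^ e := by rw [← he]; exact orderOf_map_dvd _ y
    obtain ⟨m, hme, hm⟩ := (Nat.dvd_prime_pow hp.out).1 hd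
    have h1 : ¬ ((orderOf yb : ℤ) ∣ k) := by
      intro hdk
      rw [orderOf_dvd_iff_zpow_eq_one] at hdk
      apply hg0M
      rw [← QuotientGroup.eq_one_iff, ← QuotientGroup.mk'_apply, map_zpow]
      exact hdk
    have h2 : ((orderOf y : ℤ) ∣ k * p) := by
      rw [orderOf_dvd_iff_zpow_eq_one, zpow_mul, zpow_natCast]
      exact hg0p
    have hem : e ≤ m := by
      by_contra hlt
      push Not at hlt
      apply h1
      rw [hm]
      have h3 : ((p ^ (m + 1) : ℕ) : ℤ) ∣ k * p := by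
        refine dvd_trans ?_ h2
        rw [he]
        exact_mod_cast pow_dvd_pow p hlt
      have hp0 : (p : ℤ) ≠ 0 := by exact_mod_cast hp.out.ne_zero
      rw [pow_succ] at h3
      push_cast at h3 ⊢
      exact (mul_dvd_mul_iff_right hp0).1 h3
    have hyd : y ^ (orderOf yb) = 1 := by
      rw [← orderOf_dvd_iff_pow_eq_one, he, hm]
      exact pow_dvd_pow p hem
    have hYM : Subgroup.zpowers y ⊓ M = ⊥ := by
      rw [eq_bot_iff]
      intro z hz
      obtain ⟨hz1, hz2⟩ := Subgroup.mem_inf.1 hz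
      obtain ⟨i, rfl⟩ := Subgroup.mem_zpowers_iff.1 hz1
      rw [Subgroup.mem_bot]
      have : yb ^ i = 1 := by
        rw [hyb, ← map_zpow, QuotientGroup.mk'_apply, QuotientGroup.eq_one_iff]; exact hz2
      rw [← orderOf_dvd_iff_zpow_eq_one] at this
      obtain ⟨c, rfl⟩ := this
      rw [zpow_mul, zpow_natCast, hyd, one_zpow]
    have hMY : M ⊔ Subgroup.zpowers y = (P : Subgroup G) := by
      apply le_antisymm
      · exact sup_le hMP ((Subgroup.zpowers_le).2 hyP)
      · intro x hx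
        obtain ⟨a, ha, k, rfl⟩ := hy x hx
        exact Subgroup.mul_mem _ (Subgroup.mem_sup_left ha.1)
          (Subgroup.mem_sup_right (Subgroup.zpow_mem_zpowers y k))
    have hcop : (Nat.card M).Coprime (P : Subgroup G).index := by
      have hMp : IsPGroup p M := hRp.to_le hMR
      obtain ⟨j, hj⟩ := IsPGroup.iff_card.1 hMp
      rw [hj]
      exact Nat.Coprime.pow_left j ((Nat.Prime.coprime_iff_not_dvd hp.out).2 P.not_dvd_index)
    obtain ⟨H, hH⟩ := Cfsg.Agent.Helper1.gaschutz_exists M (P : Subgroup G) hcop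
      (Subgroup.zpowers y) hYM hMY
    have hdecomp : ∀ g : G, ∃ m ∈ M, ∃ h' ∈ H, g = m * h' := by
      intro g
      have : g ∈ (↑(M ⊔ H) : Set G) := by rw [hH.sup_eq_top]; trivial
      rw [Subgroup.normal_mul] at this
      obtain ⟨m, hm, h', hh', rfl⟩ := Set.mem_mul.1 this
      exact ⟨m, hm, h', hh', rfl⟩
    have hDn : (R ⊓ H).Normal := by
      refine ⟨fun d hd g => ?_⟩
      obtain ⟨hdR, hdH⟩ := Subgroup.mem_inf.1 hd
      obtain ⟨m, hm, h', hh', rfl⟩ := hdecomp g
      have hd1 : h' * d * h'⁻¹ ∈ R ⊓ H :=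
        Subgroup.mem_inf.2 ⟨hRn.conj_mem d hdR h', H.mul_mem (H.mul_mem hh' hdH) (H.inv_mem hh')⟩
      have : m * h' * d * (m * h')⁻¹ = m * (h' * d * h'⁻¹) * m⁻¹ := by group
      rw [this]
      have hc : m * (h' * d * h'⁻¹) = (h' * d * h'⁻¹) * m :=
        hRab _ (hMR hm) _ (Subgroup.mem_inf.1 hd1).1
      rw [hc, mul_inv_cancel_right]
      exact hd1
    have hDne : R ⊓ H ≠ ⊥ := by
      obtain ⟨m, hm, h', hh', hr⟩ := hdecomp r
      intro hb
      have : h' ∈ R ⊓ H := by
        refine Subgroup.mem_inf.2 ⟨?_, hh'⟩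
        have : h' = m⁻¹ * r := by rw [hr]; group
        rw [this]; exact R.mul_mem (R.inv_mem (hMR hm)) hrR
      rw [hb, Subgroup.mem_bot] at this
      apply hrM
      rw [hr, this, mul_one]; exact hm
    have hMD := hleast _ hDn hDne
    have hMH : M ⊓ H = ⊥ := disjoint_iff.1 hH.disjoint
    apply hMne
    rw [eq_bot_iff, ← hMH]
    exact le_inf le_rfl (hMD.trans inf_le_right)
  -- no components
  have hE : Cfsg.layer G = ⊥ := by
    set C := Subgroup.centralizer (M : Set G) with hC
    haveI hCn : C.Normal := inferInstance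
    obtain ⟨Q, hQ⟩ := Cfsg.Agent.Helper1.sylow_inf_subnormal p C hCn.isSubnormal P
    have hPCab : ∀ x ∈ (P : Subgroup G) ⊓ C, ∀ x' ∈ (P : Subgroup G) ⊓ C, x * x' = x' * x := by
      apply comm_of_centralizes M hab y _ (hy' _ inf_le_left)
      intro d hd m hm
      have := (Subgroup.mem_inf.1 hd).2
      rw [hC, Subgroup.mem_centralizer_iff] at this
      exact (this m hm).symm
    haveI hQc : IsMulCommutative (Q : Subgroup C) := by
      constructor; constructor
      rintro ⟨a, ha⟩ ⟨b, hb⟩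
      apply Subtype.ext
      apply Subtype.ext
      rw [hQ, Subgroup.mem_subgroupOf] at ha hb
      exact hPCab a (Subgroup.mem_inf.2 ⟨ha, a.2⟩) b (Subgroup.mem_inf.2 ⟨hb, b.2⟩)
    have hHall : Nat.Coprime (Nat.card (Q : Subgroup C)) (Q : Subgroup C).index := by
      obtain ⟨j, hj⟩ := IsPGroup.iff_card.1 Q.2
      rw [hj]
      exact Nat.Coprime.pow_left j ((Nat.Prime.coprime_iff_not_dvd hp.out).2 Q.not_dvd_index)
    have htr := Cfsg.Agent.Helper1.abelian_hall_inf_commutator_inf_center (Q : Subgroup C) hHall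
    have hC'n : ((commutator C).map C.subtype).Normal := inferInstance
    have hC'bot : (commutator C).map C.subtype = ⊥ := by
      by_contra hne
      have hMC' := hleast _ hC'n hne
      obtain ⟨m, hm1⟩ := Subgroup.ne_bot_iff_exists_ne_one.1 hMne
      obtain ⟨c, hc, hcm⟩ := hMC' m.2
      have hcm' : (c : G) = m := hcm
      have : c ∈ (Q : Subgroup C) ⊓ commutator C ⊓ Subgroup.center C := by
        refine Subgroup.mem_inf.2 ⟨Subgroup.mem_inf.2 ⟨?_, hc⟩, ?_⟩
        · rw [hQ, Subgroup.mem_subgroupOf, hcm']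
          exact hMP m.2
        · rw [Subgroup.mem_center_iff]
          intro g
          apply Subtype.ext
          simp only [Subgroup.coe_mul, hcm']
          have hg : (g : G) ∈ Subgroup.centralizer (M : Set G) := g.2
          rw [Subgroup.mem_centralizer_iff] at hg
          exact (hg m m.2).symm
      rw [htr, Subgroup.mem_bot] at this
      apply hm1
      apply Subtype.ext
      rw [← hcm', this]; rfl
    have hCab : ∀ a ∈ C, ∀ b ∈ C, a * b = b * a := by
      intro a ha b hb
      have h1 : ⁅(⟨a, ha⟩ : C), ⟨b, hb⟩⁆ ∈ commutator C :=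
        Subgroup.commutator_mem_commutator (Subgroup.mem_top _) (Subgroup.mem_top _)
      have h2 : ((⁅(⟨a, ha⟩ : C), ⟨b, hb⟩⁆ : C) : G) ∈ (commutator C).map C.subtype :=
        ⟨_, h1, rfl⟩
      rw [hC'bot, Subgroup.mem_bot] at h2
      have h3 : ⁅a, b⁆ = 1 := by simpa [commutatorElement_def] using h2
      exact (commutatorElement_eq_one_iff_commute.1 h3).eq
    unfold Cfsg.layer
    rw [eq_bot_iff]
    apply sSup_le
    intro K hK
    exfalso
    rcases Cfsg.Agent.Helper2.component_le_or_commutator_eq_bot K M hK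
      (by rw [Subgroup.normalizer_eq_top]; exact le_top) with h1 | h1
    · exact Cfsg.Agent.Helper2.component_not_commutative hK
        (fun a ha b hb => hab a (h1 ha) b (h1 hb))
    · rw [Subgroup.commutator_eq_bot_iff_le_centralizer] at h1
      exact Cfsg.Agent.Helper2.component_not_commutative hK
        (fun a ha b hb => hCab a (h1 ha) b (h1 hb))
  unfold Cfsg.generalizedFittingSubgroup
  rw [hE, bot_sup_eq]
  exact hFR.trans hRM

end Cfsg.Agent.Helper3.TwoGen
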