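import Mathlib
import Cfsg.Agent.Helper3.TwoGenC
import Cfsg.Agent.Helper2.PComp4

set_option autoImplicit false

namespace Cfsg.Agent.Helper3.TwoGen

open scoped commutatorElement

universe u

variable {G : Type u} [Group G] [Finite G] {p : ℕ} [hp : Fact p.Prime] {P : Sylow p G}

theorem frattini_map_mulEquiv {A B : Type*} [Group A] [Group B] (e : A ≃* B) :
    (frattini A).map e.toMonoidHom = frattini B := by
  apply le_antisymm
  · rw [Subgroup.map_le_iff_le_comap]
    exact frattini_le_comap_frattini_of_surjective (φ := e.toMonoidHom) e.surjective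
  · intro x hx
    have h1 := frattini_le_comap_frattini_of_surjective (φ := e.symm.toMonoidHom) e.symm.surjective hx
    rw [Subgroup.mem_comap] at h1
    exact ⟨e.symm x, h1, e.apply_symm_apply x⟩

/-- Tate's theorem for a subgroup normalized by `P`. -/
theorem tate_sub (P : Sylow p G) (N : Subgroup G)
    (hNP : ∀ x ∈ (P : Subgroup G), ∀ a ∈ N, x * a * x⁻¹ ∈ N)
    (hle : N ⊓ (P : Subgroup G) ≤ Phi (P : Subgroup G)) : Cfsg.HasNormalPComplement p ↥N := by
  set H := N ⊔ (P : Subgroup G) with hH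
  have hPH : (P : Subgroup G) ≤ H := le_sup_right
  have hNH : N ≤ H := le_sup_left
  have hHn : H ≤ Subgroup.normalizer (N : Set G) := by
    apply sup_le Subgroup.le_normalizer
    intro x hx
    rw [Subgroup.mem_normalizer_iff]
    intro a
    constructor
    · exact hNP x hx a
    · intro ha
      have := hNP x⁻¹ (Subgroup.inv_mem _ hx) _ ha
      have e : x⁻¹ * (x * a * x⁻¹) * x⁻¹⁻¹ = a := by group
      rwa [e] at this
  haveI hN'n : (N.subgroupOf H).Normal := by
    refine ⟨fun a ha g => ?_⟩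
    rw [Subgroup.mem_subgroupOf] at ha ⊢
    have := (Subgroup.mem_normalizer_iff.1 (hHn g.2) (a : G)).1 ha
    simpa using this
  have hT : (N.subgroupOf H) ⊓ ((P.subtype hPH : Sylow p H) : Subgroup H) ≤
      (frattini ↥((P.subtype hPH : Sylow p H) : Subgroup H)).map
        ((P.subtype hPH : Sylow p H) : Subgroup H).subtype := by
    intro z hz
    obtain ⟨hz1, hz2⟩ := Subgroup.mem_inf.1 hz
    have hz2' : (z : G) ∈ (P : Subgroup G) := by
      have : z ∈ (P : Subgroup G).subgroupOf H := hz2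
      exact Subgroup.mem_subgroupOf.1 this
    have hz1' : (z : G) ∈ N := Subgroup.mem_subgroupOf.1 hz1
    obtain ⟨w, hw, hwz⟩ := hle (Subgroup.mem_inf.2 ⟨hz1', hz2'⟩)
    let e : ↥((P : Subgroup G).subgroupOf H) ≃* ↥(P : Subgroup G) :=
      Subgroup.subgroupOfEquivOfLe hPH
    have h1 := frattini_map_mulEquiv e.symm
    have h2 : e.symm w ∈ frattini ↥((P : Subgroup G).subgroupOf H) := by
      rw [← h1]; exact ⟨w, hw, rfl⟩
    refine ⟨e.symm w, h2, ?_⟩
    apply Subtype.ext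
    have h3 : ((e.symm w : ↥((P : Subgroup G).subgroupOf H)) : H) = ⟨(w : G), hPH w.2⟩ := by
      apply Subtype.ext
      rfl
    have h4 : (w : G) = (z : G) := hwz
    show (((e.symm w : ↥((P : Subgroup G).subgroupOf H)) : H) : G) = (z : G)
    rw [h3]
    exact h4
  have hres := Cfsg.Agent.Helper1.tate_normal_pcomplement (P.subtype hPH) (N.subgroupOf H) hT
  exact Cfsg.Agent.Helper1.hasNormalPComplement_of_mulEquiv (Subgroup.subgroupOfEquivOfLe hNH) hres


/-- A nontrivial perfect subnormal subgroup normalized by `P` is not met by `P` inside `Φ(P)`. -/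
theorem perfect_not_le (h : Hyp P) (N : Subgroup G)
    (hNP : ∀ x ∈ (P : Subgroup G), ∀ a ∈ N, x * a * x⁻¹ ∈ N) (hsn : N.IsSubnormal)
    (hperf : ⁅N, N⁆ = N) (hne : N ≠ ⊥) : ¬ N ⊓ (P : Subgroup G) ≤ Phi (P : Subgroup G) := by
  intro hle
  obtain ⟨Q, C, hCn, hCQ⟩ := tate_sub P N hNP hle
  haveI : Group.IsPerfect ↥N := Subgroup.isPerfect_iff.2 hperf
  have hidx : C.index = Nat.card (Q : Subgroup N) := hCQ.symm.index_eq_card
  obtain ⟨k, hk⟩ := IsPGroup.iff_card.1 Q.2
  have hqp : IsPGroup p (↥N ⧸ C) :=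
    IsPGroup.of_card (n := k) (by rw [← Subgroup.index_eq_card, hidx, hk])
  have hsub : Subsingleton (↥N ⧸ C) := by
    by_contra hns
    rw [not_subsingleton_iff_nontrivial] at hns
    exact Group.IsPerfect.not_isNilpotent (G := ↥N ⧸ C) hqp.isNilpotent
  have hQ1 : Nat.card (Q : Subgroup N) = 1 := by
    rw [← hidx, Subgroup.index_eq_card]
    exact Nat.card_unique
  have hcop : (Nat.card N).Coprime p := by
    rw [Nat.coprime_comm, Nat.Prime.coprime_iff_not_dvd hp.out]
    intro hdvd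
    have := Q.ne_bot_of_dvd_card hdvd
    exact this (Subgroup.card_eq_one.1 hQ1)
  have := Cfsg.Agent.Helper2.le_pPrimeCore_of_subnormal N hsn hcop
  rw [h.core, le_bot_iff] at this
  exact hne this


open Cfsg.Agent.Helper2 in
/-- `P` is transitive on the components when the least normal subgroup is not commutative. -/
theorem transitive_on_components (h : Hyp P) (M : Subgroup G) [hMn : M.Normal] (hMne : M ≠ ⊥)
    (hleast : ∀ N : Subgroup G, N.Normal → N ≠ ⊥ → M ≤ N)
    (hna : ¬ ∀ a ∈ M, ∀ b ∈ M, a * b = b * a)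
    (K L : Subgroup G) (hK : Cfsg.IsComponent K) (hL : Cfsg.IsComponent L) :
    ∃ x ∈ (P : Subgroup G), L = K.map (MulAut.conj x).toMonoidHom := by
  obtain ⟨hC, hF, hFM⟩ := gfit_le_of_nonabelian M hMne hleast hna
  have hMlayer : M ≤ Cfsg.layer G := by
    have h1 : M ≤ Cfsg.generalizedFittingSubgroup G :=
      hleast _ inferInstance (gfit_ne_bot h)
    unfold Cfsg.generalizedFittingSubgroup at h1
    rwa [hF, sup_bot_eq] at h1
  by_contra hno
  push Not at hno
  set 𝒪 : Set (Subgroup G) := {X | ∃ x ∈ (P : Subgroup G), X = cj x K} with h𝒪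
  set 𝒪' : Set (Subgroup G) := {Y | Cfsg.IsComponent Y ∧ Y ∉ 𝒪} with h𝒪'
  set N₁ := sSup 𝒪 with hN₁
  set N₂ := sSup 𝒪' with hN₂
  have hK𝒪 : K ∈ 𝒪 := ⟨1, Subgroup.one_mem _, (cj_one K).symm⟩
  have hL𝒪' : L ∈ 𝒪' := ⟨hL, fun ⟨x, hx, hLx⟩ => hno x hx hLx⟩
  have h𝒪comp : ∀ X ∈ 𝒪, Cfsg.IsComponent X := by
    rintro X ⟨x, -, rfl⟩
    exact isComponent_cj hK x
  have hXY : ∀ X ∈ 𝒪, ∀ Y ∈ 𝒪', X ≤ Subgroup.centralizer (Y : Set G) := by
    intro X hX Y hY
    rw [← Subgroup.commutator_eq_bot_iff_le_centralizer]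
    apply components_commute (h𝒪comp X hX) hY.1
    rintro rfl
    exact hY.2 hX
  have hN₁N₂ : N₁ ≤ Subgroup.centralizer (N₂ : Set G) := by
    apply sSup_le
    intro X hX
    rw [Subgroup.le_centralizer_iff]
    apply sSup_le
    intro Y hY
    rw [Subgroup.le_centralizer_iff]
    exact hXY X hX Y hY
  have hN₂N₁ : N₂ ≤ Subgroup.centralizer (N₁ : Set G) := Subgroup.le_centralizer_iff.1 hN₁N₂
  have hlayer : Cfsg.layer G ≤ N₁ ⊔ N₂ := by
    apply sSup_le
    intro X hX
    by_cases hXO : X ∈ 𝒪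
    · exact (le_sSup hXO).trans le_sup_left
    · exact (le_sSup (show X ∈ 𝒪' from ⟨hX, hXO⟩)).trans le_sup_right
  have hN₁E : N₁ ≤ Cfsg.layer G := sSup_le fun X hX => component_le_layer (h𝒪comp X hX)
  have hN₂E : N₂ ≤ Cfsg.layer G := sSup_le fun Y hY => component_le_layer hY.1
  have hinf : N₁ ⊓ N₂ = ⊥ := by
    rw [eq_bot_iff]
    intro z hz
    obtain ⟨hz1, hz2⟩ := Subgroup.mem_inf.1 hz
    have hzc1 := hN₁N₂ hz1
    have hzc2 := hN₂N₁ hz2
    rw [Subgroup.mem_centralizer_iff] at hzc1 hzc2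
    have hzM : z ∈ Subgroup.centralizer (M : Set G) := by
      rw [Subgroup.mem_centralizer_iff]
      intro m hm
      have hm' : m ∈ N₁ ⊔ N₂ := hlayer (hMlayer hm)
      have hcen : N₁ ⊔ N₂ ≤ Subgroup.centralizer ({z} : Set G) := by
        apply sup_le
        · intro n hn
          rw [Subgroup.mem_centralizer_singleton_iff]
          exact (hzc2 n hn)
        · intro n hn
          rw [Subgroup.mem_centralizer_singleton_iff]
          exact (hzc1 n hn)
      have := hcen hm'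
      rw [Subgroup.mem_centralizer_singleton_iff] at this
      exact this
    rw [hC] at hzM
    exact hzM
  -- P normalizes both
  have hmapsup : ∀ (x : G) (S : Set (Subgroup G)), (∀ X ∈ S, cj x X ∈ S) →
      ∀ a ∈ sSup S, x * a * x⁻¹ ∈ sSup S := by
    intro x S hS a ha
    have h1 : x * a * x⁻¹ ∈ cj x (sSup S) := conj_mem_cj _ x a ha
    have h2 : cj x (sSup S) ≤ sSup S := by
      show (sSup S).map (MulAut.conj x).toMonoidHom ≤ sSup S
      rw [(Subgroup.gc_map_comap (MulAut.conj x).toMonoidHom).l_sSup]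
      apply iSup₂_le
      intro X hX
      exact le_sSup (hS X hX)
    exact h2 h1
  have hP1 : ∀ x ∈ (P : Subgroup G), ∀ a ∈ N₁, x * a * x⁻¹ ∈ N₁ := by
    intro x hx
    apply hmapsup
    rintro X ⟨x', hx', rfl⟩
    exact ⟨x * x', Subgroup.mul_mem _ hx hx', cj_cj K x x'⟩
  have hP2 : ∀ x ∈ (P : Subgroup G), ∀ a ∈ N₂, x * a * x⁻¹ ∈ N₂ := by
    intro x hx
    apply hmapsup
    intro Y hY
    refine ⟨isComponent_cj hY.1 x, ?_⟩
    rintro ⟨x', hx', hYx⟩
    apply hY.2
    refine ⟨x⁻¹ * x', Subgroup.mul_mem _ (Subgroup.inv_mem _ hx) hx', ?_⟩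
    rw [← cj_cj, ← hYx, cj_cj, inv_mul_cancel, cj_one]
  -- subnormality
  have hEsn : (Cfsg.layer G).IsSubnormal := (layer_normal (G := G)).isSubnormal
  have hsn : ∀ N : Subgroup G, N ≤ Cfsg.layer G →
      Cfsg.layer G ≤ Subgroup.normalizer (N : Set G) → N.IsSubnormal := by
    intro N hNE hnorm
    haveI hn : (N.subgroupOf (Cfsg.layer G)).Normal := by
      refine ⟨fun a ha g => ?_⟩
      rw [Subgroup.mem_subgroupOf] at ha ⊢
      have := (Subgroup.mem_normalizer_iff.1 (hnorm g.2) (a : G)).1 ha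
      simpa using this
    have := hn.isSubnormal.trans' hEsn
    rwa [Subgroup.map_subgroupOf_eq_of_le hNE] at this
  have hsn1 : N₁.IsSubnormal := by
    apply hsn N₁ hN₁E
    refine hlayer.trans (sup_le Subgroup.le_normalizer ?_)
    exact hN₂N₁.trans (Subgroup.centralizer_le_normalizer _)
  have hsn2 : N₂.IsSubnormal := by
    apply hsn N₂ hN₂E
    refine hlayer.trans (sup_le ?_ Subgroup.le_normalizer)
    exact hN₁N₂.trans (Subgroup.centralizer_le_normalizer _)
  -- perfect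
  have hperf : ∀ S : Set (Subgroup G), (∀ X ∈ S, Cfsg.IsComponent X) → ⁅sSup S, sSup S⁆ = sSup S := by
    intro S hS
    apply le_antisymm
    · rw [Subgroup.commutator_le]
      intro a ha b hb
      exact Subgroup.mul_mem _ (Subgroup.mul_mem _ (Subgroup.mul_mem _ ha hb)
        (Subgroup.inv_mem _ ha)) (Subgroup.inv_mem _ hb)
    · apply sSup_le
      intro X hX
      rw [← component_perfect (hS X hX)]
      exact Subgroup.commutator_mono (le_sSup hX) (le_sSup hX)
  have hne1 : N₁ ≠ ⊥ := fun hb => component_ne_bot hK (le_bot_iff.1 (hb ▸ le_sSup hK𝒪))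
  have hne2 : N₂ ≠ ⊥ := fun hb => component_ne_bot hL (le_bot_iff.1 (hb ▸ le_sSup hL𝒪'))
  have hn1 := perfect_not_le h N₁ hP1 hsn1 (hperf 𝒪 h𝒪comp) hne1
  have hn2 := perfect_not_le h N₂ hP2 hsn2 (hperf 𝒪' (fun Y hY => hY.1)) hne2
  obtain ⟨-, -, -, hc1⟩ := gen_of_not_le h.gen N₁ hP1 hn1
  obtain ⟨-, -, -, hc2⟩ := gen_of_not_le h.gen N₂ hP2 hn2
  apply h.na
  constructor; constructor
  rintro ⟨s, hs⟩ ⟨t, ht⟩
  apply Subtype.ext
  have h3 : ⁅s, t⁆ ∈ N₁ ⊓ N₂ := Subgroup.mem_inf.2 ⟨hc1 s hs t ht, hc2 s hs t ht⟩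
  rw [hinf, Subgroup.mem_bot, commutatorElement_eq_one_iff_commute] at h3
  exact h3.eq

end Cfsg.Agent.Helper3.TwoGen
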