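import Mathlib

/-!
# Two primes between `n` and `2n` (a strengthening of Bertrand's postulate)

Adapted from Mathlib's proof of Bertrand's postulate, allowing one exceptional prime.
-/

namespace Cfsg.Agent.Helper3.TwoPrimes

open Real in
/-- A variant of `Bertrand.real_main_inequality` with one more factor `2 * x`. -/
theorem real_main_inequality' {x : ℝ} (x_large : (512 : ℝ) ≤ x) :
    x * (2 * x) * (2 * x) ^ √(2 * x) * 4 ^ (2 * x / 3) ≤ 4 ^ x := by
  let f : ℝ → ℝ := fun x => log x + log (2 * x) + √(2 * x) * log (2 * x) - log 4 / 3 * x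
  have hf' : ∀ x, 0 < x → 0 < x * (2 * x) * (2 * x) ^ √(2 * x) / 4 ^ (x / 3) := fun x h =>
    div_pos (mul_pos (mul_pos h (mul_pos two_pos h)) (rpow_pos_of_pos (mul_pos two_pos h) _))
      (rpow_pos_of_pos four_pos _)
  have hf : ∀ x, 0 < x → f x = log (x * (2 * x) * (2 * x) ^ √(2 * x) / 4 ^ (x / 3)) := by
    intro x h5
    have h6 := mul_pos (zero_lt_two' ℝ) h5
    have h7 := rpow_pos_of_pos h6 (√(2 * x))
    rw [log_div (mul_pos (mul_pos h5 h6) h7).ne' (rpow_pos_of_pos four_pos _).ne',
      log_mul (mul_pos h5 h6).ne' h7.ne', log_mul h5.ne' h6.ne',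
      log_rpow h6, log_rpow zero_lt_four, ← mul_div_right_comm, ← mul_div, mul_comm x]
  have h5 : 0 < x := lt_of_lt_of_le (by norm_num1) x_large
  rw [← div_le_one (rpow_pos_of_pos four_pos x), ← div_div_eq_mul_div, ← rpow_sub four_pos, ←
    mul_div 2 x, mul_div_left_comm, ← mul_one_sub, (by norm_num1 : (1 : ℝ) - 2 / 3 = 1 / 3),
    mul_one_div, ← log_nonpos_iff (hf' x h5).le, ← hf x h5]
  have h : ConcaveOn ℝ (Set.Ioi 0.5) f := by
    apply ConcaveOn.sub
    · apply ConcaveOn.add
      · apply ConcaveOn.add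
        · exact strictConcaveOn_log_Ioi.concaveOn.subset
            (Set.Ioi_subset_Ioi (by norm_num)) (convex_Ioi 0.5)
        · have := (strictConcaveOn_log_Ioi.concaveOn.comp_linearMap ((2 : ℝ) • LinearMap.id))
          refine this.subset ?_ (convex_Ioi 0.5)
          intro y hy
          simp only [Set.mem_Ioi, Set.mem_preimage, LinearMap.smul_apply,
            LinearMap.id_coe, id_eq, smul_eq_mul] at hy ⊢
          have : (0.5 : ℝ) = 1 / 2 := by norm_num
          rw [this] at hy
          linarith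
      convert!
        ((strictConcaveOn_sqrt_mul_log_Ioi.concaveOn.comp_linearMap ((2 : ℝ) • LinearMap.id)))
        using 1
      ext x
      simp only [Set.mem_Ioi, Set.mem_preimage, LinearMap.smul_apply,
        LinearMap.id_coe, id_eq, smul_eq_mul]
      rw [← mul_lt_mul_iff_right₀ (two_pos)]
      norm_num1
      rfl
    apply ConvexOn.smul
    · refine div_nonneg (log_nonneg (by norm_num1)) (by norm_num1)
    · exact convexOn_id (convex_Ioi (0.5 : ℝ))
  suffices ∃ x1 x2, 0.5 < x1 ∧ x1 < x2 ∧ x2 ≤ x ∧ 0 ≤ f x1 ∧ f x2 ≤ 0 by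
    obtain ⟨x1, x2, h1, h2, h0, h3, h4⟩ := this
    exact (h.right_le_of_le_left'' h1 ((h1.trans h2).trans_le h0) h2 h0 (h4.trans h3)).trans h4
  refine ⟨18, 512, by norm_num1, by norm_num1, x_large, ?_, ?_⟩
  · have : √(2 * 18 : ℝ) = 6 := (sqrt_eq_iff_mul_self_eq_of_pos (by norm_num1)).mpr (by norm_num1)
    rw [hf _ (by norm_num1), log_nonneg_iff (by positivity), this, one_le_div (by norm_num1)]
    norm_num1
  · have : √(2 * 512) = 32 :=
      (sqrt_eq_iff_mul_self_eq_of_pos (by norm_num1)).mpr (by norm_num1)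
    rw [hf _ (by norm_num1), log_nonpos_iff (hf' _ (by norm_num1)).le, this,
        div_le_one (by positivity)]
    have e1 : (512 : ℝ) = 2 ^ 9 := by norm_num
    have e2 : (2 * 512 : ℝ) = 2 ^ 10 := by norm_num
    have e4 : (4 : ℝ) = 2 ^ 2 := by norm_num
    have h1 : (512 : ℝ) * (2 * 512) * (2 * 512) ^ (32 : ℝ) = 2 ^ 339 := by
      rw [show (32 : ℝ) = ((32 : ℕ) : ℝ) by norm_num, rpow_natCast, e2, e1, ← pow_mul, ← pow_add,
        ← pow_add]
    have h2 : (2 : ℝ) ^ 340 ≤ 4 ^ (512 / 3 : ℝ) := by
      calc (2 : ℝ) ^ 340 = 4 ^ ((170 : ℕ) : ℝ) := by rw [rpow_natCast, e4, ← pow_mul]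
        _ ≤ 4 ^ (512 / 3 : ℝ) := rpow_le_rpow_of_exponent_le (by norm_num) (by norm_num)
    rw [h1]
    refine le_trans ?_ h2
    exact pow_le_pow_right₀ (by norm_num) (by norm_num)


open Nat

/-- The natural-number form of `real_main_inequality'`. -/
theorem main_inequality' {n : ℕ} (n_large : 512 ≤ n) :
    n * (2 * n) * (2 * n) ^ sqrt (2 * n) * 4 ^ (2 * n / 3) ≤ 4 ^ n := by
  rw [← @cast_le ℝ]
  simp only [cast_mul, cast_pow, ← Real.rpow_natCast, cast_ofNat]
  refine _root_.trans ?_ (real_main_inequality' (by exact_mod_cast n_large))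
  gcongr
  · have n2_pos : 0 < 2 * n := by positivity
    exact mod_cast n2_pos
  · exact_mod_cast Real.nat_sqrt_le_real_sqrt
  · norm_num1
  · exact cast_div_le.trans (by norm_cast)

/-- If `q` is the only prime in `(n, 2n]`, the central binomial coefficient is a product over
`range (2n/3+1)` and `q`. -/
theorem centralBinom_factorization_small' (n : ℕ) (n_large : 2 < n) (q : ℕ) (hq1 : n < q)
    (hq2 : q ≤ 2 * n)
    (one_prime : ∀ p : ℕ, p.Prime → n < p → p ≤ 2 * n → p = q) :
    centralBinom n = q ^ (centralBinom n).factorization q *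
      ∏ p ∈ Finset.range (2 * n / 3 + 1), p ^ (centralBinom n).factorization p := by
  have hnot : q ∉ Finset.range (2 * n / 3 + 1) := by
    rw [Finset.mem_range]
    have : 2 * n / 3 ≤ n := by omega
    omega
  rw [← Finset.prod_insert (f := fun p => p ^ (centralBinom n).factorization p) hnot]
  refine (Eq.trans ?_ n.prod_pow_factorization_centralBinom).symm
  apply Finset.prod_subset
  · intro x hx
    rw [Finset.mem_insert, Finset.mem_range] at hx
    rw [Finset.mem_range]
    rcases hx with rfl | hx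
    · omega
    · omega
  intro x hx h2x
  rw [Finset.mem_range, Nat.lt_succ_iff] at hx
  rw [Finset.mem_insert, Finset.mem_range, not_or] at h2x
  obtain ⟨hxq, h2x⟩ := h2x
  rw [Nat.lt_succ_iff, not_le, div_lt_iff_lt_mul three_pos, mul_comm x] at h2x
  by_cases hxp : x.Prime
  · have h : x ≤ n := by
      by_contra hh
      exact hxq (one_prime x hxp (not_le.1 hh) hx)
    rw [factorization_centralBinom_of_two_mul_self_lt_three_mul n_large h h2x, Nat.pow_zero]
  · rw [factorization_eq_zero_of_not_prime n.centralBinom hxp, Nat.pow_zero]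

/-- The bound on the product over small primes, as in Mathlib's proof of Bertrand's postulate. -/
theorem prod_small_le (n : ℕ) (n_large : 2 < n) :
    ∏ p ∈ Finset.range (2 * n / 3 + 1), p ^ (centralBinom n).factorization p ≤
      (2 * n) ^ sqrt (2 * n) * 4 ^ (2 * n / 3) := by
  have n_pos : 0 < n := (Nat.zero_le _).trans_lt n_large
  have n2_pos : 1 ≤ 2 * n := mul_pos (zero_lt_two' ℕ) n_pos
  let S := {p ∈ Finset.range (2 * n / 3 + 1) | Nat.Prime p}
  let f x := x ^ n.centralBinom.factorization x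
  have : ∏ x ∈ S, f x = ∏ x ∈ Finset.range (2 * n / 3 + 1), f x := by
    refine Finset.prod_filter_of_ne fun p _ h => ?_
    contrapose h; dsimp only [f]
    rw [factorization_eq_zero_of_not_prime n.centralBinom h, _root_.pow_zero]
  change ∏ x ∈ Finset.range (2 * n / 3 + 1), f x ≤ _
  rw [← this, ← Finset.prod_filter_mul_prod_filter_not S (· ≤ sqrt (2 * n))]
  apply mul_le_mul'
  · refine (Finset.prod_le_prod' fun p _ => (?_ : f p ≤ 2 * n)).trans ?_
    · exact pow_factorization_choose_le (mul_pos two_pos n_pos)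
    have : (Finset.Icc 1 (sqrt (2 * n))).card = sqrt (2 * n) := by rw [card_Icc, Nat.add_sub_cancel]
    rw [Finset.prod_const]
    refine pow_right_mono₀ n2_pos ((Finset.card_le_card fun x hx => ?_).trans this.le)
    obtain ⟨h1, h2⟩ := Finset.mem_filter.1 hx
    exact Finset.mem_Icc.mpr ⟨(Finset.mem_filter.1 h1).2.one_lt.le, h2⟩
  · refine le_trans ?_ (primorial_le_four_pow (2 * n / 3))
    refine (Finset.prod_le_prod' fun p hp => (?_ : f p ≤ p)).trans ?_
    · obtain ⟨h1, h2⟩ := Finset.mem_filter.1 hp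
      refine (pow_right_mono₀ (Finset.mem_filter.1 h1).2.one_lt.le ?_).trans (pow_one p).le
      exact Nat.factorization_choose_le_one (sqrt_lt'.mp <| not_le.1 h2)
    refine Finset.prod_le_prod_of_subset_of_one_le' (Finset.filter_subset _ _) ?_
    exact fun p hp _ => (Finset.mem_filter.1 hp).2.one_lt.le

/-- For `n ≥ 512` there are two distinct primes in `(n, 2n]`. -/
theorem exists_two_primes_eventually (n : ℕ) (n_large : 512 ≤ n) :
    ∃ p r : ℕ, p.Prime ∧ r.Prime ∧ n < r ∧ r < p ∧ p ≤ 2 * n := by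
  obtain ⟨q, hqp, hq1, hq2⟩ := Nat.exists_prime_lt_and_le_two_mul n (by omega)
  by_contra hcon
  have one_prime : ∀ p : ℕ, p.Prime → n < p → p ≤ 2 * n → p = q := by
    intro p hp h1 h2
    by_contra hne
    rcases lt_or_gt_of_ne hne with h | h
    · exact hcon ⟨q, p, hqp, hp, h1, h, hq2⟩
    · exact hcon ⟨p, q, hp, hqp, hq1, h, h2⟩
  have no_prime : 4 ^ n < n * n.centralBinom :=
    Nat.four_pow_lt_mul_centralBinom n (le_trans (by norm_num1) n_large)
  have n_large' : 2 < n := lt_of_lt_of_le (by norm_num1) n_large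
  have hle : n.centralBinom ≤ (2 * n) * ((2 * n) ^ sqrt (2 * n) * 4 ^ (2 * n / 3)) := by
    rw [centralBinom_factorization_small' n n_large' q hq1 hq2 one_prime]
    exact Nat.mul_le_mul (pow_factorization_choose_le (by omega)) (prod_small_le n n_large')
  have := main_inequality' n_large
  have h2 : n * n.centralBinom ≤ 4 ^ n := by
    refine le_trans (Nat.mul_le_mul_left n hle) ?_
    calc n * (2 * n * ((2 * n) ^ sqrt (2 * n) * 4 ^ (2 * n / 3)))
        = n * (2 * n) * (2 * n) ^ sqrt (2 * n) * 4 ^ (2 * n / 3) := by ring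
      _ ≤ 4 ^ n := this
  omega

/-- For `n ≥ 11`, there are primes `r < p ≤ n` with `n < 2 r`. -/
theorem exists_two_primes (n : ℕ) (hn : 11 ≤ n) :
    ∃ p r : ℕ, p.Prime ∧ r.Prime ∧ r < p ∧ p ≤ n ∧ n < 2 * r := by
  by_cases h1024 : 1024 ≤ n
  · obtain ⟨p, r, hp, hr, h1, h2, h3⟩ := exists_two_primes_eventually (n / 2) (by omega)
    exact ⟨p, r, hp, hr, h2, by omega, by omega⟩
  push Not at h1024
  by_cases h : n < 13
  · exact ⟨11, 7, by norm_num, by norm_num, by omega, by omega, by omega⟩
  by_cases h : n < 19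
  · exact ⟨13, 11, by norm_num, by norm_num, by omega, by omega, by omega⟩
  by_cases h : n < 23
  · exact ⟨19, 13, by norm_num, by norm_num, by omega, by omega, by omega⟩
  by_cases h : n < 37
  · exact ⟨23, 19, by norm_num, by norm_num, by omega, by omega, by omega⟩
  by_cases h : n < 43
  · exact ⟨37, 23, by norm_num, by norm_num, by omega, by omega, by omega⟩
  by_cases h : n < 73
  · exact ⟨43, 37, by norm_num, by norm_num, by omega, by omega, by omega⟩
  by_cases h : n < 83
  · exact ⟨73, 43, by norm_num, by norm_num, by omega, by omega, by omega⟩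
  by_cases h : n < 139
  · exact ⟨83, 73, by norm_num, by norm_num, by omega, by omega, by omega⟩
  by_cases h : n < 163
  · exact ⟨139, 83, by norm_num, by norm_num, by omega, by omega, by omega⟩
  by_cases h : n < 277
  · exact ⟨163, 139, by norm_num, by norm_num, by omega, by omega, by omega⟩
  by_cases h : n < 317
  · exact ⟨277, 163, by norm_num, by norm_num, by omega, by omega, by omega⟩
  by_cases h : n < 547
  · exact ⟨317, 277, by norm_num, by norm_num, by omega, by omega, by omega⟩
  by_cases h : n < 631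
  · exact ⟨547, 317, by norm_num, by norm_num, by omega, by omega, by omega⟩
  · exact ⟨631, 547, by norm_num, by norm_num, by omega, by omega, by omega⟩

end Cfsg.Agent.Helper3.TwoPrimes
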