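import Mathlib
import Cfsg.Agent.Helper3.U43XMat

/-! generated checks of the action of the letters on the points of the projective space -/

set_option autoImplicit false
set_option maxRecDepth 1000000

namespace Cfsg.Agent.Helper3.U43X

theorem spec_2_0 : ∀ v, v < 205 → SpecAt 2 (v + 0) := by decide +kernel

theorem spec_2_1 : ∀ v, v < 205 → SpecAt 2 (v + 205) := by decide +kernel

theorem spec_2_2 : ∀ v, v < 205 → SpecAt 2 (v + 410) := by decide +kernel

theorem spec_2_3 : ∀ v, v < 205 → SpecAt 2 (v + 615) := by decide +kernel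

theorem spec_3_0 : ∀ v, v < 205 → SpecAt 3 (v + 0) := by decide +kernel

theorem spec_3_1 : ∀ v, v < 205 → SpecAt 3 (v + 205) := by decide +kernel

theorem spec_3_2 : ∀ v, v < 205 → SpecAt 3 (v + 410) := by decide +kernel

theorem spec_3_3 : ∀ v, v < 205 → SpecAt 3 (v + 615) := by decide +kernel

end Cfsg.Agent.Helper3.U43X
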