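import Mathlib
import Cfsg.Prelude.Def_Classical
import Cfsg.Agent.Helper3.U43XTb0
import Cfsg.Agent.Helper3.U43XTb1
import Cfsg.Agent.Helper3.U43XTb2
import Cfsg.Agent.Helper8.SUCenter
import Cfsg.Agent.Helper5.SUMap
import Cfsg.Agent.Helper5.LPC
import Cfsg.Agent.Helper5.LPS
import Cfsg.Agent.S0280

/-!
# Generators of `PSU₄(3)` over the model field with nine elements

The three generators `a, b, c` of order 7 as elements of `PSU₄(3) = SU₄(3) / Z`, their relators,
the action on the 820 points of the projective space as a permutation representation, and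
stabiliser chains: `a, b, c` generate the group, and words in `a, b` spell at least 6048 elements.
-/

set_option autoImplicit false

namespace Cfsg.Agent.Helper3.U43X

open Cfsg.Agent.Helper5.LP Cfsg.Agent.Helper5.StemP Cfsg.Agent.Helper5.TC Cfsg.Agent.Helper5.TCI Matrix
open Cfsg.Agent.Helper5.GF9 Cfsg.Agent.Helper8.SUCenter
open scoped LinearAlgebra.Projectivization

theorem hK : Fintype.card K = 3 ^ 2 := by decide

/-- the specification of the tables, assembled. -/
theorem tab_spec : ∀ c, c < 6 → ∀ v, v < 820 → SpecAt c v := by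
  intro c hc v hv
  have key : ∀ (P : ℕ → Prop), (∀ w, w < 205 → P (w + 0)) → (∀ w, w < 205 → P (w + 205)) →
      (∀ w, w < 205 → P (w + 410)) → (∀ w, w < 205 → P (w + 615)) → P v := by
    intro P h0 h1 h2 h3
    by_cases a0 : v < 205
    · have := h0 v a0; rwa [Nat.add_zero] at this
    · by_cases a1 : v < 410
      · have := h1 (v - 205) (by omega); rwa [show v - 205 + 205 = v by omega] at this
      · by_cases a2 : v < 615
        · have := h2 (v - 410) (by omega); rwa [show v - 410 + 410 = v by omega] at this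
        · have := h3 (v - 615) (by omega); rwa [show v - 615 + 615 = v by omega] at this
  interval_cases c
  · exact key (SpecAt 0) spec_0_0 spec_0_1 spec_0_2 spec_0_3
  · exact key (SpecAt 1) spec_1_0 spec_1_1 spec_1_2 spec_1_3
  · exact key (SpecAt 2) spec_2_0 spec_2_1 spec_2_2 spec_2_3
  · exact key (SpecAt 3) spec_3_0 spec_3_1 spec_3_2 spec_3_3
  · exact key (SpecAt 4) spec_4_0 spec_4_1 spec_4_2 spec_4_3
  · exact key (SpecAt 5) spec_5_0 spec_5_1 spec_5_2 spec_5_3

theorem nidx_smul : ∀ v, v < 820 → NidxAt v := by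
  intro v hv
  by_cases a0 : v < 205
  · have := nidx_0 v a0; rwa [Nat.add_zero] at this
  · by_cases a1 : v < 410
    · have := nidx_1 (v - 205) (by omega); rwa [show v - 205 + 205 = v by omega] at this
    · by_cases a2 : v < 615
      · have := nidx_2 (v - 410) (by omega); rwa [show v - 410 + 410 = v by omega] at this
      · have := nidx_3 (v - 615) (by omega); rwa [show v - 615 + 615 = v by omega] at this

/-! ### the letters in the special unitary group -/

/-- the letters, in `SU₄(3)`. -/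
def S (c : ℕ) : Cfsg.SU 4 K 3 :=
  if h : c < 6 then mkSU hK (N c) (N_unitary c h)
    (by rw [Cfsg.Agent.Helper4.U43.det_eq_det4]; exact N_det4 c h) else 1

theorem S_val {c : ℕ} (hc : c < 6) :
    (((S c : Cfsg.SU 4 K 3) : Matrix.SpecialLinearGroup (Fin 4) K) : Matrix (Fin 4) (Fin 4) K)
      = N c := by
  unfold S
  rw [dif_pos hc]
  rfl

/-- the natural map onto `PSU₄(3)`. -/
abbrev pr : Cfsg.SU 4 K 3 →* Cfsg.PSU 4 K 3 :=
  QuotientGroup.mk' (Subgroup.center (Cfsg.SU 4 K 3))

/-- the group. -/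
abbrev GG : Type := Cfsg.PSU 4 K 3

/-- the generators. -/
def g (i : ℕ) : GG := pr (S (2 * i))

theorem S_mul_inv {i : ℕ} (hi : i < 3) : S (2 * i) * S (2 * i + 1) = 1 := by
  apply Subtype.ext
  apply Subtype.ext
  rw [Subgroup.coe_mul, Matrix.SpecialLinearGroup.coe_mul, S_val (by omega), S_val (by omega)]
  exact N_inv i hi

theorem lval_S : ∀ c, c < 6 → lval g c = pr (S c) := by
  intro c hc
  obtain ⟨i, rfl | rfl⟩ : ∃ i, c = 2 * i ∨ c = 2 * i + 1 := ⟨c / 2, by omega⟩
  · rw [lval_even]
    rfl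
  · rw [lval_odd]
    have h := eq_inv_of_mul_eq_one_right (S_mul_inv (i := i) (by omega))
    rw [h, map_inv]
    rfl

theorem word_eq : ∀ l : List ℕ, (∀ c ∈ l, c < 6) →
    (l.map (lval g)).prod = pr ((l.map S).prod)
  | [], _ => by simp
  | c :: l, h => by
    rw [List.map_cons, List.prod_cons, List.map_cons, List.prod_cons, map_mul,
      word_eq l (fun c hc => h c (List.mem_cons_of_mem _ hc)), lval_S c (h c List.mem_cons_self)]

theorem word_val : ∀ l : List ℕ, (∀ c ∈ l, c < 6) →
    ((((l.map S).prod : Cfsg.SU 4 K 3) : Matrix.SpecialLinearGroup (Fin 4) K) :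
      Matrix (Fin 4) (Fin 4) K) = (l.map N).prod
  | [], _ => by simp
  | c :: l, h => by
    rw [List.map_cons, List.prod_cons, List.map_cons, List.prod_cons, Subgroup.coe_mul,
      Matrix.SpecialLinearGroup.coe_mul, S_val (h c List.mem_cons_self),
      word_val l (fun c hc => h c (List.mem_cons_of_mem _ hc))]

theorem CC_rel : ∀ r ∈ CC, (r.map (lval g)).prod = 1 := by
  intro r hr
  rw [word_eq r (CC_lt r hr)]
  obtain ⟨ζ, hζ4, hζ⟩ := N_rels r hr
  have hζq : ζ * ζ ^ 3 = 1 := by rw [← pow_succ']; exact hζ4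
  have h1 : (r.map S).prod = scal hK ζ hζq hζ4 := by
    apply Subtype.ext
    apply Subtype.ext
    rw [word_val r (CC_lt r hr), hζ]
    rfl
  show (QuotientGroup.mk' _) _ = 1
  rw [QuotientGroup.mk'_apply, QuotientGroup.eq_one_iff, h1]
  exact scal_mem_center hK ζ hζq hζ4

theorem g_pow : ∀ i, i < 3 → g i ^ mm i = 1 := by
  intro i hi
  unfold g mm
  rw [← map_pow]
  have : S (2 * i) ^ 7 = 1 := by
    apply Subtype.ext
    apply Subtype.ext
    rw [SubmonoidClass.coe_pow, Matrix.SpecialLinearGroup.coe_pow, S_val (by omega)]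
    have := N_pow i hi
    rwa [List.prod_replicate] at this
  rw [this, map_one]

/-! ### the action on the points of the projective space -/

/-- the projective space. -/
abbrev PPt : Type := ℙ K (Fin 4 → K)

/-- the action of `SU₄(3)` on the points. -/
noncomputable def rho0 : Cfsg.SU 4 K 3 →* Equiv.Perm PPt :=
  (MulAction.toPermHom (Matrix.SpecialLinearGroup (Fin 4) K) PPt).comp
    (Subgroup.subtype (Cfsg.SU 4 K 3))

theorem center_le_ker : Subgroup.center (Cfsg.SU 4 K 3) ≤ rho0.ker := by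
  intro z hz
  obtain ⟨ζ, hζ, hζn, rfl⟩ := center_eq_scal hK (by norm_num) z hz
  rw [MonoidHom.mem_ker]
  unfold rho0
  rw [MonoidHom.comp_apply]
  have h1 : (Subgroup.subtype (Cfsg.SU 4 K 3)) (scal hK ζ hζ hζn) ∈
      Subgroup.center (Matrix.SpecialLinearGroup (Fin 4) K) := by
    rw [Matrix.SpecialLinearGroup.mem_center_iff]
    refine ⟨ζ, by rw [Fintype.card_fin]; exact hζn, ?_⟩
    show Matrix.scalar (Fin 4) ζ = ζ • (1 : Matrix (Fin 4) (Fin 4) K)
    ext i j
    simp [Matrix.scalar_apply, Matrix.diagonal_apply, Matrix.one_apply]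
  rw [← Projectivization.SL_mulAction_ker] at h1
  exact h1

/-- the action of `PSU₄(3)` on the points. -/
noncomputable def rhoP : Cfsg.PSU 4 K 3 →* Equiv.Perm PPt :=
  QuotientGroup.lift _ rho0 center_le_ker

theorem rhoP_mk (x : Cfsg.SU 4 K 3) : rhoP (QuotientGroup.mk' _ x) = rho0 x := rfl

theorem rho0_mk (x : Cfsg.SU 4 K 3) (u : Fin 4 → K) (hu : u ≠ 0)
    (w : Fin 4 → K) (hw : w ≠ 0) (s : K) (hs : s ≠ 0)
    (h : Matrix.mulVec ((x : Matrix.SpecialLinearGroup (Fin 4) K) : Matrix (Fin 4) (Fin 4) K) u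
      = s • w) :
    rho0 x (Projectivization.mk K u hu) = Projectivization.mk K w hw := by
  unfold rho0
  rw [MonoidHom.comp_apply, MulAction.toPermHom_apply, MulAction.toPerm_apply]
  show (x : Matrix.SpecialLinearGroup (Fin 4) K) • Projectivization.mk K u hu = _
  rw [Projectivization.smul_mk, Projectivization.mk_eq_mk_iff]
  refine ⟨Units.mk0 s hs, ?_⟩
  show s • w = _
  rw [← h]
  rfl

/-- the point with a given number. -/
noncomputable def ptOf (v : Fin 820) : PPt := Projectivization.mk K (decV v.val) (decV_ne v.val v.isLt)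

theorem ptOf_injective : Function.Injective ptOf := by
  intro v w h
  unfold ptOf at h
  rw [Projectivization.mk_eq_mk_iff] at h
  obtain ⟨a, ha⟩ := h
  have h1 := nidx_smul w.val w.isLt (a : K) (Units.ne_zero a)
  have h2 := nidx_smul v.val v.isLt 1 one_ne_zero
  rw [one_smul] at h2
  have h3 : (a : K) • decV w.val = decV v.val := ha
  rw [h3, h2] at h1
  exact Fin.ext h1

theorem card_PPt : Nat.card PPt = 820 := by
  rw [Projectivization.card_of_finrank K (Fin 4 → K) (n := 4) (by simp)]
  have : Nat.card K = 9 := by rw [Nat.card_eq_fintype_card]; decide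
  rw [this]
  decide

theorem ptOf_bijective : Function.Bijective ptOf := by
  have : Finite PPt := Nat.finite_of_card_ne_zero (by rw [card_PPt]; norm_num)
  apply ptOf_injective.bijective_of_nat_card_le
  rw [card_PPt, Nat.card_fin]

/-- the numbering of the points. -/
noncomputable def eV : Fin 820 ≃ PPt := Equiv.ofBijective _ ptOf_bijective

theorem eV_apply (v : Fin 820) : eV v = ptOf v := rfl

/-- the permutation representation on the numbers of the points. -/
noncomputable def rho : GG →* Equiv.Perm (Fin 820) :=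
  (eV.symm.permCongrHom.toMonoidHom).comp rhoP

theorem rho_apply (x : GG) (v : Fin 820) : eV (rho x v) = rhoP x (eV v) := by
  show eV (eV.symm (rhoP x (eV.symm.symm v))) = _
  rw [Equiv.apply_symm_apply]
  rfl

theorem rho_S (c : ℕ) (hc : c < 6) (v : Fin 820) :
    (rho (pr (S c)) v).val = tabP c v.val := by
  obtain ⟨h1, h2, h3⟩ := tab_spec c hc v.val v.isLt
  have e1 : eV (rho (pr (S c)) v) = eV ⟨tabP c v.val, h3⟩ := by
    rw [rho_apply, rhoP_mk, eV_apply, eV_apply]
    unfold ptOf
    apply rho0_mk (S c) _ _ _ _ (F9.ofN (scP c v.val)) h2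
    rw [S_val hc]
    exact h1
  have e2 := eV.injective e1
  rw [e2]

theorem rho_word : ∀ l : List ℕ, (∀ c ∈ l, c < 6) → ∀ v : Fin 820,
    (rho ((l.map (lval g)).prod) v).val = actL tabP l v.val
  | [], _, v => by
    rw [List.map_nil, List.prod_nil, map_one]
    rfl
  | c :: l, h, v => by
    rw [List.map_cons, List.prod_cons, map_mul, Equiv.Perm.mul_apply,
      lval_S c (h c List.mem_cons_self), rho_S c (h c List.mem_cons_self),
      rho_word l (fun c hc => h c (List.mem_cons_of_mem _ hc)) v]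
    rfl

/-! ### the order -/

theorem card_GG : Nat.card GG = 3265920 := by
  have h := Cfsg.Agent.S0280.result (F := K) (q := 3) hK 4 (by norm_num)
  have e2 : (3 : ℕ) ^ (4 * (4 - 1) / 2) *
      ∏ i ∈ Finset.range 4, (if Even i then 3 ^ (i + 1) + 1 else 3 ^ (i + 1) - 1) = 52254720 := by
    simp [Finset.prod_range_succ]
    decide
  rw [e2] at h
  have e1 : Nat.gcd 4 (3 + 1) = 4 := by decide
  rw [e1] at h
  show Nat.card (Cfsg.PSU 4 K 3) = 3265920
  omega

instance finGG : Finite GG := Nat.finite_of_card_ne_zero (by rw [card_GG]; norm_num)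

/-! ### stabiliser chains -/

/-- a level of the stabiliser chain. -/
def levelG0 : Level := (0, [[0], [1], [2], [3], [4], [5]], [(0, 0), (0, 1), (0, 2), (0, 3), (0, 4), (0, 5), (71, 0), (71, 2), (71, 3), (71, 4), (71, 5), (1, 1), (1, 2), (1, 3), (1, 4), (1, 5), (16, 0), (16, 1), (16, 2), (16, 4), (74, 0), (74, 3), (74, 4), (74, 5), (808, 0), (808, 1), (808, 2), (808, 3), (808, 4), (732, 0), (732, 2), (732, 3), (732, 5), (47, 0), (47, 2), (47, 3), (47, 4), (47, 5), (9, 2), (9, 4), (9, 5), (2, 1), (2, 3), (2, 5), (221, 0), (221, 1), (221, 2), (221, 3), (221, 4), (424, 0), (424, 1), (424, 2), (23, 2), (23, 3), (735, 2), (735, 4), (735, 5), (66, 0), (66, 3), (66, 4), (364, 0), (364, 1), (364, 2), (364, 3), (364, 4), (619, 0), (619, 1), (619, 2), (619, 3), (619, 5), (61, 0), (61, 3), (61, 4), (61, 5), (27, 2), (27, 3), (27, 5), (54, 1), (54, 4), (54, 5), (91, 0), (91, 2), (91, 3), (91, 4), (731, 2), (731, 3), (731, 5), (6, 1), (6, 4), (6, 5), (448, 0), (448, 1), (448, 2), (448, 3), (448,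 4), (170, 0), (170, 1), (170, 5), (89, 2), (89, 3), (89, 4), (89, 5), (659, 1), (659, 2), (659, 3), (659, 4), (659, 5), (493, 0), (493, 1), (493, 2), (493, 4), (493, 5), (438, 0), (438, 1), (438, 3), (438, 4), (438, 5), (303, 0), (303, 1), (303, 2), (303, 3), (303, 4), (75, 0), (75, 2), (75, 3), (75, 4), (75, 5), (14, 1), (14, 2), (14, 4), (14, 5), (38, 0), (38, 1), (38, 4), (38, 5), (446, 0), (446, 1), (446, 2), (446, 3), (446, 5), (810, 2), (810, 3), (810, 4), (810, 5), (43, 4), (43, 5), (13, 1), (13, 3), (13, 4), (13, 5), (175, 0), (175, 1), (175, 2), (175, 3), (175, 4), (811, 0), (811, 1), (811, 2), (811, 3), (811, 5), (68, 0), (68, 1), (68, 4), (225, 0), (225, 1), (225, 2), (225, 3), (225, 4), (334, 0), (334, 1), (40, 4), (40, 5), (44, 4), (44, 5), (647, 0), (647, 2), (647, 3), (647, 5), (404, 0), (404, 3), (404, 5), (342, 1), (342, 2), (342, 4), (342, 5), (813, 0), (813, 1), (813, 2), (813, 4), (651, 0), (651, 1), (434, 0), (434, 1), (434, 2), (434, 3), (434, 4), (255, 2), (255,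 3), (255, 5), (198, 1), (198, 2), (198, 3), (198, 4), (198, 5), (306, 0), (306, 1), (306, 2), (306, 4), (306, 5), (22, 2), (22, 5), (37, 3), (37, 4), (37, 5), (18, 1), (18, 2), (18, 4), (776, 0), (776, 1), (776, 2), (776, 3), (776, 4), (660, 0), (660, 2), (660, 5), (48, 5), (69, 4), (304, 0), (304, 1), (304, 2), (304, 3), (650, 0), (650, 3), (650, 4), (650, 5), (697, 1), (697, 2), (697, 3), (697, 4), (129, 1), (129, 2), (129, 4), (129, 5), (617, 1), (617, 3), (617, 4), (94, 3), (94, 4), (400, 0), (400, 2), (400, 3), (400, 4), (400, 5), (472, 1), (472, 2), (472, 4), (608, 0), (608, 2), (608, 5), (508, 0), (251, 2), (251, 3), (251, 5), (64, 0), (64, 2), (64, 4), (78, 4), (78, 5), (655, 1), (655, 2), (655, 3), (92, 2), (92, 3), (92, 5), (3, 4), (3, 5), (42, 3), (42, 5), (387, 1), (387, 2), (387, 3), (387, 5), (76, 3), (76, 5), (728, 0), (728, 1), (728, 4), (328, 0), (328, 1), (328, 5), (429, 0), (429, 2), (429, 4), (429, 5), (575, 0), (575, 4), (575, 5), (96, 1), (96, 4), (298, 0), (298,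 1), (298, 2), (298, 3), (298, 4), (80, 5), (70, 3), (272, 1), (272, 3), (79, 4), (79, 5), (258, 0), (258, 1), (258, 2), (576, 0), (576, 1), (576, 2), (576, 3), (657, 2), (657, 3), (411, 1), (98, 1), (98, 2), (209, 0), (209, 3), (209, 4), (701, 0), (701, 1), (701, 2), (701, 3), (772, 1), (772, 2), (772, 3), (772, 5), (339, 0), (339, 3), (586, 0), (586, 2), (658, 0), (658, 1), (658, 5), (279, 1), (279, 2), (279, 3), (512, 2), (512, 3), (791, 2), (791, 4), (264, 0), (264, 1), (264, 2), (264, 4), (109, 1), (109, 3), (109, 4), (720, 0), (720, 1), (720, 4), (102, 0), (138, 1), (138, 2), (138, 3), (273, 2), (273, 4), (675, 1), (675, 3), (380, 3), (425, 2), (425, 3), (425, 5), (669, 3), (669, 5), (381, 0), (381, 1), (545, 1), (280, 2), (280, 3), (796, 3), (591, 1), (543, 3), (65, 4), (65, 5), (182, 0), (145, 0), (145, 1), (145, 3), (145, 5), (31, 4), (223, 0), (730, 4), (730, 5), (25, 4), (560, 2), (560, 3), (201, 0), (201, 2), (154, 3), (481, 2), (481, 4), (481, 5), (457, 0), (457, 1), (59,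 4), (59, 5), (357, 2), (377, 3), (377, 5), (265, 3), (412, 1), (412, 2), (412, 3), (412, 5), (50, 5), (77, 4), (86, 2), (86, 3), (86, 5), (147, 0), (147, 3), (455, 4), (533, 1), (725, 0), (725, 3), (725, 5), (325, 0), (325, 1), (807, 3), (128, 2), (128, 5), (616, 0), (302, 1), (302, 3), (727, 3), (727, 5), (32, 2), (137, 1), (450, 3), (450, 4), (450, 5), (587, 0), (587, 2), (667, 1), (667, 3), (667, 5), (698, 3), (698, 4), (105, 0), (105, 3), (105, 4), (105, 5), (417, 1), (417, 3), (190, 0), (514, 1), (514, 3), (637, 4), (318, 1), (194, 1), (794, 1), (794, 5), (559, 2), (559, 3), (767, 0), (756, 2), (275, 0), (275, 1), (275, 4), (142, 1), (142, 3), (290, 2), (167, 3), (482, 3), (482, 5), (197, 5), (752, 0), (752, 2), (136, 1), (136, 4), (271, 4), (588, 3), (420, 0), (420, 5), (612, 4), (218, 0), (218, 4), (644, 1), (369, 4), (262, 1), (638, 5), (742, 5), (46, 5), (35, 5), (485, 2), (415, 4), (751, 5), (226, 2), (654, 5), (777, 2), (777, 5), (368, 3), (119, 0), (119, 2), (119, 3), (228,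 2), (228, 3), (228, 5), (783, 1), (783, 2), (309, 2), (309, 3), (309, 5), (193, 3), (718, 1), (718, 4), (112, 5), (222, 1), (620, 4), (120, 0), (120, 4), (506, 3), (379, 0), (150, 2), (624, 3), (354, 4), (745, 5), (315, 2), (126, 2), (570, 1), (139, 5), (435, 1), (115, 1), (426, 3), (688, 0), (248, 4), (719, 3), (525, 0), (558, 4), (376, 5), (775, 0), (585, 2)])

/-- a level of the stabiliser chain. -/
def levelG1 : Level := (1, [[3,0,5,2], [1,3,1,3], [1,2,1,5]], [(1, 0), (1, 1), (1, 2), (420, 0), (420, 1), (420, 2), (3, 0), (3, 1), (3, 2), (226, 0), (226, 1), (226, 2), (660, 0), (660, 1), (660, 2), (334, 0), (334, 1), (334, 2), (511, 0), (511, 1), (676, 0), (676, 1), (676, 2), (2, 0), (2, 1), (2, 2), (525, 0), (525, 1), (525, 2), (240, 0), (240, 1), (240, 2), (309, 0), (309, 1), (309, 2), (196, 0), (196, 1), (196, 2), (547, 0), (547, 1), (547, 2), (416, 1), (416, 2), (236, 0), (236, 1), (236, 2), (591, 0), (591, 1), (591, 2), (579, 0), (579, 1), (201, 0), (201, 1), (243, 0), (243, 1),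 (243, 2), (184, 0), (184, 1), (184, 2), (596, 0), (596, 1), (596, 2), (435, 0), (435, 2), (139, 0), (139, 1), (588, 0), (588, 1), (588, 2), (6, 0), (128, 0), (128, 1), (128, 2), (550, 0), (550, 2), (200, 0), (200, 1), (200, 2), (508, 0), (508, 1), (508, 2), (572, 0), (572, 1), (572, 2), (316, 0), (316, 1), (113, 0), (113, 1), (113, 2), (115, 0), (115, 1), (115, 2), (146, 0), (146, 2), (228, 0), (228, 1), (228, 2), (669, 0), (669, 1), (274, 2), (278, 2), (175, 0), (175, 2), (220, 0), (220, 1), (220, 2), (237, 1), (237, 2), (339, 0), (339, 1), (339, 2), (396, 0), (396, 2), (132, 0), (132, 1), (321, 1), (321, 2), (655, 1), (655, 2), (52, 1), (52, 2), (667, 1), (667, 2), (53, 0), (597, 0), (597, 1), (597, 2), (659, 0), (659, 2), (281, 0), (281, 1), (509, 0), (509, 1), (509, 2), (81, 0), (81, 2), (178, 0), (178, 1), (178, 2), (450, 0), (450, 1), (450, 2), (266, 0), (266, 1), (266, 2), (94, 0), (94, 1), (681, 1), (681, 2), (555, 2), (379, 1), (379, 2), (533, 1), (545, 0), (545, 2), (348, 0),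 (348, 1), (348, 2), (668, 0), (668, 2), (257, 1), (380, 1), (380, 2), (120, 2), (537, 0), (537, 1), (140, 1), (140, 2), (332, 0), (332, 1), (269, 1), (269, 2), (265, 0), (265, 1), (265, 2), (285, 0), (524, 0), (524, 1), (185, 2), (187, 2), (705, 0), (705, 1), (210, 2), (384, 1), (384, 2), (156, 0), (156, 2), (277, 0), (412, 0), (412, 1), (560, 2), (517, 2), (434, 0), (603, 0), (603, 1), (415, 1), (308, 0), (486, 0), (425, 2), (224, 2), (639, 0), (639, 2), (708, 2), (43, 1), (43, 2), (112, 0), (112, 2), (155, 1), (317, 2), (551, 2), (577, 0), (290, 2), (268, 2), (532, 2), (154, 0), (154, 1), (260, 1), (260, 2), (409, 1), (409, 2), (76, 1), (209, 0), (209, 2), (677, 0), (677, 1), (677, 2), (693, 0), (199, 1), (123, 0), (123, 2), (71, 2), (305, 0), (305, 1), (256, 2), (231, 0), (369, 1), (500, 2), (571, 1), (571, 2), (624, 2), (720, 1), (720, 2), (98, 0), (98, 2), (223, 1), (221, 0), (544, 2), (578, 0), (578, 1), (291, 2), (40, 0)])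

/-- a level of the stabiliser chain. -/
def levelG2 : Level := (9, [[2,0,2,0,3,4,1,2,1,2,1,5,1,2,1,5,3,0,5,2], [4,0,3,0,4,0,3,0,3,0,5,2,1,3,1,3,3,0,5,0,5,2]], [(9, 0), (9, 1), (27, 0), (27, 1), (441, 0), (441, 1), (18, 0), (18, 1), (693, 0), (693, 1), (369, 1), (630, 0), (54, 1), (639, 0), (639, 1), (360, 0), (468, 1), (684, 1), (387, 0), (387, 1), (450, 0), (612, 1), (243, 0)])

/-- the stabiliser chain. -/
def levelGs : List Level := [levelG0, levelG1, levelG2]

/-- a level of the stabiliser chain. -/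
def levelU0 : Level := (0, [[0], [1], [2], [3]], [(0, 0), (0, 1), (0, 2), (0, 3), (71, 0), (71, 2), (71, 3), (1, 1), (1, 2), (1, 3), (16, 0), (16, 1), (16, 2), (74, 0), (74, 3), (47, 0), (47, 2), (47, 3), (9, 2), (2, 0), (2, 1), (2, 3), (23, 2), (23, 3), (735, 2), (66, 0), (66, 3), (61, 0), (61, 3), (27, 1), (27, 2), (27, 3), (54, 1), (731, 2), (731, 3), (6, 1), (810, 2), (810, 3), (43, 2), (13, 1), (13, 3), (68, 0), (68, 1), (68, 2), (732, 0), (732, 3), (22, 0), (22, 2), (37, 3), (18, 1), (18, 2), (64, 0), (64, 2), (64, 3), (78, 1), (42, 3), (76, 3), (80, 0), (70, 3), (79, 2), (77, 0), (32, 2)])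

/-- a level of the stabiliser chain. -/
def levelU1 : Level := (1, [[1,3,1,3], [0,3,1,1,1]], [(1, 0), (1, 1), (3, 0), (3, 1), (80, 0), (2, 0), (2, 1), (70, 0), (79, 0), (79, 1), (6, 1), (40, 0), (67, 0), (67, 1), (76, 0), (76, 1), (50, 0), (41, 0), (68, 0), (68, 1), (53, 0), (44, 1), (52, 1)])

/-- a level of the stabiliser chain. -/
def levelU2 : Level := (9, [[2,0,2,0,0,3,1,1,3,1,1,1]], [(9, 0), (27, 0), (18, 0)])

/-- the stabiliser chain. -/
def levelUs : List Level := [levelU0, levelU1, levelU2]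


set_option maxRecDepth 1000000 in
theorem chainG_ok : chainOK tabP (2 * 3) 820 [] levelGs = true :=
  chainOK_of_F (by decide +kernel)

theorem chainG_prod : chainProd levelGs = 3265920 := by decide +kernel

set_option maxRecDepth 1000000 in
theorem chainU_ok : chainOK tabP (2 * 2) 820 [] levelUs = true :=
  chainOK_of_F (by decide +kernel)

theorem chainU_prod : chainProd levelUs = 6048 := by decide +kernel

/-- a group whose words act on a table as prescribed by a homomorphism to `PSU₄(3)`. -/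
theorem actsOn_of_hom {P : Type*} [Group P] (π : P →* GG) (e : List ℕ → P) (k : ℕ) (hk : k ≤ 6)
    (he : ∀ l : List ℕ, (∀ c ∈ l, c < k) → π (e l) = (l.map (lval g)).prod) :
    ActsOn (rho.comp π) e k tabP := by
  constructor
  intro l hl v
  rw [MonoidHom.comp_apply, he l hl]
  exact rho_word l (fun c hc => lt_of_lt_of_le (hl c hc) hk) v

/-- the three generators generate the group. -/
theorem g_closure : Subgroup.closure {y | ∃ i, i < 3 ∧ y = g i} = ⊤ := by
  classical
  set H : Subgroup GG := Subgroup.closure {y | ∃ i, i < 3 ∧ y = g i} with hH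
  have hmem : ∀ l : List ℕ, (∀ c ∈ l, c < 2 * 3) → (l.map (lval g)).prod ∈ H := by
    intro l hl
    apply Subgroup.list_prod_mem
    intro y hy
    obtain ⟨c, hc, rfl⟩ := List.mem_map.mp hy
    have hi : c / 2 < 3 := by have := hl c hc; omega
    unfold lval
    split_ifs
    · exact Subgroup.subset_closure ⟨c / 2, hi, rfl⟩
    · exact inv_mem (Subgroup.subset_closure ⟨c / 2, hi, rfl⟩)
  let e : List ℕ → H := fun l =>
    if h : ∀ c ∈ l, c < 2 * 3 then ⟨(l.map (lval g)).prod, hmem l h⟩ else 1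
  have hA : ActsOn (rho.comp H.subtype) e (2 * 3) tabP := by
    apply actsOn_of_hom H.subtype e (2 * 3) (by norm_num)
    intro l hl
    show ((e l : H) : GG) = _
    simp only [e]
    rw [dif_pos hl]
  have h1 := card_ge_of_chain hA levelGs chainG_ok
  rw [chainG_prod] at h1
  have h2 : Nat.card H ≤ Nat.card GG := Subgroup.card_le_card_group H
  exact Subgroup.eq_top_of_card_eq H (by rw [card_GG] at h2 ⊢; omega)

/-- the first generator has order 7. -/
theorem order_g0 : orderOf (g 0) = 7 := by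
  have h7 : g 0 ^ 7 = 1 := g_pow 0 (by norm_num)
  have hne : g 0 ≠ 1 := by
    intro h
    have h1 := rho_word [0] (by decide) ⟨0, by norm_num⟩
    rw [List.map_cons, List.map_nil, List.prod_cons, List.prod_nil, mul_one,
      lval_S 0 (by norm_num)] at h1
    have h2 : pr (S 0) = 1 := h
    rw [h2, map_one] at h1
    revert h1
    decide +kernel
  have : Fact (Nat.Prime 7) := ⟨by norm_num⟩
  exact orderOf_eq_prime h7 hne

end Cfsg.Agent.Helper3.U43X
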