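import Cfsg.Agent.Helper3.LTCTwo
import Cfsg.Agent.Helper3.U43QBJu0
import Cfsg.Agent.Helper3.U43QBJu1
import Cfsg.Agent.Helper3.U43QBTb0

/-! generated labelled Todd-Coxeter certificate, summary: U43QB -/

set_option autoImplicit false
set_option maxRecDepth 1000000

namespace Cfsg.Agent.Helper3.U43QB
open Cfsg.Agent.Helper5.LTC

theorem upto_0 : ∀ j, j < 0 → ∃ r, checkFact cert j r = true := fun j hj => absurd hj (by omega)

theorem upto_1 : ∀ j, j < 2000 → ∃ r, checkFact cert j r = true :=
  upto_step cert upto_0 ju_0 2000 len_0 chk_0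

theorem upto_2 : ∀ j, j < 3681 → ∃ r, checkFact cert j r = true :=
  upto_step cert upto_1 ju_1 1681 len_1 chk_1

theorem hchk : ∀ j, j < cert.nf → ∃ r, checkFact cert j r = true := upto_2

theorem rowsto_0 : ∀ n, n < 0 → ∀ x, x < cert.k → tabEntryOK cert tab n x = true :=
  fun n hn => absurd hn (by omega)

theorem rowsto_1 : ∀ n, n < 540 → ∀ x, x < cert.k → tabEntryOK cert tab n x = true :=
  rows_step cert tab rowsto_0 540 rows_0

theorem hT : ∀ n, n < tab.N → ∀ x, x < cert.k → tabEntryOK cert tab n x = true := rowsto_1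

theorem hjs : ∀ j ∈ js, relFactOK cert j = true := by decide +kernel

theorem h0 : ordOK cert js cs0 2 3 = true := by decide +kernel

theorem h1 : ordOK cert js cs1 5 3 = true := by decide +kernel

theorem hgs : ∀ i, i < 6 → Cfsg.Agent.Helper3.LTCTwo.genOK2 cert js (css.getD i []) i 2 (as_.getD i 0) 5 (bs_.getD i 0) = true := by decide +kernel

end Cfsg.Agent.Helper3.U43QB
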