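import Mathlib
import Cfsg.Agent.Helper3.U43PCovB
import Cfsg.Agent.Helper3.U43QCovB
import Cfsg.Agent.Helper3.U43PMSum
import Cfsg.Agent.Helper3.U43QM0Sum
import Cfsg.Agent.Helper3.U43QM1Sum
import Cfsg.Agent.Helper3.StemCC
import Cfsg.Agent.Helper5.LTCM
import Cfsg.Agent.Helper5.LPE
import Cfsg.Agent.Helper5.StemPL
import Cfsg.Agent.Helper5.StemPH
import Cfsg.Agent.Helper5.StemPI
import Cfsg.Agent.Helper5.StemPK

/-!
# The Schur multiplier of `PSU₄(3)` is `C₄ × C₃ × C₃`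

The covering group of exponent 8 of the presentation on three generators of order 7 is a
fourfold cover (cyclic kernel), the covering group of exponent 9 is a ninefold cover with kernel
`C₃ × C₃`; Sylow 5- and 7-subgroups are cyclic.
-/

set_option autoImplicit false

namespace Cfsg.Agent.Helper3.U43

open Cfsg Cfsg.Agent.Helper3.U43X Cfsg.Agent.Helper5 Cfsg.Agent.Helper5.StemP Cfsg.Agent.Helper5.LP
  Cfsg.Agent.Helper5.LTC Cfsg.Agent.Helper5.TC Cfsg.Agent.Helper5.TCI Cfsg.Agent.Helper3.SchurMult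

/-- the word of the first central element. -/
def w1 : List ℕ := [1, 1, 3, 1, 4, 0, 5, 5, 2, 1, 2, 5, 3]

/-- the word of the second central element. -/
def w2 : List ℕ := [1, 1, 3, 0, 3, 1, 4, 4, 1, 2, 0, 3, 4, 3]

theorem w1_mem : w1 ∈ CC := by decide

theorem w2_mem : w2 ∈ CC := by decide

theorem w1_lt : ∀ c ∈ w1, c < 2 * 3 := CC_lt w1 w1_mem

theorem w2_lt : ∀ c ∈ w2, c < 2 * 3 := CC_lt w2 w2_mem

/-! ### the covering group of exponent 8 is a fourfold cover -/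

section two
open Cfsg.Agent.Helper3.U43P

theorem letters_P : LettersLt (2 * 3) (coverRels 3 mm CC CC 8) :=
  coverRels_lt 3 mm CC CC 8 CC2_lt

theorem relsFix_P : RelsFix (coverRels 3 mm CC CC 8) 2160 U43PM.mT := U43PM.relsFix

theorem tableOK_P : TableOKI (2 * 3) 2160 linv U43PM.mT := U43PM.tableOK

set_option maxRecDepth 1000000 in
theorem move_P : actL U43PM.mT (List.replicate 2 w1).flatten 0 ≠ 0 := by decide +kernel

/-- the central element of order 4. -/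
noncomputable def z0 : CovG 3 mm CC CC 8 := ev (2 * 3) (coverRels 3 mm CC CC 8) w1

theorem z0_ne : z0 ^ 2 ^ (2 - 1) ≠ 1 := by
  have hA := actsOn_tableHomI LTC.linv_linv (fun x hx => linv_lt hx) letters_P tableOK_P
    relsFix_P
  have e1 : 2 ^ (2 - 1) = 2 := by norm_num
  unfold z0
  rw [e1, ev_pow]
  refine ne_one_of_move hA _ ?_ 0 (by norm_num) move_P
  intro c hc
  obtain ⟨l, hl, hcl⟩ := List.mem_flatten.mp hc
  rw [List.eq_of_mem_replicate hl] at hcl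
  exact w1_lt c hcl

theorem z0_center : z0 ∈ Subgroup.center (CovG 3 mm CC CC 8) :=
  cover_center 3 mm CC CC 8 w1_mem w1_lt

theorem z0_ker : z0 ∈ piF.ker :=
  coverHomU_ker 3 mm CC CC 8 CC2_lt g g_pow CC2_rel w1_mem

theorem z0_pow : z0 ^ 2 ^ 3 = 1 := by
  unfold z0
  rw [show (2 : ℕ) ^ 3 = 8 from rfl, ev_pow]
  exact ev_rel (mem_coverRels_T 3 mm CC CC 8 w1_mem)

theorem cgenP_pow7 : ∀ x ∈ {x : CovG 3 mm CC CC 8 | ∃ i, i < 3 ∧ x = cgen 3 mm CC CC 8 i},
    x ^ 7 = 1 := by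
  rintro x ⟨i, hi, rfl⟩
  exact cgen_pow 3 mm CC CC 8 hi

theorem stem_P : (Cfsg.IsStemExtension piF ∧
    Nonempty (piF.ker ≃* Multiplicative (ZMod (2 ^ 2)))) ∧
    Nat.card (CovG 3 mm CC CC 8) = Nat.card GG * 2 ^ 2 :=
  stem_cyclic_le piF piF_surj 2 2 3 Nat.prime_two (by norm_num)
    (by rw [card_GG]; exact card_le_F.2)
    z0 z0_center z0_ker z0_pow z0_ne
    _ (closure_cgen 3 mm CC CC 8) 7 cgenP_pow7 (by decide)

theorem card_P : Nat.card (CovG 3 mm CC CC 8) = Nat.card GG * 4 := stem_P.2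

end two

/-! ### the covering group of exponent 9 is a ninefold cover with kernel `C₃ × C₃` -/

section three
open Cfsg.Agent.Helper3.U43Q

theorem letters_Q : LettersLt (2 * 3) (coverRels 3 mm CC CC 9) :=
  coverRels_lt 3 mm CC CC 9 CC2_lt

theorem relsFix_Q0 : RelsFix (coverRels 3 mm CC CC 9) 1620 U43QM0.mT := U43QM0.relsFix

theorem tableOK_Q0 : TableOKI (2 * 3) 1620 linv U43QM0.mT := U43QM0.tableOK

theorem relsFix_Q1 : RelsFix (coverRels 3 mm CC CC 9) 1620 U43QM1.mT := U43QM1.relsFix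

theorem tableOK_Q1 : TableOKI (2 * 3) 1620 linv U43QM1.mT := U43QM1.tableOK

/-- the word of `z₁ ^ a z₂ ^ b`. -/
def zw (a b : ℕ) : List ℕ := (List.replicate a w1).flatten ++ (List.replicate b w2).flatten

theorem ev_zw (a b : ℕ) : ev (2 * 3) (coverRels 3 mm CC CC 9) (zw a b) =
    ev (2 * 3) (coverRels 3 mm CC CC 9) w1 ^ a * ev (2 * 3) (coverRels 3 mm CC CC 9) w2 ^ b := by
  unfold zw
  rw [ev_append, ← ev_pow, ← ev_pow]

theorem zw_lt (a b : ℕ) : ∀ c ∈ zw a b, c < 2 * 3 := by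
  intro c hc
  unfold zw at hc
  rcases List.mem_append.mp hc with h | h
  · obtain ⟨l, hl, hcl⟩ := List.mem_flatten.mp h
    rw [List.eq_of_mem_replicate hl] at hcl
    exact w1_lt c hcl
  · obtain ⟨l, hl, hcl⟩ := List.mem_flatten.mp h
    rw [List.eq_of_mem_replicate hl] at hcl
    exact w2_lt c hcl

set_option synthInstance.maxSize 2048 in
set_option synthInstance.maxHeartbeats 200000 in
set_option maxRecDepth 1000000 in
theorem tabInj : ∀ a, a < 3 → ∀ b, b < 3 → ∀ a', a' < 3 → ∀ b', b' < 3 →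
    Nat.pair (actL U43QM0.mT (zw a b) 0) (actL U43QM1.mT (zw a b) 0) =
      Nat.pair (actL U43QM0.mT (zw a' b') 0) (actL U43QM1.mT (zw a' b') 0) →
    a = a' ∧ b = b' := by
  decide +kernel

set_option maxRecDepth 1000000 in
theorem tab31 : Nat.pair (actL U43QM0.mT (zw 3 0) 0) (actL U43QM1.mT (zw 3 0) 0) =
    Nat.pair 0 0 := by decide +kernel

set_option maxRecDepth 1000000 in
theorem tab32 : Nat.pair (actL U43QM0.mT (zw 0 3) 0) (actL U43QM1.mT (zw 0 3) 0) =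
    Nat.pair 0 0 := by decide +kernel

/-- the point function. -/
noncomputable def ptQ (x : CovG 3 mm CC CC 9) : ℕ :=
  Nat.pair
    ((tableHomI LTC.linv_linv (fun x hx => linv_lt hx) letters_Q tableOK_Q0 relsFix_Q0 x)
      ⟨0, by norm_num⟩).val
    ((tableHomI LTC.linv_linv (fun x hx => linv_lt hx) letters_Q tableOK_Q1 relsFix_Q1 x)
      ⟨0, by norm_num⟩).val

theorem ptQ_ev (l : List ℕ) (hl : ∀ c ∈ l, c < 2 * 3) :
    ptQ (ev (2 * 3) (coverRels 3 mm CC CC 9) l) =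
      Nat.pair (actL U43QM0.mT l 0) (actL U43QM1.mT l 0) := by
  unfold ptQ
  rw [(actsOn_tableHomI LTC.linv_linv (fun x hx => linv_lt hx) letters_Q tableOK_Q0
      relsFix_Q0).act l hl ⟨0, by norm_num⟩,
    (actsOn_tableHomI LTC.linv_linv (fun x hx => linv_lt hx) letters_Q tableOK_Q1
      relsFix_Q1).act l hl ⟨0, by norm_num⟩]

theorem ptQ_one : ptQ 1 = Nat.pair 0 0 := by
  have h := ptQ_ev [] (by simp)
  rw [ev_nil] at h
  exact h

theorem cgenQ_pow7 : ∀ x ∈ {x : CovG 3 mm CC CC 9 | ∃ i, i < 3 ∧ x = cgen 3 mm CC CC 9 i},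
    x ^ 7 = 1 := by
  rintro x ⟨i, hi, rfl⟩
  exact cgen_pow 3 mm CC CC 9 hi

theorem stem_Q : Cfsg.IsStemExtension piF ∧ (∀ y ∈ piF.ker, y ^ 3 = 1) ∧
    Nonempty (piF.ker ≃* Multiplicative (ZMod 3 × ZMod 3)) := by
  refine Cfsg.Agent.Helper3.StemCC.stem_cncn 3 piF piF_surj
    (by rw [card_GG]; exact card_le_F.2)
    (ev (2 * 3) (coverRels 3 mm CC CC 9) w1) (ev (2 * 3) (coverRels 3 mm CC CC 9) w2)
    (cover_center 3 mm CC CC 9 w1_mem w1_lt)
    (cover_center 3 mm CC CC 9 w2_mem w2_lt)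
    (coverHomU_ker 3 mm CC CC 9 CC2_lt g g_pow CC2_rel w1_mem)
    (coverHomU_ker 3 mm CC CC 9 CC2_lt g g_pow CC2_rel w2_mem)
    ptQ ?_ ?_ ?_ _ (closure_cgen 3 mm CC CC 9) 7 cgenQ_pow7 (by decide)
  · intro a b a' b' ha hb ha' hb' h
    rw [← ev_zw, ← ev_zw, ptQ_ev _ (zw_lt a b), ptQ_ev _ (zw_lt a' b')] at h
    exact tabInj a ha b hb a' ha' b' hb' h
  · have h := ptQ_ev _ (zw_lt 3 0)
    rw [ev_zw, pow_zero, mul_one, tab31] at h
    rw [h, ptQ_one]
  · have h := ptQ_ev _ (zw_lt 0 3)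
    rw [ev_zw, pow_zero, one_mul, tab32] at h
    rw [h, ptQ_one]

theorem card_Q : Nat.card (CovG 3 mm CC CC 9) = Nat.card GG * 9 := by
  have h1 := card_eq_card_mul_ker piF piF_surj
  obtain ⟨e⟩ := stem_Q.2.2
  have h2 : Nat.card piF.ker = 9 := by
    rw [Nat.card_congr e.toEquiv]
    change Nat.card (ZMod 3 × ZMod 3) = 9
    rw [Nat.card_prod, Nat.card_zmod]
  rw [h1, h2]

end three

/-! ### the bound for the stem extensions -/

theorem mm_cop2 : ∀ i, i < 3 → g i ^ mm i = 1 ∧ (mm i).Coprime (2 ^ 7) := by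
  intro i hi
  exact ⟨g_pow i hi, by show Nat.Coprime 7 (2 ^ 7); decide⟩

theorem mm_cop3 : ∀ i, i < 3 → g i ^ mm i = 1 ∧ (mm i).Coprime (3 ^ 6) := by
  intro i hi
  exact ⟨g_pow i hi, by show Nat.Coprime 7 (3 ^ 6); decide⟩

theorem bound (Γ : Type) [Group Γ] [Finite Γ] (σ : Γ →* GG)
    (hσ : Cfsg.IsStemExtension σ) : Nat.card σ.ker ≤ 4 * 9 := by
  have hc := hσ.2.1
  have : Finite (LPG (2 * 3) (coverRels 3 mm CC CC 8)) := U43P.card_le_F.1
  have : Finite (CovG 3 mm CC CC (3 ^ 2)) := U43Q.card_le_F.1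
  have hcardP : Nat.card (LPG (2 * 3) (coverRels 3 mm CC CC 8)) ∣ Nat.card GG * 4 := by
    show Nat.card (CovG 3 mm CC CC 8) ∣ _
    rw [card_P]
  have hcardQ : Nat.card (CovG 3 mm CC CC (3 ^ 2)) ∣ Nat.card GG * 9 := by
    show Nat.card (CovG 3 mm CC CC 9) ∣ _
    rw [card_Q]
  have h2 : Nat.card (qmap σ hc 25515).ker ∣ 4 :=
    card_qmap_ker_dvd_of_pow_dvd σ hσ hc 2 Nat.prime_two 7 3 25515 8 (by norm_num)
      (by rw [card_GG]; norm_num)
      3 mm CC CC U43P.CC2_lt g g_closure mm_cop2 U43P.CC2_rel 4 hcardP (by decide)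
  have h3 : Nat.card (qmap σ hc 4480).ker ∣ 9 :=
    card_qmap_ker_dvd_of_exp σ hσ hc 3 6 1 2 4480 (by norm_num) (by rw [card_GG]; norm_num)
      3 mm CC CC U43Q.CC2_lt g g_closure mm_cop3 U43Q.CC2_rel 9 hcardQ
      (fun y hy => by rw [pow_one]; exact stem_Q.2.1 y hy)
  have h5 : ∀ z ∈ σ.ker, z ^ Nat.gcd 25515 4480 = 1 → z = 1 := by
    intro z hz hz1
    have e35 : Nat.gcd 25515 4480 = 5 * 7 := by decide
    rw [e35] at hz1
    refine eq_one_of_pow_eq_one σ hσ (5 * 7) ?_ z hz hz1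
    intro q hq hqd
    rw [card_GG]
    rcases (Nat.Prime.dvd_mul hq).mp hqd with h | h
    · rw [(Nat.prime_dvd_prime_iff_eq hq (by norm_num)).mp h]
      decide
    · rw [(Nat.prime_dvd_prime_iff_eq hq (by norm_num)).mp h]
      decide
  have h6 := card_ker_le_mul σ hc 25515 4480 h5
  calc Nat.card σ.ker ≤ Nat.card (qmap σ hc 25515).ker * Nat.card (qmap σ hc 4480).ker := h6
    _ ≤ 4 * 9 := Nat.mul_le_mul (Nat.le_of_dvd (by norm_num) h2) (Nat.le_of_dvd (by norm_num) h3)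

/-- **The Schur multiplier of `PSU₄(3)` is `C₄ × C₃ × C₃`.** -/
theorem main : Cfsg.HasSchurMultiplier GG (Multiplicative (ZMod 4 × ZMod 3 × ZMod 3)) := by
  have c4 : Nat.card (Multiplicative (ZMod 4)) = 4 := by
    change Nat.card (ZMod 4) = 4
    rw [Nat.card_zmod]
  have c9 : Nat.card (Multiplicative (ZMod 3 × ZMod 3)) = 9 := by
    change Nat.card (ZMod 3 × ZMod 3) = 9
    rw [Nat.card_prod, Nat.card_zmod]
  have hprod : Cfsg.HasSchurMultiplier GG
      (Multiplicative (ZMod 4) × Multiplicative (ZMod 3 × ZMod 3)) := by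
    apply hasSchurMultiplier_prod
    · rw [c4, c9]; decide
    · exact ⟨CovG 3 mm CC CC 8, inferInstance, U43P.card_le_F.1, U43P.piF, stem_P.1.1, stem_P.1.2⟩
    · exact ⟨CovG 3 mm CC CC 9, inferInstance, U43Q.card_le_F.1, U43Q.piF, stem_Q.1, stem_Q.2.2⟩
    · intro Γ _ _ σ hσ
      rw [c4, c9]
      exact bound Γ σ hσ
  exact hasSchurMultiplier_congr_right
    (MulEquiv.prodMultiplicative (G := ZMod 4) (H := ZMod 3 × ZMod 3)).symm hprod

end Cfsg.Agent.Helper3.U43
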