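import Mathlib
import Cfsg.Prelude.Def_Spor_Conway
import Cfsg.Agent.Helper9.LeechAct.Lin
import Cfsg.Agent.Helper9.Leech.Center

/-!
# The stabiliser of a triple of vectors of the lattice of rank 24 and `PSU₄(3)`: letters

Six words in the letters of `Cfsg.Agent.Helper9.LeechAct` (monomial automorphisms and the
automorphism of the partition into six parts): three automorphisms `a, b, c` of order 7 fixing the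
three standard vectors, each followed by its inverse, which satisfy the relators of the presentation
`Cfsg.Agent.Helper3.U43X.CC`, together with their matrices.
-/

set_option autoImplicit false
set_option maxRecDepth 100000

namespace Cfsg.Agent.Helper3.U43L

open Cfsg Cfsg.Agent.Helper9.Golay Cfsg.Agent.Helper9.Leech Cfsg.Agent.Helper9.LeechAct

/-- the words of the letters. -/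
def lws : List (List LLet) :=
  [[{ isXi := false, t := [23, 22, 11, 15, 17, 9, 19, 13, 20, 5, 16, 2, 21, 7, 18, 3, 10, 4, 14, 6, 8, 12, 1, 0], t' := [23, 22, 11, 15, 17, 9, 19, 13, 20, 5, 16, 2, 21, 7, 18, 3, 10, 4, 14, 6, 8, 12, 1, 0], m := 0x0 },
    { isXi := true, t := [], t' := [], m := 0 },
    { isXi := false, t := [23, 1, 13, 17, 19, 11, 21, 15, 22, 7, 18, 4, 0, 9, 20, 5, 12, 6, 16, 8, 10, 14, 3, 2], t' := [12, 1, 23, 22, 11, 15, 17, 9, 19, 13, 20, 5, 16, 2, 21, 7, 18, 3, 10, 4, 14, 6, 8, 0], m := 0x0 },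
    { isXi := true, t := [], t' := [], m := 0 },
    { isXi := false, t := [0, 8, 6, 11, 15, 16, 7, 3, 19, 20, 4, 9, 12, 22, 13, 1, 17, 21, 10, 5, 14, 18, 23, 2], t' := [0, 15, 23, 7, 10, 19, 2, 6, 1, 11, 18, 3, 12, 14, 20, 4, 5, 16, 21, 8, 9, 17, 13, 22], m := 0x0 }],
   [{ isXi := false, t := [23, 21, 22, 7, 11, 18, 15, 3, 17, 10, 9, 4, 19, 14, 13, 6, 20, 8, 5, 12, 16, 1, 2, 0], t' := [23, 21, 22, 7, 11, 18, 15, 3, 17, 10, 9, 4, 19, 14, 13, 6, 20, 8, 5, 12, 16, 1, 2, 0], m := 0x0 },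
    { isXi := true, t := [], t' := [], m := 0 },
    { isXi := false, t := [1, 19, 2, 5, 10, 22, 14, 20, 13, 7, 6, 12, 3, 4, 11, 21, 17, 15, 9, 16, 0, 18, 8, 23], t' := [20, 0, 2, 12, 13, 3, 10, 9, 22, 18, 4, 14, 11, 8, 6, 17, 19, 16, 21, 1, 7, 15, 5, 23], m := 0x0 },
    { isXi := true, t := [], t' := [], m := 0 },
    { isXi := false, t := [23, 15, 6, 13, 21, 7, 19, 20, 18, 16, 0, 2, 4, 17, 22, 11, 5, 9, 3, 8, 14, 12, 10, 1], t' := [10, 23, 11, 18, 12, 16, 2, 5, 19, 17, 22, 15, 21, 3, 20, 1, 9, 13, 8, 6, 7, 4, 14, 0], m := 0x0 }],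
   [{ isXi := false, t := [0, 1, 2, 3, 4, 5, 6, 7, 8, 9, 10, 11, 12, 13, 14, 15, 16, 17, 18, 19, 20, 21, 22, 23], t' := [0, 1, 2, 3, 4, 5, 6, 7, 8, 9, 10, 11, 12, 13, 14, 15, 16, 17, 18, 19, 20, 21, 22, 23], m := 0x0 },
    { isXi := true, t := [], t' := [], m := 0 },
    { isXi := false, t := [1, 2, 3, 4, 5, 6, 7, 8, 9, 10, 11, 12, 13, 14, 15, 16, 17, 18, 19, 20, 21, 22, 0, 23], t' := [22, 0, 1, 2, 3, 4, 5, 6, 7, 8, 9, 10, 11, 12, 13, 14, 15, 16, 17, 18, 19, 20, 21, 23], m := 0x0 },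
    { isXi := true, t := [], t' := [], m := 0 },
    { isXi := false, t := [2, 18, 3, 1, 10, 4, 20, 9, 16, 21, 14, 13, 8, 19, 15, 12, 22, 6, 17, 5, 7, 11, 0, 23], t' := [22, 3, 0, 2, 5, 19, 17, 20, 12, 7, 4, 21, 15, 11, 10, 14, 8, 18, 1, 13, 6, 9, 16, 23], m := 0x200f68 },
    { isXi := true, t := [], t' := [], m := 0 },
    { isXi := false, t := [5, 19, 9, 22, 17, 20, 6, 3, 16, 1, 2, 21, 8, 14, 10, 18, 13, 11, 7, 23, 4, 15, 12, 0], t' := [23, 9, 10, 7, 20, 0, 6, 18, 12, 2, 14, 17, 22, 16, 13, 21, 8, 4, 15, 1, 5, 11, 3, 19], m := 0x0 },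
    { isXi := true, t := [], t' := [], m := 0 },
    { isXi := false, t := [15, 16, 13, 21, 14, 19, 11, 6, 3, 22, 9, 23, 5, 0, 8, 4, 2, 18, 1, 12, 10, 7, 17, 20], t' := [13, 18, 16, 8, 15, 12, 7, 21, 14, 10, 20, 6, 19, 2, 4, 0, 1, 22, 17, 5, 23, 3, 9, 11], m := 0xfd9a9b }],
   [{ isXi := false, t := [0, 1, 2, 3, 4, 5, 6, 7, 8, 9, 10, 11, 12, 13, 14, 15, 16, 17, 18, 19, 20, 21, 22, 23], t' := [0, 1, 2, 3, 4, 5, 6, 7, 8, 9, 10, 11, 12, 13, 14, 15, 16, 17, 18, 19, 20, 21, 22, 23], m := 0x0 },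
    { isXi := true, t := [], t' := [], m := 0 },
    { isXi := false, t := [15, 14, 8, 6, 21, 4, 12, 11, 3, 16, 17, 18, 20, 13, 9, 5, 1, 10, 0, 22, 19, 7, 2, 23], t' := [18, 16, 22, 8, 5, 15, 3, 21, 2, 14, 17, 7, 6, 13, 1, 0, 9, 10, 11, 20, 12, 4, 19, 23], m := 0x0 },
    { isXi := true, t := [], t' := [], m := 0 },
    { isXi := false, t := [7, 9, 3, 20, 21, 14, 12, 8, 6, 4, 18, 23, 17, 1, 0, 22, 5, 19, 10, 16, 13, 11, 15, 2], t' := [14, 13, 23, 2, 9, 16, 8, 0, 7, 1, 18, 21, 6, 20, 5, 22, 19, 12, 10, 17, 3, 4, 15, 11], m := 0x800c75 },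
    { isXi := true, t := [], t' := [], m := 0 },
    { isXi := false, t := [9, 21, 5, 7, 0, 12, 3, 19, 18, 15, 8, 1, 16, 17, 14, 23, 6, 11, 10, 4, 22, 13, 2, 20], t' := [4, 11, 22, 6, 19, 2, 16, 3, 10, 0, 18, 17, 5, 21, 14, 9, 12, 13, 8, 7, 23, 1, 20, 15], m := 0xe81e17 }],
   [{ isXi := false, t := [0, 1, 2, 3, 4, 5, 6, 7, 8, 9, 10, 11, 12, 13, 14, 15, 16, 17, 18, 19, 20, 21, 22, 23], t' := [0, 1, 2, 3, 4, 5, 6, 7, 8, 9, 10, 11, 12, 13, 14, 15, 16, 17, 18, 19, 20, 21, 22, 23], m := 0x0 },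
    { isXi := true, t := [], t' := [], m := 0 },
    { isXi := false, t := [1, 2, 3, 4, 5, 6, 7, 8, 9, 10, 11, 12, 13, 14, 15, 16, 17, 18, 19, 20, 21, 22, 0, 23], t' := [22, 0, 1, 2, 3, 4, 5, 6, 7, 8, 9, 10, 11, 12, 13, 14, 15, 16, 17, 18, 19, 20, 21, 23], m := 0x0 },
    { isXi := true, t := [], t' := [], m := 0 },
    { isXi := false, t := [2, 18, 3, 1, 10, 4, 20, 9, 16, 21, 14, 13, 8, 19, 15, 12, 22, 6, 17, 5, 7, 11, 0, 23], t' := [22, 3, 0, 2, 5, 19, 17, 20, 12, 7, 4, 21, 15, 11, 10, 14, 8, 18, 1, 13, 6, 9, 16, 23], m := 0x200f68 },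
    { isXi := true, t := [], t' := [], m := 0 },
    { isXi := false, t := [5, 19, 9, 22, 17, 20, 6, 3, 16, 1, 2, 21, 8, 14, 10, 18, 13, 11, 7, 23, 4, 15, 12, 0], t' := [23, 9, 10, 7, 20, 0, 6, 18, 12, 2, 14, 17, 22, 16, 13, 21, 8, 4, 15, 1, 5, 11, 3, 19], m := 0x0 },
    { isXi := true, t := [], t' := [], m := 0 },
    { isXi := false, t := [15, 16, 11, 2, 9, 23, 14, 18, 17, 7, 13, 19, 1, 0, 4, 6, 3, 8, 10, 5, 12, 22, 21, 20], t' := [13, 12, 3, 16, 14, 19, 15, 9, 17, 4, 18, 2, 20, 10, 6, 0, 1, 8, 7, 11, 23, 22, 21, 5], m := 0xfd9a9b }],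
   [{ isXi := false, t := [0, 1, 2, 3, 4, 5, 6, 7, 8, 9, 10, 11, 12, 13, 14, 15, 16, 17, 18, 19, 20, 21, 22, 23], t' := [0, 1, 2, 3, 4, 5, 6, 7, 8, 9, 10, 11, 12, 13, 14, 15, 16, 17, 18, 19, 20, 21, 22, 23], m := 0x0 },
    { isXi := true, t := [], t' := [], m := 0 },
    { isXi := false, t := [0, 2, 4, 6, 8, 10, 12, 14, 16, 18, 20, 22, 1, 3, 5, 7, 9, 11, 13, 15, 17, 19, 21, 23], t' := [0, 12, 1, 13, 2, 14, 3, 15, 4, 16, 5, 17, 6, 18, 7, 19, 8, 20, 9, 21, 10, 22, 11, 23], m := 0x0 },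
    { isXi := true, t := [], t' := [], m := 0 },
    { isXi := false, t := [11, 17, 19, 20, 16, 21, 18, 10, 14, 8, 1, 22, 15, 9, 13, 5, 2, 7, 3, 4, 6, 12, 23, 0], t' := [23, 10, 16, 18, 19, 15, 20, 17, 9, 13, 7, 0, 21, 14, 8, 12, 4, 1, 6, 2, 3, 5, 11, 22], m := 0x0 },
    { isXi := true, t := [], t' := [], m := 0 },
    { isXi := false, t := [15, 20, 21, 8, 16, 9, 1, 18, 6, 3, 19, 4, 13, 12, 22, 17, 14, 5, 0, 11, 2, 7, 10, 23], t' := [18, 6, 20, 9, 11, 17, 8, 21, 3, 5, 22, 19, 13, 12, 16, 0, 4, 15, 7, 10, 1, 2, 14, 23], m := 0x0 },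
    { isXi := true, t := [], t' := [], m := 0 },
    { isXi := false, t := [23, 8, 11, 10, 1, 7, 21, 14, 6, 19, 20, 15, 5, 2, 4, 17, 12, 3, 13, 16, 22, 9, 0, 18], t' := [22, 4, 13, 17, 14, 12, 8, 5, 1, 21, 3, 2, 16, 18, 7, 11, 19, 15, 23, 9, 10, 6, 20, 0], m := 0x0 }]]

/-- the rows of the matrices of the letters: the entry `k` of the row `q` is the coordinate `q` of the
image of the vector whose coordinate `k` is 8. -/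
def rowD : List (List (List ℤ)) :=
  [[[6, -2, 0, -2, 0, 0, 0, 0, 0, 0, 0, 0, 2, 0, 0, -2, 0, 0, 0, 0, 0, -2, -2, 2],
    [-2, 6, 0, -2, 0, 0, 0, 0, 0, 0, 0, 0, 2, 0, 0, -2, 0, 0, 0, 0, 0, -2, -2, 2],
    [0, 0, 2, 0, 2, -2, 2, -2, -2, 2, 2, 2, 0, 2, 2, 0, -2, 2, -2, 2, -2, 0, 0, 0],
    [0, 0, -2, 0, 2, 2, 2, 2, -2, -2, 2, 2, 0, 2, -2, 0, 2, -2, 2, 2, -2, 0, 0, 0],
    [0, 0, 2, 0, -2, 2, 2, 2, 2, 2, 2, 2, 0, -2, 2, 0, -2, -2, 2, -2, -2, 0, 0, 0],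
    [0, 0, 2, 0, 2, -2, -2, 2, 2, -2, -2, 2, 0, -2, 2, 0, 2, 2, 2, 2, -2, 0, 0, 0],
    [0, 0, -2, 0, 2, -2, 2, 2, 2, 2, 2, -2, 0, -2, -2, 0, -2, 2, 2, 2, 2, 0, 0, 0],
    [2, 2, 0, 2, 0, 0, 0, 0, 0, 0, 0, 0, 6, 0, 0, 2, 0, 0, 0, 0, 0, 2, 2, -2],
    [0, 0, 2, 0, 2, 2, -2, -2, 2, -2, 2, 2, 0, 2, -2, 0, -2, 2, 2, -2, 2, 0, 0, 0],
    [0, 0, 2, 0, 2, 2, 2, -2, 2, -2, 2, -2, 0, -2, 2, 0, 2, -2, -2, 2, 2, 0, 0, 0],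
    [-2, -2, 0, -2, 0, 0, 0, 0, 0, 0, 0, 0, 2, 0, 0, -2, 0, 0, 0, 0, 0, 6, -2, 2],
    [-2, -2, 0, -2, 0, 0, 0, 0, 0, 0, 0, 0, 2, 0, 0, -2, 0, 0, 0, 0, 0, -2, 6, 2],
    [0, 0, 2, 0, 2, 2, -2, 2, -2, 2, -2, -2, 0, 2, 2, 0, -2, -2, 2, 2, 2, 0, 0, 0],
    [0, 0, -2, 0, -2, 2, 2, 2, 2, -2, -2, 2, 0, 2, 2, 0, -2, 2, -2, 2, 2, 0, 0, 0],
    [0, 0, 2, 0, -2, -2, 2, 2, -2, -2, 2, -2, 0, 2, 2, 0, 2, 2, 2, -2, 2, 0, 0, 0],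
    [0, 0, 2, 0, -2, -2, 2, -2, 2, 2, -2, 2, 0, 2, -2, 0, 2, -2, 2, 2, 2, 0, 0, 0],
    [0, 0, 2, 0, -2, 2, -2, 2, 2, 2, 2, -2, 0, 2, -2, 0, 2, 2, -2, 2, -2, 0, 0, 0],
    [-2, -2, 0, 6, 0, 0, 0, 0, 0, 0, 0, 0, 2, 0, 0, -2, 0, 0, 0, 0, 0, -2, -2, 2],
    [0, 0, -2, 0, -2, 2, -2, -2, -2, 2, 2, 2, 0, -2, 2, 0, 2, 2, 2, 2, 2, 0, 0, 0],
    [0, 0, -2, 0, 2, 2, 2, -2, 2, 2, -2, -2, 0, 2, 2, 0, 2, 2, 2, -2, -2, 0, 0, 0],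
    [0, 0, -2, 0, 2, -2, -2, 2, 2, 2, 2, 2, 0, 2, 2, 0, 2, -2, -2, -2, 2, 0, 0, 0],
    [0, 0, 2, 0, 2, 2, 2, 2, -2, 2, -2, 2, 0, -2, -2, 0, 2, 2, -2, -2, 2, 0, 0, 0],
    [-2, -2, 0, -2, 0, 0, 0, 0, 0, 0, 0, 0, 2, 0, 0, 6, 0, 0, 0, 0, 0, -2, -2, 2],
    [2, 2, 0, 2, 0, 0, 0, 0, 0, 0, 0, 0, -2, 0, 0, 2, 0, 0, 0, 0, 0, 2, 2, 6]],
   [[6, -2, 0, 0, 0, 0, 0, 2, 0, 0, -2, -2, 0, 0, 0, 0, 0, -2, 0, 0, 0, 0, -2, 2],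
    [-2, 6, 0, 0, 0, 0, 0, 2, 0, 0, -2, -2, 0, 0, 0, 0, 0, -2, 0, 0, 0, 0, -2, 2],
    [0, 0, 2, -2, 2, 2, -2, 0, 2, 2, 0, 0, 2, -2, 2, 2, 2, 0, -2, -2, -2, 2, 0, 0],
    [-2, -2, 0, 0, 0, 0, 0, 2, 0, 0, -2, -2, 0, 0, 0, 0, 0, 6, 0, 0, 0, 0, -2, 2],
    [0, 0, 2, 2, -2, 2, 2, 0, 2, 2, 0, 0, 2, -2, -2, -2, -2, 0, -2, 2, 2, 2, 0, 0],
    [0, 0, -2, 2, 2, -2, -2, 0, 2, 2, 0, 0, 2, 2, -2, -2, 2, 0, 2, 2, -2, 2, 0, 0],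
    [0, 0, 2, 2, 2, -2, 2, 0, -2, 2, 0, 0, -2, 2, 2, 2, -2, 0, -2, 2, -2, 2, 0, 0],
    [0, 0, -2, 2, 2, 2, 2, 0, -2, -2, 0, 0, 2, 2, 2, -2, 2, 0, -2, -2, 2, 2, 0, 0],
    [0, 0, -2, -2, 2, 2, 2, 0, 2, 2, 0, 0, -2, 2, -2, 2, 2, 0, -2, 2, 2, -2, 0, 0],
    [0, 0, 2, -2, 2, -2, 2, 0, -2, -2, 0, 0, 2, -2, -2, 2, 2, 0, 2, 2, 2, 2, 0, 0],
    [0, 0, 2, 2, 2, -2, 2, 0, 2, 2, 0, 0, -2, -2, 2, -2, 2, 0, 2, -2, 2, -2, 0, 0],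
    [0, 0, 2, 2, 2, 2, -2, 0, 2, -2, 0, 0, -2, 2, -2, 2, -2, 0, 2, -2, 2, 2, 0, 0],
    [2, 2, 0, 0, 0, 0, 0, 6, 0, 0, 2, 2, 0, 0, 0, 0, 0, 2, 0, 0, 0, 0, 2, -2],
    [0, 0, 2, 2, -2, -2, -2, 0, 2, -2, 0, 0, 2, 2, 2, 2, 2, 0, -2, 2, 2, -2, 0, 0],
    [0, 0, 2, -2, 2, 2, -2, 0, -2, 2, 0, 0, 2, 2, 2, -2, -2, 0, 2, 2, 2, -2, 0, 0],
    [-2, -2, 0, 0, 0, 0, 0, 2, 0, 0, -2, -2, 0, 0, 0, 0, 0, -2, 0, 0, 0, 0, 6, 2],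
    [0, 0, -2, 2, -2, 2, -2, 0, -2, 2, 0, 0, -2, -2, 2, 2, 2, 0, 2, 2, 2, 2, 0, 0],
    [0, 0, 2, -2, -2, 2, 2, 0, 2, -2, 0, 0, -2, 2, 2, -2, 2, 0, 2, 2, -2, 2, 0, 0],
    [0, 0, -2, 2, 2, 2, 2, 0, 2, -2, 0, 0, 2, -2, 2, 2, -2, 0, 2, 2, -2, -2, 0, 0],
    [0, 0, 2, 2, -2, 2, 2, 0, -2, 2, 0, 0, 2, 2, -2, 2, 2, 0, 2, -2, -2, -2, 0, 0],
    [0, 0, -2, -2, -2, -2, 2, 0, 2, 2, 0, 0, 2, 2, 2, 2, -2, 0, 2, -2, 2, 2, 0, 0],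
    [-2, -2, 0, 0, 0, 0, 0, 2, 0, 0, 6, -2, 0, 0, 0, 0, 0, -2, 0, 0, 0, 0, -2, 2],
    [-2, -2, 0, 0, 0, 0, 0, 2, 0, 0, -2, 6, 0, 0, 0, 0, 0, -2, 0, 0, 0, 0, -2, 2],
    [2, 2, 0, 0, 0, 0, 0, -2, 0, 0, 2, 2, 0, 0, 0, 0, 0, 2, 0, 0, 0, 0, 2, 6]],
   [[5, -3, 1, 1, -1, -1, -1, -1, -1, -1, -1, -1, -1, 1, -1, -1, -1, -1, 1, -1, 1, 1, -1, 3],
    [-3, 5, 1, 1, -1, -1, -1, -1, -1, -1, -1, -1, -1, 1, -1, -1, -1, -1, 1, -1, 1, 1, -1, 3],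
    [-1, -1, -1, 3, 1, 1, 1, -3, 1, -3, 1, 1, 1, -1, 1, 1, -3, 1, 3, 1, -1, -1, 1, 1],
    [-1, -1, 3, -1, 1, 1, 1, 1, 1, -3, -3, 1, 1, -1, 1, -3, 1, 1, -1, 1, 3, -1, 1, 1],
    [-1, -1, -1, 3, -3, 1, 1, 1, 1, 1, 1, -3, 1, -1, 1, 1, 1, 1, -1, -3, 3, -1, 1, 1],
    [-1, -1, -1, -1, 1, -3, 1, 1, 1, -3, 1, -3, 1, 3, 1, 1, 1, 1, -1, 1, -1, 3, 1, 1],
    [-1, -1, -1, -1, -3, 1, 1, 1, 1, 1, -3, 1, 1, -1, -3, 1, 1, 1, 3, 1, -1, 3, 1, 1],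
    [-1, -1, 3, -1, 1, 1, 1, 1, -3, 1, 1, -3, -3, -1, 1, 1, 1, 1, 3, 1, -1, -1, 1, 1],
    [1, 1, 1, 1, -1, -1, -1, 3, -1, -1, 3, 3, -1, 1, -1, -1, -1, 3, 1, -1, 1, 1, 3, -1],
    [-1, -1, 3, -1, -3, 1, 1, 1, 1, 1, 1, 1, 1, 3, 1, 1, -3, 1, -1, 1, -1, -1, -3, 1],
    [1, 1, 1, 1, -1, 3, -1, -1, -1, -1, 3, -1, 3, 1, -1, -1, 3, -1, 1, 3, 1, 1, -1, -1],
    [-1, -1, -1, -1, 1, 1, 1, -3, 1, 1, 1, 1, -3, 3, -3, 1, 1, 1, -1, 1, 3, -1, 1, 1],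
    [1, 1, 1, 1, 3, 3, -1, 3, 3, -1, -1, -1, -1, 1, -1, 3, -1, -1, 1, -1, 1, 1, -1, -1],
    [-1, -1, -1, 3, 1, 1, -3, 1, -3, 1, -3, 1, 1, 3, 1, 1, 1, 1, -1, 1, -1, -1, 1, 1],
    [1, 1, 1, 1, -1, -1, -1, -1, 3, 3, -1, -1, -1, 1, 3, -1, -1, -1, 1, 3, 1, 1, 3, -1],
    [1, 1, 1, 1, -1, -1, 3, -1, -1, -1, -1, 3, -1, 1, 3, 3, 3, -1, 1, -1, 1, 1, -1, -1],
    [-1, -1, 3, 3, 1, -3, 1, 1, 1, 1, 1, 1, 1, -1, -3, 1, 1, -3, -1, 1, -1, -1, 1, 1],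
    [1, 1, 1, 1, 3, -1, 3, -1, -1, 3, -1, -1, 3, 1, -1, -1, -1, 3, 1, -1, 1, 1, -1, -1],
    [-1, -1, 3, -1, 1, 1, -3, -3, 1, 1, 1, 1, 1, -1, 1, 1, 1, 1, -1, -3, -1, 3, 1, 1],
    [-1, -1, -1, -1, 1, -3, -3, 1, 1, 1, 1, 1, 1, -1, 1, 1, 1, 1, 3, 1, 3, -1, -3, 1],
    [-1, -1, -1, -1, 1, 1, 1, 1, -3, 1, 1, 1, 1, -1, 1, 1, -3, -3, -1, 1, 3, 3, 1, 1],
    [-1, -1, -1, -1, 1, 1, 1, 1, 1, 1, 1, 1, 1, 3, 1, -3, 1, -3, 3, -3, -1, -1, 1, 1],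
    [-1, -1, -1, 3, 1, 1, 1, 1, 1, 1, 1, 1, -3, -1, 1, -3, 1, 1, -1, 1, -1, 3, -3, 1],
    [3, 3, -1, -1, 1, 1, 1, 1, 1, 1, 1, 1, 1, -1, 1, 1, 1, 1, -1, 1, -1, -1, 1, 5]],
   [[5, -3, -1, -1, -1, -1, -1, -1, 1, -1, 1, -1, 1, -1, 1, 1, -1, 1, -1, -1, -1, -1, -1, 3],
    [-3, 5, -1, -1, -1, -1, -1, -1, 1, -1, 1, -1, 1, -1, 1, 1, -1, 1, -1, -1, -1, -1, -1, 3],
    [1, 1, -1, 3, -1, -1, -1, 3, 1, 3, 1, -1, 1, -1, 1, 1, 3, 1, 3, -1, -1, -1, -1, -1],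
    [1, 1, 3, -1, 3, -1, -1, -1, 1, -1, 1, -1, 1, 3, 1, 1, 3, 1, -1, -1, -1, -1, 3, -1],
    [-1, -1, 1, 1, -3, 1, -3, 1, -1, -3, -1, 1, 3, 1, -1, -1, 1, 3, 1, 1, 1, 1, 1, 1],
    [-1, -1, 1, 1, 1, -3, 1, 1, -1, 1, 3, 1, 3, 1, -1, -1, -3, -1, 1, -3, 1, 1, 1, 1],
    [-1, -1, 1, 1, 1, 1, 1, 1, -1, 1, -1, 1, -1, -3, -1, 3, 1, 3, -3, -3, 1, 1, 1, 1],
    [-1, -1, -3, 1, 1, 1, 1, 1, 3, 1, -1, -3, 3, 1, -1, -1, 1, -1, -3, 1, 1, 1, 1, 1],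
    [-1, -1, 1, 1, 1, 1, 1, -3, -1, 1, -1, 1, 3, -3, 3, -1, 1, -1, 1, 1, -3, 1, 1, 1],
    [-1, -1, -3, -3, 1, -3, 1, 1, -1, 1, -1, 1, -1, 1, 3, -1, 1, 3, 1, 1, 1, 1, 1, 1],
    [-1, -1, 1, -3, 1, 1, -3, 1, 3, 1, 3, 1, -1, -3, -1, -1, 1, -1, 1, 1, 1, 1, 1, 1],
    [-1, -1, 1, 1, -3, -3, 1, -3, 3, 1, -1, 1, -1, 1, -1, 3, 1, -1, 1, 1, 1, 1, 1, 1],
    [-1, -1, 1, 1, 1, 1, 1, -3, -1, 1, 3, -3, -1, 1, -1, -1, 1, 3, 1, 1, 1, 1, -3, 1],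
    [1, 1, -1, -1, -1, 3, -1, -1, 1, 3, 1, 3, 1, 3, 1, 1, -1, 1, -1, -1, -1, 3, -1, -1],
    [-1, -1, 1, 1, 1, 1, -3, 1, -1, 1, -1, -3, -1, 1, 3, 3, -3, -1, 1, 1, 1, 1, 1, 1],
    [-1, -1, 1, -3, 1, 1, 1, 1, -1, 1, -1, 1, 3, 1, -1, 3, 1, -1, 1, 1, 1, -3, -3, 1],
    [-1, -1, -3, 1, 1, 1, 1, 1, -1, -3, 3, 1, -1, 1, -1, 3, 1, -1, 1, 1, -3, 1, 1, 1],
    [-1, -1, 1, 1, 1, 1, 1, 1, 3, 1, -1, 1, -1, 1, -1, -1, -3, 3, 1, 1, -3, -3, 1, 1],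
    [1, 1, 3, -1, -1, -1, 3, 3, 1, -1, 1, -1, 1, -1, 1, 1, -1, 1, -1, 3, -1, 3, -1, -1],
    [-1, -1, 1, 1, -3, 1, 1, 1, -1, 1, 3, 1, -1, 1, 3, -1, 1, -1, -3, 1, 1, -3, 1, 1],
    [1, 1, -1, 3, 3, -1, -1, -1, 1, -1, 1, 3, 1, -1, 1, 1, -1, 1, -1, 3, 3, -1, -1, -1],
    [1, 1, -1, -1, -1, 3, 3, -1, 1, -1, 1, -1, 1, -1, 1, 1, -1, 1, 3, -1, 3, -1, 3, -1],
    [-1, -1, 1, 1, 1, 1, 1, 1, 3, -3, -1, 1, -1, 1, 3, -1, 1, -1, 1, -3, 1, 1, -3, 1],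
    [3, 3, 1, 1, 1, 1, 1, 1, -1, 1, -1, 1, -1, 1, -1, -1, 1, -1, 1, 1, 1, 1, 1, 5]],
   [[5, -3, -1, -1, -1, -1, -1, -1, -1, 1, 1, -1, 1, 1, -1, -1, -1, -1, 1, -1, -1, -1, 1, 3],
    [-3, 5, -1, -1, -1, -1, -1, -1, -1, 1, 1, -1, 1, 1, -1, -1, -1, -1, 1, -1, -1, -1, 1, 3],
    [-1, -1, 1, -3, 1, 1, 1, 1, 1, -1, -1, 1, 3, -1, 1, -3, 1, 1, -1, 1, 1, -3, 3, 1],
    [-1, -1, 1, 1, -3, 1, 1, 1, 1, -1, 3, 1, -1, -1, -3, 1, 1, 1, 3, 1, 1, -3, -1, 1],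
    [-1, -1, 1, 1, 1, -3, -3, 1, 1, -1, -1, 1, -1, -1, 1, 1, 1, 1, 3, 1, -3, 1, 3, 1],
    [-1, -1, 1, 1, 1, -3, 1, 1, 1, 3, -1, -3, -1, 3, 1, 1, 1, 1, -1, 1, 1, -3, -1, 1],
    [-1, -1, 1, 1, -3, 1, -3, 1, 1, 3, -1, 1, 3, -1, 1, 1, 1, -3, -1, 1, 1, 1, -1, 1],
    [-1, -1, 1, 1, 1, -3, 1, 1, 1, -1, 3, 1, 3, -1, 1, 1, -3, 1, -1, -3, 1, 1, -1, 1],
    [1, 1, -1, -1, 3, 3, -1, 3, 3, 1, 1, -1, 1, 1, -1, 3, -1, -1, 1, -1, -1, -1, 1, -1],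
    [-1, -1, 1, -3, 1, 1, -3, 1, -3, -1, 3, 1, -1, 3, 1, 1, 1, 1, -1, 1, 1, 1, -1, 1],
    [1, 1, -1, 3, 3, -1, -1, -1, -1, 1, 1, 3, 1, 1, -1, -1, -1, -1, 1, 3, 3, -1, 1, -1],
    [-1, -1, 1, 1, 1, 1, 1, 1, 1, -1, -1, 1, -1, 3, 1, -3, 1, -3, 3, -3, 1, 1, -1, 1],
    [1, 1, -1, -1, -1, -1, 3, -1, -1, 1, 1, 3, 1, 1, 3, 3, 3, -1, 1, -1, -1, -1, 1, -1],
    [-1, -1, -3, 1, -3, 1, 1, 1, 1, -1, -1, 1, -1, 3, 1, 1, -3, 1, -1, 1, 1, 1, 3, 1],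
    [1, 1, -1, -1, -1, -1, -1, -1, 3, 1, 1, -1, 1, 1, -1, -1, 3, 3, 1, -1, 3, 3, 1, -1],
    [1, 1, 3, 3, -1, 3, -1, -1, -1, 1, 1, -1, 1, 1, 3, -1, -1, 3, 1, -1, -1, -1, 1, -1],
    [-1, -1, 1, 1, 1, 1, 1, -3, 1, -1, 3, -3, -1, -1, 1, 1, 1, -3, -1, 1, 1, 1, 3, 1],
    [1, 1, 3, -1, -1, -1, 3, 3, -1, 1, 1, -1, 1, 1, -1, -1, -1, -1, 1, 3, -1, 3, 1, -1],
    [-1, -1, -3, 1, 1, 1, 1, 1, 1, 3, 3, 1, -1, -1, 1, -3, 1, 1, -1, 1, -3, 1, -1, 1],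
    [-1, -1, -3, 1, 1, 1, 1, 1, -3, -1, -1, -3, 3, -1, 1, 1, 1, 1, 3, 1, 1, 1, -1, 1],
    [-1, -1, 1, -3, 1, 1, 1, -3, 1, 3, -1, 1, -1, -1, 1, 1, -3, 1, 3, 1, 1, 1, -1, 1],
    [-1, -1, 1, 1, 1, 1, 1, -3, 1, -1, -1, 1, 3, 3, -3, 1, 1, 1, -1, 1, -3, 1, -1, 1],
    [-1, -1, 1, 1, 1, 1, 1, 1, -3, 3, -1, 1, -1, -1, -3, 1, 1, 1, -1, -3, 1, 1, 3, 1],
    [3, 3, 1, 1, 1, 1, 1, 1, 1, -1, -1, 1, -1, -1, 1, 1, 1, 1, -1, 1, 1, 1, -1, 5]],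
   [[5, -3, -1, -1, -1, -1, -1, -1, 1, -1, 1, -1, 1, -1, 1, 1, -1, 1, -1, -1, -1, -1, -1, 3],
    [-3, 5, -1, -1, -1, -1, -1, -1, 1, -1, 1, -1, 1, -1, 1, 1, -1, 1, -1, -1, -1, -1, -1, 3],
    [-1, -1, 1, 1, 1, 1, 1, 1, -1, 1, -1, 1, -1, -3, -1, 3, 1, 3, -3, -3, 1, 1, 1, 1],
    [-1, -1, -3, 1, 1, 1, 1, 1, -1, -3, 3, 1, -1, 1, -1, 3, 1, -1, 1, 1, -3, 1, 1, 1],
    [-1, -1, 1, -3, 1, 1, -3, 1, 3, 1, 3, 1, -1, -3, -1, -1, 1, -1, 1, 1, 1, 1, 1, 1],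
    [-1, -1, 1, 1, -3, -3, 1, -3, 3, 1, -1, 1, -1, 1, -1, 3, 1, -1, 1, 1, 1, 1, 1, 1],
    [-1, -1, 1, 1, -3, 1, -3, 1, -1, -3, -1, 1, 3, 1, -1, -1, 1, 3, 1, 1, 1, 1, 1, 1],
    [-1, -1, 1, 1, 1, 1, 1, 1, 3, 1, -1, 1, -1, 1, -1, -1, -3, 3, 1, 1, -3, -3, 1, 1],
    [-1, -1, 1, 1, 1, 1, 1, 1, 3, -3, -1, 1, -1, 1, 3, -1, 1, -1, 1, -3, 1, 1, -3, 1],
    [1, 1, -1, -1, -1, 3, 3, -1, 1, -1, 1, -1, 1, -1, 1, 1, -1, 1, 3, -1, 3, -1, 3, -1],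
    [1, 1, -1, 3, -1, -1, -1, 3, 1, 3, 1, -1, 1, -1, 1, 1, 3, 1, 3, -1, -1, -1, -1, -1],
    [-1, -1, 1, 1, 1, -3, 1, 1, -1, 1, 3, 1, 3, 1, -1, -1, -3, -1, 1, -3, 1, 1, 1, 1],
    [1, 1, 3, -1, -1, -1, 3, 3, 1, -1, 1, -1, 1, -1, 1, 1, -1, 1, -1, 3, -1, 3, -1, -1],
    [1, 1, -1, -1, -1, 3, -1, -1, 1, 3, 1, 3, 1, 3, 1, 1, -1, 1, -1, -1, -1, 3, -1, -1],
    [-1, -1, 1, -3, 1, 1, 1, 1, -1, 1, -1, 1, 3, 1, -1, 3, 1, -1, 1, 1, 1, -3, -3, 1],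
    [-1, -1, -3, 1, 1, 1, 1, 1, 3, 1, -1, -3, 3, 1, -1, -1, 1, -1, -3, 1, 1, 1, 1, 1],
    [-1, -1, 1, 1, 1, 1, 1, -3, -1, 1, -1, 1, 3, -3, 3, -1, 1, -1, 1, 1, -3, 1, 1, 1],
    [-1, -1, 1, 1, 1, 1, -3, 1, -1, 1, -1, -3, -1, 1, 3, 3, -3, -1, 1, 1, 1, 1, 1, 1],
    [1, 1, -1, 3, 3, -1, -1, -1, 1, -1, 1, 3, 1, -1, 1, 1, -1, 1, -1, 3, 3, -1, -1, -1],
    [-1, -1, 1, 1, 1, 1, 1, -3, -1, 1, 3, -3, -1, 1, -1, -1, 1, 3, 1, 1, 1, 1, -3, 1],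
    [-1, -1, 1, 1, -3, 1, 1, 1, -1, 1, 3, 1, -1, 1, 3, -1, 1, -1, -3, 1, 1, -3, 1, 1],
    [-1, -1, -3, -3, 1, -3, 1, 1, -1, 1, -1, 1, -1, 1, 3, -1, 1, 3, 1, 1, 1, 1, 1, 1],
    [1, 1, 3, -1, 3, -1, -1, -1, 1, -1, 1, -1, 1, 3, 1, 1, 3, 1, -1, -1, -1, -1, 3, -1],
    [3, 3, 1, 1, 1, 1, 1, 1, -1, 1, -1, 1, -1, 1, -1, -1, 1, -1, 1, 1, 1, 1, 1, 5]]]

theorem lws_ok : lws.all (fun w => w.all letOK) = true := by decide +kernel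

/-- the word of a letter. -/
def lw (c : ℕ) : List LLet := lws.getD c []

theorem lw_ok (c : ℕ) : ∀ l ∈ lw c, letOK l = true := by
  intro l hl
  have h1 := lws_ok
  rw [List.all_eq_true] at h1
  by_cases hc : c < lws.length
  · have hm : lw c ∈ lws := by
      unfold lw
      rw [List.getD_eq_getElem _ _ hc]
      exact List.getElem_mem hc
    have h2 := h1 _ hm
    rw [List.all_eq_true] at h2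
    exact h2 l hl
  · unfold lw at hl
    rw [List.getD_eq_default _ _ (by omega)] at hl
    exact absurd hl List.not_mem_nil

/-- the automorphism of a letter. -/
def gw (c : ℕ) : Equiv.Perm ↥leechLattice := wordEl (lw c)

theorem gw_mem (c : ℕ) : gw c ∈ Co0 := wordEl_mem _

theorem mem_co0 (r : List ℕ) : (r.map gw).prod ∈ Co0 := by
  apply Subgroup.list_prod_mem
  intro x hx
  obtain ⟨c, -, rfl⟩ := List.mem_map.mp hx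
  exact gw_mem c

end Cfsg.Agent.Helper3.U43L
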