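import Mathlib
import Cfsg.Agent.Helper3.U43LDat
import Cfsg.Agent.Helper9.LeechAct.Bridge
import Cfsg.Agent.Helper9.Leech.McL9

/-!
# The stabiliser of a triple of vectors of the lattice of rank 24 and `PSU₄(3)`: fixed vectors

The six words of letters fix the three standard vectors; the first one is not the identity.
-/

set_option autoImplicit false
set_option maxRecDepth 100000

namespace Cfsg.Agent.Helper3.U43L

open Cfsg Cfsg.Agent.Helper9.Golay Cfsg.Agent.Helper9.Leech Cfsg.Agent.Helper9.LeechAct

/-- the check that a word fixes the three standard vectors. -/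
def fixChk (c : ℕ) : Bool :=
  (wordL (lw c) alVA == alVA) && (wordL (lw c) al1 == al1) && (wordL (lw c) alXstd == alXstd)

theorem fix_all : ∀ c, c < 6 → fixChk c = true := by decide +kernel

theorem gw_fix_of_list {c : ℕ} {z : ↥leechLattice} {al : List ℤ}
    (hz : (z : GolayPt → ℤ) = toVec al) (h : wordL (lw c) al = al) : gw c z = z := by
  apply Subtype.ext
  unfold gw
  rw [wordEl_apply (lw_ok c) hz, h, hz]

theorem gw_vA {c : ℕ} (hc : c < 6) : gw c vA = vA := by
  have h := fix_all c hc
  unfold fixChk at h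
  rw [Bool.and_eq_true, Bool.and_eq_true, beq_iff_eq, beq_iff_eq, beq_iff_eq] at h
  exact gw_fix_of_list vA_eq h.1.1

theorem gw_std1 {c : ℕ} (hc : c < 6) : gw c std1 = std1 := by
  have h := fix_all c hc
  unfold fixChk at h
  rw [Bool.and_eq_true, Bool.and_eq_true, beq_iff_eq, beq_iff_eq, beq_iff_eq] at h
  exact gw_fix_of_list std1_eq h.1.2

theorem gw_xstd {c : ℕ} (hc : c < 6) : gw c xstd = xstd := by
  have h := fix_all c hc
  unfold fixChk at h
  rw [Bool.and_eq_true, Bool.and_eq_true, beq_iff_eq, beq_iff_eq, beq_iff_eq] at h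
  exact gw_fix_of_list xstd_eq h.2

/-- the first word moves the first vector with one coordinate 8. -/
theorem move0 : wordL (lw 0) (e8L 0) ≠ e8L 0 := by decide +kernel

theorem len0 : (wordL (lw 0) (e8L 0)).length = 24 := by decide +kernel

theorem gw0_ne_one : gw 0 ≠ 1 := by
  intro h
  have hx : ((e8 (mkPt 0) : ↥leechLattice) : GolayPt → ℤ) = toVec (e8L 0) := by
    rw [e8_coe' (mkPt 0), ptIdx_mkPt 0 (by norm_num)]
  have h0 : ((gw 0 (e8 (mkPt 0)) : ↥leechLattice) : GolayPt → ℤ) =
      toVec (wordL (lw 0) (e8L 0)) := wordEl_apply (lw_ok 0) hx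
  rw [h, Equiv.Perm.one_apply, hx] at h0
  have e8len : (e8L 0).length = 24 := by
    unfold e8L
    rw [List.length_map, List.length_range]
  exact move0 (toVec_inj len0 e8len h0.symm)

end Cfsg.Agent.Helper3.U43L
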