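import Mathlib
import Cfsg.Agent.Helper3.U43LRow
import Cfsg.Agent.Helper3.U43XMat

/-!
# The stabiliser of a triple of vectors of the lattice of rank 24 and `PSU₄(3)`: the relators

Each relator of the presentation `Cfsg.Agent.Helper3.U43X.CC`, the seventh power of each generator
and the product of each generator with its inverse are checked to be the identity on the 24 vectors
with one coordinate 8, six vectors at a time (`U43L.blockChk`).
-/

set_option autoImplicit false
set_option maxRecDepth 100000

namespace Cfsg.Agent.Helper3.U43L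

open Cfsg.Agent.Helper3.U43X

/-- the seventh powers and the products of a generator and its inverse. -/
def PW : List (List ℕ) := [[0, 0, 0, 0, 0, 0, 0], [2, 2, 2, 2, 2, 2, 2], [4, 4, 4, 4, 4, 4, 4],
  [0, 1], [2, 3], [4, 5]]

theorem cc_0_b0 : blockChk false (CC.getD 0 []) 0 = true := by decide +kernel

theorem cc_0_b1 : blockChk false (CC.getD 0 []) 6 = true := by decide +kernel

theorem cc_0_b2 : blockChk false (CC.getD 0 []) 12 = true := by decide +kernel

theorem cc_0_b3 : blockChk false (CC.getD 0 []) 18 = true := by decide +kernel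

theorem cc_0 : RelOK false (CC.getD 0 []) := relOK_of_blocks cc_0_b0 cc_0_b1 cc_0_b2 cc_0_b3

theorem cc_1_b0 : blockChk false (CC.getD 1 []) 0 = true := by decide +kernel

theorem cc_1_b1 : blockChk false (CC.getD 1 []) 6 = true := by decide +kernel

theorem cc_1_b2 : blockChk false (CC.getD 1 []) 12 = true := by decide +kernel

theorem cc_1_b3 : blockChk false (CC.getD 1 []) 18 = true := by decide +kernel

theorem cc_1 : RelOK false (CC.getD 1 []) := relOK_of_blocks cc_1_b0 cc_1_b1 cc_1_b2 cc_1_b3

theorem cc_2_b0 : blockChk false (CC.getD 2 []) 0 = true := by decide +kernel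

theorem cc_2_b1 : blockChk false (CC.getD 2 []) 6 = true := by decide +kernel

theorem cc_2_b2 : blockChk false (CC.getD 2 []) 12 = true := by decide +kernel

theorem cc_2_b3 : blockChk false (CC.getD 2 []) 18 = true := by decide +kernel

theorem cc_2 : RelOK false (CC.getD 2 []) := relOK_of_blocks cc_2_b0 cc_2_b1 cc_2_b2 cc_2_b3

theorem cc_3_b0 : blockChk false (CC.getD 3 []) 0 = true := by decide +kernel

theorem cc_3_b1 : blockChk false (CC.getD 3 []) 6 = true := by decide +kernel

theorem cc_3_b2 : blockChk false (CC.getD 3 []) 12 = true := by decide +kernel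

theorem cc_3_b3 : blockChk false (CC.getD 3 []) 18 = true := by decide +kernel

theorem cc_3 : RelOK false (CC.getD 3 []) := relOK_of_blocks cc_3_b0 cc_3_b1 cc_3_b2 cc_3_b3

theorem cc_4_b0 : blockChk false (CC.getD 4 []) 0 = true := by decide +kernel

theorem cc_4_b1 : blockChk false (CC.getD 4 []) 6 = true := by decide +kernel

theorem cc_4_b2 : blockChk false (CC.getD 4 []) 12 = true := by decide +kernel

theorem cc_4_b3 : blockChk false (CC.getD 4 []) 18 = true := by decide +kernel

theorem cc_4 : RelOK false (CC.getD 4 []) := relOK_of_blocks cc_4_b0 cc_4_b1 cc_4_b2 cc_4_b3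

theorem cc_5_b0 : blockChk false (CC.getD 5 []) 0 = true := by decide +kernel

theorem cc_5_b1 : blockChk false (CC.getD 5 []) 6 = true := by decide +kernel

theorem cc_5_b2 : blockChk false (CC.getD 5 []) 12 = true := by decide +kernel

theorem cc_5_b3 : blockChk false (CC.getD 5 []) 18 = true := by decide +kernel

theorem cc_5 : RelOK false (CC.getD 5 []) := relOK_of_blocks cc_5_b0 cc_5_b1 cc_5_b2 cc_5_b3

theorem cc_6_b0 : blockChk false (CC.getD 6 []) 0 = true := by decide +kernel

theorem cc_6_b1 : blockChk false (CC.getD 6 []) 6 = true := by decide +kernel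

theorem cc_6_b2 : blockChk false (CC.getD 6 []) 12 = true := by decide +kernel

theorem cc_6_b3 : blockChk false (CC.getD 6 []) 18 = true := by decide +kernel

theorem cc_6 : RelOK false (CC.getD 6 []) := relOK_of_blocks cc_6_b0 cc_6_b1 cc_6_b2 cc_6_b3

theorem cc_7_b0 : blockChk false (CC.getD 7 []) 0 = true := by decide +kernel

theorem cc_7_b1 : blockChk false (CC.getD 7 []) 6 = true := by decide +kernel

theorem cc_7_b2 : blockChk false (CC.getD 7 []) 12 = true := by decide +kernel

theorem cc_7_b3 : blockChk false (CC.getD 7 []) 18 = true := by decide +kernel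

theorem cc_7 : RelOK false (CC.getD 7 []) := relOK_of_blocks cc_7_b0 cc_7_b1 cc_7_b2 cc_7_b3

theorem cc_8_b0 : blockChk false (CC.getD 8 []) 0 = true := by decide +kernel

theorem cc_8_b1 : blockChk false (CC.getD 8 []) 6 = true := by decide +kernel

theorem cc_8_b2 : blockChk false (CC.getD 8 []) 12 = true := by decide +kernel

theorem cc_8_b3 : blockChk false (CC.getD 8 []) 18 = true := by decide +kernel

theorem cc_8 : RelOK false (CC.getD 8 []) := relOK_of_blocks cc_8_b0 cc_8_b1 cc_8_b2 cc_8_b3

theorem pw_0_b0 : blockChk false (PW.getD 0 []) 0 = true := by decide +kernel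

theorem pw_0_b1 : blockChk false (PW.getD 0 []) 6 = true := by decide +kernel

theorem pw_0_b2 : blockChk false (PW.getD 0 []) 12 = true := by decide +kernel

theorem pw_0_b3 : blockChk false (PW.getD 0 []) 18 = true := by decide +kernel

theorem pw_0 : RelOK false (PW.getD 0 []) := relOK_of_blocks pw_0_b0 pw_0_b1 pw_0_b2 pw_0_b3

theorem pw_1_b0 : blockChk false (PW.getD 1 []) 0 = true := by decide +kernel

theorem pw_1_b1 : blockChk false (PW.getD 1 []) 6 = true := by decide +kernel

theorem pw_1_b2 : blockChk false (PW.getD 1 []) 12 = true := by decide +kernel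

theorem pw_1_b3 : blockChk false (PW.getD 1 []) 18 = true := by decide +kernel

theorem pw_1 : RelOK false (PW.getD 1 []) := relOK_of_blocks pw_1_b0 pw_1_b1 pw_1_b2 pw_1_b3

theorem pw_2_b0 : blockChk false (PW.getD 2 []) 0 = true := by decide +kernel

theorem pw_2_b1 : blockChk false (PW.getD 2 []) 6 = true := by decide +kernel

theorem pw_2_b2 : blockChk false (PW.getD 2 []) 12 = true := by decide +kernel

theorem pw_2_b3 : blockChk false (PW.getD 2 []) 18 = true := by decide +kernel

theorem pw_2 : RelOK false (PW.getD 2 []) := relOK_of_blocks pw_2_b0 pw_2_b1 pw_2_b2 pw_2_b3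

theorem pw_3_b0 : blockChk false (PW.getD 3 []) 0 = true := by decide +kernel

theorem pw_3_b1 : blockChk false (PW.getD 3 []) 6 = true := by decide +kernel

theorem pw_3_b2 : blockChk false (PW.getD 3 []) 12 = true := by decide +kernel

theorem pw_3_b3 : blockChk false (PW.getD 3 []) 18 = true := by decide +kernel

theorem pw_3 : RelOK false (PW.getD 3 []) := relOK_of_blocks pw_3_b0 pw_3_b1 pw_3_b2 pw_3_b3

theorem pw_4_b0 : blockChk false (PW.getD 4 []) 0 = true := by decide +kernel

theorem pw_4_b1 : blockChk false (PW.getD 4 []) 6 = true := by decide +kernel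

theorem pw_4_b2 : blockChk false (PW.getD 4 []) 12 = true := by decide +kernel

theorem pw_4_b3 : blockChk false (PW.getD 4 []) 18 = true := by decide +kernel

theorem pw_4 : RelOK false (PW.getD 4 []) := relOK_of_blocks pw_4_b0 pw_4_b1 pw_4_b2 pw_4_b3

theorem pw_5_b0 : blockChk false (PW.getD 5 []) 0 = true := by decide +kernel

theorem pw_5_b1 : blockChk false (PW.getD 5 []) 6 = true := by decide +kernel

theorem pw_5_b2 : blockChk false (PW.getD 5 []) 12 = true := by decide +kernel

theorem pw_5_b3 : blockChk false (PW.getD 5 []) 18 = true := by decide +kernel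

theorem pw_5 : RelOK false (PW.getD 5 []) := relOK_of_blocks pw_5_b0 pw_5_b1 pw_5_b2 pw_5_b3

theorem cc_all : ∀ r ∈ CC, RelOK false r := by
  intro r hr
  have e : CC = [CC.getD 0 [], CC.getD 1 [], CC.getD 2 [], CC.getD 3 [], CC.getD 4 [], CC.getD 5 [],
      CC.getD 6 [], CC.getD 7 [], CC.getD 8 []] := by decide
  rw [e] at hr
  simp only [List.mem_cons, List.not_mem_nil, or_false] at hr
  rcases hr with rfl | rfl | rfl | rfl | rfl | rfl | rfl | rfl | rfl
  · exact cc_0
  · exact cc_1
  · exact cc_2
  · exact cc_3
  · exact cc_4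
  · exact cc_5
  · exact cc_6
  · exact cc_7
  · exact cc_8

theorem cc_lt6 : ∀ r ∈ CC, ∀ c ∈ r, c < 6 := by decide

/-- the relators of the presentation hold. -/
theorem cc_prod : ∀ r ∈ CC, (r.map gw).prod = 1 := fun r hr =>
  relP_sound (rows_ok' (cc_lt6 r hr)) (cc_all r hr)

theorem pw_lt6 : ∀ r ∈ PW, ∀ c ∈ r, c < 6 := by decide

theorem gw_pow7 : ∀ i, i < 3 → gw (2 * i) ^ 7 = 1 := by
  intro i hi
  interval_cases i
  · have h := relP_sound (rows_ok' (pw_lt6 _ (by decide))) pw_0
    simpa [PW, pow_succ, mul_assoc] using h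
  · have h := relP_sound (rows_ok' (pw_lt6 _ (by decide))) pw_1
    simpa [PW, pow_succ, mul_assoc] using h
  · have h := relP_sound (rows_ok' (pw_lt6 _ (by decide))) pw_2
    simpa [PW, pow_succ, mul_assoc] using h

theorem gw_mul_inv : ∀ i, i < 3 → gw (2 * i) * gw (2 * i + 1) = 1 := by
  intro i hi
  interval_cases i
  · have h := relP_sound (rows_ok' (pw_lt6 _ (by decide))) pw_3
    simpa [PW] using h
  · have h := relP_sound (rows_ok' (pw_lt6 _ (by decide))) pw_4
    simpa [PW] using h
  · have h := relP_sound (rows_ok' (pw_lt6 _ (by decide))) pw_5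
    simpa [PW] using h

end Cfsg.Agent.Helper3.U43L
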