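import Mathlib
import Cfsg.Agent.Helper3.U43LRel
import Cfsg.Agent.Helper3.U43LFix
import Cfsg.Agent.Helper3.U43Cov
import Cfsg.Agent.Helper9.Leech.McL9
import Cfsg.Agent.Helper9.Leech.McLSimple
import Cfsg.Agent.S0283

/-!
# The stabiliser of a triple of vectors of the lattice of rank 24 and `PSU₄(3)`

Let `u` be a vector of sum of squares 48, `v` a minimal vector with `u - v` minimal and `x` a
minimal vector with `u - x` minimal and inner product 16 with `v`.  The stabiliser of `u`, `v`, `x`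
in the group of automorphisms of the lattice has order 3265920 (the stabiliser of `u`, `v` has
order 898128000 and is transitive on the 275 vectors `x`), and for the standard triple it contains
three elements of order 7 satisfying the relators of the presentation of the fourfold cover of
`PSU₄(3)`; the simplicity of `PSU₄(3)` gives the isomorphism.
-/

set_option autoImplicit false

namespace Cfsg.Agent.Helper3.U43L

open Cfsg Cfsg.Agent.Helper9.Golay Cfsg.Agent.Helper9.Leech Cfsg.Agent.Helper9.LeechAct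
  Cfsg.Agent.Helper5.StemP Cfsg.Agent.Helper5.LP Cfsg.Agent.Helper3.U43X

/-- the stabiliser of three vectors. -/
abbrev stab3 (u v x : ↥leechLattice) : Subgroup ↥Co0 :=
  MulAction.stabilizer ↥Co0 u ⊓ MulAction.stabilizer ↥Co0 v ⊓ MulAction.stabilizer ↥Co0 x

/-! ### the order of the stabiliser -/

section card
variable (u v x : ↥leechLattice) (hu : sqNorm (u : GolayPt → ℤ) = 48)
  (hv : sqNorm (v : GolayPt → ℤ) = 32 ∧ sqNorm ((u - v : ↥leechLattice) : GolayPt → ℤ) = 32)
  (hx : sqNorm (x : GolayPt → ℤ) = 32 ∧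
      sqNorm ((u - x : ↥leechLattice) : GolayPt → ℤ) = 32 ∧
      dotInt (v : GolayPt → ℤ) (x : GolayPt → ℤ) = 16)

theorem stab2_eq : MulAction.stabilizer ↥Co0 u ⊓ MulAction.stabilizer ↥Co0 v =
    MulAction.stabilizer ↥Co0 v ⊓ MulAction.stabilizer ↥Co0 (u - v) := by
  ext k
  rw [Subgroup.mem_inf, Subgroup.mem_inf, MulAction.mem_stabilizer_iff,
    MulAction.mem_stabilizer_iff, MulAction.mem_stabilizer_iff]
  constructor
  · rintro ⟨h1, h2⟩
    exact ⟨h2, by rw [smul_sub', h1, h2]⟩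
  · rintro ⟨h1, h2⟩
    refine ⟨?_, h1⟩
    have e : u = v + (u - v) := by abel
    rw [e, smul_add', h1, h2]

include hu hv in
theorem card_stab2 :
    Nat.card ↥(MulAction.stabilizer ↥Co0 u ⊓ MulAction.stabilizer ↥Co0 v) = 898128000 := by
  rw [stab2_eq]
  refine (mcl_simple_card v (u - v) hv.1 hv.2 ?_).2
  have h : sqNorm ((v : GolayPt → ℤ) + ((u - v : ↥leechLattice) : GolayPt → ℤ)) = 48 := by
    have e : (v : GolayPt → ℤ) + ((u - v : ↥leechLattice) : GolayPt → ℤ) = (u : GolayPt → ℤ) := by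
      rw [AddSubgroup.coe_sub]
      abel
    rw [e, hu]
  rw [sqNorm_add', hv.1, hv.2] at h
  omega

/-- the stabiliser of the third vector in the stabiliser of the first two. -/
def stabEquiv : ↥(MulAction.stabilizer
    ↥(MulAction.stabilizer ↥Co0 u ⊓ MulAction.stabilizer ↥Co0 v) x) ≃ ↥(stab3 u v x) where
  toFun k := ⟨k.1.1, ⟨k.1.2, k.2⟩⟩
  invFun s := ⟨⟨s.1, s.2.1⟩, s.2.2⟩
  left_inv _ := rfl
  right_inv _ := rfl

include hu hv hx in
theorem orbit_eq :
    MulAction.orbit ↥(MulAction.stabilizer ↥Co0 u ⊓ MulAction.stabilizer ↥Co0 v) x =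
      {y : ↥leechLattice | sqNorm (y : GolayPt → ℤ) = 32 ∧
        sqNorm ((u - y : ↥leechLattice) : GolayPt → ℤ) = 32 ∧
        dotInt (v : GolayPt → ℤ) (y : GolayPt → ℤ) = 16} := by
  ext y
  constructor
  · rintro ⟨k, rfl⟩
    obtain ⟨k0, hk⟩ := k
    rw [Subgroup.mem_inf, MulAction.mem_stabilizer_iff, MulAction.mem_stabilizer_iff] at hk
    change sqNorm ((k0 • x : ↥leechLattice) : GolayPt → ℤ) = 32 ∧
      sqNorm ((u - k0 • x : ↥leechLattice) : GolayPt → ℤ) = 32 ∧
      dotInt (v : GolayPt → ℤ) ((k0 • x : ↥leechLattice) : GolayPt → ℤ) = 16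
    refine ⟨(co0_sqNorm k0 x).trans hx.1, ?_, ?_⟩
    · have e : u - k0 • x = k0 • (u - x) := by rw [smul_sub', hk.1]
      rw [e, co0_sqNorm]
      exact hx.2.1
    · have e := co0_dot k0 v x
      rw [hk.2] at e
      rw [e]
      exact hx.2.2
  · intro hy
    obtain ⟨k0, h1, h2, h3⟩ := trans_275 u v x y hu hv hx hy
    exact ⟨⟨k0, Subgroup.mem_inf.mpr ⟨MulAction.mem_stabilizer_iff.mpr h1,
      MulAction.mem_stabilizer_iff.mpr h2⟩⟩, h3⟩

include hu hv hx in
theorem card_stab3 : Nat.card ↥(stab3 u v x) = 3265920 := by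
  have h4 := Subgroup.card_mul_index (MulAction.stabilizer
    ↥(MulAction.stabilizer ↥Co0 u ⊓ MulAction.stabilizer ↥Co0 v) x)
  rw [MulAction.index_stabilizer, orbit_eq u v x hu hv hx, card_275 u v hu hv,
    card_stab2 u v hu hv, Nat.card_congr (stabEquiv u v x)] at h4
  omega

end card

/-! ### moving the triple -/

/-- conjugation between the stabilisers of two triples in the same orbit. -/
def conjEquiv (g : ↥Co0) {u v x u' v' x' : ↥leechLattice} (hu : g • u = u') (hv : g • v = v')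
    (hx : g • x = x') : ↥(stab3 u v x) ≃* ↥(stab3 u' v' x') where
  toFun k := ⟨g * k.1 * g⁻¹, by
    have hk := k.2
    rw [Subgroup.mem_inf, Subgroup.mem_inf, MulAction.mem_stabilizer_iff,
      MulAction.mem_stabilizer_iff, MulAction.mem_stabilizer_iff] at hk ⊢
    refine ⟨⟨?_, ?_⟩, ?_⟩
    · rw [← hu, mul_smul, mul_smul, inv_smul_smul, hk.1.1]
    · rw [← hv, mul_smul, mul_smul, inv_smul_smul, hk.1.2]
    · rw [← hx, mul_smul, mul_smul, inv_smul_smul, hk.2]⟩
  invFun k := ⟨g⁻¹ * k.1 * g, by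
    have hk := k.2
    rw [Subgroup.mem_inf, Subgroup.mem_inf, MulAction.mem_stabilizer_iff,
      MulAction.mem_stabilizer_iff, MulAction.mem_stabilizer_iff] at hk ⊢
    refine ⟨⟨?_, ?_⟩, ?_⟩
    · rw [mul_smul, mul_smul, hu, hk.1.1, ← hu, inv_smul_smul]
    · rw [mul_smul, mul_smul, hv, hk.1.2, ← hv, inv_smul_smul]
    · rw [mul_smul, mul_smul, hx, hk.2, ← hx, inv_smul_smul]⟩
  left_inv k := by
    apply Subtype.ext
    show g⁻¹ * (g * k.1 * g⁻¹) * g = k.1
    group
  right_inv k := by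
    apply Subtype.ext
    show g * (g⁻¹ * k.1 * g) * g⁻¹ = k.1
    group
  map_mul' k k' := by
    apply Subtype.ext
    show g * (k.1 * k'.1) * g⁻¹ = (g * k.1 * g⁻¹) * (g * k'.1 * g⁻¹)
    group

/-! ### the generators in the stabiliser of the standard triple -/

/-- the stabiliser of the standard triple. -/
abbrev SS : Subgroup ↥Co0 := stab3 vA std1 xstd

/-- the automorphism of a letter, in the group of automorphisms. -/
def gC (c : ℕ) : ↥Co0 := ⟨gw c, gw_mem c⟩

theorem gC_mem {c : ℕ} (hc : c < 6) : gC c ∈ SS := by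
  rw [Subgroup.mem_inf, Subgroup.mem_inf, MulAction.mem_stabilizer_iff,
    MulAction.mem_stabilizer_iff, MulAction.mem_stabilizer_iff]
  exact ⟨⟨gw_vA hc, gw_std1 hc⟩, gw_xstd hc⟩

/-- the letters, in the stabiliser. -/
def gS (c : ℕ) : ↥SS := if h : c < 6 then ⟨gC c, gC_mem h⟩ else 1

theorem coe_gS {c : ℕ} (hc : c < 6) :
    (((gS c : ↥SS) : ↥Co0) : Equiv.Perm ↥leechLattice) = gw c := by
  unfold gS
  rw [dif_pos hc]
  rfl

/-- the generators. -/
def gen (i : ℕ) : ↥SS := gS (2 * i)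

theorem gS_mul_inv {i : ℕ} (hi : i < 3) : gS (2 * i) * gS (2 * i + 1) = 1 := by
  apply Subtype.ext
  apply Subtype.ext
  rw [Subgroup.coe_mul, Subgroup.coe_mul, coe_gS (by omega), coe_gS (by omega), gw_mul_inv i hi]
  rfl

theorem lval_gS : ∀ c, c < 6 → lval gen c = gS c := by
  intro c hc
  obtain ⟨i, rfl | rfl⟩ : ∃ i, c = 2 * i ∨ c = 2 * i + 1 := ⟨c / 2, by omega⟩
  · rw [lval_even]
    rfl
  · rw [lval_odd]
    have h := eq_inv_of_mul_eq_one_right (gS_mul_inv (i := i) (by omega))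
    rw [h]
    rfl

theorem word_coe : ∀ l : List ℕ, (∀ c ∈ l, c < 6) →
    ((((l.map (lval gen)).prod : ↥SS) : ↥Co0) : Equiv.Perm ↥leechLattice) = (l.map gw).prod
  | [], _ => rfl
  | c :: l, h => by
    rw [List.map_cons, List.prod_cons, List.map_cons, List.prod_cons, Subgroup.coe_mul,
      Subgroup.coe_mul, word_coe l (fun c hc => h c (List.mem_cons_of_mem _ hc)),
      lval_gS c (h c List.mem_cons_self), coe_gS (h c List.mem_cons_self)]

theorem CC_relS : ∀ r ∈ CC, (r.map (lval gen)).prod = 1 := by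
  intro r hr
  apply Subtype.ext
  apply Subtype.ext
  rw [word_coe r (cc_lt6 r hr), cc_prod r hr]
  rfl

theorem CC2_relS : ∀ r ∈ CC ++ CC, (r.map (lval gen)).prod = 1 := by
  intro r hr
  rcases List.mem_append.mp hr with h | h <;> exact CC_relS r h

theorem gen_pow : ∀ i, i < 3 → gen i ^ mm i = 1 := by
  intro i hi
  apply Subtype.ext
  apply Subtype.ext
  unfold gen mm
  rw [SubmonoidClass.coe_pow, SubmonoidClass.coe_pow, coe_gS (by omega), gw_pow7 i hi]
  rfl

/-! ### the homomorphism from the fourfold cover -/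

open Cfsg.Agent.Helper3.U43P Cfsg.Agent.Helper3.U43

/-- the homomorphism from the fourfold cover. -/
noncomputable def psi : CovG 3 mm CC CC 8 →* ↥SS :=
  coverHomU 3 mm CC CC 8 CC2_lt gen gen_pow CC2_relS

theorem psi_ev (l : List ℕ) (hl : ∀ c ∈ l, c < 2 * 3) :
    psi (ev (2 * 3) (coverRels 3 mm CC CC 8) l) = (l.map (lval gen)).prod :=
  coverHomU_ev 3 mm CC CC 8 CC2_lt gen gen_pow CC2_relS l hl

theorem z0_ker_psi : z0 ∈ psi.ker :=
  coverHomU_ker 3 mm CC CC 8 CC2_lt gen gen_pow CC2_relS w1_mem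

theorem card_ker_piF : Nat.card piF.ker = 4 := by
  obtain ⟨e⟩ := stem_P.1.2
  rw [Nat.card_congr e.toEquiv]
  simp

theorem ker_piF_eq : piF.ker = Subgroup.zpowers z0 := by
  have hfin : Finite piF.ker := Nat.finite_of_card_ne_zero (by rw [card_ker_piF]; norm_num)
  symm
  apply Subgroup.eq_of_le_of_card_ge (Subgroup.zpowers_le.mpr z0_ker)
  rw [card_ker_piF, Nat.card_zpowers]
  have h4 : z0 ^ 4 = 1 := by
    have h := pow_card_eq_one' (G := piF.ker) (x := ⟨z0, z0_ker⟩)
    rw [card_ker_piF] at h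
    exact congrArg Subtype.val h
  have hd : orderOf z0 ∣ 4 := orderOf_dvd_of_pow_eq_one h4
  have hne : ¬ orderOf z0 ∣ 2 := by
    intro h
    apply z0_ne
    rw [show 2 ^ (2 - 1) = 2 from rfl]
    exact orderOf_dvd_iff_pow_eq_one.mp h
  have hle : orderOf z0 ≤ 4 := Nat.le_of_dvd (by norm_num) hd
  have hpos : 0 < orderOf z0 := Nat.pos_of_dvd_of_pos hd (by norm_num)
  interval_cases h : orderOf z0
  · exact absurd (one_dvd 2) hne
  · exact absurd (dvd_refl 2) hne
  · norm_num at hd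
  · exact le_refl 4

theorem ker_le : piF.ker ≤ psi.ker := by
  rw [ker_piF_eq]
  exact Subgroup.zpowers_le.mpr z0_ker_psi

/-- the homomorphism from `PSU₄(3)`. -/
noncomputable def phiS : GG →* ↥SS := piF.liftOfSurjective piF_surj ⟨psi, ker_le⟩

theorem phiS_piF (y : CovG 3 mm CC CC 8) : phiS (piF y) = psi y :=
  MonoidHom.liftOfRightInverse_comp_apply piF _ (Function.rightInverse_surjInv piF_surj)
    ⟨psi, ker_le⟩ y

theorem gen0_ne_one : gen 0 ≠ 1 := by
  intro h
  apply gw0_ne_one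
  have := congrArg (fun s : ↥SS => ((s : ↥Co0) : Equiv.Perm ↥leechLattice)) h
  simpa [gen, coe_gS] using this

theorem phiS_g0 : phiS (g 0) = gen 0 := by
  have h1 : piF (ev (2 * 3) (coverRels 3 mm CC CC 8) [0]) = g 0 := by
    rw [piF_ev [0] (by decide)]
    simp [lval]
  rw [← h1, phiS_piF, psi_ev [0] (by decide)]
  simp [lval]

theorem phiS_injective : Function.Injective phiS := by
  have hs : IsSimpleGroup GG := Cfsg.Agent.S0283.result hK 4 (by norm_num) (by norm_num)
  rw [← MonoidHom.ker_eq_bot_iff]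
  rcases (phiS.normal_ker).eq_bot_or_eq_top with h | h
  · exact h
  · exfalso
    apply gen0_ne_one
    rw [← phiS_g0, ← MonoidHom.mem_ker, h]
    exact Subgroup.mem_top _

theorem std_hv : sqNorm ((std1 : ↥leechLattice) : GolayPt → ℤ) = 32 ∧
    sqNorm ((vA - std1 : ↥leechLattice) : GolayPt → ℤ) = 32 := by
  refine ⟨sqNorm_std1, ?_⟩
  have e : vA - std1 = bstd := by
    rw [← std1_add_bstd]
    abel
  rw [e]
  exact sqNorm_bstd

theorem std_hx : sqNorm ((xstd : ↥leechLattice) : GolayPt → ℤ) = 32 ∧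
    sqNorm ((vA - xstd : ↥leechLattice) : GolayPt → ℤ) = 32 ∧
    dotInt ((std1 : ↥leechLattice) : GolayPt → ℤ) ((xstd : ↥leechLattice) : GolayPt → ℤ) = 16 := by
  refine ⟨sqNorm_xstd, ?_, dot_std1_xstd⟩
  have hd : dotInt ((vA : ↥leechLattice) : GolayPt → ℤ)
      ((xstd : ↥leechLattice) : GolayPt → ℤ) = 24 := by
    rw [vA_eq, xstd_eq, dot_toVec]
    decide
  rw [AddSubgroup.coe_sub, sqNorm_sub', sqNorm_vA, sqNorm_xstd, hd]
  norm_num

theorem card_SS : Nat.card ↥SS = 3265920 :=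
  card_stab3 vA std1 xstd sqNorm_vA std_hv std_hx

instance finSS : Finite ↥SS := Nat.finite_of_card_ne_zero (by rw [card_SS]; norm_num)

theorem phiS_bijective : Function.Bijective phiS := by
  rw [Nat.bijective_iff_injective_and_card]
  exact ⟨phiS_injective, by rw [card_SS, card_GG]⟩

/-- the isomorphism for the standard triple. -/
noncomputable def isoStd : GG ≃* ↥SS := MulEquiv.ofBijective phiS phiS_bijective

/-- the stabiliser of a triple is isomorphic to `PSU₄(3)`. -/
theorem iso_main (u v x : ↥leechLattice) (hu : sqNorm (u : GolayPt → ℤ) = 48)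
    (hv : sqNorm (v : GolayPt → ℤ) = 32 ∧ sqNorm ((u - v : ↥leechLattice) : GolayPt → ℤ) = 32)
    (hx : sqNorm (x : GolayPt → ℤ) = 32 ∧
      sqNorm ((u - x : ↥leechLattice) : GolayPt → ℤ) = 32 ∧
      dotInt (v : GolayPt → ℤ) (x : GolayPt → ℤ) = 16) :
    Nonempty (↥(stab3 u v x) ≃* GG) := by
  obtain ⟨g0, h1, h2, h3⟩ := mcl_triple_to_std u v x hu hv hx
  exact ⟨(conjEquiv g0 h1 h2 h3).trans isoStd.symm⟩

end Cfsg.Agent.Helper3.U43L
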