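import Mathlib
import Cfsg.Agent.Helper3.U62XDat

/-!
# Generators of `SU₆(2)` over the model field with four elements (checks)

The matrices of the letters are unitary, the odd letters are the inverses of the even ones, the
generators have the stated orders, and the central words have scalar values.
-/

set_option autoImplicit false
set_option maxRecDepth 1000000

namespace Cfsg.Agent.Helper3.U62X

open Cfsg.Agent.Helper5.G24

theorem N_unitary : ∀ c, c < 20 → (N c).transpose * (N c).map (· ^ 2) = 1 := by decide +kernel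

theorem N_inv : ∀ i, i < 10 → N (2 * i) * N (2 * i + 1) = 1 := by decide +kernel

theorem N_pow3 : ∀ i, i < 5 → (List.replicate (U62Q.mm i) (N (2 * i))).prod = 1 := by
  decide +kernel

theorem N_pow2 : ∀ i, i < 5 → (List.replicate (U62P.mm i) (N (10 + 2 * i))).prod = 1 := by
  decide +kernel

theorem N0_ne : N 0 ≠ 1 := by decide +kernel

theorem N10_ne : N 10 ≠ 1 := by decide +kernel

theorem N_rels3 : ∀ r ∈ U62Q.CC, ∃ ζ : K, ζ ^ 3 = 1 ∧
    (r.map N).prod = ζ • (1 : Matrix (Fin 6) (Fin 6) K) := by
  decide +kernel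

theorem N_rels2 : ∀ r ∈ U62P.CC, ∃ ζ : K, ζ ^ 3 = 1 ∧
    (r.map (fun c => N (10 + c))).prod = ζ • (1 : Matrix (Fin 6) (Fin 6) K) := by
  decide +kernel

theorem CC_lt3 : ∀ r ∈ U62Q.CC, ∀ c ∈ r, c < 2 * 5 := by decide

theorem CC_lt2 : ∀ r ∈ U62P.CC, ∀ c ∈ r, c < 2 * 5 := by decide

theorem decV_ne : ∀ v, v < 1365 → decV v ≠ 0 := by decide +kernel

/-- the specification of the table at a letter and a point. -/
def SpecAt (c v : ℕ) : Prop :=
  Matrix.mulVec (N c) (decV v) = F4.ofN (scP c v) • decV (tabP c v) ∧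
    F4.ofN (scP c v) ≠ 0 ∧ tabP c v < 1365

instance (c v : ℕ) : Decidable (SpecAt c v) := by
  unfold SpecAt
  infer_instance

/-- the specification of the numbering at a point. -/
def NidxAt (v : ℕ) : Prop := ∀ a : K, a ≠ 0 → nidx (a • decV v) = v

instance (v : ℕ) : Decidable (NidxAt v) := by
  unfold NidxAt
  infer_instance

end Cfsg.Agent.Helper3.U62X
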