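import Mathlib
import Cfsg.Agent.Helper3.U62XMat

/-! generated checks: the determinants of the matrices of the letters -/

set_option autoImplicit false
set_option maxRecDepth 1000000

namespace Cfsg.Agent.Helper3.U62X

theorem N_det_15 : (N 15).det = 1 := by
  rw [Matrix.det_apply]; decide +kernel

theorem N_det_16 : (N 16).det = 1 := by
  rw [Matrix.det_apply]; decide +kernel

theorem N_det_17 : (N 17).det = 1 := by
  rw [Matrix.det_apply]; decide +kernel

theorem N_det_18 : (N 18).det = 1 := by
  rw [Matrix.det_apply]; decide +kernel

theorem N_det_19 : (N 19).det = 1 := by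
  rw [Matrix.det_apply]; decide +kernel

end Cfsg.Agent.Helper3.U62X
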