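import Mathlib
import Cfsg.Agent.Helper3.U62XMat

/-! generated checks: the action of the letters on the points -/

set_option autoImplicit false
set_option maxRecDepth 1000000

namespace Cfsg.Agent.Helper3.U62X

theorem spec_0_0 : ∀ w, w < 273 → SpecAt 0 (w + 0) := by decide +kernel

theorem spec_0_1 : ∀ w, w < 273 → SpecAt 0 (w + 273) := by decide +kernel

theorem spec_0_2 : ∀ w, w < 273 → SpecAt 0 (w + 546) := by decide +kernel

theorem spec_0_3 : ∀ w, w < 273 → SpecAt 0 (w + 819) := by decide +kernel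

theorem spec_0_4 : ∀ w, w < 273 → SpecAt 0 (w + 1092) := by decide +kernel

theorem spec_1_0 : ∀ w, w < 273 → SpecAt 1 (w + 0) := by decide +kernel

theorem spec_1_1 : ∀ w, w < 273 → SpecAt 1 (w + 273) := by decide +kernel

theorem spec_1_2 : ∀ w, w < 273 → SpecAt 1 (w + 546) := by decide +kernel

theorem spec_1_3 : ∀ w, w < 273 → SpecAt 1 (w + 819) := by decide +kernel

theorem spec_1_4 : ∀ w, w < 273 → SpecAt 1 (w + 1092) := by decide +kernel

theorem spec_2_0 : ∀ w, w < 273 → SpecAt 2 (w + 0) := by decide +kernel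

theorem spec_2_1 : ∀ w, w < 273 → SpecAt 2 (w + 273) := by decide +kernel

theorem spec_2_2 : ∀ w, w < 273 → SpecAt 2 (w + 546) := by decide +kernel

theorem spec_2_3 : ∀ w, w < 273 → SpecAt 2 (w + 819) := by decide +kernel

theorem spec_2_4 : ∀ w, w < 273 → SpecAt 2 (w + 1092) := by decide +kernel

theorem spec_3_0 : ∀ w, w < 273 → SpecAt 3 (w + 0) := by decide +kernel

theorem spec_3_1 : ∀ w, w < 273 → SpecAt 3 (w + 273) := by decide +kernel

theorem spec_3_2 : ∀ w, w < 273 → SpecAt 3 (w + 546) := by decide +kernel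

theorem spec_3_3 : ∀ w, w < 273 → SpecAt 3 (w + 819) := by decide +kernel

theorem spec_3_4 : ∀ w, w < 273 → SpecAt 3 (w + 1092) := by decide +kernel

theorem nidx_0 : ∀ w, w < 273 → NidxAt (w + 0) := by decide +kernel

theorem nidx_1 : ∀ w, w < 273 → NidxAt (w + 273) := by decide +kernel

theorem nidx_2 : ∀ w, w < 273 → NidxAt (w + 546) := by decide +kernel

theorem nidx_3 : ∀ w, w < 273 → NidxAt (w + 819) := by decide +kernel

theorem nidx_4 : ∀ w, w < 273 → NidxAt (w + 1092) := by decide +kernel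

end Cfsg.Agent.Helper3.U62X
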