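import Mathlib
import Cfsg.Agent.Helper3.U62XMat

/-! generated checks: the action of the letters on the points -/

set_option autoImplicit false
set_option maxRecDepth 1000000

namespace Cfsg.Agent.Helper3.U62X

theorem spec_4_0 : ∀ w, w < 273 → SpecAt 4 (w + 0) := by decide +kernel

theorem spec_4_1 : ∀ w, w < 273 → SpecAt 4 (w + 273) := by decide +kernel

theorem spec_4_2 : ∀ w, w < 273 → SpecAt 4 (w + 546) := by decide +kernel

theorem spec_4_3 : ∀ w, w < 273 → SpecAt 4 (w + 819) := by decide +kernel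

theorem spec_4_4 : ∀ w, w < 273 → SpecAt 4 (w + 1092) := by decide +kernel

theorem spec_5_0 : ∀ w, w < 273 → SpecAt 5 (w + 0) := by decide +kernel

theorem spec_5_1 : ∀ w, w < 273 → SpecAt 5 (w + 273) := by decide +kernel

theorem spec_5_2 : ∀ w, w < 273 → SpecAt 5 (w + 546) := by decide +kernel

theorem spec_5_3 : ∀ w, w < 273 → SpecAt 5 (w + 819) := by decide +kernel

theorem spec_5_4 : ∀ w, w < 273 → SpecAt 5 (w + 1092) := by decide +kernel

theorem spec_6_0 : ∀ w, w < 273 → SpecAt 6 (w + 0) := by decide +kernel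

theorem spec_6_1 : ∀ w, w < 273 → SpecAt 6 (w + 273) := by decide +kernel

theorem spec_6_2 : ∀ w, w < 273 → SpecAt 6 (w + 546) := by decide +kernel

theorem spec_6_3 : ∀ w, w < 273 → SpecAt 6 (w + 819) := by decide +kernel

theorem spec_6_4 : ∀ w, w < 273 → SpecAt 6 (w + 1092) := by decide +kernel

theorem spec_7_0 : ∀ w, w < 273 → SpecAt 7 (w + 0) := by decide +kernel

theorem spec_7_1 : ∀ w, w < 273 → SpecAt 7 (w + 273) := by decide +kernel

theorem spec_7_2 : ∀ w, w < 273 → SpecAt 7 (w + 546) := by decide +kernel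

theorem spec_7_3 : ∀ w, w < 273 → SpecAt 7 (w + 819) := by decide +kernel

theorem spec_7_4 : ∀ w, w < 273 → SpecAt 7 (w + 1092) := by decide +kernel

end Cfsg.Agent.Helper3.U62X
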