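import Mathlib
import Cfsg.Agent.Helper3.U62XMat

/-! generated checks: the action of the letters on the points -/

set_option autoImplicit false
set_option maxRecDepth 1000000

namespace Cfsg.Agent.Helper3.U62X

theorem spec_8_0 : ∀ w, w < 273 → SpecAt 8 (w + 0) := by decide +kernel

theorem spec_8_1 : ∀ w, w < 273 → SpecAt 8 (w + 273) := by decide +kernel

theorem spec_8_2 : ∀ w, w < 273 → SpecAt 8 (w + 546) := by decide +kernel

theorem spec_8_3 : ∀ w, w < 273 → SpecAt 8 (w + 819) := by decide +kernel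

theorem spec_8_4 : ∀ w, w < 273 → SpecAt 8 (w + 1092) := by decide +kernel

theorem spec_9_0 : ∀ w, w < 273 → SpecAt 9 (w + 0) := by decide +kernel

theorem spec_9_1 : ∀ w, w < 273 → SpecAt 9 (w + 273) := by decide +kernel

theorem spec_9_2 : ∀ w, w < 273 → SpecAt 9 (w + 546) := by decide +kernel

theorem spec_9_3 : ∀ w, w < 273 → SpecAt 9 (w + 819) := by decide +kernel

theorem spec_9_4 : ∀ w, w < 273 → SpecAt 9 (w + 1092) := by decide +kernel

theorem spec_10_0 : ∀ w, w < 273 → SpecAt 10 (w + 0) := by decide +kernel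

theorem spec_10_1 : ∀ w, w < 273 → SpecAt 10 (w + 273) := by decide +kernel

theorem spec_10_2 : ∀ w, w < 273 → SpecAt 10 (w + 546) := by decide +kernel

theorem spec_10_3 : ∀ w, w < 273 → SpecAt 10 (w + 819) := by decide +kernel

theorem spec_10_4 : ∀ w, w < 273 → SpecAt 10 (w + 1092) := by decide +kernel

theorem spec_11_0 : ∀ w, w < 273 → SpecAt 11 (w + 0) := by decide +kernel

theorem spec_11_1 : ∀ w, w < 273 → SpecAt 11 (w + 273) := by decide +kernel

theorem spec_11_2 : ∀ w, w < 273 → SpecAt 11 (w + 546) := by decide +kernel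

theorem spec_11_3 : ∀ w, w < 273 → SpecAt 11 (w + 819) := by decide +kernel

theorem spec_11_4 : ∀ w, w < 273 → SpecAt 11 (w + 1092) := by decide +kernel

end Cfsg.Agent.Helper3.U62X
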