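import Mathlib
import Cfsg.Agent.Helper3.U62XMat

/-! generated checks: the action of the letters on the points -/

set_option autoImplicit false
set_option maxRecDepth 1000000

namespace Cfsg.Agent.Helper3.U62X

theorem spec_12_0 : ∀ w, w < 273 → SpecAt 12 (w + 0) := by decide +kernel

theorem spec_12_1 : ∀ w, w < 273 → SpecAt 12 (w + 273) := by decide +kernel

theorem spec_12_2 : ∀ w, w < 273 → SpecAt 12 (w + 546) := by decide +kernel

theorem spec_12_3 : ∀ w, w < 273 → SpecAt 12 (w + 819) := by decide +kernel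

theorem spec_12_4 : ∀ w, w < 273 → SpecAt 12 (w + 1092) := by decide +kernel

theorem spec_13_0 : ∀ w, w < 273 → SpecAt 13 (w + 0) := by decide +kernel

theorem spec_13_1 : ∀ w, w < 273 → SpecAt 13 (w + 273) := by decide +kernel

theorem spec_13_2 : ∀ w, w < 273 → SpecAt 13 (w + 546) := by decide +kernel

theorem spec_13_3 : ∀ w, w < 273 → SpecAt 13 (w + 819) := by decide +kernel

theorem spec_13_4 : ∀ w, w < 273 → SpecAt 13 (w + 1092) := by decide +kernel

theorem spec_14_0 : ∀ w, w < 273 → SpecAt 14 (w + 0) := by decide +kernel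

theorem spec_14_1 : ∀ w, w < 273 → SpecAt 14 (w + 273) := by decide +kernel

theorem spec_14_2 : ∀ w, w < 273 → SpecAt 14 (w + 546) := by decide +kernel

theorem spec_14_3 : ∀ w, w < 273 → SpecAt 14 (w + 819) := by decide +kernel

theorem spec_14_4 : ∀ w, w < 273 → SpecAt 14 (w + 1092) := by decide +kernel

theorem spec_15_0 : ∀ w, w < 273 → SpecAt 15 (w + 0) := by decide +kernel

theorem spec_15_1 : ∀ w, w < 273 → SpecAt 15 (w + 273) := by decide +kernel

theorem spec_15_2 : ∀ w, w < 273 → SpecAt 15 (w + 546) := by decide +kernel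

theorem spec_15_3 : ∀ w, w < 273 → SpecAt 15 (w + 819) := by decide +kernel

theorem spec_15_4 : ∀ w, w < 273 → SpecAt 15 (w + 1092) := by decide +kernel

end Cfsg.Agent.Helper3.U62X
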