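import Mathlib
import Cfsg.Prelude.Def_Classical
import Cfsg.Agent.Helper3.U62XDet0
import Cfsg.Agent.Helper3.U62XDet1
import Cfsg.Agent.Helper3.U62XDet2
import Cfsg.Agent.Helper3.U62XDet3
import Cfsg.Agent.Helper3.U62XTb0
import Cfsg.Agent.Helper3.U62XTb1
import Cfsg.Agent.Helper3.U62XTb2
import Cfsg.Agent.Helper3.U62XTb3
import Cfsg.Agent.Helper3.U62XTb4
import Cfsg.Agent.Helper8.SUCenter
import Cfsg.Agent.Helper5.SUMap
import Cfsg.Agent.Helper5.LPC
import Cfsg.Agent.Helper5.LPS
import Cfsg.Agent.Helper5.StemPF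
import Cfsg.Agent.S0280

/-!
# Generators of `PSU₆(2)` over the model field with four elements

The two families of generators as elements of `PSU₆(2) = SU₆(2) / Z`, their relators, the action on
the 1365 points of the projective space as a permutation representation, and stabiliser chains:
each family generates the group.
-/

set_option autoImplicit false

namespace Cfsg.Agent.Helper3.U62X

open Cfsg.Agent.Helper5.LP Cfsg.Agent.Helper5.StemP Cfsg.Agent.Helper5.TC Cfsg.Agent.Helper5.TCI Matrix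
open Cfsg.Agent.Helper5.G24 Cfsg.Agent.Helper8.SUCenter
open scoped LinearAlgebra.Projectivization

theorem hK : Fintype.card K = 2 ^ 2 := by decide

/-- the specification of the tables, assembled. -/
theorem tab_spec : ∀ c, c < 20 → ∀ v, v < 1365 → SpecAt c v := by
  intro c hc v hv
  have key : ∀ (P : ℕ → Prop), (∀ w, w < 273 → P (w + 0)) → (∀ w, w < 273 → P (w + 273)) →
      (∀ w, w < 273 → P (w + 546)) → (∀ w, w < 273 → P (w + 819)) →
      (∀ w, w < 273 → P (w + 1092)) → P v := by
    intro P h0 h1 h2 h3 h4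
    by_cases a0 : v < 273
    · have := h0 v a0; rwa [Nat.add_zero] at this
    · by_cases a1 : v < 546
      · have := h1 (v - 273) (by omega); rwa [show v - 273 + 273 = v by omega] at this
      · by_cases a2 : v < 819
        · have := h2 (v - 546) (by omega); rwa [show v - 546 + 546 = v by omega] at this
        · by_cases a3 : v < 1092
          · have := h3 (v - 819) (by omega); rwa [show v - 819 + 819 = v by omega] at this
          · have := h4 (v - 1092) (by omega); rwa [show v - 1092 + 1092 = v by omega] at this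
  interval_cases c
  · exact key (SpecAt 0) spec_0_0 spec_0_1 spec_0_2 spec_0_3 spec_0_4
  · exact key (SpecAt 1) spec_1_0 spec_1_1 spec_1_2 spec_1_3 spec_1_4
  · exact key (SpecAt 2) spec_2_0 spec_2_1 spec_2_2 spec_2_3 spec_2_4
  · exact key (SpecAt 3) spec_3_0 spec_3_1 spec_3_2 spec_3_3 spec_3_4
  · exact key (SpecAt 4) spec_4_0 spec_4_1 spec_4_2 spec_4_3 spec_4_4
  · exact key (SpecAt 5) spec_5_0 spec_5_1 spec_5_2 spec_5_3 spec_5_4
  · exact key (SpecAt 6) spec_6_0 spec_6_1 spec_6_2 spec_6_3 spec_6_4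
  · exact key (SpecAt 7) spec_7_0 spec_7_1 spec_7_2 spec_7_3 spec_7_4
  · exact key (SpecAt 8) spec_8_0 spec_8_1 spec_8_2 spec_8_3 spec_8_4
  · exact key (SpecAt 9) spec_9_0 spec_9_1 spec_9_2 spec_9_3 spec_9_4
  · exact key (SpecAt 10) spec_10_0 spec_10_1 spec_10_2 spec_10_3 spec_10_4
  · exact key (SpecAt 11) spec_11_0 spec_11_1 spec_11_2 spec_11_3 spec_11_4
  · exact key (SpecAt 12) spec_12_0 spec_12_1 spec_12_2 spec_12_3 spec_12_4
  · exact key (SpecAt 13) spec_13_0 spec_13_1 spec_13_2 spec_13_3 spec_13_4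
  · exact key (SpecAt 14) spec_14_0 spec_14_1 spec_14_2 spec_14_3 spec_14_4
  · exact key (SpecAt 15) spec_15_0 spec_15_1 spec_15_2 spec_15_3 spec_15_4
  · exact key (SpecAt 16) spec_16_0 spec_16_1 spec_16_2 spec_16_3 spec_16_4
  · exact key (SpecAt 17) spec_17_0 spec_17_1 spec_17_2 spec_17_3 spec_17_4
  · exact key (SpecAt 18) spec_18_0 spec_18_1 spec_18_2 spec_18_3 spec_18_4
  · exact key (SpecAt 19) spec_19_0 spec_19_1 spec_19_2 spec_19_3 spec_19_4

theorem nidx_smul : ∀ v, v < 1365 → NidxAt v := by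
  intro v hv
  by_cases a0 : v < 273
  · have := nidx_0 v a0; rwa [Nat.add_zero] at this
  · by_cases a1 : v < 546
    · have := nidx_1 (v - 273) (by omega); rwa [show v - 273 + 273 = v by omega] at this
    · by_cases a2 : v < 819
      · have := nidx_2 (v - 546) (by omega); rwa [show v - 546 + 546 = v by omega] at this
      · by_cases a3 : v < 1092
        · have := nidx_3 (v - 819) (by omega); rwa [show v - 819 + 819 = v by omega] at this
        · have := nidx_4 (v - 1092) (by omega); rwa [show v - 1092 + 1092 = v by omega] at this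

theorem N_det : ∀ c, c < 20 → (N c).det = 1 := by
  intro c hc
  interval_cases c
  · exact N_det_0
  · exact N_det_1
  · exact N_det_2
  · exact N_det_3
  · exact N_det_4
  · exact N_det_5
  · exact N_det_6
  · exact N_det_7
  · exact N_det_8
  · exact N_det_9
  · exact N_det_10
  · exact N_det_11
  · exact N_det_12
  · exact N_det_13
  · exact N_det_14
  · exact N_det_15
  · exact N_det_16
  · exact N_det_17
  · exact N_det_18
  · exact N_det_19

/-! ### the letters in the special unitary group -/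

/-- the letters, in `SU₆(2)`. -/
def S (c : ℕ) : Cfsg.SU 6 K 2 :=
  if h : c < 20 then mkSU hK (N c) (N_unitary c h) (N_det c h) else 1

theorem S_val {c : ℕ} (hc : c < 20) :
    (((S c : Cfsg.SU 6 K 2) : Matrix.SpecialLinearGroup (Fin 6) K) : Matrix (Fin 6) (Fin 6) K)
      = N c := by
  unfold S
  rw [dif_pos hc]
  rfl

/-- the natural map onto `PSU₆(2)`. -/
abbrev pr : Cfsg.SU 6 K 2 →* Cfsg.PSU 6 K 2 :=
  QuotientGroup.mk' (Subgroup.center (Cfsg.SU 6 K 2))

/-- the group. -/
abbrev GG : Type := Cfsg.PSU 6 K 2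

/-- the generators of the first family. -/
def g3 (i : ℕ) : GG := pr (S (2 * i))

/-- the generators of the second family. -/
def g2 (i : ℕ) : GG := pr (S (10 + 2 * i))

theorem S_mul_inv {i : ℕ} (hi : i < 10) : S (2 * i) * S (2 * i + 1) = 1 := by
  apply Subtype.ext
  apply Subtype.ext
  rw [Subgroup.coe_mul, Matrix.SpecialLinearGroup.coe_mul, S_val (by omega), S_val (by omega)]
  exact N_inv i hi

theorem lval_S3 : ∀ c, c < 10 → lval g3 c = pr (S c) := by
  intro c hc
  obtain ⟨i, rfl | rfl⟩ : ∃ i, c = 2 * i ∨ c = 2 * i + 1 := ⟨c / 2, by omega⟩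
  · rw [lval_even]
    rfl
  · rw [lval_odd]
    have h := eq_inv_of_mul_eq_one_right (S_mul_inv (i := i) (by omega))
    rw [h, map_inv]
    rfl

theorem lval_S2 : ∀ c, c < 10 → lval g2 c = pr (S (10 + c)) := by
  intro c hc
  obtain ⟨i, rfl | rfl⟩ : ∃ i, c = 2 * i ∨ c = 2 * i + 1 := ⟨c / 2, by omega⟩
  · rw [lval_even]
    rfl
  · rw [lval_odd]
    have h := eq_inv_of_mul_eq_one_right (S_mul_inv (i := 5 + i) (by omega))
    have e1 : 10 + (2 * i + 1) = 2 * (5 + i) + 1 := by ring
    rw [e1, h, map_inv]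
    have e2 : 2 * (5 + i) = 10 + 2 * i := by ring
    rw [e2]
    rfl

theorem word_eq3 : ∀ l : List ℕ, (∀ c ∈ l, c < 10) →
    (l.map (lval g3)).prod = pr ((l.map S).prod)
  | [], _ => by simp
  | c :: l, h => by
    rw [List.map_cons, List.prod_cons, List.map_cons, List.prod_cons, map_mul,
      word_eq3 l (fun c hc => h c (List.mem_cons_of_mem _ hc)), lval_S3 c (h c List.mem_cons_self)]

theorem word_eq2 : ∀ l : List ℕ, (∀ c ∈ l, c < 10) →
    (l.map (lval g2)).prod = pr ((l.map (fun c => S (10 + c))).prod)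
  | [], _ => by simp
  | c :: l, h => by
    rw [List.map_cons, List.prod_cons, List.map_cons, List.prod_cons, map_mul,
      word_eq2 l (fun c hc => h c (List.mem_cons_of_mem _ hc)), lval_S2 c (h c List.mem_cons_self)]

theorem word_val3 : ∀ l : List ℕ, (∀ c ∈ l, c < 10) →
    ((((l.map S).prod : Cfsg.SU 6 K 2) : Matrix.SpecialLinearGroup (Fin 6) K) :
      Matrix (Fin 6) (Fin 6) K) = (l.map N).prod
  | [], _ => by simp
  | c :: l, h => by
    rw [List.map_cons, List.prod_cons, List.map_cons, List.prod_cons, Subgroup.coe_mul,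
      Matrix.SpecialLinearGroup.coe_mul, S_val (by have := h c List.mem_cons_self; omega),
      word_val3 l (fun c hc => h c (List.mem_cons_of_mem _ hc))]

theorem word_val2 : ∀ l : List ℕ, (∀ c ∈ l, c < 10) →
    ((((l.map (fun c => S (10 + c))).prod : Cfsg.SU 6 K 2) :
      Matrix.SpecialLinearGroup (Fin 6) K) : Matrix (Fin 6) (Fin 6) K) =
      (l.map (fun c => N (10 + c))).prod
  | [], _ => by simp
  | c :: l, h => by
    rw [List.map_cons, List.prod_cons, List.map_cons, List.prod_cons, Subgroup.coe_mul,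
      Matrix.SpecialLinearGroup.coe_mul, S_val (by have := h c List.mem_cons_self; omega),
      word_val2 l (fun c hc => h c (List.mem_cons_of_mem _ hc))]

theorem scal_aux {ζ : K} (h3 : ζ ^ 3 = 1) : ζ * ζ ^ 2 = 1 ∧ ζ ^ 6 = 1 := by
  refine ⟨by rw [← pow_succ']; exact h3, ?_⟩
  have : ζ ^ 6 = (ζ ^ 3) ^ 2 := by rw [← pow_mul]
  rw [this, h3, one_pow]

theorem CC_rel3 : ∀ r ∈ U62Q.CC, (r.map (lval g3)).prod = 1 := by
  intro r hr
  rw [word_eq3 r (CC_lt3 r hr)]
  obtain ⟨ζ, hζ3, hζ⟩ := N_rels3 r hr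
  obtain ⟨hζq, hζn⟩ := scal_aux hζ3
  have h1 : (r.map S).prod = scal hK ζ hζq hζn := by
    apply Subtype.ext
    apply Subtype.ext
    rw [word_val3 r (CC_lt3 r hr), hζ]
    rfl
  show (QuotientGroup.mk' _) _ = 1
  rw [QuotientGroup.mk'_apply, QuotientGroup.eq_one_iff, h1]
  exact scal_mem_center hK ζ hζq hζn

theorem CC_rel2 : ∀ r ∈ U62P.CC, (r.map (lval g2)).prod = 1 := by
  intro r hr
  rw [word_eq2 r (CC_lt2 r hr)]
  obtain ⟨ζ, hζ3, hζ⟩ := N_rels2 r hr
  obtain ⟨hζq, hζn⟩ := scal_aux hζ3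
  have h1 : (r.map (fun c => S (10 + c))).prod = scal hK ζ hζq hζn := by
    apply Subtype.ext
    apply Subtype.ext
    rw [word_val2 r (CC_lt2 r hr), hζ]
    rfl
  show (QuotientGroup.mk' _) _ = 1
  rw [QuotientGroup.mk'_apply, QuotientGroup.eq_one_iff, h1]
  exact scal_mem_center hK ζ hζq hζn

theorem g_pow3 : ∀ i, i < 5 → g3 i ^ U62Q.mm i = 1 := by
  intro i hi
  unfold g3
  rw [← map_pow]
  have : S (2 * i) ^ U62Q.mm i = 1 := by
    apply Subtype.ext
    apply Subtype.ext
    rw [SubmonoidClass.coe_pow, Matrix.SpecialLinearGroup.coe_pow, S_val (by omega)]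
    have := N_pow3 i hi
    rwa [List.prod_replicate] at this
  rw [this, map_one]

theorem g_pow2 : ∀ i, i < 5 → g2 i ^ U62P.mm i = 1 := by
  intro i hi
  unfold g2
  rw [← map_pow]
  have : S (10 + 2 * i) ^ U62P.mm i = 1 := by
    apply Subtype.ext
    apply Subtype.ext
    rw [SubmonoidClass.coe_pow, Matrix.SpecialLinearGroup.coe_pow, S_val (by omega)]
    have := N_pow2 i hi
    rwa [List.prod_replicate] at this
  rw [this, map_one]

/-! ### the action on the points of the projective space -/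

/-- the projective space. -/
abbrev PPt : Type := ℙ K (Fin 6 → K)

/-- the action of `SU₆(2)` on the points. -/
noncomputable def rho0 : Cfsg.SU 6 K 2 →* Equiv.Perm PPt :=
  (MulAction.toPermHom (Matrix.SpecialLinearGroup (Fin 6) K) PPt).comp
    (Subgroup.subtype (Cfsg.SU 6 K 2))

theorem center_le_ker : Subgroup.center (Cfsg.SU 6 K 2) ≤ rho0.ker := by
  intro z hz
  obtain ⟨ζ, hζ, hζn, rfl⟩ := center_eq_scal hK (by norm_num) z hz
  rw [MonoidHom.mem_ker]
  unfold rho0
  rw [MonoidHom.comp_apply]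
  have h1 : (Subgroup.subtype (Cfsg.SU 6 K 2)) (scal hK ζ hζ hζn) ∈
      Subgroup.center (Matrix.SpecialLinearGroup (Fin 6) K) := by
    rw [Matrix.SpecialLinearGroup.mem_center_iff]
    refine ⟨ζ, by rw [Fintype.card_fin]; exact hζn, ?_⟩
    show Matrix.scalar (Fin 6) ζ = ζ • (1 : Matrix (Fin 6) (Fin 6) K)
    ext i j
    simp [Matrix.scalar_apply, Matrix.diagonal_apply, Matrix.one_apply]
  rw [← Projectivization.SL_mulAction_ker] at h1
  exact h1

/-- the action of `PSU₆(2)` on the points. -/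
noncomputable def rhoP : Cfsg.PSU 6 K 2 →* Equiv.Perm PPt :=
  QuotientGroup.lift _ rho0 center_le_ker

theorem rhoP_mk (x : Cfsg.SU 6 K 2) : rhoP (QuotientGroup.mk' _ x) = rho0 x := rfl

theorem rho0_mk (x : Cfsg.SU 6 K 2) (u : Fin 6 → K) (hu : u ≠ 0)
    (w : Fin 6 → K) (hw : w ≠ 0) (s : K) (hs : s ≠ 0)
    (h : Matrix.mulVec ((x : Matrix.SpecialLinearGroup (Fin 6) K) : Matrix (Fin 6) (Fin 6) K) u
      = s • w) :
    rho0 x (Projectivization.mk K u hu) = Projectivization.mk K w hw := by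
  unfold rho0
  rw [MonoidHom.comp_apply, MulAction.toPermHom_apply, MulAction.toPerm_apply]
  show (x : Matrix.SpecialLinearGroup (Fin 6) K) • Projectivization.mk K u hu = _
  rw [Projectivization.smul_mk, Projectivization.mk_eq_mk_iff]
  refine ⟨Units.mk0 s hs, ?_⟩
  show s • w = _
  rw [← h]
  rfl

/-- the point with a given number. -/
noncomputable def ptOf (v : Fin 1365) : PPt :=
  Projectivization.mk K (decV v.val) (decV_ne v.val v.isLt)

theorem ptOf_injective : Function.Injective ptOf := by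
  intro v w h
  unfold ptOf at h
  rw [Projectivization.mk_eq_mk_iff] at h
  obtain ⟨a, ha⟩ := h
  have h1 := nidx_smul w.val w.isLt (a : K) (Units.ne_zero a)
  have h2 := nidx_smul v.val v.isLt 1 one_ne_zero
  rw [one_smul] at h2
  have h3 : (a : K) • decV w.val = decV v.val := ha
  rw [h3, h2] at h1
  exact Fin.ext h1

theorem card_PPt : Nat.card PPt = 1365 := by
  rw [Projectivization.card_of_finrank K (Fin 6 → K) (n := 6) (by simp)]
  have : Nat.card K = 4 := by rw [Nat.card_eq_fintype_card]; decide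
  rw [this]
  decide

theorem ptOf_bijective : Function.Bijective ptOf := by
  have : Finite PPt := Nat.finite_of_card_ne_zero (by rw [card_PPt]; norm_num)
  apply ptOf_injective.bijective_of_nat_card_le
  rw [card_PPt, Nat.card_fin]

/-- the numbering of the points. -/
noncomputable def eV : Fin 1365 ≃ PPt := Equiv.ofBijective _ ptOf_bijective

theorem eV_apply (v : Fin 1365) : eV v = ptOf v := rfl

/-- the permutation representation on the numbers of the points. -/
noncomputable def rho : GG →* Equiv.Perm (Fin 1365) :=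
  (eV.symm.permCongrHom.toMonoidHom).comp rhoP

theorem rho_apply (x : GG) (v : Fin 1365) : eV (rho x v) = rhoP x (eV v) := by
  show eV (eV.symm (rhoP x (eV.symm.symm v))) = _
  rw [Equiv.apply_symm_apply]
  rfl

theorem rho_S (c : ℕ) (hc : c < 20) (v : Fin 1365) :
    (rho (pr (S c)) v).val = tabP c v.val := by
  obtain ⟨h1, h2, h3⟩ := tab_spec c hc v.val v.isLt
  have e1 : eV (rho (pr (S c)) v) = eV ⟨tabP c v.val, h3⟩ := by
    rw [rho_apply, rhoP_mk, eV_apply, eV_apply]
    unfold ptOf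
    apply rho0_mk (S c) _ _ _ _ (F4.ofN (scP c v.val)) h2
    rw [S_val hc]
    exact h1
  have e2 := eV.injective e1
  rw [e2]

theorem rho_word3 : ∀ l : List ℕ, (∀ c ∈ l, c < 10) → ∀ v : Fin 1365,
    (rho ((l.map (lval g3)).prod) v).val = actL tabP l v.val
  | [], _, v => by
    rw [List.map_nil, List.prod_nil, map_one]
    rfl
  | c :: l, h, v => by
    rw [List.map_cons, List.prod_cons, map_mul, Equiv.Perm.mul_apply,
      lval_S3 c (h c List.mem_cons_self),
      rho_S c (by have := h c List.mem_cons_self; omega),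
      rho_word3 l (fun c hc => h c (List.mem_cons_of_mem _ hc)) v]
    rfl

theorem rho_word2 : ∀ l : List ℕ, (∀ c ∈ l, c < 10) → ∀ v : Fin 1365,
    (rho ((l.map (lval g2)).prod) v).val = actL tabP2 l v.val
  | [], _, v => by
    rw [List.map_nil, List.prod_nil, map_one]
    rfl
  | c :: l, h, v => by
    rw [List.map_cons, List.prod_cons, map_mul, Equiv.Perm.mul_apply,
      lval_S2 c (h c List.mem_cons_self),
      rho_S (10 + c) (by have := h c List.mem_cons_self; omega),
      rho_word2 l (fun c hc => h c (List.mem_cons_of_mem _ hc)) v]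
    rfl

/-! ### the order -/

theorem card_GG : Nat.card GG = 9196830720 := by
  have h := Cfsg.Agent.S0280.result (F := K) (q := 2) hK 6 (by norm_num)
  have e2 : (2 : ℕ) ^ (6 * (6 - 1) / 2) *
      ∏ i ∈ Finset.range 6, (if Even i then 2 ^ (i + 1) + 1 else 2 ^ (i + 1) - 1) =
      82771476480 := by
    simp [Finset.prod_range_succ]
    decide
  rw [e2] at h
  have e1 : Nat.gcd 6 (2 + 1) = 3 := by decide
  rw [e1] at h
  show Nat.card (Cfsg.PSU 6 K 2) = 9196830720
  omega

instance finGG : Finite GG := Nat.finite_of_card_ne_zero (by rw [card_GG]; norm_num)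

/-! ### stabiliser chains -/

/-- a level of the stabiliser chain. -/
def levelQ0 : Level := (0, [[0], [1], [2], [3], [4], [5], [6], [7], [8], [9]], [(0, 0), (0, 1), (0, 2), (0, 3), (0, 4), (0, 5), (0, 6), (28, 0), (28, 2), (28, 3), (28, 4), (28, 5), (28, 6), (34, 3), (34, 4), (34, 5), (34, 7), (49, 0), (49, 2), (49, 4), (49, 5), (49, 6), (49, 7), (51, 0), (51, 3), (5, 3), (5, 6), (5, 7), (60, 1), (60, 3), (60, 5), (60, 6), (60, 7), (36, 0), (36, 6), (35, 5), (35, 7), (40, 1), (40, 2), (40, 6), (40, 7), (19, 7), (18, 6), (18, 7), (17, 3), (87, 0), (87, 1), (87, 2), (87, 3), (87, 4), (87, 5), (87, 8), (1038, 1), (1038, 3), (1038, 6), (1038, 7), (50, 2), (50, 7), (11, 1), (11, 6), (1024, 2), (1030, 6), (1030, 7), (14, 6), (14, 7), (1035, 6), (1035, 7), (1344, 7), (1034, 3), (1034, 6), (80, 0), (80, 2), (80, 3), (80, 5), (80, 7), (80, 8), (56, 6), (10, 6), (10, 7), (1039, 6), (1039, 7), (175, 0), (175, 1), (175, 2), (175, 3), (175, 4), (175, 5), (175, 6), (175, 8), (1064, 0),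 (1064, 2), (1064, 3), (1064, 4), (1064, 5), (1064, 7), (1064, 8), (24, 6), (24, 7), (1037, 6), (6, 6), (245, 0), (245, 1), (245, 2), (245, 3), (245, 6), (245, 8), (1084, 0), (1084, 1), (1084, 2), (1084, 8), (1029, 6), (1029, 7), (1060, 2), (1060, 3), (1060, 5), (1060, 8), (44, 7), (1080, 3), (1080, 4), (1080, 5), (1080, 8), (1033, 6), (1076, 4), (1076, 8), (112, 0), (112, 2), (112, 4), (112, 8), (176, 0), (176, 1), (176, 3), (176, 8), (13, 6), (195, 0), (195, 3), (195, 4), (195, 5), (195, 8), (20, 6), (20, 7), (1074, 4), (1074, 6), (1074, 7), (1074, 8), (222, 3), (222, 6), (222, 7), (222, 8), (229, 1), (229, 5), (229, 6), (229, 7), (229, 8), (1058, 8), (85, 2), (85, 8), (136, 0), (136, 3), (136, 5), (136, 6), (136, 8), (279, 6), (279, 7), (1031, 6), (1031, 7), (1280, 7), (90, 0), (90, 3), (90, 8), (1044, 8), (7, 6), (193, 3), (193, 8), (15, 7), (169, 2), (169, 3), (169, 8), (9, 6), (1290, 8), (96, 2), (96, 7), (96, 8), (1043, 2), (1043, 8), (240, 3), (240, 4), (240, 7), (240,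 8), (126, 8), (130, 8), (194, 1), (194, 8), (52, 7), (254, 1), (254, 2), (254, 8), (217, 8), (182, 5), (182, 8), (185, 3), (185, 8), (107, 2), (107, 8), (86, 8), (272, 6), (272, 7), (181, 8), (1075, 1), (1075, 2), (1075, 8), (208, 8), (154, 1), (154, 8), (66, 1), (66, 7), (66, 8), (127, 0), (127, 8), (109, 8), (250, 8), (132, 8), (204, 8), (189, 8), (72, 0), (72, 3), (72, 8), (559, 6), (119, 8), (170, 8), (94, 8), (196, 8), (155, 8), (95, 8), (1160, 7), (1048, 8), (218, 8), (1059, 8), (1068, 8), (1057, 8), (183, 8), (234, 8), (1291, 8), (821, 6), (235, 8), (117, 8), (91, 8), (1228, 7), (1286, 8), (160, 8), (1052, 8), (237, 8), (165, 8), (1156, 6), (1156, 7), (158, 8), (68, 8), (219, 8), (1224, 6), (1224, 7), (171, 8), (150, 8), (1042, 8), (1287, 8), (304, 7), (214, 8), (101, 8), (1073, 8), (560, 7), (111, 8), (110, 8), (167, 8), (223, 8), (187, 8), (771, 6), (771, 7), (151, 8), (129, 8), (65, 8), (153, 8), (159, 8), (1218, 6), (1218, 7), (247, 8), (246, 8), (213, 8), (798,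 6), (798, 7), (230, 8), (233, 8), (106, 8), (149, 8), (805, 6), (805, 7), (1154, 6), (1154, 7), (125, 8), (277, 6), (277, 7), (166, 8), (140, 8), (221, 8), (121, 8), (520, 6), (520, 7), (1261, 0), (1261, 1), (1261, 2), (1261, 3), (1261, 4), (1261, 5), (1261, 6), (1261, 8), (528, 0), (528, 3), (528, 7), (1360, 8), (173, 8), (93, 8), (282, 6), (1285, 8), (769, 7), (131, 8), (1293, 8), (253, 8), (553, 7), (239, 8), (1314, 6), (255, 8), (1289, 8), (288, 7), (238, 8), (1091, 6), (1041, 8), (1295, 8), (186, 8), (816, 7), (318, 6), (514, 7), (251, 8), (770, 7), (118, 8), (830, 6), (793, 6), (793, 7), (122, 8), (566, 6), (566, 7), (191, 8), (569, 6), (569, 7), (157, 8), (299, 6), (299, 7), (278, 6), (278, 7), (791, 6), (850, 1), (850, 2), (850, 3), (850, 4), (850, 5), (850, 7), (174, 8), (1219, 6), (784, 7), (231, 8), (538, 6), (123, 8), (200, 8), (258, 7), (103, 8), (319, 7), (301, 6), (301, 7), (826, 6), (516, 6), (516, 7), (780, 6), (780, 7), (573, 6), (573, 7), (102, 8), (76, 8),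 (264, 6), (264, 7), (371, 0), (371, 1), (371, 2), (371, 3), (371, 4), (371, 5), (311, 6), (311, 7), (554, 6), (554, 7), (286, 6), (286, 7), (772, 6), (772, 7), (539, 6), (539, 7), (287, 6), (595, 0), (595, 3), (595, 4), (595, 5), (595, 7), (1096, 7), (794, 6), (1155, 6), (1164, 7), (1153, 7), (567, 6), (567, 7), (810, 6), (810, 7), (1315, 6), (1315, 7), (1194, 3), (811, 6), (811, 7), (309, 6), (283, 6), (283, 7), (689, 1), (689, 2), (689, 4), (689, 5), (689, 7), (1298, 6), (544, 7), (1100, 7), (813, 7), (549, 7), (1330, 6), (800, 7), (542, 6), (260, 6), (260, 7), (795, 7), (851, 0), (851, 1), (851, 3), (851, 5), (851, 7), (851, 8), (555, 6), (555, 7), (534, 6), (534, 7), (1090, 6), (1090, 7), (1299, 7), (690, 0), (690, 3), (690, 7), (790, 6), (790, 7), (293, 6), (293, 7), (1217, 6), (1217, 7), (946, 2), (946, 3), (303, 6), (302, 6), (302, 7), (551, 7), (799, 6), (571, 6), (571, 7), (849, 0), (849, 1), (849, 2), (849, 3), (849, 5), (535, 6), (513, 7), (537, 6), (537, 7), (543,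 6), (418, 4), (659, 0), (659, 2), (659, 3), (659, 7), (823, 6), (823, 7), (822, 6), (822, 7), (789, 6), (789, 7), (461, 0), (461, 4), (461, 5), (977, 1), (977, 2), (977, 3), (298, 7), (533, 6), (337, 1), (337, 3), (337, 4), (337, 5), (913, 3), (930, 0), (930, 3), (403, 0), (403, 2), (403, 3), (403, 5), (403, 7), (317, 6), (504, 4), (504, 5), (504, 6), (611, 1), (611, 4), (611, 5), (611, 8), (524, 6), (313, 6), (612, 0), (612, 3), (612, 5), (612, 6), (612, 8), (931, 4), (931, 7), (910, 0), (910, 3), (910, 4), (910, 5), (910, 6), (910, 8), (936, 4), (936, 6), (936, 8), (508, 1), (508, 8), (1254, 7), (459, 1), (459, 2), (1168, 2), (1168, 3), (1168, 7), (967, 0), (967, 2), (967, 4), (1213, 6), (281, 7), (825, 6), (338, 2), (653, 0), (653, 2), (653, 5), (1297, 6), (1297, 7), (947, 1), (947, 3), (947, 4), (1329, 6), (1329, 7), (829, 6), (710, 2), (1313, 6), (1358, 1), (738, 3), (1089, 7), (1331, 6), (434, 0), (843, 1), (843, 2), (310, 6), (587, 1), (587, 2), (587, 6), (888, 0), (888,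 4), (888, 5), (888, 6), (1200, 0), (1200, 7), (395, 2), (395, 6), (466, 2), (466, 7), (575, 7), (640, 4), (640, 5), (541, 6), (1011, 3), (914, 2), (589, 4), (589, 5), (754, 2), (754, 3), (1197, 1), (1130, 3), (1205, 0), (1205, 2), (1205, 5), (866, 3), (435, 3), (711, 2), (711, 4), (909, 0), (1232, 0), (1232, 1), (1232, 2), (715, 2), (740, 6), (932, 6), (1114, 3), (1114, 6), (1351, 3), (356, 6), (675, 4), (675, 5), (675, 7), (376, 0), (376, 4), (1020, 1), (1020, 6), (320, 5), (650, 3), (476, 6), (717, 0), (465, 3), (996, 5), (996, 6), (1245, 0), (1245, 1), (1245, 2), (902, 1), (436, 0), (436, 4), (436, 8), (339, 0), (397, 1), (994, 3), (417, 7), (372, 3), (372, 5), (1277, 1), (331, 2), (334, 2), (334, 4), (334, 5), (1359, 1), (945, 2), (370, 2), (1248, 7), (1135, 3), (1135, 4), (1135, 8), (709, 8), (915, 0), (753, 2), (1246, 3), (651, 1), (585, 0), (1182, 1), (1215, 0), (1242, 6), (620, 1), (654, 5), (492, 2), (492, 7), (1141, 2), (600, 8)])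

/-- a level of the stabiliser chain. -/
def levelQ1 : Level := (1, [[8], [0,7], [2,7,0]], [(1, 1), (184, 0), (184, 1), (184, 2), (568, 1), (568, 2), (59, 1), (59, 2), (172, 0), (172, 1), (172, 2), (548, 0), (548, 1), (548, 2), (661, 1), (661, 2), (64, 0), (64, 1), (64, 2), (241, 0), (241, 1), (241, 2), (556, 1), (556, 2), (70, 0), (70, 1), (70, 2), (148, 0), (148, 1), (164, 1), (540, 0), (540, 2), (639, 0), (639, 1), (639, 2), (730, 0), (730, 1), (730, 2), (697, 1), (58, 1), (58, 2), (39, 1), (39, 2), (817, 1), (817, 2), (252, 0), (252, 1), (225, 0), (225, 1), (225, 2), (601, 0), (601, 1), (601, 2), (685, 1), (262, 1), (262, 2), (41, 1), (74, 0), (74, 1), (532, 1), (98, 0), (98, 1), (3, 1), (156, 2), (746, 0), (746, 1), (746, 2), (447, 1), (447, 2), (693, 1), (693, 2), (615, 0), (615, 1), (615, 2), (922, 1), (922, 2), (526, 0), (526, 1), (526, 2), (665, 1), (643, 1), (643, 2), (248, 0), (248, 2), (73, 0), (73, 1), (73, 2), (120, 0), (120, 1), (120, 2), (27, 1), (27, 2), (985,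 1), (985, 2), (1023, 2), (828, 1), (828, 2), (206, 0), (206, 1), (206, 2), (801, 1), (801, 2), (78, 0), (78, 1), (78, 2), (104, 0), (409, 1), (409, 2), (629, 0), (629, 2), (708, 0), (708, 2), (766, 1), (766, 2), (275, 0), (275, 1), (275, 2), (365, 1), (365, 2), (46, 1), (46, 2), (163, 0), (163, 1), (637, 0), (637, 2), (290, 1), (290, 2), (53, 1), (100, 0), (100, 1), (100, 2), (211, 0), (211, 1), (938, 1), (938, 2), (623, 0), (623, 1), (623, 2), (734, 0), (734, 1), (734, 2), (400, 1), (400, 2), (377, 1), (521, 0), (521, 1), (521, 2), (631, 0), (631, 1), (423, 1), (578, 0), (578, 2), (572, 0), (572, 1), (820, 0), (820, 1), (820, 2), (958, 1), (958, 2), (142, 2), (598, 0), (598, 1), (598, 2), (703, 1), (703, 2), (592, 1), (592, 2), (635, 0), (635, 1), (635, 2), (605, 0), (605, 1), (824, 2), (139, 0), (139, 1), (139, 2), (265, 1), (265, 2), (199, 0), (199, 2), (77, 0), (77, 1), (312, 2), (30, 1), (30, 2), (178, 0), (178, 1), (147, 0), (147, 1), (147, 2), (874, 0), (874, 1), (874,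 2), (1021, 2), (862, 0), (862, 1), (862, 2), (1003, 1), (1003, 2), (804, 1), (804, 2), (782, 1), (782, 2), (115, 0), (115, 2), (161, 0), (161, 1), (161, 2), (875, 0), (875, 1), (875, 2), (886, 0), (886, 1), (886, 2), (270, 1), (108, 0), (108, 1), (108, 2), (152, 0), (152, 1), (296, 2), (336, 1), (336, 2), (474, 0), (437, 2), (617, 0), (900, 1), (900, 2), (687, 1), (530, 0), (530, 1), (530, 2), (742, 0), (742, 1), (742, 2), (83, 1), (83, 2), (470, 1), (470, 2), (493, 0), (493, 1), (493, 2), (475, 0), (475, 1), (475, 2), (306, 0), (306, 2), (133, 0), (133, 2), (113, 0), (113, 1), (113, 2), (547, 1), (547, 2), (168, 2), (445, 1), (445, 2), (699, 1), (699, 2), (271, 1), (271, 2), (274, 0), (274, 1), (274, 2), (292, 2), (38, 1), (88, 0), (88, 1), (88, 2), (787, 1), (787, 2), (243, 0), (243, 1), (243, 2), (853, 0), (853, 2), (1017, 1), (431, 2), (519, 0), (519, 1), (519, 2), (750, 1), (926, 1), (926, 2), (705, 0), (705, 1), (705, 2), (552, 1), (429, 0), (429, 1), (432, 0), (432,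 1), (422, 0), (422, 1), (422, 2), (137, 1), (765, 0), (765, 1), (765, 2), (618, 0), (618, 2), (439, 2), (752, 0), (752, 1), (359, 1), (359, 2), (386, 1), (386, 2), (763, 0), (763, 1), (763, 2), (188, 2), (747, 0), (747, 1), (1014, 1), (808, 1), (961, 1), (134, 0), (134, 1), (134, 2), (406, 1), (406, 2), (667, 1), (707, 0), (707, 1), (656, 2), (633, 0), (633, 2), (648, 1), (686, 1), (686, 2), (443, 1), (443, 2), (634, 0), (634, 1), (726, 1), (726, 2), (413, 1), (413, 2), (917, 1), (523, 2), (62, 1), (143, 0), (509, 0), (509, 1), (362, 1), (362, 2), (775, 2), (203, 0), (8, 1), (8, 2), (228, 1), (228, 2), (54, 2), (162, 1), (162, 2), (531, 2), (201, 0), (212, 0), (490, 1), (880, 2), (999, 1), (999, 2), (898, 1), (898, 2), (478, 1), (785, 0), (785, 1), (983, 2), (870, 0), (870, 1), (796, 0), (796, 2), (895, 0), (895, 1), (895, 2), (854, 1), (959, 0), (959, 1), (959, 2), (307, 1), (307, 2), (4, 1), (4, 2), (545, 1), (116, 0), (491, 1), (491, 2), (968, 2), (863, 2), (502, 1), (840,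 2), (781, 1), (781, 2), (300, 1), (99, 1), (536, 1), (536, 2), (232, 1), (232, 2), (284, 0), (392, 1), (430, 2), (858, 2), (976, 1), (597, 2), (934, 1), (741, 0), (741, 1), (741, 2), (701, 1), (701, 2), (236, 0), (388, 1), (506, 0), (452, 0), (267, 0), (859, 2), (411, 1), (48, 2), (305, 1), (227, 0), (227, 2), (682, 2), (332, 2), (607, 2), (712, 1), (712, 2), (494, 0), (494, 1), (192, 0), (280, 1), (280, 2), (205, 1), (205, 2), (1005, 1), (469, 1), (469, 2), (935, 2), (725, 1), (725, 2), (1019, 1), (1019, 2), (783, 1), (669, 1), (678, 1), (662, 1), (662, 2), (621, 1), (510, 0), (957, 1), (630, 2), (426, 2), (427, 2), (580, 1), (322, 2), (451, 0), (451, 2), (485, 1), (751, 0), (29, 1), (939, 2), (855, 2), (918, 2), (925, 1), (84, 0), (84, 2), (446, 0), (441, 1), (602, 1), (666, 1), (456, 1), (456, 2), (644, 1), (762, 0), (762, 2), (415, 1), (986, 2), (893, 1), (487, 1), (981, 1), (779, 2), (210, 0), (57, 2), (97, 1), (43, 1), (749, 0), (864, 1), (861, 2), (773, 1), (209, 1),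 (834, 0), (834, 1), (1002, 1), (511, 2), (923, 1), (923, 2), (767, 2), (207, 2), (177, 0), (177, 1), (937, 0), (343, 2), (1013, 2), (345, 1), (759, 0), (179, 0), (179, 1), (346, 1), (328, 2), (928, 2), (933, 2), (812, 1), (464, 1), (890, 1), (75, 2), (503, 1), (736, 1), (671, 1), (507, 1), (943, 2), (128, 0), (276, 1), (352, 1), (720, 1), (45, 2), (373, 2)])

/-- a level of the stabiliser chain. -/
def levelQ2 : Level := (4, [[8], [6,1,2,7,0], [6,1,6,1,8,0,7,0,7]], [(4, 1), (4, 2), (180, 0), (180, 2), (864, 0), (564, 1), (480, 1), (736, 0), (736, 1), (388, 0), (388, 1), (928, 1), (928, 2), (644, 1), (580, 1), (580, 2), (336, 1), (792, 0), (792, 1), (536, 1), (592, 0), (552, 0), (552, 1), (152, 1), (308, 0), (216, 1), (216, 2), (880, 0), (880, 1), (880, 2), (624, 0), (400, 1), (400, 2), (168, 1), (168, 2), (548, 0), (548, 1), (548, 2), (148, 0), (116, 1), (116, 2), (496, 1), (496, 2), (712, 0), (712, 1), (844, 1), (192, 0), (192, 1), (192, 2), (972, 1), (164, 1), (164, 2), (584,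 0), (248, 0), (248, 1), (532, 2), (124, 0), (460, 1), (300, 0), (812, 0), (812, 1), (904, 1), (768, 2), (120, 0), (120, 1), (120, 2), (540, 0), (540, 1), (788, 0), (788, 2), (172, 0), (284, 0), (284, 1), (392, 2), (824, 1), (244, 0), (316, 2), (276, 0), (108, 1), (108, 2), (236, 1), (912, 0), (828, 0), (100, 0), (312, 1), (312, 2), (16, 2), (796, 0), (796, 1), (156, 1), (708, 0), (708, 2), (212, 2), (456, 0), (556, 1), (556, 2), (92, 1), (452, 0), (820, 2), (84, 2), (232, 0), (252, 1), (252, 2), (396, 0), (396, 2), (128, 0), (128, 1), (220, 1), (964, 2), (900, 2), (416, 0), (944, 0), (808, 1), (64, 0), (324, 1), (848, 0), (228, 2), (256, 2), (296, 0)])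

/-- a level of the stabiliser chain. -/
def levelQ3 : Level := (16, [[8], [6,1,2,7,0,6,1,2,7,0], [1,6,3,0,7,9,6,1,6,1,8,0,7,0,7,8,6,1,2,7,0], [6,1,6,1,9,0,7,2,7,0,6,1,6,1,8,0,7,0,7], [1,6,3,0,7,9,1,6,3,0,7,9,6,1,6,1,9,0,7,0,7,1,6,3,0,7,9,6,1,6,1,8,0,7,2,7,0,8,6,1,2,7,0,8,6,1,2,7,0,8,6,1,2,7,0]], [(16, 1), (16, 3), (16, 4), (192, 0), (192, 2), (192, 3), (192, 4), (368, 2), (368, 4), (432, 0), (432, 3), (768, 2), (768, 4), (512, 0), (512, 3), (512, 4), (416, 4), (480, 0), (944, 0), (944, 4), (736, 0), (624, 2), (624, 3), (352, 4), (64, 0), (64, 1), (128, 1), (128, 4), (608, 2), (608, 4), (688, 3), (864, 3), (752, 1), (592, 0), (848, 0)])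

/-- a level of the stabiliser chain. -/
def levelQ4 : Level := (64, [[8], [1,6,3,0,7,9,6,1,6,1,8,0,7,0,7,8,6,1,2,7,0]], [(64, 0), (64, 1), (256, 1), (768, 0), (128, 0)])

/-- the stabiliser chain. -/
def levelQs : List Level := [levelQ0, levelQ1, levelQ2, levelQ3, levelQ4]

/-- a level of the stabiliser chain. -/
def levelP0 : Level := (0, [[0], [1], [2], [3], [4], [5], [6], [7], [8], [9]], [(0, 4), (0, 5), (0, 6), (0, 8), (0, 9), (11, 0), (11, 1), (11, 2), (11, 3), (11, 8), (11, 9), (6, 0), (6, 1), (6, 2), (6, 3), (6, 8), (6, 9), (13, 0), (13, 1), (13, 2), (13, 3), (13, 8), (13, 9), (140, 0), (140, 6), (140, 7), (72, 5), (219, 2), (219, 3), (219, 4), (219, 5), (219, 6), (219, 7), (219, 8), (219, 9), (187, 4), (187, 5), (187, 6), (187, 7), (187, 8), (187, 9), (167, 0), (167, 1), (167, 4), (167, 5), (167, 6), (167, 7), (167, 8), (167, 9), (255, 0), (255, 1), (255, 4), (255, 5), (255, 6), (255, 8), (255, 9), (1245, 0), (1245, 1), (1245, 3), (1245, 4), (1245, 5), (1245, 6), (1245,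 7), (401, 0), (401, 1), (401, 2), (401, 3), (401, 4), (401, 5), (401, 6), (401, 7), (182, 2), (182, 3), (182, 4), (182, 5), (182, 8), (182, 9), (102, 4), (102, 7), (102, 8), (102, 9), (94, 0), (94, 1), (94, 4), (94, 5), (94, 7), (94, 8), (94, 9), (170, 0), (170, 1), (170, 4), (170, 5), (170, 6), (170, 8), (170, 9), (278, 0), (278, 1), (278, 2), (278, 3), (278, 4), (278, 5), (278, 6), (278, 7), (550, 0), (550, 1), (550, 2), (550, 3), (550, 4), (550, 5), (550, 6), (550, 7), (109, 2), (109, 3), (109, 4), (109, 5), (109, 8), (109, 9), (221, 4), (221, 5), (221, 8), (221, 9), (249, 1), (249, 5), (249, 8), (249, 9), (85, 0), (85, 1), (85, 4), (85, 7), (85, 8), (85, 9), (611, 0), (611, 1), (611, 2), (611, 3), (611, 4), (611, 5), (611, 6), (611, 7), (1142, 0), (1142, 1), (1142, 4), (1142, 5), (1142, 6), (1142, 7), (196, 5), (196, 7), (194, 0), (194, 1), (1074, 0), (1074, 1), (1074, 2), (1074, 9), (1041, 0), (1041, 1), (1041, 3), (131, 0), (131, 4), (131, 5), (131, 6), (131, 7), (131,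 8), (131, 9), (119, 0), (119, 4), (119, 5), (119, 6), (119, 7), (119, 9), (86, 7), (86, 8), (86, 9), (144, 0), (144, 1), (144, 3), (144, 9), (208, 0), (208, 2), (208, 3), (208, 8), (208, 9), (214, 2), (214, 3), (214, 4), (214, 8), (214, 9), (576, 0), (576, 1), (576, 2), (576, 3), (576, 4), (576, 5), (576, 6), (576, 7), (1275, 0), (1275, 1), (1275, 2), (1275, 3), (1275, 4), (1275, 5), (1275, 6), (1275, 7), (246, 0), (246, 2), (246, 3), (246, 9), (112, 0), (112, 2), (112, 3), (112, 8), (189, 2), (189, 3), (189, 4), (176, 2), (176, 5), (176, 8), (176, 9), (309, 0), (309, 1), (309, 3), (309, 4), (309, 5), (309, 7), (636, 1), (636, 2), (636, 4), (636, 5), (636, 6), (636, 7), (251, 3), (251, 9), (95, 3), (95, 5), (95, 6), (95, 7), (95, 8), (95, 9), (183, 7), (183, 8), (183, 9), (223, 1), (223, 4), (1294, 1), (1294, 8), (1294, 9), (1217, 1), (1217, 2), (1217, 3), (1217, 4), (1217, 5), (1217, 6), (1217, 7), (930, 0), (930, 1), (930, 2), (930, 3), (930, 4), (930, 5), (930, 6), (930,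 7), (235, 6), (235, 7), (235, 8), (235, 9), (195, 5), (195, 7), (1060, 1), (110, 0), (110, 9), (1293, 8), (1293, 9), (1253, 0), (1253, 4), (640, 0), (640, 1), (640, 2), (640, 3), (640, 4), (640, 5), (640, 6), (640, 7), (1126, 2), (1126, 3), (1126, 5), (1126, 6), (1126, 7), (1211, 2), (1211, 3), (1211, 4), (1211, 5), (1211, 6), (1211, 7), (1211, 9), (1184, 0), (1184, 6), (1184, 7), (1184, 8), (1184, 9), (616, 0), (616, 1), (616, 3), (616, 6), (616, 7), (616, 9), (1010, 1), (1010, 3), (1010, 6), (1010, 7), (417, 0), (417, 3), (417, 5), (417, 8), (417, 9), (724, 0), (724, 1), (724, 2), (724, 4), (724, 5), (724, 8), (724, 9), (565, 7), (565, 8), (973, 2), (973, 3), (973, 4), (973, 7), (973, 8), (973, 9), (713, 0), (713, 1), (713, 4), (713, 5), (713, 7), (713, 8), (713, 9), (829, 0), (829, 1), (829, 6), (945, 0), (945, 1), (945, 2), (945, 3), (945, 6), (945, 7), (673, 1), (756, 0), (756, 1), (756, 2), (756, 3), (756, 5), (756, 8), (756, 9), (1241, 0), (1241, 1), (1241, 2), (1241,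 5), (1241, 8), (1241, 9), (66, 4), (66, 6), (66, 9), (238, 4), (238, 6), (238, 7), (240, 8), (240, 9), (123, 0), (123, 2), (123, 3), (123, 8), (123, 9), (1332, 2), (1332, 3), (1332, 4), (1332, 5), (1332, 6), (318, 0), (318, 1), (318, 2), (318, 3), (318, 4), (318, 7), (160, 0), (160, 1), (160, 8), (107, 2), (107, 8), (107, 9), (594, 1), (594, 3), (594, 5), (594, 6), (1315, 0), (1315, 7), (166, 3), (250, 5), (250, 8), (250, 9), (239, 9), (1068, 0), (1068, 1), (905, 0), (905, 1), (905, 3), (905, 4), (905, 5), (311, 0), (311, 1), (311, 3), (311, 5), (150, 8), (130, 4), (130, 8), (154, 9), (217, 0), (217, 8), (217, 9), (755, 0), (755, 1), (755, 2), (755, 4), (772, 2), (772, 4), (772, 5), (772, 7), (554, 2), (554, 4), (554, 7), (830, 2), (830, 3), (830, 5), (830, 6), (830, 7), (738, 0), (738, 1), (738, 7), (846, 0), (846, 8), (846, 9), (272, 1), (272, 2), (272, 3), (272, 6), (272, 8), (283, 0), (283, 1), (283, 2), (283, 3), (784, 8), (784, 9), (541, 0), (541, 1), (541, 2), (541,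 3), (850, 6), (850, 8), (850, 9), (458, 2), (458, 3), (458, 8), (906, 0), (906, 1), (906, 6), (906, 8), (906, 9), (466, 0), (466, 1), (466, 4), (544, 1), (544, 6), (544, 7), (555, 0), (555, 1), (555, 3), (555, 6), (555, 7), (193, 8), (153, 5), (153, 6), (173, 2), (173, 9), (237, 9), (260, 0), (260, 2), (260, 5), (260, 7), (723, 0), (93, 2), (157, 2), (157, 8), (1134, 5), (1134, 7), (356, 1), (356, 4), (165, 4), (165, 8), (390, 4), (390, 5), (390, 6), (390, 7), (1189, 1), (125, 8), (117, 8), (793, 2), (793, 6), (793, 7), (1304, 1), (1304, 2), (1304, 4), (1304, 7), (947, 5), (947, 6), (947, 7), (467, 2), (467, 3), (467, 9), (827, 4), (827, 6), (463, 0), (463, 9), (1012, 7), (1210, 2), (1210, 7), (627, 0), (627, 8), (595, 0), (595, 5), (1198, 6), (1198, 9), (1218, 3), (1218, 7), (67, 1), (67, 8), (129, 1), (254, 9), (234, 7), (234, 8), (234, 9), (1033, 8), (1033, 9), (1044, 7), (1044, 9), (1039, 1), (1039, 9), (1080, 2), (1080, 8), (1080, 9), (1031, 0), (1031, 8), (1031, 9), (171,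 9), (68, 6), (68, 9), (1042, 0), (1042, 8), (1042, 9), (200, 8), (826, 7), (1262, 0), (1262, 6), (155, 9), (103, 9), (87, 9), (1285, 0), (1285, 1), (315, 0), (315, 1), (315, 4), (1115, 3), (1115, 4), (52, 6), (204, 9), (60, 9), (96, 9), (136, 8), (136, 9), (295, 4), (649, 0), (649, 7), (852, 4), (852, 5), (852, 7), (380, 4), (1004, 0), (1004, 4), (1004, 5), (1004, 7), (1004, 8), (651, 9), (710, 1), (710, 3), (320, 0), (832, 2), (1190, 2), (1190, 7), (1168, 4), (1168, 5), (1183, 2), (174, 7), (843, 3), (40, 9), (229, 9), (17, 8), (1200, 4), (1200, 5), (1200, 7), (717, 5), (913, 6), (537, 1), (537, 6), (424, 4), (340, 6), (364, 3), (364, 7), (868, 4), (1331, 1), (1291, 3), (1037, 8), (1037, 9), (790, 0), (1295, 9), (1271, 0), (1271, 5), (1259, 0), (1259, 1), (1259, 4), (1259, 5), (1259, 6), (1259, 7), (1269, 0), (1269, 1), (1111, 0), (1111, 7), (520, 7), (770, 6), (591, 3), (591, 9), (570, 3), (418, 4), (1273, 3), (1125, 8), (567, 1), (230, 8), (297, 1), (297, 4), (297, 7), (960,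 1), (1255, 2), (1255, 7), (404, 6), (1143, 0), (1279, 7), (1119, 8), (1258, 7), (1258, 8), (969, 4), (268, 6), (872, 3), (632, 2), (684, 5), (1270, 8), (680, 1), (1308, 3), (1308, 8), (581, 0), (559, 4), (329, 1), (513, 0), (658, 5), (1156, 2), (1118, 8)])

/-- a level of the stabiliser chain. -/
def levelP1 : Level := (1, [[0], [2], [4,7], [8,1,8]], [(1, 2), (1, 3), (133, 0), (133, 1), (133, 2), (133, 3), (48, 0), (48, 1), (48, 3), (29, 0), (29, 1), (29, 2), (29, 3), (41, 0), (41, 1), (41, 2), (41, 3), (143, 0), (143, 2), (143, 3), (630, 0), (630, 1), (630, 2), (630, 3), (120, 0), (120, 1), (120, 2), (120, 3), (104, 1), (104, 2), (104, 3), (73, 0), (73, 2), (73, 3), (241, 2), (241, 3), (69, 0), (69, 1), (69, 2), (69, 3), (27, 2), (27, 3), (893, 0), (893, 1), (893, 2), (893, 3), (61, 0), (61, 1), (61, 2), (61, 3), (113, 0), (113, 2), (113, 3), (236, 0), (236, 1), (236, 2), (236, 3), (629, 0), (629, 1), (629, 2), (199, 2), (12, 0), (12, 1), (12, 2), (12, 3), (228, 0), (228,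 1), (228, 2), (922, 0), (922, 1), (922, 2), (922, 3), (986, 0), (986, 1), (986, 2), (986, 3), (950, 0), (950, 1), (950, 2), (950, 3), (210, 0), (210, 1), (210, 3), (32, 1), (242, 0), (242, 3), (197, 2), (156, 0), (156, 3), (226, 0), (226, 1), (226, 3), (141, 2), (71, 0), (71, 1), (71, 2), (71, 3), (188, 2), (243, 0), (243, 2), (243, 3), (368, 1), (368, 2), (368, 3), (225, 0), (225, 1), (225, 3), (177, 0), (177, 3), (201, 0), (201, 2), (201, 3), (895, 0), (895, 1), (895, 2), (22, 0), (22, 3), (556, 0), (556, 1), (556, 2), (556, 3), (321, 0), (321, 1), (321, 2), (321, 3), (381, 0), (381, 1), (381, 2), (381, 3), (432, 0), (432, 1), (432, 2), (432, 3), (252, 1), (252, 3), (21, 2), (21, 3), (145, 0), (145, 3), (59, 0), (59, 1), (59, 2), (59, 3), (954, 0), (954, 2), (954, 3), (45, 0), (45, 2), (45, 3), (62, 1), (631, 0), (631, 1), (631, 2), (116, 0), (116, 1), (116, 2), (116, 3), (180, 0), (180, 1), (180, 2), (180, 3), (232, 2), (232, 3), (525, 0), (525, 2), (525, 3), (921, 0), (921,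 1), (921, 2), (985, 0), (985, 1), (985, 2), (1017, 0), (1017, 1), (1017, 3), (206, 2), (206, 3), (108, 0), (248, 0), (248, 1), (248, 2), (248, 3), (963, 1), (963, 2), (963, 3), (172, 2), (161, 3), (494, 1), (494, 2), (366, 0), (366, 1), (366, 2), (366, 3), (350, 0), (350, 1), (350, 2), (350, 3), (83, 3), (442, 0), (442, 2), (442, 3), (386, 2), (469, 0), (469, 1), (469, 2), (469, 3), (605, 0), (605, 1), (605, 2), (605, 3), (358, 0), (358, 1), (358, 3), (322, 0), (322, 1), (496, 1), (496, 3), (855, 1), (855, 2), (855, 3), (98, 3), (38, 3), (407, 1), (134, 0), (336, 0), (336, 1), (336, 2), (26, 0), (26, 2), (78, 3), (478, 2), (227, 1), (179, 0), (179, 1), (179, 3), (879, 1), (879, 2), (115, 3), (57, 1), (57, 3), (352, 1), (352, 2), (644, 0), (644, 1), (644, 2), (699, 2), (699, 3), (203, 0), (203, 3), (25, 3), (77, 2), (77, 3), (510, 0), (510, 2), (209, 3), (37, 0), (37, 3), (138, 0), (138, 3), (955, 0), (955, 1), (955, 2), (955, 3), (323, 0), (323, 2), (323, 3), (383, 0), (383,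 1), (378, 0), (378, 3), (904, 1), (904, 2), (812, 0), (812, 1), (812, 2), (812, 3), (942, 0), (942, 1), (942, 2), (942, 3), (597, 1), (749, 0), (749, 1), (749, 3), (526, 1), (526, 2), (526, 3), (178, 3), (577, 0), (577, 1), (577, 2), (577, 3), (637, 0), (637, 2), (637, 3), (688, 0), (688, 2), (824, 0), (824, 1), (824, 2), (824, 3), (720, 0), (720, 1), (720, 2), (540, 2), (765, 0), (765, 1), (765, 3), (450, 0), (450, 1), (450, 2), (450, 3), (8, 3), (643, 1), (643, 2), (82, 0), (82, 3), (511, 1), (53, 3), (953, 2), (163, 3), (54, 3), (747, 1), (747, 3), (382, 0), (382, 2), (382, 3), (137, 3), (43, 3), (820, 1), (820, 2), (923, 0), (923, 1), (923, 2), (987, 1), (987, 3), (819, 0), (819, 1), (819, 3), (216, 0), (216, 3), (774, 2), (64, 2), (58, 3), (527, 2), (844, 2), (877, 1), (779, 1), (779, 2), (779, 3), (55, 3), (493, 1), (365, 0), (365, 1), (273, 0), (273, 1), (273, 2), (441, 0), (441, 1), (441, 2), (441, 3), (385, 2), (410, 1), (410, 2), (410, 3), (349, 0), (349, 3), (698,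 3), (730, 2), (220, 3), (63, 3), (962, 2), (411, 1), (411, 3), (265, 2), (97, 2), (97, 3), (99, 3), (1008, 2), (694, 0), (694, 1), (546, 0), (546, 1), (546, 3), (734, 1), (734, 2), (734, 3), (706, 0), (706, 2), (751, 1), (751, 3), (682, 3), (735, 0), (672, 1), (522, 1), (522, 3), (848, 0), (848, 3), (519, 1), (725, 1), (725, 2), (725, 3), (633, 0), (633, 1), (633, 3), (532, 2), (634, 0), (634, 1), (634, 3), (933, 2), (695, 0), (695, 1), (695, 3), (276, 1), (276, 2), (750, 0), (750, 3), (752, 0), (275, 0), (275, 1), (275, 2), (729, 1), (30, 3), (712, 1), (592, 3), (667, 0), (530, 1), (530, 3), (362, 0), (362, 1), (615, 0), (615, 2), (205, 3), (796, 2), (796, 3), (808, 0), (808, 2), (778, 0), (778, 1), (1019, 0), (1019, 1), (552, 2), (939, 1), (746, 2), (562, 0), (562, 1), (562, 3), (405, 0), (267, 1), (708, 0), (708, 1), (579, 3), (639, 3), (758, 2), (464, 1), (300, 0), (300, 2), (430, 1), (290, 0), (290, 1), (290, 3), (425, 2), (347, 0), (347, 1), (885, 0), (949, 0), (949,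 2), (1018, 2), (836, 0), (836, 2), (862, 1), (1005, 0), (506, 2), (833, 2), (944, 1), (976, 1), (899, 0), (804, 2), (854, 3), (926, 1), (926, 3), (1001, 3), (777, 1), (375, 2), (666, 0), (652, 3), (917, 2), (887, 2), (656, 2), (305, 1), (767, 3), (792, 2), (613, 1), (503, 1), (503, 3), (367, 1), (379, 1), (363, 0), (363, 3), (289, 0), (289, 3), (1002, 2), (693, 2), (669, 0), (701, 0), (661, 2), (677, 2), (981, 3), (998, 3), (982, 0), (787, 3), (908, 0), (889, 3), (1013, 1), (785, 0), (785, 3), (871, 2), (671, 0), (703, 1), (897, 2), (316, 2), (964, 3), (742, 2), (603, 1), (409, 2), (757, 1), (328, 3)])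

/-- a level of the stabiliser chain. -/
def levelP2 : Level := (4, [[0], [2], [9,0,9,4,7,8,1,8]], [(4, 0), (4, 1), (4, 2), (180, 0), (180, 2), (92, 0), (92, 1), (92, 2), (64, 1), (64, 2), (100, 2), (84, 1), (84, 2), (164, 0), (164, 1), (164, 2), (168, 0), (168, 2), (452, 1), (452, 2), (236, 0), (236, 2), (792, 1), (792, 2), (124, 2), (12, 0), (12, 2), (324, 1), (324, 2), (248, 2), (252, 0), (252, 1), (252, 2), (584, 1), (584, 2), (148, 0), (148, 2), (648, 1), (648, 2), (708, 1), (864, 1), (864, 2), (116, 0), (116, 1), (116, 2), (464, 1), (464, 2), (280, 0), (280, 1), (280, 2), (416, 1), (416, 2), (736, 1), (736, 2), (108, 0), (192, 2), (688, 2), (588, 1), (588, 2), (908, 1), (908, 2), (232, 2), (972, 1), (972, 2), (840, 1), (432, 1), (432, 2), (128, 2), (880, 1), (880, 2), (976, 1), (900, 1), (900, 2), (312, 1), (312, 2), (768, 2), (152, 2), (216, 0), (608, 2), (548, 0), (548, 2), (316, 1), (580, 0), (580, 2), (536, 0), (672, 1), (672, 2), (796, 2), (844, 1), (844, 2), (824,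 1), (824, 2), (564, 1), (572, 1), (496, 1), (396, 1), (720, 1), (720, 2), (400, 1), (352, 1), (540, 0), (540, 2), (300, 1), (388, 1), (388, 2), (284, 2), (292, 2), (592, 2), (172, 1), (944, 2), (848, 1), (928, 2), (32, 1), (228, 1), (804, 1), (712, 2), (1008, 2), (212, 2), (16, 1)])

/-- a level of the stabiliser chain. -/
def levelP3 : Level := (16, [[1,1,2,0,0], [9,0,9,6,5,8,1,8,2,0], [3,9,0,9,4,7,8,1,8,2,9,0,9,4,7,8,1,8,2]], [(16, 0), (16, 1), (16, 2), (48, 0), (48, 1), (48, 2), (1008, 0), (1008, 1), (1008, 2), (416, 0), (416, 1), (32, 1), (32, 2), (672, 0), (672, 1), (672, 2), (848, 0), (848, 1), (480, 0), (480, 1), (512, 0), (512, 1), (512, 2), (928, 0), (928, 1), (656, 0), (976, 0), (336, 0), (752, 0), (752, 1), (912, 1), (256, 1), (592, 0), (720, 2), (464, 2)])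

/-- a level of the stabiliser chain. -/
def levelP4 : Level := (64, [[1,1,3,0,0,3,9,0,9,4,7,8,1,8,2,9,0,9,4,7,4,7,8,1,8,2,9,0,9,4,7,8,1,8,2], [3,9,0,9,4,7,8,1,8,2,9,0,9,4,7,4,7,8,1,8,2,9,0,9,4,7,8,1,8,2,1,1,2,2,0,0]], [(64, 0), (64, 1), (256, 1), (512, 0), (192, 0)])

/-- the stabiliser chain. -/
def levelPs : List Level := [levelP0, levelP1, levelP2, levelP3, levelP4]

set_option maxRecDepth 1000000 in
theorem chainQ_ok : chainOK tabP (2 * 5) 1365 [] levelQs = true :=
  chainOK_of_F (by decide +kernel)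

theorem chainQ_prod : chainProd levelQs = 9196830720 := by decide +kernel

set_option maxRecDepth 1000000 in
theorem chainP_ok : chainOK tabP2 (2 * 5) 1365 [] levelPs = true :=
  chainOK_of_F (by decide +kernel)

theorem chainP_prod : chainProd levelPs = 9196830720 := by decide +kernel

/-- a family of generators whose words act on a table generates the group, if a stabiliser chain of
the table has the order of the group. -/
theorem closure_of_chain (g : ℕ → GG) (T : ℕ → ℕ → ℕ)
    (hw : ∀ l : List ℕ, (∀ c ∈ l, c < 2 * 5) → ∀ v : Fin 1365,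
      (rho ((l.map (lval g)).prod) v).val = actL T l v.val)
    (levels : List Level) (hok : chainOK T (2 * 5) 1365 [] levels = true)
    (hprod : chainProd levels = 9196830720) :
    Subgroup.closure {y | ∃ i, i < 5 ∧ y = g i} = ⊤ := by
  classical
  set H : Subgroup GG := Subgroup.closure {y | ∃ i, i < 5 ∧ y = g i} with hH
  have hmem : ∀ l : List ℕ, (∀ c ∈ l, c < 2 * 5) → (l.map (lval g)).prod ∈ H := by
    intro l hl
    apply Subgroup.list_prod_mem
    intro y hy
    obtain ⟨c, hc, rfl⟩ := List.mem_map.mp hy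
    have hi : c / 2 < 5 := by have := hl c hc; omega
    unfold lval
    split_ifs
    · exact Subgroup.subset_closure ⟨c / 2, hi, rfl⟩
    · exact inv_mem (Subgroup.subset_closure ⟨c / 2, hi, rfl⟩)
  let e : List ℕ → H := fun l =>
    if h : ∀ c ∈ l, c < 2 * 5 then ⟨(l.map (lval g)).prod, hmem l h⟩ else 1
  have hA : ActsOn (rho.comp H.subtype) e (2 * 5) T := by
    constructor
    intro l hl v
    rw [MonoidHom.comp_apply]
    have he : ((e l : H) : GG) = (l.map (lval g)).prod := by
      simp only [e]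
      rw [dif_pos hl]
    show (rho ((e l : H) : GG) v).val = _
    rw [he]
    exact hw l hl v
  have h1 := card_ge_of_chain hA levels hok
  rw [hprod] at h1
  have h2 : Nat.card H ≤ Nat.card GG := Subgroup.card_le_card_group H
  exact Subgroup.eq_top_of_card_eq H (by rw [card_GG] at h2 ⊢; omega)

/-- the generators of the first family generate the group. -/
theorem g3_closure : Subgroup.closure {y | ∃ i, i < 5 ∧ y = g3 i} = ⊤ :=
  closure_of_chain g3 tabP (fun l hl v => rho_word3 l (fun c hc => by have := hl c hc; omega) v)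
    levelQs chainQ_ok chainQ_prod

/-- the generators of the second family generate the group. -/
theorem g2_closure : Subgroup.closure {y | ∃ i, i < 5 ∧ y = g2 i} = ⊤ :=
  closure_of_chain g2 tabP2 (fun l hl v => rho_word2 l (fun c hc => by have := hl c hc; omega) v)
    levelPs chainP_ok chainP_prod

end Cfsg.Agent.Helper3.U62X
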