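import Mathlib
import Cfsg.Agent.Helper3.U62XGen
import Cfsg.Agent.Helper3.U62PASum
import Cfsg.Agent.Helper3.U62PBSum
import Cfsg.Agent.Helper3.U62PCSum
import Cfsg.Agent.Helper3.U62PDSum
import Cfsg.Agent.Helper3.Tower64
import Cfsg.Agent.Helper5.LTCI

/-!
# The covering group of exponent 8 of `PSU₆(2)`: the order bound

Labelled Todd–Coxeter over the tower `⟨x⟩ < 3 × SL₂(3) < 2¹⁺⁶:3¹⁺²:2A₄ < U₅(2) < U₆(2)` (24, 1152,
165 and 672 cosets): the covering group has order at most `4 * 9196830720`.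
-/

set_option autoImplicit false

namespace Cfsg.Agent.Helper3.U62P

open Cfsg Cfsg.Agent.Helper3.U62X Cfsg.Agent.Helper5.StemP Cfsg.Agent.Helper5.LP Cfsg.Agent.Helper5.LTC
  Cfsg.Agent.Helper5.TC Cfsg.Agent.Helper5.TCI Cfsg.Agent.Helper3.Tower64 Cfsg.Agent.Helper3.LTC64
  Cfsg.Agent.Helper4.Tower

theorem RA_lt : ∀ r ∈ RA, ∀ c ∈ r, c < 2 * 2 := by decide

theorem RB_lt : ∀ r ∈ RB, ∀ c ∈ r, c < 2 * 3 := by decide

theorem RC_lt : ∀ r ∈ RC, ∀ c ∈ r, c < 2 * 4 := by decide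

theorem RD_lt : ∀ r ∈ RD, ∀ c ∈ r, c < 2 * 5 := by decide

theorem CA_lt : ∀ r ∈ CA, ∀ c ∈ r, c < 2 * 2 := by decide

theorem CB_lt : ∀ r ∈ CB, ∀ c ∈ r, c < 2 * 3 := by decide

theorem CCc_lt : ∀ r ∈ CCc, ∀ c ∈ r, c < 2 * 4 := by decide

/-! ### stage A -/

theorem words_lt_A : ∀ wi, ∀ c ∈ U62PA.cert.W wi, c < 2 * 2 := by
  intro wi c hc
  have h : ∀ w ∈ U62PA.words, ∀ c ∈ w, c < 4 := by decide +kernel
  change c ∈ U62PA.words.getD wi [] at hc
  by_cases hwi : wi < U62PA.words.length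
  · rw [List.getD_eq_getElem _ _ hwi] at hc
    exact h _ (List.getElem_mem hwi) c hc
  · rw [List.getD_eq_default _ _ (by omega)] at hc
    simp at hc

set_option maxRecDepth 1000000 in
theorem wordOK_A : ∀ wi, wi < U62PA.cert.nrel →
    wordOK3 (coverRels 2 mm (RA ++ []) (RA ++ []) 8) (RA ++ []) RA.length
      (U62PA.cert.W wi) (U62PA.cert.δ wi) (U62PA.origs.getD wi 0) = true := by decide +kernel

theorem subW_A : ∀ wi, U62PA.cert.nrel ≤ wi → wi < U62PA.cert.nw →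
    ∃ c, c < 2 * 1 ∧ U62PA.cert.W wi = [c] := by
  intro wi h1 h2
  have h1' : 56 ≤ wi := h1
  have h2' : wi < 57 := h2
  interval_cases wi
  · exact ⟨0, by norm_num, by decide +kernel⟩

theorem card_A : Finite (CovG 2 mm CA CA 8) ∧ Nat.card (CovG 2 mm CA CA 8) ≤ 72 := by
  have h := step64 1 2 mm [] RA 8 (by norm_num) (by simp) RA_lt (by norm_num) (by decide) 3 (base mm 8 (by decide))
    U62PA.cert rfl rfl rfl words_lt_A (fun wi => U62PA.origs.getD wi 0) wordOK_A subW_A U62PA.hchk U62PA.tab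
    (by decide +kernel) (by decide) U62PA.hT U62PA.js U62PA.hjs 0 1 (by norm_num) (by norm_num) U62PA.cs0 U62PA.h0
    (fun i => U62PA.as_.getD i 0) (fun i => U62PA.css.getD i []) U62PA.hgs
  have hN : U62PA.tab.N = 24 := rfl
  rw [hN] at h
  refine ⟨h.1, h.2.trans ?_⟩
  norm_num

/-! ### stage B -/

theorem words_lt_B : ∀ wi, ∀ c ∈ U62PB.cert.W wi, c < 2 * 3 := by
  intro wi c hc
  have h : ∀ w ∈ U62PB.words, ∀ c ∈ w, c < 6 := by decide +kernel
  change c ∈ U62PB.words.getD wi [] at hc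
  by_cases hwi : wi < U62PB.words.length
  · rw [List.getD_eq_getElem _ _ hwi] at hc
    exact h _ (List.getElem_mem hwi) c hc
  · rw [List.getD_eq_default _ _ (by omega)] at hc
    simp at hc

set_option maxRecDepth 1000000 in
theorem wordOK_B : ∀ wi, wi < U62PB.cert.nrel →
    wordOK3 (coverRels 3 mm (RB ++ CA) (RB ++ CA) 8) (RB ++ CA) RB.length
      (U62PB.cert.W wi) (U62PB.cert.δ wi) (U62PB.origs.getD wi 0) = true := by decide +kernel

theorem subW_B : ∀ wi, U62PB.cert.nrel ≤ wi → wi < U62PB.cert.nw →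
    ∃ c, c < 2 * 2 ∧ U62PB.cert.W wi = [c] := by
  intro wi h1 h2
  have h1' : 119 ≤ wi := h1
  have h2' : wi < 121 := h2
  interval_cases wi
  · exact ⟨0, by norm_num, by decide +kernel⟩
  · exact ⟨2, by norm_num, by decide +kernel⟩

theorem card_B : Finite (CovG 3 mm CB CB 8) ∧ Nat.card (CovG 3 mm CB CB 8) ≤ 82944 := by
  have h := step64 2 3 mm CA RB 8 (by norm_num) CA_lt RB_lt (by norm_num) (by decide) 72 card_A
    U62PB.cert rfl rfl rfl words_lt_B (fun wi => U62PB.origs.getD wi 0) wordOK_B subW_B U62PB.hchk U62PB.tab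
    (by decide +kernel) (by decide) U62PB.hT U62PB.js U62PB.hjs 0 1 (by norm_num) (by norm_num) U62PB.cs0 U62PB.h0
    (fun i => U62PB.as_.getD i 0) (fun i => U62PB.css.getD i []) U62PB.hgs
  have hN : U62PB.tab.N = 1152 := rfl
  rw [hN] at h
  refine ⟨h.1, h.2.trans ?_⟩
  norm_num

/-! ### stage C -/

theorem words_lt_C : ∀ wi, ∀ c ∈ U62PC.cert.W wi, c < 2 * 4 := by
  intro wi c hc
  have h : ∀ w ∈ U62PC.words, ∀ c ∈ w, c < 8 := by decide +kernel
  change c ∈ U62PC.words.getD wi [] at hc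
  by_cases hwi : wi < U62PC.words.length
  · rw [List.getD_eq_getElem _ _ hwi] at hc
    exact h _ (List.getElem_mem hwi) c hc
  · rw [List.getD_eq_default _ _ (by omega)] at hc
    simp at hc

set_option maxRecDepth 1000000 in
theorem wordOK_C : ∀ wi, wi < U62PC.cert.nrel →
    wordOK3 (coverRels 4 mm (RC ++ CB) (RC ++ CB) 8) (RC ++ CB) RC.length
      (U62PC.cert.W wi) (U62PC.cert.δ wi) (U62PC.origs.getD wi 0) = true := by decide +kernel

theorem subW_C : ∀ wi, U62PC.cert.nrel ≤ wi → wi < U62PC.cert.nw →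
    ∃ c, c < 2 * 3 ∧ U62PC.cert.W wi = [c] := by
  intro wi h1 h2
  have h1' : 190 ≤ wi := h1
  have h2' : wi < 193 := h2
  interval_cases wi
  · exact ⟨0, by norm_num, by decide +kernel⟩
  · exact ⟨2, by norm_num, by decide +kernel⟩
  · exact ⟨4, by norm_num, by decide +kernel⟩

theorem card_C : Finite (CovG 4 mm CCc CCc 8) ∧ Nat.card (CovG 4 mm CCc CCc 8) ≤ 13685760 := by
  have h := step64 3 4 mm CB RC 8 (by norm_num) CB_lt RC_lt (by norm_num) (by decide) 82944 card_B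
    U62PC.cert rfl rfl rfl words_lt_C (fun wi => U62PC.origs.getD wi 0) wordOK_C subW_C U62PC.hchk U62PC.tab
    (by decide +kernel) (by decide) U62PC.hT U62PC.js U62PC.hjs 0 1 (by norm_num) (by norm_num) U62PC.cs0 U62PC.h0
    (fun i => U62PC.as_.getD i 0) (fun i => U62PC.css.getD i []) U62PC.hgs
  have hN : U62PC.tab.N = 165 := rfl
  rw [hN] at h
  refine ⟨h.1, h.2.trans ?_⟩
  norm_num

/-! ### stage D -/

theorem words_lt_D : ∀ wi, ∀ c ∈ U62PD.cert.W wi, c < 2 * 5 := by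
  intro wi c hc
  have h : ∀ w ∈ U62PD.words, ∀ c ∈ w, c < 10 := by decide +kernel
  change c ∈ U62PD.words.getD wi [] at hc
  by_cases hwi : wi < U62PD.words.length
  · rw [List.getD_eq_getElem _ _ hwi] at hc
    exact h _ (List.getElem_mem hwi) c hc
  · rw [List.getD_eq_default _ _ (by omega)] at hc
    simp at hc

set_option maxRecDepth 1000000 in
theorem wordOK_D : ∀ wi, wi < U62PD.cert.nrel →
    wordOK3 (coverRels 5 mm (RD ++ CCc) (RD ++ CCc) 8) (RD ++ CCc) RD.length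
      (U62PD.cert.W wi) (U62PD.cert.δ wi) (U62PD.origs.getD wi 0) = true := by decide +kernel

theorem subW_D : ∀ wi, U62PD.cert.nrel ≤ wi → wi < U62PD.cert.nw →
    ∃ c, c < 2 * 4 ∧ U62PD.cert.W wi = [c] := by
  intro wi h1 h2
  have h1' : 304 ≤ wi := h1
  have h2' : wi < 308 := h2
  interval_cases wi
  · exact ⟨0, by norm_num, by decide +kernel⟩
  · exact ⟨2, by norm_num, by decide +kernel⟩
  · exact ⟨4, by norm_num, by decide +kernel⟩
  · exact ⟨6, by norm_num, by decide +kernel⟩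

theorem card_D : Finite (CovG 5 mm CC CC 8) ∧ Nat.card (CovG 5 mm CC CC 8) ≤ 9196830720 * 4 := by
  have h := step64_two 4 5 mm CCc RD 8 (by norm_num) CCc_lt RD_lt (by norm_num) (by decide) 13685760 card_C
    U62PD.cert rfl rfl rfl words_lt_D (fun wi => U62PD.origs.getD wi 0) wordOK_D subW_D U62PD.hchk U62PD.tab
    (by decide +kernel) (by decide) U62PD.hT U62PD.js U62PD.hjs 0 2 6 2 (by norm_num) (by norm_num) (by norm_num)
    (by norm_num) U62PD.cs0 U62PD.cs1 U62PD.h0 U62PD.h1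
    (fun i => U62PD.as_.getD i 0) (fun i => U62PD.bs_.getD i 0) (fun i => U62PD.css.getD i []) U62PD.hgs
  have hN : U62PD.tab.N = 672 := rfl
  rw [hN] at h
  refine ⟨h.1, h.2.trans ?_⟩
  norm_num

/-! ### the covering homomorphism -/

theorem CC2_lt : ∀ r ∈ CC ++ CC, ∀ c ∈ r, c < 2 * 5 := by
  intro r hr
  rcases List.mem_append.mp hr with h | h <;> exact CC_lt2 r h

theorem CC2_rel : ∀ r ∈ CC ++ CC, (r.map (lval g2)).prod = 1 := by
  intro r hr
  rcases List.mem_append.mp hr with h | h <;> exact CC_rel2 r h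

/-- the covering homomorphism. -/
noncomputable def piF : CovG 5 mm CC CC 8 →* GG :=
  coverHomU 5 mm CC CC 8 CC2_lt g2 g_pow2 CC2_rel

theorem piF_surj : Function.Surjective piF :=
  coverHomU_surjective 5 mm CC CC 8 CC2_lt g2 g_pow2 CC2_rel g2_closure

theorem piF_ev (l : List ℕ) (hl : ∀ c ∈ l, c < 2 * 5) :
    piF (ev (2 * 5) (coverRels 5 mm CC CC 8) l) = (l.map (lval g2)).prod :=
  coverHomU_ev 5 mm CC CC 8 CC2_lt g2 g_pow2 CC2_rel l hl

theorem card_le_F : Finite (CovG 5 mm CC CC 8) ∧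
    Nat.card (CovG 5 mm CC CC 8) ≤ 9196830720 * 4 := card_D

instance fin_F : Finite (CovG 5 mm CC CC 8) := card_le_F.1

end Cfsg.Agent.Helper3.U62P
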