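import Mathlib
import Cfsg.Agent.Helper3.U62XGen
import Cfsg.Agent.Helper3.U62QASum
import Cfsg.Agent.Helper3.U62QBSum
import Cfsg.Agent.Helper3.U62QCSum
import Cfsg.Agent.Helper3.U62QDSum
import Cfsg.Agent.Helper3.Tower64
import Cfsg.Agent.Helper5.LTCI

/-!
# The covering group of exponent 9 of `PSU₆(2)`: the order bound

Labelled Todd–Coxeter over the tower `⟨a₁⟩ < 2⁴:A₅ < U₄(2) < U₅(2) < U₆(2)` (192, 27, 528 and
672 cosets): the covering group has order at most `3 * 9196830720`.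
-/

set_option autoImplicit false

namespace Cfsg.Agent.Helper3.U62Q

open Cfsg Cfsg.Agent.Helper3.U62X Cfsg.Agent.Helper5.StemP Cfsg.Agent.Helper5.LP Cfsg.Agent.Helper5.LTC
  Cfsg.Agent.Helper5.TC Cfsg.Agent.Helper5.TCI Cfsg.Agent.Helper3.Tower64 Cfsg.Agent.Helper3.LTC64
  Cfsg.Agent.Helper4.Tower

theorem RA_lt : ∀ r ∈ RA, ∀ c ∈ r, c < 2 * 2 := by decide

theorem RB_lt : ∀ r ∈ RB, ∀ c ∈ r, c < 2 * 3 := by decide

theorem RC_lt : ∀ r ∈ RC, ∀ c ∈ r, c < 2 * 4 := by decide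

theorem RD_lt : ∀ r ∈ RD, ∀ c ∈ r, c < 2 * 5 := by decide

theorem CA_lt : ∀ r ∈ CA, ∀ c ∈ r, c < 2 * 2 := by decide

theorem CB_lt : ∀ r ∈ CB, ∀ c ∈ r, c < 2 * 3 := by decide

theorem CCc_lt : ∀ r ∈ CCc, ∀ c ∈ r, c < 2 * 4 := by decide

/-! ### stage A -/

theorem words_lt_A : ∀ wi, ∀ c ∈ U62QA.cert.W wi, c < 2 * 2 := by
  intro wi c hc
  have h : ∀ w ∈ U62QA.words, ∀ c ∈ w, c < 4 := by decide +kernel
  change c ∈ U62QA.words.getD wi [] at hc
  by_cases hwi : wi < U62QA.words.length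
  · rw [List.getD_eq_getElem _ _ hwi] at hc
    exact h _ (List.getElem_mem hwi) c hc
  · rw [List.getD_eq_default _ _ (by omega)] at hc
    simp at hc

set_option maxRecDepth 1000000 in
theorem wordOK_A : ∀ wi, wi < U62QA.cert.nrel →
    wordOK3 (coverRels 2 mm (RA ++ []) (RA ++ []) 9) (RA ++ []) RA.length
      (U62QA.cert.W wi) (U62QA.cert.δ wi) (U62QA.origs.getD wi 0) = true := by decide +kernel

theorem subW_A : ∀ wi, U62QA.cert.nrel ≤ wi → wi < U62QA.cert.nw →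
    ∃ c, c < 2 * 1 ∧ U62QA.cert.W wi = [c] := by
  intro wi h1 h2
  have h1' : 48 ≤ wi := h1
  have h2' : wi < 49 := h2
  interval_cases wi
  · exact ⟨0, by norm_num, by decide +kernel⟩

theorem card_A : Finite (CovG 2 mm CA CA 9) ∧ Nat.card (CovG 2 mm CA CA 9) ≤ 960 := by
  have h := step64 1 2 mm [] RA 9 (by norm_num) (by simp) RA_lt (by norm_num) (by decide) 5 (base mm 9 (by decide))
    U62QA.cert rfl rfl rfl words_lt_A (fun wi => U62QA.origs.getD wi 0) wordOK_A subW_A U62QA.hchk U62QA.tab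
    (by decide +kernel) (by decide) U62QA.hT U62QA.js U62QA.hjs 0 1 (by norm_num) (by norm_num) U62QA.cs0 U62QA.h0
    (fun i => U62QA.as_.getD i 0) (fun i => U62QA.css.getD i []) U62QA.hgs
  have hN : U62QA.tab.N = 192 := rfl
  rw [hN] at h
  refine ⟨h.1, h.2.trans ?_⟩
  norm_num

/-! ### stage B -/

theorem words_lt_B : ∀ wi, ∀ c ∈ U62QB.cert.W wi, c < 2 * 3 := by
  intro wi c hc
  have h : ∀ w ∈ U62QB.words, ∀ c ∈ w, c < 6 := by decide +kernel
  change c ∈ U62QB.words.getD wi [] at hc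
  by_cases hwi : wi < U62QB.words.length
  · rw [List.getD_eq_getElem _ _ hwi] at hc
    exact h _ (List.getElem_mem hwi) c hc
  · rw [List.getD_eq_default _ _ (by omega)] at hc
    simp at hc

set_option maxRecDepth 1000000 in
theorem wordOK_B : ∀ wi, wi < U62QB.cert.nrel →
    wordOK3 (coverRels 3 mm (RB ++ CA) (RB ++ CA) 9) (RB ++ CA) RB.length
      (U62QB.cert.W wi) (U62QB.cert.δ wi) (U62QB.origs.getD wi 0) = true := by decide +kernel

theorem subW_B : ∀ wi, U62QB.cert.nrel ≤ wi → wi < U62QB.cert.nw →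
    ∃ c, c < 2 * 2 ∧ U62QB.cert.W wi = [c] := by
  intro wi h1 h2
  have h1' : 87 ≤ wi := h1
  have h2' : wi < 89 := h2
  interval_cases wi
  · exact ⟨0, by norm_num, by decide +kernel⟩
  · exact ⟨2, by norm_num, by decide +kernel⟩

theorem card_B : Finite (CovG 3 mm CB CB 9) ∧ Nat.card (CovG 3 mm CB CB 9) ≤ 25920 := by
  have h := step64 2 3 mm CA RB 9 (by norm_num) CA_lt RB_lt (by norm_num) (by decide) 960 card_A
    U62QB.cert rfl rfl rfl words_lt_B (fun wi => U62QB.origs.getD wi 0) wordOK_B subW_B U62QB.hchk U62QB.tab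
    (by decide +kernel) (by decide) U62QB.hT U62QB.js U62QB.hjs 0 1 (by norm_num) (by norm_num) U62QB.cs0 U62QB.h0
    (fun i => U62QB.as_.getD i 0) (fun i => U62QB.css.getD i []) U62QB.hgs
  have hN : U62QB.tab.N = 27 := rfl
  rw [hN] at h
  refine ⟨h.1, h.2.trans ?_⟩
  norm_num

/-! ### stage C -/

theorem words_lt_C : ∀ wi, ∀ c ∈ U62QC.cert.W wi, c < 2 * 4 := by
  intro wi c hc
  have h : ∀ w ∈ U62QC.words, ∀ c ∈ w, c < 8 := by decide +kernel
  change c ∈ U62QC.words.getD wi [] at hc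
  by_cases hwi : wi < U62QC.words.length
  · rw [List.getD_eq_getElem _ _ hwi] at hc
    exact h _ (List.getElem_mem hwi) c hc
  · rw [List.getD_eq_default _ _ (by omega)] at hc
    simp at hc

set_option maxRecDepth 1000000 in
theorem wordOK_C : ∀ wi, wi < U62QC.cert.nrel →
    wordOK3 (coverRels 4 mm (RC ++ CB) (RC ++ CB) 9) (RC ++ CB) RC.length
      (U62QC.cert.W wi) (U62QC.cert.δ wi) (U62QC.origs.getD wi 0) = true := by decide +kernel

theorem subW_C : ∀ wi, U62QC.cert.nrel ≤ wi → wi < U62QC.cert.nw →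
    ∃ c, c < 2 * 3 ∧ U62QC.cert.W wi = [c] := by
  intro wi h1 h2
  have h1' : 186 ≤ wi := h1
  have h2' : wi < 189 := h2
  interval_cases wi
  · exact ⟨0, by norm_num, by decide +kernel⟩
  · exact ⟨2, by norm_num, by decide +kernel⟩
  · exact ⟨4, by norm_num, by decide +kernel⟩

theorem card_C : Finite (CovG 4 mm CCc CCc 9) ∧ Nat.card (CovG 4 mm CCc CCc 9) ≤ 13685760 := by
  have h := step64 3 4 mm CB RC 9 (by norm_num) CB_lt RC_lt (by norm_num) (by decide) 25920 card_B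
    U62QC.cert rfl rfl rfl words_lt_C (fun wi => U62QC.origs.getD wi 0) wordOK_C subW_C U62QC.hchk U62QC.tab
    (by decide +kernel) (by decide) U62QC.hT U62QC.js U62QC.hjs 0 1 (by norm_num) (by norm_num) U62QC.cs0 U62QC.h0
    (fun i => U62QC.as_.getD i 0) (fun i => U62QC.css.getD i []) U62QC.hgs
  have hN : U62QC.tab.N = 528 := rfl
  rw [hN] at h
  refine ⟨h.1, h.2.trans ?_⟩
  norm_num

/-! ### stage D -/

theorem words_lt_D : ∀ wi, ∀ c ∈ U62QD.cert.W wi, c < 2 * 5 := by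
  intro wi c hc
  have h : ∀ w ∈ U62QD.words, ∀ c ∈ w, c < 10 := by decide +kernel
  change c ∈ U62QD.words.getD wi [] at hc
  by_cases hwi : wi < U62QD.words.length
  · rw [List.getD_eq_getElem _ _ hwi] at hc
    exact h _ (List.getElem_mem hwi) c hc
  · rw [List.getD_eq_default _ _ (by omega)] at hc
    simp at hc

set_option maxRecDepth 1000000 in
theorem wordOK_D : ∀ wi, wi < U62QD.cert.nrel →
    wordOK3 (coverRels 5 mm (RD ++ CCc) (RD ++ CCc) 9) (RD ++ CCc) RD.length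
      (U62QD.cert.W wi) (U62QD.cert.δ wi) (U62QD.origs.getD wi 0) = true := by decide +kernel

theorem subW_D : ∀ wi, U62QD.cert.nrel ≤ wi → wi < U62QD.cert.nw →
    ∃ c, c < 2 * 4 ∧ U62QD.cert.W wi = [c] := by
  intro wi h1 h2
  have h1' : 250 ≤ wi := h1
  have h2' : wi < 254 := h2
  interval_cases wi
  · exact ⟨0, by norm_num, by decide +kernel⟩
  · exact ⟨2, by norm_num, by decide +kernel⟩
  · exact ⟨4, by norm_num, by decide +kernel⟩
  · exact ⟨6, by norm_num, by decide +kernel⟩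

theorem card_D : Finite (CovG 5 mm CC CC 9) ∧ Nat.card (CovG 5 mm CC CC 9) ≤ 9196830720 * 3 := by
  have h := step64 4 5 mm CCc RD 9 (by norm_num) CCc_lt RD_lt (by norm_num) (by decide) 13685760 card_C
    U62QD.cert rfl rfl rfl words_lt_D (fun wi => U62QD.origs.getD wi 0) wordOK_D subW_D U62QD.hchk U62QD.tab
    (by decide +kernel) (by decide) U62QD.hT U62QD.js U62QD.hjs 6 3 (by norm_num) (by norm_num) U62QD.cs0 U62QD.h0
    (fun i => U62QD.as_.getD i 0) (fun i => U62QD.css.getD i []) U62QD.hgs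
  have hN : U62QD.tab.N = 672 := rfl
  rw [hN] at h
  refine ⟨h.1, h.2.trans ?_⟩
  norm_num

/-! ### the covering homomorphism -/

theorem CC2_lt : ∀ r ∈ CC ++ CC, ∀ c ∈ r, c < 2 * 5 := by
  intro r hr
  rcases List.mem_append.mp hr with h | h <;> exact CC_lt3 r h

theorem CC2_rel : ∀ r ∈ CC ++ CC, (r.map (lval g3)).prod = 1 := by
  intro r hr
  rcases List.mem_append.mp hr with h | h <;> exact CC_rel3 r h

/-- the covering homomorphism. -/
noncomputable def piF : CovG 5 mm CC CC 9 →* GG :=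
  coverHomU 5 mm CC CC 9 CC2_lt g3 g_pow3 CC2_rel

theorem piF_surj : Function.Surjective piF :=
  coverHomU_surjective 5 mm CC CC 9 CC2_lt g3 g_pow3 CC2_rel g3_closure

theorem piF_ev (l : List ℕ) (hl : ∀ c ∈ l, c < 2 * 5) :
    piF (ev (2 * 5) (coverRels 5 mm CC CC 9) l) = (l.map (lval g3)).prod :=
  coverHomU_ev 5 mm CC CC 9 CC2_lt g3 g_pow3 CC2_rel l hl

theorem card_le_F : Finite (CovG 5 mm CC CC 9) ∧
    Nat.card (CovG 5 mm CC CC 9) ≤ 9196830720 * 3 := card_D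

instance fin_F : Finite (CovG 5 mm CC CC 9) := card_le_F.1

end Cfsg.Agent.Helper3.U62Q
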