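import Cfsg.Agent.Helper3.U62QMCk0

/-! generated permutation model of a central extension, summary: U62QM -/

set_option autoImplicit false
set_option maxRecDepth 1000000

namespace Cfsg.Agent.Helper3.U62QM
open Cfsg.Agent.Helper5.LP Cfsg.Agent.Helper5.LTC Cfsg.Agent.Helper5.StemP Cfsg.Agent.Helper3.CovModel

theorem tok_0 : ∀ x, x < 10 → ∀ v, v < 0 → mT x v < 2016 ∧ mT (linv x) (mT x v) = v :=
  fun x _ v hv => absurd hv (by omega)

theorem pf_0 : ∀ l ∈ powRels 5 Cfsg.Agent.Helper3.U62Q.mm, ∀ v, v < 0 → actL mT l v = v :=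
  fun l _ v hv => absurd hv (by omega)

theorem sf_0 : ∀ p ∈ LL, ∀ v, v < 0 → actL mT p.1 v = shK 672 3 p.2 v :=
  fun p _ v hv => absurd hv (by omega)

theorem tok_1 : ∀ x, x < 10 → ∀ v, v < 672 → mT x v < 2016 ∧ mT (linv x) (mT x v) = v :=
  tableOKI_step mT 2016 10 tok_0 672 inv_0

theorem pf_1 : ∀ l ∈ powRels 5 Cfsg.Agent.Helper3.U62Q.mm, ∀ v, v < 672 → actL mT l v = v :=
  relsFix_step mT _ pf_0 672 pw_0

theorem sf_1 : ∀ p ∈ LL, ∀ v, v < 672 → actL mT p.1 v = shK 672 3 p.2 v :=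
  sh_step mT 672 3 LL sf_0 672 sh_0

theorem mT_shift : ShiftEquivariant mT 672 3 := shiftEquivariant_covTK tAll (by norm_num) 3

theorem tableOK : TableOKI (2 * 5) (672 * 3) linv mT :=
  tableOKI_of_base mT_shift (by norm_num) (by norm_num) (2 * 5) fun x hx v hv => (tok_1 x hx v hv).2

theorem relsFix : RelsFix (coverRels 5 Cfsg.Agent.Helper3.U62Q.mm Cfsg.Agent.Helper3.U62Q.CC Cfsg.Agent.Helper3.U62Q.CC 9) (672 * 3) mT := by
  have h := relsFix_coverRels_of_base mT_shift (by norm_num) (by norm_num) 5 Cfsg.Agent.Helper3.U62Q.mm LL Cfsg.Agent.Helper3.U62Q.CC 9 tableOK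
    (fun i hi v hv => pf_1 _ (mem_powRels _ hi) v hv) sf_1 (by decide) (by decide)
  rwa [LL_fst] at h

end Cfsg.Agent.Helper3.U62QM
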