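import Mathlib
import Cfsg.Agent.Helper3.U62CovQ
import Cfsg.Agent.Helper3.U62CovP
import Cfsg.Agent.Helper3.U62QMSum
import Cfsg.Agent.Helper3.U62PM0Sum
import Cfsg.Agent.Helper3.U62PM1Sum
import Cfsg.Agent.Helper3.StemCC
import Cfsg.Agent.Helper5.LTCM
import Cfsg.Agent.Helper5.LPE
import Cfsg.Agent.Helper5.StemPL
import Cfsg.Agent.Helper5.StemPH
import Cfsg.Agent.Helper5.StemPI
import Cfsg.Agent.Helper5.StemPK

/-!
# The Schur multiplier of `PSU₆(2)` is `C₃ × C₂ × C₂`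

The covering group of exponent 9 of a presentation on four generators of order 5 and one of order 2
is a threefold cover, the covering group of exponent 8 of a presentation on five generators of
order 3 is a fourfold cover with kernel `C₂ × C₂`; Sylow 5-, 7- and 11-subgroups are cyclic.
-/

set_option autoImplicit false

namespace Cfsg.Agent.Helper3.U62

open Cfsg Cfsg.Agent.Helper3.U62X Cfsg.Agent.Helper5 Cfsg.Agent.Helper5.StemP Cfsg.Agent.Helper5.LP
  Cfsg.Agent.Helper5.LTC Cfsg.Agent.Helper5.TC Cfsg.Agent.Helper5.TCI Cfsg.Agent.Helper3.SchurMult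

/-! ### the covering group of exponent 9 is a threefold cover -/

section three
open Cfsg.Agent.Helper3.U62Q

/-- the word of the central element of order 3. -/
def w0 : List ℕ := [0, 5, 7, 8, 4, 6, 8, 0, 5, 8, 7, 4, 8, 6]

theorem w0_mem : w0 ∈ CC := by decide

theorem w0_lt : ∀ c ∈ w0, c < 2 * 5 := CC_lt3 w0 w0_mem

theorem letters_Q : LettersLt (2 * 5) (coverRels 5 mm CC CC 9) :=
  coverRels_lt 5 mm CC CC 9 CC2_lt

theorem relsFix_Q : RelsFix (coverRels 5 mm CC CC 9) 2016 U62QM.mT := U62QM.relsFix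

theorem tableOK_Q : TableOKI (2 * 5) 2016 linv U62QM.mT := U62QM.tableOK

set_option maxRecDepth 1000000 in
theorem move_Q : actL U62QM.mT w0 0 ≠ 0 := by decide +kernel

/-- the central element of order 3. -/
noncomputable def z0 : CovG 5 mm CC CC 9 := ev (2 * 5) (coverRels 5 mm CC CC 9) w0

theorem z0_ne : z0 ^ 3 ^ (1 - 1) ≠ 1 := by
  have hA := actsOn_tableHomI LTC.linv_linv (fun x hx => linv_lt hx) letters_Q tableOK_Q
    relsFix_Q
  have e1 : 3 ^ (1 - 1) = 1 := by norm_num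
  unfold z0
  rw [e1, pow_one]
  exact ne_one_of_move hA _ w0_lt 0 (by norm_num) move_Q

theorem z0_center : z0 ∈ Subgroup.center (CovG 5 mm CC CC 9) :=
  cover_center 5 mm CC CC 9 w0_mem w0_lt

theorem z0_ker : z0 ∈ piF.ker :=
  coverHomU_ker 5 mm CC CC 9 CC2_lt g3 g_pow3 CC2_rel w0_mem

theorem z0_pow : z0 ^ 3 ^ 2 = 1 := by
  unfold z0
  rw [show (3 : ℕ) ^ 2 = 9 from rfl, ev_pow]
  exact ev_rel (mem_coverRels_T 5 mm CC CC 9 w0_mem)

theorem cgenQ_pow10 : ∀ x ∈ {x : CovG 5 mm CC CC 9 | ∃ i, i < 5 ∧ x = cgen 5 mm CC CC 9 i},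
    x ^ 10 = 1 := by
  rintro x ⟨i, hi, rfl⟩
  have h := cgen_pow 5 mm CC CC 9 hi
  have hd : mm i ∣ 10 := by
    interval_cases i <;> decide
  obtain ⟨c, hc⟩ := hd
  rw [hc, pow_mul, h, one_pow]

theorem stem_Q : (Cfsg.IsStemExtension piF ∧
    Nonempty (piF.ker ≃* Multiplicative (ZMod (3 ^ 1)))) ∧
    Nat.card (CovG 5 mm CC CC 9) = Nat.card GG * 3 ^ 1 :=
  stem_cyclic_le piF piF_surj 3 1 2 Nat.prime_three (by norm_num)
    (by rw [card_GG]; exact card_le_F.2)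
    z0 z0_center z0_ker z0_pow z0_ne
    _ (closure_cgen 5 mm CC CC 9) 10 cgenQ_pow10 (by decide)

theorem card_Q : Nat.card (CovG 5 mm CC CC 9) = Nat.card GG * 3 := stem_Q.2

end three

/-! ### the covering group of exponent 8 is a fourfold cover with kernel `C₂ × C₂` -/

section two
open Cfsg.Agent.Helper3.U62P

/-- the word of the first central element. -/
def w1 : List ℕ := [0, 3, 9, 1, 4, 9, 3, 5, 9, 5, 2, 8, 7, 5]

/-- the word of the second central element. -/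
def w2 : List ℕ := [0, 2, 8, 1, 5, 5, 9, 3, 8, 5, 2, 8, 6, 5]

theorem w1_mem : w1 ∈ CC := by decide

theorem w2_mem : w2 ∈ CC := by decide

theorem w1_lt : ∀ c ∈ w1, c < 2 * 5 := CC_lt2 w1 w1_mem

theorem w2_lt : ∀ c ∈ w2, c < 2 * 5 := CC_lt2 w2 w2_mem

theorem letters_P : LettersLt (2 * 5) (coverRels 5 mm CC CC 8) :=
  coverRels_lt 5 mm CC CC 8 CC2_lt

theorem relsFix_1 : RelsFix (coverRels 5 mm CC CC 8) 1344 U62PM0.mT := U62PM0.relsFix

theorem tableOK_1 : TableOKI (2 * 5) 1344 linv U62PM0.mT := U62PM0.tableOK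

theorem relsFix_2 : RelsFix (coverRels 5 mm CC CC 8) 1344 U62PM1.mT := U62PM1.relsFix

theorem tableOK_2 : TableOKI (2 * 5) 1344 linv U62PM1.mT := U62PM1.tableOK

/-- the word of `z₁ ^ a z₂ ^ b`. -/
def zw (a b : ℕ) : List ℕ := (List.replicate a w1).flatten ++ (List.replicate b w2).flatten

theorem ev_zw (a b : ℕ) : ev (2 * 5) (coverRels 5 mm CC CC 8) (zw a b) =
    ev (2 * 5) (coverRels 5 mm CC CC 8) w1 ^ a *
      ev (2 * 5) (coverRels 5 mm CC CC 8) w2 ^ b := by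
  unfold zw
  rw [ev_append, ← ev_pow, ← ev_pow]

theorem zw_lt (a b : ℕ) : ∀ c ∈ zw a b, c < 2 * 5 := by
  intro c hc
  unfold zw at hc
  rcases List.mem_append.mp hc with h | h
  · obtain ⟨l, hl, hcl⟩ := List.mem_flatten.mp h
    rw [List.eq_of_mem_replicate hl] at hcl
    exact w1_lt c hcl
  · obtain ⟨l, hl, hcl⟩ := List.mem_flatten.mp h
    rw [List.eq_of_mem_replicate hl] at hcl
    exact w2_lt c hcl

set_option synthInstance.maxSize 2048 in
set_option synthInstance.maxHeartbeats 200000 in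
set_option maxRecDepth 1000000 in
theorem tabInj : ∀ a, a < 2 → ∀ b, b < 2 → ∀ a', a' < 2 → ∀ b', b' < 2 →
    Nat.pair (actL U62PM0.mT (zw a b) 0) (actL U62PM1.mT (zw a b) 0) =
      Nat.pair (actL U62PM0.mT (zw a' b') 0) (actL U62PM1.mT (zw a' b') 0) →
    a = a' ∧ b = b' := by
  decide +kernel

set_option maxRecDepth 1000000 in
theorem tab21 : Nat.pair (actL U62PM0.mT (zw 2 0) 0) (actL U62PM1.mT (zw 2 0) 0) =
    Nat.pair 0 0 := by decide +kernel

set_option maxRecDepth 1000000 in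
theorem tab22 : Nat.pair (actL U62PM0.mT (zw 0 2) 0) (actL U62PM1.mT (zw 0 2) 0) =
    Nat.pair 0 0 := by decide +kernel

/-- the point function. -/
noncomputable def ptP (x : CovG 5 mm CC CC 8) : ℕ :=
  Nat.pair
    ((tableHomI LTC.linv_linv (fun x hx => linv_lt hx) letters_P tableOK_1 relsFix_1 x)
      ⟨0, by norm_num⟩).val
    ((tableHomI LTC.linv_linv (fun x hx => linv_lt hx) letters_P tableOK_2 relsFix_2 x)
      ⟨0, by norm_num⟩).val

theorem ptP_ev (l : List ℕ) (hl : ∀ c ∈ l, c < 2 * 5) :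
    ptP (ev (2 * 5) (coverRels 5 mm CC CC 8) l) =
      Nat.pair (actL U62PM0.mT l 0) (actL U62PM1.mT l 0) := by
  unfold ptP
  rw [(actsOn_tableHomI LTC.linv_linv (fun x hx => linv_lt hx) letters_P tableOK_1
      relsFix_1).act l hl ⟨0, by norm_num⟩,
    (actsOn_tableHomI LTC.linv_linv (fun x hx => linv_lt hx) letters_P tableOK_2
      relsFix_2).act l hl ⟨0, by norm_num⟩]

theorem ptP_one : ptP 1 = Nat.pair 0 0 := by
  have h := ptP_ev [] (by simp)
  rw [ev_nil] at h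
  exact h

theorem cgenP_pow3 : ∀ x ∈ {x : CovG 5 mm CC CC 8 | ∃ i, i < 5 ∧ x = cgen 5 mm CC CC 8 i},
    x ^ 3 = 1 := by
  rintro x ⟨i, hi, rfl⟩
  exact cgen_pow 5 mm CC CC 8 hi

theorem stem_P : Cfsg.IsStemExtension piF ∧ (∀ y ∈ piF.ker, y ^ 2 = 1) ∧
    Nonempty (piF.ker ≃* Multiplicative (ZMod 2 × ZMod 2)) := by
  refine Cfsg.Agent.Helper3.StemCC.stem_cncn 2 piF piF_surj
    (by rw [card_GG]; exact card_le_F.2)
    (ev (2 * 5) (coverRels 5 mm CC CC 8) w1) (ev (2 * 5) (coverRels 5 mm CC CC 8) w2)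
    (cover_center 5 mm CC CC 8 w1_mem w1_lt)
    (cover_center 5 mm CC CC 8 w2_mem w2_lt)
    (coverHomU_ker 5 mm CC CC 8 CC2_lt g2 g_pow2 CC2_rel w1_mem)
    (coverHomU_ker 5 mm CC CC 8 CC2_lt g2 g_pow2 CC2_rel w2_mem)
    ptP ?_ ?_ ?_ _ (closure_cgen 5 mm CC CC 8) 3 cgenP_pow3 (by decide)
  · intro a b a' b' ha hb ha' hb' h
    rw [← ev_zw, ← ev_zw, ptP_ev _ (zw_lt a b), ptP_ev _ (zw_lt a' b')] at h
    exact tabInj a ha b hb a' ha' b' hb' h
  · have h := ptP_ev _ (zw_lt 2 0)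
    rw [ev_zw, pow_zero, mul_one, tab21] at h
    rw [h, ptP_one]
  · have h := ptP_ev _ (zw_lt 0 2)
    rw [ev_zw, pow_zero, one_mul, tab22] at h
    rw [h, ptP_one]

theorem card_P : Nat.card (CovG 5 mm CC CC 8) = Nat.card GG * 4 := by
  have h1 := card_eq_card_mul_ker piF piF_surj
  obtain ⟨e⟩ := stem_P.2.2
  have h2 : Nat.card piF.ker = 4 := by
    rw [Nat.card_congr e.toEquiv]
    change Nat.card (ZMod 2 × ZMod 2) = 4
    rw [Nat.card_prod, Nat.card_zmod]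
  rw [h1, h2]

end two

/-! ### the bound for the stem extensions -/

theorem mm_cop2 : ∀ i, i < 5 → g2 i ^ U62P.mm i = 1 ∧ (U62P.mm i).Coprime (2 ^ 15) := by
  intro i hi
  exact ⟨g_pow2 i hi, by show Nat.Coprime 3 (2 ^ 15); decide⟩

theorem mm_cop3 : ∀ i, i < 5 → g3 i ^ U62Q.mm i = 1 ∧ (U62Q.mm i).Coprime (3 ^ 6) := by
  intro i hi
  refine ⟨g_pow3 i hi, ?_⟩
  interval_cases i <;> decide

theorem bound (Γ : Type) [Group Γ] [Finite Γ] (σ : Γ →* GG)
    (hσ : Cfsg.IsStemExtension σ) : Nat.card σ.ker ≤ 3 * 4 := by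
  have hc := hσ.2.1
  have : Finite (LPG (2 * 5) (coverRels 5 U62P.mm U62P.CC U62P.CC 8)) := U62P.card_le_F.1
  have : Finite (LPG (2 * 5) (coverRels 5 U62Q.mm U62Q.CC U62Q.CC 9)) := U62Q.card_le_F.1
  have hcardP : Nat.card (LPG (2 * 5) (coverRels 5 U62P.mm U62P.CC U62P.CC 8)) ∣
      Nat.card GG * 4 := by
    show Nat.card (CovG 5 U62P.mm U62P.CC U62P.CC 8) ∣ _
    rw [card_P]
  have hcardQ : Nat.card (LPG (2 * 5) (coverRels 5 U62Q.mm U62Q.CC U62Q.CC 9)) ∣
      Nat.card GG * 3 := by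
    show Nat.card (CovG 5 U62Q.mm U62Q.CC U62Q.CC 9) ∣ _
    rw [card_Q]
  have h3 : Nat.card (qmap σ hc 12615680).ker ∣ 3 :=
    card_qmap_ker_dvd_of_pow_dvd σ hσ hc 3 Nat.prime_three 6 2 12615680 9 (by norm_num)
      (by rw [card_GG]; norm_num)
      5 U62Q.mm U62Q.CC U62Q.CC U62Q.CC2_lt g3 g3_closure mm_cop3 U62Q.CC2_rel 3 hcardQ
      (by decide)
  have h2 : Nat.card (qmap σ hc 280665).ker ∣ 4 :=
    card_qmap_ker_dvd_of_pow_dvd σ hσ hc 2 Nat.prime_two 15 3 280665 8 (by norm_num)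
      (by rw [card_GG]; norm_num)
      5 U62P.mm U62P.CC U62P.CC U62P.CC2_lt g2 g2_closure mm_cop2 U62P.CC2_rel 4 hcardP
      (by decide)
  have h5 : ∀ z ∈ σ.ker, z ^ Nat.gcd 12615680 280665 = 1 → z = 1 := by
    intro z hz hz1
    have e385 : Nat.gcd 12615680 280665 = 5 * 7 * 11 := by decide
    rw [e385] at hz1
    refine eq_one_of_pow_eq_one σ hσ (5 * 7 * 11) ?_ z hz hz1
    intro q hq hqd
    rw [card_GG]
    rcases (Nat.Prime.dvd_mul hq).mp hqd with h | h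
    · rcases (Nat.Prime.dvd_mul hq).mp h with h | h
      · rw [(Nat.prime_dvd_prime_iff_eq hq (by norm_num)).mp h]
        decide
      · rw [(Nat.prime_dvd_prime_iff_eq hq (by norm_num)).mp h]
        decide
    · rw [(Nat.prime_dvd_prime_iff_eq hq (by norm_num)).mp h]
      decide
  have h6 := card_ker_le_mul σ hc 12615680 280665 h5
  calc Nat.card σ.ker ≤ Nat.card (qmap σ hc 12615680).ker * Nat.card (qmap σ hc 280665).ker := h6
    _ ≤ 3 * 4 := Nat.mul_le_mul (Nat.le_of_dvd (by norm_num) h3) (Nat.le_of_dvd (by norm_num) h2)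

/-- **The Schur multiplier of `PSU₆(2)` is `C₃ × C₂ × C₂`.** -/
theorem main : Cfsg.HasSchurMultiplier GG (Multiplicative (ZMod 3 × ZMod 2 × ZMod 2)) := by
  have c3 : Nat.card (Multiplicative (ZMod 3)) = 3 := by
    change Nat.card (ZMod 3) = 3
    rw [Nat.card_zmod]
  have c4 : Nat.card (Multiplicative (ZMod 2 × ZMod 2)) = 4 := by
    change Nat.card (ZMod 2 × ZMod 2) = 4
    rw [Nat.card_prod, Nat.card_zmod]
  have hprod : Cfsg.HasSchurMultiplier GG
      (Multiplicative (ZMod 3) × Multiplicative (ZMod 2 × ZMod 2)) := by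
    apply hasSchurMultiplier_prod
    · rw [c3, c4]; decide
    · exact ⟨CovG 5 U62Q.mm U62Q.CC U62Q.CC 9, inferInstance, U62Q.card_le_F.1, U62Q.piF,
        stem_Q.1.1, stem_Q.1.2⟩
    · exact ⟨CovG 5 U62P.mm U62P.CC U62P.CC 8, inferInstance, U62P.card_le_F.1, U62P.piF,
        stem_P.1, stem_P.2.2⟩
    · intro Γ _ _ σ hσ
      rw [c3, c4]
      exact bound Γ σ hσ
  exact hasSchurMultiplier_congr_right
    (MulEquiv.prodMultiplicative (G := ZMod 3) (H := ZMod 2 × ZMod 2)).symm hprod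

end Cfsg.Agent.Helper3.U62
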