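import Mathlib
import Cfsg.Prelude.Def_Spor_Conway
import Cfsg.Agent.Helper9.LeechAct.Lin
import Cfsg.Agent.Helper9.Leech.Center

/-!
# The stabiliser of a pair of minimal vectors of the lattice of rank 24 and `PSU₆(2)`: letters

Ten words in the letters of `Cfsg.Agent.Helper9.LeechAct` (monomial automorphisms and the
automorphism of the partition into six parts): four automorphisms `a₁, a₂, b, c` of order 5 and one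
`d` of order 2 fixing the two standard vectors, each followed by its inverse, which satisfy the
relators of the presentation `Cfsg.Agent.Helper3.U62Q.CC`, together with their matrices.
-/

set_option autoImplicit false
set_option maxRecDepth 100000

namespace Cfsg.Agent.Helper3.U62L

open Cfsg Cfsg.Agent.Helper9.Golay Cfsg.Agent.Helper9.Leech Cfsg.Agent.Helper9.LeechAct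

/-- the words of the letters. -/
def lws : List (List LLet) :=
  [[{ isXi := false, t := [0, 1, 14, 5, 4, 2, 19, 22, 16, 20, 12, 15, 11, 10, 17, 13, 18, 3, 6, 8, 7, 9, 21, 23], t' := [0, 1, 5, 17, 4, 3, 18, 20, 19, 21, 13, 12, 10, 15, 2, 11, 8, 14, 16, 6, 9, 22, 7, 23], m := 0x647f88 }],
   [{ isXi := false, t := [0, 1, 5, 17, 4, 3, 18, 20, 19, 21, 13, 12, 10, 15, 2, 11, 8, 14, 16, 6, 9, 22, 7, 23], t' := [0, 1, 14, 5, 4, 2, 19, 22, 16, 20, 12, 15, 11, 10, 17, 13, 18, 3, 6, 8, 7, 9, 21, 23], m := 0x7bb484 }],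
   [{ isXi := false, t := [0, 1, 3, 17, 4, 14, 7, 18, 10, 15, 22, 6, 8, 11, 2, 21, 19, 5, 13, 9, 12, 16, 20, 23], t' := [0, 1, 14, 2, 4, 17, 11, 6, 12, 19, 8, 13, 20, 18, 5, 9, 21, 3, 7, 16, 22, 15, 10, 23], m := 0x7531cc }],
   [{ isXi := false, t := [0, 1, 14, 2, 4, 17, 11, 6, 12, 19, 8, 13, 20, 18, 5, 9, 21, 3, 7, 16, 22, 15, 10, 23], t' := [0, 1, 3, 17, 4, 14, 7, 18, 10, 15, 22, 6, 8, 11, 2, 21, 19, 5, 13, 9, 12, 16, 20, 23], m := 0x74dcc4 }],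
   [{ isXi := false, t := [0, 1, 2, 3, 4, 5, 6, 7, 8, 9, 10, 11, 12, 13, 14, 15, 16, 17, 18, 19, 20, 21, 22, 23], t' := [0, 1, 2, 3, 4, 5, 6, 7, 8, 9, 10, 11, 12, 13, 14, 15, 16, 17, 18, 19, 20, 21, 22, 23], m := 0x0 },
    { isXi := true, t := [], t' := [], m := 0 },
    { isXi := false, t := [8, 10, 21, 7, 23, 16, 2, 1, 18, 13, 12, 19, 9, 17, 20, 15, 14, 11, 4, 5, 6, 0, 3, 22], t' := [21, 7, 6, 22, 18, 19, 20, 3, 0, 12, 1, 17, 10, 9, 16, 15, 5, 13, 8, 11, 14, 2, 23, 4], m := 0x0 },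
    { isXi := true, t := [], t' := [], m := 0 },
    { isXi := false, t := [21, 7, 13, 6, 8, 4, 0, 20, 23, 9, 1, 12, 5, 2, 22, 14, 10, 16, 15, 11, 18, 17, 3, 19], t' := [6, 10, 13, 22, 5, 12, 3, 1, 4, 9, 16, 19, 11, 2, 15, 18, 17, 21, 20, 23, 7, 0, 14, 8], m := 0x3ae3a4 }],
   [{ isXi := false, t := [1, 2, 3, 4, 5, 6, 7, 8, 9, 10, 11, 12, 13, 14, 15, 16, 17, 18, 19, 20, 21, 22, 0, 23], t' := [22, 0, 1, 2, 3, 4, 5, 6, 7, 8, 9, 10, 11, 12, 13, 14, 15, 16, 17, 18, 19, 20, 21, 23], m := 0x0 },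
    { isXi := true, t := [], t' := [], m := 0 },
    { isXi := false, t := [1, 4, 2, 13, 9, 16, 5, 21, 19, 3, 6, 8, 10, 14, 0, 15, 7, 22, 17, 20, 18, 12, 11, 23], t' := [14, 0, 2, 9, 1, 6, 10, 16, 11, 4, 12, 22, 21, 3, 13, 15, 5, 18, 20, 8, 19, 7, 17, 23], m := 0x800c75 },
    { isXi := true, t := [], t' := [], m := 0 },
    { isXi := false, t := [17, 0, 23, 3, 20, 14, 12, 13, 15, 19, 9, 8, 22, 18, 5, 16, 4, 1, 6, 10, 11, 21, 7, 2], t' := [1, 17, 23, 3, 16, 14, 18, 22, 11, 10, 19, 20, 6, 7, 5, 8, 15, 0, 13, 9, 4, 21, 12, 2], m := 0x999e51 }],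
   [{ isXi := false, t := [0, 18, 6, 3, 2, 21, 1, 5, 16, 12, 7, 19, 8, 9, 17, 15, 13, 11, 4, 22, 10, 20, 14, 23], t' := [0, 6, 4, 3, 18, 7, 2, 10, 12, 13, 20, 17, 9, 16, 22, 15, 8, 14, 1, 11, 21, 5, 19, 23], m := 0x0 },
    { isXi := true, t := [], t' := [], m := 0 },
    { isXi := false, t := [2, 7, 0, 15, 5, 22, 8, 17, 6, 12, 10, 21, 19, 11, 18, 4, 16, 14, 23, 9, 3, 13, 20, 1], t' := [2, 23, 0, 20, 15, 4, 8, 1, 6, 19, 10, 13, 9, 21, 17, 3, 16, 7, 14, 12, 22, 11, 5, 18], m := 0x0 },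
    { isXi := true, t := [], t' := [], m := 0 },
    { isXi := false, t := [2, 8, 23, 19, 22, 4, 0, 12, 15, 5, 16, 13, 21, 3, 17, 9, 7, 10, 14, 18, 6, 11, 20, 1], t' := [6, 23, 0, 13, 5, 9, 20, 16, 1, 15, 17, 21, 7, 11, 18, 8, 10, 14, 19, 3, 22, 12, 4, 2], m := 0xa31228 }],
   [{ isXi := false, t := [0, 1, 2, 3, 4, 5, 6, 7, 8, 9, 10, 11, 12, 13, 14, 15, 16, 17, 18, 19, 20, 21, 22, 23], t' := [0, 1, 2, 3, 4, 5, 6, 7, 8, 9, 10, 11, 12, 13, 14, 15, 16, 17, 18, 19, 20, 21, 22, 23], m := 0x800c75 },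
    { isXi := true, t := [], t' := [], m := 0 },
    { isXi := false, t := [2, 21, 1, 5, 16, 12, 7, 19, 8, 9, 17, 15, 13, 11, 4, 22, 10, 20, 14, 0, 18, 6, 3, 23], t' := [19, 2, 0, 22, 14, 3, 21, 6, 8, 9, 16, 13, 5, 12, 18, 11, 4, 10, 20, 7, 17, 1, 15, 23], m := 0x200f68 },
    { isXi := true, t := [], t' := [], m := 0 },
    { isXi := false, t := [1, 2, 22, 10, 3, 6, 19, 15, 4, 9, 17, 16, 13, 8, 14, 18, 20, 12, 0, 11, 21, 5, 7, 23], t' := [18, 0, 1, 4, 8, 21, 5, 22, 13, 9, 3, 19, 17, 12, 14, 7, 11, 10, 15, 6, 16, 20, 2, 23], m := 0xd9c662 }],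
   [{ isXi := false, t := [0, 1, 2, 3, 4, 5, 6, 7, 8, 9, 10, 11, 12, 13, 14, 15, 16, 17, 18, 19, 20, 21, 22, 23], t' := [0, 1, 2, 3, 4, 5, 6, 7, 8, 9, 10, 11, 12, 13, 14, 15, 16, 17, 18, 19, 20, 21, 22, 23], m := 0x7dbfd0 }],
   [{ isXi := false, t := [0, 1, 2, 3, 4, 5, 6, 7, 8, 9, 10, 11, 12, 13, 14, 15, 16, 17, 18, 19, 20, 21, 22, 23], t' := [0, 1, 2, 3, 4, 5, 6, 7, 8, 9, 10, 11, 12, 13, 14, 15, 16, 17, 18, 19, 20, 21, 22, 23], m := 0x7dbfd0 }]]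

/-- the rows of the matrices of the letters: the entry `k` of the row `q` is the coordinate `q` of the
image of the vector whose coordinate `k` is 8. -/
def rowD : List (List (List ℤ)) :=
  [[[8, 0, 0, 0, 0, 0, 0, 0, 0, 0, 0, 0, 0, 0, 0, 0, 0, 0, 0, 0, 0, 0, 0, 0],
    [0, 8, 0, 0, 0, 0, 0, 0, 0, 0, 0, 0, 0, 0, 0, 0, 0, 0, 0, 0, 0, 0, 0, 0],
    [0, 0, 0, 0, 0, 8, 0, 0, 0, 0, 0, 0, 0, 0, 0, 0, 0, 0, 0, 0, 0, 0, 0, 0],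
    [0, 0, 0, 0, 0, 0, 0, 0, 0, 0, 0, 0, 0, 0, 0, 0, 0, -8, 0, 0, 0, 0, 0, 0],
    [0, 0, 0, 0, 8, 0, 0, 0, 0, 0, 0, 0, 0, 0, 0, 0, 0, 0, 0, 0, 0, 0, 0, 0],
    [0, 0, 0, 8, 0, 0, 0, 0, 0, 0, 0, 0, 0, 0, 0, 0, 0, 0, 0, 0, 0, 0, 0, 0],
    [0, 0, 0, 0, 0, 0, 0, 0, 0, 0, 0, 0, 0, 0, 0, 0, 0, 0, 8, 0, 0, 0, 0, 0],
    [0, 0, 0, 0, 0, 0, 0, 0, 0, 0, 0, 0, 0, 0, 0, 0, 0, 0, 0, 0, -8, 0, 0, 0],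
    [0, 0, 0, 0, 0, 0, 0, 0, 0, 0, 0, 0, 0, 0, 0, 0, 0, 0, 0, -8, 0, 0, 0, 0],
    [0, 0, 0, 0, 0, 0, 0, 0, 0, 0, 0, 0, 0, 0, 0, 0, 0, 0, 0, 0, 0, -8, 0, 0],
    [0, 0, 0, 0, 0, 0, 0, 0, 0, 0, 0, 0, 0, -8, 0, 0, 0, 0, 0, 0, 0, 0, 0, 0],
    [0, 0, 0, 0, 0, 0, 0, 0, 0, 0, 0, 0, -8, 0, 0, 0, 0, 0, 0, 0, 0, 0, 0, 0],
    [0, 0, 0, 0, 0, 0, 0, 0, 0, 0, -8, 0, 0, 0, 0, 0, 0, 0, 0, 0, 0, 0, 0, 0],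
    [0, 0, 0, 0, 0, 0, 0, 0, 0, 0, 0, 0, 0, 0, 0, -8, 0, 0, 0, 0, 0, 0, 0, 0],
    [0, 0, -8, 0, 0, 0, 0, 0, 0, 0, 0, 0, 0, 0, 0, 0, 0, 0, 0, 0, 0, 0, 0, 0],
    [0, 0, 0, 0, 0, 0, 0, 0, 0, 0, 0, 8, 0, 0, 0, 0, 0, 0, 0, 0, 0, 0, 0, 0],
    [0, 0, 0, 0, 0, 0, 0, 0, 8, 0, 0, 0, 0, 0, 0, 0, 0, 0, 0, 0, 0, 0, 0, 0],
    [0, 0, 0, 0, 0, 0, 0, 0, 0, 0, 0, 0, 0, 0, 8, 0, 0, 0, 0, 0, 0, 0, 0, 0],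
    [0, 0, 0, 0, 0, 0, 0, 0, 0, 0, 0, 0, 0, 0, 0, 0, -8, 0, 0, 0, 0, 0, 0, 0],
    [0, 0, 0, 0, 0, 0, 8, 0, 0, 0, 0, 0, 0, 0, 0, 0, 0, 0, 0, 0, 0, 0, 0, 0],
    [0, 0, 0, 0, 0, 0, 0, 0, 0, 8, 0, 0, 0, 0, 0, 0, 0, 0, 0, 0, 0, 0, 0, 0],
    [0, 0, 0, 0, 0, 0, 0, 0, 0, 0, 0, 0, 0, 0, 0, 0, 0, 0, 0, 0, 0, 0, -8, 0],
    [0, 0, 0, 0, 0, 0, 0, -8, 0, 0, 0, 0, 0, 0, 0, 0, 0, 0, 0, 0, 0, 0, 0, 0],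
    [0, 0, 0, 0, 0, 0, 0, 0, 0, 0, 0, 0, 0, 0, 0, 0, 0, 0, 0, 0, 0, 0, 0, 8]],
   [[8, 0, 0, 0, 0, 0, 0, 0, 0, 0, 0, 0, 0, 0, 0, 0, 0, 0, 0, 0, 0, 0, 0, 0],
    [0, 8, 0, 0, 0, 0, 0, 0, 0, 0, 0, 0, 0, 0, 0, 0, 0, 0, 0, 0, 0, 0, 0, 0],
    [0, 0, 0, 0, 0, 0, 0, 0, 0, 0, 0, 0, 0, 0, -8, 0, 0, 0, 0, 0, 0, 0, 0, 0],
    [0, 0, 0, 0, 0, 8, 0, 0, 0, 0, 0, 0, 0, 0, 0, 0, 0, 0, 0, 0, 0, 0, 0, 0],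
    [0, 0, 0, 0, 8, 0, 0, 0, 0, 0, 0, 0, 0, 0, 0, 0, 0, 0, 0, 0, 0, 0, 0, 0],
    [0, 0, 8, 0, 0, 0, 0, 0, 0, 0, 0, 0, 0, 0, 0, 0, 0, 0, 0, 0, 0, 0, 0, 0],
    [0, 0, 0, 0, 0, 0, 0, 0, 0, 0, 0, 0, 0, 0, 0, 0, 0, 0, 0, 8, 0, 0, 0, 0],
    [0, 0, 0, 0, 0, 0, 0, 0, 0, 0, 0, 0, 0, 0, 0, 0, 0, 0, 0, 0, 0, 0, -8, 0],
    [0, 0, 0, 0, 0, 0, 0, 0, 0, 0, 0, 0, 0, 0, 0, 0, 8, 0, 0, 0, 0, 0, 0, 0],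
    [0, 0, 0, 0, 0, 0, 0, 0, 0, 0, 0, 0, 0, 0, 0, 0, 0, 0, 0, 0, 8, 0, 0, 0],
    [0, 0, 0, 0, 0, 0, 0, 0, 0, 0, 0, 0, -8, 0, 0, 0, 0, 0, 0, 0, 0, 0, 0, 0],
    [0, 0, 0, 0, 0, 0, 0, 0, 0, 0, 0, 0, 0, 0, 0, 8, 0, 0, 0, 0, 0, 0, 0, 0],
    [0, 0, 0, 0, 0, 0, 0, 0, 0, 0, 0, -8, 0, 0, 0, 0, 0, 0, 0, 0, 0, 0, 0, 0],
    [0, 0, 0, 0, 0, 0, 0, 0, 0, 0, -8, 0, 0, 0, 0, 0, 0, 0, 0, 0, 0, 0, 0, 0],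
    [0, 0, 0, 0, 0, 0, 0, 0, 0, 0, 0, 0, 0, 0, 0, 0, 0, 8, 0, 0, 0, 0, 0, 0],
    [0, 0, 0, 0, 0, 0, 0, 0, 0, 0, 0, 0, 0, -8, 0, 0, 0, 0, 0, 0, 0, 0, 0, 0],
    [0, 0, 0, 0, 0, 0, 0, 0, 0, 0, 0, 0, 0, 0, 0, 0, 0, 0, -8, 0, 0, 0, 0, 0],
    [0, 0, 0, -8, 0, 0, 0, 0, 0, 0, 0, 0, 0, 0, 0, 0, 0, 0, 0, 0, 0, 0, 0, 0],
    [0, 0, 0, 0, 0, 0, 8, 0, 0, 0, 0, 0, 0, 0, 0, 0, 0, 0, 0, 0, 0, 0, 0, 0],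
    [0, 0, 0, 0, 0, 0, 0, 0, -8, 0, 0, 0, 0, 0, 0, 0, 0, 0, 0, 0, 0, 0, 0, 0],
    [0, 0, 0, 0, 0, 0, 0, -8, 0, 0, 0, 0, 0, 0, 0, 0, 0, 0, 0, 0, 0, 0, 0, 0],
    [0, 0, 0, 0, 0, 0, 0, 0, 0, -8, 0, 0, 0, 0, 0, 0, 0, 0, 0, 0, 0, 0, 0, 0],
    [0, 0, 0, 0, 0, 0, 0, 0, 0, 0, 0, 0, 0, 0, 0, 0, 0, 0, 0, 0, 0, -8, 0, 0],
    [0, 0, 0, 0, 0, 0, 0, 0, 0, 0, 0, 0, 0, 0, 0, 0, 0, 0, 0, 0, 0, 0, 0, 8]],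
   [[8, 0, 0, 0, 0, 0, 0, 0, 0, 0, 0, 0, 0, 0, 0, 0, 0, 0, 0, 0, 0, 0, 0, 0],
    [0, 8, 0, 0, 0, 0, 0, 0, 0, 0, 0, 0, 0, 0, 0, 0, 0, 0, 0, 0, 0, 0, 0, 0],
    [0, 0, 0, 0, 0, 0, 0, 0, 0, 0, 0, 0, 0, 0, -8, 0, 0, 0, 0, 0, 0, 0, 0, 0],
    [0, 0, -8, 0, 0, 0, 0, 0, 0, 0, 0, 0, 0, 0, 0, 0, 0, 0, 0, 0, 0, 0, 0, 0],
    [0, 0, 0, 0, 8, 0, 0, 0, 0, 0, 0, 0, 0, 0, 0, 0, 0, 0, 0, 0, 0, 0, 0, 0],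
    [0, 0, 0, 0, 0, 0, 0, 0, 0, 0, 0, 0, 0, 0, 0, 0, 0, 8, 0, 0, 0, 0, 0, 0],
    [0, 0, 0, 0, 0, 0, 0, 0, 0, 0, 0, -8, 0, 0, 0, 0, 0, 0, 0, 0, 0, 0, 0, 0],
    [0, 0, 0, 0, 0, 0, -8, 0, 0, 0, 0, 0, 0, 0, 0, 0, 0, 0, 0, 0, 0, 0, 0, 0],
    [0, 0, 0, 0, 0, 0, 0, 0, 0, 0, 0, 0, -8, 0, 0, 0, 0, 0, 0, 0, 0, 0, 0, 0],
    [0, 0, 0, 0, 0, 0, 0, 0, 0, 0, 0, 0, 0, 0, 0, 0, 0, 0, 0, 8, 0, 0, 0, 0],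
    [0, 0, 0, 0, 0, 0, 0, 0, 8, 0, 0, 0, 0, 0, 0, 0, 0, 0, 0, 0, 0, 0, 0, 0],
    [0, 0, 0, 0, 0, 0, 0, 0, 0, 0, 0, 0, 0, 8, 0, 0, 0, 0, 0, 0, 0, 0, 0, 0],
    [0, 0, 0, 0, 0, 0, 0, 0, 0, 0, 0, 0, 0, 0, 0, 0, 0, 0, 0, 0, -8, 0, 0, 0],
    [0, 0, 0, 0, 0, 0, 0, 0, 0, 0, 0, 0, 0, 0, 0, 0, 0, 0, -8, 0, 0, 0, 0, 0],
    [0, 0, 0, 0, 0, 8, 0, 0, 0, 0, 0, 0, 0, 0, 0, 0, 0, 0, 0, 0, 0, 0, 0, 0],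
    [0, 0, 0, 0, 0, 0, 0, 0, 0, 8, 0, 0, 0, 0, 0, 0, 0, 0, 0, 0, 0, 0, 0, 0],
    [0, 0, 0, 0, 0, 0, 0, 0, 0, 0, 0, 0, 0, 0, 0, 0, 0, 0, 0, 0, 0, -8, 0, 0],
    [0, 0, 0, 8, 0, 0, 0, 0, 0, 0, 0, 0, 0, 0, 0, 0, 0, 0, 0, 0, 0, 0, 0, 0],
    [0, 0, 0, 0, 0, 0, 0, -8, 0, 0, 0, 0, 0, 0, 0, 0, 0, 0, 0, 0, 0, 0, 0, 0],
    [0, 0, 0, 0, 0, 0, 0, 0, 0, 0, 0, 0, 0, 0, 0, 0, 8, 0, 0, 0, 0, 0, 0, 0],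
    [0, 0, 0, 0, 0, 0, 0, 0, 0, 0, 0, 0, 0, 0, 0, 0, 0, 0, 0, 0, 0, 0, -8, 0],
    [0, 0, 0, 0, 0, 0, 0, 0, 0, 0, 0, 0, 0, 0, 0, -8, 0, 0, 0, 0, 0, 0, 0, 0],
    [0, 0, 0, 0, 0, 0, 0, 0, 0, 0, -8, 0, 0, 0, 0, 0, 0, 0, 0, 0, 0, 0, 0, 0],
    [0, 0, 0, 0, 0, 0, 0, 0, 0, 0, 0, 0, 0, 0, 0, 0, 0, 0, 0, 0, 0, 0, 0, 8]],
   [[8, 0, 0, 0, 0, 0, 0, 0, 0, 0, 0, 0, 0, 0, 0, 0, 0, 0, 0, 0, 0, 0, 0, 0],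
    [0, 8, 0, 0, 0, 0, 0, 0, 0, 0, 0, 0, 0, 0, 0, 0, 0, 0, 0, 0, 0, 0, 0, 0],
    [0, 0, 0, -8, 0, 0, 0, 0, 0, 0, 0, 0, 0, 0, 0, 0, 0, 0, 0, 0, 0, 0, 0, 0],
    [0, 0, 0, 0, 0, 0, 0, 0, 0, 0, 0, 0, 0, 0, 0, 0, 0, 8, 0, 0, 0, 0, 0, 0],
    [0, 0, 0, 0, 8, 0, 0, 0, 0, 0, 0, 0, 0, 0, 0, 0, 0, 0, 0, 0, 0, 0, 0, 0],
    [0, 0, 0, 0, 0, 0, 0, 0, 0, 0, 0, 0, 0, 0, 8, 0, 0, 0, 0, 0, 0, 0, 0, 0],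
    [0, 0, 0, 0, 0, 0, 0, -8, 0, 0, 0, 0, 0, 0, 0, 0, 0, 0, 0, 0, 0, 0, 0, 0],
    [0, 0, 0, 0, 0, 0, 0, 0, 0, 0, 0, 0, 0, 0, 0, 0, 0, 0, -8, 0, 0, 0, 0, 0],
    [0, 0, 0, 0, 0, 0, 0, 0, 0, 0, 8, 0, 0, 0, 0, 0, 0, 0, 0, 0, 0, 0, 0, 0],
    [0, 0, 0, 0, 0, 0, 0, 0, 0, 0, 0, 0, 0, 0, 0, 8, 0, 0, 0, 0, 0, 0, 0, 0],
    [0, 0, 0, 0, 0, 0, 0, 0, 0, 0, 0, 0, 0, 0, 0, 0, 0, 0, 0, 0, 0, 0, -8, 0],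
    [0, 0, 0, 0, 0, 0, -8, 0, 0, 0, 0, 0, 0, 0, 0, 0, 0, 0, 0, 0, 0, 0, 0, 0],
    [0, 0, 0, 0, 0, 0, 0, 0, -8, 0, 0, 0, 0, 0, 0, 0, 0, 0, 0, 0, 0, 0, 0, 0],
    [0, 0, 0, 0, 0, 0, 0, 0, 0, 0, 0, 8, 0, 0, 0, 0, 0, 0, 0, 0, 0, 0, 0, 0],
    [0, 0, -8, 0, 0, 0, 0, 0, 0, 0, 0, 0, 0, 0, 0, 0, 0, 0, 0, 0, 0, 0, 0, 0],
    [0, 0, 0, 0, 0, 0, 0, 0, 0, 0, 0, 0, 0, 0, 0, 0, 0, 0, 0, 0, 0, -8, 0, 0],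
    [0, 0, 0, 0, 0, 0, 0, 0, 0, 0, 0, 0, 0, 0, 0, 0, 0, 0, 0, 8, 0, 0, 0, 0],
    [0, 0, 0, 0, 0, 8, 0, 0, 0, 0, 0, 0, 0, 0, 0, 0, 0, 0, 0, 0, 0, 0, 0, 0],
    [0, 0, 0, 0, 0, 0, 0, 0, 0, 0, 0, 0, 0, -8, 0, 0, 0, 0, 0, 0, 0, 0, 0, 0],
    [0, 0, 0, 0, 0, 0, 0, 0, 0, 8, 0, 0, 0, 0, 0, 0, 0, 0, 0, 0, 0, 0, 0, 0],
    [0, 0, 0, 0, 0, 0, 0, 0, 0, 0, 0, 0, -8, 0, 0, 0, 0, 0, 0, 0, 0, 0, 0, 0],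
    [0, 0, 0, 0, 0, 0, 0, 0, 0, 0, 0, 0, 0, 0, 0, 0, -8, 0, 0, 0, 0, 0, 0, 0],
    [0, 0, 0, 0, 0, 0, 0, 0, 0, 0, 0, 0, 0, 0, 0, 0, 0, 0, 0, 0, -8, 0, 0, 0],
    [0, 0, 0, 0, 0, 0, 0, 0, 0, 0, 0, 0, 0, 0, 0, 0, 0, 0, 0, 0, 0, 0, 0, 8]],
   [[6, -2, 2, 2, 0, 2, 0, 0, 0, 0, 0, 0, 0, 0, -2, 0, 0, -2, 0, 0, 0, 0, 0, 2],
    [-2, 6, 2, 2, 0, 2, 0, 0, 0, 0, 0, 0, 0, 0, -2, 0, 0, -2, 0, 0, 0, 0, 0, 2],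
    [-2, -2, 2, -6, 0, 2, 0, 0, 0, 0, 0, 0, 0, 0, -2, 0, 0, -2, 0, 0, 0, 0, 0, 2],
    [-2, -2, 2, 2, 0, 2, 0, 0, 0, 0, 0, 0, 0, 0, 6, 0, 0, -2, 0, 0, 0, 0, 0, 2],
    [0, 0, 0, 0, 2, 0, -2, -2, 2, 2, -2, -2, 2, 2, 0, -2, 2, 0, -2, -2, 2, -2, 2, 0],
    [2, 2, -2, -2, 0, 6, 0, 0, 0, 0, 0, 0, 0, 0, 2, 0, 0, 2, 0, 0, 0, 0, 0, -2],
    [0, 0, 0, 0, -2, 0, -2, -2, -2, 2, -2, 2, -2, -2, 0, -2, -2, 0, 2, -2, 2, -2, -2, 0],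
    [0, 0, 0, 0, -2, 0, -2, 2, -2, -2, -2, 2, 2, -2, 0, 2, 2, 0, -2, -2, 2, 2, 2, 0],
    [0, 0, 0, 0, 2, 0, -2, -2, 2, -2, 2, 2, -2, -2, 0, -2, -2, 0, -2, 2, 2, 2, 2, 0],
    [0, 0, 0, 0, 2, 0, -2, -2, -2, -2, 2, 2, -2, 2, 0, 2, 2, 0, 2, -2, -2, -2, 2, 0],
    [0, 0, 0, 0, -2, 0, 2, -2, 2, -2, -2, -2, -2, -2, 0, 2, 2, 0, 2, 2, 2, -2, 2, 0],
    [0, 0, 0, 0, 2, 0, 2, -2, -2, -2, -2, 2, 2, 2, 0, 2, -2, 0, -2, 2, 2, -2, -2, 0],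
    [0, 0, 0, 0, 2, 0, 2, 2, -2, 2, -2, 2, -2, 2, 0, -2, 2, 0, 2, 2, 2, 2, 2, 0],
    [0, 0, 0, 0, -2, 0, -2, 2, 2, -2, -2, 2, 2, 2, 0, -2, -2, 0, 2, 2, -2, -2, 2, 0],
    [-2, -2, 2, 2, 0, 2, 0, 0, 0, 0, 0, 0, 0, 0, -2, 0, 0, 6, 0, 0, 0, 0, 0, 2],
    [0, 0, 0, 0, -2, 0, -2, 2, -2, 2, 2, -2, -2, 2, 0, 2, -2, 0, -2, 2, 2, -2, 2, 0],
    [0, 0, 0, 0, -2, 0, -2, -2, 2, 2, -2, 2, -2, 2, 0, 2, 2, 0, -2, 2, -2, 2, -2, 0],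
    [-2, -2, -6, 2, 0, 2, 0, 0, 0, 0, 0, 0, 0, 0, -2, 0, 0, -2, 0, 0, 0, 0, 0, 2],
    [0, 0, 0, 0, -2, 0, 2, -2, -2, -2, -2, -2, -2, 2, 0, -2, -2, 0, -2, -2, -2, 2, 2, 0],
    [0, 0, 0, 0, 2, 0, -2, 2, -2, -2, -2, -2, -2, -2, 0, -2, 2, 0, -2, 2, -2, -2, -2, 0],
    [0, 0, 0, 0, -2, 0, -2, -2, -2, -2, 2, -2, 2, 2, 0, -2, 2, 0, 2, 2, 2, 2, -2, 0],
    [0, 0, 0, 0, -2, 0, 2, 2, 2, -2, 2, 2, -2, 2, 0, -2, 2, 0, -2, -2, 2, -2, -2, 0],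
    [0, 0, 0, 0, -2, 0, 2, -2, -2, 2, 2, 2, 2, -2, 0, -2, 2, 0, -2, 2, -2, -2, 2, 0],
    [2, 2, -2, -2, 0, -2, 0, 0, 0, 0, 0, 0, 0, 0, 2, 0, 0, 2, 0, 0, 0, 0, 0, 6]],
   [[6, -2, -2, -2, 0, 2, 0, 0, 0, 0, 0, 0, 0, 0, -2, 0, 0, -2, 0, 0, 0, 0, 0, 2],
    [-2, 6, -2, -2, 0, 2, 0, 0, 0, 0, 0, 0, 0, 0, -2, 0, 0, -2, 0, 0, 0, 0, 0, 2],
    [2, 2, 2, 2, 0, -2, 0, 0, 0, 0, 0, 0, 0, 0, 2, 0, 0, -6, 0, 0, 0, 0, 0, -2],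
    [2, 2, -6, 2, 0, -2, 0, 0, 0, 0, 0, 0, 0, 0, 2, 0, 0, 2, 0, 0, 0, 0, 0, -2],
    [0, 0, 0, 0, 2, 0, -2, -2, 2, 2, -2, 2, 2, -2, 0, -2, -2, 0, -2, 2, -2, -2, -2, 0],
    [2, 2, 2, 2, 0, 6, 0, 0, 0, 0, 0, 0, 0, 0, 2, 0, 0, 2, 0, 0, 0, 0, 0, -2],
    [0, 0, 0, 0, -2, 0, -2, -2, -2, -2, 2, 2, 2, -2, 0, -2, -2, 0, 2, -2, -2, 2, 2, 0],
    [0, 0, 0, 0, -2, 0, -2, 2, -2, -2, -2, -2, 2, 2, 0, 2, -2, 0, -2, 2, -2, 2, -2, 0],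
    [0, 0, 0, 0, 2, 0, -2, -2, 2, -2, 2, -2, -2, 2, 0, -2, 2, 0, -2, -2, -2, 2, -2, 0],
    [0, 0, 0, 0, 2, 0, 2, -2, -2, -2, -2, -2, 2, -2, 0, 2, 2, 0, -2, -2, -2, -2, 2, 0],
    [0, 0, 0, 0, -2, 0, -2, -2, 2, 2, -2, -2, -2, -2, 0, 2, -2, 0, -2, -2, 2, 2, 2, 0],
    [0, 0, 0, 0, -2, 0, 2, 2, 2, 2, -2, 2, 2, 2, 0, -2, 2, 0, -2, -2, -2, 2, 2, 0],
    [0, 0, 0, 0, 2, 0, -2, 2, -2, -2, -2, 2, -2, 2, 0, -2, -2, 0, -2, -2, 2, -2, 2, 0],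
    [0, 0, 0, 0, 2, 0, -2, -2, -2, 2, -2, 2, 2, 2, 0, 2, 2, 0, 2, -2, 2, 2, -2, 0],
    [-2, -2, -2, 6, 0, 2, 0, 0, 0, 0, 0, 0, 0, 0, -2, 0, 0, -2, 0, 0, 0, 0, 0, 2],
    [0, 0, 0, 0, -2, 0, -2, 2, -2, 2, 2, 2, -2, -2, 0, 2, 2, 0, -2, -2, -2, -2, -2, 0],
    [0, 0, 0, 0, 2, 0, -2, 2, -2, 2, 2, -2, 2, -2, 0, -2, 2, 0, -2, 2, 2, 2, 2, 0],
    [-2, -2, -2, -2, 0, 2, 0, 0, 0, 0, 0, 0, 0, 0, 6, 0, 0, -2, 0, 0, 0, 0, 0, 2],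
    [0, 0, 0, 0, -2, 0, 2, -2, -2, 2, 2, -2, 2, 2, 0, -2, -2, 0, -2, -2, 2, -2, -2, 0],
    [0, 0, 0, 0, -2, 0, -2, -2, 2, -2, 2, 2, 2, 2, 0, 2, 2, 0, -2, 2, 2, -2, 2, 0],
    [0, 0, 0, 0, 2, 0, 2, 2, 2, -2, 2, 2, 2, -2, 0, 2, -2, 0, -2, -2, 2, 2, -2, 0],
    [0, 0, 0, 0, -2, 0, -2, 2, 2, -2, -2, -2, 2, -2, 0, -2, 2, 0, 2, -2, 2, -2, -2, 0],
    [0, 0, 0, 0, 2, 0, -2, 2, 2, 2, 2, -2, 2, 2, 0, 2, -2, 0, 2, -2, -2, -2, 2, 0],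
    [2, 2, 2, 2, 0, -2, 0, 0, 0, 0, 0, 0, 0, 0, 2, 0, 0, 2, 0, 0, 0, 0, 0, 6]],
   [[6, -2, 2, 0, 0, 0, -2, 2, 0, 0, 0, 0, 0, 0, 0, 0, 0, 0, 0, 2, 0, -2, 0, 2],
    [-2, 6, 2, 0, 0, 0, -2, 2, 0, 0, 0, 0, 0, 0, 0, 0, 0, 0, 0, 2, 0, -2, 0, 2],
    [0, 0, 0, 2, 2, 2, 0, 0, 2, 2, 2, 2, 2, -2, -2, 2, 2, -2, 2, 0, 2, 0, -2, 0],
    [0, 0, 0, 2, 2, -2, 0, 0, -2, -2, -2, 2, -2, -2, 2, 2, -2, -2, 2, 0, 2, 0, 2, 0],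
    [0, 0, 0, 2, 2, 2, 0, 0, 2, 2, -2, -2, -2, 2, 2, 2, 2, 2, 2, 0, -2, 0, 2, 0],
    [2, 2, -2, 0, 0, 0, 2, -2, 0, 0, 0, 0, 0, 0, 0, 0, 0, 0, 0, 6, 0, 2, 0, -2],
    [-2, -2, 2, 0, 0, 0, 6, 2, 0, 0, 0, 0, 0, 0, 0, 0, 0, 0, 0, 2, 0, -2, 0, 2],
    [0, 0, 0, -2, -2, 2, 0, 0, -2, -2, -2, 2, -2, 2, -2, 2, 2, 2, 2, 0, 2, 0, -2, 0],
    [0, 0, 0, 2, 2, 2, 0, 0, -2, -2, -2, -2, -2, -2, -2, -2, 2, -2, -2, 0, -2, 0, -2, 0],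
    [0, 0, 0, -2, 2, 2, 0, 0, -2, 2, 2, 2, -2, -2, -2, -2, -2, 2, 2, 0, -2, 0, 2, 0],
    [0, 0, 0, -2, 2, -2, 0, 0, 2, -2, 2, -2, -2, 2, -2, -2, 2, -2, 2, 0, 2, 0, 2, 0],
    [0, 0, 0, -2, 2, -2, 0, 0, 2, -2, -2, 2, 2, -2, 2, -2, 2, 2, 2, 0, -2, 0, -2, 0],
    [0, 0, 0, 2, -2, 2, 0, 0, 2, -2, -2, 2, 2, 2, -2, -2, -2, -2, 2, 0, -2, 0, 2, 0],
    [0, 0, 0, 2, -2, -2, 0, 0, -2, 2, -2, -2, 2, -2, -2, -2, 2, 2, 2, 0, 2, 0, 2, 0],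
    [0, 0, 0, 2, 2, 2, 0, 0, -2, -2, 2, 2, 2, 2, 2, -2, 2, 2, -2, 0, 2, 0, 2, 0],
    [0, 0, 0, -2, -2, 2, 0, 0, 2, 2, -2, 2, -2, -2, 2, -2, 2, -2, -2, 0, 2, 0, 2, 0],
    [0, 0, 0, -2, 2, 2, 0, 0, 2, -2, -2, -2, 2, -2, -2, 2, -2, 2, -2, 0, 2, 0, 2, 0],
    [0, 0, 0, 2, 2, -2, 0, 0, 2, 2, -2, 2, -2, 2, -2, -2, -2, 2, -2, 0, 2, 0, -2, 0],
    [-2, -2, -6, 0, 0, 0, -2, 2, 0, 0, 0, 0, 0, 0, 0, 0, 0, 0, 0, 2, 0, -2, 0, 2],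
    [0, 0, 0, 2, -2, -2, 0, 0, 2, -2, 2, 2, -2, -2, -2, 2, 2, 2, -2, 0, -2, 0, 2, 0],
    [-2, -2, 2, 0, 0, 0, -2, 2, 0, 0, 0, 0, 0, 0, 0, 0, 0, 0, 0, 2, 0, 6, 0, 2],
    [0, 0, 0, 2, -2, 2, 0, 0, 2, -2, 2, -2, -2, -2, 2, -2, -2, 2, 2, 0, 2, 0, -2, 0],
    [-2, -2, 2, 0, 0, 0, -2, -6, 0, 0, 0, 0, 0, 0, 0, 0, 0, 0, 0, 2, 0, -2, 0, 2],
    [2, 2, -2, 0, 0, 0, 2, -2, 0, 0, 0, 0, 0, 0, 0, 0, 0, 0, 0, -2, 0, 2, 0, 6]],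
   [[6, -2, 0, 0, 0, 2, -2, 0, 0, 0, 0, 0, 0, 0, 0, 0, 0, 0, -2, 0, -2, 0, -2, 2],
    [-2, 6, 0, 0, 0, 2, -2, 0, 0, 0, 0, 0, 0, 0, 0, 0, 0, 0, -2, 0, -2, 0, -2, 2],
    [2, 2, 0, 0, 0, -2, 2, 0, 0, 0, 0, 0, 0, 0, 0, 0, 0, 0, -6, 0, 2, 0, 2, -2],
    [0, 0, 2, 2, 2, 0, 0, -2, 2, -2, -2, -2, 2, 2, 2, -2, -2, 2, 0, 2, 0, 2, 0, 0],
    [0, 0, 2, 2, 2, 0, 0, -2, 2, 2, 2, 2, -2, -2, 2, -2, 2, 2, 0, -2, 0, -2, 0, 0],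
    [0, 0, 2, -2, 2, 0, 0, 2, 2, 2, -2, -2, 2, -2, 2, 2, 2, -2, 0, -2, 0, 2, 0, 0],
    [-2, -2, 0, 0, 0, 2, 6, 0, 0, 0, 0, 0, 0, 0, 0, 0, 0, 0, -2, 0, -2, 0, -2, 2],
    [2, 2, 0, 0, 0, -2, 2, 0, 0, 0, 0, 0, 0, 0, 0, 0, 0, 0, 2, 0, 2, 0, -6, -2],
    [0, 0, 2, -2, 2, 0, 0, -2, -2, -2, 2, 2, 2, -2, -2, 2, 2, 2, 0, 2, 0, 2, 0, 0],
    [0, 0, 2, -2, 2, 0, 0, -2, -2, 2, -2, -2, -2, 2, -2, 2, -2, 2, 0, -2, 0, -2, 0, 0],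
    [0, 0, 2, -2, -2, 0, 0, -2, -2, 2, 2, -2, -2, -2, 2, -2, -2, -2, 0, 2, 0, 2, 0, 0],
    [0, 0, 2, 2, -2, 0, 0, 2, -2, 2, -2, 2, 2, -2, 2, 2, -2, 2, 0, 2, 0, -2, 0, 0],
    [0, 0, 2, -2, -2, 0, 0, -2, -2, -2, -2, 2, 2, 2, 2, -2, 2, -2, 0, -2, 0, -2, 0, 0],
    [0, 0, -2, -2, 2, 0, 0, 2, -2, -2, 2, -2, 2, -2, 2, -2, -2, 2, 0, -2, 0, -2, 0, 0],
    [0, 0, -2, 2, 2, 0, 0, -2, -2, -2, -2, 2, -2, -2, 2, 2, -2, -2, 0, -2, 0, 2, 0, 0],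
    [0, 0, 2, 2, 2, 0, 0, 2, -2, -2, -2, -2, -2, -2, -2, -2, 2, -2, 0, 2, 0, -2, 0, 0],
    [0, 0, 2, -2, 2, 0, 0, 2, 2, -2, 2, 2, -2, 2, 2, 2, -2, -2, 0, 2, 0, -2, 0, 0],
    [0, 0, -2, -2, 2, 0, 0, 2, -2, 2, -2, 2, -2, 2, 2, -2, 2, 2, 0, 2, 0, 2, 0, 0],
    [0, 0, 2, 2, 2, 0, 0, 2, -2, 2, 2, 2, 2, 2, -2, -2, -2, -2, 0, -2, 0, 2, 0, 0],
    [2, 2, 0, 0, 0, 6, 2, 0, 0, 0, 0, 0, 0, 0, 0, 0, 0, 0, 2, 0, 2, 0, 2, -2],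
    [0, 0, 2, 2, -2, 0, 0, 2, -2, -2, 2, -2, -2, 2, 2, 2, 2, 2, 0, -2, 0, 2, 0, 0],
    [-2, -2, 0, 0, 0, 2, -2, 0, 0, 0, 0, 0, 0, 0, 0, 0, 0, 0, -2, 0, 6, 0, -2, 2],
    [0, 0, -2, 2, 2, 0, 0, -2, -2, 2, 2, -2, 2, 2, 2, 2, 2, -2, 0, 2, 0, -2, 0, 0],
    [2, 2, 0, 0, 0, -2, 2, 0, 0, 0, 0, 0, 0, 0, 0, 0, 0, 0, 2, 0, 2, 0, 2, 6]],
   [[8, 0, 0, 0, 0, 0, 0, 0, 0, 0, 0, 0, 0, 0, 0, 0, 0, 0, 0, 0, 0, 0, 0, 0],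
    [0, 8, 0, 0, 0, 0, 0, 0, 0, 0, 0, 0, 0, 0, 0, 0, 0, 0, 0, 0, 0, 0, 0, 0],
    [0, 0, 8, 0, 0, 0, 0, 0, 0, 0, 0, 0, 0, 0, 0, 0, 0, 0, 0, 0, 0, 0, 0, 0],
    [0, 0, 0, 8, 0, 0, 0, 0, 0, 0, 0, 0, 0, 0, 0, 0, 0, 0, 0, 0, 0, 0, 0, 0],
    [0, 0, 0, 0, -8, 0, 0, 0, 0, 0, 0, 0, 0, 0, 0, 0, 0, 0, 0, 0, 0, 0, 0, 0],
    [0, 0, 0, 0, 0, 8, 0, 0, 0, 0, 0, 0, 0, 0, 0, 0, 0, 0, 0, 0, 0, 0, 0, 0],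
    [0, 0, 0, 0, 0, 0, -8, 0, 0, 0, 0, 0, 0, 0, 0, 0, 0, 0, 0, 0, 0, 0, 0, 0],
    [0, 0, 0, 0, 0, 0, 0, -8, 0, 0, 0, 0, 0, 0, 0, 0, 0, 0, 0, 0, 0, 0, 0, 0],
    [0, 0, 0, 0, 0, 0, 0, 0, -8, 0, 0, 0, 0, 0, 0, 0, 0, 0, 0, 0, 0, 0, 0, 0],
    [0, 0, 0, 0, 0, 0, 0, 0, 0, -8, 0, 0, 0, 0, 0, 0, 0, 0, 0, 0, 0, 0, 0, 0],
    [0, 0, 0, 0, 0, 0, 0, 0, 0, 0, -8, 0, 0, 0, 0, 0, 0, 0, 0, 0, 0, 0, 0, 0],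
    [0, 0, 0, 0, 0, 0, 0, 0, 0, 0, 0, -8, 0, 0, 0, 0, 0, 0, 0, 0, 0, 0, 0, 0],
    [0, 0, 0, 0, 0, 0, 0, 0, 0, 0, 0, 0, -8, 0, 0, 0, 0, 0, 0, 0, 0, 0, 0, 0],
    [0, 0, 0, 0, 0, 0, 0, 0, 0, 0, 0, 0, 0, -8, 0, 0, 0, 0, 0, 0, 0, 0, 0, 0],
    [0, 0, 0, 0, 0, 0, 0, 0, 0, 0, 0, 0, 0, 0, 8, 0, 0, 0, 0, 0, 0, 0, 0, 0],
    [0, 0, 0, 0, 0, 0, 0, 0, 0, 0, 0, 0, 0, 0, 0, -8, 0, 0, 0, 0, 0, 0, 0, 0],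
    [0, 0, 0, 0, 0, 0, 0, 0, 0, 0, 0, 0, 0, 0, 0, 0, -8, 0, 0, 0, 0, 0, 0, 0],
    [0, 0, 0, 0, 0, 0, 0, 0, 0, 0, 0, 0, 0, 0, 0, 0, 0, 8, 0, 0, 0, 0, 0, 0],
    [0, 0, 0, 0, 0, 0, 0, 0, 0, 0, 0, 0, 0, 0, 0, 0, 0, 0, -8, 0, 0, 0, 0, 0],
    [0, 0, 0, 0, 0, 0, 0, 0, 0, 0, 0, 0, 0, 0, 0, 0, 0, 0, 0, -8, 0, 0, 0, 0],
    [0, 0, 0, 0, 0, 0, 0, 0, 0, 0, 0, 0, 0, 0, 0, 0, 0, 0, 0, 0, -8, 0, 0, 0],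
    [0, 0, 0, 0, 0, 0, 0, 0, 0, 0, 0, 0, 0, 0, 0, 0, 0, 0, 0, 0, 0, -8, 0, 0],
    [0, 0, 0, 0, 0, 0, 0, 0, 0, 0, 0, 0, 0, 0, 0, 0, 0, 0, 0, 0, 0, 0, -8, 0],
    [0, 0, 0, 0, 0, 0, 0, 0, 0, 0, 0, 0, 0, 0, 0, 0, 0, 0, 0, 0, 0, 0, 0, 8]],
   [[8, 0, 0, 0, 0, 0, 0, 0, 0, 0, 0, 0, 0, 0, 0, 0, 0, 0, 0, 0, 0, 0, 0, 0],
    [0, 8, 0, 0, 0, 0, 0, 0, 0, 0, 0, 0, 0, 0, 0, 0, 0, 0, 0, 0, 0, 0, 0, 0],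
    [0, 0, 8, 0, 0, 0, 0, 0, 0, 0, 0, 0, 0, 0, 0, 0, 0, 0, 0, 0, 0, 0, 0, 0],
    [0, 0, 0, 8, 0, 0, 0, 0, 0, 0, 0, 0, 0, 0, 0, 0, 0, 0, 0, 0, 0, 0, 0, 0],
    [0, 0, 0, 0, -8, 0, 0, 0, 0, 0, 0, 0, 0, 0, 0, 0, 0, 0, 0, 0, 0, 0, 0, 0],
    [0, 0, 0, 0, 0, 8, 0, 0, 0, 0, 0, 0, 0, 0, 0, 0, 0, 0, 0, 0, 0, 0, 0, 0],
    [0, 0, 0, 0, 0, 0, -8, 0, 0, 0, 0, 0, 0, 0, 0, 0, 0, 0, 0, 0, 0, 0, 0, 0],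
    [0, 0, 0, 0, 0, 0, 0, -8, 0, 0, 0, 0, 0, 0, 0, 0, 0, 0, 0, 0, 0, 0, 0, 0],
    [0, 0, 0, 0, 0, 0, 0, 0, -8, 0, 0, 0, 0, 0, 0, 0, 0, 0, 0, 0, 0, 0, 0, 0],
    [0, 0, 0, 0, 0, 0, 0, 0, 0, -8, 0, 0, 0, 0, 0, 0, 0, 0, 0, 0, 0, 0, 0, 0],
    [0, 0, 0, 0, 0, 0, 0, 0, 0, 0, -8, 0, 0, 0, 0, 0, 0, 0, 0, 0, 0, 0, 0, 0],
    [0, 0, 0, 0, 0, 0, 0, 0, 0, 0, 0, -8, 0, 0, 0, 0, 0, 0, 0, 0, 0, 0, 0, 0],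
    [0, 0, 0, 0, 0, 0, 0, 0, 0, 0, 0, 0, -8, 0, 0, 0, 0, 0, 0, 0, 0, 0, 0, 0],
    [0, 0, 0, 0, 0, 0, 0, 0, 0, 0, 0, 0, 0, -8, 0, 0, 0, 0, 0, 0, 0, 0, 0, 0],
    [0, 0, 0, 0, 0, 0, 0, 0, 0, 0, 0, 0, 0, 0, 8, 0, 0, 0, 0, 0, 0, 0, 0, 0],
    [0, 0, 0, 0, 0, 0, 0, 0, 0, 0, 0, 0, 0, 0, 0, -8, 0, 0, 0, 0, 0, 0, 0, 0],
    [0, 0, 0, 0, 0, 0, 0, 0, 0, 0, 0, 0, 0, 0, 0, 0, -8, 0, 0, 0, 0, 0, 0, 0],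
    [0, 0, 0, 0, 0, 0, 0, 0, 0, 0, 0, 0, 0, 0, 0, 0, 0, 8, 0, 0, 0, 0, 0, 0],
    [0, 0, 0, 0, 0, 0, 0, 0, 0, 0, 0, 0, 0, 0, 0, 0, 0, 0, -8, 0, 0, 0, 0, 0],
    [0, 0, 0, 0, 0, 0, 0, 0, 0, 0, 0, 0, 0, 0, 0, 0, 0, 0, 0, -8, 0, 0, 0, 0],
    [0, 0, 0, 0, 0, 0, 0, 0, 0, 0, 0, 0, 0, 0, 0, 0, 0, 0, 0, 0, -8, 0, 0, 0],
    [0, 0, 0, 0, 0, 0, 0, 0, 0, 0, 0, 0, 0, 0, 0, 0, 0, 0, 0, 0, 0, -8, 0, 0],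
    [0, 0, 0, 0, 0, 0, 0, 0, 0, 0, 0, 0, 0, 0, 0, 0, 0, 0, 0, 0, 0, 0, -8, 0],
    [0, 0, 0, 0, 0, 0, 0, 0, 0, 0, 0, 0, 0, 0, 0, 0, 0, 0, 0, 0, 0, 0, 0, 8]]]

theorem lws_ok : lws.all (fun w => w.all letOK) = true := by decide +kernel

/-- the word of a letter. -/
def lw (c : ℕ) : List LLet := lws.getD c []

theorem lw_ok (c : ℕ) : ∀ l ∈ lw c, letOK l = true := by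
  intro l hl
  have h1 := lws_ok
  rw [List.all_eq_true] at h1
  by_cases hc : c < lws.length
  · have hm : lw c ∈ lws := by
      unfold lw
      rw [List.getD_eq_getElem _ _ hc]
      exact List.getElem_mem hc
    have h2 := h1 _ hm
    rw [List.all_eq_true] at h2
    exact h2 l hl
  · unfold lw at hl
    rw [List.getD_eq_default _ _ (by omega)] at hl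
    exact absurd hl List.not_mem_nil

/-- the automorphism of a letter. -/
def gw (c : ℕ) : Equiv.Perm ↥leechLattice := wordEl (lw c)

theorem gw_mem (c : ℕ) : gw c ∈ Co0 := wordEl_mem _

theorem mem_co0 (r : List ℕ) : (r.map gw).prod ∈ Co0 := by
  apply Subgroup.list_prod_mem
  intro x hx
  obtain ⟨c, -, rfl⟩ := List.mem_map.mp hx
  exact gw_mem c

end Cfsg.Agent.Helper3.U62L
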