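import Mathlib
import Cfsg.Agent.Helper3.U62LDat

/-!
# The stabiliser of a pair of minimal vectors of the lattice of rank 24 and `PSU₆(2)`: the check of a word

An automorphism of the lattice is determined by its action on the 24 vectors with one coordinate 8.
The action of a word in the letters is computed with the matrices of the letters (`wv`, with a factor
`8 ^ n` for `n` letters); a word is the identity or the negation as soon as it acts so on these 24
vectors.
-/

set_option autoImplicit false

namespace Cfsg.Agent.Helper3.U62L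

open Cfsg Cfsg.Agent.Helper9.Golay Cfsg.Agent.Helper9.Leech Cfsg.Agent.Helper9.LeechAct

/-! ### automorphisms determined on the vectors with one coordinate 8 -/

theorem smul_of_e8 {z : Equiv.Perm ↥leechLattice} (hz : z ∈ Co0) (s : ℤ)
    (hs : ∀ i, z (e8 i) = s • e8 i) (v : ↥leechLattice) : z v = s • v := by
  have h8 : (8 : ℤ) • z v = (8 : ℤ) • (s • v) := by
    have h1 : (8 : ℤ) • z v = toAddHom hz ((8 : ℤ) • v) := by
      rw [map_zsmul]
      rfl
    rw [h1, eight_smul_eq, map_sum]
    have h2 : ∀ i, toAddHom hz (((v : GolayPt → ℤ) i) • e8 i) =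
        ((v : GolayPt → ℤ) i) • (s • e8 i) := by
      intro i
      rw [map_zsmul, toAddHom_apply, hs i]
    simp only [h2]
    rw [smul_comm (8 : ℤ) s v, eight_smul_eq, Finset.smul_sum]
    apply Finset.sum_congr rfl
    intro i _
    rw [smul_comm]
  apply Subtype.ext
  funext j
  have := congrArg (fun w : ↥leechLattice => (w : GolayPt → ℤ) j) h8
  simp only [AddSubgroup.coe_zsmul, Pi.smul_apply, smul_eq_mul] at this
  simp only [AddSubgroup.coe_zsmul, Pi.smul_apply, smul_eq_mul]
  omega

theorem eq_one_of_e8 {z : Equiv.Perm ↥leechLattice} (hz : z ∈ Co0)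
    (hs : ∀ i, z (e8 i) = e8 i) : z = 1 := by
  apply Equiv.ext
  intro v
  rw [smul_of_e8 hz 1 (fun i => by rw [one_smul]; exact hs i) v, one_smul]
  rfl

theorem eq_neg_of_e8 {z : Equiv.Perm ↥leechLattice} (hz : z ∈ Co0)
    (hs : ∀ i, z (e8 i) = -e8 i) : z = negPerm := by
  apply Equiv.ext
  intro v
  rw [smul_of_e8 hz (-1) (fun i => by rw [neg_one_smul]; exact hs i) v, neg_one_smul]
  rfl

/-! ### the matrices of the letters -/

/-- the rows of the matrix of a letter. -/
def rows (c : ℕ) : List (List ℤ) := rowD.getD c []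

/-- a column of a matrix given by its rows. -/
def colOf (R : List (List ℤ)) (k : ℕ) : List ℤ := R.map (fun row => row.getD k 0)

/-- the check of the matrix of a letter. -/
def rowChk (c : ℕ) : Bool :=
  ((rows c).length == 24) && (rows c).all (fun row => row.length == 24) &&
    (List.range 24).all (fun k => wordL (lw c) (e8L k) == colOf (rows c) k)

/-- the image of a list of coordinates under a matrix given by its rows, eight times too large. -/
def mvT (R : List (List ℤ)) (bl : List ℤ) : List ℤ := R.map (fun row => dotL bl row)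

theorem mvT_length (R : List (List ℤ)) (bl : List ℤ) : (mvT R bl).length = R.length := by
  unfold mvT
  rw [List.length_map]

/-- eight times the image of a vector under a letter. -/
theorem gw_apply8 {c : ℕ} (hc : rowChk c = true) {z : ↥leechLattice} {bl : List ℤ}
    (hbl : bl.length = 24) (hz : (z : GolayPt → ℤ) = toVec bl) :
    (((8 : ℤ) • gw c z : ↥leechLattice) : GolayPt → ℤ) = toVec (mvT (rows c) bl) := by
  unfold rowChk at hc
  rw [Bool.and_eq_true, Bool.and_eq_true, beq_iff_eq, List.all_eq_true, List.all_eq_true] at hc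
  obtain ⟨⟨hlen, hrow⟩, hcol⟩ := hc
  have hg : gw c ∈ Co0 := gw_mem c
  have e1 : (8 : ℤ) • gw c z = ∑ p, ((z : GolayPt → ℤ) p) • gw c (e8 p) := by
    have h1 := congrArg (toAddHom hg) (eight_smul_eq z)
    rw [map_zsmul, map_sum] at h1
    have h2 : ∀ p ∈ Finset.univ, (toAddHom hg) (((z : GolayPt → ℤ) p) • e8 p) =
        ((z : GolayPt → ℤ) p) • gw c (e8 p) := fun p _ => map_zsmul (toAddHom hg) _ _
    rw [Finset.sum_congr rfl h2] at h1
    exact h1
  funext q
  have hq := ptIdx_lt q
  have h1 := congrArg (fun x : ↥leechLattice => (x : GolayPt → ℤ) q) e1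
  simp only [AddSubgroup.val_finsetSum, Finset.sum_apply, AddSubgroup.coe_zsmul, Pi.smul_apply,
    smul_eq_mul] at h1
  rw [AddSubgroup.coe_zsmul, Pi.smul_apply, smul_eq_mul, h1]
  have hq' : ptIdx q < (rows c).length := by rw [hlen]; exact hq
  have hrl : ((rows c)[ptIdx q]).length = 24 := by
    have := hrow _ (List.getElem_mem hq')
    rwa [beq_iff_eq] at this
  have h3 : ∀ p ∈ Finset.univ, toVec bl p * ((gw c (e8 p) : ↥leechLattice) : GolayPt → ℤ) q =
      toVec bl p * toVec ((rows c)[ptIdx q]) p := by
    intro p _
    congr 1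
    have h4 : ((gw c (e8 p) : ↥leechLattice) : GolayPt → ℤ) =
        toVec (wordL (lw c) (e8L (ptIdx p))) := wordEl_apply (lw_ok c) (e8_coe' p)
    have h5 := hcol (ptIdx p) (List.mem_range.mpr (ptIdx_lt p))
    rw [beq_iff_eq] at h5
    rw [h4, h5]
    unfold toVec colOf
    rw [List.getD_eq_getElem _ _ (by rw [List.length_map]; exact hq'), List.getElem_map]
  rw [hz, Finset.sum_congr rfl h3, sum_toVec_mul bl _ hbl hrl]
  unfold toVec mvT
  rw [List.getD_eq_getElem _ _ (by rw [List.length_map]; exact hq'), List.getElem_map]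

/-- the image of a list of coordinates under a word, `8 ^ n` times too large for a word of `n`
letters. -/
def wv (r : List ℕ) (al : List ℤ) : List ℤ := r.foldr (fun c v => mvT (rows c) v) al

theorem wv_length (r : List ℕ) (hr : ∀ c ∈ r, rowChk c = true) (al : List ℤ) (hal : al.length = 24) :
    (wv r al).length = 24 := by
  induction r with
  | nil => exact hal
  | cons c r ih =>
    change (mvT (rows c) (wv r al)).length = 24
    rw [mvT_length]
    have hc := hr c List.mem_cons_self
    unfold rowChk at hc
    rw [Bool.and_eq_true, Bool.and_eq_true, beq_iff_eq] at hc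
    exact hc.1.1

theorem wv_apply (r : List ℕ) (hr : ∀ c ∈ r, rowChk c = true) {x : ↥leechLattice} {al : List ℤ}
    (hal : al.length = 24) (hx : (x : GolayPt → ℤ) = toVec al) :
    ((((8 : ℤ) ^ r.length) • (r.map gw).prod x : ↥leechLattice) : GolayPt → ℤ) =
      toVec (wv r al) := by
  induction r with
  | nil =>
    rw [List.length_nil, pow_zero, one_smul, List.map_nil, List.prod_nil]
    exact hx
  | cons c r ih =>
    have hr' : ∀ c' ∈ r, rowChk c' = true := fun c' hc' => hr c' (List.mem_cons_of_mem _ hc')
    have ih' := ih hr'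
    have hg : gw c ∈ Co0 := gw_mem c
    rw [List.map_cons, List.prod_cons, Equiv.Perm.mul_apply, List.length_cons, pow_succ, mul_smul,
      smul_comm ((8 : ℤ) ^ r.length) (8 : ℤ)]
    have h1 : ((8 : ℤ) ^ r.length) • gw c ((r.map gw).prod x) =
        gw c (((8 : ℤ) ^ r.length) • (r.map gw).prod x) :=
      (map_zsmul (toAddHom hg) _ _).symm
    rw [h1]
    exact gw_apply8 (hr c List.mem_cons_self) (wv_length r hr' al hal) ih'

/-! ### the checks -/

/-- the expected image of the vector whose coordinate `k` is 8 under a word of `n` letters which is the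
identity (`s = false`) or the negation (`s = true`), `8 ^ n` times too large. -/
def expL (s : Bool) (n k : ℕ) : List ℤ :=
  (e8L k).map (fun a => bif s then -(8 ^ n * a) else 8 ^ n * a)

/-- the check of a word on one vector. -/
def vecChk (s : Bool) (r : List ℕ) (k : ℕ) : Bool := wv r (e8L k) == expL s r.length k

/-- the check of a word on six vectors. -/
def blockChk (s : Bool) (r : List ℕ) (lo : ℕ) : Bool :=
  (List.range 6).all (fun j => vecChk s r (lo + j))

/-- the word is the identity (`s = false`) or the negation (`s = true`) on the 24 vectors. -/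
def RelOK (s : Bool) (r : List ℕ) : Prop := ∀ k, k < 24 → vecChk s r k = true

theorem relOK_of_blocks {s : Bool} {r : List ℕ} (h0 : blockChk s r 0 = true)
    (h1 : blockChk s r 6 = true) (h2 : blockChk s r 12 = true) (h3 : blockChk s r 18 = true) :
    RelOK s r := by
  intro k hk
  unfold blockChk at h0 h1 h2 h3
  rw [List.all_eq_true] at h0 h1 h2 h3
  rcases Nat.lt_or_ge k 6 with h | h
  · have := h0 k (List.mem_range.mpr h)
    rwa [Nat.zero_add] at this
  · rcases Nat.lt_or_ge k 12 with h' | h'
    · have := h1 (k - 6) (List.mem_range.mpr (by omega))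
      rwa [show 6 + (k - 6) = k by omega] at this
    · rcases Nat.lt_or_ge k 18 with h'' | h''
      · have := h2 (k - 12) (List.mem_range.mpr (by omega))
        rwa [show 12 + (k - 12) = k by omega] at this
      · have := h3 (k - 18) (List.mem_range.mpr (by omega))
        rwa [show 18 + (k - 18) = k by omega] at this

theorem toVec_map (f : ℤ → ℤ) (hf : f 0 = 0) (al : List ℤ) (p : GolayPt) :
    toVec (al.map f) p = f (toVec al p) := by
  unfold toVec
  by_cases h : ptIdx p < al.length
  · rw [List.getD_eq_getElem _ _ (by rw [List.length_map]; exact h), List.getElem_map,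
      List.getD_eq_getElem _ _ h]
  · rw [List.getD_eq_default _ _ (by rw [List.length_map]; omega),
      List.getD_eq_default _ _ (by omega), hf]

theorem e8L_length (k : ℕ) : (e8L k).length = 24 := by
  unfold e8L
  rw [List.length_map, List.length_range]

theorem relP_sound {r : List ℕ} (hr : ∀ c ∈ r, rowChk c = true) (h : RelOK false r) :
    (r.map gw).prod = 1 := by
  apply eq_one_of_e8 (mem_co0 r)
  intro p
  have h0 := wv_apply r hr (e8L_length (ptIdx p)) (e8_coe' p)
  have h1 := h (ptIdx p) (ptIdx_lt p)
  unfold vecChk at h1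
  rw [beq_iff_eq] at h1
  rw [h1] at h0
  apply Subtype.ext
  funext q
  have h2 := congrFun h0 q
  unfold expL at h2
  rw [toVec_map _ (by rw [cond_false, mul_zero]), cond_false, AddSubgroup.coe_zsmul,
    Pi.smul_apply, smul_eq_mul, ← e8_coe' p] at h2
  exact mul_left_cancel₀ (pow_ne_zero _ (by norm_num)) h2

theorem relN_sound {r : List ℕ} (hr : ∀ c ∈ r, rowChk c = true) (h : RelOK true r) :
    (r.map gw).prod = negPerm := by
  apply eq_neg_of_e8 (mem_co0 r)
  intro p
  have h0 := wv_apply r hr (e8L_length (ptIdx p)) (e8_coe' p)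
  have h1 := h (ptIdx p) (ptIdx_lt p)
  unfold vecChk at h1
  rw [beq_iff_eq] at h1
  rw [h1] at h0
  apply Subtype.ext
  funext q
  have h2 := congrFun h0 q
  unfold expL at h2
  rw [toVec_map _ (by rw [cond_true, mul_zero, neg_zero]), cond_true, AddSubgroup.coe_zsmul,
    Pi.smul_apply, smul_eq_mul, ← e8_coe' p, ← mul_neg] at h2
  have h3 := mul_left_cancel₀ (pow_ne_zero _ (by norm_num)) h2
  rw [h3]
  rfl

end Cfsg.Agent.Helper3.U62L
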