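import Mathlib
import Cfsg.Agent.Helper3.U62LMat

/-!
# The stabiliser of a pair of minimal vectors of the lattice of rank 24 and `PSU₆(2)`: the matrices

The check that the matrices `U62L.rowD` are those of the ten words of letters.
-/

set_option autoImplicit false
set_option maxRecDepth 100000

namespace Cfsg.Agent.Helper3.U62L

theorem row_0 : rowChk 0 = true := by decide +kernel

theorem row_1 : rowChk 1 = true := by decide +kernel

theorem row_2 : rowChk 2 = true := by decide +kernel

theorem row_3 : rowChk 3 = true := by decide +kernel

theorem row_4 : rowChk 4 = true := by decide +kernel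

theorem row_5 : rowChk 5 = true := by decide +kernel

theorem row_6 : rowChk 6 = true := by decide +kernel

theorem row_7 : rowChk 7 = true := by decide +kernel

theorem row_8 : rowChk 8 = true := by decide +kernel

theorem row_9 : rowChk 9 = true := by decide +kernel

theorem rows_ok : ∀ c, c < 10 → rowChk c = true := by
  intro c hc
  interval_cases c
  · exact row_0
  · exact row_1
  · exact row_2
  · exact row_3
  · exact row_4
  · exact row_5
  · exact row_6
  · exact row_7
  · exact row_8
  · exact row_9

theorem rows_ok' {r : List ℕ} (hr : ∀ c ∈ r, c < 10) : ∀ c ∈ r, rowChk c = true :=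
  fun c hc => rows_ok c (hr c hc)

end Cfsg.Agent.Helper3.U62L
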