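import Mathlib
import Cfsg.Agent.Helper3.U62LRow
import Cfsg.Agent.Helper3.U62XDat

/-!
# The stabiliser of a pair of minimal vectors of the lattice of rank 24 and `PSU₆(2)`: the relators, definitions
-/

set_option autoImplicit false

namespace Cfsg.Agent.Helper3.U62L

/-- the powers of the generators and the products of a generator and its inverse. -/
def PW : List (List ℕ) := [[0, 0, 0, 0, 0], [2, 2, 2, 2, 2], [4, 4, 4, 4, 4], [6, 6, 6, 6, 6], [8, 8],
  [0, 1], [2, 3], [4, 5], [6, 7], [8, 9]]

end Cfsg.Agent.Helper3.U62L
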