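import Mathlib
import Cfsg.Agent.Helper3.U62LRel0

/-!
# The stabiliser of a pair of minimal vectors of the lattice of rank 24 and `PSU₆(2)`: the relators, part 1

Relators of the presentation `Cfsg.Agent.Helper3.U62Q.CC`, powers of the generators and products of a
generator with its inverse are checked to be the identity on the 24 vectors with one coordinate 8, six
vectors at a time (`U62L.blockChk`).
-/

set_option autoImplicit false
set_option maxRecDepth 100000

namespace Cfsg.Agent.Helper3.U62L

open Cfsg.Agent.Helper3.U62Q

theorem cc_1_b0 : blockChk false (CC.getD 1 []) 0 = true := by decide +kernel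

theorem cc_1_b1 : blockChk false (CC.getD 1 []) 6 = true := by decide +kernel

theorem cc_1_b2 : blockChk false (CC.getD 1 []) 12 = true := by decide +kernel

theorem cc_1_b3 : blockChk false (CC.getD 1 []) 18 = true := by decide +kernel

theorem cc_1 : RelOK false (CC.getD 1 []) := relOK_of_blocks cc_1_b0 cc_1_b1 cc_1_b2 cc_1_b3

theorem cc_3_b0 : blockChk false (CC.getD 3 []) 0 = true := by decide +kernel

theorem cc_3_b1 : blockChk false (CC.getD 3 []) 6 = true := by decide +kernel

theorem cc_3_b2 : blockChk false (CC.getD 3 []) 12 = true := by decide +kernel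

theorem cc_3_b3 : blockChk false (CC.getD 3 []) 18 = true := by decide +kernel

theorem cc_3 : RelOK false (CC.getD 3 []) := relOK_of_blocks cc_3_b0 cc_3_b1 cc_3_b2 cc_3_b3

theorem cc_10_b0 : blockChk false (CC.getD 10 []) 0 = true := by decide +kernel

theorem cc_10_b1 : blockChk false (CC.getD 10 []) 6 = true := by decide +kernel

theorem cc_10_b2 : blockChk false (CC.getD 10 []) 12 = true := by decide +kernel

theorem cc_10_b3 : blockChk false (CC.getD 10 []) 18 = true := by decide +kernel

theorem cc_10 : RelOK false (CC.getD 10 []) := relOK_of_blocks cc_10_b0 cc_10_b1 cc_10_b2 cc_10_b3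

theorem cc_11_b0 : blockChk false (CC.getD 11 []) 0 = true := by decide +kernel

theorem cc_11_b1 : blockChk false (CC.getD 11 []) 6 = true := by decide +kernel

theorem cc_11_b2 : blockChk false (CC.getD 11 []) 12 = true := by decide +kernel

theorem cc_11_b3 : blockChk false (CC.getD 11 []) 18 = true := by decide +kernel

theorem cc_11 : RelOK false (CC.getD 11 []) := relOK_of_blocks cc_11_b0 cc_11_b1 cc_11_b2 cc_11_b3

theorem cc_22_b0 : blockChk false (CC.getD 22 []) 0 = true := by decide +kernel

theorem cc_22_b1 : blockChk false (CC.getD 22 []) 6 = true := by decide +kernel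

theorem cc_22_b2 : blockChk false (CC.getD 22 []) 12 = true := by decide +kernel

theorem cc_22_b3 : blockChk false (CC.getD 22 []) 18 = true := by decide +kernel

theorem cc_22 : RelOK false (CC.getD 22 []) := relOK_of_blocks cc_22_b0 cc_22_b1 cc_22_b2 cc_22_b3

theorem pw_6_b0 : blockChk false (PW.getD 6 []) 0 = true := by decide +kernel

theorem pw_6_b1 : blockChk false (PW.getD 6 []) 6 = true := by decide +kernel

theorem pw_6_b2 : blockChk false (PW.getD 6 []) 12 = true := by decide +kernel

theorem pw_6_b3 : blockChk false (PW.getD 6 []) 18 = true := by decide +kernel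

theorem pw_6 : RelOK false (PW.getD 6 []) := relOK_of_blocks pw_6_b0 pw_6_b1 pw_6_b2 pw_6_b3

end Cfsg.Agent.Helper3.U62L
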