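import Mathlib
import Cfsg.Agent.Helper3.U62LRel0

/-!
# The stabiliser of a pair of minimal vectors of the lattice of rank 24 and `PSU₆(2)`: the relators, part 2

Relators of the presentation `Cfsg.Agent.Helper3.U62Q.CC`, powers of the generators and products of a
generator with its inverse are checked to be the identity on the 24 vectors with one coordinate 8, six
vectors at a time (`U62L.blockChk`).
-/

set_option autoImplicit false
set_option maxRecDepth 100000

namespace Cfsg.Agent.Helper3.U62L

open Cfsg.Agent.Helper3.U62Q

theorem cc_0_b0 : blockChk false (CC.getD 0 []) 0 = true := by decide +kernel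

theorem cc_0_b1 : blockChk false (CC.getD 0 []) 6 = true := by decide +kernel

theorem cc_0_b2 : blockChk false (CC.getD 0 []) 12 = true := by decide +kernel

theorem cc_0_b3 : blockChk false (CC.getD 0 []) 18 = true := by decide +kernel

theorem cc_0 : RelOK false (CC.getD 0 []) := relOK_of_blocks cc_0_b0 cc_0_b1 cc_0_b2 cc_0_b3

theorem cc_8_b0 : blockChk false (CC.getD 8 []) 0 = true := by decide +kernel

theorem cc_8_b1 : blockChk false (CC.getD 8 []) 6 = true := by decide +kernel

theorem cc_8_b2 : blockChk false (CC.getD 8 []) 12 = true := by decide +kernel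

theorem cc_8_b3 : blockChk false (CC.getD 8 []) 18 = true := by decide +kernel

theorem cc_8 : RelOK false (CC.getD 8 []) := relOK_of_blocks cc_8_b0 cc_8_b1 cc_8_b2 cc_8_b3

theorem cc_12_b0 : blockChk false (CC.getD 12 []) 0 = true := by decide +kernel

theorem cc_12_b1 : blockChk false (CC.getD 12 []) 6 = true := by decide +kernel

theorem cc_12_b2 : blockChk false (CC.getD 12 []) 12 = true := by decide +kernel

theorem cc_12_b3 : blockChk false (CC.getD 12 []) 18 = true := by decide +kernel

theorem cc_12 : RelOK false (CC.getD 12 []) := relOK_of_blocks cc_12_b0 cc_12_b1 cc_12_b2 cc_12_b3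

theorem cc_14_b0 : blockChk false (CC.getD 14 []) 0 = true := by decide +kernel

theorem cc_14_b1 : blockChk false (CC.getD 14 []) 6 = true := by decide +kernel

theorem cc_14_b2 : blockChk false (CC.getD 14 []) 12 = true := by decide +kernel

theorem cc_14_b3 : blockChk false (CC.getD 14 []) 18 = true := by decide +kernel

theorem cc_14 : RelOK false (CC.getD 14 []) := relOK_of_blocks cc_14_b0 cc_14_b1 cc_14_b2 cc_14_b3

theorem cc_16_b0 : blockChk false (CC.getD 16 []) 0 = true := by decide +kernel

theorem cc_16_b1 : blockChk false (CC.getD 16 []) 6 = true := by decide +kernel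

theorem cc_16_b2 : blockChk false (CC.getD 16 []) 12 = true := by decide +kernel

theorem cc_16_b3 : blockChk false (CC.getD 16 []) 18 = true := by decide +kernel

theorem cc_16 : RelOK false (CC.getD 16 []) := relOK_of_blocks cc_16_b0 cc_16_b1 cc_16_b2 cc_16_b3

theorem pw_1_b0 : blockChk false (PW.getD 1 []) 0 = true := by decide +kernel

theorem pw_1_b1 : blockChk false (PW.getD 1 []) 6 = true := by decide +kernel

theorem pw_1_b2 : blockChk false (PW.getD 1 []) 12 = true := by decide +kernel

theorem pw_1_b3 : blockChk false (PW.getD 1 []) 18 = true := by decide +kernel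

theorem pw_1 : RelOK false (PW.getD 1 []) := relOK_of_blocks pw_1_b0 pw_1_b1 pw_1_b2 pw_1_b3

theorem pw_3_b0 : blockChk false (PW.getD 3 []) 0 = true := by decide +kernel

theorem pw_3_b1 : blockChk false (PW.getD 3 []) 6 = true := by decide +kernel

theorem pw_3_b2 : blockChk false (PW.getD 3 []) 12 = true := by decide +kernel

theorem pw_3_b3 : blockChk false (PW.getD 3 []) 18 = true := by decide +kernel

theorem pw_3 : RelOK false (PW.getD 3 []) := relOK_of_blocks pw_3_b0 pw_3_b1 pw_3_b2 pw_3_b3

theorem pw_4_b0 : blockChk false (PW.getD 4 []) 0 = true := by decide +kernel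

theorem pw_4_b1 : blockChk false (PW.getD 4 []) 6 = true := by decide +kernel

theorem pw_4_b2 : blockChk false (PW.getD 4 []) 12 = true := by decide +kernel

theorem pw_4_b3 : blockChk false (PW.getD 4 []) 18 = true := by decide +kernel

theorem pw_4 : RelOK false (PW.getD 4 []) := relOK_of_blocks pw_4_b0 pw_4_b1 pw_4_b2 pw_4_b3

theorem pw_8_b0 : blockChk false (PW.getD 8 []) 0 = true := by decide +kernel

theorem pw_8_b1 : blockChk false (PW.getD 8 []) 6 = true := by decide +kernel

theorem pw_8_b2 : blockChk false (PW.getD 8 []) 12 = true := by decide +kernel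

theorem pw_8_b3 : blockChk false (PW.getD 8 []) 18 = true := by decide +kernel

theorem pw_8 : RelOK false (PW.getD 8 []) := relOK_of_blocks pw_8_b0 pw_8_b1 pw_8_b2 pw_8_b3

end Cfsg.Agent.Helper3.U62L
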