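import Mathlib
import Cfsg.Agent.Helper3.U62LRel0

/-!
# The stabiliser of a pair of minimal vectors of the lattice of rank 24 and `PSU₆(2)`: the relators, part 3

Relators of the presentation `Cfsg.Agent.Helper3.U62Q.CC`, powers of the generators and products of a
generator with its inverse are checked to be the identity on the 24 vectors with one coordinate 8, six
vectors at a time (`U62L.blockChk`).
-/

set_option autoImplicit false
set_option maxRecDepth 100000

namespace Cfsg.Agent.Helper3.U62L

open Cfsg.Agent.Helper3.U62Q

theorem cc_4_b0 : blockChk false (CC.getD 4 []) 0 = true := by decide +kernel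

theorem cc_4_b1 : blockChk false (CC.getD 4 []) 6 = true := by decide +kernel

theorem cc_4_b2 : blockChk false (CC.getD 4 []) 12 = true := by decide +kernel

theorem cc_4_b3 : blockChk false (CC.getD 4 []) 18 = true := by decide +kernel

theorem cc_4 : RelOK false (CC.getD 4 []) := relOK_of_blocks cc_4_b0 cc_4_b1 cc_4_b2 cc_4_b3

theorem cc_7_b0 : blockChk false (CC.getD 7 []) 0 = true := by decide +kernel

theorem cc_7_b1 : blockChk false (CC.getD 7 []) 6 = true := by decide +kernel

theorem cc_7_b2 : blockChk false (CC.getD 7 []) 12 = true := by decide +kernel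

theorem cc_7_b3 : blockChk false (CC.getD 7 []) 18 = true := by decide +kernel

theorem cc_7 : RelOK false (CC.getD 7 []) := relOK_of_blocks cc_7_b0 cc_7_b1 cc_7_b2 cc_7_b3

theorem cc_13_b0 : blockChk false (CC.getD 13 []) 0 = true := by decide +kernel

theorem cc_13_b1 : blockChk false (CC.getD 13 []) 6 = true := by decide +kernel

theorem cc_13_b2 : blockChk false (CC.getD 13 []) 12 = true := by decide +kernel

theorem cc_13_b3 : blockChk false (CC.getD 13 []) 18 = true := by decide +kernel

theorem cc_13 : RelOK false (CC.getD 13 []) := relOK_of_blocks cc_13_b0 cc_13_b1 cc_13_b2 cc_13_b3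

theorem cc_18_b0 : blockChk false (CC.getD 18 []) 0 = true := by decide +kernel

theorem cc_18_b1 : blockChk false (CC.getD 18 []) 6 = true := by decide +kernel

theorem cc_18_b2 : blockChk false (CC.getD 18 []) 12 = true := by decide +kernel

theorem cc_18_b3 : blockChk false (CC.getD 18 []) 18 = true := by decide +kernel

theorem cc_18 : RelOK false (CC.getD 18 []) := relOK_of_blocks cc_18_b0 cc_18_b1 cc_18_b2 cc_18_b3

theorem cc_20_b0 : blockChk false (CC.getD 20 []) 0 = true := by decide +kernel

theorem cc_20_b1 : blockChk false (CC.getD 20 []) 6 = true := by decide +kernel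

theorem cc_20_b2 : blockChk false (CC.getD 20 []) 12 = true := by decide +kernel

theorem cc_20_b3 : blockChk false (CC.getD 20 []) 18 = true := by decide +kernel

theorem cc_20 : RelOK false (CC.getD 20 []) := relOK_of_blocks cc_20_b0 cc_20_b1 cc_20_b2 cc_20_b3

theorem cc_21_b0 : blockChk false (CC.getD 21 []) 0 = true := by decide +kernel

theorem cc_21_b1 : blockChk false (CC.getD 21 []) 6 = true := by decide +kernel

theorem cc_21_b2 : blockChk false (CC.getD 21 []) 12 = true := by decide +kernel

theorem cc_21_b3 : blockChk false (CC.getD 21 []) 18 = true := by decide +kernel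

theorem cc_21 : RelOK false (CC.getD 21 []) := relOK_of_blocks cc_21_b0 cc_21_b1 cc_21_b2 cc_21_b3

theorem pw_0_b0 : blockChk false (PW.getD 0 []) 0 = true := by decide +kernel

theorem pw_0_b1 : blockChk false (PW.getD 0 []) 6 = true := by decide +kernel

theorem pw_0_b2 : blockChk false (PW.getD 0 []) 12 = true := by decide +kernel

theorem pw_0_b3 : blockChk false (PW.getD 0 []) 18 = true := by decide +kernel

theorem pw_0 : RelOK false (PW.getD 0 []) := relOK_of_blocks pw_0_b0 pw_0_b1 pw_0_b2 pw_0_b3

theorem pw_2_b0 : blockChk false (PW.getD 2 []) 0 = true := by decide +kernel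

theorem pw_2_b1 : blockChk false (PW.getD 2 []) 6 = true := by decide +kernel

theorem pw_2_b2 : blockChk false (PW.getD 2 []) 12 = true := by decide +kernel

theorem pw_2_b3 : blockChk false (PW.getD 2 []) 18 = true := by decide +kernel

theorem pw_2 : RelOK false (PW.getD 2 []) := relOK_of_blocks pw_2_b0 pw_2_b1 pw_2_b2 pw_2_b3

theorem pw_7_b0 : blockChk false (PW.getD 7 []) 0 = true := by decide +kernel

theorem pw_7_b1 : blockChk false (PW.getD 7 []) 6 = true := by decide +kernel

theorem pw_7_b2 : blockChk false (PW.getD 7 []) 12 = true := by decide +kernel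

theorem pw_7_b3 : blockChk false (PW.getD 7 []) 18 = true := by decide +kernel

theorem pw_7 : RelOK false (PW.getD 7 []) := relOK_of_blocks pw_7_b0 pw_7_b1 pw_7_b2 pw_7_b3

end Cfsg.Agent.Helper3.U62L
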