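import Mathlib
import Cfsg.Agent.Helper3.U62LRel0

/-!
# The stabiliser of a pair of minimal vectors of the lattice of rank 24 and `PSU₆(2)`: the relators, part 4

Relators of the presentation `Cfsg.Agent.Helper3.U62Q.CC`, powers of the generators and products of a
generator with its inverse are checked to be the identity on the 24 vectors with one coordinate 8, six
vectors at a time (`U62L.blockChk`).
-/

set_option autoImplicit false
set_option maxRecDepth 100000

namespace Cfsg.Agent.Helper3.U62L

open Cfsg.Agent.Helper3.U62Q

theorem cc_2_b0 : blockChk false (CC.getD 2 []) 0 = true := by decide +kernel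

theorem cc_2_b1 : blockChk false (CC.getD 2 []) 6 = true := by decide +kernel

theorem cc_2_b2 : blockChk false (CC.getD 2 []) 12 = true := by decide +kernel

theorem cc_2_b3 : blockChk false (CC.getD 2 []) 18 = true := by decide +kernel

theorem cc_2 : RelOK false (CC.getD 2 []) := relOK_of_blocks cc_2_b0 cc_2_b1 cc_2_b2 cc_2_b3

theorem cc_5_b0 : blockChk false (CC.getD 5 []) 0 = true := by decide +kernel

theorem cc_5_b1 : blockChk false (CC.getD 5 []) 6 = true := by decide +kernel

theorem cc_5_b2 : blockChk false (CC.getD 5 []) 12 = true := by decide +kernel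

theorem cc_5_b3 : blockChk false (CC.getD 5 []) 18 = true := by decide +kernel

theorem cc_5 : RelOK false (CC.getD 5 []) := relOK_of_blocks cc_5_b0 cc_5_b1 cc_5_b2 cc_5_b3

theorem cc_6_b0 : blockChk false (CC.getD 6 []) 0 = true := by decide +kernel

theorem cc_6_b1 : blockChk false (CC.getD 6 []) 6 = true := by decide +kernel

theorem cc_6_b2 : blockChk false (CC.getD 6 []) 12 = true := by decide +kernel

theorem cc_6_b3 : blockChk false (CC.getD 6 []) 18 = true := by decide +kernel

theorem cc_6 : RelOK false (CC.getD 6 []) := relOK_of_blocks cc_6_b0 cc_6_b1 cc_6_b2 cc_6_b3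

theorem cc_9_b0 : blockChk false (CC.getD 9 []) 0 = true := by decide +kernel

theorem cc_9_b1 : blockChk false (CC.getD 9 []) 6 = true := by decide +kernel

theorem cc_9_b2 : blockChk false (CC.getD 9 []) 12 = true := by decide +kernel

theorem cc_9_b3 : blockChk false (CC.getD 9 []) 18 = true := by decide +kernel

theorem cc_9 : RelOK false (CC.getD 9 []) := relOK_of_blocks cc_9_b0 cc_9_b1 cc_9_b2 cc_9_b3

theorem cc_15_b0 : blockChk false (CC.getD 15 []) 0 = true := by decide +kernel

theorem cc_15_b1 : blockChk false (CC.getD 15 []) 6 = true := by decide +kernel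

theorem cc_15_b2 : blockChk false (CC.getD 15 []) 12 = true := by decide +kernel

theorem cc_15_b3 : blockChk false (CC.getD 15 []) 18 = true := by decide +kernel

theorem cc_15 : RelOK false (CC.getD 15 []) := relOK_of_blocks cc_15_b0 cc_15_b1 cc_15_b2 cc_15_b3

theorem cc_17_b0 : blockChk false (CC.getD 17 []) 0 = true := by decide +kernel

theorem cc_17_b1 : blockChk false (CC.getD 17 []) 6 = true := by decide +kernel

theorem cc_17_b2 : blockChk false (CC.getD 17 []) 12 = true := by decide +kernel

theorem cc_17_b3 : blockChk false (CC.getD 17 []) 18 = true := by decide +kernel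

theorem cc_17 : RelOK false (CC.getD 17 []) := relOK_of_blocks cc_17_b0 cc_17_b1 cc_17_b2 cc_17_b3

theorem cc_19_b0 : blockChk false (CC.getD 19 []) 0 = true := by decide +kernel

theorem cc_19_b1 : blockChk false (CC.getD 19 []) 6 = true := by decide +kernel

theorem cc_19_b2 : blockChk false (CC.getD 19 []) 12 = true := by decide +kernel

theorem cc_19_b3 : blockChk false (CC.getD 19 []) 18 = true := by decide +kernel

theorem cc_19 : RelOK false (CC.getD 19 []) := relOK_of_blocks cc_19_b0 cc_19_b1 cc_19_b2 cc_19_b3

theorem pw_5_b0 : blockChk false (PW.getD 5 []) 0 = true := by decide +kernel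

theorem pw_5_b1 : blockChk false (PW.getD 5 []) 6 = true := by decide +kernel

theorem pw_5_b2 : blockChk false (PW.getD 5 []) 12 = true := by decide +kernel

theorem pw_5_b3 : blockChk false (PW.getD 5 []) 18 = true := by decide +kernel

theorem pw_5 : RelOK false (PW.getD 5 []) := relOK_of_blocks pw_5_b0 pw_5_b1 pw_5_b2 pw_5_b3

theorem pw_9_b0 : blockChk false (PW.getD 9 []) 0 = true := by decide +kernel

theorem pw_9_b1 : blockChk false (PW.getD 9 []) 6 = true := by decide +kernel

theorem pw_9_b2 : blockChk false (PW.getD 9 []) 12 = true := by decide +kernel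

theorem pw_9_b3 : blockChk false (PW.getD 9 []) 18 = true := by decide +kernel

theorem pw_9 : RelOK false (PW.getD 9 []) := relOK_of_blocks pw_9_b0 pw_9_b1 pw_9_b2 pw_9_b3

end Cfsg.Agent.Helper3.U62L
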