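import Mathlib
import Cfsg.Agent.Helper3.U62LRel1
import Cfsg.Agent.Helper3.U62LRel2
import Cfsg.Agent.Helper3.U62LRel3
import Cfsg.Agent.Helper3.U62LRel4

/-!
# The stabiliser of a pair of minimal vectors of the lattice of rank 24 and `PSU₆(2)`: the relators, summary
-/

set_option autoImplicit false
set_option maxRecDepth 100000

namespace Cfsg.Agent.Helper3.U62L

open Cfsg.Agent.Helper3.U62Q

theorem cc_all : ∀ r ∈ CC, RelOK false r := by
  intro r hr
  have e : CC = [CC.getD 0 [], CC.getD 1 [], CC.getD 2 [], CC.getD 3 [], CC.getD 4 [], CC.getD 5 [], CC.getD 6 [], CC.getD 7 [], CC.getD 8 [], CC.getD 9 [], CC.getD 10 [], CC.getD 11 [], CC.getD 12 [], CC.getD 13 [], CC.getD 14 [], CC.getD 15 [], CC.getD 16 [], CC.getD 17 [], CC.getD 18 [], CC.getD 19 [], CC.getD 20 [], CC.getD 21 [], CC.getD 22 []] := by decide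
  rw [e] at hr
  simp only [List.mem_cons, List.not_mem_nil, or_false] at hr
  rcases hr with rfl | rfl | rfl | rfl | rfl | rfl | rfl | rfl | rfl | rfl | rfl | rfl | rfl | rfl | rfl | rfl | rfl | rfl | rfl | rfl | rfl | rfl | rfl
  · exact cc_0
  · exact cc_1
  · exact cc_2
  · exact cc_3
  · exact cc_4
  · exact cc_5
  · exact cc_6
  · exact cc_7
  · exact cc_8
  · exact cc_9
  · exact cc_10
  · exact cc_11
  · exact cc_12
  · exact cc_13
  · exact cc_14
  · exact cc_15
  · exact cc_16
  · exact cc_17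
  · exact cc_18
  · exact cc_19
  · exact cc_20
  · exact cc_21
  · exact cc_22

theorem cc_lt10 : ∀ r ∈ CC, ∀ c ∈ r, c < 10 := by decide

/-- the relators of the presentation hold. -/
theorem cc_prod : ∀ r ∈ CC, (r.map gw).prod = 1 := fun r hr =>
  relP_sound (rows_ok' (cc_lt10 r hr)) (cc_all r hr)

theorem pw_lt10 : ∀ r ∈ PW, ∀ c ∈ r, c < 10 := by decide

theorem gw_pow : ∀ i, i < 5 → gw (2 * i) ^ mm i = 1 := by
  intro i hi
  interval_cases i
  · have h := relP_sound (rows_ok' (pw_lt10 _ (by decide))) pw_0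
    simpa [PW, mm, pow_succ, mul_assoc] using h
  · have h := relP_sound (rows_ok' (pw_lt10 _ (by decide))) pw_1
    simpa [PW, mm, pow_succ, mul_assoc] using h
  · have h := relP_sound (rows_ok' (pw_lt10 _ (by decide))) pw_2
    simpa [PW, mm, pow_succ, mul_assoc] using h
  · have h := relP_sound (rows_ok' (pw_lt10 _ (by decide))) pw_3
    simpa [PW, mm, pow_succ, mul_assoc] using h
  · have h := relP_sound (rows_ok' (pw_lt10 _ (by decide))) pw_4
    simpa [PW, mm, pow_succ, mul_assoc] using h

theorem gw_mul_inv : ∀ i, i < 5 → gw (2 * i) * gw (2 * i + 1) = 1 := by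
  intro i hi
  interval_cases i
  · have h := relP_sound (rows_ok' (pw_lt10 _ (by decide))) pw_5
    simpa [PW] using h
  · have h := relP_sound (rows_ok' (pw_lt10 _ (by decide))) pw_6
    simpa [PW] using h
  · have h := relP_sound (rows_ok' (pw_lt10 _ (by decide))) pw_7
    simpa [PW] using h
  · have h := relP_sound (rows_ok' (pw_lt10 _ (by decide))) pw_8
    simpa [PW] using h
  · have h := relP_sound (rows_ok' (pw_lt10 _ (by decide))) pw_9
    simpa [PW] using h

end Cfsg.Agent.Helper3.U62L
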