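import Mathlib
import Cfsg.Agent.Helper3.U62LRel
import Cfsg.Agent.Helper3.U62LFix
import Cfsg.Agent.Helper3.U62Cov
import Cfsg.Agent.Helper9.Leech.McL9
import Cfsg.Agent.Helper9.Leech.Co2Simple
import Cfsg.Agent.Helper9.Leech.HS5
import Cfsg.Agent.Helper9.Leech.Pairs
import Cfsg.Agent.Helper9.Leech.Co1A
import Cfsg.Agent.S0283

/-!
# The stabiliser of a pair of minimal vectors of the lattice of rank 24 and `PSU₆(2)`

Let `v`, `w` be minimal vectors with inner product `-16`.  The stabiliser of `v`, `w` in the group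
of automorphisms of the lattice has order 9196830720 (the stabiliser of `v` has order
42305421312000 and is transitive on the 4600 vectors `w`), and for the standard pair it contains
four elements of order 5 and one of order 2 satisfying the relators of the presentation of the
threefold cover of `PSU₆(2)`; the simplicity of `PSU₆(2)` gives the isomorphism.
-/

set_option autoImplicit false

namespace Cfsg.Agent.Helper3.U62L

open Cfsg Cfsg.Agent.Helper9.Golay Cfsg.Agent.Helper9.Leech Cfsg.Agent.Helper9.LeechAct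
  Cfsg.Agent.Helper5.StemP Cfsg.Agent.Helper5.LP Cfsg.Agent.Helper3.U62X

/-- the stabiliser of two vectors. -/
abbrev stab2 (v w : ↥leechLattice) : Subgroup ↥Co0 :=
  MulAction.stabilizer ↥Co0 v ⊓ MulAction.stabilizer ↥Co0 w

/-! ### the order of the stabiliser -/

set_option maxRecDepth 100000 in
theorem cnt_al1_16 : cntFast al1 (-16) = 4600 := by decide +kernel

section card
variable (v w : ↥leechLattice) (hv : sqNorm (v : GolayPt → ℤ) = 32)
  (hw : sqNorm (w : GolayPt → ℤ) = 32)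
  (hd : dotInt (v : GolayPt → ℤ) (w : GolayPt → ℤ) = -16)

include hv in
theorem card_4600 : {y : ↥leechLattice | sqNorm (y : GolayPt → ℤ) = 32 ∧
    dotInt (v : GolayPt → ℤ) (y : GolayPt → ℤ) = -16}.ncard = 4600 := by
  obtain ⟨g, hg⟩ := trans32 v std1 hv sqNorm_std1
  have hg' : ((g • v : ↥leechLattice) : GolayPt → ℤ) = toVec al1 := by
    rw [hg, std1_eq]
  exact ncard_min_of_smul v g al1 rfl hg' (-16) 4600 cnt_al1_16

/-- the stabiliser of the second vector in the stabiliser of the first. -/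
def stabEquiv : ↥(MulAction.stabilizer ↥(MulAction.stabilizer ↥Co0 v) w) ≃ ↥(stab2 v w) where
  toFun k := ⟨k.1.1, ⟨k.1.2, k.2⟩⟩
  invFun s := ⟨⟨s.1, s.2.1⟩, s.2.2⟩
  left_inv _ := rfl
  right_inv _ := rfl

include hv hw hd in
theorem orbit_eq : MulAction.orbit ↥(MulAction.stabilizer ↥Co0 v) w =
    {y : ↥leechLattice | sqNorm (y : GolayPt → ℤ) = 32 ∧
      dotInt (v : GolayPt → ℤ) (y : GolayPt → ℤ) = -16} := by
  ext y
  constructor
  · rintro ⟨k, rfl⟩
    obtain ⟨k0, hk⟩ := k
    rw [MulAction.mem_stabilizer_iff] at hk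
    change sqNorm ((k0 • w : ↥leechLattice) : GolayPt → ℤ) = 32 ∧
      dotInt (v : GolayPt → ℤ) ((k0 • w : ↥leechLattice) : GolayPt → ℤ) = -16
    refine ⟨(co0_sqNorm k0 w).trans hw, ?_⟩
    have e := co0_dot k0 v w
    rw [hk] at e
    rw [e]
    exact hd
  · intro hy
    obtain ⟨k0, h1, h2⟩ := trans_pair16 v w y hv hw hy.1 hd hy.2
    exact ⟨⟨k0, MulAction.mem_stabilizer_iff.mpr h1⟩, h2⟩

include hv hw hd in
theorem card_stab2 : Nat.card ↥(stab2 v w) = 9196830720 := by
  have h4 := Subgroup.card_mul_index (MulAction.stabilizer ↥(MulAction.stabilizer ↥Co0 v) w)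
  rw [MulAction.index_stabilizer, orbit_eq v w hv hw hd, card_4600 v hv,
    (co2_simple_card v hv).2, Nat.card_congr (stabEquiv v w)] at h4
  omega

end card

/-! ### moving the pair -/

/-- conjugation between the stabilisers of two pairs in the same orbit. -/
def conjEquiv (g : ↥Co0) {v w v' w' : ↥leechLattice} (hv : g • v = v') (hw : g • w = w') :
    ↥(stab2 v w) ≃* ↥(stab2 v' w') where
  toFun k := ⟨g * k.1 * g⁻¹, by
    have hk := k.2
    rw [Subgroup.mem_inf, MulAction.mem_stabilizer_iff, MulAction.mem_stabilizer_iff] at hk ⊢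
    refine ⟨?_, ?_⟩
    · rw [← hv, mul_smul, mul_smul, inv_smul_smul, hk.1]
    · rw [← hw, mul_smul, mul_smul, inv_smul_smul, hk.2]⟩
  invFun k := ⟨g⁻¹ * k.1 * g, by
    have hk := k.2
    rw [Subgroup.mem_inf, MulAction.mem_stabilizer_iff, MulAction.mem_stabilizer_iff] at hk ⊢
    refine ⟨?_, ?_⟩
    · rw [mul_smul, mul_smul, hv, hk.1, ← hv, inv_smul_smul]
    · rw [mul_smul, mul_smul, hw, hk.2, ← hw, inv_smul_smul]⟩
  left_inv k := by
    apply Subtype.ext
    show g⁻¹ * (g * k.1 * g⁻¹) * g = k.1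
    group
  right_inv k := by
    apply Subtype.ext
    show g * (g⁻¹ * k.1 * g) * g⁻¹ = k.1
    group
  map_mul' k k' := by
    apply Subtype.ext
    show g * (k.1 * k'.1) * g⁻¹ = (g * k.1 * g⁻¹) * (g * k'.1 * g⁻¹)
    group

theorem stabilizer_neg (x : ↥leechLattice) :
    MulAction.stabilizer ↥Co0 (-x) = MulAction.stabilizer ↥Co0 x := by
  ext k
  rw [MulAction.mem_stabilizer_iff, MulAction.mem_stabilizer_iff, smul_neg', neg_inj]

/-! ### the generators in the stabiliser of the standard pair -/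

/-- the stabiliser of the standard pair. -/
abbrev SS : Subgroup ↥Co0 := stab2 std1 xstd

/-- the automorphism of a letter, in the group of automorphisms. -/
def gC (c : ℕ) : ↥Co0 := ⟨gw c, gw_mem c⟩

theorem gC_mem {c : ℕ} (hc : c < 10) : gC c ∈ SS := by
  rw [Subgroup.mem_inf, MulAction.mem_stabilizer_iff, MulAction.mem_stabilizer_iff]
  exact ⟨gw_std1 hc, gw_xstd hc⟩

/-- the letters, in the stabiliser. -/
def gS (c : ℕ) : ↥SS := if h : c < 10 then ⟨gC c, gC_mem h⟩ else 1

theorem coe_gS {c : ℕ} (hc : c < 10) :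
    (((gS c : ↥SS) : ↥Co0) : Equiv.Perm ↥leechLattice) = gw c := by
  unfold gS
  rw [dif_pos hc]
  rfl

/-- the generators. -/
def gen (i : ℕ) : ↥SS := gS (2 * i)

theorem gS_mul_inv {i : ℕ} (hi : i < 5) : gS (2 * i) * gS (2 * i + 1) = 1 := by
  apply Subtype.ext
  apply Subtype.ext
  rw [Subgroup.coe_mul, Subgroup.coe_mul, coe_gS (by omega), coe_gS (by omega), gw_mul_inv i hi]
  rfl

theorem lval_gS : ∀ c, c < 10 → lval gen c = gS c := by
  intro c hc
  obtain ⟨i, rfl | rfl⟩ : ∃ i, c = 2 * i ∨ c = 2 * i + 1 := ⟨c / 2, by omega⟩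
  · rw [lval_even]
    rfl
  · rw [lval_odd]
    have h := eq_inv_of_mul_eq_one_right (gS_mul_inv (i := i) (by omega))
    rw [h]
    rfl

theorem word_coe : ∀ l : List ℕ, (∀ c ∈ l, c < 10) →
    ((((l.map (lval gen)).prod : ↥SS) : ↥Co0) : Equiv.Perm ↥leechLattice) = (l.map gw).prod
  | [], _ => rfl
  | c :: l, h => by
    rw [List.map_cons, List.prod_cons, List.map_cons, List.prod_cons, Subgroup.coe_mul,
      Subgroup.coe_mul, word_coe l (fun c hc => h c (List.mem_cons_of_mem _ hc)),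
      lval_gS c (h c List.mem_cons_self), coe_gS (h c List.mem_cons_self)]

open Cfsg.Agent.Helper3.U62Q Cfsg.Agent.Helper3.U62

theorem CC_relS : ∀ r ∈ CC, (r.map (lval gen)).prod = 1 := by
  intro r hr
  apply Subtype.ext
  apply Subtype.ext
  rw [word_coe r (cc_lt10 r hr), cc_prod r hr]
  rfl

theorem CC2_relS : ∀ r ∈ CC ++ CC, (r.map (lval gen)).prod = 1 := by
  intro r hr
  rcases List.mem_append.mp hr with h | h <;> exact CC_relS r h

theorem gen_pow : ∀ i, i < 5 → gen i ^ mm i = 1 := by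
  intro i hi
  apply Subtype.ext
  apply Subtype.ext
  unfold gen
  rw [SubmonoidClass.coe_pow, SubmonoidClass.coe_pow, coe_gS (by omega), gw_pow i hi]
  rfl

/-! ### the homomorphism from the threefold cover -/

/-- the homomorphism from the threefold cover. -/
noncomputable def psi : CovG 5 mm CC CC 9 →* ↥SS :=
  coverHomU 5 mm CC CC 9 CC2_lt gen gen_pow CC2_relS

theorem psi_ev (l : List ℕ) (hl : ∀ c ∈ l, c < 2 * 5) :
    psi (ev (2 * 5) (coverRels 5 mm CC CC 9) l) = (l.map (lval gen)).prod :=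
  coverHomU_ev 5 mm CC CC 9 CC2_lt gen gen_pow CC2_relS l hl

theorem z0_ker_psi : z0 ∈ psi.ker :=
  coverHomU_ker 5 mm CC CC 9 CC2_lt gen gen_pow CC2_relS w0_mem

theorem card_ker_piF : Nat.card piF.ker = 3 := by
  obtain ⟨e⟩ := stem_Q.1.2
  rw [Nat.card_congr e.toEquiv]
  simp

theorem ker_piF_eq : piF.ker = Subgroup.zpowers z0 := by
  have hfin : Finite piF.ker := Nat.finite_of_card_ne_zero (by rw [card_ker_piF]; norm_num)
  symm
  apply Subgroup.eq_of_le_of_card_ge (Subgroup.zpowers_le.mpr z0_ker)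
  rw [card_ker_piF, Nat.card_zpowers]
  have h3 : z0 ^ 3 = 1 := by
    have h := pow_card_eq_one' (G := piF.ker) (x := ⟨z0, z0_ker⟩)
    rw [card_ker_piF] at h
    exact congrArg Subtype.val h
  have hd : orderOf z0 ∣ 3 := orderOf_dvd_of_pow_eq_one h3
  have hne : orderOf z0 ≠ 1 := by
    intro h
    apply z0_ne
    rw [show 3 ^ (1 - 1) = 1 from rfl, pow_one]
    exact orderOf_eq_one_iff.mp h
  rcases (Nat.dvd_prime Nat.prime_three).mp hd with h | h
  · exact absurd h hne
  · rw [h]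

theorem ker_le : piF.ker ≤ psi.ker := by
  rw [ker_piF_eq]
  exact Subgroup.zpowers_le.mpr z0_ker_psi

/-- the homomorphism from `PSU₆(2)`. -/
noncomputable def phiS : GG →* ↥SS := piF.liftOfSurjective piF_surj ⟨psi, ker_le⟩

theorem phiS_piF (y : CovG 5 mm CC CC 9) : phiS (piF y) = psi y :=
  MonoidHom.liftOfRightInverse_comp_apply piF _ (Function.rightInverse_surjInv piF_surj)
    ⟨psi, ker_le⟩ y

theorem gen0_ne_one : gen 0 ≠ 1 := by
  intro h
  apply gw0_ne_one
  have := congrArg (fun s : ↥SS => ((s : ↥Co0) : Equiv.Perm ↥leechLattice)) h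
  simpa [gen, coe_gS] using this

theorem phiS_g0 : phiS (g3 0) = gen 0 := by
  have h1 : piF (ev (2 * 5) (coverRels 5 mm CC CC 9) [0]) = g3 0 := by
    rw [piF_ev [0] (by decide)]
    simp [lval]
  rw [← h1, phiS_piF, psi_ev [0] (by decide)]
  simp [lval]

theorem phiS_injective : Function.Injective phiS := by
  have hs : IsSimpleGroup GG := Cfsg.Agent.S0283.result hK 6 (by norm_num) (by norm_num)
  rw [← MonoidHom.ker_eq_bot_iff]
  rcases (phiS.normal_ker).eq_bot_or_eq_top with h | h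
  · exact h
  · exfalso
    apply gen0_ne_one
    rw [← phiS_g0, ← MonoidHom.mem_ker, h]
    exact Subgroup.mem_top _

theorem std_dot : dotInt ((std1 : ↥leechLattice) : GolayPt → ℤ)
    ((-xstd : ↥leechLattice) : GolayPt → ℤ) = -16 := by
  rw [AddSubgroup.coe_neg, dot_neg_right, dot_std1_xstd]

theorem sqNorm_neg_xstd : sqNorm ((-xstd : ↥leechLattice) : GolayPt → ℤ) = 32 := by
  rw [AddSubgroup.coe_neg, sqNorm_neg, sqNorm_xstd]

theorem SS_eq : SS = stab2 std1 (-xstd) := by
  unfold SS stab2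
  rw [stabilizer_neg]

theorem card_SS : Nat.card ↥SS = 9196830720 := by
  rw [SS_eq]
  exact card_stab2 std1 (-xstd) sqNorm_std1 sqNorm_neg_xstd std_dot

instance finSS : Finite ↥SS := Nat.finite_of_card_ne_zero (by rw [card_SS]; norm_num)

theorem phiS_bijective : Function.Bijective phiS := by
  rw [Nat.bijective_iff_injective_and_card]
  exact ⟨phiS_injective, by rw [card_SS, card_GG]⟩

/-- the isomorphism for the standard pair. -/
noncomputable def isoStd : GG ≃* ↥SS := MulEquiv.ofBijective phiS phiS_bijective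

/-- the stabiliser of a pair is isomorphic to `PSU₆(2)`. -/
theorem iso_main (v w : ↥leechLattice) (hv : sqNorm (v : GolayPt → ℤ) = 32)
    (hw : sqNorm (w : GolayPt → ℤ) = 32)
    (hd : dotInt (v : GolayPt → ℤ) (w : GolayPt → ℤ) = -16) :
    Nonempty (↥(stab2 v w) ≃* GG) := by
  obtain ⟨g1, hg1⟩ := trans32 v std1 hv sqNorm_std1
  have hd1 : dotInt ((std1 : ↥leechLattice) : GolayPt → ℤ)
      ((g1 • w : ↥leechLattice) : GolayPt → ℤ) = -16 := by
    rw [← hg1, co0_dot]
    exact hd
  obtain ⟨g2, h1, h2⟩ := trans_pair16 std1 (g1 • w) (-xstd) sqNorm_std1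
    ((co0_sqNorm g1 w).trans hw) sqNorm_neg_xstd hd1 std_dot
  have e1 : ↥(stab2 v w) ≃* ↥(stab2 std1 (-xstd)) :=
    conjEquiv (g2 * g1) (by rw [mul_smul', hg1, h1]) (by rw [mul_smul', h2])
  have e2 : ↥(stab2 std1 (-xstd)) ≃* ↥SS := MulEquiv.subgroupCongr SS_eq.symm
  exact ⟨(e1.trans e2).trans isoStd.symm⟩

end Cfsg.Agent.Helper3.U62L
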