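import Cfsg.Agent.Helper3.U62PADat

/-! generated labelled Todd-Coxeter certificate: U62PA -/

set_option autoImplicit false
set_option Elab.async false
set_option maxRecDepth 1000000

namespace Cfsg.Agent.Helper3.U62PA
open Cfsg.Agent.Helper5.LTC

def ju_0 : List ℕ := [0xe3, 0x0, 0x0, 0x8000014000008000080201b, 0x0, 0x0, 0x2000002c0000080001002017, 0x0, 0x0, 0x380000440000080001802017, 0x0, 0x0, 0x5000005c000008000200201b, 0x0, 0x6800002800000800000000000000000c00002c00006c000020000240805b, 0x7400006800002800000800000000000c00002c00006c00002000024080a9, 0x7000007000007000000c0002403015, 0x6800002800000800000000000c00002c00006c000070000070000024000240901d, 0x0, 0x68000094000008000280201b, 0x0, 0x580000200000080000040000140000440000480000a40000200002c08063, 0xa000003800001800002c00009400009800007000006800003000005c0000ac00002c0002c0b0c5, 0x0, 0xa00000bc000008000300201b, 0xb800003800001000000000000000001400003c0000bc0000200003008037, 0xc80000c00000a80000600000500000200000080000000000140000440000480000bc000030000300c091, 0x0, 0x900000300000200000080000040000140000440000dc000020000340802f, 0x0, 0xd80000ec000008000380201b, 0x0, 0x0, 0xf80001040000080004002017, 0x0, 0xa80001140000080004402017,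 0x0, 0xe00001240000080004802017, 0x10000005000002000001c0000440000dc0000e0000124000020000480801f, 0x0, 0x1180000c40000c80000b80000380000440000ec00013c0000200004c0803b, 0x0, 0x13800014c0000080005002017, 0xf80000640001140001180000a000004c0000ec00014c0000200005008033, 0x0, 0x158000164008000000540001b, 0x16c0001500001380000f000012c000130000108000164000020000540802f, 0x0, 0x13000017c000008000580201b, 0x17800010800016400017000017000016000010c00017c0000200005808037, 0x0, 0x1400001940000080005c0201b, 0x1900001180000c40000c80000c80000c000011c0001940000200005c08037]

theorem len_0 : ju_0.length = 53 := by decide +kernel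

theorem chk_0 : checkList cert 0 ju_0 = true := by decide +kernel

end Cfsg.Agent.Helper3.U62PA
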