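import Mathlib
import Cfsg.Agent.Helper7.UTyA

set_option autoImplicit false
set_option linter.unusedSectionVars false
set_option linter.unusedVariables false

/-!
Unitary-type structures on an alternating space (helper7's `US`): a frame gives a basis adapted to both the form
and the structure, and any two structures (with the same `z`) admitting frames are conjugate under an isometry.
-/

namespace Cfsg.Agent.Helper3.UTy

open Module Cfsg.Agent.Helper7.SpOrd Cfsg.Agent.Helper7.UTy

variable {F : Type*} [Field F] {V : Type*} [AddCommGroup V] [Module F V]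

/-- the Gram matrix of a frame. -/
theorem frame_gram {B : LinearMap.BilinForm F V} {δ : Module.End F V} {z : F} (hS : US B δ z) {d : ℕ}
    {v : Fin d → V} (hv : IsFrame B δ v) (x y : Fin d ⊕ Fin d) :
    B (Sum.elim v (fun i => δ (v i)) x) (Sum.elim v (fun i => δ (v i)) y) =
      (match x, y with
        | Sum.inl i, Sum.inr j => if i = j then (-1 : F) else 0
        | Sum.inr i, Sum.inl j => if i = j then (1 : F) else 0
        | _, _ => 0) := by
  rcases x with i | i <;> rcases y with j | j
  · exact hv.1 i j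
  · simp only [Sum.elim_inl, Sum.elim_inr]
    have h1 := hS.skew (v i) (v j)
    have h2 : B (v i) (δ (v j)) = - B (δ (v i)) (v j) := by rw [h1, neg_neg]
    rw [h2, hv.2 i j]
    by_cases h : i = j
    · rw [if_pos h, if_pos h]
    · rw [if_neg h, if_neg h, neg_zero]
  · exact hv.2 i j
  · simp only [Sum.elim_inr]
    rw [hS.skew, hS.sq, map_smul, hv.1 i j, smul_zero, neg_zero]

/-- (A) a frame together with its `δ`-images is a basis. -/
theorem frame_basis [FiniteDimensional F V] {B : LinearMap.BilinForm F V} {δ : Module.End F V} {z : F}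
    (hS : US B δ z) {d : ℕ} (hd : finrank F V = 2 * d) {v : Fin d → V} (hv : IsFrame B δ v) :
    LinearIndependent F (Sum.elim v (fun i => δ (v i))) ∧
      ⊤ ≤ Submodule.span F (Set.range (Sum.elim v (fun i => δ (v i)))) := by
  have hAlt : Cfsg.Agent.Helper8.SpS.Alt B := fun x => hS.alt x
  have he : ∀ i j, B (δ (v i)) (δ (v j)) = 0 := by
    intro i j
    have := frame_gram hS hv (Sum.inr i) (Sum.inr j)
    simpa using this
  have hli0 := Cfsg.Agent.Helper8.SpS.linearIndependent_family B hAlt (fun i => δ (v i)) v he hv.1 hv.2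
  have hli : LinearIndependent F (Sum.elim v (fun i => δ (v i))) := by
    have := hli0.comp Sum.swap Sum.swap_leftInverse.injective
    rwa [Sum.elim_swap] at this
  refine ⟨hli, ?_⟩
  rw [hli.span_eq_top_of_card_eq_finrank' (by rw [Fintype.card_sum, Fintype.card_fin, hd]; ring)]

/-- the basis of a frame. -/
noncomputable def frameBasis [FiniteDimensional F V] {B : LinearMap.BilinForm F V} {δ : Module.End F V} {z : F}
    (hS : US B δ z) {d : ℕ} (hd : finrank F V = 2 * d) {v : Fin d → V} (hv : IsFrame B δ v) :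
    Basis (Fin d ⊕ Fin d) F V :=
  Basis.mk (frame_basis hS hd hv).1 (frame_basis hS hd hv).2

theorem frameBasis_apply [FiniteDimensional F V] {B : LinearMap.BilinForm F V} {δ : Module.End F V} {z : F}
    (hS : US B δ z) {d : ℕ} (hd : finrank F V = 2 * d) {v : Fin d → V} (hv : IsFrame B δ v)
    (x : Fin d ⊕ Fin d) : frameBasis hS hd hv x = Sum.elim v (fun i => δ (v i)) x := by
  rw [frameBasis, Basis.mk_apply]

/-- (B), with the frames given: two unitary-type structures with frames are conjugate under an isometry. -/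
theorem exists_conj_of_frames [FiniteDimensional F V] {B : LinearMap.BilinForm F V} {δ₁ δ₂ : Module.End F V}
    {z : F} (hS₁ : US B δ₁ z) (hS₂ : US B δ₂ z) {d : ℕ} (hd : finrank F V = 2 * d) {v w : Fin d → V}
    (hv : IsFrame B δ₁ v) (hw : IsFrame B δ₂ w) :
    ∃ g : V ≃ₗ[F] V, (∀ x y, B (g x) (g y) = B x y) ∧ (∀ x, g (δ₁ x) = δ₂ (g x)) ∧ ∀ i, g (v i) = w i := by
  set b₁ := frameBasis hS₁ hd hv with hb₁
  set b₂ := frameBasis hS₂ hd hw with hb₂
  set g : V ≃ₗ[F] V := b₁.equiv b₂ (Equiv.refl _) with hg
  have hgb : ∀ x, g (b₁ x) = b₂ x := by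
    intro x
    rw [hg, Basis.equiv_apply, Equiv.refl_apply]
  refine ⟨g, ?_, ?_, ?_⟩
  · have h1 : B.compl₁₂ (g : V →ₗ[F] V) (g : V →ₗ[F] V) = B := by
      apply LinearMap.ext_basis b₁ b₁
      intro x y
      rw [LinearMap.compl₁₂_apply, LinearEquiv.coe_coe, hgb, hgb, hb₁, hb₂, frameBasis_apply, frameBasis_apply,
        frameBasis_apply, frameBasis_apply, frame_gram hS₁ hv, frame_gram hS₂ hw]
    intro x y
    have := LinearMap.congr_fun₂ h1 x y
    rwa [LinearMap.compl₁₂_apply] at this
  · have h1 : (g : V →ₗ[F] V) ∘ₗ δ₁ = δ₂ ∘ₗ (g : V →ₗ[F] V) := by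
      apply b₁.ext
      intro x
      rw [LinearMap.comp_apply, LinearMap.comp_apply, LinearEquiv.coe_coe, hgb]
      rcases x with i | i
      · have e1 : δ₁ (b₁ (Sum.inl i)) = b₁ (Sum.inr i) := by
          rw [hb₁, frameBasis_apply, frameBasis_apply]; rfl
        have e2 : δ₂ (b₂ (Sum.inl i)) = b₂ (Sum.inr i) := by
          rw [hb₂, frameBasis_apply, frameBasis_apply]; rfl
        rw [e1, e2, hgb]
      · have e1 : δ₁ (b₁ (Sum.inr i)) = z • b₁ (Sum.inl i) := by
          rw [hb₁, frameBasis_apply, frameBasis_apply]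
          exact hS₁.sq _
        have e2 : δ₂ (b₂ (Sum.inr i)) = z • b₂ (Sum.inl i) := by
          rw [hb₂, frameBasis_apply, frameBasis_apply]
          exact hS₂.sq _
        rw [e1, e2, map_smul, hgb]
    intro x
    have := LinearMap.congr_fun h1 x
    simpa using this
  · intro i
    have := hgb (Sum.inl i)
    rwa [hb₁, hb₂, frameBasis_apply, frameBasis_apply] at this

end Cfsg.Agent.Helper3.UTy
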