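import Mathlib
import Cfsg.Agent.Helper3.UTyA

set_option autoImplicit false
set_option linter.unusedSectionVars false
set_option linter.unusedVariables false

/-!
Existence of unitary-type structures (helper7's `US`) on an alternating space commuting or anticommuting with
a given isometry `X` with `X² = ±1`: an `X`-adapted symplectic family, built by induction on invariant
nondegenerate subspaces.
-/

namespace Cfsg.Agent.Helper3.UTy

open Module Cfsg.Agent.Helper7.SpOrd Cfsg.Agent.Helper7.UTy

variable {F : Type*} [Field F] {V : Type*} [AddCommGroup V] [Module F V]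

/-- an `X`-adapted symplectic family: `X e i = ε i • e i`, `X f i = (ε i)⁻¹ • f i`. -/
theorem exists_adapted_family [FiniteDimensional F V] (h2 : (2 : F) ≠ 0) {B : LinearMap.BilinForm F V}
    (hB : B.IsAlt) {X : Module.End F V} (hiso : ∀ u v, B (X u) (X v) = B u v) {μ : F} (hμ : μ ^ 4 = 1)
    (hX : ∀ v, X (X v) = (μ * μ) • v) :
    ∀ (n : ℕ) (W : Submodule F V), (∀ x ∈ W, X x ∈ W) → ND B W → finrank F ↥W = n →
    ∃ (k : ℕ) (e f : Fin k → V) (ε : Fin k → F),
      (∀ i, e i ∈ W) ∧ (∀ i, f i ∈ W) ∧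
      (∀ i j, B (e i) (e j) = 0) ∧ (∀ i j, B (f i) (f j) = 0) ∧
      (∀ i j, B (e i) (f j) = if i = j then 1 else 0) ∧
      (∀ i, ε i * ε i = μ * μ) ∧ (∀ i, X (e i) = ε i • e i) ∧ (∀ i, X (f i) = (ε i)⁻¹ • f i) ∧
      W ≤ Submodule.span F (Set.range e ∪ Set.range f) := by
  intro n
  induction n using Nat.strong_induction_on with
  | _ n ih =>
    intro W hWX hW hn
    by_cases hbot : W = ⊥
    · refine ⟨0, Fin.elim0, Fin.elim0, Fin.elim0, fun i => i.elim0, fun i => i.elim0, fun i => i.elim0,
        fun i => i.elim0, fun i => i.elim0, fun i => i.elim0, fun i => i.elim0, fun i => i.elim0, ?_⟩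
      rw [hbot]
      exact bot_le
    · obtain ⟨u₀, hu₀W, hu₀⟩ := Submodule.exists_mem_ne_zero_of_ne_bot hbot
      have hμ0 : μ ≠ 0 := by
        rintro rfl
        simp at hμ
      have hμ4 : (μ * μ) * (μ * μ) = 1 := by rw [← hμ]; ring
      obtain ⟨u, ε, huW, hu0, hε, hXu⟩ :
          ∃ (u : V) (ε : F), u ∈ W ∧ u ≠ 0 ∧ ε * ε = μ * μ ∧ X u = ε • u := by
        by_cases h : X u₀ + μ • u₀ = 0
        · refine ⟨u₀, -μ, hu₀W, hu₀, by ring, ?_⟩
          rw [neg_smul]
          exact eq_neg_of_add_eq_zero_left h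
        · refine ⟨X u₀ + μ • u₀, μ, W.add_mem (hWX _ hu₀W) (W.smul_mem _ hu₀W), h, rfl, ?_⟩
          rw [map_add, map_smul, hX, smul_add, smul_smul, add_comm]
      have hε0 : ε ≠ 0 := by
        rintro rfl
        rw [zero_mul] at hε
        exact mul_ne_zero hμ0 hμ0 hε.symm
      have hεinv : ε⁻¹ = μ * μ * ε := by
        apply (eq_inv_of_mul_eq_one_left _).symm
        rw [mul_assoc, hε, hμ4]
      have hε4 : ε⁻¹ * ε⁻¹ = μ * μ := by
        rw [hεinv]
        calc μ * μ * ε * (μ * μ * ε) = (μ * μ) * (μ * μ) * (ε * ε) := by ring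
          _ = μ * μ := by rw [hμ4, one_mul, hε]
      obtain ⟨w, hwW, huw⟩ := hW u huW hu0
      have hiso1 : ∀ y, B u (X y) = ε⁻¹ * B u y := by
        intro y
        have := hiso u y
        rw [hXu, map_smul, LinearMap.smul_apply, smul_eq_mul] at this
        rw [← this, ← mul_assoc, inv_mul_cancel₀ hε0, one_mul]
      obtain ⟨w', hw'⟩ : ∃ w' : V, w' = X w + ε⁻¹ • w := ⟨_, rfl⟩
      have hw'W : w' ∈ W := by
        rw [hw']
        exact W.add_mem (hWX _ hwW) (W.smul_mem _ hwW)
      have hXw' : X w' = ε⁻¹ • w' := by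
        rw [hw', map_add, map_smul, hX, smul_add, smul_smul, hε4, add_comm]
      have huw' : B u w' ≠ 0 := by
        rw [hw', map_add, map_smul, hiso1, smul_eq_mul, ← two_mul]
        exact mul_ne_zero h2 (mul_ne_zero (inv_ne_zero hε0) huw)
      obtain ⟨f₀, hf₀⟩ : ∃ f₀ : V, f₀ = (B u w')⁻¹ • w' := ⟨_, rfl⟩
      have hf₀W : f₀ ∈ W := by
        rw [hf₀]
        exact W.smul_mem _ hw'W
      have huf : B u f₀ = 1 := by rw [hf₀, map_smul, smul_eq_mul, inv_mul_cancel₀ huw']
      have hfu : B f₀ u = -1 := by rw [← LinearMap.IsAlt.neg hB u f₀, huf]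
      have hXf : X f₀ = ε⁻¹ • f₀ := by rw [hf₀, map_smul, hXw', smul_comm]
      have hiso2 : ∀ y, B f₀ (X y) = ε * B f₀ y := by
        intro y
        have := hiso f₀ y
        rw [hXf, map_smul, LinearMap.smul_apply, smul_eq_mul] at this
        rw [← this, ← mul_assoc, mul_inv_cancel₀ hε0, one_mul]
      obtain ⟨H, hH⟩ : ∃ H : Submodule F V, H = (LinearMap.ker (B u) ⊓ LinearMap.ker (B f₀)) ⊓ W := ⟨_, rfl⟩
      have hmemH : ∀ x, x ∈ H ↔ (B u x = 0 ∧ B f₀ x = 0) ∧ x ∈ W := by
        intro x
        rw [hH, Submodule.mem_inf, Submodule.mem_inf, LinearMap.mem_ker, LinearMap.mem_ker]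
      have hdec : ∀ x ∈ W, x + (B f₀ x) • u - (B u x) • f₀ ∈ H := by
        intro x hx
        rw [hmemH]
        refine ⟨⟨?_, ?_⟩, ?_⟩
        · rw [map_sub, map_add, map_smul, map_smul, hB u, huf, smul_eq_mul, smul_eq_mul]; ring
        · rw [map_sub, map_add, map_smul, map_smul, hB f₀, hfu, smul_eq_mul, smul_eq_mul]; ring
        · exact W.sub_mem (W.add_mem hx (W.smul_mem _ huW)) (W.smul_mem _ hf₀W)
      have hHW : H ≤ W := by
        rw [hH]
        exact inf_le_right
      have hHX : ∀ x ∈ H, X x ∈ H := by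
        intro x hx
        obtain ⟨⟨h1, h2'⟩, h3⟩ := (hmemH x).mp hx
        rw [hmemH]
        refine ⟨⟨?_, ?_⟩, hWX x h3⟩
        · rw [hiso1, h1, mul_zero]
        · rw [hiso2, h2', mul_zero]
      have hHnd : ND B H := by
        intro a ha ha0
        obtain ⟨⟨h1, h2'⟩, h3⟩ := (hmemH a).mp ha
        obtain ⟨y, hyW, hay⟩ := hW a h3 ha0
        refine ⟨_, hdec y hyW, ?_⟩
        have e1 : B a u = 0 := by rw [← LinearMap.IsAlt.neg hB u a, h1, neg_zero]
        have e2 : B a f₀ = 0 := by rw [← LinearMap.IsAlt.neg hB f₀ a, h2', neg_zero]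
        rw [map_sub, map_add, map_smul, map_smul, e1, e2, smul_zero, smul_zero, add_zero, sub_zero]
        exact hay
      have hlt : finrank F ↥H < n := by
        rw [← hn]
        apply Submodule.finrank_lt_finrank_of_lt
        refine lt_of_le_of_ne hHW ?_
        intro heq
        have : u ∈ H := by rw [heq]; exact huW
        have h3 := ((hmemH u).mp this).1.2
        rw [hfu] at h3
        exact one_ne_zero (neg_eq_zero.mp h3)
      obtain ⟨k, e', f', ε', he'W, hf'W, he', hf', hef', hε', hXe', hXf', hsp'⟩ :=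
        ih _ hlt H hHX hHnd rfl
      have hue : ∀ i, B u (e' i) = 0 := fun i => ((hmemH _).mp (he'W i)).1.1
      have hfe : ∀ i, B f₀ (e' i) = 0 := fun i => ((hmemH _).mp (he'W i)).1.2
      have huf' : ∀ i, B u (f' i) = 0 := fun i => ((hmemH _).mp (hf'W i)).1.1
      have hff : ∀ i, B f₀ (f' i) = 0 := fun i => ((hmemH _).mp (hf'W i)).1.2
      have hsw : ∀ {a b : V}, B a b = 0 → B b a = 0 := by
        intro a b h
        rw [← LinearMap.IsAlt.neg hB a b, h, neg_zero]
      refine ⟨k + 1, Fin.cons u e', Fin.cons f₀ f', Fin.cons ε ε', ?_, ?_, ?_, ?_, ?_, ?_, ?_, ?_, ?_⟩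
      · intro i
        refine Fin.cases ?_ (fun i' => ?_) i
        · simp only [Fin.cons_zero]; exact huW
        · simp only [Fin.cons_succ]; exact hHW (he'W i')
      · intro i
        refine Fin.cases ?_ (fun i' => ?_) i
        · simp only [Fin.cons_zero]; exact hf₀W
        · simp only [Fin.cons_succ]; exact hHW (hf'W i')
      · intro i j
        refine Fin.cases ?_ (fun i' => ?_) i <;> refine Fin.cases ?_ (fun j' => ?_) j
        · simp only [Fin.cons_zero]; exact hB u
        · simp only [Fin.cons_zero, Fin.cons_succ]; exact hue j'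
        · simp only [Fin.cons_zero, Fin.cons_succ]; exact hsw (hue i')
        · simp only [Fin.cons_succ]; exact he' i' j'
      · intro i j
        refine Fin.cases ?_ (fun i' => ?_) i <;> refine Fin.cases ?_ (fun j' => ?_) j
        · simp only [Fin.cons_zero]; exact hB f₀
        · simp only [Fin.cons_zero, Fin.cons_succ]; exact hff j'
        · simp only [Fin.cons_zero, Fin.cons_succ]; exact hsw (hff i')
        · simp only [Fin.cons_succ]; exact hf' i' j'
      · intro i j
        refine Fin.cases ?_ (fun i' => ?_) i <;> refine Fin.cases ?_ (fun j' => ?_) j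
        · simp only [Fin.cons_zero, if_true]; exact huf
        · simp only [Fin.cons_zero, Fin.cons_succ]
          rw [if_neg (Fin.succ_ne_zero j').symm]
          exact huf' j'
        · simp only [Fin.cons_zero, Fin.cons_succ]
          rw [if_neg (Fin.succ_ne_zero i')]
          exact hsw (hfe i')
        · simp only [Fin.cons_succ, Fin.succ_inj]
          exact hef' i' j'
      · intro i
        refine Fin.cases ?_ (fun i' => ?_) i
        · simp only [Fin.cons_zero]; exact hε
        · simp only [Fin.cons_succ]; exact hε' i'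
      · intro i
        refine Fin.cases ?_ (fun i' => ?_) i
        · simp only [Fin.cons_zero]; exact hXu
        · simp only [Fin.cons_succ]; exact hXe' i'
      · intro i
        refine Fin.cases ?_ (fun i' => ?_) i
        · simp only [Fin.cons_zero]; exact hXf
        · simp only [Fin.cons_succ]; exact hXf' i'
      · intro x hx
        obtain ⟨S, hS⟩ : ∃ S : Submodule F V, S = Submodule.span F
            (Set.range (Fin.cons u e' : Fin (k + 1) → V) ∪ Set.range (Fin.cons f₀ f' : Fin (k + 1) → V)) :=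
          ⟨_, rfl⟩
        rw [← hS]
        have huS : u ∈ S := by
          rw [hS]
          exact Submodule.subset_span (Or.inl ⟨0, by simp⟩)
        have hfS : f₀ ∈ S := by
          rw [hS]
          exact Submodule.subset_span (Or.inr ⟨0, by simp⟩)
        have hHS : H ≤ S := by
          refine hsp'.trans ?_
          rw [hS]
          apply Submodule.span_mono
          rintro y (⟨i, rfl⟩ | ⟨i, rfl⟩)
          · exact Or.inl ⟨i.succ, by simp⟩
          · exact Or.inr ⟨i.succ, by simp⟩
        have h6 : x = (x + (B f₀ x) • u - (B u x) • f₀) - (B f₀ x) • u + (B u x) • f₀ := by abel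
        rw [h6]
        exact S.add_mem (S.sub_mem (hHS (hdec x hx)) (S.smul_mem _ huS)) (S.smul_mem _ hfS)

/-- a unitary-type structure `δ'` with `X δ' = μ² δ' X`, for an isometry `X` with `X² = μ²`, `μ⁴ = 1`. -/
theorem exists_us_of_sq [FiniteDimensional F V] (h2 : (2 : F) ≠ 0) {B : LinearMap.BilinForm F V}
    (hB : B.IsAlt) (hnd : ND B ⊤) {z : F} (hz : ¬ IsSquare z) {X : Module.End F V}
    (hiso : ∀ u v, B (X u) (X v) = B u v) {μ : F} (hμ : μ ^ 4 = 1) (hX : ∀ v, X (X v) = (μ * μ) • v) :
    ∃ δ' : Module.End F V, US B δ' z ∧ ∀ v, X (δ' v) = (μ * μ) • δ' (X v) := by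
  obtain ⟨k, e, f, ε, -, -, he, hf, hef, hε, hXe, hXf, hsp⟩ :=
    exists_adapted_family h2 hB hiso hμ hX _ ⊤ (fun x _ => Submodule.mem_top) hnd rfl
  have hAlt : Cfsg.Agent.Helper8.SpS.Alt B := fun x => hB x
  have hli := Cfsg.Agent.Helper8.SpS.linearIndependent_family B hAlt e f he hf hef
  have hsp' : ⊤ ≤ Submodule.span F (Set.range (Sum.elim e f)) := by rwa [Set.Sum.elim_range]
  have hμ4 : (μ * μ) * (μ * μ) = 1 := by rw [← hμ]; ring
  obtain ⟨b, hb⟩ : ∃ b : Basis (Fin k ⊕ Fin k) F V, b = Basis.mk hli hsp' := ⟨_, rfl⟩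
  have hbl : ∀ i, b (Sum.inl i) = e i := fun i => by rw [hb, Basis.mk_apply]; rfl
  have hbr : ∀ i, b (Sum.inr i) = f i := fun i => by rw [hb, Basis.mk_apply]; rfl
  obtain ⟨δ', hδ'⟩ : ∃ δ' : Module.End F V, δ' = b.constr F (Sum.elim f (fun i => z • e i)) := ⟨_, rfl⟩
  have hδe : ∀ i, δ' (e i) = f i := by
    intro i
    rw [← hbl, hδ', Basis.constr_basis]; rfl
  have hδf : ∀ i, δ' (f i) = z • e i := by
    intro i
    rw [← hbr, hδ', Basis.constr_basis]; rfl
  have hfe : ∀ i j, B (f i) (e j) = if i = j then -1 else 0 := by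
    intro i j
    rw [← LinearMap.IsAlt.neg hB (e j) (f i), hef j i]
    by_cases h : i = j
    · rw [if_pos h, if_pos h.symm]
    · rw [if_neg h, if_neg (Ne.symm h), neg_zero]
  have hεinv : ∀ i, (ε i)⁻¹ = μ * μ * ε i := by
    intro i
    apply (eq_inv_of_mul_eq_one_left _).symm
    rw [mul_assoc, hε, hμ4]
  refine ⟨δ', ⟨hB, hnd, ?_, ?_, hz⟩, ?_⟩
  · have h1 : δ' ∘ₗ δ' = z • LinearMap.id := by
      apply b.ext
      intro x
      rcases x with i | i
      · rw [LinearMap.comp_apply, hbl, hδe, hδf, LinearMap.smul_apply, LinearMap.id_apply]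
      · rw [LinearMap.comp_apply, hbr, hδf, map_smul, hδe, LinearMap.smul_apply, LinearMap.id_apply]
    intro v
    have := LinearMap.congr_fun h1 v
    simpa using this
  · have h1 : B.compl₁₂ δ' LinearMap.id = -(B.compl₁₂ LinearMap.id δ') := by
      apply LinearMap.ext_basis b b
      intro x y
      rw [LinearMap.compl₁₂_apply, LinearMap.neg_apply, LinearMap.neg_apply, LinearMap.compl₁₂_apply,
        LinearMap.id_apply, LinearMap.id_apply]
      rcases x with i | i <;> rcases y with j | j
      · rw [hbl, hbl, hδe, hδe, hfe, hef]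
        split_ifs <;> simp
      · rw [hbl, hbr, hδe, hδf, hf, map_smul, he, smul_zero, neg_zero]
      · rw [hbr, hbl, hδf, hδe, map_smul, LinearMap.smul_apply, he, hf, smul_zero, neg_zero]
      · rw [hbr, hbr, hδf, hδf, map_smul, LinearMap.smul_apply, hef, map_smul, hfe]
        split_ifs <;> simp
    intro u v
    have := LinearMap.congr_fun₂ h1 u v
    simpa using this
  · have h1 : X ∘ₗ δ' = (μ * μ) • (δ' ∘ₗ X) := by
      apply b.ext
      intro x
      rcases x with i | i
      · rw [LinearMap.comp_apply, LinearMap.smul_apply, LinearMap.comp_apply, hbl, hδe, hXf, hXe, map_smul, hδe,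
          smul_smul, hεinv]
      · rw [LinearMap.comp_apply, LinearMap.smul_apply, LinearMap.comp_apply, hbr, hδf, map_smul, hXe, hXf,
          map_smul, hδf, smul_smul, smul_smul, smul_smul, hεinv]
        congr 1
        calc z * ε i = (μ * μ) * (μ * μ) * ε i * z := by rw [hμ4]; ring
          _ = μ * μ * (μ * μ * ε i) * z := by ring
    intro v
    have := LinearMap.congr_fun h1 v
    simpa using this

end Cfsg.Agent.Helper3.UTy
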