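import Mathlib
import Cfsg.Agent.Helper3.UTyB

set_option autoImplicit false
set_option linter.unusedSectionVars false
set_option linter.unusedVariables false

/-!
Piece U2 for S5976 (helper7's decomposition), final shapes over a finite field of odd order: conjugacy of
unitary-type structures, and for an isometry `X` with `X² = 1` (resp. `X² = -1`) a conjugate of `X` commuting
(resp. commuting or anticommuting) with a given unitary-type structure.  The existence of frames (helper8's piece
U1) is taken as the hypothesis `hfr`.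
-/

namespace Cfsg.Agent.Helper3.UTy

open Module Cfsg.Agent.Helper7.SpOrd Cfsg.Agent.Helper7.UTy

variable {F : Type*} [Field F] [Fintype F] {V : Type*} [AddCommGroup V] [Module F V] [Finite V]

theorem two_ne_zero_of_odd_card (hq : Odd (Fintype.card F)) : (2 : F) ≠ 0 := by
  intro h
  have h1 : ringChar F = 2 := CharP.ringChar_of_prime_eq_zero Nat.prime_two (by exact_mod_cast h)
  have h2 := FiniteField.even_card_of_char_two h1
  have h3 := Nat.odd_iff.mp hq
  omega

theorem isSquare_neg_of_not {z : F} (hm : ¬ IsSquare (-1 : F)) (hz : ¬ IsSquare z) : IsSquare (-z) := by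
  classical
  have hz0 : z ≠ 0 := by
    intro h
    apply hz
    rw [h]
    exact ⟨0, by ring⟩
  have h1 := quadraticChar_neg_one_iff_not_isSquare.mpr hm
  have h2 := quadraticChar_neg_one_iff_not_isSquare.mpr hz
  have h3 : quadraticChar F (-z) = 1 := by
    rw [← neg_one_mul, map_mul, h1, h2]
    norm_num
  exact (quadraticChar_one_iff_isSquare (neg_ne_zero.mpr hz0)).mp h3

/-- (B) two unitary-type structures with the same `z` are conjugate under an isometry. -/
theorem exists_conj {B : LinearMap.BilinForm F V} {δ₁ δ₂ : Module.End F V} {z : F} {d : ℕ}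
    (hd : finrank F V = 2 * d)
    (hfr : ∀ (δ' : Module.End F V), US B δ' z → ∃ v : Fin d → V, IsFrame B δ' v)
    (hS₁ : US B δ₁ z) (hS₂ : US B δ₂ z) :
    ∃ g : V ≃ₗ[F] V, (∀ u v, B (g u) (g v) = B u v) ∧ ∀ v, g (δ₁ v) = δ₂ (g v) := by
  have : FiniteDimensional F V := Module.Finite.of_finite
  obtain ⟨v, hv⟩ := hfr δ₁ hS₁
  obtain ⟨w, hw⟩ := hfr δ₂ hS₂
  obtain ⟨g, h1, h2, -⟩ := exists_conj_of_frames hS₁ hS₂ hd hv hw
  exact ⟨g, h1, h2⟩

/-- (C) an isometry with `X² = 1` commutes with some unitary-type structure. -/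
theorem exists_us_comm_of_sq_one (hq : Odd (Fintype.card F)) {B : LinearMap.BilinForm F V} (hB : B.IsAlt)
    (hnd : ND B ⊤) {z : F} (hz : ¬ IsSquare z) {X : Module.End F V} (hX : ∀ v, X (X v) = v)
    (hiso : ∀ u v, B (X u) (X v) = B u v) :
    ∃ δ' : Module.End F V, US B δ' z ∧ ∀ v, X (δ' v) = δ' (X v) := by
  have : FiniteDimensional F V := Module.Finite.of_finite
  obtain ⟨δ', h1, h2⟩ := exists_us_of_sq (two_ne_zero_of_odd_card hq) hB hnd hz hiso (μ := 1) (by norm_num)
    (by intro v; rw [hX, mul_one, one_smul])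
  refine ⟨δ', h1, ?_⟩
  intro v
  rw [h2, mul_one, one_smul]

/-- (D) an isometry with `X² = -1` commutes or anticommutes with some unitary-type structure. -/
theorem exists_us_of_sq_neg_one (hq : Odd (Fintype.card F)) {B : LinearMap.BilinForm F V} (hB : B.IsAlt)
    (hnd : ND B ⊤) {z : F} (hz : ¬ IsSquare z) {X : Module.End F V} (hX : ∀ v, X (X v) = -v)
    (hiso : ∀ u v, B (X u) (X v) = B u v) :
    ∃ δ' : Module.End F V, US B δ' z ∧ ((∀ v, X (δ' v) = δ' (X v)) ∨ (∀ v, X (δ' v) = - δ' (X v))) := by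
  have : FiniteDimensional F V := Module.Finite.of_finite
  by_cases hm : IsSquare (-1 : F)
  · obtain ⟨ι, hι⟩ := hm
    have hμ : ι ^ 4 = 1 := by
      have : ι ^ 4 = (ι * ι) * (ι * ι) := by ring
      rw [this, ← hι]
      ring
    obtain ⟨δ', h1, h2⟩ := exists_us_of_sq (two_ne_zero_of_odd_card hq) hB hnd hz hiso (μ := ι) hμ
      (by intro v; rw [hX, ← hι, neg_one_smul])
    refine ⟨δ', h1, Or.inr ?_⟩
    intro v
    rw [h2, ← hι, neg_one_smul]
  · obtain ⟨s, hs⟩ := isSquare_neg_of_not hm hz
    have hskew : ∀ u v, B (X u) v = - B u (X v) := by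
      intro u v
      have := hiso (X u) v
      rw [hX, map_neg, LinearMap.neg_apply] at this
      rw [← this]
    refine ⟨s • X, ⟨hB, hnd, ?_, ?_, hz⟩, Or.inl ?_⟩
    · intro v
      rw [LinearMap.smul_apply, LinearMap.smul_apply, map_smul, hX, smul_smul, ← hs, smul_neg, neg_smul, neg_neg]
    · intro u v
      rw [LinearMap.smul_apply, LinearMap.smul_apply, map_smul, map_smul, LinearMap.smul_apply, hskew, smul_neg]
    · intro v
      rw [LinearMap.smul_apply, LinearMap.smul_apply, map_smul]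

/-- (E1) an isometry with `X² = 1` has a conjugate (under an isometry) commuting with a given unitary-type
structure. -/
theorem exists_conj_comm_of_sq_one (hq : Odd (Fintype.card F)) {B : LinearMap.BilinForm F V}
    {δ : Module.End F V} {z : F} {d : ℕ} (hd : finrank F V = 2 * d)
    (hfr : ∀ (δ' : Module.End F V), US B δ' z → ∃ v : Fin d → V, IsFrame B δ' v)
    (hS : US B δ z) {X : Module.End F V} (hX : ∀ v, X (X v) = v) (hiso : ∀ u v, B (X u) (X v) = B u v) :
    ∃ g : V ≃ₗ[F] V, (∀ u v, B (g u) (g v) = B u v) ∧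
      ∀ v, g (X (g.symm (δ v))) = δ (g (X (g.symm v))) := by
  obtain ⟨δ', hS', hc⟩ := exists_us_comm_of_sq_one hq hS.alt hS.nd hS.nsq hX hiso
  obtain ⟨g, hg1, hg2⟩ := exists_conj hd hfr hS' hS
  refine ⟨g, hg1, ?_⟩
  intro v
  have h1 : g.symm (δ v) = δ' (g.symm v) := by
    apply g.injective
    rw [g.apply_symm_apply, hg2, g.apply_symm_apply]
  rw [h1, hc, hg2]

/-- (E2) an isometry with `X² = -1` has a conjugate (under an isometry) commuting or anticommuting with a given
unitary-type structure. -/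
theorem exists_conj_of_sq_neg_one (hq : Odd (Fintype.card F)) {B : LinearMap.BilinForm F V}
    {δ : Module.End F V} {z : F} {d : ℕ} (hd : finrank F V = 2 * d)
    (hfr : ∀ (δ' : Module.End F V), US B δ' z → ∃ v : Fin d → V, IsFrame B δ' v)
    (hS : US B δ z) {X : Module.End F V} (hX : ∀ v, X (X v) = -v) (hiso : ∀ u v, B (X u) (X v) = B u v) :
    ∃ g : V ≃ₗ[F] V, (∀ u v, B (g u) (g v) = B u v) ∧
      ((∀ v, g (X (g.symm (δ v))) = δ (g (X (g.symm v)))) ∨
        (∀ v, g (X (g.symm (δ v))) = - δ (g (X (g.symm v))))) := by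
  obtain ⟨δ', hS', hc⟩ := exists_us_of_sq_neg_one hq hS.alt hS.nd hS.nsq hX hiso
  obtain ⟨g, hg1, hg2⟩ := exists_conj hd hfr hS' hS
  have h1 : ∀ v, g.symm (δ v) = δ' (g.symm v) := by
    intro v
    apply g.injective
    rw [g.apply_symm_apply, hg2, g.apply_symm_apply]
  refine ⟨g, hg1, ?_⟩
  rcases hc with hc | hc
  · left
    intro v
    rw [h1, hc, hg2]
  · right
    intro v
    rw [h1, hc, map_neg, hg2]

end Cfsg.Agent.Helper3.UTy
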