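import Mathlib
import Cfsg.Agent.Helper3.UTyC
import Cfsg.Agent.Helper8.UTyA

set_option autoImplicit false
set_option linter.unusedSectionVars false
set_option linter.unusedVariables false

/-!
Piece U2 for S5976, final shapes (frames now come from helper8's `exists_frame`).
-/

namespace Cfsg.Agent.Helper3.UTy

open Module Cfsg.Agent.Helper7.SpOrd Cfsg.Agent.Helper7.UTy

variable {F : Type*} [Field F] [Fintype F] {V : Type*} [AddCommGroup V] [Module F V] [Finite V]

/-- (B) two unitary-type structures with the same `z` are conjugate under an isometry. -/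
theorem exists_conj' (hq : Odd (Fintype.card F)) {B : LinearMap.BilinForm F V} {δ₁ δ₂ : Module.End F V}
    {z : F} {d : ℕ} (hd : finrank F V = 2 * d) (hS₁ : US B δ₁ z) (hS₂ : US B δ₂ z) :
    ∃ g : V ≃ₗ[F] V, (∀ u v, B (g u) (g v) = B u v) ∧ ∀ v, g (δ₁ v) = δ₂ (g v) :=
  exists_conj hd (fun δ' h => Cfsg.Agent.Helper8.UTy.exists_frame hq d h hd) hS₁ hS₂

/-- (E1) an isometry with `X² = 1` has a conjugate (under an isometry) commuting with a given unitary-type
structure. -/
theorem exists_conj_comm_of_sq_one' (hq : Odd (Fintype.card F)) {B : LinearMap.BilinForm F V}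
    {δ : Module.End F V} {z : F} {d : ℕ} (hd : finrank F V = 2 * d)
    (hS : US B δ z) {X : Module.End F V} (hX : ∀ v, X (X v) = v) (hiso : ∀ u v, B (X u) (X v) = B u v) :
    ∃ g : V ≃ₗ[F] V, (∀ u v, B (g u) (g v) = B u v) ∧
      ∀ v, g (X (g.symm (δ v))) = δ (g (X (g.symm v))) :=
  exists_conj_comm_of_sq_one hq hd (fun δ' h => Cfsg.Agent.Helper8.UTy.exists_frame hq d h hd) hS hX hiso

/-- (E2) an isometry with `X² = -1` has a conjugate (under an isometry) commuting or anticommuting with a given
unitary-type structure. -/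
theorem exists_conj_of_sq_neg_one' (hq : Odd (Fintype.card F)) {B : LinearMap.BilinForm F V}
    {δ : Module.End F V} {z : F} {d : ℕ} (hd : finrank F V = 2 * d)
    (hS : US B δ z) {X : Module.End F V} (hX : ∀ v, X (X v) = -v) (hiso : ∀ u v, B (X u) (X v) = B u v) :
    ∃ g : V ≃ₗ[F] V, (∀ u v, B (g u) (g v) = B u v) ∧
      ((∀ v, g (X (g.symm (δ v))) = δ (g (X (g.symm v)))) ∨
        (∀ v, g (X (g.symm (δ v))) = - δ (g (X (g.symm v))))) :=
  exists_conj_of_sq_neg_one hq hd (fun δ' h => Cfsg.Agent.Helper8.UTy.exists_frame hq d h hd) hS hX hiso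

end Cfsg.Agent.Helper3.UTy
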