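import Mathlib

set_option autoImplicit false

/-!
# Powers of strictly upper triangular matrices (helper3)

For `N : Matrix (Fin n) (Fin n) R` strictly upper triangular, `N ^ k` vanishes below the `k`-th
superdiagonal and its `k`-th superdiagonal consists of the products of `k` consecutive superdiagonal
entries of `N`.  Consequences: `N ^ n = 0` and `(N ^ (n-1)) 0 (n-1) = ∏ superdiagonal entries`.
Used for "regular unipotent" certificates: `u` upper unitriangular with nonzero superdiagonal has
`IsNilpotent (u - 1)` and `(u - 1) ^ (n - 1) ≠ 0`.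
-/

namespace Cfsg.Agent.Helper3.UniTri

open Matrix

variable {R : Type*} [CommRing R] {n : ℕ}

/-- strictly upper triangular. -/
def SUT (N : Matrix (Fin n) (Fin n) R) : Prop := ∀ i j : Fin n, (j : ℕ) ≤ (i : ℕ) → N i j = 0

/-- the superdiagonal of `N` as a function on `ℕ` (zero out of range). -/
def sd (N : Matrix (Fin n) (Fin n) R) (t : ℕ) : R :=
  if h : t + 1 < n then N ⟨t, by omega⟩ ⟨t + 1, h⟩ else 0

theorem sd_eq (N : Matrix (Fin n) (Fin n) R) (i j : Fin n) (h : (j : ℕ) = (i : ℕ) + 1) :
    sd N (i : ℕ) = N i j := by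
  have hj : (i : ℕ) + 1 < n := by have := j.2; omega
  unfold sd
  rw [dif_pos hj]
  congr 1
  exact Fin.ext h.symm

theorem pow_below (N : Matrix (Fin n) (Fin n) R) (hN : SUT N) (k : ℕ) :
    (∀ i j : Fin n, (j : ℕ) < (i : ℕ) + k → (N ^ k) i j = 0) ∧
    (∀ i j : Fin n, (j : ℕ) = (i : ℕ) + k →
      (N ^ k) i j = ∏ t ∈ Finset.range k, sd N ((i : ℕ) + t)) := by
  induction k with
  | zero =>
    refine ⟨?_, ?_⟩
    · intro i j h
      rw [pow_zero, Matrix.one_apply, if_neg]
      intro e; subst e; omega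
    · intro i j h
      have : i = j := Fin.ext (by omega)
      subst this
      simp
  | succ k ih =>
    obtain ⟨ih1, ih2⟩ := ih
    refine ⟨?_, ?_⟩
    · intro i j h
      rw [pow_succ, Matrix.mul_apply]
      apply Finset.sum_eq_zero
      intro l _
      by_cases hl : (l : ℕ) < (i : ℕ) + k
      · rw [ih1 i l hl, zero_mul]
      · rw [hN l j (by omega), mul_zero]
    · intro i j h
      rw [pow_succ, Matrix.mul_apply]
      have hl0 : (i : ℕ) + k < n := by have := j.2; omega
      rw [Finset.sum_eq_single (⟨(i : ℕ) + k, hl0⟩ : Fin n)]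
      · rw [ih2 i ⟨(i : ℕ) + k, hl0⟩ rfl, Finset.prod_range_succ]
        congr 1
        exact (sd_eq N ⟨(i : ℕ) + k, hl0⟩ j (by simp only; omega)).symm
      · intro l _ hne
        by_cases hl : (l : ℕ) < (i : ℕ) + k
        · rw [ih1 i l hl, zero_mul]
        · have : (i : ℕ) + k < (l : ℕ) := by
            rcases Nat.lt_or_ge ((i : ℕ) + k) (l : ℕ) with h1 | h1
            · exact h1
            · exact absurd (Fin.ext (by simp only; omega)) hne
          rw [hN l j (by omega), mul_zero]
      · intro h0; exact absurd (Finset.mem_univ _) h0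

/-- a strictly upper triangular `n × n` matrix has `N ^ n = 0`. -/
theorem pow_eq_zero (N : Matrix (Fin n) (Fin n) R) (hN : SUT N) : N ^ n = 0 := by
  ext i j
  rw [(pow_below N hN n).1 i j (by have := j.2; omega)]
  rfl

theorem isNilpotent (N : Matrix (Fin n) (Fin n) R) (hN : SUT N) : IsNilpotent N :=
  ⟨n, pow_eq_zero N hN⟩

/-- the top right entry of `N ^ (n-1)` is the product of the superdiagonal entries. -/
theorem pow_pred_corner (N : Matrix (Fin n) (Fin n) R) (hN : SUT N) (hn : 0 < n) :
    (N ^ (n - 1)) ⟨0, hn⟩ ⟨n - 1, by omega⟩ = ∏ t ∈ Finset.range (n - 1), sd N t := by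
  rw [(pow_below N hN (n - 1)).2 ⟨0, hn⟩ ⟨n - 1, by omega⟩ (by simp)]
  apply Finset.prod_congr rfl
  intro t _
  simp

/-- over a domain: strictly upper triangular with nonzero superdiagonal ⇒ `N ^ (n-1) ≠ 0`. -/
theorem pow_pred_ne_zero [IsDomain R] (N : Matrix (Fin n) (Fin n) R) (hN : SUT N) (hn : 0 < n)
    (hsd : ∀ t, t + 1 < n → sd N t ≠ 0) : N ^ (n - 1) ≠ 0 := by
  intro h0
  have h1 := pow_pred_corner N hN hn
  rw [h0] at h1
  have h2 : ∏ t ∈ Finset.range (n - 1), sd N t ≠ 0 := by
    rw [Finset.prod_ne_zero_iff]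
    intro t ht
    exact hsd t (by have := Finset.mem_range.1 ht; omega)
  exact h2 h1.symm

end Cfsg.Agent.Helper3.UniTri
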