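import Mathlib

set_option autoImplicit false

/-!
The exponent of a nilpotent group is bounded by the exponent of its centre and its class.
-/

namespace Cfsg.Agent.Helper3.UpperExp

open scoped commutatorElement

variable {G : Type*} [Group G]

theorem comm_pow_aux (x y : G) (N : Subgroup G) [hN : N.Normal]
    (hu : ∀ k : ℕ, ⁅⁅x, y⁆ ^ k, x⁆ ∈ N) :
    ∀ k : ℕ, ∃ z ∈ N, ⁅x ^ k, y⁆ = z * ⁅x, y⁆ ^ k := by
  intro k
  induction k with
  | zero => exact ⟨1, one_mem _, by simp [commutatorElement_def]⟩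
  | succ k ihk =>
    obtain ⟨z, hz, hzk⟩ := ihk
    have e1 : ⁅x ^ (k + 1), y⁆ = x * ⁅x ^ k, y⁆ * x⁻¹ * ⁅x, y⁆ := by
      rw [pow_succ']
      simp only [commutatorElement_def]
      group
    have h1 := hu k
    refine ⟨(x * z * x⁻¹) * ⁅⁅x, y⁆ ^ k, x⁆⁻¹, mul_mem (hN.conj_mem z hz x) (inv_mem h1), ?_⟩
    rw [e1, hzk]
    generalize ⁅x, y⁆ = u
    rw [commutatorElement_def, pow_succ]
    group

theorem pow_mem_upper (e : ℕ) (he : ∀ z ∈ Subgroup.center G, z ^ e = 1) :
    ∀ i : ℕ, ∀ x ∈ Subgroup.upperCentralSeries G (i + 1), x ^ e ∈ Subgroup.upperCentralSeries G i := by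
  intro i
  induction i with
  | zero =>
    intro x hx
    rw [zero_add, Subgroup.upperCentralSeries_one] at hx
    rw [Subgroup.upperCentralSeries_zero, Subgroup.mem_bot]
    exact he x hx
  | succ i ih =>
    intro x hx
    rw [Subgroup.mem_upperCentralSeries_succ_iff]
    intro y
    have hu : ⁅x, y⁆ ∈ Subgroup.upperCentralSeries G (i + 1) := (Subgroup.mem_upperCentralSeries_succ_iff.1 hx) y
    obtain ⟨z, hz, hze⟩ := comm_pow_aux x y (Subgroup.upperCentralSeries G i)
      (fun k => (Subgroup.mem_upperCentralSeries_succ_iff.1 (pow_mem hu k)) x) e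
    rw [hze]
    exact mul_mem hz (ih _ hu)

theorem pow_eq_one_upper (e : ℕ) (he : ∀ z ∈ Subgroup.center G, z ^ e = 1) :
    ∀ i : ℕ, ∀ x ∈ Subgroup.upperCentralSeries G i, x ^ (e ^ i) = 1 := by
  intro i
  induction i with
  | zero =>
    intro x hx
    rw [Subgroup.upperCentralSeries_zero, Subgroup.mem_bot] at hx
    rw [hx, one_pow]
  | succ i ih =>
    intro x hx
    rw [pow_succ', pow_mul]
    exact ih _ (pow_mem_upper e he i x hx)

/-- class `≤ c` and centre of exponent dividing `e` give exponent dividing `e ^ c` -/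
theorem exponent_dvd (e c : ℕ) (he : ∀ z ∈ Subgroup.center G, z ^ e = 1)
    (hc : Subgroup.upperCentralSeries G c = ⊤) : Monoid.exponent G ∣ e ^ c := by
  apply Monoid.exponent_dvd_of_forall_pow_eq_one
  intro x
  exact pow_eq_one_upper e he c x (hc ▸ Subgroup.mem_top x)

end Cfsg.Agent.Helper3.UpperExp
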