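import Mathlib
import Cfsg.Agent.Helper3.GenerousA

set_option autoImplicit false

namespace Cfsg.Agent.Helper3.Wagner

open MulAction Pointwise Cfsg.Agent.Helper3.Generous

variable {α : Type*} [Fintype α] [DecidableEq α]

/-- explicit triple transitivity -/
def T3 (G : Subgroup (Equiv.Perm α)) : Prop :=
  ∀ a b c a' b' c' : α, a ≠ b → a ≠ c → b ≠ c → a' ≠ b' → a' ≠ c' → b' ≠ c' →
    ∃ g ∈ G, g a = a' ∧ g b = b' ∧ g c = c'

/-- explicit double transitivity -/
def T2 (G : Subgroup (Equiv.Perm α)) : Prop :=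
  ∀ a b a' b' : α, a ≠ b → a' ≠ b' → ∃ g ∈ G, g a = a' ∧ g b = b'

omit [Fintype α] in
theorem exists_ne_three [Fintype α] (h : 4 ≤ Fintype.card α) (a b c : α) :
    ∃ d : α, d ≠ a ∧ d ≠ b ∧ d ≠ c := by
  by_contra hcon
  push Not at hcon
  have hsub : (Finset.univ : Finset α) ⊆ {a, b, c} := by
    intro d _
    by_cases h1 : d = a
    · simp [h1]
    · by_cases h2 : d = b
      · simp [h2]
      · have := hcon d h1 h2
        simp [this]
  have := Finset.card_le_card hsub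
  rw [Finset.card_univ] at this
  have h3 : ({a, b, c} : Finset α).card ≤ 3 := Finset.card_le_three
  omega

theorem T3.t2 {G : Subgroup (Equiv.Perm α)} (h : T3 G) (h4 : 4 ≤ Fintype.card α) : T2 G := by
  intro a b a' b' hab hab'
  obtain ⟨c, hca, hcb, -⟩ := exists_ne_three h4 a b a
  obtain ⟨c', hca', hcb', -⟩ := exists_ne_three h4 a' b' a'
  obtain ⟨g, hg, h1, h2, -⟩ := h a b c a' b' c' hab hca.symm hcb.symm hab' hca'.symm hcb'.symm
  exact ⟨g, hg, h1, h2⟩

/-- The hypotheses on the normal subgroup. -/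
structure Hyp (G N : Subgroup (Equiv.Perm α)) : Prop where
  odd : Odd (Fintype.card α)
  five : 5 ≤ Fintype.card α
  t3 : T3 G
  le : N ≤ G
  normal : ∀ g ∈ G, ∀ n ∈ N, g * n * g⁻¹ ∈ N
  ne : N ≠ ⊥

namespace Hyp

variable {G N : Subgroup (Equiv.Perm α)} (H : Hyp G N)
include H

theorem t2 : T2 G := H.t3.t2 (by have := H.five; omega)

/-- `N` moves any point to any other point -/
theorem exists_move (u v : α) (huv : u ≠ v) : ∃ n ∈ N, n u = v := by
  obtain ⟨n₀, hn₀, hne⟩ : ∃ n₀ ∈ N, n₀ ≠ 1 := by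
    by_contra hcon
    push Not at hcon
    exact H.ne ((Subgroup.eq_bot_iff_forall _).mpr hcon)
  obtain ⟨x₀, hx₀⟩ : ∃ x₀, n₀ x₀ ≠ x₀ := by
    by_contra hcon
    push Not at hcon
    exact hne (Equiv.Perm.ext hcon)
  obtain ⟨g, hg, h1, h2⟩ := H.t2 x₀ (n₀ x₀) u v (Ne.symm hx₀) huv
  refine ⟨g * n₀ * g⁻¹, H.normal g hg n₀ hn₀, ?_⟩
  have : g⁻¹ u = x₀ := by rw [Equiv.Perm.inv_eq_iff_eq, h1]
  simp only [Equiv.Perm.mul_apply, this, h2]

/-- `N` is not semiregular -/
theorem exists_fix : ∃ m ∈ N, m ≠ 1 ∧ ∃ a : α, m a = a := by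
  by_contra hcon
  push Not at hcon
  have hsemi : ∀ m ∈ N, ∀ a : α, m a = a → m = 1 := by
    intro m hm a hma
    by_contra h1
    exact hcon m hm h1 a hma
  have h5 := H.five
  obtain ⟨a⟩ : Nonempty α := by
    rw [← Fintype.card_pos_iff]; omega
  obtain ⟨b, hba, -, -⟩ := exists_ne_three (by omega) a a a
  obtain ⟨n, hn, hnab⟩ := H.exists_move a b hba.symm
  set b' : α := n⁻¹ a with hb'
  have hb'a : b' ≠ a := by
    intro h
    have : n a = a := by
      have h0 : n b' = a := by rw [hb']; simp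
      rw [h] at h0
      exact h0
    exact hba (hnab ▸ this)
  have hb'b : b' = b := by
    by_contra hne
    obtain ⟨c, hca, hcb, hcb'⟩ := exists_ne_three (by omega) a b b'
    obtain ⟨g, hg, h1, h2, h3⟩ := H.t3 a b b' a b c hba.symm hb'a.symm (Ne.symm hne)
      hba.symm hca.symm hcb.symm
    have hm : g * n * g⁻¹ ∈ N := H.normal g hg n hn
    have hga : g⁻¹ a = a := by rw [Equiv.Perm.inv_eq_iff_eq, h1]
    have hma : (g * n * g⁻¹) a = b := by
      simp only [Equiv.Perm.mul_apply, hga, hnab, h2]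
    have h4 : n⁻¹ * (g * n * g⁻¹) = 1 := by
      apply hsemi _ (N.mul_mem (N.inv_mem hn) hm) a
      rw [Equiv.Perm.mul_apply, hma, Equiv.Perm.inv_eq_iff_eq, hnab]
    have h5 : g * n = n * g := by
      have : g * n * g⁻¹ = n := by
        have := congrArg (fun t => n * t) h4
        simpa [mul_assoc] using this
      calc g * n = g * n * g⁻¹ * g := by group
        _ = n * g := by rw [this]
    have h6 : g b' = b' := by
      have h7 : n (g b') = a := by
        have := congrArg (fun t : Equiv.Perm α => t b') h5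
        simp only [Equiv.Perm.mul_apply] at this
        rw [← this]
        have : n b' = a := by rw [hb']; simp
        rw [this, h1]
      rw [hb', Equiv.Perm.eq_inv_iff_eq]
      exact h7
    exact hcb' (h3 ▸ h6)
  have hn2 : n * n = 1 := by
    apply hsemi _ (N.mul_mem hn hn) a
    rw [Equiv.Perm.mul_apply, hnab, ← hb'b, hb']
    simp
  have hn1 : n ≠ 1 := by
    intro h
    rw [h] at hnab
    exact hba hnab.symm
  -- the 2-group `⟨n⟩` fixes a point
  have := Fact.mk Nat.prime_two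
  have hP : IsPGroup 2 (Subgroup.zpowers n) := by
    rintro ⟨y, hy⟩
    obtain ⟨j, rfl⟩ := Subgroup.mem_zpowers_iff.mp hy
    refine ⟨1, ?_⟩
    ext1
    simp only [pow_one, Subgroup.coe_pow, Subgroup.coe_one]
    rw [← zpow_natCast, ← zpow_mul, mul_comm, zpow_mul, zpow_natCast, pow_two, hn2, one_zpow]
  have hnd : ¬ 2 ∣ Nat.card (Set.univ : Set α) := by
    rw [Nat.card_coe_set_eq, Set.ncard_univ, Nat.card_eq_fintype_card]
    exact H.odd.not_two_dvd_nat
  obtain ⟨ε, -, hε⟩ := exists_fixed_of_pgroup (H := Subgroup.zpowers n) (β := α) hP Set.univ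
    (fun _ _ _ => Set.mem_univ _) hnd
  have : n ε = ε := hε ⟨n, Subgroup.mem_zpowers n⟩
  exact hn1 (hsemi n hn ε this)

/-- `N` is doubly transitive -/
theorem n_t2 : T2 N := by
  obtain ⟨m, hm, hm1, a₀, hma₀⟩ := H.exists_fix
  obtain ⟨b₀, hb₀⟩ : ∃ b₀, m b₀ ≠ b₀ := by
    by_contra hcon
    push Not at hcon
    exact hm1 (Equiv.Perm.ext hcon)
  have hb₀a₀ : b₀ ≠ a₀ := fun h => hb₀ (h ▸ hma₀)
  have hb₁a₀ : m b₀ ≠ a₀ := by
    intro h
    rw [← hma₀] at h
    exact hb₀a₀ (m.injective h)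
  intro a b a' b' hab hab'
  -- first move `a` to `a'`
  obtain ⟨n₁, hn₁, hn₁a⟩ : ∃ n₁ ∈ N, n₁ a = a' := by
    by_cases h : a = a'
    · exact ⟨1, N.one_mem, by simpa using h⟩
    · exact H.exists_move a a' h
  have hb₁ : n₁ b ≠ a' := by
    intro h
    rw [← hn₁a] at h
    exact hab (n₁.injective h).symm
  obtain ⟨n₂, hn₂, hn₂a, hn₂b⟩ : ∃ n₂ ∈ N, n₂ a' = a' ∧ n₂ (n₁ b) = b' := by
    by_cases h : n₁ b = b'
    · exact ⟨1, N.one_mem, rfl, by simpa using h⟩
    · obtain ⟨g, hg, h1, h2, h3⟩ := H.t3 a₀ b₀ (m b₀) a' (n₁ b) b' hb₀a₀.symm hb₁a₀.symm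
        (Ne.symm hb₀) hb₁.symm hab' h
      refine ⟨g * m * g⁻¹, H.normal g hg m hm, ?_, ?_⟩
      · have : g⁻¹ a' = a₀ := by rw [Equiv.Perm.inv_eq_iff_eq, h1]
        simp only [Equiv.Perm.mul_apply, this, hma₀, h1]
      · have : g⁻¹ (n₁ b) = b₀ := by rw [Equiv.Perm.inv_eq_iff_eq, h2]
        simp only [Equiv.Perm.mul_apply, this, h3]
  refine ⟨n₂ * n₁, N.mul_mem hn₂ hn₁, ?_, ?_⟩
  · rw [Equiv.Perm.mul_apply, hn₁a, hn₂a]
  · rw [Equiv.Perm.mul_apply, hn₂b]

end Hyp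

end Cfsg.Agent.Helper3.Wagner
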