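import Mathlib
import Cfsg.Agent.Helper3.WagnerA

set_option autoImplicit false

namespace Cfsg.Agent.Helper3.Wagner

open MulAction Pointwise Cfsg.Agent.Helper3.Generous

variable {α : Type*} [Fintype α] [DecidableEq α]

omit [Fintype α] [DecidableEq α] in
theorem pow_odd_swap {t : Equiv.Perm α} {a b : α} (h1 : t a = b) (h2 : t b = a) (j : ℕ) :
    (t ^ (2 * j + 1)) a = b ∧ (t ^ (2 * j + 1)) b = a := by
  induction j with
  | zero => simpa using ⟨h1, h2⟩
  | succ j ih =>
    have : 2 * (j + 1) + 1 = 2 * j + 1 + 2 := by ring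
    rw [this, pow_add, pow_two]
    simp only [Equiv.Perm.mul_apply, h1, h2, ih.1, ih.2, and_self]

omit [DecidableEq α] in
theorem card_compl_pair_odd (hodd : Odd (Fintype.card α)) (h5 : 5 ≤ Fintype.card α) {a b : α}
    (hab : a ≠ b) : ¬ 2 ∣ Nat.card (({a, b} : Set α)ᶜ : Set α) := by
  classical
  rw [Nat.card_coe_set_eq]
  have h1 := Set.ncard_add_ncard_compl ({a, b} : Set α)
  rw [Set.ncard_pair hab, Nat.card_eq_fintype_card] at h1
  obtain ⟨j, hj⟩ := hodd
  omega

namespace Hyp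

variable {G N : Subgroup (Equiv.Perm α)} (H : Hyp G N)
include H

theorem exists_swap (a b c : α) (hab : a ≠ b) (hac : a ≠ c) (hbc : b ≠ c) :
    ∃ n ∈ N, n a = b ∧ n b = a ∧ n c = c := by
  obtain ⟨t, ht, hta, htb⟩ := H.n_t2 a b b a hab hab.symm
  obtain ⟨e, m, hm, hord⟩ := Nat.exists_eq_two_pow_mul_odd (orderOf_pos t).ne'
  obtain ⟨j, rfl⟩ := hm
  set t' : Equiv.Perm α := t ^ (2 * j + 1) with ht'
  have ht'N : t' ∈ N := N.pow_mem ht _
  have ht'a : t' a = b := (pow_odd_swap hta htb j).1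
  have ht'b : t' b = a := (pow_odd_swap hta htb j).2
  have ht'pow : t' ^ (2 ^ e) = 1 := by
    rw [ht', ← pow_mul, mul_comm, ← hord, pow_orderOf_eq_one]
  have := Fact.mk Nat.prime_two
  have hP : IsPGroup 2 (Subgroup.zpowers t') := by
    rintro ⟨y, hy⟩
    obtain ⟨i, rfl⟩ := Subgroup.mem_zpowers_iff.mp hy
    refine ⟨e, ?_⟩
    ext1
    simp only [Subgroup.coe_pow, Subgroup.coe_one]
    rw [← zpow_natCast, ← zpow_mul, mul_comm, zpow_mul, zpow_natCast, ht'pow, one_zpow]
  have hinv1 : ∀ y, t' y ∈ ({a, b} : Set α) ↔ y ∈ ({a, b} : Set α) := by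
    intro y
    simp only [Set.mem_insert_iff, Set.mem_singleton_iff]
    constructor
    · rintro (h | h)
      · right; rw [← ht'b] at h; exact t'.injective h
      · left; rw [← ht'a] at h; exact t'.injective h
    · rintro (h | h)
      · right; rw [h, ht'a]
      · left; rw [h, ht'b]
  have hinv : ∀ z : Subgroup.zpowers t', ∀ y ∈ (({a, b} : Set α)ᶜ : Set α),
      z • y ∈ (({a, b} : Set α)ᶜ : Set α) := by
    have hpow : ∀ i : ℕ, ∀ y ∈ (({a, b} : Set α)ᶜ : Set α),
        (t' ^ i) y ∈ (({a, b} : Set α)ᶜ : Set α) := by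
      intro i y hy
      induction i with
      | zero => simpa using hy
      | succ i ih =>
        rw [pow_succ', Equiv.Perm.mul_apply]
        intro hcon
        exact ih ((hinv1 _).mp hcon)
    rintro ⟨z, hz⟩ y hy
    have hz' : z ∈ Submonoid.powers t' := mem_powers_iff_mem_zpowers.mpr hz
    obtain ⟨i, rfl⟩ := hz'
    exact hpow i y hy
  obtain ⟨c₀, hc₀, hfix⟩ := exists_fixed_of_pgroup (H := Subgroup.zpowers t') (β := α) hP _ hinv
    (card_compl_pair_odd H.odd H.five hab)
  have hc₀' : t' c₀ = c₀ := hfix ⟨t', Subgroup.mem_zpowers t'⟩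
  have hc₀ab : c₀ ≠ a ∧ c₀ ≠ b := by
    simp only [Set.mem_compl_iff, Set.mem_insert_iff, Set.mem_singleton_iff, not_or] at hc₀
    exact hc₀
  obtain ⟨g, hg, h1, h2, h3⟩ := H.t3 a b c₀ a b c hab hc₀ab.1.symm hc₀ab.2.symm hab hac hbc
  have hga : g⁻¹ a = a := by rw [Equiv.Perm.inv_eq_iff_eq, h1]
  have hgb : g⁻¹ b = b := by rw [Equiv.Perm.inv_eq_iff_eq, h2]
  have hgc : g⁻¹ c = c₀ := by rw [Equiv.Perm.inv_eq_iff_eq, h3]
  refine ⟨g * t' * g⁻¹, H.normal g hg t' ht'N, ?_, ?_, ?_⟩
  · simp only [Equiv.Perm.mul_apply, hga, ht'a, h2]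
  · simp only [Equiv.Perm.mul_apply, hgb, ht'b, h1]
  · simp only [Equiv.Perm.mul_apply, hgc, hc₀', h3]

/-- `N` is generously 2-transitive -/
theorem gen : Gen N 2 := by
  intro s hs
  let S : Subgroup (Equiv.Perm ↥s) :=
    { carrier := {σ | ∃ g ∈ N, ∀ x : ↥s, g (x : α) = σ x}
      mul_mem' := by
        rintro σ τ ⟨g, hg, hgσ⟩ ⟨h, hh, hhτ⟩
        refine ⟨g * h, N.mul_mem hg hh, fun x => ?_⟩
        rw [Equiv.Perm.mul_apply, hhτ x, hgσ (τ x)]
        rfl
      one_mem' := ⟨1, N.one_mem, fun x => rfl⟩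
      inv_mem' := by
        rintro σ ⟨g, hg, hgσ⟩
        refine ⟨g⁻¹, N.inv_mem hg, fun x => ?_⟩
        rw [Equiv.Perm.inv_eq_iff_eq, hgσ (σ⁻¹ x)]
        simp }
  have htop : S = ⊤ := by
    rw [eq_top_iff, ← Equiv.Perm.closure_isSwap, Subgroup.closure_le]
    rintro σ ⟨x, y, hxy, rfl⟩
    have hxy' : (x : α) ≠ y := fun h => hxy (Subtype.ext h)
    have hrest : (s \ {(x : α), (y : α)}).Nonempty := by
      rw [← Finset.card_pos, Finset.card_sdiff_of_subset, hs, Finset.card_pair hxy']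
      · norm_num
      · intro w hw
        simp only [Finset.mem_insert, Finset.mem_singleton] at hw
        rcases hw with rfl | rfl
        · exact x.2
        · exact y.2
    obtain ⟨z, hz⟩ := hrest
    simp only [Finset.mem_sdiff, Finset.mem_insert, Finset.mem_singleton, not_or] at hz
    obtain ⟨hzs, hzx, hzy⟩ := hz
    have hall : ∀ w ∈ s, w = x ∨ w = y ∨ w = z := by
      have hsub : ({(x : α), (y : α), z} : Finset α) ⊆ s := by
        intro w hw
        simp only [Finset.mem_insert, Finset.mem_singleton] at hw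
        rcases hw with rfl | rfl | rfl
        · exact x.2
        · exact y.2
        · exact hzs
      have hcard : ({(x : α), (y : α), z} : Finset α).card = 3 := by
        rw [Finset.card_eq_three]
        exact ⟨x, y, z, hxy', (Ne.symm hzx), (Ne.symm hzy), rfl⟩
      have heq := Finset.eq_of_subset_of_card_le hsub (by rw [hs, hcard])
      intro w hw
      rw [← heq] at hw
      simpa using hw
    obtain ⟨n, hn, h1, h2, h3⟩ := H.exists_swap x y z hxy' (Ne.symm hzx) (Ne.symm hzy)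
    refine ⟨n, hn, fun w => ?_⟩
    rcases hall w w.2 with hw | hw | hw
    · have : w = x := Subtype.ext hw
      subst this
      rw [h1, Equiv.swap_apply_left]
    · have : w = y := Subtype.ext hw
      subst this
      rw [h2, Equiv.swap_apply_right]
    · have hwx : w ≠ x := fun h => hzx (by rw [← hw, h])
      have hwy : w ≠ y := fun h => hzy (by rw [← hw, h])
      rw [Equiv.swap_apply_of_ne_of_ne hwx hwy, hw, h3]
  intro σ
  have : σ ∈ S := by rw [htop]; exact Subgroup.mem_top σ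
  exact this

end Hyp

end Cfsg.Agent.Helper3.Wagner
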