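import Mathlib
import Cfsg.Agent.Helper3.WagnerB
import Cfsg.Agent.Helper3.GenerousB

set_option autoImplicit false

namespace Cfsg.Agent.Helper3.Wagner

open MulAction Pointwise Cfsg.Agent.Helper3.Generous

variable {α : Type*} [Fintype α] [DecidableEq α]

omit [Fintype α] in
theorem mem_orbit_fix_iff (N : Subgroup (Equiv.Perm α)) (a b y y' : α) :
    y' ∈ MulAction.orbit (fixingSubgroup N ((({a, b} : Finset α) : Finset α) : Set α)) y ↔
      ∃ d ∈ N, d a = a ∧ d b = b ∧ d y = y' := by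
  rw [MulAction.mem_orbit_iff]
  constructor
  · rintro ⟨⟨⟨d, hdN⟩, hd⟩, hdy⟩
    rw [mem_fixingSubgroup_iff] at hd
    refine ⟨d, hdN, hd a (by simp), hd b (by simp), hdy⟩
  · rintro ⟨d, hdN, hda, hdb, hdy⟩
    refine ⟨⟨⟨d, hdN⟩, ?_⟩, hdy⟩
    rw [mem_fixingSubgroup_iff]
    intro z hz
    simp only [Finset.coe_insert, Finset.coe_singleton, Set.mem_insert_iff,
      Set.mem_singleton_iff] at hz
    rcases hz with rfl | rfl
    · exact hda
    · exact hdb

namespace Hyp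

variable {G N : Subgroup (Equiv.Perm α)} (H : Hyp G N)
include H

theorem orbit_image (a b c₀ : α) (g : Equiv.Perm α) (hg : g ∈ G) (hga : g a = a) (hgb : g b = b) :
    MulAction.orbit (fixingSubgroup N ((({a, b} : Finset α) : Finset α) : Set α)) (g c₀) =
      (fun z => g z) '' MulAction.orbit (fixingSubgroup N ((({a, b} : Finset α) : Finset α) : Set α)) c₀ := by
  have hga' : g⁻¹ a = a := by rw [Equiv.Perm.inv_eq_iff_eq, hga]
  have hgb' : g⁻¹ b = b := by rw [Equiv.Perm.inv_eq_iff_eq, hgb]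
  ext y'
  rw [mem_orbit_fix_iff]
  constructor
  · rintro ⟨d, hdN, hda, hdb, hdy⟩
    refine ⟨g⁻¹ y', ?_, by simp⟩
    rw [mem_orbit_fix_iff]
    refine ⟨g⁻¹ * d * g⁻¹⁻¹, H.normal g⁻¹ (G.inv_mem hg) d hdN, ?_, ?_, ?_⟩
    · simp only [Equiv.Perm.mul_apply, inv_inv, hga, hda, hga']
    · simp only [Equiv.Perm.mul_apply, inv_inv, hgb, hdb, hgb']
    · simp only [Equiv.Perm.mul_apply, inv_inv, hdy]
  · rintro ⟨z, hz, rfl⟩
    rw [mem_orbit_fix_iff] at hz
    obtain ⟨d, hdN, hda, hdb, hdy⟩ := hz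
    refine ⟨g * d * g⁻¹, H.normal g hg d hdN, ?_, ?_, ?_⟩
    · simp only [Equiv.Perm.mul_apply, hga', hda, hga]
    · simp only [Equiv.Perm.mul_apply, hgb', hdb, hgb]
    · have : g⁻¹ (g c₀) = c₀ := by simp
      simp only [Equiv.Perm.mul_apply, this, hdy]

theorem odd_orbit (a b y : α) (hab : a ≠ b) (hya : y ≠ a) (hyb : y ≠ b) :
    ¬ 2 ∣ Nat.card (MulAction.orbit (fixingSubgroup N ((({a, b} : Finset α) : Finset α) : Set α)) y) := by
  have := Fact.mk Nat.prime_two
  set D : Subgroup N := fixingSubgroup N ((({a, b} : Finset α) : Finset α) : Set α) with hD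
  obtain ⟨Q⟩ : Nonempty (Sylow 2 D) := inferInstance
  have hDfix : ∀ d : D, ((d : N) : Equiv.Perm α) a = a ∧ ((d : N) : Equiv.Perm α) b = b := by
    intro d
    have h0 : (d : N) ∈ fixingSubgroup N ((({a, b} : Finset α) : Finset α) : Set α) := d.2
    rw [mem_fixingSubgroup_iff] at h0
    exact ⟨h0 a (by simp), h0 b (by simp)⟩
  have hinv : ∀ z : (Q : Subgroup D), ∀ w ∈ (({a, b} : Set α)ᶜ : Set α),
      z • w ∈ (({a, b} : Set α)ᶜ : Set α) := by
    intro z w hw hcon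
    apply hw
    obtain ⟨h1, h2⟩ := hDfix (z : D)
    have hcon' : (((z : D) : N) : Equiv.Perm α) w ∈ ({a, b} : Set α) := hcon
    simp only [Set.mem_insert_iff, Set.mem_singleton_iff] at hcon' ⊢
    rcases hcon' with h | h
    · left; rw [← h1] at h; exact (((z : D) : N) : Equiv.Perm α).injective h
    · right; rw [← h2] at h; exact (((z : D) : N) : Equiv.Perm α).injective h
  obtain ⟨c₀, hc₀, hfix⟩ := exists_fixed_of_pgroup (H := ↥(Q : Subgroup D)) (β := α) Q.2 _ hinv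
    (card_compl_pair_odd H.odd H.five hab)
  have hc₀ab : c₀ ≠ a ∧ c₀ ≠ b := by
    simp only [Set.mem_compl_iff, Set.mem_insert_iff, Set.mem_singleton_iff, not_or] at hc₀
    exact hc₀
  have hQle : (Q : Subgroup D) ≤ stabilizer D c₀ := by
    intro z hz
    rw [mem_stabilizer_iff]
    exact hfix ⟨z, hz⟩
  have hodd0 : ¬ 2 ∣ Nat.card (MulAction.orbit D c₀) := by
    rw [Nat.card_coe_set_eq, ← MulAction.index_stabilizer]
    intro h2
    exact Q.not_dvd_index (h2.trans (Subgroup.index_dvd_of_le hQle))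
  obtain ⟨g, hg, h1, h2, h3⟩ := H.t3 a b c₀ a b y hab hc₀ab.1.symm hc₀ab.2.symm hab hya.symm hyb.symm
  have himg := H.orbit_image a b c₀ g hg h1 h2
  rw [h3] at himg
  rw [Nat.card_coe_set_eq, himg, Set.ncard_image_of_injective _ g.injective, ← Nat.card_coe_set_eq]
  exact hodd0

theorem fix_transitive (a b c c' : α) (hab : a ≠ b) (hca : c ≠ a) (hcb : c ≠ b) (hca' : c' ≠ a)
    (hcb' : c' ≠ b) : ∃ d ∈ N, d a = a ∧ d b = b ∧ d c = c' := by
  rw [← mem_orbit_fix_iff]
  by_contra hcon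
  have hcon' : c ∉ MulAction.orbit (fixingSubgroup N ((({a, b} : Finset α) : Finset α) : Set α)) c' := by
    intro h
    apply hcon
    rw [mem_orbit_fix_iff] at h ⊢
    obtain ⟨d, hdN, hda, hdb, hdc⟩ := h
    refine ⟨d⁻¹, N.inv_mem hdN, ?_, ?_, ?_⟩
    · rw [Equiv.Perm.inv_eq_iff_eq, hda]
    · rw [Equiv.Perm.inv_eq_iff_eq, hdb]
    · rw [Equiv.Perm.inv_eq_iff_eq, hdc]
  have hmain := main N H.gen Nat.prime_two le_rfl ({a, b} : Finset α) (Finset.card_pair hab)
    ![c, c'] (by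
      intro i
      fin_cases i
      · simp [hca, hcb]
      · simp [hca', hcb']) (by
      intro i j hij
      fin_cases i <;> fin_cases j
      · exact absurd rfl hij
      · simpa using hcon
      · simpa using hcon'
      · exact absurd rfl hij)
  obtain ⟨i, hi⟩ := hmain
  fin_cases i
  · exact H.odd_orbit a b c hab hca hcb (by simpa using hi)
  · exact H.odd_orbit a b c' hab hca' hcb' (by simpa using hi)

/-- Wagner's theorem -/
theorem n_t3 : T3 N := by
  intro a b c a' b' c' hab hac hbc hab' hac' hbc'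
  obtain ⟨n₁, hn₁, h1, h2⟩ := H.n_t2 a b a' b' hab hab'
  have hc₁a : n₁ c ≠ a' := by
    intro h; rw [← h1] at h; exact hac (n₁.injective h).symm
  have hc₁b : n₁ c ≠ b' := by
    intro h; rw [← h2] at h; exact hbc (n₁.injective h).symm
  obtain ⟨d, hd, hda, hdb, hdc⟩ := H.fix_transitive a' b' (n₁ c) c' hab' hc₁a hc₁b hac'.symm hbc'.symm
  refine ⟨d * n₁, N.mul_mem hd hn₁, ?_, ?_, ?_⟩
  · rw [Equiv.Perm.mul_apply, h1, hda]
  · rw [Equiv.Perm.mul_apply, h2, hdb]
  · rw [Equiv.Perm.mul_apply, hdc]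

end Hyp

end Cfsg.Agent.Helper3.Wagner
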