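import Mathlib

set_option autoImplicit false

namespace Cfsg.Agent.Helper3.Wr

/-- the cyclic group of order `p`. -/
abbrev Cp (p : ℕ) : Type := Multiplicative (ZMod p)

/-- the wreath product `C_p ≀ C_p`. -/
abbrev WrP (p : ℕ) : Type := RegularWreathProduct (Cp p) (Cp p)

theorem card_Cp (p : ℕ) [hp : Fact p.Prime] : Nat.card (Cp p) = p := by
  have h1 : Nat.card (Cp p) = Nat.card (ZMod p) := Nat.card_congr Multiplicative.toAdd
  rw [h1, Nat.card_eq_fintype_card]
  exact ZMod.card p

theorem pow_eq_one_Cp (p : ℕ) [hp : Fact p.Prime] (g : Cp p) : g ^ p = 1 := by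
  have := pow_card_eq_one' (G := Cp p) (x := g)
  rw [card_Cp] at this
  exact this

theorem eq_pow_Cp (p : ℕ) [hp : Fact p.Prime] (x : Cp p) :
    x = (Multiplicative.ofAdd (1 : ZMod p)) ^ (Multiplicative.toAdd x).val := by
  rw [← ofAdd_nsmul, nsmul_one, ZMod.natCast_zmod_val]
  rfl

set_option maxHeartbeats 1000000 in
/-- the regular wreath product `C_p ≀ C_p` has the defining properties. -/
theorem wr_prop (p : ℕ) [hp : Fact p.Prime] :
    ∃ (B : Subgroup (WrP p)) (t : WrP p), B.Normal ∧ IsMulCommutative B ∧ (∀ b ∈ B, b ^ p = 1) ∧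
      Nat.card B = p ^ p ∧ orderOf t = p ∧ t ∉ B ∧ Nat.card (WrP p) = p ^ (p + 1) ∧
      Nat.card ↥(B ⊓ Subgroup.centralizer ({t} : Set (WrP p))) = p := by
  classical
  obtain ⟨f, hf⟩ : ∃ f : WrP p →* Cp p, f = RegularWreathProduct.rightHom := ⟨_, rfl⟩
  have hfapp : ∀ b : WrP p, f b = b.right := by
    intro b; rw [hf]; rfl
  obtain ⟨q₁, hq₁⟩ : ∃ q₁ : Cp p, q₁ = Multiplicative.ofAdd (1 : ZMod p) := ⟨_, rfl⟩
  obtain ⟨t, ht⟩ : ∃ t : WrP p, t = RegularWreathProduct.inl q₁ := ⟨_, rfl⟩
  have hB : ∀ b : WrP p, b ∈ f.ker ↔ b.right = 1 := by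
    intro b
    rw [MonoidHom.mem_ker, hfapp]
  have hcardW : Nat.card (WrP p) = p ^ p * p := by
    rw [RegularWreathProduct.card, card_Cp]
  have hq₁ne : q₁ ≠ 1 := by
    rw [hq₁]
    intro h
    have h1 : (1 : ZMod p) = 0 := by
      have := congrArg Multiplicative.toAdd h
      simpa using this
    haveI : Fact (1 < p) := ⟨hp.out.one_lt⟩
    exact one_ne_zero h1
  refine ⟨f.ker, t, MonoidHom.normal_ker f, ?_, ?_, ?_, ?_, ?_, ?_, ?_⟩
  · refine ⟨⟨?_⟩⟩
    rintro ⟨a, ha⟩ ⟨b, hb⟩
    apply Subtype.ext
    rw [hB] at ha hb
    change a * b = b * a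
    apply RegularWreathProduct.ext
    · rw [RegularWreathProduct.mul_left, RegularWreathProduct.mul_left, ha, hb]
      funext x
      simp only [inv_one, one_mul, Pi.mul_apply]
      exact mul_comm _ _
    · rw [RegularWreathProduct.mul_right, RegularWreathProduct.mul_right, ha, hb]
  · intro b hb
    rw [hB] at hb
    have hpow : ∀ k : ℕ, b ^ k = ⟨b.left ^ k, 1⟩ := by
      intro k
      induction k with
      | zero =>
        rw [pow_zero, pow_zero]
        rfl
      | succ k ih =>
        rw [pow_succ, ih]
        apply RegularWreathProduct.ext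
        · rw [RegularWreathProduct.mul_left]
          funext x
          simp only [inv_one, one_mul, Pi.mul_apply, Pi.pow_apply]
          rw [pow_succ]
        · rw [RegularWreathProduct.mul_right, hb]
          exact mul_one _
    rw [hpow]
    apply RegularWreathProduct.ext
    · funext x
      simp only [Pi.pow_apply]
      exact pow_eq_one_Cp p _
    · rfl
  · have h1 := Subgroup.card_mul_index f.ker
    rw [Subgroup.index_ker] at h1
    have hsurj : Function.Surjective f := by
      intro q
      refine ⟨RegularWreathProduct.inl q, ?_⟩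
      rw [hfapp]; rfl
    have h2 : Nat.card f.range = p := by
      rw [MonoidHom.range_eq_top.2 hsurj, Subgroup.card_top, card_Cp]
    rw [h2, hcardW] at h1
    exact Nat.eq_of_mul_eq_mul_right hp.out.pos h1
  · have hinj : Function.Injective (RegularWreathProduct.inl : Cp p →* WrP p) := by
      intro a b hab
      have := congrArg RegularWreathProduct.right hab
      exact this
    rw [ht, orderOf_injective _ hinj, hq₁, orderOf_ofAdd_eq_addOrderOf, ZMod.addOrderOf_one]
  · rw [hB, ht]
    exact hq₁ne
  · rw [hcardW, pow_succ]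
  · -- the centralizer: constant functions
    have hmem : ∀ b : WrP p, b ∈ f.ker ⊓ Subgroup.centralizer ({t} : Set (WrP p)) ↔
        b.right = 1 ∧ ∀ x, b.left x = b.left 1 := by
      intro b
      rw [Subgroup.mem_inf, hB, Subgroup.mem_centralizer_singleton_iff]
      constructor
      · rintro ⟨hb, hc⟩
        refine ⟨hb, ?_⟩
        have h1 := congrArg RegularWreathProduct.left hc
        rw [RegularWreathProduct.mul_left, RegularWreathProduct.mul_left, ht] at h1
        have h2 : ∀ x, b.left (q₁⁻¹ * x) = b.left x := by
          intro x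
          have := congrFun h1 x
          simp at this
          exact this.symm
        have h3 : ∀ k : ℕ, b.left (q₁ ^ k) = b.left 1 := by
          intro k
          induction k with
          | zero => rw [pow_zero]
          | succ k ih =>
            have := h2 (q₁ ^ (k + 1))
            rw [pow_succ', inv_mul_cancel_left] at this
            rw [pow_succ', ← this, ih]
        intro x
        rw [eq_pow_Cp p x, ← hq₁]
        exact h3 _
      · rintro ⟨hb, hc⟩
        refine ⟨hb, ?_⟩
        apply RegularWreathProduct.ext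
        · rw [RegularWreathProduct.mul_left, RegularWreathProduct.mul_left, ht]
          funext x
          simp only [RegularWreathProduct.left_inl, RegularWreathProduct.right_inl, Pi.mul_apply,
            Pi.one_apply, one_mul, mul_one]
          rw [hc (q₁⁻¹ * x), hc x]
        · rw [RegularWreathProduct.mul_right, RegularWreathProduct.mul_right, hb, ht]
          simp
    let e : ↥(f.ker ⊓ Subgroup.centralizer ({t} : Set (WrP p))) ≃ Cp p :=
      { toFun := fun b => b.1.left 1
        invFun := fun d => ⟨⟨fun _ => d, 1⟩, (hmem _).2 ⟨rfl, fun _ => rfl⟩⟩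
        left_inv := by
          intro b
          apply Subtype.ext
          have hb := (hmem b.1).1 b.2
          apply RegularWreathProduct.ext
          · funext x
            exact (hb.2 x).symm
          · exact hb.1.symm
        right_inv := by
          intro d
          rfl }
    rw [Nat.card_congr e, card_Cp]

end Cfsg.Agent.Helper3.Wr
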