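import Mathlib
import Cfsg.Agent.Helper3.WrProp
import Cfsg.Agent.Helper3.HHLinA
import Cfsg.Agent.Helper3.HHConjA
import Cfsg.Agent.Lead.InvolvesLemmas

set_option autoImplicit false

namespace Cfsg.Agent.Helper3.Wr

open Module Cfsg.Agent.Helper3.HH

/-- A variant of `involves_of_maps` with a non-injective map. -/
theorem involves_of_maps_ker {H : Type*} [Group H] {G : Type*} [Group G] {A : Type*} [Group A]
    (i : A →* G) (f : A →* H) (hf : Function.Surjective f) (hk : ∀ x, i x = 1 → f x = 1) :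
    Cfsg.Involves H G := by
  have hle : i.ker ≤ f.ker := fun x hx => MonoidHom.mem_ker.2 (hk x (MonoidHom.mem_ker.1 hx))
  refine Cfsg.Agent.Lead.involves_of_maps (QuotientGroup.kerLift i)
    (QuotientGroup.kerLift_injective i) (QuotientGroup.lift i.ker f hle) ?_
  intro y
  obtain ⟨x, hx⟩ := hf y
  exact ⟨(x : A ⧸ i.ker), by rw [QuotientGroup.lift_mk]; exact hx⟩

set_option maxHeartbeats 4000000 in
/-- a `p`-element acting on an elementary abelian quotient of a normal subgroup `A` with a Jordan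
block of size `p` gives a section `C_p ≀ C_p`. -/
theorem wreath_section {G : Type*} [Group G] (p : ℕ) [hp : Fact p.Prime] (A : Subgroup G)
    [hAn : A.Normal] {V : Type*} [AddCommGroup V] [Module (ZMod p) V]
    (θ₀ : ↥A →* Multiplicative V) (hθ₀ : Function.Surjective θ₀)
    (ρ₀ : G →* Module.End (ZMod p) V)
    (hequiv : ∀ (g : G) (u : ↥A), ρ₀ g (Multiplicative.toAdd (θ₀ u)) =
      Multiplicative.toAdd (θ₀ ⟨g * u * g⁻¹, hAn.conj_mem u u.2 g⟩))
    (x : G) (hxA : x ∉ A) (hxp : x ^ p ∈ A) (hT : (ρ₀ x - 1) ^ (p - 1) ≠ 0) :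
    Cfsg.Involves (WrP p) G := by
  classical
  have hp1 : 1 < p := hp.out.one_lt
  haveI : Fact (1 < p) := ⟨hp1⟩
  obtain ⟨tv, htv⟩ : ∃ tv : ↥A → V, ∀ u, tv u = Multiplicative.toAdd (θ₀ u) := ⟨_, fun _ => rfl⟩
  have htv_mul : ∀ u u' : ↥A, tv (u * u') = tv u + tv u' := by
    intro u u'
    rw [htv, htv, htv, map_mul]
    rfl
  have htv_one : tv 1 = 0 := by
    rw [htv, map_one]
    rfl
  have htv_surj : Function.Surjective tv := by
    intro w
    obtain ⟨u, hu⟩ := hθ₀ (Multiplicative.ofAdd w)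
    exact ⟨u, by rw [htv, hu]; rfl⟩
  have htv_conj : ∀ (g : G) (u : ↥A) (h : g * u * g⁻¹ ∈ A),
      tv ⟨g * u * g⁻¹, h⟩ = ρ₀ g (tv u) := by
    intro g u h
    rw [htv, htv, hequiv]
  have htriv : ∀ u : ↥A, ρ₀ (u : G) = 1 := by
    intro u
    apply LinearMap.ext
    intro w
    obtain ⟨u', rfl⟩ := htv_surj w
    rw [← htv_conj (u : G) u' (hAn.conj_mem u' u'.2 u), Module.End.one_apply]
    have e1 : (⟨(u : G) * u' * (u : G)⁻¹, hAn.conj_mem u' u'.2 u⟩ : ↥A) = u * u' * u⁻¹ :=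
      Subtype.ext (by simp)
    have h0 : tv u + tv u⁻¹ = 0 := by rw [← htv_mul, mul_inv_cancel, htv_one]
    rw [e1, htv_mul, htv_mul]
    calc tv u + tv u' + tv u⁻¹ = tv u' + (tv u + tv u⁻¹) := by abel
      _ = tv u' := by rw [h0, add_zero]
  obtain ⟨R, hR⟩ : ∃ R : Module.End (ZMod p) V, R = ρ₀ x := ⟨_, rfl⟩
  rw [← hR] at hT
  have hRp : R ^ p = 1 := by
    rw [hR, ← map_pow]
    exact htriv ⟨x ^ p, hxp⟩
  have hnorm : ∑ i ∈ Finset.range p, R ^ i = (R - 1) ^ (p - 1) := by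
    have := geom_sum_eq_pow (ZMod p) p 1 R
    rwa [pow_one] at this
  obtain ⟨Nm, hNm⟩ : ∃ Nm : Module.End (ZMod p) V, Nm = ∑ i ∈ Finset.range p, R ^ i :=
    ⟨_, rfl⟩
  have hRN : R * Nm = Nm := by
    rw [hNm, Finset.mul_sum]
    have h1 : ∀ i ∈ Finset.range p, R * R ^ i = R ^ (i + 1) := fun i _ => (pow_succ' R i).symm
    rw [Finset.sum_congr rfl h1]
    have h2 := Finset.sum_range_succ' (fun i => R ^ i) p
    have h3 := Finset.sum_range_succ (fun i => R ^ i) p
    rw [h3, hRp, pow_zero] at h2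
    exact (add_right_cancel h2).symm
  have hNm0 : Nm ≠ 0 := by
    rw [hNm, hnorm]
    exact hT
  obtain ⟨w₀, hw₀⟩ : ∃ w₀, Nm w₀ ≠ 0 := by
    by_contra h
    push Not at h
    exact hNm0 (LinearMap.ext h)
  obtain ⟨lam, hlam⟩ : ∃ lam : Module.Dual (ZMod p) V, lam (Nm w₀) ≠ 0 := by
    by_contra hcon
    push Not at hcon
    exact hw₀ ((Module.forall_dual_apply_eq_zero_iff (ZMod p) _).1 hcon)
  -- powers of R indexed by the cyclic group
  let Eh : Cp p →* Module.End (ZMod p) V :=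
    { toFun := fun q => R ^ (Multiplicative.toAdd q).val
      map_one' := by
        change R ^ (0 : ZMod p).val = 1
        rw [ZMod.val_zero, pow_zero]
      map_mul' := by
        intro a b
        change R ^ (Multiplicative.toAdd a + Multiplicative.toAdd b).val = _
        rw [ZMod.val_add, ← pow_add,
          pow_eq_pow_mod ((Multiplicative.toAdd a).val + (Multiplicative.toAdd b).val) hRp] }
  have hEh_app : ∀ q : Cp p, Eh q = R ^ (Multiplicative.toAdd q).val := fun _ => rfl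
  obtain ⟨q₁, hq₁⟩ : ∃ q₁ : Cp p, q₁ = Multiplicative.ofAdd (1 : ZMod p) := ⟨_, rfl⟩
  have hEh1 : Eh q₁ = R := by
    rw [hEh_app, hq₁]
    change R ^ (1 : ZMod p).val = R
    rw [ZMod.val_one, pow_one]
  have hfix_pow : ∀ w, R w = w → ∀ k : ℕ, (R ^ k) w = w := by
    intro w hw k
    induction k with
    | zero => rw [pow_zero, Module.End.one_apply]
    | succ k ih => rw [pow_succ, Module.End.mul_apply, hw, ih]
  have hEh_fix : ∀ (q : Cp p) w, R w = w → Eh q w = w := by
    intro q w hw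
    rw [hEh_app]
    exact hfix_pow w hw _
  -- the coordinate map
  obtain ⟨c, hc⟩ : ∃ c : V →ₗ[ZMod p] (Cp p → ZMod p), ∀ w q, c w q = lam (Eh q⁻¹ w) :=
    ⟨LinearMap.pi (fun q => lam ∘ₗ (Eh q⁻¹)), fun _ _ => rfl⟩
  have hc_Eh : ∀ (q' : Cp p) w q, c (Eh q' w) q = c w (q'⁻¹ * q) := by
    intro q' w q
    rw [hc, hc, ← Module.End.mul_apply, ← map_mul, mul_inv_rev, inv_inv]
  -- surjectivity of c
  obtain ⟨σ, hσ⟩ : ∃ σ : Module.End (ZMod p) (Cp p → ZMod p), ∀ f q, σ f q = f (q₁⁻¹ * q) :=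
    ⟨LinearMap.funLeft (ZMod p) (ZMod p) (fun q => q₁⁻¹ * q), fun _ _ => rfl⟩
  have hcσ : ∀ w, c (R w) = σ (c w) := by
    intro w
    funext q
    rw [hσ, ← hEh1, hc_Eh]
  have hσpow : ∀ k : ℕ, ∀ f q, (σ ^ k) f q = f ((q₁ ^ k)⁻¹ * q) := by
    intro k
    induction k with
    | zero => intro f q; simp
    | succ k ih =>
      intro f q
      rw [pow_succ, Module.End.mul_apply, ih, hσ, pow_succ]
      congr 1
      rw [mul_inv_rev, mul_assoc]
  have hσp : σ ^ p = 1 := by
    apply LinearMap.ext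
    intro f
    funext q
    rw [hσpow, pow_eq_one_Cp, inv_one, one_mul, Module.End.one_apply]
  haveI : CharP (Module.End (ZMod p) (Cp p → ZMod p)) p :=
    charP_of_injective_algebraMap
      (algebraMap (ZMod p) (Module.End (ZMod p) (Cp p → ZMod p))).injective p
  obtain ⟨τ, hτ⟩ : ∃ τ : Module.End (ZMod p) (Cp p → ZMod p), τ = σ - 1 := ⟨_, rfl⟩
  have hτp : τ ^ (p - 1 + 1) = 0 := by
    rw [Nat.sub_add_cancel hp.out.pos, hτ]
    have := sub_pow_char_pow_of_commute p 1 (Commute.one_right σ)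
    rw [pow_one, one_pow, hσp, sub_self] at this
    exact this
  have hcτ : ∀ k : ℕ, ∀ w, c (((R - 1) ^ k) w) = (τ ^ k) (c w) := by
    intro k
    induction k with
    | zero => intro w; simp
    | succ k ih =>
      intro w
      rw [pow_succ, pow_succ, Module.End.mul_apply, Module.End.mul_apply, ih]
      congr 1
      rw [LinearMap.sub_apply, Module.End.one_apply, map_sub, hcσ, hτ, LinearMap.sub_apply,
        Module.End.one_apply]
  have hcN : ∀ w q, c (Nm w) q = lam (Nm w) := by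
    intro w q
    rw [hc, hEh_fix]
    rw [← Module.End.mul_apply, hRN]
  have hτne : (τ ^ (p - 1)) (c w₀) ≠ 0 := by
    rw [← hcτ, ← hnorm, ← hNm]
    intro h0
    apply hlam
    have := congrFun h0 1
    rw [hcN] at this
    exact this
  have hli := cyc_li τ (p - 1) hτp (c w₀) hτne
  have hcsurj : Function.Surjective c := by
    rw [← LinearMap.range_eq_top, eq_top_iff]
    have hcard : Fintype.card (Fin (p - 1 + 1)) = finrank (ZMod p) (Cp p → ZMod p) := by
      rw [Module.finrank_fintype_fun_eq_card, Fintype.card_fin, Nat.sub_add_cancel hp.out.pos,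
        ← Nat.card_eq_fintype_card, card_Cp]
    rw [← hli.span_eq_top_of_card_eq_finrank' hcard, Submodule.span_le]
    rintro _ ⟨k, rfl⟩
    exact ⟨((R - 1) ^ (k : ℕ)) w₀, hcτ _ _⟩
  -- adjusting x
  obtain ⟨w, hw⟩ : ∃ w, w = tv ⟨x ^ p, hxp⟩ := ⟨_, rfl⟩
  have hRw : R w = w := by
    have h1 : x * (x ^ p) * x⁻¹ ∈ A := hAn.conj_mem _ hxp x
    have h2 := htv_conj x ⟨x ^ p, hxp⟩ h1
    rw [← hR, ← hw] at h2
    rw [← h2, hw]
    congr 1
    apply Subtype.ext
    change x * x ^ p * x⁻¹ = x ^ p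
    rw [mul_inv_eq_iff_eq_mul, pow_mul_comm']
  obtain ⟨a, ha⟩ : ∃ a : ZMod p, a * lam (Nm w₀) + lam w = 0 := by
    refine ⟨- lam w / lam (Nm w₀), ?_⟩
    rw [div_mul_cancel₀ _ hlam, neg_add_cancel]
  obtain ⟨u₀, hu₀⟩ := htv_surj (a • w₀)
  obtain ⟨x', hx'⟩ : ∃ x' : G, x' = (u₀ : G) * x := ⟨_, rfl⟩
  have hρx' : ρ₀ x' = R := by
    rw [hx', map_mul, htriv, one_mul, hR]
  have hx'A : x' ∉ A := by
    intro h
    apply hxA
    have : x = (u₀ : G)⁻¹ * x' := by rw [hx']; group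
    rw [this]
    exact A.mul_mem (A.inv_mem u₀.2) h
  -- the norm product
  obtain ⟨npA, hnp0, hnps⟩ : ∃ npA : ℕ → ↥A, npA 0 = 1 ∧ ∀ k, npA (k + 1) =
      npA k * ⟨x ^ k * u₀ * (x ^ k)⁻¹, hAn.conj_mem u₀ u₀.2 (x ^ k)⟩ :=
    ⟨fun k => Nat.rec (1 : ↥A)
      (fun k acc => acc * ⟨x ^ k * u₀ * (x ^ k)⁻¹, hAn.conj_mem u₀ u₀.2 (x ^ k)⟩) k,
      rfl, fun _ => rfl⟩
  have hpow_np : ∀ k : ℕ, x' ^ k = ((npA k : ↥A) : G) * x ^ k := by
    intro k
    induction k with
    | zero => rw [pow_zero, pow_zero, hnp0]; simp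
    | succ k ih =>
      rw [pow_succ, ih, hnps, Subgroup.coe_mul, hx']
      change ((npA k : ↥A) : G) * x ^ k * ((u₀ : G) * x) =
        ((npA k : ↥A) : G) * (x ^ k * (u₀ : G) * (x ^ k)⁻¹) * x ^ (k + 1)
      rw [pow_succ]
      group
  have htv_np : ∀ k : ℕ, tv (npA k) = ∑ i ∈ Finset.range k, (R ^ i) (tv u₀) := by
    intro k
    induction k with
    | zero => rw [hnp0, htv_one, Finset.range_zero, Finset.sum_empty]
    | succ k ih =>
      rw [hnps, htv_mul, ih, Finset.sum_range_succ, htv_conj, map_pow, hR]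
  have hx'p : x' ^ p ∈ A := by
    rw [hpow_np]
    exact A.mul_mem (npA p).2 hxp
  obtain ⟨z, hz⟩ : ∃ z : ↥A, (z : G) = x' ^ p := ⟨⟨x' ^ p, hx'p⟩, rfl⟩
  have hzeq : z = npA p * ⟨x ^ p, hxp⟩ := by
    apply Subtype.ext
    rw [hz, hpow_np, Subgroup.coe_mul]
  have htvz : tv z = a • Nm w₀ + w := by
    rw [hzeq, htv_mul, htv_np, ← hw, hu₀, ← LinearMap.sum_apply, ← hNm, map_smul]
  have hcz : c (tv z) = 0 := by
    funext q
    rw [hc, hEh_fix _ _ (by
      rw [htvz, map_add, map_smul, ← Module.End.mul_apply, hRN, hRw])]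
    rw [htvz, map_add, map_smul, smul_eq_mul, Pi.zero_apply]
    exact ha
  -- the homomorphism killing z
  obtain ⟨g₀, hg₀⟩ : ∃ g₀ : ↥A →* Multiplicative (Cp p → ZMod p),
      ∀ u, g₀ u = Multiplicative.ofAdd (c (tv u)) := by
    refine ⟨(AddMonoidHom.toMultiplicative c.toAddMonoidHom).comp θ₀, ?_⟩
    intro u
    rw [htv]
    rfl
  have hg₀z : g₀ z = 1 := by
    rw [hg₀, hcz]
    rfl
  -- the source group
  obtain ⟨φ₁, hφ₁⟩ : ∃ φ₁ : Multiplicative ℤ →* MulAut ↥A,
      ∀ n u, ((φ₁ n u : ↥A) : G) = (zpowersHom G x' n) * u * (zpowersHom G x' n)⁻¹ := by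
    refine ⟨(MulAut.conjNormal (H := A)).comp (zpowersHom G x'), ?_⟩
    intro n u
    rw [MonoidHom.comp_apply, MulAut.conjNormal_apply]
  obtain ⟨j, hj⟩ : ∃ j : ↥A ⋊[φ₁] Multiplicative ℤ →* G,
      ∀ s, j s = (s.left : G) * zpowersHom G x' s.right := by
    refine ⟨SemidirectProduct.lift A.subtype (zpowersHom G x') ?_, fun s => rfl⟩
    intro n
    ext u
    simp only [MonoidHom.comp_apply, MulEquiv.coe_toMonoidHom, Subgroup.coe_subtype,
      MulAut.conj_apply]
    exact hφ₁ n u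
  -- ρ₀ on powers of x'
  obtain ⟨cast, hcast⟩ : ∃ cast : Multiplicative ℤ →* Cp p,
      ∀ n, cast n = Multiplicative.ofAdd ((Multiplicative.toAdd n : ℤ) : ZMod p) :=
    ⟨AddMonoidHom.toMultiplicative (Int.castAddHom (ZMod p)), fun _ => rfl⟩
  have hρE : ∀ n : Multiplicative ℤ, ρ₀ (zpowersHom G x' n) = Eh (cast n) := by
    have : ρ₀.comp (zpowersHom G x') = Eh.comp cast := by
      apply MonoidHom.ext_mint
      rw [MonoidHom.comp_apply, MonoidHom.comp_apply, zpowersHom_apply, toAdd_ofAdd, zpow_one, hρx',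
        hcast]
      have : ((Multiplicative.toAdd (Multiplicative.ofAdd (1 : ℤ)) : ℤ) : ZMod p) = 1 := by
        simp
      rw [this, ← hq₁, hEh1]
    intro n
    exact DFunLike.congr_fun this n
  have hkey : ∀ (n : Multiplicative ℤ) (u' : ↥A) (q : Cp p),
      c (tv (φ₁ n u')) q = c (tv u') ((cast n)⁻¹ * q) := by
    intro n u' q
    have h1 : zpowersHom G x' n * u' * (zpowersHom G x' n)⁻¹ ∈ A :=
      hAn.conj_mem u' u'.2 _
    have e1 : φ₁ n u' = ⟨zpowersHom G x' n * u' * (zpowersHom G x' n)⁻¹, h1⟩ :=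
      Subtype.ext (hφ₁ n u')
    rw [e1, htv_conj, hρE, hc_Eh]
  -- the map to the wreath product
  let F : ↥A ⋊[φ₁] Multiplicative ℤ →* WrP p :=
    { toFun := fun s => ⟨fun q => Multiplicative.ofAdd (c (tv s.left) q), cast s.right⟩
      map_one' := by
        apply RegularWreathProduct.ext
        · funext q
          change Multiplicative.ofAdd (c (tv 1) q) = 1
          rw [htv_one, map_zero]
          rfl
        · change cast 1 = 1
          exact map_one cast
      map_mul' := by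
        intro s s'
        apply RegularWreathProduct.ext
        · funext q
          rw [RegularWreathProduct.mul_left]
          change Multiplicative.ofAdd (c (tv (s * s').left) q) =
            Multiplicative.ofAdd (c (tv s.left) q) *
              Multiplicative.ofAdd (c (tv s'.left) ((cast s.right)⁻¹ * q))
          rw [SemidirectProduct.mul_left, htv_mul, map_add, Pi.add_apply, hkey, ofAdd_add]
        · rw [RegularWreathProduct.mul_right]
          change cast (s * s').right = cast s.right * cast s'.right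
          rw [SemidirectProduct.mul_right, map_mul] }
  have hF_left : ∀ s q, (F s).left q = Multiplicative.ofAdd (c (tv s.left) q) := fun _ _ => rfl
  have hF_right : ∀ s, (F s).right = cast s.right := fun _ => rfl
  have hFsurj : Function.Surjective F := by
    intro y
    obtain ⟨w', hw'⟩ := hcsurj (fun q => Multiplicative.toAdd (y.left q))
    obtain ⟨u, hu⟩ := htv_surj w'
    refine ⟨⟨u, Multiplicative.ofAdd (((Multiplicative.toAdd y.right).val : ℕ) : ℤ)⟩, ?_⟩
    apply RegularWreathProduct.ext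
    · funext q
      rw [hF_left]
      change Multiplicative.ofAdd (c (tv u) q) = y.left q
      rw [hu, hw']
      rfl
    · rw [hF_right]
      change cast (Multiplicative.ofAdd (((Multiplicative.toAdd y.right).val : ℕ) : ℤ)) = y.right
      rw [hcast]
      simp
  apply involves_of_maps_ker j F hFsurj
  intro s hs
  rw [hj] at hs
  obtain ⟨m, hm⟩ : ∃ m : ℤ, m = Multiplicative.toAdd s.right := ⟨_, rfl⟩
  have hzp : zpowersHom G x' s.right = x' ^ m := by rw [hm]; rfl
  rw [hzp] at hs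
  have hxm : x' ^ m = ((s.left : ↥A) : G)⁻¹ := eq_inv_of_mul_eq_one_right hs
  obtain ⟨xb, hxb⟩ : ∃ xb : G ⧸ A, xb = QuotientGroup.mk x' := ⟨_, rfl⟩
  have hxbp : xb ^ p = 1 := by
    rw [hxb, ← QuotientGroup.mk_pow, QuotientGroup.eq_one_iff]
    exact hx'p
  have hxb1 : xb ≠ 1 := by
    rw [hxb]
    intro h
    exact hx'A ((QuotientGroup.eq_one_iff x').1 h)
  have hord : orderOf xb = p := orderOf_eq_prime hxbp hxb1
  have hxbm : xb ^ m = 1 := by
    rw [hxb, ← QuotientGroup.mk_zpow, hxm, QuotientGroup.eq_one_iff]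
    exact A.inv_mem s.left.2
  have hdvd : (p : ℤ) ∣ m := by
    rw [← hord]
    exact orderOf_dvd_iff_zpow_eq_one.2 hxbm
  obtain ⟨m', hm'⟩ := hdvd
  apply RegularWreathProduct.ext
  · funext q
    rw [hF_left]
    have hsl : s.left = z ^ (-m') := by
      apply Subtype.ext
      rw [Subgroup.coe_zpow, hz, zpow_neg, ← zpow_natCast, ← zpow_mul, ← hm', hxm, inv_inv]
    have h1 : g₀ s.left = 1 := by rw [hsl, map_zpow, hg₀z, one_zpow]
    have h2 : c (tv s.left) = 0 := by
      have := hg₀ s.left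
      rw [h1] at this
      exact (congrArg Multiplicative.toAdd this).symm
    rw [h2]
    rfl
  · rw [hF_right, hcast, ← hm, hm']
    change Multiplicative.ofAdd ((((p : ℤ) * m' : ℤ)) : ZMod p) = 1
    push_cast
    rw [ZMod.natCast_self, zero_mul]
    rfl

end Cfsg.Agent.Helper3.Wr
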