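import Mathlib
import Cfsg.Agent.Helper3.WrSection
import Cfsg.Agent.Helper3.FrMod
import Cfsg.Agent.Helper3.ShHHBabs
import Cfsg.Agent.Helper3.HHAbA

set_option autoImplicit false

namespace Cfsg.Agent.Helper3.Wr

open Module Cfsg.Agent.Helper3.Shult

universe u

theorem involves_of_surjective' {H : Type*} [Group H] {D D' : Type*} [Group D] [Group D']
    (f : D →* D') (hf : Function.Surjective f) (h : Cfsg.Involves H D') : Cfsg.Involves H D := by
  obtain ⟨K, g, hg⟩ := Cfsg.Agent.Lead.exists_maps_of_involves h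
  exact Cfsg.Agent.Lead.involves_of_maps (K.comap f).subtype (Subgroup.subtype_injective _)
    (g.comp (f.subgroupComap K)) (hg.comp (f.subgroupComap_surjective_of_surjective K hf))

/-- if `p - 1 = q ^ m` with `p` odd then `p` has the form `2 ^ k + 1`. -/
theorem fermat_of_sub_one_eq_pow {p q m : ℕ} (hp : p.Prime) (hp2 : p ≠ 2) (hq : q.Prime)
    (hm : 1 ≤ m) (h : p ^ 1 - 1 = q ^ m) : ∃ k : ℕ, p = 2 ^ k + 1 := by
  rw [pow_one] at h
  have hodd : Odd p := hp.odd_of_ne_two hp2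
  have heven : Even (q ^ m) := by
    rw [← h]
    obtain ⟨t, ht⟩ := hodd
    exact ⟨t, by omega⟩
  have hq2 : q = 2 := by
    have h2 : 2 ∣ q ^ m := even_iff_two_dvd.1 heven
    have h3 : 2 ∣ q := Nat.Prime.dvd_of_dvd_pow Nat.prime_two h2
    exact ((Nat.prime_dvd_prime_iff_eq Nat.prime_two hq).1 h3).symm
  refine ⟨m, ?_⟩
  rw [hq2] at h
  have := hp.one_lt
  omega

set_option maxHeartbeats 2000000 in
/-- Hall–Higman: in a `p`-solvable group with `O_{p'}(G) = 1` not involving `C_p ≀ C_p`, for `p`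
odd and not of the form `2 ^ k + 1`, the quotient by `O_p(G)` is a `p'`-group. -/
theorem coprime_card_quotient_pCore {G : Type u} [Group G] [Finite G] {p : ℕ} [hp : Fact p.Prime]
    (hp2 : p ≠ 2) (hnf : ¬ ∃ k : ℕ, p = 2 ^ k + 1) (hG : Cfsg.IsPSolvable p G)
    (hO : Cfsg.pPrimeCore p G = ⊥) (hW : ¬ Cfsg.Involves (WrP p) G) :
    (Nat.card (G ⧸ Cfsg.pCore p G)).Coprime p := by
  classical
  by_contra hcop
  have hdvd : p ∣ Nat.card (G ⧸ Cfsg.pCore p G) := by
    by_contra h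
    exact hcop ((Nat.Prime.coprime_iff_not_dvd hp.out).2 h).symm
  obtain ⟨xb, hxb⟩ := exists_prime_orderOf_dvd_card' p hdvd
  obtain ⟨x, rfl⟩ := QuotientGroup.mk_surjective xb
  have hxA : x ∉ Cfsg.pCore p G := by
    intro h
    have h1 : (QuotientGroup.mk x : G ⧸ Cfsg.pCore p G) = 1 :=
      (QuotientGroup.eq_one_iff (N := Cfsg.pCore p G) x).2 h
    rw [h1, orderOf_one] at hxb
    exact hp.out.one_lt.ne hxb
  have hxbp : (QuotientGroup.mk x : G ⧸ Cfsg.pCore p G) ^ p = 1 := by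
    have := pow_orderOf_eq_one (QuotientGroup.mk x : G ⧸ Cfsg.pCore p G)
    rw [hxb] at this
    exact this
  have hxp : x ^ p ∈ Cfsg.pCore p G := by
    rw [← QuotientGroup.eq_one_iff, QuotientGroup.mk_pow]
    exact hxbp
  have hPp : IsPGroup p (Cfsg.pCore p G) := Cfsg.Agent.Helper4.pCore_isPGroup
  obtain ⟨V, instV, instM, instF, θ₀, ρ₀, hθsurj, hθker, hequiv⟩ :=
    exists_frattini_module p (Cfsg.pCore p G) hPp
  -- triviality on the core
  have htriv : ∀ u ∈ Cfsg.pCore p G, ρ₀ u = 1 := by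
    intro u hu
    apply LinearMap.ext
    intro w
    obtain ⟨u', hu'⟩ := hθsurj (Multiplicative.ofAdd w)
    have hw : w = Multiplicative.toAdd (θ₀ u') := by rw [hu']; rfl
    rw [hw, hequiv, Module.End.one_apply]
    congr 1
    have hmem : u * (u' : G) * u⁻¹ ∈ Cfsg.pCore p G :=
      (inferInstance : (Cfsg.pCore p G).Normal).conj_mem _ u'.2 u
    have e1 : (⟨u * u' * u⁻¹, hmem⟩ : ↥(Cfsg.pCore p G)) = ⟨u, hu⟩ * u' * ⟨u, hu⟩⁻¹ :=
      Subtype.ext (by simp)
    rw [e1, map_mul, map_mul, map_inv, mul_comm (θ₀ ⟨u, hu⟩), mul_assoc, mul_inv_cancel,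
      mul_one]
  obtain ⟨ρb, hρb⟩ : ∃ ρb : G ⧸ Cfsg.pCore p G →* Module.End (ZMod p) V,
      ∀ g : G, ρb (QuotientGroup.mk g) = ρ₀ g :=
    ⟨QuotientGroup.lift (Cfsg.pCore p G) ρ₀ htriv, fun g => QuotientGroup.lift_mk _ _ g⟩
  have hfaith : ∀ g : G ⧸ Cfsg.pCore p G, ρb g = 1 → g = 1 := by
    intro g hg
    obtain ⟨g, rfl⟩ := QuotientGroup.mk_surjective g
    rw [hρb] at hg
    rw [QuotientGroup.eq_one_iff]
    apply Cfsg.Agent.Helper4.mem_pCore_of_commutator_mem_frattini hG hO g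
    intro k hk
    have h1 := hequiv g ⟨k, hk⟩
    rw [hg, Module.End.one_apply] at h1
    have hmem : g * k * g⁻¹ ∈ Cfsg.pCore p G :=
      (inferInstance : (Cfsg.pCore p G).Normal).conj_mem k hk g
    have h2 : θ₀ ⟨g * k * g⁻¹, hmem⟩ = θ₀ ⟨k, hk⟩ := (congrArg Multiplicative.ofAdd h1).symm
    have h3 : θ₀ (⟨g * k * g⁻¹, hmem⟩ * ⟨k, hk⟩⁻¹) = 1 := by
      rw [map_mul, map_inv, h2, mul_inv_cancel]
    rw [hθker] at h3
    exact ⟨_, h3, rfl⟩
  haveI : FiniteDimensional (ZMod p) V := Module.Finite.of_finite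
  have hsolH : Cfsg.IsPSolvable p (G ⧸ Cfsg.pCore p G) :=
    Cfsg.Agent.Helper4.isPSolvable_quotient hG _
  have hOpH : Cfsg.pCore p (G ⧸ Cfsg.pCore p G) = ⊥ :=
    Cfsg.Agent.Helper3.HHAb.pCore_quotient_pCore p
  have hT : (ρ₀ x - 1) ^ (p - 1) ≠ 0 := by
    intro h0
    have hB := hh_B_abs p hsolH hOpH ρb (fun g _ => hfaith g) (QuotientGroup.mk x) 1 le_rfl
      (by rw [pow_one]; exact hxbp)
      (by
        rw [Nat.sub_self, pow_zero, pow_one]
        intro h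
        exact hxA ((QuotientGroup.eq_one_iff x).1 h))
      (p - 1) (by rw [hρb]; exact h0)
    rcases hB with h | ⟨n₀, q, m, h1, h2, hq, -, hm, heq, -, -⟩
    · rw [pow_one] at h
      have := hp.out.pos
      omega
    · have hn₀ : n₀ = 1 := le_antisymm h2 h1
      rw [hn₀] at heq
      exact hnf (fermat_of_sub_one_eq_pow hp.out hp2 hq hm heq)
  exact hW (wreath_section p (Cfsg.pCore p G) θ₀ hθsurj ρ₀ hequiv x hxA hxp hT)

end Cfsg.Agent.Helper3.Wr
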