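import Cfsg.Agent.Helper3.Y5ATCDatD
import Cfsg.Agent.Helper5.TCIB

/-! kernel checks of edges, aliases, rows: Y5ATC -/

set_option autoImplicit false
set_option Elab.async false

namespace Cfsg.Agent.Helper3.Y5ATC
open Cfsg.Agent.Helper5.TC Cfsg.Agent.Helper5.TCI

set_option maxRecDepth 1000000 in
theorem cnt_0 : cntFrom RS 20000 0 0 = 1 := by decide +kernel

set_option maxRecDepth 1000000 in
theorem edges_4_2 : edgesRangeI iota E 4 4438 7625 = true := by decide +kernel

set_option maxRecDepth 1000000 in
theorem edges_4_3 : edgesRangeI iota E 4 4541 12063 = true := by decide +kernel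

set_option maxRecDepth 1000000 in
theorem edges_5_4 : edgesRangeI iota E 5 4566 16251 = true := by decide +kernel

set_option maxRecDepth 1000000 in
theorem edges_7_1 : edgesRangeI iota E 7 3956 3800 = true := by decide +kernel

set_option maxRecDepth 1000000 in
theorem edges_8_3 : edgesRangeI iota E 8 3016 9810 = true := by decide +kernel

set_option maxRecDepth 1000000 in
theorem edges_2_0 : edgesRangeI iota E 2 4519 0 = true := by decide +kernel

set_option maxRecDepth 1000000 in
theorem edges_3_0 : edgesRangeI iota E 3 3847 0 = true := by decide +kernel

set_option maxRecDepth 1000000 in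
theorem edges_7_4 : edgesRangeI iota E 7 4934 16329 = true := by decide +kernel

set_option maxRecDepth 1000000 in
theorem aliases_6 : aliasRange E 1953 23780 = true := by decide +kernel

set_option maxRecDepth 1000000 in
theorem edges_1_1 : edgesRangeI iota E 1 5389 4189 = true := by decide +kernel

set_option maxRecDepth 1000000 in
theorem edges_3_1 : edgesRangeI iota E 3 4697 3847 = true := by decide +kernel

set_option maxRecDepth 1000000 in
theorem edges_4_4 : edgesRangeI iota E 4 4844 16604 = true := by decide +kernel

set_option maxRecDepth 1000000 in
theorem edges_5_3 : edgesRangeI iota E 5 4544 11707 = true := by decide +kernel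

set_option maxRecDepth 1000000 in
theorem edges_6_1 : edgesRangeI iota E 6 3614 3040 = true := by decide +kernel

set_option maxRecDepth 1000000 in
theorem edges_6_4 : edgesRangeI iota E 6 4320 14628 = true := by decide +kernel

set_option maxRecDepth 1000000 in
theorem edges_8_1 : edgesRangeI iota E 8 3162 3553 = true := by decide +kernel

set_option maxRecDepth 1000000 in
theorem edges_8_6 : edgesRangeI iota E 8 3087 18975 = true := by decide +kernel

set_option maxRecDepth 1000000 in
theorem edges_9_1 : edgesRangeI iota E 9 6325 5906 = true := by decide +kernel

set_option maxRecDepth 1000000 in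
theorem edges_10_0 : edgesRangeI iota E 10 6259 0 = true := by decide +kernel

set_option maxRecDepth 1000000 in
theorem aliases_0 : aliasRange E 4800 0 = true := by decide +kernel

set_option maxRecDepth 1000000 in
theorem aliases_7 : aliasRange E 1462 25733 = true := by decide +kernel

set_option maxRecDepth 1000000 in
theorem edges_6_6 : edgesRangeI iota E 6 3762 23433 = true := by decide +kernel

set_option maxRecDepth 1000000 in
theorem rows_1 : rowsRange E RS 1500 1500 = true := by decide +kernel

set_option maxRecDepth 1000000 in
theorem rows_4 : rowsRange E RS 1500 6000 = true := by decide +kernel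

set_option maxRecDepth 1000000 in
theorem rows_7 : rowsRange E RS 1500 10500 = true := by decide +kernel

set_option maxRecDepth 1000000 in
theorem rows_10 : rowsRange E RS 1500 15000 = true := by decide +kernel

set_option maxRecDepth 1000000 in
theorem rows_13 : rowsRange E RS 1500 19500 = true := by decide +kernel

set_option maxRecDepth 1000000 in
theorem rows_16 : rowsRange E RS 1500 24000 = true := by decide +kernel

set_option maxRecDepth 1000000 in
theorem edges_9_4 : edgesRangeI iota E 9 3192 24003 = true := by decide +kernel

set_option maxRecDepth 1000000 in
theorem edges_3_5 : edgesRangeI iota E 3 2674 24521 = true := by decide +kernel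

set_option maxRecDepth 1000000 in
theorem rows_18 : rowsRange E RS 195 27000 = true := by decide +kernel

end Cfsg.Agent.Helper3.Y5ATC
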