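import Cfsg.Agent.Helper3.Y5ATCDatD
import Cfsg.Agent.Helper5.TCIB

/-! kernel checks of edges, aliases, rows: Y5ATC -/

set_option autoImplicit false
set_option Elab.async false

namespace Cfsg.Agent.Helper3.Y5ATC
open Cfsg.Agent.Helper5.TC Cfsg.Agent.Helper5.TCI

set_option maxRecDepth 1000000 in
theorem edges_1_0 : edgesRangeI iota E 1 4189 0 = true := by decide +kernel

set_option maxRecDepth 1000000 in
theorem edges_4_0 : edgesRangeI iota E 4 3668 0 = true := by decide +kernel

set_option maxRecDepth 1000000 in
theorem aliases_2 : aliasRange E 4308 9364 = true := by decide +kernel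

set_option maxRecDepth 1000000 in
theorem edges_4_5 : edgesRangeI iota E 4 4949 21448 = true := by decide +kernel

set_option maxRecDepth 1000000 in
theorem edges_6_5 : edgesRangeI iota E 6 4485 18948 = true := by decide +kernel

set_option maxRecDepth 1000000 in
theorem edges_7_3 : edgesRangeI iota E 7 4392 11937 = true := by decide +kernel

set_option maxRecDepth 1000000 in
theorem edges_0_0 : edgesRangeI iota E 0 4106 0 = true := by decide +kernel

set_option maxRecDepth 1000000 in
theorem edges_2_1 : edgesRangeI iota E 2 5351 4519 = true := by decide +kernel

set_option maxRecDepth 1000000 in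
theorem edges_3_4 : edgesRangeI iota E 3 5509 19012 = true := by decide +kernel

set_option maxRecDepth 1000000 in
theorem edges_8_4 : edgesRangeI iota E 8 3075 12826 = true := by decide +kernel

set_option maxRecDepth 1000000 in
theorem edges_0_1 : edgesRangeI iota E 0 5322 4106 = true := by decide +kernel

set_option maxRecDepth 1000000 in
theorem edges_1_3 : edgesRangeI iota E 1 6412 15757 = true := by decide +kernel

set_option maxRecDepth 1000000 in
theorem edges_3_2 : edgesRangeI iota E 3 5063 8544 = true := by decide +kernel

set_option maxRecDepth 1000000 in
theorem edges_5_1 : edgesRangeI iota E 5 3958 3467 = true := by decide +kernel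

set_option maxRecDepth 1000000 in
theorem edges_5_5 : edgesRangeI iota E 5 4810 20817 = true := by decide +kernel

set_option maxRecDepth 1000000 in
theorem edges_6_2 : edgesRangeI iota E 6 3882 6654 = true := by decide +kernel

set_option maxRecDepth 1000000 in
theorem edges_7_2 : edgesRangeI iota E 7 4181 7756 = true := by decide +kernel

set_option maxRecDepth 1000000 in
theorem edges_8_2 : edgesRangeI iota E 8 3095 6715 = true := by decide +kernel

set_option maxRecDepth 1000000 in
theorem edges_8_7 : edgesRangeI iota E 8 3161 22062 = true := by decide +kernel

set_option maxRecDepth 1000000 in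
theorem edges_9_2 : edgesRangeI iota E 9 5823 12231 = true := by decide +kernel

set_option maxRecDepth 1000000 in
theorem edges_10_1 : edgesRangeI iota E 10 7542 6259 = true := by decide +kernel

set_option maxRecDepth 1000000 in
theorem aliases_1 : aliasRange E 4564 4800 = true := by decide +kernel

set_option maxRecDepth 1000000 in
theorem edges_1_4 : edgesRangeI iota E 1 5026 22169 = true := by decide +kernel

set_option maxRecDepth 1000000 in
theorem edges_0_4 : edgesRangeI iota E 0 5185 22010 = true := by decide +kernel

set_option maxRecDepth 1000000 in
theorem rows_3 : rowsRange E RS 1500 4500 = true := by decide +kernel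

set_option maxRecDepth 1000000 in
theorem rows_6 : rowsRange E RS 1500 9000 = true := by decide +kernel

set_option maxRecDepth 1000000 in
theorem rows_9 : rowsRange E RS 1500 13500 = true := by decide +kernel

set_option maxRecDepth 1000000 in
theorem rows_12 : rowsRange E RS 1500 18000 = true := by decide +kernel

set_option maxRecDepth 1000000 in
theorem rows_15 : rowsRange E RS 1500 22500 = true := by decide +kernel

set_option maxRecDepth 1000000 in
theorem edges_8_8 : edgesRangeI iota E 8 1972 25223 = true := by decide +kernel

set_option maxRecDepth 1000000 in
theorem cnt_1 : cntFrom RS 7195 20000 0 = 0 := by decide +kernel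

set_option maxRecDepth 1000000 in
theorem edges_7_6 : edgesRangeI iota E 7 785 26410 = true := by decide +kernel

end Cfsg.Agent.Helper3.Y5ATC
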