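import Cfsg.Agent.Helper3.Y5ATCDatD
import Cfsg.Agent.Helper5.TCIB

/-! kernel checks of edges, aliases, rows: Y5ATC -/

set_option autoImplicit false
set_option Elab.async false

namespace Cfsg.Agent.Helper3.Y5ATC
open Cfsg.Agent.Helper5.TC Cfsg.Agent.Helper5.TCI

set_option maxRecDepth 1000000 in
theorem edges_1_2 : edgesRangeI iota E 1 6179 9578 = true := by decide +kernel

set_option maxRecDepth 1000000 in
theorem edges_4_1 : edgesRangeI iota E 4 3957 3668 = true := by decide +kernel

set_option maxRecDepth 1000000 in
theorem aliases_3 : aliasRange E 3784 13672 = true := by decide +kernel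

set_option maxRecDepth 1000000 in
theorem aliases_5 : aliasRange E 2839 20941 = true := by decide +kernel

set_option maxRecDepth 1000000 in
theorem edges_7_0 : edgesRangeI iota E 7 3800 0 = true := by decide +kernel

set_option maxRecDepth 1000000 in
theorem edges_8_0 : edgesRangeI iota E 8 3553 0 = true := by decide +kernel

set_option maxRecDepth 1000000 in
theorem edges_0_3 : edgesRangeI iota E 0 6625 15385 = true := by decide +kernel

set_option maxRecDepth 1000000 in
theorem edges_2_2 : edgesRangeI iota E 2 5916 9870 = true := by decide +kernel

set_option maxRecDepth 1000000 in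
theorem edges_5_0 : edgesRangeI iota E 5 3467 0 = true := by decide +kernel

set_option maxRecDepth 1000000 in
theorem aliases_4 : aliasRange E 3485 17456 = true := by decide +kernel

set_option maxRecDepth 1000000 in
theorem edges_0_2 : edgesRangeI iota E 0 5957 9428 = true := by decide +kernel

set_option maxRecDepth 1000000 in
theorem edges_2_3 : edgesRangeI iota E 2 6231 15786 = true := by decide +kernel

set_option maxRecDepth 1000000 in
theorem edges_3_3 : edgesRangeI iota E 3 5405 13607 = true := by decide +kernel

set_option maxRecDepth 1000000 in
theorem edges_5_2 : edgesRangeI iota E 5 4282 7425 = true := by decide +kernel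

set_option maxRecDepth 1000000 in
theorem edges_6_0 : edgesRangeI iota E 6 3040 0 = true := by decide +kernel

set_option maxRecDepth 1000000 in
theorem edges_6_3 : edgesRangeI iota E 6 4092 10536 = true := by decide +kernel

set_option maxRecDepth 1000000 in
theorem edges_7_5 : edgesRangeI iota E 7 5147 21263 = true := by decide +kernel

set_option maxRecDepth 1000000 in
theorem edges_8_5 : edgesRangeI iota E 8 3074 15901 = true := by decide +kernel

set_option maxRecDepth 1000000 in
theorem edges_9_0 : edgesRangeI iota E 9 5906 0 = true := by decide +kernel

set_option maxRecDepth 1000000 in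
theorem edges_9_3 : edgesRangeI iota E 9 5949 18054 = true := by decide +kernel

set_option maxRecDepth 1000000 in
theorem edges_10_2 : edgesRangeI iota E 10 6940 13801 = true := by decide +kernel

set_option maxRecDepth 1000000 in
theorem edges_10_3 : edgesRangeI iota E 10 6454 20741 = true := by decide +kernel

set_option maxRecDepth 1000000 in
theorem edges_2_4 : edgesRangeI iota E 2 5178 22017 = true := by decide +kernel

set_option maxRecDepth 1000000 in
theorem rows_0 : rowsRange E RS 1500 0 = true := by decide +kernel

set_option maxRecDepth 1000000 in
theorem rows_2 : rowsRange E RS 1500 3000 = true := by decide +kernel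

set_option maxRecDepth 1000000 in
theorem rows_5 : rowsRange E RS 1500 7500 = true := by decide +kernel

set_option maxRecDepth 1000000 in
theorem rows_8 : rowsRange E RS 1500 12000 = true := by decide +kernel

set_option maxRecDepth 1000000 in
theorem rows_11 : rowsRange E RS 1500 16500 = true := by decide +kernel

set_option maxRecDepth 1000000 in
theorem rows_14 : rowsRange E RS 1500 21000 = true := by decide +kernel

set_option maxRecDepth 1000000 in
theorem rows_17 : rowsRange E RS 1500 25500 = true := by decide +kernel

set_option maxRecDepth 1000000 in
theorem edges_5_6 : edgesRangeI iota E 5 1568 25627 = true := by decide +kernel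

set_option maxRecDepth 1000000 in
theorem edges_4_6 : edgesRangeI iota E 4 798 26397 = true := by decide +kernel

end Cfsg.Agent.Helper3.Y5ATC
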