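import Cfsg.Agent.Helper3.Y5ATCDatD
import Cfsg.Agent.Helper3.Y5ATCDatT
import Cfsg.Agent.Helper5.TCIB

/-! kernel checks of the coset table: Y5ATC -/

set_option autoImplicit false
set_option Elab.async false

namespace Cfsg.Agent.Helper3.Y5ATC
open Cfsg.Agent.Helper5.TC Cfsg.Agent.Helper5.TCI

set_option maxRecDepth 1000000 in
theorem relc_66_0 : fixPtsF W_66 1 0 = true := by decide +kernel

set_option maxRecDepth 1000000 in
theorem relc_1_0 : fixPtsF W_1 1 0 = true := by decide +kernel

set_option maxRecDepth 1000000 in
theorem relc_3_0 : fixPtsF W_3 1 0 = true := by decide +kernel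

set_option maxRecDepth 1000000 in
theorem relc_5_0 : fixPtsF W_5 1 0 = true := by decide +kernel

set_option maxRecDepth 1000000 in
theorem relc_12_0 : fixPtsF W_12 1 0 = true := by decide +kernel

set_option maxRecDepth 1000000 in
theorem relc_26_0 : fixPtsF W_26 1 0 = true := by decide +kernel

set_option maxRecDepth 1000000 in
theorem relc_31_0 : fixPtsF W_31 1 0 = true := by decide +kernel

set_option maxRecDepth 1000000 in
theorem relc_42_0 : fixPtsF W_42 1 0 = true := by decide +kernel

set_option maxRecDepth 1000000 in
theorem relc_46_0 : fixPtsF W_46 1 0 = true := by decide +kernel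

set_option maxRecDepth 1000000 in
theorem relc_58_0 : fixPtsF W_58 1 0 = true := by decide +kernel

set_option maxRecDepth 1000000 in
theorem relc_64_0 : fixPtsF W_64 1 0 = true := by decide +kernel

set_option maxRecDepth 1000000 in
theorem relc_2_0 : fixPtsF W_2 1 0 = true := by decide +kernel

set_option maxRecDepth 1000000 in
theorem relc_4_0 : fixPtsF W_4 1 0 = true := by decide +kernel

set_option maxRecDepth 1000000 in
theorem relc_6_0 : fixPtsF W_6 1 0 = true := by decide +kernel

set_option maxRecDepth 1000000 in
theorem relc_7_0 : fixPtsF W_7 1 0 = true := by decide +kernel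

set_option maxRecDepth 1000000 in
theorem relc_8_0 : fixPtsF W_8 1 0 = true := by decide +kernel

set_option maxRecDepth 1000000 in
theorem relc_9_0 : fixPtsF W_9 1 0 = true := by decide +kernel

set_option maxRecDepth 1000000 in
theorem relc_10_0 : fixPtsF W_10 1 0 = true := by decide +kernel

set_option maxRecDepth 1000000 in
theorem relc_13_0 : fixPtsF W_13 1 0 = true := by decide +kernel

set_option maxRecDepth 1000000 in
theorem relc_14_0 : fixPtsF W_14 1 0 = true := by decide +kernel

set_option maxRecDepth 1000000 in
theorem relc_15_0 : fixPtsF W_15 1 0 = true := by decide +kernel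

set_option maxRecDepth 1000000 in
theorem relc_16_0 : fixPtsF W_16 1 0 = true := by decide +kernel

set_option maxRecDepth 1000000 in
theorem relc_17_0 : fixPtsF W_17 1 0 = true := by decide +kernel

set_option maxRecDepth 1000000 in
theorem relc_18_0 : fixPtsF W_18 1 0 = true := by decide +kernel

set_option maxRecDepth 1000000 in
theorem relc_19_0 : fixPtsF W_19 1 0 = true := by decide +kernel

set_option maxRecDepth 1000000 in
theorem relc_20_0 : fixPtsF W_20 1 0 = true := by decide +kernel

set_option maxRecDepth 1000000 in
theorem relc_22_0 : fixPtsF W_22 1 0 = true := by decide +kernel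

set_option maxRecDepth 1000000 in
theorem relc_23_0 : fixPtsF W_23 1 0 = true := by decide +kernel

set_option maxRecDepth 1000000 in
theorem relc_24_0 : fixPtsF W_24 1 0 = true := by decide +kernel

set_option maxRecDepth 1000000 in
theorem relc_25_0 : fixPtsF W_25 1 0 = true := by decide +kernel

set_option maxRecDepth 1000000 in
theorem relc_27_0 : fixPtsF W_27 1 0 = true := by decide +kernel

set_option maxRecDepth 1000000 in
theorem relc_28_0 : fixPtsF W_28 1 0 = true := by decide +kernel

set_option maxRecDepth 1000000 in
theorem relc_29_0 : fixPtsF W_29 1 0 = true := by decide +kernel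

set_option maxRecDepth 1000000 in
theorem relc_32_0 : fixPtsF W_32 1 0 = true := by decide +kernel

set_option maxRecDepth 1000000 in
theorem relc_33_0 : fixPtsF W_33 1 0 = true := by decide +kernel

set_option maxRecDepth 1000000 in
theorem relc_34_0 : fixPtsF W_34 1 0 = true := by decide +kernel

set_option maxRecDepth 1000000 in
theorem relc_35_0 : fixPtsF W_35 1 0 = true := by decide +kernel

set_option maxRecDepth 1000000 in
theorem relc_36_0 : fixPtsF W_36 1 0 = true := by decide +kernel

set_option maxRecDepth 1000000 in
theorem relc_37_0 : fixPtsF W_37 1 0 = true := by decide +kernel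

set_option maxRecDepth 1000000 in
theorem relc_39_0 : fixPtsF W_39 1 0 = true := by decide +kernel

set_option maxRecDepth 1000000 in
theorem relc_40_0 : fixPtsF W_40 1 0 = true := by decide +kernel

set_option maxRecDepth 1000000 in
theorem relc_41_0 : fixPtsF W_41 1 0 = true := by decide +kernel

set_option maxRecDepth 1000000 in
theorem relc_43_0 : fixPtsF W_43 1 0 = true := by decide +kernel

set_option maxRecDepth 1000000 in
theorem relc_44_0 : fixPtsF W_44 1 0 = true := by decide +kernel

set_option maxRecDepth 1000000 in
theorem relc_47_0 : fixPtsF W_47 1 0 = true := by decide +kernel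

set_option maxRecDepth 1000000 in
theorem relc_48_0 : fixPtsF W_48 1 0 = true := by decide +kernel

set_option maxRecDepth 1000000 in
theorem relc_49_0 : fixPtsF W_49 1 0 = true := by decide +kernel

set_option maxRecDepth 1000000 in
theorem relc_50_0 : fixPtsF W_50 1 0 = true := by decide +kernel

set_option maxRecDepth 1000000 in
theorem relc_52_0 : fixPtsF W_52 1 0 = true := by decide +kernel

set_option maxRecDepth 1000000 in
theorem relc_53_0 : fixPtsF W_53 1 0 = true := by decide +kernel

set_option maxRecDepth 1000000 in
theorem relc_54_0 : fixPtsF W_54 1 0 = true := by decide +kernel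

set_option maxRecDepth 1000000 in
theorem relc_55_0 : fixPtsF W_55 1 0 = true := by decide +kernel

set_option maxRecDepth 1000000 in
theorem relc_57_0 : fixPtsF W_57 1 0 = true := by decide +kernel

set_option maxRecDepth 1000000 in
theorem relc_59_0 : fixPtsF W_59 1 0 = true := by decide +kernel

set_option maxRecDepth 1000000 in
theorem relc_61_0 : fixPtsF W_61 1 0 = true := by decide +kernel

set_option maxRecDepth 1000000 in
theorem relc_62_0 : fixPtsF W_62 1 0 = true := by decide +kernel

set_option maxRecDepth 1000000 in
theorem relc_0_0 : fixPtsF W_0 1 0 = true := by decide +kernel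

set_option maxRecDepth 1000000 in
theorem relc_11_0 : fixPtsF W_11 1 0 = true := by decide +kernel

set_option maxRecDepth 1000000 in
theorem relc_21_0 : fixPtsF W_21 1 0 = true := by decide +kernel

set_option maxRecDepth 1000000 in
theorem relc_30_0 : fixPtsF W_30 1 0 = true := by decide +kernel

set_option maxRecDepth 1000000 in
theorem relc_38_0 : fixPtsF W_38 1 0 = true := by decide +kernel

set_option maxRecDepth 1000000 in
theorem relc_45_0 : fixPtsF W_45 1 0 = true := by decide +kernel

set_option maxRecDepth 1000000 in
theorem relc_51_0 : fixPtsF W_51 1 0 = true := by decide +kernel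

set_option maxRecDepth 1000000 in
theorem relc_56_0 : fixPtsF W_56 1 0 = true := by decide +kernel

set_option maxRecDepth 1000000 in
theorem relc_60_0 : fixPtsF W_60 1 0 = true := by decide +kernel

set_option maxRecDepth 1000000 in
theorem relc_63_0 : fixPtsF W_63 1 0 = true := by decide +kernel

set_option maxRecDepth 1000000 in
theorem relc_65_0 : fixPtsF W_65 1 0 = true := by decide +kernel

set_option maxRecDepth 1000000 in
theorem inv_0_0 : invRowFI ctF 1 0 0 1 0 = true := by decide +kernel

set_option maxRecDepth 1000000 in
theorem inv_1_0 : invRowFI ctF 1 1 1 1 0 = true := by decide +kernel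

set_option maxRecDepth 1000000 in
theorem inv_2_0 : invRowFI ctF 1 2 2 1 0 = true := by decide +kernel

set_option maxRecDepth 1000000 in
theorem inv_3_0 : invRowFI ctF 1 3 3 1 0 = true := by decide +kernel

set_option maxRecDepth 1000000 in
theorem inv_4_0 : invRowFI ctF 1 4 4 1 0 = true := by decide +kernel

set_option maxRecDepth 1000000 in
theorem inv_5_0 : invRowFI ctF 1 5 5 1 0 = true := by decide +kernel

set_option maxRecDepth 1000000 in
theorem inv_6_0 : invRowFI ctF 1 6 6 1 0 = true := by decide +kernel

set_option maxRecDepth 1000000 in
theorem inv_7_0 : invRowFI ctF 1 7 7 1 0 = true := by decide +kernel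

set_option maxRecDepth 1000000 in
theorem inv_8_0 : invRowFI ctF 1 8 8 1 0 = true := by decide +kernel

set_option maxRecDepth 1000000 in
theorem inv_9_0 : invRowFI ctF 1 9 9 1 0 = true := by decide +kernel

set_option maxRecDepth 1000000 in
theorem inv_10_0 : invRowFI ctF 1 10 10 1 0 = true := by decide +kernel

set_option maxRecDepth 1000000 in
theorem conn_0 : connF ctF 11 1 0 = true := by decide +kernel

end Cfsg.Agent.Helper3.Y5ATC
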