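import Cfsg.Agent.Helper3.Y5ATCChkE0
import Cfsg.Agent.Helper3.Y5ATCChkE1
import Cfsg.Agent.Helper3.Y5ATCChkE2
import Cfsg.Agent.Helper3.Y5ATCChkR0
import Cfsg.Agent.Helper3.Y5ATCChkA
import Cfsg.Agent.Helper5.TCIB

/-! summary of the kernel checks: Y5ATC -/

set_option autoImplicit false
set_option Elab.async false

namespace Cfsg.Agent.Helper3.Y5ATC
open Cfsg.Agent.Helper5.TC Cfsg.Agent.Helper5.TCI

theorem edgesx_0 : ∀ v, v < 27195 → edgeOKI iota E 0 v = true := by
  intro v hv
  rcases Nat.lt_or_ge v 9428 with h | h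
  · rcases Nat.lt_or_ge v 4106 with h | h
    · exact edgesRangeI_spec iota E 0 4106 0 edges_0_0 v (by omega) (by omega)
    · exact edgesRangeI_spec iota E 0 5322 4106 edges_0_1 v (by omega) (by omega)
  · rcases Nat.lt_or_ge v 15385 with h | h
    · exact edgesRangeI_spec iota E 0 5957 9428 edges_0_2 v (by omega) (by omega)
    · rcases Nat.lt_or_ge v 22010 with h | h
      · exact edgesRangeI_spec iota E 0 6625 15385 edges_0_3 v (by omega) (by omega)
      · exact edgesRangeI_spec iota E 0 5185 22010 edges_0_4 v (by omega) (by omega)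

theorem edgesx_1 : ∀ v, v < 27195 → edgeOKI iota E 1 v = true := by
  intro v hv
  rcases Nat.lt_or_ge v 9578 with h | h
  · rcases Nat.lt_or_ge v 4189 with h | h
    · exact edgesRangeI_spec iota E 1 4189 0 edges_1_0 v (by omega) (by omega)
    · exact edgesRangeI_spec iota E 1 5389 4189 edges_1_1 v (by omega) (by omega)
  · rcases Nat.lt_or_ge v 15757 with h | h
    · exact edgesRangeI_spec iota E 1 6179 9578 edges_1_2 v (by omega) (by omega)
    · rcases Nat.lt_or_ge v 22169 with h | h
      · exact edgesRangeI_spec iota E 1 6412 15757 edges_1_3 v (by omega) (by omega)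
      · exact edgesRangeI_spec iota E 1 5026 22169 edges_1_4 v (by omega) (by omega)

theorem edgesx_2 : ∀ v, v < 27195 → edgeOKI iota E 2 v = true := by
  intro v hv
  rcases Nat.lt_or_ge v 9870 with h | h
  · rcases Nat.lt_or_ge v 4519 with h | h
    · exact edgesRangeI_spec iota E 2 4519 0 edges_2_0 v (by omega) (by omega)
    · exact edgesRangeI_spec iota E 2 5351 4519 edges_2_1 v (by omega) (by omega)
  · rcases Nat.lt_or_ge v 15786 with h | h
    · exact edgesRangeI_spec iota E 2 5916 9870 edges_2_2 v (by omega) (by omega)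
    · rcases Nat.lt_or_ge v 22017 with h | h
      · exact edgesRangeI_spec iota E 2 6231 15786 edges_2_3 v (by omega) (by omega)
      · exact edgesRangeI_spec iota E 2 5178 22017 edges_2_4 v (by omega) (by omega)

theorem edgesx_3 : ∀ v, v < 27195 → edgeOKI iota E 3 v = true := by
  intro v hv
  rcases Nat.lt_or_ge v 13607 with h | h
  · rcases Nat.lt_or_ge v 3847 with h | h
    · exact edgesRangeI_spec iota E 3 3847 0 edges_3_0 v (by omega) (by omega)
    · rcases Nat.lt_or_ge v 8544 with h | h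
      · exact edgesRangeI_spec iota E 3 4697 3847 edges_3_1 v (by omega) (by omega)
      · exact edgesRangeI_spec iota E 3 5063 8544 edges_3_2 v (by omega) (by omega)
  · rcases Nat.lt_or_ge v 19012 with h | h
    · exact edgesRangeI_spec iota E 3 5405 13607 edges_3_3 v (by omega) (by omega)
    · rcases Nat.lt_or_ge v 24521 with h | h
      · exact edgesRangeI_spec iota E 3 5509 19012 edges_3_4 v (by omega) (by omega)
      · exact edgesRangeI_spec iota E 3 2674 24521 edges_3_5 v (by omega) (by omega)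

theorem edgesx_4 : ∀ v, v < 27195 → edgeOKI iota E 4 v = true := by
  intro v hv
  rcases Nat.lt_or_ge v 12063 with h | h
  · rcases Nat.lt_or_ge v 3668 with h | h
    · exact edgesRangeI_spec iota E 4 3668 0 edges_4_0 v (by omega) (by omega)
    · rcases Nat.lt_or_ge v 7625 with h | h
      · exact edgesRangeI_spec iota E 4 3957 3668 edges_4_1 v (by omega) (by omega)
      · exact edgesRangeI_spec iota E 4 4438 7625 edges_4_2 v (by omega) (by omega)
  · rcases Nat.lt_or_ge v 21448 with h | h
    · rcases Nat.lt_or_ge v 16604 with h | h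
      · exact edgesRangeI_spec iota E 4 4541 12063 edges_4_3 v (by omega) (by omega)
      · exact edgesRangeI_spec iota E 4 4844 16604 edges_4_4 v (by omega) (by omega)
    · rcases Nat.lt_or_ge v 26397 with h | h
      · exact edgesRangeI_spec iota E 4 4949 21448 edges_4_5 v (by omega) (by omega)
      · exact edgesRangeI_spec iota E 4 798 26397 edges_4_6 v (by omega) (by omega)

theorem edgesx_5 : ∀ v, v < 27195 → edgeOKI iota E 5 v = true := by
  intro v hv
  rcases Nat.lt_or_ge v 11707 with h | h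
  · rcases Nat.lt_or_ge v 3467 with h | h
    · exact edgesRangeI_spec iota E 5 3467 0 edges_5_0 v (by omega) (by omega)
    · rcases Nat.lt_or_ge v 7425 with h | h
      · exact edgesRangeI_spec iota E 5 3958 3467 edges_5_1 v (by omega) (by omega)
      · exact edgesRangeI_spec iota E 5 4282 7425 edges_5_2 v (by omega) (by omega)
  · rcases Nat.lt_or_ge v 20817 with h | h
    · rcases Nat.lt_or_ge v 16251 with h | h
      · exact edgesRangeI_spec iota E 5 4544 11707 edges_5_3 v (by omega) (by omega)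
      · exact edgesRangeI_spec iota E 5 4566 16251 edges_5_4 v (by omega) (by omega)
    · rcases Nat.lt_or_ge v 25627 with h | h
      · exact edgesRangeI_spec iota E 5 4810 20817 edges_5_5 v (by omega) (by omega)
      · exact edgesRangeI_spec iota E 5 1568 25627 edges_5_6 v (by omega) (by omega)

theorem edgesx_6 : ∀ v, v < 27195 → edgeOKI iota E 6 v = true := by
  intro v hv
  rcases Nat.lt_or_ge v 10536 with h | h
  · rcases Nat.lt_or_ge v 3040 with h | h
    · exact edgesRangeI_spec iota E 6 3040 0 edges_6_0 v (by omega) (by omega)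
    · rcases Nat.lt_or_ge v 6654 with h | h
      · exact edgesRangeI_spec iota E 6 3614 3040 edges_6_1 v (by omega) (by omega)
      · exact edgesRangeI_spec iota E 6 3882 6654 edges_6_2 v (by omega) (by omega)
  · rcases Nat.lt_or_ge v 18948 with h | h
    · rcases Nat.lt_or_ge v 14628 with h | h
      · exact edgesRangeI_spec iota E 6 4092 10536 edges_6_3 v (by omega) (by omega)
      · exact edgesRangeI_spec iota E 6 4320 14628 edges_6_4 v (by omega) (by omega)
    · rcases Nat.lt_or_ge v 23433 with h | h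
      · exact edgesRangeI_spec iota E 6 4485 18948 edges_6_5 v (by omega) (by omega)
      · exact edgesRangeI_spec iota E 6 3762 23433 edges_6_6 v (by omega) (by omega)

theorem edgesx_7 : ∀ v, v < 27195 → edgeOKI iota E 7 v = true := by
  intro v hv
  rcases Nat.lt_or_ge v 11937 with h | h
  · rcases Nat.lt_or_ge v 3800 with h | h
    · exact edgesRangeI_spec iota E 7 3800 0 edges_7_0 v (by omega) (by omega)
    · rcases Nat.lt_or_ge v 7756 with h | h
      · exact edgesRangeI_spec iota E 7 3956 3800 edges_7_1 v (by omega) (by omega)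
      · exact edgesRangeI_spec iota E 7 4181 7756 edges_7_2 v (by omega) (by omega)
  · rcases Nat.lt_or_ge v 21263 with h | h
    · rcases Nat.lt_or_ge v 16329 with h | h
      · exact edgesRangeI_spec iota E 7 4392 11937 edges_7_3 v (by omega) (by omega)
      · exact edgesRangeI_spec iota E 7 4934 16329 edges_7_4 v (by omega) (by omega)
    · rcases Nat.lt_or_ge v 26410 with h | h
      · exact edgesRangeI_spec iota E 7 5147 21263 edges_7_5 v (by omega) (by omega)
      · exact edgesRangeI_spec iota E 7 785 26410 edges_7_6 v (by omega) (by omega)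

theorem edgesx_8 : ∀ v, v < 27195 → edgeOKI iota E 8 v = true := by
  intro v hv
  rcases Nat.lt_or_ge v 12826 with h | h
  · rcases Nat.lt_or_ge v 6715 with h | h
    · rcases Nat.lt_or_ge v 3553 with h | h
      · exact edgesRangeI_spec iota E 8 3553 0 edges_8_0 v (by omega) (by omega)
      · exact edgesRangeI_spec iota E 8 3162 3553 edges_8_1 v (by omega) (by omega)
    · rcases Nat.lt_or_ge v 9810 with h | h
      · exact edgesRangeI_spec iota E 8 3095 6715 edges_8_2 v (by omega) (by omega)
      · exact edgesRangeI_spec iota E 8 3016 9810 edges_8_3 v (by omega) (by omega)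
  · rcases Nat.lt_or_ge v 18975 with h | h
    · rcases Nat.lt_or_ge v 15901 with h | h
      · exact edgesRangeI_spec iota E 8 3075 12826 edges_8_4 v (by omega) (by omega)
      · exact edgesRangeI_spec iota E 8 3074 15901 edges_8_5 v (by omega) (by omega)
    · rcases Nat.lt_or_ge v 22062 with h | h
      · exact edgesRangeI_spec iota E 8 3087 18975 edges_8_6 v (by omega) (by omega)
      · rcases Nat.lt_or_ge v 25223 with h | h
        · exact edgesRangeI_spec iota E 8 3161 22062 edges_8_7 v (by omega) (by omega)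
        · exact edgesRangeI_spec iota E 8 1972 25223 edges_8_8 v (by omega) (by omega)

theorem edgesx_9 : ∀ v, v < 27195 → edgeOKI iota E 9 v = true := by
  intro v hv
  rcases Nat.lt_or_ge v 12231 with h | h
  · rcases Nat.lt_or_ge v 5906 with h | h
    · exact edgesRangeI_spec iota E 9 5906 0 edges_9_0 v (by omega) (by omega)
    · exact edgesRangeI_spec iota E 9 6325 5906 edges_9_1 v (by omega) (by omega)
  · rcases Nat.lt_or_ge v 18054 with h | h
    · exact edgesRangeI_spec iota E 9 5823 12231 edges_9_2 v (by omega) (by omega)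
    · rcases Nat.lt_or_ge v 24003 with h | h
      · exact edgesRangeI_spec iota E 9 5949 18054 edges_9_3 v (by omega) (by omega)
      · exact edgesRangeI_spec iota E 9 3192 24003 edges_9_4 v (by omega) (by omega)

theorem edgesx_10 : ∀ v, v < 27195 → edgeOKI iota E 10 v = true := by
  intro v hv
  rcases Nat.lt_or_ge v 13801 with h | h
  · rcases Nat.lt_or_ge v 6259 with h | h
    · exact edgesRangeI_spec iota E 10 6259 0 edges_10_0 v (by omega) (by omega)
    · exact edgesRangeI_spec iota E 10 7542 6259 edges_10_1 v (by omega) (by omega)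
  · rcases Nat.lt_or_ge v 20741 with h | h
    · exact edgesRangeI_spec iota E 10 6940 13801 edges_10_2 v (by omega) (by omega)
    · exact edgesRangeI_spec iota E 10 6454 20741 edges_10_3 v (by omega) (by omega)

theorem hA0 : ∀ v, v < 27195 → aliasOK E v = true := by
  intro v hv
  rcases Nat.lt_or_ge v 17456 with h | h
  · rcases Nat.lt_or_ge v 9364 with h | h
    · rcases Nat.lt_or_ge v 4800 with h | h
      · exact aliasRange_spec E 4800 0 aliases_0 v (by omega) (by omega)
      · exact aliasRange_spec E 4564 4800 aliases_1 v (by omega) (by omega)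
    · rcases Nat.lt_or_ge v 13672 with h | h
      · exact aliasRange_spec E 4308 9364 aliases_2 v (by omega) (by omega)
      · exact aliasRange_spec E 3784 13672 aliases_3 v (by omega) (by omega)
  · rcases Nat.lt_or_ge v 23780 with h | h
    · rcases Nat.lt_or_ge v 20941 with h | h
      · exact aliasRange_spec E 3485 17456 aliases_4 v (by omega) (by omega)
      · exact aliasRange_spec E 2839 20941 aliases_5 v (by omega) (by omega)
    · rcases Nat.lt_or_ge v 25733 with h | h
      · exact aliasRange_spec E 1953 23780 aliases_6 v (by omega) (by omega)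
      · exact aliasRange_spec E 1462 25733 aliases_7 v (by omega) (by omega)

theorem hrows0 : ∀ v, v < 27195 → tb RS v = true → rowOK2 E RS v E.D.k = true := by
  intro v hv
  rcases Nat.lt_or_ge v 13500 with h | h
  · rcases Nat.lt_or_ge v 6000 with h | h
    · rcases Nat.lt_or_ge v 3000 with h | h
      · rcases Nat.lt_or_ge v 1500 with h | h
        · exact rowsRange_spec E RS 1500 0 rows_0 v (by omega) (by omega)
        · exact rowsRange_spec E RS 1500 1500 rows_1 v (by omega) (by omega)
      · rcases Nat.lt_or_ge v 4500 with h | h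
        · exact rowsRange_spec E RS 1500 3000 rows_2 v (by omega) (by omega)
        · exact rowsRange_spec E RS 1500 4500 rows_3 v (by omega) (by omega)
    · rcases Nat.lt_or_ge v 9000 with h | h
      · rcases Nat.lt_or_ge v 7500 with h | h
        · exact rowsRange_spec E RS 1500 6000 rows_4 v (by omega) (by omega)
        · exact rowsRange_spec E RS 1500 7500 rows_5 v (by omega) (by omega)
      · rcases Nat.lt_or_ge v 10500 with h | h
        · exact rowsRange_spec E RS 1500 9000 rows_6 v (by omega) (by omega)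
        · rcases Nat.lt_or_ge v 12000 with h | h
          · exact rowsRange_spec E RS 1500 10500 rows_7 v (by omega) (by omega)
          · exact rowsRange_spec E RS 1500 12000 rows_8 v (by omega) (by omega)
  · rcases Nat.lt_or_ge v 21000 with h | h
    · rcases Nat.lt_or_ge v 16500 with h | h
      · rcases Nat.lt_or_ge v 15000 with h | h
        · exact rowsRange_spec E RS 1500 13500 rows_9 v (by omega) (by omega)
        · exact rowsRange_spec E RS 1500 15000 rows_10 v (by omega) (by omega)
      · rcases Nat.lt_or_ge v 18000 with h | h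
        · exact rowsRange_spec E RS 1500 16500 rows_11 v (by omega) (by omega)
        · rcases Nat.lt_or_ge v 19500 with h | h
          · exact rowsRange_spec E RS 1500 18000 rows_12 v (by omega) (by omega)
          · exact rowsRange_spec E RS 1500 19500 rows_13 v (by omega) (by omega)
    · rcases Nat.lt_or_ge v 24000 with h | h
      · rcases Nat.lt_or_ge v 22500 with h | h
        · exact rowsRange_spec E RS 1500 21000 rows_14 v (by omega) (by omega)
        · exact rowsRange_spec E RS 1500 22500 rows_15 v (by omega) (by omega)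
      · rcases Nat.lt_or_ge v 25500 with h | h
        · exact rowsRange_spec E RS 1500 24000 rows_16 v (by omega) (by omega)
        · rcases Nat.lt_or_ge v 27000 with h | h
          · exact rowsRange_spec E RS 1500 25500 rows_17 v (by omega) (by omega)
          · exact rowsRange_spec E RS 195 27000 rows_18 v (by omega) (by omega)

theorem cb_0 : cntBits RS 0 = 0 := rfl

theorem cb_1 : cntBits RS 20000 = 1 := by
  have h := cntBits_step RS 0 20000
  rw [cb_0, cnt_0] at h
  exact h

theorem cb_2 : cntBits RS 27195 = 1 := by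
  have h := cntBits_step RS 20000 7195
  rw [cb_1, cnt_1] at h
  exact h

theorem set_ok : setOK 27195 1 RS = true :=
  setOK_of_parts cb_2 set_zero set_lt

theorem relf_0 : ∀ v, v < 1 → W_0 v = v := by
  intro v hv
  exact fixPtsF_spec W_0 1 0 relc_0_0 v (by omega) (by omega)

set_option maxRecDepth 1000000 in
theorem walk_0 : ∀ v, walkT ctF (D.wlen 0) (D.wordP 0) v = W_0 v := by
  intro v
  simp only [W_0, forceL_eq]
  rfl

theorem relw_0 : ∀ v, v < 1 → walkT ctF (D.wlen 0) (D.wordP 0) v = v := by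
  intro v hv
  rw [walk_0]
  exact relf_0 v hv

theorem relf_1 : ∀ v, v < 1 → W_1 v = v := by
  intro v hv
  exact fixPtsF_spec W_1 1 0 relc_1_0 v (by omega) (by omega)

set_option maxRecDepth 1000000 in
theorem walk_1 : ∀ v, walkT ctF (D.wlen 1) (D.wordP 1) v = W_1 v := by
  intro v
  simp only [W_1, forceL_eq]
  rfl

theorem relw_1 : ∀ v, v < 1 → walkT ctF (D.wlen 1) (D.wordP 1) v = v := by
  intro v hv
  rw [walk_1]
  exact relf_1 v hv

theorem relf_2 : ∀ v, v < 1 → W_2 v = v := by
  intro v hv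
  exact fixPtsF_spec W_2 1 0 relc_2_0 v (by omega) (by omega)

set_option maxRecDepth 1000000 in
theorem walk_2 : ∀ v, walkT ctF (D.wlen 2) (D.wordP 2) v = W_2 v := by
  intro v
  simp only [W_2, forceL_eq]
  rfl

theorem relw_2 : ∀ v, v < 1 → walkT ctF (D.wlen 2) (D.wordP 2) v = v := by
  intro v hv
  rw [walk_2]
  exact relf_2 v hv

theorem relf_3 : ∀ v, v < 1 → W_3 v = v := by
  intro v hv
  exact fixPtsF_spec W_3 1 0 relc_3_0 v (by omega) (by omega)

set_option maxRecDepth 1000000 in
theorem walk_3 : ∀ v, walkT ctF (D.wlen 3) (D.wordP 3) v = W_3 v := by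
  intro v
  simp only [W_3, forceL_eq]
  rfl

theorem relw_3 : ∀ v, v < 1 → walkT ctF (D.wlen 3) (D.wordP 3) v = v := by
  intro v hv
  rw [walk_3]
  exact relf_3 v hv

theorem relf_4 : ∀ v, v < 1 → W_4 v = v := by
  intro v hv
  exact fixPtsF_spec W_4 1 0 relc_4_0 v (by omega) (by omega)

set_option maxRecDepth 1000000 in
theorem walk_4 : ∀ v, walkT ctF (D.wlen 4) (D.wordP 4) v = W_4 v := by
  intro v
  simp only [W_4, forceL_eq]
  rfl

theorem relw_4 : ∀ v, v < 1 → walkT ctF (D.wlen 4) (D.wordP 4) v = v := by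
  intro v hv
  rw [walk_4]
  exact relf_4 v hv

theorem relf_5 : ∀ v, v < 1 → W_5 v = v := by
  intro v hv
  exact fixPtsF_spec W_5 1 0 relc_5_0 v (by omega) (by omega)

set_option maxRecDepth 1000000 in
theorem walk_5 : ∀ v, walkT ctF (D.wlen 5) (D.wordP 5) v = W_5 v := by
  intro v
  simp only [W_5, forceL_eq]
  rfl

theorem relw_5 : ∀ v, v < 1 → walkT ctF (D.wlen 5) (D.wordP 5) v = v := by
  intro v hv
  rw [walk_5]
  exact relf_5 v hv

theorem relf_6 : ∀ v, v < 1 → W_6 v = v := by
  intro v hv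
  exact fixPtsF_spec W_6 1 0 relc_6_0 v (by omega) (by omega)

set_option maxRecDepth 1000000 in
theorem walk_6 : ∀ v, walkT ctF (D.wlen 6) (D.wordP 6) v = W_6 v := by
  intro v
  simp only [W_6, forceL_eq]
  rfl

theorem relw_6 : ∀ v, v < 1 → walkT ctF (D.wlen 6) (D.wordP 6) v = v := by
  intro v hv
  rw [walk_6]
  exact relf_6 v hv

theorem relf_7 : ∀ v, v < 1 → W_7 v = v := by
  intro v hv
  exact fixPtsF_spec W_7 1 0 relc_7_0 v (by omega) (by omega)

set_option maxRecDepth 1000000 in
theorem walk_7 : ∀ v, walkT ctF (D.wlen 7) (D.wordP 7) v = W_7 v := by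
  intro v
  simp only [W_7, forceL_eq]
  rfl

theorem relw_7 : ∀ v, v < 1 → walkT ctF (D.wlen 7) (D.wordP 7) v = v := by
  intro v hv
  rw [walk_7]
  exact relf_7 v hv

theorem relf_8 : ∀ v, v < 1 → W_8 v = v := by
  intro v hv
  exact fixPtsF_spec W_8 1 0 relc_8_0 v (by omega) (by omega)

set_option maxRecDepth 1000000 in
theorem walk_8 : ∀ v, walkT ctF (D.wlen 8) (D.wordP 8) v = W_8 v := by
  intro v
  simp only [W_8, forceL_eq]
  rfl

theorem relw_8 : ∀ v, v < 1 → walkT ctF (D.wlen 8) (D.wordP 8) v = v := by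
  intro v hv
  rw [walk_8]
  exact relf_8 v hv

theorem relf_9 : ∀ v, v < 1 → W_9 v = v := by
  intro v hv
  exact fixPtsF_spec W_9 1 0 relc_9_0 v (by omega) (by omega)

set_option maxRecDepth 1000000 in
theorem walk_9 : ∀ v, walkT ctF (D.wlen 9) (D.wordP 9) v = W_9 v := by
  intro v
  simp only [W_9, forceL_eq]
  rfl

theorem relw_9 : ∀ v, v < 1 → walkT ctF (D.wlen 9) (D.wordP 9) v = v := by
  intro v hv
  rw [walk_9]
  exact relf_9 v hv

theorem relf_10 : ∀ v, v < 1 → W_10 v = v := by
  intro v hv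
  exact fixPtsF_spec W_10 1 0 relc_10_0 v (by omega) (by omega)

set_option maxRecDepth 1000000 in
theorem walk_10 : ∀ v, walkT ctF (D.wlen 10) (D.wordP 10) v = W_10 v := by
  intro v
  simp only [W_10, forceL_eq]
  rfl

theorem relw_10 : ∀ v, v < 1 → walkT ctF (D.wlen 10) (D.wordP 10) v = v := by
  intro v hv
  rw [walk_10]
  exact relf_10 v hv

theorem relf_11 : ∀ v, v < 1 → W_11 v = v := by
  intro v hv
  exact fixPtsF_spec W_11 1 0 relc_11_0 v (by omega) (by omega)

set_option maxRecDepth 1000000 in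
theorem walk_11 : ∀ v, walkT ctF (D.wlen 11) (D.wordP 11) v = W_11 v := by
  intro v
  simp only [W_11, forceL_eq]
  rfl

theorem relw_11 : ∀ v, v < 1 → walkT ctF (D.wlen 11) (D.wordP 11) v = v := by
  intro v hv
  rw [walk_11]
  exact relf_11 v hv

theorem relf_12 : ∀ v, v < 1 → W_12 v = v := by
  intro v hv
  exact fixPtsF_spec W_12 1 0 relc_12_0 v (by omega) (by omega)

set_option maxRecDepth 1000000 in
theorem walk_12 : ∀ v, walkT ctF (D.wlen 12) (D.wordP 12) v = W_12 v := by
  intro v
  simp only [W_12, forceL_eq]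
  rfl

theorem relw_12 : ∀ v, v < 1 → walkT ctF (D.wlen 12) (D.wordP 12) v = v := by
  intro v hv
  rw [walk_12]
  exact relf_12 v hv

theorem relf_13 : ∀ v, v < 1 → W_13 v = v := by
  intro v hv
  exact fixPtsF_spec W_13 1 0 relc_13_0 v (by omega) (by omega)

set_option maxRecDepth 1000000 in
theorem walk_13 : ∀ v, walkT ctF (D.wlen 13) (D.wordP 13) v = W_13 v := by
  intro v
  simp only [W_13, forceL_eq]
  rfl

theorem relw_13 : ∀ v, v < 1 → walkT ctF (D.wlen 13) (D.wordP 13) v = v := by
  intro v hv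
  rw [walk_13]
  exact relf_13 v hv

theorem relf_14 : ∀ v, v < 1 → W_14 v = v := by
  intro v hv
  exact fixPtsF_spec W_14 1 0 relc_14_0 v (by omega) (by omega)

set_option maxRecDepth 1000000 in
theorem walk_14 : ∀ v, walkT ctF (D.wlen 14) (D.wordP 14) v = W_14 v := by
  intro v
  simp only [W_14, forceL_eq]
  rfl

theorem relw_14 : ∀ v, v < 1 → walkT ctF (D.wlen 14) (D.wordP 14) v = v := by
  intro v hv
  rw [walk_14]
  exact relf_14 v hv

theorem relf_15 : ∀ v, v < 1 → W_15 v = v := by
  intro v hv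
  exact fixPtsF_spec W_15 1 0 relc_15_0 v (by omega) (by omega)

set_option maxRecDepth 1000000 in
theorem walk_15 : ∀ v, walkT ctF (D.wlen 15) (D.wordP 15) v = W_15 v := by
  intro v
  simp only [W_15, forceL_eq]
  rfl

theorem relw_15 : ∀ v, v < 1 → walkT ctF (D.wlen 15) (D.wordP 15) v = v := by
  intro v hv
  rw [walk_15]
  exact relf_15 v hv

theorem relf_16 : ∀ v, v < 1 → W_16 v = v := by
  intro v hv
  exact fixPtsF_spec W_16 1 0 relc_16_0 v (by omega) (by omega)

set_option maxRecDepth 1000000 in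
theorem walk_16 : ∀ v, walkT ctF (D.wlen 16) (D.wordP 16) v = W_16 v := by
  intro v
  simp only [W_16, forceL_eq]
  rfl

theorem relw_16 : ∀ v, v < 1 → walkT ctF (D.wlen 16) (D.wordP 16) v = v := by
  intro v hv
  rw [walk_16]
  exact relf_16 v hv

theorem relf_17 : ∀ v, v < 1 → W_17 v = v := by
  intro v hv
  exact fixPtsF_spec W_17 1 0 relc_17_0 v (by omega) (by omega)

set_option maxRecDepth 1000000 in
theorem walk_17 : ∀ v, walkT ctF (D.wlen 17) (D.wordP 17) v = W_17 v := by
  intro v
  simp only [W_17, forceL_eq]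
  rfl

theorem relw_17 : ∀ v, v < 1 → walkT ctF (D.wlen 17) (D.wordP 17) v = v := by
  intro v hv
  rw [walk_17]
  exact relf_17 v hv

theorem relf_18 : ∀ v, v < 1 → W_18 v = v := by
  intro v hv
  exact fixPtsF_spec W_18 1 0 relc_18_0 v (by omega) (by omega)

set_option maxRecDepth 1000000 in
theorem walk_18 : ∀ v, walkT ctF (D.wlen 18) (D.wordP 18) v = W_18 v := by
  intro v
  simp only [W_18, forceL_eq]
  rfl

theorem relw_18 : ∀ v, v < 1 → walkT ctF (D.wlen 18) (D.wordP 18) v = v := by
  intro v hv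
  rw [walk_18]
  exact relf_18 v hv

theorem relf_19 : ∀ v, v < 1 → W_19 v = v := by
  intro v hv
  exact fixPtsF_spec W_19 1 0 relc_19_0 v (by omega) (by omega)

set_option maxRecDepth 1000000 in
theorem walk_19 : ∀ v, walkT ctF (D.wlen 19) (D.wordP 19) v = W_19 v := by
  intro v
  simp only [W_19, forceL_eq]
  rfl

theorem relw_19 : ∀ v, v < 1 → walkT ctF (D.wlen 19) (D.wordP 19) v = v := by
  intro v hv
  rw [walk_19]
  exact relf_19 v hv

theorem relf_20 : ∀ v, v < 1 → W_20 v = v := by
  intro v hv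
  exact fixPtsF_spec W_20 1 0 relc_20_0 v (by omega) (by omega)

set_option maxRecDepth 1000000 in
theorem walk_20 : ∀ v, walkT ctF (D.wlen 20) (D.wordP 20) v = W_20 v := by
  intro v
  simp only [W_20, forceL_eq]
  rfl

theorem relw_20 : ∀ v, v < 1 → walkT ctF (D.wlen 20) (D.wordP 20) v = v := by
  intro v hv
  rw [walk_20]
  exact relf_20 v hv

theorem relf_21 : ∀ v, v < 1 → W_21 v = v := by
  intro v hv
  exact fixPtsF_spec W_21 1 0 relc_21_0 v (by omega) (by omega)

set_option maxRecDepth 1000000 in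
theorem walk_21 : ∀ v, walkT ctF (D.wlen 21) (D.wordP 21) v = W_21 v := by
  intro v
  simp only [W_21, forceL_eq]
  rfl

theorem relw_21 : ∀ v, v < 1 → walkT ctF (D.wlen 21) (D.wordP 21) v = v := by
  intro v hv
  rw [walk_21]
  exact relf_21 v hv

theorem relf_22 : ∀ v, v < 1 → W_22 v = v := by
  intro v hv
  exact fixPtsF_spec W_22 1 0 relc_22_0 v (by omega) (by omega)

set_option maxRecDepth 1000000 in
theorem walk_22 : ∀ v, walkT ctF (D.wlen 22) (D.wordP 22) v = W_22 v := by
  intro v
  simp only [W_22, forceL_eq]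
  rfl

theorem relw_22 : ∀ v, v < 1 → walkT ctF (D.wlen 22) (D.wordP 22) v = v := by
  intro v hv
  rw [walk_22]
  exact relf_22 v hv

theorem relf_23 : ∀ v, v < 1 → W_23 v = v := by
  intro v hv
  exact fixPtsF_spec W_23 1 0 relc_23_0 v (by omega) (by omega)

set_option maxRecDepth 1000000 in
theorem walk_23 : ∀ v, walkT ctF (D.wlen 23) (D.wordP 23) v = W_23 v := by
  intro v
  simp only [W_23, forceL_eq]
  rfl

theorem relw_23 : ∀ v, v < 1 → walkT ctF (D.wlen 23) (D.wordP 23) v = v := by
  intro v hv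
  rw [walk_23]
  exact relf_23 v hv

theorem relf_24 : ∀ v, v < 1 → W_24 v = v := by
  intro v hv
  exact fixPtsF_spec W_24 1 0 relc_24_0 v (by omega) (by omega)

set_option maxRecDepth 1000000 in
theorem walk_24 : ∀ v, walkT ctF (D.wlen 24) (D.wordP 24) v = W_24 v := by
  intro v
  simp only [W_24, forceL_eq]
  rfl

theorem relw_24 : ∀ v, v < 1 → walkT ctF (D.wlen 24) (D.wordP 24) v = v := by
  intro v hv
  rw [walk_24]
  exact relf_24 v hv

theorem relf_25 : ∀ v, v < 1 → W_25 v = v := by
  intro v hv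
  exact fixPtsF_spec W_25 1 0 relc_25_0 v (by omega) (by omega)

set_option maxRecDepth 1000000 in
theorem walk_25 : ∀ v, walkT ctF (D.wlen 25) (D.wordP 25) v = W_25 v := by
  intro v
  simp only [W_25, forceL_eq]
  rfl

theorem relw_25 : ∀ v, v < 1 → walkT ctF (D.wlen 25) (D.wordP 25) v = v := by
  intro v hv
  rw [walk_25]
  exact relf_25 v hv

theorem relf_26 : ∀ v, v < 1 → W_26 v = v := by
  intro v hv
  exact fixPtsF_spec W_26 1 0 relc_26_0 v (by omega) (by omega)

set_option maxRecDepth 1000000 in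
theorem walk_26 : ∀ v, walkT ctF (D.wlen 26) (D.wordP 26) v = W_26 v := by
  intro v
  simp only [W_26, forceL_eq]
  rfl

theorem relw_26 : ∀ v, v < 1 → walkT ctF (D.wlen 26) (D.wordP 26) v = v := by
  intro v hv
  rw [walk_26]
  exact relf_26 v hv

theorem relf_27 : ∀ v, v < 1 → W_27 v = v := by
  intro v hv
  exact fixPtsF_spec W_27 1 0 relc_27_0 v (by omega) (by omega)

set_option maxRecDepth 1000000 in
theorem walk_27 : ∀ v, walkT ctF (D.wlen 27) (D.wordP 27) v = W_27 v := by
  intro v
  simp only [W_27, forceL_eq]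
  rfl

theorem relw_27 : ∀ v, v < 1 → walkT ctF (D.wlen 27) (D.wordP 27) v = v := by
  intro v hv
  rw [walk_27]
  exact relf_27 v hv

theorem relf_28 : ∀ v, v < 1 → W_28 v = v := by
  intro v hv
  exact fixPtsF_spec W_28 1 0 relc_28_0 v (by omega) (by omega)

set_option maxRecDepth 1000000 in
theorem walk_28 : ∀ v, walkT ctF (D.wlen 28) (D.wordP 28) v = W_28 v := by
  intro v
  simp only [W_28, forceL_eq]
  rfl

theorem relw_28 : ∀ v, v < 1 → walkT ctF (D.wlen 28) (D.wordP 28) v = v := by
  intro v hv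
  rw [walk_28]
  exact relf_28 v hv

theorem relf_29 : ∀ v, v < 1 → W_29 v = v := by
  intro v hv
  exact fixPtsF_spec W_29 1 0 relc_29_0 v (by omega) (by omega)

set_option maxRecDepth 1000000 in
theorem walk_29 : ∀ v, walkT ctF (D.wlen 29) (D.wordP 29) v = W_29 v := by
  intro v
  simp only [W_29, forceL_eq]
  rfl

theorem relw_29 : ∀ v, v < 1 → walkT ctF (D.wlen 29) (D.wordP 29) v = v := by
  intro v hv
  rw [walk_29]
  exact relf_29 v hv

theorem relf_30 : ∀ v, v < 1 → W_30 v = v := by
  intro v hv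
  exact fixPtsF_spec W_30 1 0 relc_30_0 v (by omega) (by omega)

set_option maxRecDepth 1000000 in
theorem walk_30 : ∀ v, walkT ctF (D.wlen 30) (D.wordP 30) v = W_30 v := by
  intro v
  simp only [W_30, forceL_eq]
  rfl

theorem relw_30 : ∀ v, v < 1 → walkT ctF (D.wlen 30) (D.wordP 30) v = v := by
  intro v hv
  rw [walk_30]
  exact relf_30 v hv

theorem relf_31 : ∀ v, v < 1 → W_31 v = v := by
  intro v hv
  exact fixPtsF_spec W_31 1 0 relc_31_0 v (by omega) (by omega)

set_option maxRecDepth 1000000 in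
theorem walk_31 : ∀ v, walkT ctF (D.wlen 31) (D.wordP 31) v = W_31 v := by
  intro v
  simp only [W_31, forceL_eq]
  rfl

theorem relw_31 : ∀ v, v < 1 → walkT ctF (D.wlen 31) (D.wordP 31) v = v := by
  intro v hv
  rw [walk_31]
  exact relf_31 v hv

theorem relf_32 : ∀ v, v < 1 → W_32 v = v := by
  intro v hv
  exact fixPtsF_spec W_32 1 0 relc_32_0 v (by omega) (by omega)

set_option maxRecDepth 1000000 in
theorem walk_32 : ∀ v, walkT ctF (D.wlen 32) (D.wordP 32) v = W_32 v := by
  intro v
  simp only [W_32, forceL_eq]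
  rfl

theorem relw_32 : ∀ v, v < 1 → walkT ctF (D.wlen 32) (D.wordP 32) v = v := by
  intro v hv
  rw [walk_32]
  exact relf_32 v hv

theorem relf_33 : ∀ v, v < 1 → W_33 v = v := by
  intro v hv
  exact fixPtsF_spec W_33 1 0 relc_33_0 v (by omega) (by omega)

set_option maxRecDepth 1000000 in
theorem walk_33 : ∀ v, walkT ctF (D.wlen 33) (D.wordP 33) v = W_33 v := by
  intro v
  simp only [W_33, forceL_eq]
  rfl

theorem relw_33 : ∀ v, v < 1 → walkT ctF (D.wlen 33) (D.wordP 33) v = v := by
  intro v hv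
  rw [walk_33]
  exact relf_33 v hv

theorem relf_34 : ∀ v, v < 1 → W_34 v = v := by
  intro v hv
  exact fixPtsF_spec W_34 1 0 relc_34_0 v (by omega) (by omega)

set_option maxRecDepth 1000000 in
theorem walk_34 : ∀ v, walkT ctF (D.wlen 34) (D.wordP 34) v = W_34 v := by
  intro v
  simp only [W_34, forceL_eq]
  rfl

theorem relw_34 : ∀ v, v < 1 → walkT ctF (D.wlen 34) (D.wordP 34) v = v := by
  intro v hv
  rw [walk_34]
  exact relf_34 v hv

theorem relf_35 : ∀ v, v < 1 → W_35 v = v := by
  intro v hv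
  exact fixPtsF_spec W_35 1 0 relc_35_0 v (by omega) (by omega)

set_option maxRecDepth 1000000 in
theorem walk_35 : ∀ v, walkT ctF (D.wlen 35) (D.wordP 35) v = W_35 v := by
  intro v
  simp only [W_35, forceL_eq]
  rfl

theorem relw_35 : ∀ v, v < 1 → walkT ctF (D.wlen 35) (D.wordP 35) v = v := by
  intro v hv
  rw [walk_35]
  exact relf_35 v hv

theorem relf_36 : ∀ v, v < 1 → W_36 v = v := by
  intro v hv
  exact fixPtsF_spec W_36 1 0 relc_36_0 v (by omega) (by omega)

set_option maxRecDepth 1000000 in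
theorem walk_36 : ∀ v, walkT ctF (D.wlen 36) (D.wordP 36) v = W_36 v := by
  intro v
  simp only [W_36, forceL_eq]
  rfl

theorem relw_36 : ∀ v, v < 1 → walkT ctF (D.wlen 36) (D.wordP 36) v = v := by
  intro v hv
  rw [walk_36]
  exact relf_36 v hv

theorem relf_37 : ∀ v, v < 1 → W_37 v = v := by
  intro v hv
  exact fixPtsF_spec W_37 1 0 relc_37_0 v (by omega) (by omega)

set_option maxRecDepth 1000000 in
theorem walk_37 : ∀ v, walkT ctF (D.wlen 37) (D.wordP 37) v = W_37 v := by
  intro v
  simp only [W_37, forceL_eq]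
  rfl

theorem relw_37 : ∀ v, v < 1 → walkT ctF (D.wlen 37) (D.wordP 37) v = v := by
  intro v hv
  rw [walk_37]
  exact relf_37 v hv

theorem relf_38 : ∀ v, v < 1 → W_38 v = v := by
  intro v hv
  exact fixPtsF_spec W_38 1 0 relc_38_0 v (by omega) (by omega)

set_option maxRecDepth 1000000 in
theorem walk_38 : ∀ v, walkT ctF (D.wlen 38) (D.wordP 38) v = W_38 v := by
  intro v
  simp only [W_38, forceL_eq]
  rfl

theorem relw_38 : ∀ v, v < 1 → walkT ctF (D.wlen 38) (D.wordP 38) v = v := by
  intro v hv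
  rw [walk_38]
  exact relf_38 v hv

theorem relf_39 : ∀ v, v < 1 → W_39 v = v := by
  intro v hv
  exact fixPtsF_spec W_39 1 0 relc_39_0 v (by omega) (by omega)

set_option maxRecDepth 1000000 in
theorem walk_39 : ∀ v, walkT ctF (D.wlen 39) (D.wordP 39) v = W_39 v := by
  intro v
  simp only [W_39, forceL_eq]
  rfl

theorem relw_39 : ∀ v, v < 1 → walkT ctF (D.wlen 39) (D.wordP 39) v = v := by
  intro v hv
  rw [walk_39]
  exact relf_39 v hv

theorem relf_40 : ∀ v, v < 1 → W_40 v = v := by
  intro v hv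
  exact fixPtsF_spec W_40 1 0 relc_40_0 v (by omega) (by omega)

set_option maxRecDepth 1000000 in
theorem walk_40 : ∀ v, walkT ctF (D.wlen 40) (D.wordP 40) v = W_40 v := by
  intro v
  simp only [W_40, forceL_eq]
  rfl

theorem relw_40 : ∀ v, v < 1 → walkT ctF (D.wlen 40) (D.wordP 40) v = v := by
  intro v hv
  rw [walk_40]
  exact relf_40 v hv

theorem relf_41 : ∀ v, v < 1 → W_41 v = v := by
  intro v hv
  exact fixPtsF_spec W_41 1 0 relc_41_0 v (by omega) (by omega)

set_option maxRecDepth 1000000 in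
theorem walk_41 : ∀ v, walkT ctF (D.wlen 41) (D.wordP 41) v = W_41 v := by
  intro v
  simp only [W_41, forceL_eq]
  rfl

theorem relw_41 : ∀ v, v < 1 → walkT ctF (D.wlen 41) (D.wordP 41) v = v := by
  intro v hv
  rw [walk_41]
  exact relf_41 v hv

theorem relf_42 : ∀ v, v < 1 → W_42 v = v := by
  intro v hv
  exact fixPtsF_spec W_42 1 0 relc_42_0 v (by omega) (by omega)

set_option maxRecDepth 1000000 in
theorem walk_42 : ∀ v, walkT ctF (D.wlen 42) (D.wordP 42) v = W_42 v := by
  intro v
  simp only [W_42, forceL_eq]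
  rfl

theorem relw_42 : ∀ v, v < 1 → walkT ctF (D.wlen 42) (D.wordP 42) v = v := by
  intro v hv
  rw [walk_42]
  exact relf_42 v hv

theorem relf_43 : ∀ v, v < 1 → W_43 v = v := by
  intro v hv
  exact fixPtsF_spec W_43 1 0 relc_43_0 v (by omega) (by omega)

set_option maxRecDepth 1000000 in
theorem walk_43 : ∀ v, walkT ctF (D.wlen 43) (D.wordP 43) v = W_43 v := by
  intro v
  simp only [W_43, forceL_eq]
  rfl

theorem relw_43 : ∀ v, v < 1 → walkT ctF (D.wlen 43) (D.wordP 43) v = v := by
  intro v hv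
  rw [walk_43]
  exact relf_43 v hv

theorem relf_44 : ∀ v, v < 1 → W_44 v = v := by
  intro v hv
  exact fixPtsF_spec W_44 1 0 relc_44_0 v (by omega) (by omega)

set_option maxRecDepth 1000000 in
theorem walk_44 : ∀ v, walkT ctF (D.wlen 44) (D.wordP 44) v = W_44 v := by
  intro v
  simp only [W_44, forceL_eq]
  rfl

theorem relw_44 : ∀ v, v < 1 → walkT ctF (D.wlen 44) (D.wordP 44) v = v := by
  intro v hv
  rw [walk_44]
  exact relf_44 v hv

theorem relf_45 : ∀ v, v < 1 → W_45 v = v := by
  intro v hv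
  exact fixPtsF_spec W_45 1 0 relc_45_0 v (by omega) (by omega)

set_option maxRecDepth 1000000 in
theorem walk_45 : ∀ v, walkT ctF (D.wlen 45) (D.wordP 45) v = W_45 v := by
  intro v
  simp only [W_45, forceL_eq]
  rfl

theorem relw_45 : ∀ v, v < 1 → walkT ctF (D.wlen 45) (D.wordP 45) v = v := by
  intro v hv
  rw [walk_45]
  exact relf_45 v hv

theorem relf_46 : ∀ v, v < 1 → W_46 v = v := by
  intro v hv
  exact fixPtsF_spec W_46 1 0 relc_46_0 v (by omega) (by omega)

set_option maxRecDepth 1000000 in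
theorem walk_46 : ∀ v, walkT ctF (D.wlen 46) (D.wordP 46) v = W_46 v := by
  intro v
  simp only [W_46, forceL_eq]
  rfl

theorem relw_46 : ∀ v, v < 1 → walkT ctF (D.wlen 46) (D.wordP 46) v = v := by
  intro v hv
  rw [walk_46]
  exact relf_46 v hv

theorem relf_47 : ∀ v, v < 1 → W_47 v = v := by
  intro v hv
  exact fixPtsF_spec W_47 1 0 relc_47_0 v (by omega) (by omega)

set_option maxRecDepth 1000000 in
theorem walk_47 : ∀ v, walkT ctF (D.wlen 47) (D.wordP 47) v = W_47 v := by
  intro v
  simp only [W_47, forceL_eq]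
  rfl

theorem relw_47 : ∀ v, v < 1 → walkT ctF (D.wlen 47) (D.wordP 47) v = v := by
  intro v hv
  rw [walk_47]
  exact relf_47 v hv

theorem relf_48 : ∀ v, v < 1 → W_48 v = v := by
  intro v hv
  exact fixPtsF_spec W_48 1 0 relc_48_0 v (by omega) (by omega)

set_option maxRecDepth 1000000 in
theorem walk_48 : ∀ v, walkT ctF (D.wlen 48) (D.wordP 48) v = W_48 v := by
  intro v
  simp only [W_48, forceL_eq]
  rfl

theorem relw_48 : ∀ v, v < 1 → walkT ctF (D.wlen 48) (D.wordP 48) v = v := by
  intro v hv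
  rw [walk_48]
  exact relf_48 v hv

theorem relf_49 : ∀ v, v < 1 → W_49 v = v := by
  intro v hv
  exact fixPtsF_spec W_49 1 0 relc_49_0 v (by omega) (by omega)

set_option maxRecDepth 1000000 in
theorem walk_49 : ∀ v, walkT ctF (D.wlen 49) (D.wordP 49) v = W_49 v := by
  intro v
  simp only [W_49, forceL_eq]
  rfl

theorem relw_49 : ∀ v, v < 1 → walkT ctF (D.wlen 49) (D.wordP 49) v = v := by
  intro v hv
  rw [walk_49]
  exact relf_49 v hv

theorem relf_50 : ∀ v, v < 1 → W_50 v = v := by
  intro v hv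
  exact fixPtsF_spec W_50 1 0 relc_50_0 v (by omega) (by omega)

set_option maxRecDepth 1000000 in
theorem walk_50 : ∀ v, walkT ctF (D.wlen 50) (D.wordP 50) v = W_50 v := by
  intro v
  simp only [W_50, forceL_eq]
  rfl

theorem relw_50 : ∀ v, v < 1 → walkT ctF (D.wlen 50) (D.wordP 50) v = v := by
  intro v hv
  rw [walk_50]
  exact relf_50 v hv

theorem relf_51 : ∀ v, v < 1 → W_51 v = v := by
  intro v hv
  exact fixPtsF_spec W_51 1 0 relc_51_0 v (by omega) (by omega)

set_option maxRecDepth 1000000 in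
theorem walk_51 : ∀ v, walkT ctF (D.wlen 51) (D.wordP 51) v = W_51 v := by
  intro v
  simp only [W_51, forceL_eq]
  rfl

theorem relw_51 : ∀ v, v < 1 → walkT ctF (D.wlen 51) (D.wordP 51) v = v := by
  intro v hv
  rw [walk_51]
  exact relf_51 v hv

theorem relf_52 : ∀ v, v < 1 → W_52 v = v := by
  intro v hv
  exact fixPtsF_spec W_52 1 0 relc_52_0 v (by omega) (by omega)

set_option maxRecDepth 1000000 in
theorem walk_52 : ∀ v, walkT ctF (D.wlen 52) (D.wordP 52) v = W_52 v := by
  intro v
  simp only [W_52, forceL_eq]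
  rfl

theorem relw_52 : ∀ v, v < 1 → walkT ctF (D.wlen 52) (D.wordP 52) v = v := by
  intro v hv
  rw [walk_52]
  exact relf_52 v hv

theorem relf_53 : ∀ v, v < 1 → W_53 v = v := by
  intro v hv
  exact fixPtsF_spec W_53 1 0 relc_53_0 v (by omega) (by omega)

set_option maxRecDepth 1000000 in
theorem walk_53 : ∀ v, walkT ctF (D.wlen 53) (D.wordP 53) v = W_53 v := by
  intro v
  simp only [W_53, forceL_eq]
  rfl

theorem relw_53 : ∀ v, v < 1 → walkT ctF (D.wlen 53) (D.wordP 53) v = v := by
  intro v hv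
  rw [walk_53]
  exact relf_53 v hv

theorem relf_54 : ∀ v, v < 1 → W_54 v = v := by
  intro v hv
  exact fixPtsF_spec W_54 1 0 relc_54_0 v (by omega) (by omega)

set_option maxRecDepth 1000000 in
theorem walk_54 : ∀ v, walkT ctF (D.wlen 54) (D.wordP 54) v = W_54 v := by
  intro v
  simp only [W_54, forceL_eq]
  rfl

theorem relw_54 : ∀ v, v < 1 → walkT ctF (D.wlen 54) (D.wordP 54) v = v := by
  intro v hv
  rw [walk_54]
  exact relf_54 v hv

theorem relf_55 : ∀ v, v < 1 → W_55 v = v := by
  intro v hv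
  exact fixPtsF_spec W_55 1 0 relc_55_0 v (by omega) (by omega)

set_option maxRecDepth 1000000 in
theorem walk_55 : ∀ v, walkT ctF (D.wlen 55) (D.wordP 55) v = W_55 v := by
  intro v
  simp only [W_55, forceL_eq]
  rfl

theorem relw_55 : ∀ v, v < 1 → walkT ctF (D.wlen 55) (D.wordP 55) v = v := by
  intro v hv
  rw [walk_55]
  exact relf_55 v hv

theorem relf_56 : ∀ v, v < 1 → W_56 v = v := by
  intro v hv
  exact fixPtsF_spec W_56 1 0 relc_56_0 v (by omega) (by omega)

set_option maxRecDepth 1000000 in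
theorem walk_56 : ∀ v, walkT ctF (D.wlen 56) (D.wordP 56) v = W_56 v := by
  intro v
  simp only [W_56, forceL_eq]
  rfl

theorem relw_56 : ∀ v, v < 1 → walkT ctF (D.wlen 56) (D.wordP 56) v = v := by
  intro v hv
  rw [walk_56]
  exact relf_56 v hv

theorem relf_57 : ∀ v, v < 1 → W_57 v = v := by
  intro v hv
  exact fixPtsF_spec W_57 1 0 relc_57_0 v (by omega) (by omega)

set_option maxRecDepth 1000000 in
theorem walk_57 : ∀ v, walkT ctF (D.wlen 57) (D.wordP 57) v = W_57 v := by
  intro v
  simp only [W_57, forceL_eq]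
  rfl

theorem relw_57 : ∀ v, v < 1 → walkT ctF (D.wlen 57) (D.wordP 57) v = v := by
  intro v hv
  rw [walk_57]
  exact relf_57 v hv

theorem relf_58 : ∀ v, v < 1 → W_58 v = v := by
  intro v hv
  exact fixPtsF_spec W_58 1 0 relc_58_0 v (by omega) (by omega)

set_option maxRecDepth 1000000 in
theorem walk_58 : ∀ v, walkT ctF (D.wlen 58) (D.wordP 58) v = W_58 v := by
  intro v
  simp only [W_58, forceL_eq]
  rfl

theorem relw_58 : ∀ v, v < 1 → walkT ctF (D.wlen 58) (D.wordP 58) v = v := by
  intro v hv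
  rw [walk_58]
  exact relf_58 v hv

theorem relf_59 : ∀ v, v < 1 → W_59 v = v := by
  intro v hv
  exact fixPtsF_spec W_59 1 0 relc_59_0 v (by omega) (by omega)

set_option maxRecDepth 1000000 in
theorem walk_59 : ∀ v, walkT ctF (D.wlen 59) (D.wordP 59) v = W_59 v := by
  intro v
  simp only [W_59, forceL_eq]
  rfl

theorem relw_59 : ∀ v, v < 1 → walkT ctF (D.wlen 59) (D.wordP 59) v = v := by
  intro v hv
  rw [walk_59]
  exact relf_59 v hv

theorem relf_60 : ∀ v, v < 1 → W_60 v = v := by
  intro v hv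
  exact fixPtsF_spec W_60 1 0 relc_60_0 v (by omega) (by omega)

set_option maxRecDepth 1000000 in
theorem walk_60 : ∀ v, walkT ctF (D.wlen 60) (D.wordP 60) v = W_60 v := by
  intro v
  simp only [W_60, forceL_eq]
  rfl

theorem relw_60 : ∀ v, v < 1 → walkT ctF (D.wlen 60) (D.wordP 60) v = v := by
  intro v hv
  rw [walk_60]
  exact relf_60 v hv

theorem relf_61 : ∀ v, v < 1 → W_61 v = v := by
  intro v hv
  exact fixPtsF_spec W_61 1 0 relc_61_0 v (by omega) (by omega)

set_option maxRecDepth 1000000 in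
theorem walk_61 : ∀ v, walkT ctF (D.wlen 61) (D.wordP 61) v = W_61 v := by
  intro v
  simp only [W_61, forceL_eq]
  rfl

theorem relw_61 : ∀ v, v < 1 → walkT ctF (D.wlen 61) (D.wordP 61) v = v := by
  intro v hv
  rw [walk_61]
  exact relf_61 v hv

theorem relf_62 : ∀ v, v < 1 → W_62 v = v := by
  intro v hv
  exact fixPtsF_spec W_62 1 0 relc_62_0 v (by omega) (by omega)

set_option maxRecDepth 1000000 in
theorem walk_62 : ∀ v, walkT ctF (D.wlen 62) (D.wordP 62) v = W_62 v := by
  intro v
  simp only [W_62, forceL_eq]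
  rfl

theorem relw_62 : ∀ v, v < 1 → walkT ctF (D.wlen 62) (D.wordP 62) v = v := by
  intro v hv
  rw [walk_62]
  exact relf_62 v hv

theorem relf_63 : ∀ v, v < 1 → W_63 v = v := by
  intro v hv
  exact fixPtsF_spec W_63 1 0 relc_63_0 v (by omega) (by omega)

set_option maxRecDepth 1000000 in
theorem walk_63 : ∀ v, walkT ctF (D.wlen 63) (D.wordP 63) v = W_63 v := by
  intro v
  simp only [W_63, forceL_eq]
  rfl

theorem relw_63 : ∀ v, v < 1 → walkT ctF (D.wlen 63) (D.wordP 63) v = v := by
  intro v hv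
  rw [walk_63]
  exact relf_63 v hv

theorem relf_64 : ∀ v, v < 1 → W_64 v = v := by
  intro v hv
  exact fixPtsF_spec W_64 1 0 relc_64_0 v (by omega) (by omega)

set_option maxRecDepth 1000000 in
theorem walk_64 : ∀ v, walkT ctF (D.wlen 64) (D.wordP 64) v = W_64 v := by
  intro v
  simp only [W_64, forceL_eq]
  rfl

theorem relw_64 : ∀ v, v < 1 → walkT ctF (D.wlen 64) (D.wordP 64) v = v := by
  intro v hv
  rw [walk_64]
  exact relf_64 v hv

theorem relf_65 : ∀ v, v < 1 → W_65 v = v := by
  intro v hv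
  exact fixPtsF_spec W_65 1 0 relc_65_0 v (by omega) (by omega)

set_option maxRecDepth 1000000 in
theorem walk_65 : ∀ v, walkT ctF (D.wlen 65) (D.wordP 65) v = W_65 v := by
  intro v
  simp only [W_65, forceL_eq]
  rfl

theorem relw_65 : ∀ v, v < 1 → walkT ctF (D.wlen 65) (D.wordP 65) v = v := by
  intro v hv
  rw [walk_65]
  exact relf_65 v hv

theorem relf_66 : ∀ v, v < 1 → W_66 v = v := by
  intro v hv
  exact fixPtsF_spec W_66 1 0 relc_66_0 v (by omega) (by omega)

set_option maxRecDepth 1000000 in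
theorem walk_66 : ∀ v, walkT ctF (D.wlen 66) (D.wordP 66) v = W_66 v := by
  intro v
  simp only [W_66, forceL_eq]
  rfl

theorem relw_66 : ∀ v, v < 1 → walkT ctF (D.wlen 66) (D.wordP 66) v = v := by
  intro v hv
  rw [walk_66]
  exact relf_66 v hv

theorem invx_0 : ∀ v, v < 1 → ctF 0 v < 1 ∧ ctF 0 (ctF 0 v) = v := by
  intro v hv
  exact invRowFI_spec ctF 1 0 0 1 0 inv_0_0 v (by omega) (by omega)

theorem invx_1 : ∀ v, v < 1 → ctF 1 v < 1 ∧ ctF 1 (ctF 1 v) = v := by
  intro v hv
  exact invRowFI_spec ctF 1 1 1 1 0 inv_1_0 v (by omega) (by omega)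

theorem invx_2 : ∀ v, v < 1 → ctF 2 v < 1 ∧ ctF 2 (ctF 2 v) = v := by
  intro v hv
  exact invRowFI_spec ctF 1 2 2 1 0 inv_2_0 v (by omega) (by omega)

theorem invx_3 : ∀ v, v < 1 → ctF 3 v < 1 ∧ ctF 3 (ctF 3 v) = v := by
  intro v hv
  exact invRowFI_spec ctF 1 3 3 1 0 inv_3_0 v (by omega) (by omega)

theorem invx_4 : ∀ v, v < 1 → ctF 4 v < 1 ∧ ctF 4 (ctF 4 v) = v := by
  intro v hv
  exact invRowFI_spec ctF 1 4 4 1 0 inv_4_0 v (by omega) (by omega)

theorem invx_5 : ∀ v, v < 1 → ctF 5 v < 1 ∧ ctF 5 (ctF 5 v) = v := by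
  intro v hv
  exact invRowFI_spec ctF 1 5 5 1 0 inv_5_0 v (by omega) (by omega)

theorem invx_6 : ∀ v, v < 1 → ctF 6 v < 1 ∧ ctF 6 (ctF 6 v) = v := by
  intro v hv
  exact invRowFI_spec ctF 1 6 6 1 0 inv_6_0 v (by omega) (by omega)

theorem invx_7 : ∀ v, v < 1 → ctF 7 v < 1 ∧ ctF 7 (ctF 7 v) = v := by
  intro v hv
  exact invRowFI_spec ctF 1 7 7 1 0 inv_7_0 v (by omega) (by omega)

theorem invx_8 : ∀ v, v < 1 → ctF 8 v < 1 ∧ ctF 8 (ctF 8 v) = v := by
  intro v hv
  exact invRowFI_spec ctF 1 8 8 1 0 inv_8_0 v (by omega) (by omega)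

theorem invx_9 : ∀ v, v < 1 → ctF 9 v < 1 ∧ ctF 9 (ctF 9 v) = v := by
  intro v hv
  exact invRowFI_spec ctF 1 9 9 1 0 inv_9_0 v (by omega) (by omega)

theorem invx_10 : ∀ v, v < 1 → ctF 10 v < 1 ∧ ctF 10 (ctF 10 v) = v := by
  intro v hv
  exact invRowFI_spec ctF 1 10 10 1 0 inv_10_0 v (by omega) (by omega)

theorem hconn : ∀ v, v < 1 → v ≠ 0 → ∃ x, x < E.D.k ∧ ctF x v < v := by
  intro v hv
  exact connF_spec ctF 11 1 0 conn_0 v (by omega) (by omega)

theorem hE : ∀ v, v < E.M → ∀ x, x < E.D.k → edgeOKI iota E x v = true := by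
  intro v hv x hx
  have hv' : v < 27195 := hv
  have hx' : x < 11 := hx
  interval_cases x
  · exact edgesx_0 v hv'
  · exact edgesx_1 v hv'
  · exact edgesx_2 v hv'
  · exact edgesx_3 v hv'
  · exact edgesx_4 v hv'
  · exact edgesx_5 v hv'
  · exact edgesx_6 v hv'
  · exact edgesx_7 v hv'
  · exact edgesx_8 v hv'
  · exact edgesx_9 v hv'
  · exact edgesx_10 v hv'

theorem hA : ∀ v, v < E.M → aliasOK E v = true := fun v hv => hA0 v hv

theorem hrows : ∀ v, v < E.M → tb RS v = true → rowOK2 E RS v E.D.k = true := fun v hv => hrows0 v hv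

theorem hT : ∀ x, x < E.D.k → ∀ v, v < 1 → ctF x v < 1 ∧ ctF (iota x) (ctF x v) = v := by
  intro x hx
  have hx' : x < 11 := hx
  interval_cases x
  · exact invx_0
  · exact invx_1
  · exact invx_2
  · exact invx_3
  · exact invx_4
  · exact invx_5
  · exact invx_6
  · exact invx_7
  · exact invx_8
  · exact invx_9
  · exact invx_10

theorem hltr : ∀ j, j < E.D.nw → lettersOK E.D.k (E.D.wlen j) (E.D.wordP j) = true :=
  wordsOK_spec D D.nw words_ok

theorem hrelT : ∀ wi, wi < E.D.nrel → ∀ v, v < 1 →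
    walkT ctF (E.D.wlen wi) (E.D.wordP wi) v = v := by
  intro wi hwi
  have hwi' : wi < 67 := hwi
  interval_cases wi
  · exact relw_0
  · exact relw_1
  · exact relw_2
  · exact relw_3
  · exact relw_4
  · exact relw_5
  · exact relw_6
  · exact relw_7
  · exact relw_8
  · exact relw_9
  · exact relw_10
  · exact relw_11
  · exact relw_12
  · exact relw_13
  · exact relw_14
  · exact relw_15
  · exact relw_16
  · exact relw_17
  · exact relw_18
  · exact relw_19
  · exact relw_20
  · exact relw_21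
  · exact relw_22
  · exact relw_23
  · exact relw_24
  · exact relw_25
  · exact relw_26
  · exact relw_27
  · exact relw_28
  · exact relw_29
  · exact relw_30
  · exact relw_31
  · exact relw_32
  · exact relw_33
  · exact relw_34
  · exact relw_35
  · exact relw_36
  · exact relw_37
  · exact relw_38
  · exact relw_39
  · exact relw_40
  · exact relw_41
  · exact relw_42
  · exact relw_43
  · exact relw_44
  · exact relw_45
  · exact relw_46
  · exact relw_47
  · exact relw_48
  · exact relw_49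
  · exact relw_50
  · exact relw_51
  · exact relw_52
  · exact relw_53
  · exact relw_54
  · exact relw_55
  · exact relw_56
  · exact relw_57
  · exact relw_58
  · exact relw_59
  · exact relw_60
  · exact relw_61
  · exact relw_62
  · exact relw_63
  · exact relw_64
  · exact relw_65
  · exact relw_66

theorem hsubT : ∀ wi, wi < E.D.nw → E.D.nrel ≤ wi →
    walkT ctF (E.D.wlen wi) (E.D.wordP wi) 0 = 0 :=
  subAll_spec ctF D D.nw sub_ok

end Cfsg.Agent.Helper3.Y5ATC
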