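import Cfsg.Agent.Helper3.Y5BTCDatD
import Cfsg.Agent.Helper5.TCIB

/-! kernel checks of edges, aliases, rows: Y5BTC -/

set_option autoImplicit false
set_option Elab.async false

namespace Cfsg.Agent.Helper3.Y5BTC
open Cfsg.Agent.Helper5.TC Cfsg.Agent.Helper5.TCI

set_option maxRecDepth 1000000 in
theorem cnt_0 : cntFrom RS 20000 0 0 = 8008 := by decide +kernel

set_option maxRecDepth 1000000 in
theorem edges_2_7 : edgesRangeI iota E 2 3643 18402 = true := by decide +kernel

set_option maxRecDepth 1000000 in
theorem edges_1_0 : edgesRangeI iota E 1 1911 0 = true := by decide +kernel

set_option maxRecDepth 1000000 in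
theorem edges_2_27 : edgesRangeI iota E 2 2022 90992 = true := by decide +kernel

set_option maxRecDepth 1000000 in
theorem edges_7_26 : edgesRangeI iota E 7 2148 95940 = true := by decide +kernel

set_option maxRecDepth 1000000 in
theorem edges_2_29 : edgesRangeI iota E 2 2037 95199 = true := by decide +kernel

set_option maxRecDepth 1000000 in
theorem edges_6_14 : edgesRangeI iota E 6 3538 42534 = true := by decide +kernel

set_option maxRecDepth 1000000 in
theorem aliases_16 : aliasRange E 3076 53238 = true := by decide +kernel

set_option maxRecDepth 1000000 in
theorem edges_1_7 : edgesRangeI iota E 1 4039 18782 = true := by decide +kernel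

set_option maxRecDepth 1000000 in
theorem edges_3_14 : edgesRangeI iota E 3 3247 44543 = true := by decide +kernel

set_option maxRecDepth 1000000 in
theorem edges_5_22 : edgesRangeI iota E 5 3303 75155 = true := by decide +kernel

set_option maxRecDepth 1000000 in
theorem edges_7_23 : edgesRangeI iota E 7 2406 88359 = true := by decide +kernel

set_option maxRecDepth 1000000 in
theorem aliases_3 : aliasRange E 3599 11343 = true := by decide +kernel

set_option maxRecDepth 1000000 in
theorem edges_0_12 : edgesRangeI iota E 0 4977 37660 = true := by decide +kernel

set_option maxRecDepth 1000000 in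
theorem edges_2_13 : edgesRangeI iota E 2 4217 39713 = true := by decide +kernel

set_option maxRecDepth 1000000 in
theorem edges_3_29 : edgesRangeI iota E 3 1971 93828 = true := by decide +kernel

set_option maxRecDepth 1000000 in
theorem edges_5_18 : edgesRangeI iota E 5 3411 59810 = true := by decide +kernel

set_option maxRecDepth 1000000 in
theorem edges_6_12 : edgesRangeI iota E 6 3544 35044 = true := by decide +kernel

set_option maxRecDepth 1000000 in
theorem edges_7_21 : edgesRangeI iota E 7 4911 80343 = true := by decide +kernel

set_option maxRecDepth 1000000 in
theorem edges_9_4 : edgesRangeI iota E 9 5617 17319 = true := by decide +kernel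

set_option maxRecDepth 1000000 in
theorem edges_1_4 : edgesRangeI iota E 1 3038 9411 = true := by decide +kernel

set_option maxRecDepth 1000000 in
theorem edges_3_8 : edgesRangeI iota E 3 2977 22859 = true := by decide +kernel

set_option maxRecDepth 1000000 in
theorem edges_4_17 : edgesRangeI iota E 4 4678 51579 = true := by decide +kernel

set_option maxRecDepth 1000000 in
theorem edges_5_20 : edgesRangeI iota E 5 4632 66887 = true := by decide +kernel

set_option maxRecDepth 1000000 in
theorem edges_7_9 : edgesRangeI iota E 7 4052 27169 = true := by decide +kernel

set_option maxRecDepth 1000000 in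
theorem edges_8_14 : edgesRangeI iota E 8 3004 36795 = true := by decide +kernel

set_option maxRecDepth 1000000 in
theorem aliases_10 : aliasRange E 3013 35039 = true := by decide +kernel

set_option maxRecDepth 1000000 in
theorem edges_0_11 : edgesRangeI iota E 0 3559 34101 = true := by decide +kernel

set_option maxRecDepth 1000000 in
theorem edges_1_1 : edgesRangeI iota E 1 2226 1911 = true := by decide +kernel

set_option maxRecDepth 1000000 in
theorem edges_1_19 : edgesRangeI iota E 1 5517 64913 = true := by decide +kernel

set_option maxRecDepth 1000000 in
theorem edges_2_15 : edgesRangeI iota E 2 3715 47353 = true := by decide +kernel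

set_option maxRecDepth 1000000 in
theorem edges_3_7 : edgesRangeI iota E 3 3765 19094 = true := by decide +kernel

set_option maxRecDepth 1000000 in
theorem edges_3_22 : edgesRangeI iota E 3 3203 75461 = true := by decide +kernel

set_option maxRecDepth 1000000 in
theorem edges_4_13 : edgesRangeI iota E 4 4218 37617 = true := by decide +kernel

set_option maxRecDepth 1000000 in
theorem edges_5_3 : edgesRangeI iota E 5 2824 6966 = true := by decide +kernel

set_option maxRecDepth 1000000 in
theorem edges_5_23 : edgesRangeI iota E 5 3480 78458 = true := by decide +kernel

set_option maxRecDepth 1000000 in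
theorem edges_6_15 : edgesRangeI iota E 6 3142 46072 = true := by decide +kernel

set_option maxRecDepth 1000000 in
theorem edges_7_4 : edgesRangeI iota E 7 3073 10177 = true := by decide +kernel

set_option maxRecDepth 1000000 in
theorem edges_8_10 : edgesRangeI iota E 8 2923 25750 = true := by decide +kernel

set_option maxRecDepth 1000000 in
theorem edges_8_21 : edgesRangeI iota E 8 2792 57745 = true := by decide +kernel

set_option maxRecDepth 1000000 in
theorem edges_8_33 : edgesRangeI iota E 8 2045 91724 = true := by decide +kernel

set_option maxRecDepth 1000000 in
theorem edges_9_14 : edgesRangeI iota E 9 4907 72444 = true := by decide +kernel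

set_option maxRecDepth 1000000 in
theorem aliases_12 : aliasRange E 3052 41548 = true := by decide +kernel

set_option maxRecDepth 1000000 in
theorem rows_0 : rowsRange E RS 1500 0 = true := by decide +kernel

set_option maxRecDepth 1000000 in
theorem rows_4 : rowsRange E RS 1500 6000 = true := by decide +kernel

set_option maxRecDepth 1000000 in
theorem rows_12 : rowsRange E RS 1500 18000 = true := by decide +kernel

set_option maxRecDepth 1000000 in
theorem rows_20 : rowsRange E RS 1500 30000 = true := by decide +kernel

set_option maxRecDepth 1000000 in
theorem rows_28 : rowsRange E RS 1500 42000 = true := by decide +kernel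

set_option maxRecDepth 1000000 in
theorem rows_36 : rowsRange E RS 1500 54000 = true := by decide +kernel

set_option maxRecDepth 1000000 in
theorem rows_44 : rowsRange E RS 1500 66000 = true := by decide +kernel

set_option maxRecDepth 1000000 in
theorem rows_52 : rowsRange E RS 1500 78000 = true := by decide +kernel

set_option maxRecDepth 1000000 in
theorem rows_60 : rowsRange E RS 1500 90000 = true := by decide +kernel

set_option maxRecDepth 1000000 in
theorem edges_5_32 : edgesRangeI iota E 5 965 98882 = true := by decide +kernel

end Cfsg.Agent.Helper3.Y5BTC
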