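import Cfsg.Agent.Helper3.Y5BTCDatD
import Cfsg.Agent.Helper5.TCIB

/-! kernel checks of edges, aliases, rows: Y5BTC -/

set_option autoImplicit false
set_option Elab.async false

namespace Cfsg.Agent.Helper3.Y5BTC
open Cfsg.Agent.Helper5.TC Cfsg.Agent.Helper5.TCI

set_option maxRecDepth 1000000 in
theorem cnt_1 : cntFrom RS 20000 20000 0 = 3670 := by decide +kernel

set_option maxRecDepth 1000000 in
theorem edges_4_31 : edgesRangeI iota E 4 2088 94320 = true := by decide +kernel

set_option maxRecDepth 1000000 in
theorem edges_1_10 : edgesRangeI iota E 1 3474 30194 = true := by decide +kernel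

set_option maxRecDepth 1000000 in
theorem edges_2_28 : edgesRangeI iota E 2 2185 93014 = true := by decide +kernel

set_option maxRecDepth 1000000 in
theorem edges_8_29 : edgesRangeI iota E 8 3120 82603 = true := by decide +kernel

set_option maxRecDepth 1000000 in
theorem edges_3_3 : edgesRangeI iota E 3 2735 7112 = true := by decide +kernel

set_option maxRecDepth 1000000 in
theorem edges_6_25 : edgesRangeI iota E 6 3988 81973 = true := by decide +kernel

set_option maxRecDepth 1000000 in
theorem aliases_19 : aliasRange E 2336 61319 = true := by decide +kernel

set_option maxRecDepth 1000000 in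
theorem edges_1_8 : edgesRangeI iota E 1 2857 22821 = true := by decide +kernel

set_option maxRecDepth 1000000 in
theorem edges_3_26 : edgesRangeI iota E 3 1780 88153 = true := by decide +kernel

set_option maxRecDepth 1000000 in
theorem edges_6_2 : edgesRangeI iota E 6 2437 4010 = true := by decide +kernel

set_option maxRecDepth 1000000 in
theorem edges_8_0 : edgesRangeI iota E 8 2504 0 = true := by decide +kernel

set_option maxRecDepth 1000000 in
theorem aliases_14 : aliasRange E 3007 47472 = true := by decide +kernel

set_option maxRecDepth 1000000 in
theorem edges_0_15 : edgesRangeI iota E 0 5515 49371 = true := by decide +kernel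

set_option maxRecDepth 1000000 in
theorem edges_2_18 : edgesRangeI iota E 2 3416 59911 = true := by decide +kernel

set_option maxRecDepth 1000000 in
theorem edges_4_5 : edgesRangeI iota E 4 3097 12702 = true := by decide +kernel

set_option maxRecDepth 1000000 in
theorem edges_5_19 : edgesRangeI iota E 5 3666 63221 = true := by decide +kernel

set_option maxRecDepth 1000000 in
theorem edges_6_13 : edgesRangeI iota E 6 3946 38588 = true := by decide +kernel

set_option maxRecDepth 1000000 in
theorem edges_7_24 : edgesRangeI iota E 7 2608 90765 = true := by decide +kernel

set_option maxRecDepth 1000000 in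
theorem edges_9_16 : edgesRangeI iota E 9 4555 82137 = true := by decide +kernel

set_option maxRecDepth 1000000 in
theorem edges_1_9 : edgesRangeI iota E 1 4516 25678 = true := by decide +kernel

set_option maxRecDepth 1000000 in
theorem edges_3_19 : edgesRangeI iota E 3 3763 63225 = true := by decide +kernel

set_option maxRecDepth 1000000 in
theorem edges_4_24 : edgesRangeI iota E 4 3013 77408 = true := by decide +kernel

set_option maxRecDepth 1000000 in
theorem edges_5_21 : edgesRangeI iota E 5 3636 71519 = true := by decide +kernel

set_option maxRecDepth 1000000 in
theorem edges_7_19 : edgesRangeI iota E 7 4683 71217 = true := by decide +kernel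

set_option maxRecDepth 1000000 in
theorem edges_8_31 : edgesRangeI iota E 8 1907 88010 = true := by decide +kernel

set_option maxRecDepth 1000000 in
theorem aliases_20 : aliasRange E 2093 63655 = true := by decide +kernel

set_option maxRecDepth 1000000 in
theorem edges_0_14 : edgesRangeI iota E 0 3217 46154 = true := by decide +kernel

set_option maxRecDepth 1000000 in
theorem edges_1_3 : edgesRangeI iota E 1 2795 6616 = true := by decide +kernel

set_option maxRecDepth 1000000 in
theorem edges_1_21 : edgesRangeI iota E 1 2960 74832 = true := by decide +kernel

set_option maxRecDepth 1000000 in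
theorem edges_2_17 : edgesRangeI iota E 2 3633 56278 = true := by decide +kernel

set_option maxRecDepth 1000000 in
theorem edges_3_9 : edgesRangeI iota E 3 4156 25836 = true := by decide +kernel

set_option maxRecDepth 1000000 in
theorem edges_3_23 : edgesRangeI iota E 3 3406 78664 = true := by decide +kernel

set_option maxRecDepth 1000000 in
theorem edges_4_16 : edgesRangeI iota E 4 3598 47981 = true := by decide +kernel

set_option maxRecDepth 1000000 in
theorem edges_5_4 : edgesRangeI iota E 5 3079 9790 = true := by decide +kernel

set_option maxRecDepth 1000000 in
theorem edges_5_24 : edgesRangeI iota E 5 4041 81938 = true := by decide +kernel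

set_option maxRecDepth 1000000 in
theorem edges_6_20 : edgesRangeI iota E 6 3626 63972 = true := by decide +kernel

set_option maxRecDepth 1000000 in
theorem edges_7_6 : edgesRangeI iota E 7 3236 16643 = true := by decide +kernel

set_option maxRecDepth 1000000 in
theorem edges_8_13 : edgesRangeI iota E 8 2799 33996 = true := by decide +kernel

set_option maxRecDepth 1000000 in
theorem edges_8_22 : edgesRangeI iota E 8 2840 60537 = true := by decide +kernel

set_option maxRecDepth 1000000 in
theorem edges_8_34 : edgesRangeI iota E 8 2261 93769 = true := by decide +kernel

set_option maxRecDepth 1000000 in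
theorem edges_9_21 : edgesRangeI iota E 9 2099 97262 = true := by decide +kernel

set_option maxRecDepth 1000000 in
theorem aliases_13 : aliasRange E 2872 44600 = true := by decide +kernel

set_option maxRecDepth 1000000 in
theorem rows_1 : rowsRange E RS 1500 1500 = true := by decide +kernel

set_option maxRecDepth 1000000 in
theorem rows_5 : rowsRange E RS 1500 7500 = true := by decide +kernel

set_option maxRecDepth 1000000 in
theorem rows_13 : rowsRange E RS 1500 19500 = true := by decide +kernel

set_option maxRecDepth 1000000 in
theorem rows_21 : rowsRange E RS 1500 31500 = true := by decide +kernel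

set_option maxRecDepth 1000000 in
theorem rows_29 : rowsRange E RS 1500 43500 = true := by decide +kernel

set_option maxRecDepth 1000000 in
theorem rows_37 : rowsRange E RS 1500 55500 = true := by decide +kernel

set_option maxRecDepth 1000000 in
theorem rows_45 : rowsRange E RS 1500 67500 = true := by decide +kernel

set_option maxRecDepth 1000000 in
theorem rows_53 : rowsRange E RS 1500 79500 = true := by decide +kernel

set_option maxRecDepth 1000000 in
theorem rows_61 : rowsRange E RS 1500 91500 = true := by decide +kernel

set_option maxRecDepth 1000000 in
theorem edges_1_31 : edgesRangeI iota E 1 869 98978 = true := by decide +kernel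

end Cfsg.Agent.Helper3.Y5BTC
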