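import Cfsg.Agent.Helper3.Y5BTCDatD
import Cfsg.Agent.Helper5.TCIB

/-! kernel checks of edges, aliases, rows: Y5BTC -/

set_option autoImplicit false
set_option Elab.async false

namespace Cfsg.Agent.Helper3.Y5BTC
open Cfsg.Agent.Helper5.TC Cfsg.Agent.Helper5.TCI

set_option maxRecDepth 1000000 in
theorem cnt_2 : cntFrom RS 20000 40000 0 = 2927 := by decide +kernel

set_option maxRecDepth 1000000 in
theorem edges_8_3 : edgesRangeI iota E 8 2496 7567 = true := by decide +kernel

set_option maxRecDepth 1000000 in
theorem edges_1_24 : edgesRangeI iota E 1 2254 85628 = true := by decide +kernel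

set_option maxRecDepth 1000000 in
theorem edges_3_1 : edgesRangeI iota E 3 2364 2126 = true := by decide +kernel

set_option maxRecDepth 1000000 in
theorem edges_9_19 : edgesRangeI iota E 9 2553 92383 = true := by decide +kernel

set_option maxRecDepth 1000000 in
theorem edges_3_15 : edgesRangeI iota E 3 3615 47790 = true := by decide +kernel

set_option maxRecDepth 1000000 in
theorem edges_6_26 : edgesRangeI iota E 6 2073 85961 = true := by decide +kernel

set_option maxRecDepth 1000000 in
theorem aliases_26 : aliasRange E 1978 75515 = true := by decide +kernel

set_option maxRecDepth 1000000 in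
theorem edges_1_12 : edgesRangeI iota E 1 5053 36881 = true := by decide +kernel

set_option maxRecDepth 1000000 in
theorem edges_3_27 : edgesRangeI iota E 3 1811 89933 = true := by decide +kernel

set_option maxRecDepth 1000000 in
theorem edges_6_7 : edgesRangeI iota E 6 3588 18041 = true := by decide +kernel

set_option maxRecDepth 1000000 in
theorem edges_8_1 : edgesRangeI iota E 8 2482 2504 = true := by decide +kernel

set_option maxRecDepth 1000000 in
theorem aliases_15 : aliasRange E 2759 50479 = true := by decide +kernel

set_option maxRecDepth 1000000 in
theorem edges_0_28 : edgesRangeI iota E 0 1715 93773 = true := by decide +kernel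

set_option maxRecDepth 1000000 in
theorem edges_2_26 : edgesRangeI iota E 2 1921 89071 = true := by decide +kernel

set_option maxRecDepth 1000000 in
theorem edges_4_14 : edgesRangeI iota E 4 2986 41835 = true := by decide +kernel

set_option maxRecDepth 1000000 in
theorem edges_5_25 : edgesRangeI iota E 5 2223 85979 = true := by decide +kernel

set_option maxRecDepth 1000000 in
theorem edges_6_24 : edgesRangeI iota E 6 3261 78712 = true := by decide +kernel

set_option maxRecDepth 1000000 in
theorem edges_8_6 : edgesRangeI iota E 8 2426 15370 = true := by decide +kernel

set_option maxRecDepth 1000000 in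
theorem aliases_0 : aliasRange E 4574 0 = true := by decide +kernel

set_option maxRecDepth 1000000 in
theorem edges_1_13 : edgesRangeI iota E 1 3671 41934 = true := by decide +kernel

set_option maxRecDepth 1000000 in
theorem edges_3_20 : edgesRangeI iota E 3 5059 66988 = true := by decide +kernel

set_option maxRecDepth 1000000 in
theorem edges_5_1 : edgesRangeI iota E 5 2331 1919 = true := by decide +kernel

set_option maxRecDepth 1000000 in
theorem edges_5_27 : edgesRangeI iota E 5 1752 90064 = true := by decide +kernel

set_option maxRecDepth 1000000 in
theorem edges_7_25 : edgesRangeI iota E 7 2567 93373 = true := by decide +kernel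

set_option maxRecDepth 1000000 in
theorem edges_9_6 : edgesRangeI iota E 9 5482 28374 = true := by decide +kernel

set_option maxRecDepth 1000000 in
theorem aliases_21 : aliasRange E 1805 65748 = true := by decide +kernel

set_option maxRecDepth 1000000 in
theorem edges_0_16 : edgesRangeI iota E 0 4109 54886 = true := by decide +kernel

set_option maxRecDepth 1000000 in
theorem edges_1_5 : edgesRangeI iota E 1 3429 12449 = true := by decide +kernel

set_option maxRecDepth 1000000 in
theorem edges_1_23 : edgesRangeI iota E 1 4678 80950 = true := by decide +kernel

set_option maxRecDepth 1000000 in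
theorem edges_2_19 : edgesRangeI iota E 2 4183 63327 = true := by decide +kernel

set_option maxRecDepth 1000000 in
theorem edges_3_11 : edgesRangeI iota E 3 3026 33422 = true := by decide +kernel

set_option maxRecDepth 1000000 in
theorem edges_3_24 : edgesRangeI iota E 3 4052 82070 = true := by decide +kernel

set_option maxRecDepth 1000000 in
theorem edges_4_18 : edgesRangeI iota E 4 3142 56257 = true := by decide +kernel

set_option maxRecDepth 1000000 in
theorem edges_5_7 : edgesRangeI iota E 5 3769 19326 = true := by decide +kernel

set_option maxRecDepth 1000000 in
theorem edges_5_28 : edgesRangeI iota E 5 1735 91816 = true := by decide +kernel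

set_option maxRecDepth 1000000 in
theorem edges_6_21 : edgesRangeI iota E 6 4247 67598 = true := by decide +kernel

set_option maxRecDepth 1000000 in
theorem edges_7_7 : edgesRangeI iota E 7 3861 19879 = true := by decide +kernel

set_option maxRecDepth 1000000 in
theorem edges_8_15 : edgesRangeI iota E 8 2973 39799 = true := by decide +kernel

set_option maxRecDepth 1000000 in
theorem edges_8_23 : edgesRangeI iota E 8 3375 63377 = true := by decide +kernel

set_option maxRecDepth 1000000 in
theorem edges_9_1 : edgesRangeI iota E 9 4271 2924 = true := by decide +kernel

set_option maxRecDepth 1000000 in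
theorem aliases_2 : aliasRange E 3432 7911 = true := by decide +kernel

set_option maxRecDepth 1000000 in
theorem aliases_23 : aliasRange E 1880 69459 = true := by decide +kernel

set_option maxRecDepth 1000000 in
theorem rows_2 : rowsRange E RS 1500 3000 = true := by decide +kernel

set_option maxRecDepth 1000000 in
theorem rows_6 : rowsRange E RS 1500 9000 = true := by decide +kernel

set_option maxRecDepth 1000000 in
theorem rows_14 : rowsRange E RS 1500 21000 = true := by decide +kernel

set_option maxRecDepth 1000000 in
theorem rows_22 : rowsRange E RS 1500 33000 = true := by decide +kernel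

set_option maxRecDepth 1000000 in
theorem rows_30 : rowsRange E RS 1500 45000 = true := by decide +kernel

set_option maxRecDepth 1000000 in
theorem rows_38 : rowsRange E RS 1500 57000 = true := by decide +kernel

set_option maxRecDepth 1000000 in
theorem rows_46 : rowsRange E RS 1500 69000 = true := by decide +kernel

set_option maxRecDepth 1000000 in
theorem rows_54 : rowsRange E RS 1500 81000 = true := by decide +kernel

set_option maxRecDepth 1000000 in
theorem rows_62 : rowsRange E RS 1500 93000 = true := by decide +kernel

set_option maxRecDepth 1000000 in
theorem edges_2_31 : edgesRangeI iota E 2 774 99073 = true := by decide +kernel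

end Cfsg.Agent.Helper3.Y5BTC
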