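import Cfsg.Agent.Helper3.Y5BTCDatD
import Cfsg.Agent.Helper5.TCIB

/-! kernel checks of edges, aliases, rows: Y5BTC -/

set_option autoImplicit false
set_option Elab.async false

namespace Cfsg.Agent.Helper3.Y5BTC
open Cfsg.Agent.Helper5.TC Cfsg.Agent.Helper5.TCI

set_option maxRecDepth 1000000 in
theorem cnt_3 : cntFrom RS 20000 60000 0 = 3325 := by decide +kernel

set_option maxRecDepth 1000000 in
theorem edges_9_11 : edgesRangeI iota E 9 5239 56160 = true := by decide +kernel

set_option maxRecDepth 1000000 in
theorem edges_1_29 : edgesRangeI iota E 1 1932 95282 = true := by decide +kernel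

set_option maxRecDepth 1000000 in
theorem edges_3_30 : edgesRangeI iota E 3 1699 95799 = true := by decide +kernel

set_option maxRecDepth 1000000 in
theorem edges_0_22 : edgesRangeI iota E 0 3326 78293 = true := by decide +kernel

set_option maxRecDepth 1000000 in
theorem edges_2_1 : edgesRangeI iota E 2 2259 1929 = true := by decide +kernel

set_option maxRecDepth 1000000 in
theorem edges_6_6 : edgesRangeI iota E 6 2830 15211 = true := by decide +kernel

set_option maxRecDepth 1000000 in
theorem aliases_5 : aliasRange E 3420 18302 = true := by decide +kernel

set_option maxRecDepth 1000000 in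
theorem edges_0_24 : edgesRangeI iota E 0 2027 86175 = true := by decide +kernel

set_option maxRecDepth 1000000 in
theorem edges_2_23 : edgesRangeI iota E 2 4574 79612 = true := by decide +kernel

set_option maxRecDepth 1000000 in
theorem edges_5_8 : edgesRangeI iota E 5 3028 23095 = true := by decide +kernel

set_option maxRecDepth 1000000 in
theorem edges_7_17 : edgesRangeI iota E 7 4595 61465 = true := by decide +kernel

set_option maxRecDepth 1000000 in
theorem edges_9_20 : edgesRangeI iota E 9 2326 94936 = true := by decide +kernel

set_option maxRecDepth 1000000 in
theorem edges_0_4 : edgesRangeI iota E 0 3046 9782 = true := by decide +kernel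

set_option maxRecDepth 1000000 in
theorem edges_2_5 : edgesRangeI iota E 2 3241 12296 = true := by decide +kernel

set_option maxRecDepth 1000000 in
theorem edges_3_28 : edgesRangeI iota E 3 2084 91744 = true := by decide +kernel

set_option maxRecDepth 1000000 in
theorem edges_5_16 : edgesRangeI iota E 5 4719 51577 = true := by decide +kernel

set_option maxRecDepth 1000000 in
theorem edges_6_10 : edgesRangeI iota E 6 3617 28141 = true := by decide +kernel

set_option maxRecDepth 1000000 in
theorem edges_7_12 : edgesRangeI iota E 7 4428 39083 = true := by decide +kernel

set_option maxRecDepth 1000000 in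
theorem edges_8_35 : edgesRangeI iota E 8 2456 96030 = true := by decide +kernel

set_option maxRecDepth 1000000 in
theorem edges_0_19 : edgesRangeI iota E 0 5620 65950 = true := by decide +kernel

set_option maxRecDepth 1000000 in
theorem edges_3_6 : edgesRangeI iota E 3 2919 16175 = true := by decide +kernel

set_option maxRecDepth 1000000 in
theorem edges_4_4 : edgesRangeI iota E 4 2659 10043 = true := by decide +kernel

set_option maxRecDepth 1000000 in
theorem edges_5_14 : edgesRangeI iota E 5 3199 44660 = true := by decide +kernel

set_option maxRecDepth 1000000 in
theorem edges_6_23 : edgesRangeI iota E 6 3311 75401 = true := by decide +kernel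

set_option maxRecDepth 1000000 in
theorem edges_8_9 : edgesRangeI iota E 8 2527 23223 = true := by decide +kernel

set_option maxRecDepth 1000000 in
theorem aliases_6 : aliasRange E 3289 21722 = true := by decide +kernel

set_option maxRecDepth 1000000 in
theorem edges_0_7 : edgesRangeI iota E 0 3953 19248 = true := by decide +kernel

set_option maxRecDepth 1000000 in
theorem edges_0_25 : edgesRangeI iota E 0 1862 88202 = true := by decide +kernel

set_option maxRecDepth 1000000 in
theorem edges_1_17 : edgesRangeI iota E 1 3407 58342 = true := by decide +kernel

set_option maxRecDepth 1000000 in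
theorem edges_2_14 : edgesRangeI iota E 2 3423 43930 = true := by decide +kernel

set_option maxRecDepth 1000000 in
theorem edges_3_5 : edgesRangeI iota E 3 3385 12790 = true := by decide +kernel

set_option maxRecDepth 1000000 in
theorem edges_3_21 : edgesRangeI iota E 3 3414 72047 = true := by decide +kernel

set_option maxRecDepth 1000000 in
theorem edges_4_9 : edgesRangeI iota E 4 3071 24665 = true := by decide +kernel

set_option maxRecDepth 1000000 in
theorem edges_4_29 : edgesRangeI iota E 4 1795 90587 = true := by decide +kernel

set_option maxRecDepth 1000000 in
theorem edges_5_17 : edgesRangeI iota E 5 3514 56296 = true := by decide +kernel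

set_option maxRecDepth 1000000 in
theorem edges_6_11 : edgesRangeI iota E 6 3286 31758 = true := by decide +kernel

set_option maxRecDepth 1000000 in
theorem edges_7_3 : edgesRangeI iota E 7 2915 7262 = true := by decide +kernel

set_option maxRecDepth 1000000 in
theorem edges_7_22 : edgesRangeI iota E 7 3105 85254 = true := by decide +kernel

set_option maxRecDepth 1000000 in
theorem edges_8_20 : edgesRangeI iota E 8 3158 54587 = true := by decide +kernel

set_option maxRecDepth 1000000 in
theorem edges_8_30 : edgesRangeI iota E 8 2287 85723 = true := by decide +kernel

set_option maxRecDepth 1000000 in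
theorem edges_9_12 : edgesRangeI iota E 9 5447 61399 = true := by decide +kernel

set_option maxRecDepth 1000000 in
theorem aliases_11 : aliasRange E 3496 38052 = true := by decide +kernel

set_option maxRecDepth 1000000 in
theorem edges_6_33 : edgesRangeI iota E 6 1341 98506 = true := by decide +kernel

set_option maxRecDepth 1000000 in
theorem rows_9 : rowsRange E RS 1500 13500 = true := by decide +kernel

set_option maxRecDepth 1000000 in
theorem rows_17 : rowsRange E RS 1500 25500 = true := by decide +kernel

set_option maxRecDepth 1000000 in
theorem rows_25 : rowsRange E RS 1500 37500 = true := by decide +kernel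

set_option maxRecDepth 1000000 in
theorem rows_33 : rowsRange E RS 1500 49500 = true := by decide +kernel

set_option maxRecDepth 1000000 in
theorem rows_41 : rowsRange E RS 1500 61500 = true := by decide +kernel

set_option maxRecDepth 1000000 in
theorem rows_49 : rowsRange E RS 1500 73500 = true := by decide +kernel

set_option maxRecDepth 1000000 in
theorem rows_57 : rowsRange E RS 1500 85500 = true := by decide +kernel

set_option maxRecDepth 1000000 in
theorem rows_65 : rowsRange E RS 1500 97500 = true := by decide +kernel

set_option maxRecDepth 1000000 in
theorem edges_9_22 : edgesRangeI iota E 9 486 99361 = true := by decide +kernel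

end Cfsg.Agent.Helper3.Y5BTC
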