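import Cfsg.Agent.Helper3.Y5BTCDatD
import Cfsg.Agent.Helper5.TCIB

/-! kernel checks of edges, aliases, rows: Y5BTC -/

set_option autoImplicit false
set_option Elab.async false

namespace Cfsg.Agent.Helper3.Y5BTC
open Cfsg.Agent.Helper5.TC Cfsg.Agent.Helper5.TCI

set_option maxRecDepth 1000000 in
theorem cnt_4 : cntFrom RS 19847 80000 0 = 13741 := by decide +kernel

set_option maxRecDepth 1000000 in
theorem edges_0_26 : edgesRangeI iota E 0 1865 90064 = true := by decide +kernel

set_option maxRecDepth 1000000 in
theorem edges_0_27 : edgesRangeI iota E 0 1844 91929 = true := by decide +kernel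

set_option maxRecDepth 1000000 in
theorem edges_2_25 : edgesRangeI iota E 2 1824 87247 = true := by decide +kernel

set_option maxRecDepth 1000000 in
theorem edges_7_16 : edgesRangeI iota E 7 4702 56763 = true := by decide +kernel

set_option maxRecDepth 1000000 in
theorem edges_1_20 : edgesRangeI iota E 1 4402 70430 = true := by decide +kernel

set_option maxRecDepth 1000000 in
theorem edges_5_0 : edgesRangeI iota E 5 1919 0 = true := by decide +kernel

set_option maxRecDepth 1000000 in
theorem edges_9_5 : edgesRangeI iota E 9 5438 22936 = true := by decide +kernel

set_option maxRecDepth 1000000 in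
theorem edges_0_20 : edgesRangeI iota E 0 3741 71570 = true := by decide +kernel

set_option maxRecDepth 1000000 in
theorem edges_2_6 : edgesRangeI iota E 2 2865 15537 = true := by decide +kernel

set_option maxRecDepth 1000000 in
theorem edges_4_23 : edgesRangeI iota E 4 2866 74542 = true := by decide +kernel

set_option maxRecDepth 1000000 in
theorem edges_7_13 : edgesRangeI iota E 7 4192 43511 = true := by decide +kernel

set_option maxRecDepth 1000000 in
theorem edges_9_18 : edgesRangeI iota E 9 2696 89687 = true := by decide +kernel

set_option maxRecDepth 1000000 in
theorem aliases_30 : aliasRange E 1611 83060 = true := by decide +kernel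

set_option maxRecDepth 1000000 in
theorem edges_2_4 : edgesRangeI iota E 2 2920 9376 = true := by decide +kernel

set_option maxRecDepth 1000000 in
theorem edges_3_12 : edgesRangeI iota E 3 4489 36448 = true := by decide +kernel

set_option maxRecDepth 1000000 in
theorem edges_5_5 : edgesRangeI iota E 5 3448 12869 = true := by decide +kernel

set_option maxRecDepth 1000000 in
theorem edges_6_3 : edgesRangeI iota E 6 2679 6447 = true := by decide +kernel

set_option maxRecDepth 1000000 in
theorem edges_7_8 : edgesRangeI iota E 7 3429 23740 = true := by decide +kernel

set_option maxRecDepth 1000000 in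
theorem edges_8_32 : edgesRangeI iota E 8 1807 89917 = true := by decide +kernel

set_option maxRecDepth 1000000 in
theorem edges_0_13 : edgesRangeI iota E 0 3517 42637 = true := by decide +kernel

set_option maxRecDepth 1000000 in
theorem edges_2_22 : edgesRangeI iota E 2 2985 76627 = true := by decide +kernel

set_option maxRecDepth 1000000 in
theorem edges_4_2 : edgesRangeI iota E 4 2653 4798 = true := by decide +kernel

set_option maxRecDepth 1000000 in
theorem edges_5_12 : edgesRangeI iota E 5 4406 36747 = true := by decide +kernel

set_option maxRecDepth 1000000 in
theorem edges_6_16 : edgesRangeI iota E 6 3980 49214 = true := by decide +kernel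

set_option maxRecDepth 1000000 in
theorem edges_8_7 : edgesRangeI iota E 8 2756 17796 = true := by decide +kernel

set_option maxRecDepth 1000000 in
theorem aliases_1 : aliasRange E 3337 4574 = true := by decide +kernel

set_option maxRecDepth 1000000 in
theorem edges_0_6 : edgesRangeI iota E 0 2956 16292 = true := by decide +kernel

set_option maxRecDepth 1000000 in
theorem edges_0_23 : edgesRangeI iota E 0 4556 81619 = true := by decide +kernel

set_option maxRecDepth 1000000 in
theorem edges_1_15 : edgesRangeI iota E 1 4973 48567 = true := by decide +kernel

set_option maxRecDepth 1000000 in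
theorem edges_2_12 : edgesRangeI iota E 2 4177 35536 = true := by decide +kernel

set_option maxRecDepth 1000000 in
theorem edges_3_4 : edgesRangeI iota E 3 2943 9847 = true := by decide +kernel

set_option maxRecDepth 1000000 in
theorem edges_3_18 : edgesRangeI iota E 3 3407 59818 = true := by decide +kernel

set_option maxRecDepth 1000000 in
theorem edges_4_8 : edgesRangeI iota E 4 2804 21861 = true := by decide +kernel

set_option maxRecDepth 1000000 in
theorem edges_4_27 : edgesRangeI iota E 4 1770 87087 = true := by decide +kernel

set_option maxRecDepth 1000000 in
theorem edges_5_15 : edgesRangeI iota E 5 3718 47859 = true := by decide +kernel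

set_option maxRecDepth 1000000 in
theorem edges_6_8 : edgesRangeI iota E 6 3059 21629 = true := by decide +kernel

set_option maxRecDepth 1000000 in
theorem edges_7_1 : edgesRangeI iota E 7 2488 1996 = true := by decide +kernel

set_option maxRecDepth 1000000 in
theorem edges_7_20 : edgesRangeI iota E 7 4443 75900 = true := by decide +kernel

set_option maxRecDepth 1000000 in
theorem edges_8_19 : edgesRangeI iota E 8 3218 51369 = true := by decide +kernel

set_option maxRecDepth 1000000 in
theorem edges_8_28 : edgesRangeI iota E 8 3334 79269 = true := by decide +kernel

set_option maxRecDepth 1000000 in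
theorem edges_9_10 : edgesRangeI iota E 9 6143 50017 = true := by decide +kernel

set_option maxRecDepth 1000000 in
theorem aliases_9 : aliasRange E 3312 31727 = true := by decide +kernel

set_option maxRecDepth 1000000 in
theorem edges_4_33 : edgesRangeI iota E 4 1539 98308 = true := by decide +kernel

set_option maxRecDepth 1000000 in
theorem rows_10 : rowsRange E RS 1500 15000 = true := by decide +kernel

set_option maxRecDepth 1000000 in
theorem rows_18 : rowsRange E RS 1500 27000 = true := by decide +kernel

set_option maxRecDepth 1000000 in
theorem rows_26 : rowsRange E RS 1500 39000 = true := by decide +kernel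

set_option maxRecDepth 1000000 in
theorem rows_34 : rowsRange E RS 1500 51000 = true := by decide +kernel

set_option maxRecDepth 1000000 in
theorem rows_42 : rowsRange E RS 1500 63000 = true := by decide +kernel

set_option maxRecDepth 1000000 in
theorem rows_50 : rowsRange E RS 1500 75000 = true := by decide +kernel

set_option maxRecDepth 1000000 in
theorem rows_58 : rowsRange E RS 1500 87000 = true := by decide +kernel

set_option maxRecDepth 1000000 in
theorem aliases_33 : aliasRange E 5544 94303 = true := by decide +kernel

set_option maxRecDepth 1000000 in
theorem edges_3_32 : edgesRangeI iota E 3 513 99334 = true := by decide +kernel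

end Cfsg.Agent.Helper3.Y5BTC
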