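import Cfsg.Agent.Helper3.Y5BTCDatD
import Cfsg.Agent.Helper5.TCIB

/-! kernel checks of edges, aliases, rows: Y5BTC -/

set_option autoImplicit false
set_option Elab.async false

namespace Cfsg.Agent.Helper3.Y5BTC
open Cfsg.Agent.Helper5.TC Cfsg.Agent.Helper5.TCI

set_option maxRecDepth 1000000 in
theorem edges_1_22 : edgesRangeI iota E 1 3158 77792 = true := by decide +kernel

set_option maxRecDepth 1000000 in
theorem edges_7_11 : edgesRangeI iota E 7 4026 35057 = true := by decide +kernel

set_option maxRecDepth 1000000 in
theorem edges_0_10 : edgesRangeI iota E 0 3272 30829 = true := by decide +kernel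

set_option maxRecDepth 1000000 in
theorem edges_2_8 : edgesRangeI iota E 2 3055 22045 = true := by decide +kernel

set_option maxRecDepth 1000000 in
theorem edges_7_10 : edgesRangeI iota E 7 3836 31221 = true := by decide +kernel

set_option maxRecDepth 1000000 in
theorem edges_1_18 : edgesRangeI iota E 1 3164 61749 = true := by decide +kernel

set_option maxRecDepth 1000000 in
theorem edges_4_22 : edgesRangeI iota E 4 3776 70766 = true := by decide +kernel

set_option maxRecDepth 1000000 in
theorem edges_9_0 : edgesRangeI iota E 9 2924 0 = true := by decide +kernel

set_option maxRecDepth 1000000 in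
theorem edges_0_2 : edgesRangeI iota E 0 2675 4326 = true := by decide +kernel

set_option maxRecDepth 1000000 in
theorem edges_1_28 : edgesRangeI iota E 1 2008 93274 = true := by decide +kernel

set_option maxRecDepth 1000000 in
theorem edges_4_20 : edgesRangeI iota E 4 3427 62790 = true := by decide +kernel

set_option maxRecDepth 1000000 in
theorem edges_6_27 : edgesRangeI iota E 6 1748 88034 = true := by decide +kernel

set_option maxRecDepth 1000000 in
theorem edges_9_13 : edgesRangeI iota E 9 5598 66846 = true := by decide +kernel

set_option maxRecDepth 1000000 in
theorem aliases_29 : aliasRange E 1623 81437 = true := by decide +kernel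

set_option maxRecDepth 1000000 in
theorem edges_1_27 : edgesRangeI iota E 1 1834 91440 = true := by decide +kernel

set_option maxRecDepth 1000000 in
theorem edges_3_10 : edgesRangeI iota E 3 3430 29992 = true := by decide +kernel

set_option maxRecDepth 1000000 in
theorem edges_4_32 : edgesRangeI iota E 4 1900 96408 = true := by decide +kernel

set_option maxRecDepth 1000000 in
theorem edges_5_30 : edgesRangeI iota E 5 1781 95301 = true := by decide +kernel

set_option maxRecDepth 1000000 in
theorem edges_7_2 : edgesRangeI iota E 7 2778 4484 = true := by decide +kernel

set_option maxRecDepth 1000000 in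
theorem edges_8_12 : edgesRangeI iota E 8 2395 31601 = true := by decide +kernel

set_option maxRecDepth 1000000 in
theorem edges_0_1 : edgesRangeI iota E 0 2344 1982 = true := by decide +kernel

set_option maxRecDepth 1000000 in
theorem edges_2_16 : edgesRangeI iota E 2 5210 51068 = true := by decide +kernel

set_option maxRecDepth 1000000 in
theorem edges_4_1 : edgesRangeI iota E 4 2443 2355 = true := by decide +kernel

set_option maxRecDepth 1000000 in
theorem edges_5_10 : edgesRangeI iota E 5 3347 30268 = true := by decide +kernel

set_option maxRecDepth 1000000 in
theorem edges_6_9 : edgesRangeI iota E 6 3453 24688 = true := by decide +kernel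

set_option maxRecDepth 1000000 in
theorem edges_8_5 : edgesRangeI iota E 8 2768 12602 = true := by decide +kernel

set_option maxRecDepth 1000000 in
theorem edges_9_17 : edgesRangeI iota E 9 2995 86692 = true := by decide +kernel

set_option maxRecDepth 1000000 in
theorem edges_0_5 : edgesRangeI iota E 0 3464 12828 = true := by decide +kernel

set_option maxRecDepth 1000000 in
theorem edges_0_21 : edgesRangeI iota E 0 2982 75311 = true := by decide +kernel

set_option maxRecDepth 1000000 in
theorem edges_1_14 : edgesRangeI iota E 1 2962 45605 = true := by decide +kernel

set_option maxRecDepth 1000000 in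
theorem edges_2_11 : edgesRangeI iota E 2 3070 32466 = true := by decide +kernel

set_option maxRecDepth 1000000 in
theorem edges_3_2 : edgesRangeI iota E 3 2622 4490 = true := by decide +kernel

set_option maxRecDepth 1000000 in
theorem edges_3_17 : edgesRangeI iota E 3 3384 56434 = true := by decide +kernel

set_option maxRecDepth 1000000 in
theorem edges_4_7 : edgesRangeI iota E 4 3464 18397 = true := by decide +kernel

set_option maxRecDepth 1000000 in
theorem edges_4_26 : edgesRangeI iota E 4 2511 84576 = true := by decide +kernel

set_option maxRecDepth 1000000 in
theorem edges_5_13 : edgesRangeI iota E 5 3507 41153 = true := by decide +kernel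

set_option maxRecDepth 1000000 in
theorem edges_6_5 : edgesRangeI iota E 6 3196 12015 = true := by decide +kernel

set_option maxRecDepth 1000000 in
theorem edges_6_31 : edgesRangeI iota E 6 1751 95005 = true := by decide +kernel

set_option maxRecDepth 1000000 in
theorem edges_7_18 : edgesRangeI iota E 7 5157 66060 = true := by decide +kernel

set_option maxRecDepth 1000000 in
theorem edges_8_18 : edgesRangeI iota E 8 3222 48147 = true := by decide +kernel

set_option maxRecDepth 1000000 in
theorem edges_8_27 : edgesRangeI iota E 8 2794 76475 = true := by decide +kernel

set_option maxRecDepth 1000000 in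
theorem edges_9_9 : edgesRangeI iota E 9 5200 44817 = true := by decide +kernel

set_option maxRecDepth 1000000 in
theorem aliases_8 : aliasRange E 3360 28367 = true := by decide +kernel

set_option maxRecDepth 1000000 in
theorem edges_7_27 : edgesRangeI iota E 7 1759 98088 = true := by decide +kernel

set_option maxRecDepth 1000000 in
theorem rows_3 : rowsRange E RS 1500 4500 = true := by decide +kernel

set_option maxRecDepth 1000000 in
theorem rows_11 : rowsRange E RS 1500 16500 = true := by decide +kernel

set_option maxRecDepth 1000000 in
theorem rows_19 : rowsRange E RS 1500 28500 = true := by decide +kernel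

set_option maxRecDepth 1000000 in
theorem rows_27 : rowsRange E RS 1500 40500 = true := by decide +kernel

set_option maxRecDepth 1000000 in
theorem rows_35 : rowsRange E RS 1500 52500 = true := by decide +kernel

set_option maxRecDepth 1000000 in
theorem rows_43 : rowsRange E RS 1500 64500 = true := by decide +kernel

set_option maxRecDepth 1000000 in
theorem rows_51 : rowsRange E RS 1500 76500 = true := by decide +kernel

set_option maxRecDepth 1000000 in
theorem rows_59 : rowsRange E RS 1500 88500 = true := by decide +kernel

set_option maxRecDepth 1000000 in
theorem edges_8_36 : edgesRangeI iota E 8 1361 98486 = true := by decide +kernel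

end Cfsg.Agent.Helper3.Y5BTC
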