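import Cfsg.Agent.Helper3.Y5BTCDatD
import Cfsg.Agent.Helper5.TCIB

/-! kernel checks of edges, aliases, rows: Y5BTC -/

set_option autoImplicit false
set_option Elab.async false

namespace Cfsg.Agent.Helper3.Y5BTC
open Cfsg.Agent.Helper5.TC Cfsg.Agent.Helper5.TCI

set_option maxRecDepth 1000000 in
theorem aliases_27 : aliasRange E 2156 77493 = true := by decide +kernel

set_option maxRecDepth 1000000 in
theorem edges_7_5 : edgesRangeI iota E 7 3393 13250 = true := by decide +kernel

set_option maxRecDepth 1000000 in
theorem edges_0_9 : edgesRangeI iota E 0 4560 26269 = true := by decide +kernel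

set_option maxRecDepth 1000000 in
theorem edges_2_2 : edgesRangeI iota E 2 2457 4188 = true := by decide +kernel

set_option maxRecDepth 1000000 in
theorem edges_4_30 : edgesRangeI iota E 4 1938 92382 = true := by decide +kernel

set_option maxRecDepth 1000000 in
theorem edges_0_30 : edgesRangeI iota E 0 1814 97367 = true := by decide +kernel

set_option maxRecDepth 1000000 in
theorem edges_4_11 : edgesRangeI iota E 4 2849 31524 = true := by decide +kernel

set_option maxRecDepth 1000000 in
theorem edges_7_0 : edgesRangeI iota E 7 1996 0 = true := by decide +kernel

set_option maxRecDepth 1000000 in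
theorem edges_0_0 : edgesRangeI iota E 0 1982 0 = true := by decide +kernel

set_option maxRecDepth 1000000 in
theorem edges_1_25 : edgesRangeI iota E 1 1771 87882 = true := by decide +kernel

set_option maxRecDepth 1000000 in
theorem edges_4_12 : edgesRangeI iota E 4 3244 34373 = true := by decide +kernel

set_option maxRecDepth 1000000 in
theorem edges_6_19 : edgesRangeI iota E 6 3135 60837 = true := by decide +kernel

set_option maxRecDepth 1000000 in
theorem edges_9_2 : edgesRangeI iota E 9 4894 7195 = true := by decide +kernel

set_option maxRecDepth 1000000 in
theorem aliases_25 : aliasRange E 2147 73368 = true := by decide +kernel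

set_option maxRecDepth 1000000 in
theorem edges_1_26 : edgesRangeI iota E 1 1787 89653 = true := by decide +kernel

set_option maxRecDepth 1000000 in
theorem edges_3_0 : edgesRangeI iota E 3 2126 0 = true := by decide +kernel

set_option maxRecDepth 1000000 in
theorem edges_4_28 : edgesRangeI iota E 4 1730 88857 = true := by decide +kernel

set_option maxRecDepth 1000000 in
theorem edges_5_29 : edgesRangeI iota E 5 1750 93551 = true := by decide +kernel

set_option maxRecDepth 1000000 in
theorem edges_6_32 : edgesRangeI iota E 6 1750 96756 = true := by decide +kernel

set_option maxRecDepth 1000000 in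
theorem edges_8_11 : edgesRangeI iota E 8 2928 28673 = true := by decide +kernel

set_option maxRecDepth 1000000 in
theorem aliases_22 : aliasRange E 1906 67553 = true := by decide +kernel

set_option maxRecDepth 1000000 in
theorem edges_2_10 : edgesRangeI iota E 2 3845 28621 = true := by decide +kernel

set_option maxRecDepth 1000000 in
theorem edges_3_31 : edgesRangeI iota E 3 1836 97498 = true := by decide +kernel

set_option maxRecDepth 1000000 in
theorem edges_5_6 : edgesRangeI iota E 5 3009 16317 = true := by decide +kernel

set_option maxRecDepth 1000000 in
theorem edges_6_1 : edgesRangeI iota E 6 2169 1841 = true := by decide +kernel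

set_option maxRecDepth 1000000 in
theorem edges_8_4 : edgesRangeI iota E 8 2539 10063 = true := by decide +kernel

set_option maxRecDepth 1000000 in
theorem edges_9_15 : edgesRangeI iota E 9 4786 77351 = true := by decide +kernel

set_option maxRecDepth 1000000 in
theorem edges_0_3 : edgesRangeI iota E 0 2781 7001 = true := by decide +kernel

set_option maxRecDepth 1000000 in
theorem edges_0_18 : edgesRangeI iota E 0 3615 62335 = true := by decide +kernel

set_option maxRecDepth 1000000 in
theorem edges_1_11 : edgesRangeI iota E 1 3213 33668 = true := by decide +kernel

set_option maxRecDepth 1000000 in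
theorem edges_2_9 : edgesRangeI iota E 2 3521 25100 = true := by decide +kernel

set_option maxRecDepth 1000000 in
theorem edges_2_21 : edgesRangeI iota E 2 3670 72957 = true := by decide +kernel

set_option maxRecDepth 1000000 in
theorem edges_3_16 : edgesRangeI iota E 3 5029 51405 = true := by decide +kernel

set_option maxRecDepth 1000000 in
theorem edges_4_6 : edgesRangeI iota E 4 2598 15799 = true := by decide +kernel

set_option maxRecDepth 1000000 in
theorem edges_4_25 : edgesRangeI iota E 4 4155 80421 = true := by decide +kernel

set_option maxRecDepth 1000000 in
theorem edges_5_11 : edgesRangeI iota E 5 3132 33615 = true := by decide +kernel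

set_option maxRecDepth 1000000 in
theorem edges_6_4 : edgesRangeI iota E 6 2889 9126 = true := by decide +kernel

set_option maxRecDepth 1000000 in
theorem edges_6_29 : edgesRangeI iota E 6 1700 91490 = true := by decide +kernel

set_option maxRecDepth 1000000 in
theorem edges_7_15 : edgesRangeI iota E 7 4629 52134 = true := by decide +kernel

set_option maxRecDepth 1000000 in
theorem edges_8_17 : edgesRangeI iota E 8 2686 45461 = true := by decide +kernel

set_option maxRecDepth 1000000 in
theorem edges_8_26 : edgesRangeI iota E 8 3169 73306 = true := by decide +kernel

set_option maxRecDepth 1000000 in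
theorem edges_9_8 : edgesRangeI iota E 9 5349 39468 = true := by decide +kernel

set_option maxRecDepth 1000000 in
theorem aliases_7 : aliasRange E 3356 25011 = true := by decide +kernel

set_option maxRecDepth 1000000 in
theorem aliases_32 : aliasRange E 7852 86451 = true := by decide +kernel

set_option maxRecDepth 1000000 in
theorem rows_8 : rowsRange E RS 1500 12000 = true := by decide +kernel

set_option maxRecDepth 1000000 in
theorem rows_16 : rowsRange E RS 1500 24000 = true := by decide +kernel

set_option maxRecDepth 1000000 in
theorem rows_24 : rowsRange E RS 1500 36000 = true := by decide +kernel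

set_option maxRecDepth 1000000 in
theorem rows_32 : rowsRange E RS 1500 48000 = true := by decide +kernel

set_option maxRecDepth 1000000 in
theorem rows_40 : rowsRange E RS 1500 60000 = true := by decide +kernel

set_option maxRecDepth 1000000 in
theorem rows_48 : rowsRange E RS 1500 72000 = true := by decide +kernel

set_option maxRecDepth 1000000 in
theorem rows_56 : rowsRange E RS 1500 84000 = true := by decide +kernel

set_option maxRecDepth 1000000 in
theorem rows_64 : rowsRange E RS 1500 96000 = true := by decide +kernel

set_option maxRecDepth 1000000 in
theorem rows_66 : rowsRange E RS 847 99000 = true := by decide +kernel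

end Cfsg.Agent.Helper3.Y5BTC
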