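import Cfsg.Agent.Helper3.Y5BTCDatD
import Cfsg.Agent.Helper5.TCIB

/-! kernel checks of edges, aliases, rows: Y5BTC -/

set_option autoImplicit false
set_option Elab.async false

namespace Cfsg.Agent.Helper3.Y5BTC
open Cfsg.Agent.Helper5.TC Cfsg.Agent.Helper5.TCI

set_option maxRecDepth 1000000 in
theorem edges_2_24 : edgesRangeI iota E 2 3061 84186 = true := by decide +kernel

set_option maxRecDepth 1000000 in
theorem edges_6_17 : edgesRangeI iota E 6 3993 53194 = true := by decide +kernel

set_option maxRecDepth 1000000 in
theorem edges_0_8 : edgesRangeI iota E 0 3068 23201 = true := by decide +kernel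

set_option maxRecDepth 1000000 in
theorem edges_1_30 : edgesRangeI iota E 1 1764 97214 = true := by decide +kernel

set_option maxRecDepth 1000000 in
theorem edges_4_15 : edgesRangeI iota E 4 3160 44821 = true := by decide +kernel

set_option maxRecDepth 1000000 in
theorem edges_0_29 : edgesRangeI iota E 0 1879 95488 = true := by decide +kernel

set_option maxRecDepth 1000000 in
theorem edges_4_10 : edgesRangeI iota E 4 3788 27736 = true := by decide +kernel

set_option maxRecDepth 1000000 in
theorem edges_6_30 : edgesRangeI iota E 6 1815 93190 = true := by decide +kernel

set_option maxRecDepth 1000000 in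
theorem aliases_28 : aliasRange E 1788 79649 = true := by decide +kernel

set_option maxRecDepth 1000000 in
theorem edges_1_16 : edgesRangeI iota E 1 4802 53540 = true := by decide +kernel

set_option maxRecDepth 1000000 in
theorem edges_4_0 : edgesRangeI iota E 4 2355 0 = true := by decide +kernel

set_option maxRecDepth 1000000 in
theorem edges_6_18 : edgesRangeI iota E 6 3650 57187 = true := by decide +kernel

set_option maxRecDepth 1000000 in
theorem edges_8_24 : edgesRangeI iota E 8 3350 66752 = true := by decide +kernel

set_option maxRecDepth 1000000 in
theorem aliases_17 : aliasRange E 2707 56314 = true := by decide +kernel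

set_option maxRecDepth 1000000 in
theorem edges_1_2 : edgesRangeI iota E 1 2479 4137 = true := by decide +kernel

set_option maxRecDepth 1000000 in
theorem edges_2_30 : edgesRangeI iota E 2 1837 97236 = true := by decide +kernel

set_option maxRecDepth 1000000 in
theorem edges_4_21 : edgesRangeI iota E 4 4549 66217 = true := by decide +kernel

set_option maxRecDepth 1000000 in
theorem edges_5_26 : edgesRangeI iota E 5 1862 88202 = true := by decide +kernel

set_option maxRecDepth 1000000 in
theorem edges_6_28 : edgesRangeI iota E 6 1708 89782 = true := by decide +kernel

set_option maxRecDepth 1000000 in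
theorem edges_8_8 : edgesRangeI iota E 8 2671 20552 = true := by decide +kernel

set_option maxRecDepth 1000000 in
theorem aliases_18 : aliasRange E 2298 59021 = true := by decide +kernel

set_option maxRecDepth 1000000 in
theorem edges_2_3 : edgesRangeI iota E 2 2731 6645 = true := by decide +kernel

set_option maxRecDepth 1000000 in
theorem edges_3_25 : edgesRangeI iota E 3 2031 86122 = true := by decide +kernel

set_option maxRecDepth 1000000 in
theorem edges_5_2 : edgesRangeI iota E 5 2716 4250 = true := by decide +kernel

set_option maxRecDepth 1000000 in
theorem edges_6_0 : edgesRangeI iota E 6 1841 0 = true := by decide +kernel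

set_option maxRecDepth 1000000 in
theorem edges_8_2 : edgesRangeI iota E 8 2581 4986 = true := by decide +kernel

set_option maxRecDepth 1000000 in
theorem edges_9_7 : edgesRangeI iota E 9 5612 33856 = true := by decide +kernel

set_option maxRecDepth 1000000 in
theorem aliases_24 : aliasRange E 2029 71339 = true := by decide +kernel

set_option maxRecDepth 1000000 in
theorem edges_0_17 : edgesRangeI iota E 0 3340 58995 = true := by decide +kernel

set_option maxRecDepth 1000000 in
theorem edges_1_6 : edgesRangeI iota E 1 2904 15878 = true := by decide +kernel

set_option maxRecDepth 1000000 in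
theorem edges_2_0 : edgesRangeI iota E 2 1929 0 = true := by decide +kernel

set_option maxRecDepth 1000000 in
theorem edges_2_20 : edgesRangeI iota E 2 5447 67510 = true := by decide +kernel

set_option maxRecDepth 1000000 in
theorem edges_3_13 : edgesRangeI iota E 3 3606 40937 = true := by decide +kernel

set_option maxRecDepth 1000000 in
theorem edges_4_3 : edgesRangeI iota E 4 2592 7451 = true := by decide +kernel

set_option maxRecDepth 1000000 in
theorem edges_4_19 : edgesRangeI iota E 4 3391 59399 = true := by decide +kernel

set_option maxRecDepth 1000000 in
theorem edges_5_9 : edgesRangeI iota E 5 4145 26123 = true := by decide +kernel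

set_option maxRecDepth 1000000 in
theorem edges_5_31 : edgesRangeI iota E 5 1800 97082 = true := by decide +kernel

set_option maxRecDepth 1000000 in
theorem edges_6_22 : edgesRangeI iota E 6 3556 71845 = true := by decide +kernel

set_option maxRecDepth 1000000 in
theorem edges_7_14 : edgesRangeI iota E 7 4431 47703 = true := by decide +kernel

set_option maxRecDepth 1000000 in
theorem edges_8_16 : edgesRangeI iota E 8 2689 42772 = true := by decide +kernel

set_option maxRecDepth 1000000 in
theorem edges_8_25 : edgesRangeI iota E 8 3204 70102 = true := by decide +kernel

set_option maxRecDepth 1000000 in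
theorem edges_9_3 : edgesRangeI iota E 9 5230 12089 = true := by decide +kernel

set_option maxRecDepth 1000000 in
theorem aliases_4 : aliasRange E 3360 14942 = true := by decide +kernel

set_option maxRecDepth 1000000 in
theorem aliases_31 : aliasRange E 1780 84671 = true := by decide +kernel

set_option maxRecDepth 1000000 in
theorem rows_7 : rowsRange E RS 1500 10500 = true := by decide +kernel

set_option maxRecDepth 1000000 in
theorem rows_15 : rowsRange E RS 1500 22500 = true := by decide +kernel

set_option maxRecDepth 1000000 in
theorem rows_23 : rowsRange E RS 1500 34500 = true := by decide +kernel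

set_option maxRecDepth 1000000 in
theorem rows_31 : rowsRange E RS 1500 46500 = true := by decide +kernel

set_option maxRecDepth 1000000 in
theorem rows_39 : rowsRange E RS 1500 58500 = true := by decide +kernel

set_option maxRecDepth 1000000 in
theorem rows_47 : rowsRange E RS 1500 70500 = true := by decide +kernel

set_option maxRecDepth 1000000 in
theorem rows_55 : rowsRange E RS 1500 82500 = true := by decide +kernel

set_option maxRecDepth 1000000 in
theorem rows_63 : rowsRange E RS 1500 94500 = true := by decide +kernel

set_option maxRecDepth 1000000 in
theorem edges_0_31 : edgesRangeI iota E 0 666 99181 = true := by decide +kernel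

end Cfsg.Agent.Helper3.Y5BTC
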