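import Cfsg.Agent.Helper3.Y5BTCDatD
import Cfsg.Agent.Helper3.Y5BTCDatT
import Cfsg.Agent.Helper5.TCIB

/-! kernel checks of the coset table: Y5BTC -/

set_option autoImplicit false
set_option Elab.async false

namespace Cfsg.Agent.Helper3.Y5BTC
open Cfsg.Agent.Helper5.TC Cfsg.Agent.Helper5.TCI

set_option maxRecDepth 1000000 in
theorem relc_1_0 : fixPtsF W_1 31671 0 = true := by decide +kernel

set_option maxRecDepth 1000000 in
theorem relc_24_0 : fixPtsF W_24 31671 0 = true := by decide +kernel

set_option maxRecDepth 1000000 in
theorem relc_51_0 : fixPtsF W_51 31671 0 = true := by decide +kernel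

set_option maxRecDepth 1000000 in
theorem relc_12_0 : fixPtsF W_12 31671 0 = true := by decide +kernel

set_option maxRecDepth 1000000 in
theorem relc_16_0 : fixPtsF W_16 31671 0 = true := by decide +kernel

set_option maxRecDepth 1000000 in
theorem relc_21_0 : fixPtsF W_21 31671 0 = true := by decide +kernel

set_option maxRecDepth 1000000 in
theorem relc_26_0 : fixPtsF W_26 31671 0 = true := by decide +kernel

set_option maxRecDepth 1000000 in
theorem relc_32_0 : fixPtsF W_32 31671 0 = true := by decide +kernel

set_option maxRecDepth 1000000 in
theorem relc_37_0 : fixPtsF W_37 31671 0 = true := by decide +kernel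

set_option maxRecDepth 1000000 in
theorem relc_44_0 : fixPtsF W_44 31671 0 = true := by decide +kernel

set_option maxRecDepth 1000000 in
theorem relc_50_0 : fixPtsF W_50 31671 0 = true := by decide +kernel

set_option maxRecDepth 1000000 in
theorem relc_55_2 : fixPtsF W_55 2222 4444 = true := by decide +kernel

set_option maxRecDepth 1000000 in
theorem relc_55_6 : fixPtsF W_55 2222 13332 = true := by decide +kernel

set_option maxRecDepth 1000000 in
theorem relc_55_10 : fixPtsF W_55 2222 22220 = true := by decide +kernel

set_option maxRecDepth 1000000 in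
theorem relc_0_0 : fixPtsF W_0 31671 0 = true := by decide +kernel

set_option maxRecDepth 1000000 in
theorem relc_27_0 : fixPtsF W_27 31671 0 = true := by decide +kernel

set_option maxRecDepth 1000000 in
theorem relc_49_0 : fixPtsF W_49 31671 0 = true := by decide +kernel

set_option maxRecDepth 1000000 in
theorem inv_1_0 : invRowFI ctF 31671 1 1 31671 0 = true := by decide +kernel

set_option maxRecDepth 1000000 in
theorem inv_4_0 : invRowFI ctF 31671 4 4 31671 0 = true := by decide +kernel

set_option maxRecDepth 1000000 in
theorem inv_8_0 : invRowFI ctF 31671 8 8 31671 0 = true := by decide +kernel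

end Cfsg.Agent.Helper3.Y5BTC
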