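import Cfsg.Agent.Helper3.Y5BTCDatD
import Cfsg.Agent.Helper3.Y5BTCDatT
import Cfsg.Agent.Helper5.TCIB

/-! kernel checks of the coset table: Y5BTC -/

set_option autoImplicit false
set_option Elab.async false

namespace Cfsg.Agent.Helper3.Y5BTC
open Cfsg.Agent.Helper5.TC Cfsg.Agent.Helper5.TCI

set_option maxRecDepth 1000000 in
theorem relc_3_0 : fixPtsF W_3 31671 0 = true := by decide +kernel

set_option maxRecDepth 1000000 in
theorem relc_28_0 : fixPtsF W_28 31671 0 = true := by decide +kernel

set_option maxRecDepth 1000000 in
theorem relc_2_0 : fixPtsF W_2 31671 0 = true := by decide +kernel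

set_option maxRecDepth 1000000 in
theorem relc_7_0 : fixPtsF W_7 31671 0 = true := by decide +kernel

set_option maxRecDepth 1000000 in
theorem relc_13_0 : fixPtsF W_13 31671 0 = true := by decide +kernel

set_option maxRecDepth 1000000 in
theorem relc_17_0 : fixPtsF W_17 31671 0 = true := by decide +kernel

set_option maxRecDepth 1000000 in
theorem relc_22_0 : fixPtsF W_22 31671 0 = true := by decide +kernel

set_option maxRecDepth 1000000 in
theorem relc_29_0 : fixPtsF W_29 31671 0 = true := by decide +kernel

set_option maxRecDepth 1000000 in
theorem relc_33_0 : fixPtsF W_33 31671 0 = true := by decide +kernel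

set_option maxRecDepth 1000000 in
theorem relc_39_0 : fixPtsF W_39 31671 0 = true := by decide +kernel

set_option maxRecDepth 1000000 in
theorem relc_46_0 : fixPtsF W_46 31671 0 = true := by decide +kernel

set_option maxRecDepth 1000000 in
theorem relc_53_0 : fixPtsF W_53 31671 0 = true := by decide +kernel

set_option maxRecDepth 1000000 in
theorem relc_55_5 : fixPtsF W_55 2222 11110 = true := by decide +kernel

set_option maxRecDepth 1000000 in
theorem relc_55_9 : fixPtsF W_55 2222 19998 = true := by decide +kernel

set_option maxRecDepth 1000000 in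
theorem relc_55_13 : fixPtsF W_55 2222 28886 = true := by decide +kernel

set_option maxRecDepth 1000000 in
theorem relc_34_0 : fixPtsF W_34 31671 0 = true := by decide +kernel

set_option maxRecDepth 1000000 in
theorem relc_52_0 : fixPtsF W_52 31671 0 = true := by decide +kernel

set_option maxRecDepth 1000000 in
theorem inv_2_0 : invRowFI ctF 31671 2 2 31671 0 = true := by decide +kernel

set_option maxRecDepth 1000000 in
theorem inv_5_0 : invRowFI ctF 31671 5 5 31671 0 = true := by decide +kernel

set_option maxRecDepth 1000000 in
theorem inv_9_0 : invRowFI ctF 31671 9 9 31671 0 = true := by decide +kernel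

end Cfsg.Agent.Helper3.Y5BTC
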