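import Cfsg.Agent.Helper3.Y5BTCDatD
import Cfsg.Agent.Helper3.Y5BTCDatT
import Cfsg.Agent.Helper5.TCIB

/-! kernel checks of the coset table: Y5BTC -/

set_option autoImplicit false
set_option Elab.async false

namespace Cfsg.Agent.Helper3.Y5BTC
open Cfsg.Agent.Helper5.TC Cfsg.Agent.Helper5.TCI

set_option maxRecDepth 1000000 in
theorem relc_5_0 : fixPtsF W_5 31671 0 = true := by decide +kernel

set_option maxRecDepth 1000000 in
theorem relc_38_0 : fixPtsF W_38 31671 0 = true := by decide +kernel

set_option maxRecDepth 1000000 in
theorem relc_4_0 : fixPtsF W_4 31671 0 = true := by decide +kernel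

set_option maxRecDepth 1000000 in
theorem relc_8_0 : fixPtsF W_8 31671 0 = true := by decide +kernel

set_option maxRecDepth 1000000 in
theorem relc_14_0 : fixPtsF W_14 31671 0 = true := by decide +kernel

set_option maxRecDepth 1000000 in
theorem relc_18_0 : fixPtsF W_18 31671 0 = true := by decide +kernel

set_option maxRecDepth 1000000 in
theorem relc_23_0 : fixPtsF W_23 31671 0 = true := by decide +kernel

set_option maxRecDepth 1000000 in
theorem relc_30_0 : fixPtsF W_30 31671 0 = true := by decide +kernel

set_option maxRecDepth 1000000 in
theorem relc_35_0 : fixPtsF W_35 31671 0 = true := by decide +kernel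

set_option maxRecDepth 1000000 in
theorem relc_42_0 : fixPtsF W_42 31671 0 = true := by decide +kernel

set_option maxRecDepth 1000000 in
theorem relc_47_0 : fixPtsF W_47 31671 0 = true := by decide +kernel

set_option maxRecDepth 1000000 in
theorem relc_55_0 : fixPtsF W_55 2222 0 = true := by decide +kernel

set_option maxRecDepth 1000000 in
theorem relc_55_3 : fixPtsF W_55 2222 6666 = true := by decide +kernel

set_option maxRecDepth 1000000 in
theorem relc_55_7 : fixPtsF W_55 2222 15554 = true := by decide +kernel

set_option maxRecDepth 1000000 in
theorem relc_55_11 : fixPtsF W_55 2222 24442 = true := by decide +kernel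

set_option maxRecDepth 1000000 in
theorem relc_10_0 : fixPtsF W_10 31671 0 = true := by decide +kernel

set_option maxRecDepth 1000000 in
theorem relc_40_0 : fixPtsF W_40 31671 0 = true := by decide +kernel

set_option maxRecDepth 1000000 in
theorem relc_54_0 : fixPtsF W_54 31671 0 = true := by decide +kernel

set_option maxRecDepth 1000000 in
theorem inv_6_0 : invRowFI ctF 31671 6 6 31671 0 = true := by decide +kernel

set_option maxRecDepth 1000000 in
theorem conn_0 : connF ctF 10 31671 0 = true := by decide +kernel

end Cfsg.Agent.Helper3.Y5BTC
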