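import Cfsg.Agent.Helper3.Y5BTCDatD
import Cfsg.Agent.Helper3.Y5BTCDatT
import Cfsg.Agent.Helper5.TCIB

/-! kernel checks of the coset table: Y5BTC -/

set_option autoImplicit false
set_option Elab.async false

namespace Cfsg.Agent.Helper3.Y5BTC
open Cfsg.Agent.Helper5.TC Cfsg.Agent.Helper5.TCI

set_option maxRecDepth 1000000 in
theorem relc_11_0 : fixPtsF W_11 31671 0 = true := by decide +kernel

set_option maxRecDepth 1000000 in
theorem relc_41_0 : fixPtsF W_41 31671 0 = true := by decide +kernel

set_option maxRecDepth 1000000 in
theorem relc_6_0 : fixPtsF W_6 31671 0 = true := by decide +kernel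

set_option maxRecDepth 1000000 in
theorem relc_9_0 : fixPtsF W_9 31671 0 = true := by decide +kernel

set_option maxRecDepth 1000000 in
theorem relc_15_0 : fixPtsF W_15 31671 0 = true := by decide +kernel

set_option maxRecDepth 1000000 in
theorem relc_20_0 : fixPtsF W_20 31671 0 = true := by decide +kernel

set_option maxRecDepth 1000000 in
theorem relc_25_0 : fixPtsF W_25 31671 0 = true := by decide +kernel

set_option maxRecDepth 1000000 in
theorem relc_31_0 : fixPtsF W_31 31671 0 = true := by decide +kernel

set_option maxRecDepth 1000000 in
theorem relc_36_0 : fixPtsF W_36 31671 0 = true := by decide +kernel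

set_option maxRecDepth 1000000 in
theorem relc_43_0 : fixPtsF W_43 31671 0 = true := by decide +kernel

set_option maxRecDepth 1000000 in
theorem relc_48_0 : fixPtsF W_48 31671 0 = true := by decide +kernel

set_option maxRecDepth 1000000 in
theorem relc_55_1 : fixPtsF W_55 2222 2222 = true := by decide +kernel

set_option maxRecDepth 1000000 in
theorem relc_55_4 : fixPtsF W_55 2222 8888 = true := by decide +kernel

set_option maxRecDepth 1000000 in
theorem relc_55_8 : fixPtsF W_55 2222 17776 = true := by decide +kernel

set_option maxRecDepth 1000000 in
theorem relc_55_12 : fixPtsF W_55 2222 26664 = true := by decide +kernel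

set_option maxRecDepth 1000000 in
theorem relc_19_0 : fixPtsF W_19 31671 0 = true := by decide +kernel

set_option maxRecDepth 1000000 in
theorem relc_45_0 : fixPtsF W_45 31671 0 = true := by decide +kernel

set_option maxRecDepth 1000000 in
theorem inv_0_0 : invRowFI ctF 31671 0 0 31671 0 = true := by decide +kernel

set_option maxRecDepth 1000000 in
theorem inv_3_0 : invRowFI ctF 31671 3 3 31671 0 = true := by decide +kernel

set_option maxRecDepth 1000000 in
theorem inv_7_0 : invRowFI ctF 31671 7 7 31671 0 = true := by decide +kernel

set_option maxRecDepth 1000000 in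
theorem relc_55_14 : fixPtsF W_55 563 31108 = true := by decide +kernel

end Cfsg.Agent.Helper3.Y5BTC
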