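import Cfsg.Agent.Helper3.Y5BTCChkE0
import Cfsg.Agent.Helper3.Y5BTCChkE1
import Cfsg.Agent.Helper3.Y5BTCChkE2
import Cfsg.Agent.Helper3.Y5BTCChkE3
import Cfsg.Agent.Helper3.Y5BTCChkE4
import Cfsg.Agent.Helper3.Y5BTCChkE5
import Cfsg.Agent.Helper3.Y5BTCChkE6
import Cfsg.Agent.Helper3.Y5BTCChkE7
import Cfsg.Agent.Helper3.Y5BTCChkR0
import Cfsg.Agent.Helper3.Y5BTCChkR1
import Cfsg.Agent.Helper3.Y5BTCChkR2
import Cfsg.Agent.Helper3.Y5BTCChkR3
import Cfsg.Agent.Helper3.Y5BTCChkA
import Cfsg.Agent.Helper5.TCIB

/-! summary of the kernel checks: Y5BTC -/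

set_option autoImplicit false
set_option Elab.async false

namespace Cfsg.Agent.Helper3.Y5BTC
open Cfsg.Agent.Helper5.TC Cfsg.Agent.Helper5.TCI

theorem edgesx_0 : ∀ v, v < 99847 → edgeOKI iota E 0 v = true := by
  intro v hv
  rcases Nat.lt_or_ge v 54886 with h | h
  · rcases Nat.lt_or_ge v 23201 with h | h
    · rcases Nat.lt_or_ge v 9782 with h | h
      · rcases Nat.lt_or_ge v 4326 with h | h
        · rcases Nat.lt_or_ge v 1982 with h | h
          · exact edgesRangeI_spec iota E 0 1982 0 edges_0_0 v (by omega) (by omega)
          · exact edgesRangeI_spec iota E 0 2344 1982 edges_0_1 v (by omega) (by omega)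
        · rcases Nat.lt_or_ge v 7001 with h | h
          · exact edgesRangeI_spec iota E 0 2675 4326 edges_0_2 v (by omega) (by omega)
          · exact edgesRangeI_spec iota E 0 2781 7001 edges_0_3 v (by omega) (by omega)
      · rcases Nat.lt_or_ge v 16292 with h | h
        · rcases Nat.lt_or_ge v 12828 with h | h
          · exact edgesRangeI_spec iota E 0 3046 9782 edges_0_4 v (by omega) (by omega)
          · exact edgesRangeI_spec iota E 0 3464 12828 edges_0_5 v (by omega) (by omega)
        · rcases Nat.lt_or_ge v 19248 with h | h
          · exact edgesRangeI_spec iota E 0 2956 16292 edges_0_6 v (by omega) (by omega)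
          · exact edgesRangeI_spec iota E 0 3953 19248 edges_0_7 v (by omega) (by omega)
    · rcases Nat.lt_or_ge v 37660 with h | h
      · rcases Nat.lt_or_ge v 30829 with h | h
        · rcases Nat.lt_or_ge v 26269 with h | h
          · exact edgesRangeI_spec iota E 0 3068 23201 edges_0_8 v (by omega) (by omega)
          · exact edgesRangeI_spec iota E 0 4560 26269 edges_0_9 v (by omega) (by omega)
        · rcases Nat.lt_or_ge v 34101 with h | h
          · exact edgesRangeI_spec iota E 0 3272 30829 edges_0_10 v (by omega) (by omega)
          · exact edgesRangeI_spec iota E 0 3559 34101 edges_0_11 v (by omega) (by omega)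
      · rcases Nat.lt_or_ge v 46154 with h | h
        · rcases Nat.lt_or_ge v 42637 with h | h
          · exact edgesRangeI_spec iota E 0 4977 37660 edges_0_12 v (by omega) (by omega)
          · exact edgesRangeI_spec iota E 0 3517 42637 edges_0_13 v (by omega) (by omega)
        · rcases Nat.lt_or_ge v 49371 with h | h
          · exact edgesRangeI_spec iota E 0 3217 46154 edges_0_14 v (by omega) (by omega)
          · exact edgesRangeI_spec iota E 0 5515 49371 edges_0_15 v (by omega) (by omega)
  · rcases Nat.lt_or_ge v 86175 with h | h
    · rcases Nat.lt_or_ge v 71570 with h | h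
      · rcases Nat.lt_or_ge v 62335 with h | h
        · rcases Nat.lt_or_ge v 58995 with h | h
          · exact edgesRangeI_spec iota E 0 4109 54886 edges_0_16 v (by omega) (by omega)
          · exact edgesRangeI_spec iota E 0 3340 58995 edges_0_17 v (by omega) (by omega)
        · rcases Nat.lt_or_ge v 65950 with h | h
          · exact edgesRangeI_spec iota E 0 3615 62335 edges_0_18 v (by omega) (by omega)
          · exact edgesRangeI_spec iota E 0 5620 65950 edges_0_19 v (by omega) (by omega)
      · rcases Nat.lt_or_ge v 78293 with h | h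
        · rcases Nat.lt_or_ge v 75311 with h | h
          · exact edgesRangeI_spec iota E 0 3741 71570 edges_0_20 v (by omega) (by omega)
          · exact edgesRangeI_spec iota E 0 2982 75311 edges_0_21 v (by omega) (by omega)
        · rcases Nat.lt_or_ge v 81619 with h | h
          · exact edgesRangeI_spec iota E 0 3326 78293 edges_0_22 v (by omega) (by omega)
          · exact edgesRangeI_spec iota E 0 4556 81619 edges_0_23 v (by omega) (by omega)
    · rcases Nat.lt_or_ge v 93773 with h | h
      · rcases Nat.lt_or_ge v 90064 with h | h
        · rcases Nat.lt_or_ge v 88202 with h | h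
          · exact edgesRangeI_spec iota E 0 2027 86175 edges_0_24 v (by omega) (by omega)
          · exact edgesRangeI_spec iota E 0 1862 88202 edges_0_25 v (by omega) (by omega)
        · rcases Nat.lt_or_ge v 91929 with h | h
          · exact edgesRangeI_spec iota E 0 1865 90064 edges_0_26 v (by omega) (by omega)
          · exact edgesRangeI_spec iota E 0 1844 91929 edges_0_27 v (by omega) (by omega)
      · rcases Nat.lt_or_ge v 97367 with h | h
        · rcases Nat.lt_or_ge v 95488 with h | h
          · exact edgesRangeI_spec iota E 0 1715 93773 edges_0_28 v (by omega) (by omega)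
          · exact edgesRangeI_spec iota E 0 1879 95488 edges_0_29 v (by omega) (by omega)
        · rcases Nat.lt_or_ge v 99181 with h | h
          · exact edgesRangeI_spec iota E 0 1814 97367 edges_0_30 v (by omega) (by omega)
          · exact edgesRangeI_spec iota E 0 666 99181 edges_0_31 v (by omega) (by omega)

theorem edgesx_1 : ∀ v, v < 99847 → edgeOKI iota E 1 v = true := by
  intro v hv
  rcases Nat.lt_or_ge v 53540 with h | h
  · rcases Nat.lt_or_ge v 22821 with h | h
    · rcases Nat.lt_or_ge v 9411 with h | h
      · rcases Nat.lt_or_ge v 4137 with h | h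
        · rcases Nat.lt_or_ge v 1911 with h | h
          · exact edgesRangeI_spec iota E 1 1911 0 edges_1_0 v (by omega) (by omega)
          · exact edgesRangeI_spec iota E 1 2226 1911 edges_1_1 v (by omega) (by omega)
        · rcases Nat.lt_or_ge v 6616 with h | h
          · exact edgesRangeI_spec iota E 1 2479 4137 edges_1_2 v (by omega) (by omega)
          · exact edgesRangeI_spec iota E 1 2795 6616 edges_1_3 v (by omega) (by omega)
      · rcases Nat.lt_or_ge v 15878 with h | h
        · rcases Nat.lt_or_ge v 12449 with h | h
          · exact edgesRangeI_spec iota E 1 3038 9411 edges_1_4 v (by omega) (by omega)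
          · exact edgesRangeI_spec iota E 1 3429 12449 edges_1_5 v (by omega) (by omega)
        · rcases Nat.lt_or_ge v 18782 with h | h
          · exact edgesRangeI_spec iota E 1 2904 15878 edges_1_6 v (by omega) (by omega)
          · exact edgesRangeI_spec iota E 1 4039 18782 edges_1_7 v (by omega) (by omega)
    · rcases Nat.lt_or_ge v 36881 with h | h
      · rcases Nat.lt_or_ge v 30194 with h | h
        · rcases Nat.lt_or_ge v 25678 with h | h
          · exact edgesRangeI_spec iota E 1 2857 22821 edges_1_8 v (by omega) (by omega)
          · exact edgesRangeI_spec iota E 1 4516 25678 edges_1_9 v (by omega) (by omega)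
        · rcases Nat.lt_or_ge v 33668 with h | h
          · exact edgesRangeI_spec iota E 1 3474 30194 edges_1_10 v (by omega) (by omega)
          · exact edgesRangeI_spec iota E 1 3213 33668 edges_1_11 v (by omega) (by omega)
      · rcases Nat.lt_or_ge v 45605 with h | h
        · rcases Nat.lt_or_ge v 41934 with h | h
          · exact edgesRangeI_spec iota E 1 5053 36881 edges_1_12 v (by omega) (by omega)
          · exact edgesRangeI_spec iota E 1 3671 41934 edges_1_13 v (by omega) (by omega)
        · rcases Nat.lt_or_ge v 48567 with h | h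
          · exact edgesRangeI_spec iota E 1 2962 45605 edges_1_14 v (by omega) (by omega)
          · exact edgesRangeI_spec iota E 1 4973 48567 edges_1_15 v (by omega) (by omega)
  · rcases Nat.lt_or_ge v 85628 with h | h
    · rcases Nat.lt_or_ge v 70430 with h | h
      · rcases Nat.lt_or_ge v 61749 with h | h
        · rcases Nat.lt_or_ge v 58342 with h | h
          · exact edgesRangeI_spec iota E 1 4802 53540 edges_1_16 v (by omega) (by omega)
          · exact edgesRangeI_spec iota E 1 3407 58342 edges_1_17 v (by omega) (by omega)
        · rcases Nat.lt_or_ge v 64913 with h | h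
          · exact edgesRangeI_spec iota E 1 3164 61749 edges_1_18 v (by omega) (by omega)
          · exact edgesRangeI_spec iota E 1 5517 64913 edges_1_19 v (by omega) (by omega)
      · rcases Nat.lt_or_ge v 77792 with h | h
        · rcases Nat.lt_or_ge v 74832 with h | h
          · exact edgesRangeI_spec iota E 1 4402 70430 edges_1_20 v (by omega) (by omega)
          · exact edgesRangeI_spec iota E 1 2960 74832 edges_1_21 v (by omega) (by omega)
        · rcases Nat.lt_or_ge v 80950 with h | h
          · exact edgesRangeI_spec iota E 1 3158 77792 edges_1_22 v (by omega) (by omega)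
          · exact edgesRangeI_spec iota E 1 4678 80950 edges_1_23 v (by omega) (by omega)
    · rcases Nat.lt_or_ge v 93274 with h | h
      · rcases Nat.lt_or_ge v 89653 with h | h
        · rcases Nat.lt_or_ge v 87882 with h | h
          · exact edgesRangeI_spec iota E 1 2254 85628 edges_1_24 v (by omega) (by omega)
          · exact edgesRangeI_spec iota E 1 1771 87882 edges_1_25 v (by omega) (by omega)
        · rcases Nat.lt_or_ge v 91440 with h | h
          · exact edgesRangeI_spec iota E 1 1787 89653 edges_1_26 v (by omega) (by omega)
          · exact edgesRangeI_spec iota E 1 1834 91440 edges_1_27 v (by omega) (by omega)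
      · rcases Nat.lt_or_ge v 97214 with h | h
        · rcases Nat.lt_or_ge v 95282 with h | h
          · exact edgesRangeI_spec iota E 1 2008 93274 edges_1_28 v (by omega) (by omega)
          · exact edgesRangeI_spec iota E 1 1932 95282 edges_1_29 v (by omega) (by omega)
        · rcases Nat.lt_or_ge v 98978 with h | h
          · exact edgesRangeI_spec iota E 1 1764 97214 edges_1_30 v (by omega) (by omega)
          · exact edgesRangeI_spec iota E 1 869 98978 edges_1_31 v (by omega) (by omega)

theorem edgesx_2 : ∀ v, v < 99847 → edgeOKI iota E 2 v = true := by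
  intro v hv
  rcases Nat.lt_or_ge v 51068 with h | h
  · rcases Nat.lt_or_ge v 22045 with h | h
    · rcases Nat.lt_or_ge v 9376 with h | h
      · rcases Nat.lt_or_ge v 4188 with h | h
        · rcases Nat.lt_or_ge v 1929 with h | h
          · exact edgesRangeI_spec iota E 2 1929 0 edges_2_0 v (by omega) (by omega)
          · exact edgesRangeI_spec iota E 2 2259 1929 edges_2_1 v (by omega) (by omega)
        · rcases Nat.lt_or_ge v 6645 with h | h
          · exact edgesRangeI_spec iota E 2 2457 4188 edges_2_2 v (by omega) (by omega)
          · exact edgesRangeI_spec iota E 2 2731 6645 edges_2_3 v (by omega) (by omega)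
      · rcases Nat.lt_or_ge v 15537 with h | h
        · rcases Nat.lt_or_ge v 12296 with h | h
          · exact edgesRangeI_spec iota E 2 2920 9376 edges_2_4 v (by omega) (by omega)
          · exact edgesRangeI_spec iota E 2 3241 12296 edges_2_5 v (by omega) (by omega)
        · rcases Nat.lt_or_ge v 18402 with h | h
          · exact edgesRangeI_spec iota E 2 2865 15537 edges_2_6 v (by omega) (by omega)
          · exact edgesRangeI_spec iota E 2 3643 18402 edges_2_7 v (by omega) (by omega)
    · rcases Nat.lt_or_ge v 35536 with h | h
      · rcases Nat.lt_or_ge v 28621 with h | h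
        · rcases Nat.lt_or_ge v 25100 with h | h
          · exact edgesRangeI_spec iota E 2 3055 22045 edges_2_8 v (by omega) (by omega)
          · exact edgesRangeI_spec iota E 2 3521 25100 edges_2_9 v (by omega) (by omega)
        · rcases Nat.lt_or_ge v 32466 with h | h
          · exact edgesRangeI_spec iota E 2 3845 28621 edges_2_10 v (by omega) (by omega)
          · exact edgesRangeI_spec iota E 2 3070 32466 edges_2_11 v (by omega) (by omega)
      · rcases Nat.lt_or_ge v 43930 with h | h
        · rcases Nat.lt_or_ge v 39713 with h | h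
          · exact edgesRangeI_spec iota E 2 4177 35536 edges_2_12 v (by omega) (by omega)
          · exact edgesRangeI_spec iota E 2 4217 39713 edges_2_13 v (by omega) (by omega)
        · rcases Nat.lt_or_ge v 47353 with h | h
          · exact edgesRangeI_spec iota E 2 3423 43930 edges_2_14 v (by omega) (by omega)
          · exact edgesRangeI_spec iota E 2 3715 47353 edges_2_15 v (by omega) (by omega)
  · rcases Nat.lt_or_ge v 84186 with h | h
    · rcases Nat.lt_or_ge v 67510 with h | h
      · rcases Nat.lt_or_ge v 59911 with h | h
        · rcases Nat.lt_or_ge v 56278 with h | h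
          · exact edgesRangeI_spec iota E 2 5210 51068 edges_2_16 v (by omega) (by omega)
          · exact edgesRangeI_spec iota E 2 3633 56278 edges_2_17 v (by omega) (by omega)
        · rcases Nat.lt_or_ge v 63327 with h | h
          · exact edgesRangeI_spec iota E 2 3416 59911 edges_2_18 v (by omega) (by omega)
          · exact edgesRangeI_spec iota E 2 4183 63327 edges_2_19 v (by omega) (by omega)
      · rcases Nat.lt_or_ge v 76627 with h | h
        · rcases Nat.lt_or_ge v 72957 with h | h
          · exact edgesRangeI_spec iota E 2 5447 67510 edges_2_20 v (by omega) (by omega)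
          · exact edgesRangeI_spec iota E 2 3670 72957 edges_2_21 v (by omega) (by omega)
        · rcases Nat.lt_or_ge v 79612 with h | h
          · exact edgesRangeI_spec iota E 2 2985 76627 edges_2_22 v (by omega) (by omega)
          · exact edgesRangeI_spec iota E 2 4574 79612 edges_2_23 v (by omega) (by omega)
    · rcases Nat.lt_or_ge v 93014 with h | h
      · rcases Nat.lt_or_ge v 89071 with h | h
        · rcases Nat.lt_or_ge v 87247 with h | h
          · exact edgesRangeI_spec iota E 2 3061 84186 edges_2_24 v (by omega) (by omega)
          · exact edgesRangeI_spec iota E 2 1824 87247 edges_2_25 v (by omega) (by omega)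
        · rcases Nat.lt_or_ge v 90992 with h | h
          · exact edgesRangeI_spec iota E 2 1921 89071 edges_2_26 v (by omega) (by omega)
          · exact edgesRangeI_spec iota E 2 2022 90992 edges_2_27 v (by omega) (by omega)
      · rcases Nat.lt_or_ge v 97236 with h | h
        · rcases Nat.lt_or_ge v 95199 with h | h
          · exact edgesRangeI_spec iota E 2 2185 93014 edges_2_28 v (by omega) (by omega)
          · exact edgesRangeI_spec iota E 2 2037 95199 edges_2_29 v (by omega) (by omega)
        · rcases Nat.lt_or_ge v 99073 with h | h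
          · exact edgesRangeI_spec iota E 2 1837 97236 edges_2_30 v (by omega) (by omega)
          · exact edgesRangeI_spec iota E 2 774 99073 edges_2_31 v (by omega) (by omega)

theorem edgesx_3 : ∀ v, v < 99847 → edgeOKI iota E 3 v = true := by
  intro v hv
  rcases Nat.lt_or_ge v 51405 with h | h
  · rcases Nat.lt_or_ge v 22859 with h | h
    · rcases Nat.lt_or_ge v 9847 with h | h
      · rcases Nat.lt_or_ge v 4490 with h | h
        · rcases Nat.lt_or_ge v 2126 with h | h
          · exact edgesRangeI_spec iota E 3 2126 0 edges_3_0 v (by omega) (by omega)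
          · exact edgesRangeI_spec iota E 3 2364 2126 edges_3_1 v (by omega) (by omega)
        · rcases Nat.lt_or_ge v 7112 with h | h
          · exact edgesRangeI_spec iota E 3 2622 4490 edges_3_2 v (by omega) (by omega)
          · exact edgesRangeI_spec iota E 3 2735 7112 edges_3_3 v (by omega) (by omega)
      · rcases Nat.lt_or_ge v 16175 with h | h
        · rcases Nat.lt_or_ge v 12790 with h | h
          · exact edgesRangeI_spec iota E 3 2943 9847 edges_3_4 v (by omega) (by omega)
          · exact edgesRangeI_spec iota E 3 3385 12790 edges_3_5 v (by omega) (by omega)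
        · rcases Nat.lt_or_ge v 19094 with h | h
          · exact edgesRangeI_spec iota E 3 2919 16175 edges_3_6 v (by omega) (by omega)
          · exact edgesRangeI_spec iota E 3 3765 19094 edges_3_7 v (by omega) (by omega)
    · rcases Nat.lt_or_ge v 36448 with h | h
      · rcases Nat.lt_or_ge v 29992 with h | h
        · rcases Nat.lt_or_ge v 25836 with h | h
          · exact edgesRangeI_spec iota E 3 2977 22859 edges_3_8 v (by omega) (by omega)
          · exact edgesRangeI_spec iota E 3 4156 25836 edges_3_9 v (by omega) (by omega)
        · rcases Nat.lt_or_ge v 33422 with h | h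
          · exact edgesRangeI_spec iota E 3 3430 29992 edges_3_10 v (by omega) (by omega)
          · exact edgesRangeI_spec iota E 3 3026 33422 edges_3_11 v (by omega) (by omega)
      · rcases Nat.lt_or_ge v 44543 with h | h
        · rcases Nat.lt_or_ge v 40937 with h | h
          · exact edgesRangeI_spec iota E 3 4489 36448 edges_3_12 v (by omega) (by omega)
          · exact edgesRangeI_spec iota E 3 3606 40937 edges_3_13 v (by omega) (by omega)
        · rcases Nat.lt_or_ge v 47790 with h | h
          · exact edgesRangeI_spec iota E 3 3247 44543 edges_3_14 v (by omega) (by omega)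
          · exact edgesRangeI_spec iota E 3 3615 47790 edges_3_15 v (by omega) (by omega)
  · rcases Nat.lt_or_ge v 82070 with h | h
    · rcases Nat.lt_or_ge v 66988 with h | h
      · rcases Nat.lt_or_ge v 59818 with h | h
        · rcases Nat.lt_or_ge v 56434 with h | h
          · exact edgesRangeI_spec iota E 3 5029 51405 edges_3_16 v (by omega) (by omega)
          · exact edgesRangeI_spec iota E 3 3384 56434 edges_3_17 v (by omega) (by omega)
        · rcases Nat.lt_or_ge v 63225 with h | h
          · exact edgesRangeI_spec iota E 3 3407 59818 edges_3_18 v (by omega) (by omega)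
          · exact edgesRangeI_spec iota E 3 3763 63225 edges_3_19 v (by omega) (by omega)
      · rcases Nat.lt_or_ge v 75461 with h | h
        · rcases Nat.lt_or_ge v 72047 with h | h
          · exact edgesRangeI_spec iota E 3 5059 66988 edges_3_20 v (by omega) (by omega)
          · exact edgesRangeI_spec iota E 3 3414 72047 edges_3_21 v (by omega) (by omega)
        · rcases Nat.lt_or_ge v 78664 with h | h
          · exact edgesRangeI_spec iota E 3 3203 75461 edges_3_22 v (by omega) (by omega)
          · exact edgesRangeI_spec iota E 3 3406 78664 edges_3_23 v (by omega) (by omega)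
    · rcases Nat.lt_or_ge v 91744 with h | h
      · rcases Nat.lt_or_ge v 88153 with h | h
        · rcases Nat.lt_or_ge v 86122 with h | h
          · exact edgesRangeI_spec iota E 3 4052 82070 edges_3_24 v (by omega) (by omega)
          · exact edgesRangeI_spec iota E 3 2031 86122 edges_3_25 v (by omega) (by omega)
        · rcases Nat.lt_or_ge v 89933 with h | h
          · exact edgesRangeI_spec iota E 3 1780 88153 edges_3_26 v (by omega) (by omega)
          · exact edgesRangeI_spec iota E 3 1811 89933 edges_3_27 v (by omega) (by omega)
      · rcases Nat.lt_or_ge v 95799 with h | h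
        · rcases Nat.lt_or_ge v 93828 with h | h
          · exact edgesRangeI_spec iota E 3 2084 91744 edges_3_28 v (by omega) (by omega)
          · exact edgesRangeI_spec iota E 3 1971 93828 edges_3_29 v (by omega) (by omega)
        · rcases Nat.lt_or_ge v 97498 with h | h
          · exact edgesRangeI_spec iota E 3 1699 95799 edges_3_30 v (by omega) (by omega)
          · rcases Nat.lt_or_ge v 99334 with h | h
            · exact edgesRangeI_spec iota E 3 1836 97498 edges_3_31 v (by omega) (by omega)
            · exact edgesRangeI_spec iota E 3 513 99334 edges_3_32 v (by omega) (by omega)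

theorem edgesx_4 : ∀ v, v < 99847 → edgeOKI iota E 4 v = true := by
  intro v hv
  rcases Nat.lt_or_ge v 51579 with h | h
  · rcases Nat.lt_or_ge v 21861 with h | h
    · rcases Nat.lt_or_ge v 10043 with h | h
      · rcases Nat.lt_or_ge v 4798 with h | h
        · rcases Nat.lt_or_ge v 2355 with h | h
          · exact edgesRangeI_spec iota E 4 2355 0 edges_4_0 v (by omega) (by omega)
          · exact edgesRangeI_spec iota E 4 2443 2355 edges_4_1 v (by omega) (by omega)
        · rcases Nat.lt_or_ge v 7451 with h | h
          · exact edgesRangeI_spec iota E 4 2653 4798 edges_4_2 v (by omega) (by omega)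
          · exact edgesRangeI_spec iota E 4 2592 7451 edges_4_3 v (by omega) (by omega)
      · rcases Nat.lt_or_ge v 15799 with h | h
        · rcases Nat.lt_or_ge v 12702 with h | h
          · exact edgesRangeI_spec iota E 4 2659 10043 edges_4_4 v (by omega) (by omega)
          · exact edgesRangeI_spec iota E 4 3097 12702 edges_4_5 v (by omega) (by omega)
        · rcases Nat.lt_or_ge v 18397 with h | h
          · exact edgesRangeI_spec iota E 4 2598 15799 edges_4_6 v (by omega) (by omega)
          · exact edgesRangeI_spec iota E 4 3464 18397 edges_4_7 v (by omega) (by omega)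
    · rcases Nat.lt_or_ge v 34373 with h | h
      · rcases Nat.lt_or_ge v 27736 with h | h
        · rcases Nat.lt_or_ge v 24665 with h | h
          · exact edgesRangeI_spec iota E 4 2804 21861 edges_4_8 v (by omega) (by omega)
          · exact edgesRangeI_spec iota E 4 3071 24665 edges_4_9 v (by omega) (by omega)
        · rcases Nat.lt_or_ge v 31524 with h | h
          · exact edgesRangeI_spec iota E 4 3788 27736 edges_4_10 v (by omega) (by omega)
          · exact edgesRangeI_spec iota E 4 2849 31524 edges_4_11 v (by omega) (by omega)
      · rcases Nat.lt_or_ge v 41835 with h | h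
        · rcases Nat.lt_or_ge v 37617 with h | h
          · exact edgesRangeI_spec iota E 4 3244 34373 edges_4_12 v (by omega) (by omega)
          · exact edgesRangeI_spec iota E 4 4218 37617 edges_4_13 v (by omega) (by omega)
        · rcases Nat.lt_or_ge v 44821 with h | h
          · exact edgesRangeI_spec iota E 4 2986 41835 edges_4_14 v (by omega) (by omega)
          · rcases Nat.lt_or_ge v 47981 with h | h
            · exact edgesRangeI_spec iota E 4 3160 44821 edges_4_15 v (by omega) (by omega)
            · exact edgesRangeI_spec iota E 4 3598 47981 edges_4_16 v (by omega) (by omega)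
  · rcases Nat.lt_or_ge v 80421 with h | h
    · rcases Nat.lt_or_ge v 66217 with h | h
      · rcases Nat.lt_or_ge v 59399 with h | h
        · rcases Nat.lt_or_ge v 56257 with h | h
          · exact edgesRangeI_spec iota E 4 4678 51579 edges_4_17 v (by omega) (by omega)
          · exact edgesRangeI_spec iota E 4 3142 56257 edges_4_18 v (by omega) (by omega)
        · rcases Nat.lt_or_ge v 62790 with h | h
          · exact edgesRangeI_spec iota E 4 3391 59399 edges_4_19 v (by omega) (by omega)
          · exact edgesRangeI_spec iota E 4 3427 62790 edges_4_20 v (by omega) (by omega)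
      · rcases Nat.lt_or_ge v 74542 with h | h
        · rcases Nat.lt_or_ge v 70766 with h | h
          · exact edgesRangeI_spec iota E 4 4549 66217 edges_4_21 v (by omega) (by omega)
          · exact edgesRangeI_spec iota E 4 3776 70766 edges_4_22 v (by omega) (by omega)
        · rcases Nat.lt_or_ge v 77408 with h | h
          · exact edgesRangeI_spec iota E 4 2866 74542 edges_4_23 v (by omega) (by omega)
          · exact edgesRangeI_spec iota E 4 3013 77408 edges_4_24 v (by omega) (by omega)
    · rcases Nat.lt_or_ge v 90587 with h | h
      · rcases Nat.lt_or_ge v 87087 with h | h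
        · rcases Nat.lt_or_ge v 84576 with h | h
          · exact edgesRangeI_spec iota E 4 4155 80421 edges_4_25 v (by omega) (by omega)
          · exact edgesRangeI_spec iota E 4 2511 84576 edges_4_26 v (by omega) (by omega)
        · rcases Nat.lt_or_ge v 88857 with h | h
          · exact edgesRangeI_spec iota E 4 1770 87087 edges_4_27 v (by omega) (by omega)
          · exact edgesRangeI_spec iota E 4 1730 88857 edges_4_28 v (by omega) (by omega)
      · rcases Nat.lt_or_ge v 94320 with h | h
        · rcases Nat.lt_or_ge v 92382 with h | h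
          · exact edgesRangeI_spec iota E 4 1795 90587 edges_4_29 v (by omega) (by omega)
          · exact edgesRangeI_spec iota E 4 1938 92382 edges_4_30 v (by omega) (by omega)
        · rcases Nat.lt_or_ge v 96408 with h | h
          · exact edgesRangeI_spec iota E 4 2088 94320 edges_4_31 v (by omega) (by omega)
          · rcases Nat.lt_or_ge v 98308 with h | h
            · exact edgesRangeI_spec iota E 4 1900 96408 edges_4_32 v (by omega) (by omega)
            · exact edgesRangeI_spec iota E 4 1539 98308 edges_4_33 v (by omega) (by omega)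

theorem edgesx_5 : ∀ v, v < 99847 → edgeOKI iota E 5 v = true := by
  intro v hv
  rcases Nat.lt_or_ge v 51577 with h | h
  · rcases Nat.lt_or_ge v 23095 with h | h
    · rcases Nat.lt_or_ge v 9790 with h | h
      · rcases Nat.lt_or_ge v 4250 with h | h
        · rcases Nat.lt_or_ge v 1919 with h | h
          · exact edgesRangeI_spec iota E 5 1919 0 edges_5_0 v (by omega) (by omega)
          · exact edgesRangeI_spec iota E 5 2331 1919 edges_5_1 v (by omega) (by omega)
        · rcases Nat.lt_or_ge v 6966 with h | h
          · exact edgesRangeI_spec iota E 5 2716 4250 edges_5_2 v (by omega) (by omega)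
          · exact edgesRangeI_spec iota E 5 2824 6966 edges_5_3 v (by omega) (by omega)
      · rcases Nat.lt_or_ge v 16317 with h | h
        · rcases Nat.lt_or_ge v 12869 with h | h
          · exact edgesRangeI_spec iota E 5 3079 9790 edges_5_4 v (by omega) (by omega)
          · exact edgesRangeI_spec iota E 5 3448 12869 edges_5_5 v (by omega) (by omega)
        · rcases Nat.lt_or_ge v 19326 with h | h
          · exact edgesRangeI_spec iota E 5 3009 16317 edges_5_6 v (by omega) (by omega)
          · exact edgesRangeI_spec iota E 5 3769 19326 edges_5_7 v (by omega) (by omega)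
    · rcases Nat.lt_or_ge v 36747 with h | h
      · rcases Nat.lt_or_ge v 30268 with h | h
        · rcases Nat.lt_or_ge v 26123 with h | h
          · exact edgesRangeI_spec iota E 5 3028 23095 edges_5_8 v (by omega) (by omega)
          · exact edgesRangeI_spec iota E 5 4145 26123 edges_5_9 v (by omega) (by omega)
        · rcases Nat.lt_or_ge v 33615 with h | h
          · exact edgesRangeI_spec iota E 5 3347 30268 edges_5_10 v (by omega) (by omega)
          · exact edgesRangeI_spec iota E 5 3132 33615 edges_5_11 v (by omega) (by omega)
      · rcases Nat.lt_or_ge v 44660 with h | h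
        · rcases Nat.lt_or_ge v 41153 with h | h
          · exact edgesRangeI_spec iota E 5 4406 36747 edges_5_12 v (by omega) (by omega)
          · exact edgesRangeI_spec iota E 5 3507 41153 edges_5_13 v (by omega) (by omega)
        · rcases Nat.lt_or_ge v 47859 with h | h
          · exact edgesRangeI_spec iota E 5 3199 44660 edges_5_14 v (by omega) (by omega)
          · exact edgesRangeI_spec iota E 5 3718 47859 edges_5_15 v (by omega) (by omega)
  · rcases Nat.lt_or_ge v 81938 with h | h
    · rcases Nat.lt_or_ge v 66887 with h | h
      · rcases Nat.lt_or_ge v 59810 with h | h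
        · rcases Nat.lt_or_ge v 56296 with h | h
          · exact edgesRangeI_spec iota E 5 4719 51577 edges_5_16 v (by omega) (by omega)
          · exact edgesRangeI_spec iota E 5 3514 56296 edges_5_17 v (by omega) (by omega)
        · rcases Nat.lt_or_ge v 63221 with h | h
          · exact edgesRangeI_spec iota E 5 3411 59810 edges_5_18 v (by omega) (by omega)
          · exact edgesRangeI_spec iota E 5 3666 63221 edges_5_19 v (by omega) (by omega)
      · rcases Nat.lt_or_ge v 75155 with h | h
        · rcases Nat.lt_or_ge v 71519 with h | h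
          · exact edgesRangeI_spec iota E 5 4632 66887 edges_5_20 v (by omega) (by omega)
          · exact edgesRangeI_spec iota E 5 3636 71519 edges_5_21 v (by omega) (by omega)
        · rcases Nat.lt_or_ge v 78458 with h | h
          · exact edgesRangeI_spec iota E 5 3303 75155 edges_5_22 v (by omega) (by omega)
          · exact edgesRangeI_spec iota E 5 3480 78458 edges_5_23 v (by omega) (by omega)
    · rcases Nat.lt_or_ge v 91816 with h | h
      · rcases Nat.lt_or_ge v 88202 with h | h
        · rcases Nat.lt_or_ge v 85979 with h | h
          · exact edgesRangeI_spec iota E 5 4041 81938 edges_5_24 v (by omega) (by omega)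
          · exact edgesRangeI_spec iota E 5 2223 85979 edges_5_25 v (by omega) (by omega)
        · rcases Nat.lt_or_ge v 90064 with h | h
          · exact edgesRangeI_spec iota E 5 1862 88202 edges_5_26 v (by omega) (by omega)
          · exact edgesRangeI_spec iota E 5 1752 90064 edges_5_27 v (by omega) (by omega)
      · rcases Nat.lt_or_ge v 95301 with h | h
        · rcases Nat.lt_or_ge v 93551 with h | h
          · exact edgesRangeI_spec iota E 5 1735 91816 edges_5_28 v (by omega) (by omega)
          · exact edgesRangeI_spec iota E 5 1750 93551 edges_5_29 v (by omega) (by omega)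
        · rcases Nat.lt_or_ge v 97082 with h | h
          · exact edgesRangeI_spec iota E 5 1781 95301 edges_5_30 v (by omega) (by omega)
          · rcases Nat.lt_or_ge v 98882 with h | h
            · exact edgesRangeI_spec iota E 5 1800 97082 edges_5_31 v (by omega) (by omega)
            · exact edgesRangeI_spec iota E 5 965 98882 edges_5_32 v (by omega) (by omega)

theorem edgesx_6 : ∀ v, v < 99847 → edgeOKI iota E 6 v = true := by
  intro v hv
  rcases Nat.lt_or_ge v 53194 with h | h
  · rcases Nat.lt_or_ge v 21629 with h | h
    · rcases Nat.lt_or_ge v 9126 with h | h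
      · rcases Nat.lt_or_ge v 4010 with h | h
        · rcases Nat.lt_or_ge v 1841 with h | h
          · exact edgesRangeI_spec iota E 6 1841 0 edges_6_0 v (by omega) (by omega)
          · exact edgesRangeI_spec iota E 6 2169 1841 edges_6_1 v (by omega) (by omega)
        · rcases Nat.lt_or_ge v 6447 with h | h
          · exact edgesRangeI_spec iota E 6 2437 4010 edges_6_2 v (by omega) (by omega)
          · exact edgesRangeI_spec iota E 6 2679 6447 edges_6_3 v (by omega) (by omega)
      · rcases Nat.lt_or_ge v 15211 with h | h
        · rcases Nat.lt_or_ge v 12015 with h | h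
          · exact edgesRangeI_spec iota E 6 2889 9126 edges_6_4 v (by omega) (by omega)
          · exact edgesRangeI_spec iota E 6 3196 12015 edges_6_5 v (by omega) (by omega)
        · rcases Nat.lt_or_ge v 18041 with h | h
          · exact edgesRangeI_spec iota E 6 2830 15211 edges_6_6 v (by omega) (by omega)
          · exact edgesRangeI_spec iota E 6 3588 18041 edges_6_7 v (by omega) (by omega)
    · rcases Nat.lt_or_ge v 35044 with h | h
      · rcases Nat.lt_or_ge v 28141 with h | h
        · rcases Nat.lt_or_ge v 24688 with h | h
          · exact edgesRangeI_spec iota E 6 3059 21629 edges_6_8 v (by omega) (by omega)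
          · exact edgesRangeI_spec iota E 6 3453 24688 edges_6_9 v (by omega) (by omega)
        · rcases Nat.lt_or_ge v 31758 with h | h
          · exact edgesRangeI_spec iota E 6 3617 28141 edges_6_10 v (by omega) (by omega)
          · exact edgesRangeI_spec iota E 6 3286 31758 edges_6_11 v (by omega) (by omega)
      · rcases Nat.lt_or_ge v 42534 with h | h
        · rcases Nat.lt_or_ge v 38588 with h | h
          · exact edgesRangeI_spec iota E 6 3544 35044 edges_6_12 v (by omega) (by omega)
          · exact edgesRangeI_spec iota E 6 3946 38588 edges_6_13 v (by omega) (by omega)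
        · rcases Nat.lt_or_ge v 46072 with h | h
          · exact edgesRangeI_spec iota E 6 3538 42534 edges_6_14 v (by omega) (by omega)
          · rcases Nat.lt_or_ge v 49214 with h | h
            · exact edgesRangeI_spec iota E 6 3142 46072 edges_6_15 v (by omega) (by omega)
            · exact edgesRangeI_spec iota E 6 3980 49214 edges_6_16 v (by omega) (by omega)
  · rcases Nat.lt_or_ge v 81973 with h | h
    · rcases Nat.lt_or_ge v 67598 with h | h
      · rcases Nat.lt_or_ge v 60837 with h | h
        · rcases Nat.lt_or_ge v 57187 with h | h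
          · exact edgesRangeI_spec iota E 6 3993 53194 edges_6_17 v (by omega) (by omega)
          · exact edgesRangeI_spec iota E 6 3650 57187 edges_6_18 v (by omega) (by omega)
        · rcases Nat.lt_or_ge v 63972 with h | h
          · exact edgesRangeI_spec iota E 6 3135 60837 edges_6_19 v (by omega) (by omega)
          · exact edgesRangeI_spec iota E 6 3626 63972 edges_6_20 v (by omega) (by omega)
      · rcases Nat.lt_or_ge v 75401 with h | h
        · rcases Nat.lt_or_ge v 71845 with h | h
          · exact edgesRangeI_spec iota E 6 4247 67598 edges_6_21 v (by omega) (by omega)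
          · exact edgesRangeI_spec iota E 6 3556 71845 edges_6_22 v (by omega) (by omega)
        · rcases Nat.lt_or_ge v 78712 with h | h
          · exact edgesRangeI_spec iota E 6 3311 75401 edges_6_23 v (by omega) (by omega)
          · exact edgesRangeI_spec iota E 6 3261 78712 edges_6_24 v (by omega) (by omega)
    · rcases Nat.lt_or_ge v 91490 with h | h
      · rcases Nat.lt_or_ge v 88034 with h | h
        · rcases Nat.lt_or_ge v 85961 with h | h
          · exact edgesRangeI_spec iota E 6 3988 81973 edges_6_25 v (by omega) (by omega)
          · exact edgesRangeI_spec iota E 6 2073 85961 edges_6_26 v (by omega) (by omega)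
        · rcases Nat.lt_or_ge v 89782 with h | h
          · exact edgesRangeI_spec iota E 6 1748 88034 edges_6_27 v (by omega) (by omega)
          · exact edgesRangeI_spec iota E 6 1708 89782 edges_6_28 v (by omega) (by omega)
      · rcases Nat.lt_or_ge v 95005 with h | h
        · rcases Nat.lt_or_ge v 93190 with h | h
          · exact edgesRangeI_spec iota E 6 1700 91490 edges_6_29 v (by omega) (by omega)
          · exact edgesRangeI_spec iota E 6 1815 93190 edges_6_30 v (by omega) (by omega)
        · rcases Nat.lt_or_ge v 96756 with h | h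
          · exact edgesRangeI_spec iota E 6 1751 95005 edges_6_31 v (by omega) (by omega)
          · rcases Nat.lt_or_ge v 98506 with h | h
            · exact edgesRangeI_spec iota E 6 1750 96756 edges_6_32 v (by omega) (by omega)
            · exact edgesRangeI_spec iota E 6 1341 98506 edges_6_33 v (by omega) (by omega)

theorem edgesx_7 : ∀ v, v < 99847 → edgeOKI iota E 7 v = true := by
  intro v hv
  rcases Nat.lt_or_ge v 47703 with h | h
  · rcases Nat.lt_or_ge v 19879 with h | h
    · rcases Nat.lt_or_ge v 7262 with h | h
      · rcases Nat.lt_or_ge v 1996 with h | h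
        · exact edgesRangeI_spec iota E 7 1996 0 edges_7_0 v (by omega) (by omega)
        · rcases Nat.lt_or_ge v 4484 with h | h
          · exact edgesRangeI_spec iota E 7 2488 1996 edges_7_1 v (by omega) (by omega)
          · exact edgesRangeI_spec iota E 7 2778 4484 edges_7_2 v (by omega) (by omega)
      · rcases Nat.lt_or_ge v 13250 with h | h
        · rcases Nat.lt_or_ge v 10177 with h | h
          · exact edgesRangeI_spec iota E 7 2915 7262 edges_7_3 v (by omega) (by omega)
          · exact edgesRangeI_spec iota E 7 3073 10177 edges_7_4 v (by omega) (by omega)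
        · rcases Nat.lt_or_ge v 16643 with h | h
          · exact edgesRangeI_spec iota E 7 3393 13250 edges_7_5 v (by omega) (by omega)
          · exact edgesRangeI_spec iota E 7 3236 16643 edges_7_6 v (by omega) (by omega)
    · rcases Nat.lt_or_ge v 31221 with h | h
      · rcases Nat.lt_or_ge v 23740 with h | h
        · exact edgesRangeI_spec iota E 7 3861 19879 edges_7_7 v (by omega) (by omega)
        · rcases Nat.lt_or_ge v 27169 with h | h
          · exact edgesRangeI_spec iota E 7 3429 23740 edges_7_8 v (by omega) (by omega)
          · exact edgesRangeI_spec iota E 7 4052 27169 edges_7_9 v (by omega) (by omega)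
      · rcases Nat.lt_or_ge v 39083 with h | h
        · rcases Nat.lt_or_ge v 35057 with h | h
          · exact edgesRangeI_spec iota E 7 3836 31221 edges_7_10 v (by omega) (by omega)
          · exact edgesRangeI_spec iota E 7 4026 35057 edges_7_11 v (by omega) (by omega)
        · rcases Nat.lt_or_ge v 43511 with h | h
          · exact edgesRangeI_spec iota E 7 4428 39083 edges_7_12 v (by omega) (by omega)
          · exact edgesRangeI_spec iota E 7 4192 43511 edges_7_13 v (by omega) (by omega)
  · rcases Nat.lt_or_ge v 80343 with h | h
    · rcases Nat.lt_or_ge v 61465 with h | h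
      · rcases Nat.lt_or_ge v 52134 with h | h
        · exact edgesRangeI_spec iota E 7 4431 47703 edges_7_14 v (by omega) (by omega)
        · rcases Nat.lt_or_ge v 56763 with h | h
          · exact edgesRangeI_spec iota E 7 4629 52134 edges_7_15 v (by omega) (by omega)
          · exact edgesRangeI_spec iota E 7 4702 56763 edges_7_16 v (by omega) (by omega)
      · rcases Nat.lt_or_ge v 71217 with h | h
        · rcases Nat.lt_or_ge v 66060 with h | h
          · exact edgesRangeI_spec iota E 7 4595 61465 edges_7_17 v (by omega) (by omega)
          · exact edgesRangeI_spec iota E 7 5157 66060 edges_7_18 v (by omega) (by omega)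
        · rcases Nat.lt_or_ge v 75900 with h | h
          · exact edgesRangeI_spec iota E 7 4683 71217 edges_7_19 v (by omega) (by omega)
          · exact edgesRangeI_spec iota E 7 4443 75900 edges_7_20 v (by omega) (by omega)
    · rcases Nat.lt_or_ge v 90765 with h | h
      · rcases Nat.lt_or_ge v 85254 with h | h
        · exact edgesRangeI_spec iota E 7 4911 80343 edges_7_21 v (by omega) (by omega)
        · rcases Nat.lt_or_ge v 88359 with h | h
          · exact edgesRangeI_spec iota E 7 3105 85254 edges_7_22 v (by omega) (by omega)
          · exact edgesRangeI_spec iota E 7 2406 88359 edges_7_23 v (by omega) (by omega)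
      · rcases Nat.lt_or_ge v 95940 with h | h
        · rcases Nat.lt_or_ge v 93373 with h | h
          · exact edgesRangeI_spec iota E 7 2608 90765 edges_7_24 v (by omega) (by omega)
          · exact edgesRangeI_spec iota E 7 2567 93373 edges_7_25 v (by omega) (by omega)
        · rcases Nat.lt_or_ge v 98088 with h | h
          · exact edgesRangeI_spec iota E 7 2148 95940 edges_7_26 v (by omega) (by omega)
          · exact edgesRangeI_spec iota E 7 1759 98088 edges_7_27 v (by omega) (by omega)

theorem edgesx_8 : ∀ v, v < 99847 → edgeOKI iota E 8 v = true := by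
  intro v hv
  rcases Nat.lt_or_ge v 48147 with h | h
  · rcases Nat.lt_or_ge v 23223 with h | h
    · rcases Nat.lt_or_ge v 10063 with h | h
      · rcases Nat.lt_or_ge v 4986 with h | h
        · rcases Nat.lt_or_ge v 2504 with h | h
          · exact edgesRangeI_spec iota E 8 2504 0 edges_8_0 v (by omega) (by omega)
          · exact edgesRangeI_spec iota E 8 2482 2504 edges_8_1 v (by omega) (by omega)
        · rcases Nat.lt_or_ge v 7567 with h | h
          · exact edgesRangeI_spec iota E 8 2581 4986 edges_8_2 v (by omega) (by omega)
          · exact edgesRangeI_spec iota E 8 2496 7567 edges_8_3 v (by omega) (by omega)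
      · rcases Nat.lt_or_ge v 15370 with h | h
        · rcases Nat.lt_or_ge v 12602 with h | h
          · exact edgesRangeI_spec iota E 8 2539 10063 edges_8_4 v (by omega) (by omega)
          · exact edgesRangeI_spec iota E 8 2768 12602 edges_8_5 v (by omega) (by omega)
        · rcases Nat.lt_or_ge v 17796 with h | h
          · exact edgesRangeI_spec iota E 8 2426 15370 edges_8_6 v (by omega) (by omega)
          · rcases Nat.lt_or_ge v 20552 with h | h
            · exact edgesRangeI_spec iota E 8 2756 17796 edges_8_7 v (by omega) (by omega)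
            · exact edgesRangeI_spec iota E 8 2671 20552 edges_8_8 v (by omega) (by omega)
    · rcases Nat.lt_or_ge v 33996 with h | h
      · rcases Nat.lt_or_ge v 28673 with h | h
        · rcases Nat.lt_or_ge v 25750 with h | h
          · exact edgesRangeI_spec iota E 8 2527 23223 edges_8_9 v (by omega) (by omega)
          · exact edgesRangeI_spec iota E 8 2923 25750 edges_8_10 v (by omega) (by omega)
        · rcases Nat.lt_or_ge v 31601 with h | h
          · exact edgesRangeI_spec iota E 8 2928 28673 edges_8_11 v (by omega) (by omega)
          · exact edgesRangeI_spec iota E 8 2395 31601 edges_8_12 v (by omega) (by omega)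
      · rcases Nat.lt_or_ge v 39799 with h | h
        · rcases Nat.lt_or_ge v 36795 with h | h
          · exact edgesRangeI_spec iota E 8 2799 33996 edges_8_13 v (by omega) (by omega)
          · exact edgesRangeI_spec iota E 8 3004 36795 edges_8_14 v (by omega) (by omega)
        · rcases Nat.lt_or_ge v 42772 with h | h
          · exact edgesRangeI_spec iota E 8 2973 39799 edges_8_15 v (by omega) (by omega)
          · rcases Nat.lt_or_ge v 45461 with h | h
            · exact edgesRangeI_spec iota E 8 2689 42772 edges_8_16 v (by omega) (by omega)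
            · exact edgesRangeI_spec iota E 8 2686 45461 edges_8_17 v (by omega) (by omega)
  · rcases Nat.lt_or_ge v 76475 with h | h
    · rcases Nat.lt_or_ge v 60537 with h | h
      · rcases Nat.lt_or_ge v 54587 with h | h
        · rcases Nat.lt_or_ge v 51369 with h | h
          · exact edgesRangeI_spec iota E 8 3222 48147 edges_8_18 v (by omega) (by omega)
          · exact edgesRangeI_spec iota E 8 3218 51369 edges_8_19 v (by omega) (by omega)
        · rcases Nat.lt_or_ge v 57745 with h | h
          · exact edgesRangeI_spec iota E 8 3158 54587 edges_8_20 v (by omega) (by omega)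
          · exact edgesRangeI_spec iota E 8 2792 57745 edges_8_21 v (by omega) (by omega)
      · rcases Nat.lt_or_ge v 66752 with h | h
        · rcases Nat.lt_or_ge v 63377 with h | h
          · exact edgesRangeI_spec iota E 8 2840 60537 edges_8_22 v (by omega) (by omega)
          · exact edgesRangeI_spec iota E 8 3375 63377 edges_8_23 v (by omega) (by omega)
        · rcases Nat.lt_or_ge v 70102 with h | h
          · exact edgesRangeI_spec iota E 8 3350 66752 edges_8_24 v (by omega) (by omega)
          · rcases Nat.lt_or_ge v 73306 with h | h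
            · exact edgesRangeI_spec iota E 8 3204 70102 edges_8_25 v (by omega) (by omega)
            · exact edgesRangeI_spec iota E 8 3169 73306 edges_8_26 v (by omega) (by omega)
    · rcases Nat.lt_or_ge v 89917 with h | h
      · rcases Nat.lt_or_ge v 82603 with h | h
        · rcases Nat.lt_or_ge v 79269 with h | h
          · exact edgesRangeI_spec iota E 8 2794 76475 edges_8_27 v (by omega) (by omega)
          · exact edgesRangeI_spec iota E 8 3334 79269 edges_8_28 v (by omega) (by omega)
        · rcases Nat.lt_or_ge v 85723 with h | h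
          · exact edgesRangeI_spec iota E 8 3120 82603 edges_8_29 v (by omega) (by omega)
          · rcases Nat.lt_or_ge v 88010 with h | h
            · exact edgesRangeI_spec iota E 8 2287 85723 edges_8_30 v (by omega) (by omega)
            · exact edgesRangeI_spec iota E 8 1907 88010 edges_8_31 v (by omega) (by omega)
      · rcases Nat.lt_or_ge v 93769 with h | h
        · rcases Nat.lt_or_ge v 91724 with h | h
          · exact edgesRangeI_spec iota E 8 1807 89917 edges_8_32 v (by omega) (by omega)
          · exact edgesRangeI_spec iota E 8 2045 91724 edges_8_33 v (by omega) (by omega)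
        · rcases Nat.lt_or_ge v 96030 with h | h
          · exact edgesRangeI_spec iota E 8 2261 93769 edges_8_34 v (by omega) (by omega)
          · rcases Nat.lt_or_ge v 98486 with h | h
            · exact edgesRangeI_spec iota E 8 2456 96030 edges_8_35 v (by omega) (by omega)
            · exact edgesRangeI_spec iota E 8 1361 98486 edges_8_36 v (by omega) (by omega)

theorem edgesx_9 : ∀ v, v < 99847 → edgeOKI iota E 9 v = true := by
  intro v hv
  rcases Nat.lt_or_ge v 56160 with h | h
  · rcases Nat.lt_or_ge v 22936 with h | h
    · rcases Nat.lt_or_ge v 7195 with h | h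
      · rcases Nat.lt_or_ge v 2924 with h | h
        · exact edgesRangeI_spec iota E 9 2924 0 edges_9_0 v (by omega) (by omega)
        · exact edgesRangeI_spec iota E 9 4271 2924 edges_9_1 v (by omega) (by omega)
      · rcases Nat.lt_or_ge v 12089 with h | h
        · exact edgesRangeI_spec iota E 9 4894 7195 edges_9_2 v (by omega) (by omega)
        · rcases Nat.lt_or_ge v 17319 with h | h
          · exact edgesRangeI_spec iota E 9 5230 12089 edges_9_3 v (by omega) (by omega)
          · exact edgesRangeI_spec iota E 9 5617 17319 edges_9_4 v (by omega) (by omega)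
    · rcases Nat.lt_or_ge v 39468 with h | h
      · rcases Nat.lt_or_ge v 28374 with h | h
        · exact edgesRangeI_spec iota E 9 5438 22936 edges_9_5 v (by omega) (by omega)
        · rcases Nat.lt_or_ge v 33856 with h | h
          · exact edgesRangeI_spec iota E 9 5482 28374 edges_9_6 v (by omega) (by omega)
          · exact edgesRangeI_spec iota E 9 5612 33856 edges_9_7 v (by omega) (by omega)
      · rcases Nat.lt_or_ge v 44817 with h | h
        · exact edgesRangeI_spec iota E 9 5349 39468 edges_9_8 v (by omega) (by omega)
        · rcases Nat.lt_or_ge v 50017 with h | h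
          · exact edgesRangeI_spec iota E 9 5200 44817 edges_9_9 v (by omega) (by omega)
          · exact edgesRangeI_spec iota E 9 6143 50017 edges_9_10 v (by omega) (by omega)
  · rcases Nat.lt_or_ge v 86692 with h | h
    · rcases Nat.lt_or_ge v 72444 with h | h
      · rcases Nat.lt_or_ge v 61399 with h | h
        · exact edgesRangeI_spec iota E 9 5239 56160 edges_9_11 v (by omega) (by omega)
        · rcases Nat.lt_or_ge v 66846 with h | h
          · exact edgesRangeI_spec iota E 9 5447 61399 edges_9_12 v (by omega) (by omega)
          · exact edgesRangeI_spec iota E 9 5598 66846 edges_9_13 v (by omega) (by omega)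
      · rcases Nat.lt_or_ge v 77351 with h | h
        · exact edgesRangeI_spec iota E 9 4907 72444 edges_9_14 v (by omega) (by omega)
        · rcases Nat.lt_or_ge v 82137 with h | h
          · exact edgesRangeI_spec iota E 9 4786 77351 edges_9_15 v (by omega) (by omega)
          · exact edgesRangeI_spec iota E 9 4555 82137 edges_9_16 v (by omega) (by omega)
    · rcases Nat.lt_or_ge v 94936 with h | h
      · rcases Nat.lt_or_ge v 89687 with h | h
        · exact edgesRangeI_spec iota E 9 2995 86692 edges_9_17 v (by omega) (by omega)
        · rcases Nat.lt_or_ge v 92383 with h | h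
          · exact edgesRangeI_spec iota E 9 2696 89687 edges_9_18 v (by omega) (by omega)
          · exact edgesRangeI_spec iota E 9 2553 92383 edges_9_19 v (by omega) (by omega)
      · rcases Nat.lt_or_ge v 97262 with h | h
        · exact edgesRangeI_spec iota E 9 2326 94936 edges_9_20 v (by omega) (by omega)
        · rcases Nat.lt_or_ge v 99361 with h | h
          · exact edgesRangeI_spec iota E 9 2099 97262 edges_9_21 v (by omega) (by omega)
          · exact edgesRangeI_spec iota E 9 486 99361 edges_9_22 v (by omega) (by omega)

theorem hA0 : ∀ v, v < 99847 → aliasOK E v = true := by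
  intro v hv
  rcases Nat.lt_or_ge v 56314 with h | h
  · rcases Nat.lt_or_ge v 28367 with h | h
    · rcases Nat.lt_or_ge v 14942 with h | h
      · rcases Nat.lt_or_ge v 7911 with h | h
        · rcases Nat.lt_or_ge v 4574 with h | h
          · exact aliasRange_spec E 4574 0 aliases_0 v (by omega) (by omega)
          · exact aliasRange_spec E 3337 4574 aliases_1 v (by omega) (by omega)
        · rcases Nat.lt_or_ge v 11343 with h | h
          · exact aliasRange_spec E 3432 7911 aliases_2 v (by omega) (by omega)
          · exact aliasRange_spec E 3599 11343 aliases_3 v (by omega) (by omega)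
      · rcases Nat.lt_or_ge v 21722 with h | h
        · rcases Nat.lt_or_ge v 18302 with h | h
          · exact aliasRange_spec E 3360 14942 aliases_4 v (by omega) (by omega)
          · exact aliasRange_spec E 3420 18302 aliases_5 v (by omega) (by omega)
        · rcases Nat.lt_or_ge v 25011 with h | h
          · exact aliasRange_spec E 3289 21722 aliases_6 v (by omega) (by omega)
          · exact aliasRange_spec E 3356 25011 aliases_7 v (by omega) (by omega)
    · rcases Nat.lt_or_ge v 41548 with h | h
      · rcases Nat.lt_or_ge v 35039 with h | h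
        · rcases Nat.lt_or_ge v 31727 with h | h
          · exact aliasRange_spec E 3360 28367 aliases_8 v (by omega) (by omega)
          · exact aliasRange_spec E 3312 31727 aliases_9 v (by omega) (by omega)
        · rcases Nat.lt_or_ge v 38052 with h | h
          · exact aliasRange_spec E 3013 35039 aliases_10 v (by omega) (by omega)
          · exact aliasRange_spec E 3496 38052 aliases_11 v (by omega) (by omega)
      · rcases Nat.lt_or_ge v 47472 with h | h
        · rcases Nat.lt_or_ge v 44600 with h | h
          · exact aliasRange_spec E 3052 41548 aliases_12 v (by omega) (by omega)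
          · exact aliasRange_spec E 2872 44600 aliases_13 v (by omega) (by omega)
        · rcases Nat.lt_or_ge v 50479 with h | h
          · exact aliasRange_spec E 3007 47472 aliases_14 v (by omega) (by omega)
          · rcases Nat.lt_or_ge v 53238 with h | h
            · exact aliasRange_spec E 2759 50479 aliases_15 v (by omega) (by omega)
            · exact aliasRange_spec E 3076 53238 aliases_16 v (by omega) (by omega)
  · rcases Nat.lt_or_ge v 73368 with h | h
    · rcases Nat.lt_or_ge v 65748 with h | h
      · rcases Nat.lt_or_ge v 61319 with h | h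
        · rcases Nat.lt_or_ge v 59021 with h | h
          · exact aliasRange_spec E 2707 56314 aliases_17 v (by omega) (by omega)
          · exact aliasRange_spec E 2298 59021 aliases_18 v (by omega) (by omega)
        · rcases Nat.lt_or_ge v 63655 with h | h
          · exact aliasRange_spec E 2336 61319 aliases_19 v (by omega) (by omega)
          · exact aliasRange_spec E 2093 63655 aliases_20 v (by omega) (by omega)
      · rcases Nat.lt_or_ge v 69459 with h | h
        · rcases Nat.lt_or_ge v 67553 with h | h
          · exact aliasRange_spec E 1805 65748 aliases_21 v (by omega) (by omega)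
          · exact aliasRange_spec E 1906 67553 aliases_22 v (by omega) (by omega)
        · rcases Nat.lt_or_ge v 71339 with h | h
          · exact aliasRange_spec E 1880 69459 aliases_23 v (by omega) (by omega)
          · exact aliasRange_spec E 2029 71339 aliases_24 v (by omega) (by omega)
    · rcases Nat.lt_or_ge v 81437 with h | h
      · rcases Nat.lt_or_ge v 77493 with h | h
        · rcases Nat.lt_or_ge v 75515 with h | h
          · exact aliasRange_spec E 2147 73368 aliases_25 v (by omega) (by omega)
          · exact aliasRange_spec E 1978 75515 aliases_26 v (by omega) (by omega)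
        · rcases Nat.lt_or_ge v 79649 with h | h
          · exact aliasRange_spec E 2156 77493 aliases_27 v (by omega) (by omega)
          · exact aliasRange_spec E 1788 79649 aliases_28 v (by omega) (by omega)
      · rcases Nat.lt_or_ge v 84671 with h | h
        · rcases Nat.lt_or_ge v 83060 with h | h
          · exact aliasRange_spec E 1623 81437 aliases_29 v (by omega) (by omega)
          · exact aliasRange_spec E 1611 83060 aliases_30 v (by omega) (by omega)
        · rcases Nat.lt_or_ge v 86451 with h | h
          · exact aliasRange_spec E 1780 84671 aliases_31 v (by omega) (by omega)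
          · rcases Nat.lt_or_ge v 94303 with h | h
            · exact aliasRange_spec E 7852 86451 aliases_32 v (by omega) (by omega)
            · exact aliasRange_spec E 5544 94303 aliases_33 v (by omega) (by omega)

theorem hrows0 : ∀ v, v < 99847 → tb RS v = true → rowOK2 E RS v E.D.k = true := by
  intro v hv
  rcases Nat.lt_or_ge v 49500 with h | h
  · rcases Nat.lt_or_ge v 24000 with h | h
    · rcases Nat.lt_or_ge v 12000 with h | h
      · rcases Nat.lt_or_ge v 6000 with h | h
        · rcases Nat.lt_or_ge v 3000 with h | h
          · rcases Nat.lt_or_ge v 1500 with h | h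
            · exact rowsRange_spec E RS 1500 0 rows_0 v (by omega) (by omega)
            · exact rowsRange_spec E RS 1500 1500 rows_1 v (by omega) (by omega)
          · rcases Nat.lt_or_ge v 4500 with h | h
            · exact rowsRange_spec E RS 1500 3000 rows_2 v (by omega) (by omega)
            · exact rowsRange_spec E RS 1500 4500 rows_3 v (by omega) (by omega)
        · rcases Nat.lt_or_ge v 9000 with h | h
          · rcases Nat.lt_or_ge v 7500 with h | h
            · exact rowsRange_spec E RS 1500 6000 rows_4 v (by omega) (by omega)
            · exact rowsRange_spec E RS 1500 7500 rows_5 v (by omega) (by omega)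
          · rcases Nat.lt_or_ge v 10500 with h | h
            · exact rowsRange_spec E RS 1500 9000 rows_6 v (by omega) (by omega)
            · exact rowsRange_spec E RS 1500 10500 rows_7 v (by omega) (by omega)
      · rcases Nat.lt_or_ge v 18000 with h | h
        · rcases Nat.lt_or_ge v 15000 with h | h
          · rcases Nat.lt_or_ge v 13500 with h | h
            · exact rowsRange_spec E RS 1500 12000 rows_8 v (by omega) (by omega)
            · exact rowsRange_spec E RS 1500 13500 rows_9 v (by omega) (by omega)
          · rcases Nat.lt_or_ge v 16500 with h | h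
            · exact rowsRange_spec E RS 1500 15000 rows_10 v (by omega) (by omega)
            · exact rowsRange_spec E RS 1500 16500 rows_11 v (by omega) (by omega)
        · rcases Nat.lt_or_ge v 21000 with h | h
          · rcases Nat.lt_or_ge v 19500 with h | h
            · exact rowsRange_spec E RS 1500 18000 rows_12 v (by omega) (by omega)
            · exact rowsRange_spec E RS 1500 19500 rows_13 v (by omega) (by omega)
          · rcases Nat.lt_or_ge v 22500 with h | h
            · exact rowsRange_spec E RS 1500 21000 rows_14 v (by omega) (by omega)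
            · exact rowsRange_spec E RS 1500 22500 rows_15 v (by omega) (by omega)
    · rcases Nat.lt_or_ge v 36000 with h | h
      · rcases Nat.lt_or_ge v 30000 with h | h
        · rcases Nat.lt_or_ge v 27000 with h | h
          · rcases Nat.lt_or_ge v 25500 with h | h
            · exact rowsRange_spec E RS 1500 24000 rows_16 v (by omega) (by omega)
            · exact rowsRange_spec E RS 1500 25500 rows_17 v (by omega) (by omega)
          · rcases Nat.lt_or_ge v 28500 with h | h
            · exact rowsRange_spec E RS 1500 27000 rows_18 v (by omega) (by omega)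
            · exact rowsRange_spec E RS 1500 28500 rows_19 v (by omega) (by omega)
        · rcases Nat.lt_or_ge v 33000 with h | h
          · rcases Nat.lt_or_ge v 31500 with h | h
            · exact rowsRange_spec E RS 1500 30000 rows_20 v (by omega) (by omega)
            · exact rowsRange_spec E RS 1500 31500 rows_21 v (by omega) (by omega)
          · rcases Nat.lt_or_ge v 34500 with h | h
            · exact rowsRange_spec E RS 1500 33000 rows_22 v (by omega) (by omega)
            · exact rowsRange_spec E RS 1500 34500 rows_23 v (by omega) (by omega)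
      · rcases Nat.lt_or_ge v 42000 with h | h
        · rcases Nat.lt_or_ge v 39000 with h | h
          · rcases Nat.lt_or_ge v 37500 with h | h
            · exact rowsRange_spec E RS 1500 36000 rows_24 v (by omega) (by omega)
            · exact rowsRange_spec E RS 1500 37500 rows_25 v (by omega) (by omega)
          · rcases Nat.lt_or_ge v 40500 with h | h
            · exact rowsRange_spec E RS 1500 39000 rows_26 v (by omega) (by omega)
            · exact rowsRange_spec E RS 1500 40500 rows_27 v (by omega) (by omega)
        · rcases Nat.lt_or_ge v 45000 with h | h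
          · rcases Nat.lt_or_ge v 43500 with h | h
            · exact rowsRange_spec E RS 1500 42000 rows_28 v (by omega) (by omega)
            · exact rowsRange_spec E RS 1500 43500 rows_29 v (by omega) (by omega)
          · rcases Nat.lt_or_ge v 46500 with h | h
            · exact rowsRange_spec E RS 1500 45000 rows_30 v (by omega) (by omega)
            · rcases Nat.lt_or_ge v 48000 with h | h
              · exact rowsRange_spec E RS 1500 46500 rows_31 v (by omega) (by omega)
              · exact rowsRange_spec E RS 1500 48000 rows_32 v (by omega) (by omega)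
  · rcases Nat.lt_or_ge v 75000 with h | h
    · rcases Nat.lt_or_ge v 61500 with h | h
      · rcases Nat.lt_or_ge v 55500 with h | h
        · rcases Nat.lt_or_ge v 52500 with h | h
          · rcases Nat.lt_or_ge v 51000 with h | h
            · exact rowsRange_spec E RS 1500 49500 rows_33 v (by omega) (by omega)
            · exact rowsRange_spec E RS 1500 51000 rows_34 v (by omega) (by omega)
          · rcases Nat.lt_or_ge v 54000 with h | h
            · exact rowsRange_spec E RS 1500 52500 rows_35 v (by omega) (by omega)
            · exact rowsRange_spec E RS 1500 54000 rows_36 v (by omega) (by omega)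
        · rcases Nat.lt_or_ge v 58500 with h | h
          · rcases Nat.lt_or_ge v 57000 with h | h
            · exact rowsRange_spec E RS 1500 55500 rows_37 v (by omega) (by omega)
            · exact rowsRange_spec E RS 1500 57000 rows_38 v (by omega) (by omega)
          · rcases Nat.lt_or_ge v 60000 with h | h
            · exact rowsRange_spec E RS 1500 58500 rows_39 v (by omega) (by omega)
            · exact rowsRange_spec E RS 1500 60000 rows_40 v (by omega) (by omega)
      · rcases Nat.lt_or_ge v 67500 with h | h
        · rcases Nat.lt_or_ge v 64500 with h | h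
          · rcases Nat.lt_or_ge v 63000 with h | h
            · exact rowsRange_spec E RS 1500 61500 rows_41 v (by omega) (by omega)
            · exact rowsRange_spec E RS 1500 63000 rows_42 v (by omega) (by omega)
          · rcases Nat.lt_or_ge v 66000 with h | h
            · exact rowsRange_spec E RS 1500 64500 rows_43 v (by omega) (by omega)
            · exact rowsRange_spec E RS 1500 66000 rows_44 v (by omega) (by omega)
        · rcases Nat.lt_or_ge v 70500 with h | h
          · rcases Nat.lt_or_ge v 69000 with h | h
            · exact rowsRange_spec E RS 1500 67500 rows_45 v (by omega) (by omega)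
            · exact rowsRange_spec E RS 1500 69000 rows_46 v (by omega) (by omega)
          · rcases Nat.lt_or_ge v 72000 with h | h
            · exact rowsRange_spec E RS 1500 70500 rows_47 v (by omega) (by omega)
            · rcases Nat.lt_or_ge v 73500 with h | h
              · exact rowsRange_spec E RS 1500 72000 rows_48 v (by omega) (by omega)
              · exact rowsRange_spec E RS 1500 73500 rows_49 v (by omega) (by omega)
    · rcases Nat.lt_or_ge v 87000 with h | h
      · rcases Nat.lt_or_ge v 81000 with h | h
        · rcases Nat.lt_or_ge v 78000 with h | h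
          · rcases Nat.lt_or_ge v 76500 with h | h
            · exact rowsRange_spec E RS 1500 75000 rows_50 v (by omega) (by omega)
            · exact rowsRange_spec E RS 1500 76500 rows_51 v (by omega) (by omega)
          · rcases Nat.lt_or_ge v 79500 with h | h
            · exact rowsRange_spec E RS 1500 78000 rows_52 v (by omega) (by omega)
            · exact rowsRange_spec E RS 1500 79500 rows_53 v (by omega) (by omega)
        · rcases Nat.lt_or_ge v 84000 with h | h
          · rcases Nat.lt_or_ge v 82500 with h | h
            · exact rowsRange_spec E RS 1500 81000 rows_54 v (by omega) (by omega)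
            · exact rowsRange_spec E RS 1500 82500 rows_55 v (by omega) (by omega)
          · rcases Nat.lt_or_ge v 85500 with h | h
            · exact rowsRange_spec E RS 1500 84000 rows_56 v (by omega) (by omega)
            · exact rowsRange_spec E RS 1500 85500 rows_57 v (by omega) (by omega)
      · rcases Nat.lt_or_ge v 93000 with h | h
        · rcases Nat.lt_or_ge v 90000 with h | h
          · rcases Nat.lt_or_ge v 88500 with h | h
            · exact rowsRange_spec E RS 1500 87000 rows_58 v (by omega) (by omega)
            · exact rowsRange_spec E RS 1500 88500 rows_59 v (by omega) (by omega)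
          · rcases Nat.lt_or_ge v 91500 with h | h
            · exact rowsRange_spec E RS 1500 90000 rows_60 v (by omega) (by omega)
            · exact rowsRange_spec E RS 1500 91500 rows_61 v (by omega) (by omega)
        · rcases Nat.lt_or_ge v 96000 with h | h
          · rcases Nat.lt_or_ge v 94500 with h | h
            · exact rowsRange_spec E RS 1500 93000 rows_62 v (by omega) (by omega)
            · exact rowsRange_spec E RS 1500 94500 rows_63 v (by omega) (by omega)
          · rcases Nat.lt_or_ge v 97500 with h | h
            · exact rowsRange_spec E RS 1500 96000 rows_64 v (by omega) (by omega)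
            · rcases Nat.lt_or_ge v 99000 with h | h
              · exact rowsRange_spec E RS 1500 97500 rows_65 v (by omega) (by omega)
              · exact rowsRange_spec E RS 847 99000 rows_66 v (by omega) (by omega)

theorem cb_0 : cntBits RS 0 = 0 := rfl

theorem cb_1 : cntBits RS 20000 = 8008 := by
  have h := cntBits_step RS 0 20000
  rw [cb_0, cnt_0] at h
  exact h

theorem cb_2 : cntBits RS 40000 = 11678 := by
  have h := cntBits_step RS 20000 20000
  rw [cb_1, cnt_1] at h
  exact h

theorem cb_3 : cntBits RS 60000 = 14605 := by
  have h := cntBits_step RS 40000 20000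
  rw [cb_2, cnt_2] at h
  exact h

theorem cb_4 : cntBits RS 80000 = 17930 := by
  have h := cntBits_step RS 60000 20000
  rw [cb_3, cnt_3] at h
  exact h

theorem cb_5 : cntBits RS 99847 = 31671 := by
  have h := cntBits_step RS 80000 19847
  rw [cb_4, cnt_4] at h
  exact h

theorem set_ok : setOK 99847 31671 RS = true :=
  setOK_of_parts cb_5 set_zero set_lt

theorem relf_0 : ∀ v, v < 31671 → W_0 v = v := by
  intro v hv
  exact fixPtsF_spec W_0 31671 0 relc_0_0 v (by omega) (by omega)

set_option maxRecDepth 1000000 in
theorem walk_0 : ∀ v, walkT ctF (D.wlen 0) (D.wordP 0) v = W_0 v := by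
  intro v
  simp only [W_0, forceL_eq]
  rfl

theorem relw_0 : ∀ v, v < 31671 → walkT ctF (D.wlen 0) (D.wordP 0) v = v := by
  intro v hv
  rw [walk_0]
  exact relf_0 v hv

theorem relf_1 : ∀ v, v < 31671 → W_1 v = v := by
  intro v hv
  exact fixPtsF_spec W_1 31671 0 relc_1_0 v (by omega) (by omega)

set_option maxRecDepth 1000000 in
theorem walk_1 : ∀ v, walkT ctF (D.wlen 1) (D.wordP 1) v = W_1 v := by
  intro v
  simp only [W_1, forceL_eq]
  rfl

theorem relw_1 : ∀ v, v < 31671 → walkT ctF (D.wlen 1) (D.wordP 1) v = v := by
  intro v hv
  rw [walk_1]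
  exact relf_1 v hv

theorem relf_2 : ∀ v, v < 31671 → W_2 v = v := by
  intro v hv
  exact fixPtsF_spec W_2 31671 0 relc_2_0 v (by omega) (by omega)

set_option maxRecDepth 1000000 in
theorem walk_2 : ∀ v, walkT ctF (D.wlen 2) (D.wordP 2) v = W_2 v := by
  intro v
  simp only [W_2, forceL_eq]
  rfl

theorem relw_2 : ∀ v, v < 31671 → walkT ctF (D.wlen 2) (D.wordP 2) v = v := by
  intro v hv
  rw [walk_2]
  exact relf_2 v hv

theorem relf_3 : ∀ v, v < 31671 → W_3 v = v := by
  intro v hv
  exact fixPtsF_spec W_3 31671 0 relc_3_0 v (by omega) (by omega)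

set_option maxRecDepth 1000000 in
theorem walk_3 : ∀ v, walkT ctF (D.wlen 3) (D.wordP 3) v = W_3 v := by
  intro v
  simp only [W_3, forceL_eq]
  rfl

theorem relw_3 : ∀ v, v < 31671 → walkT ctF (D.wlen 3) (D.wordP 3) v = v := by
  intro v hv
  rw [walk_3]
  exact relf_3 v hv

theorem relf_4 : ∀ v, v < 31671 → W_4 v = v := by
  intro v hv
  exact fixPtsF_spec W_4 31671 0 relc_4_0 v (by omega) (by omega)

set_option maxRecDepth 1000000 in
theorem walk_4 : ∀ v, walkT ctF (D.wlen 4) (D.wordP 4) v = W_4 v := by
  intro v
  simp only [W_4, forceL_eq]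
  rfl

theorem relw_4 : ∀ v, v < 31671 → walkT ctF (D.wlen 4) (D.wordP 4) v = v := by
  intro v hv
  rw [walk_4]
  exact relf_4 v hv

theorem relf_5 : ∀ v, v < 31671 → W_5 v = v := by
  intro v hv
  exact fixPtsF_spec W_5 31671 0 relc_5_0 v (by omega) (by omega)

set_option maxRecDepth 1000000 in
theorem walk_5 : ∀ v, walkT ctF (D.wlen 5) (D.wordP 5) v = W_5 v := by
  intro v
  simp only [W_5, forceL_eq]
  rfl

theorem relw_5 : ∀ v, v < 31671 → walkT ctF (D.wlen 5) (D.wordP 5) v = v := by
  intro v hv
  rw [walk_5]
  exact relf_5 v hv

theorem relf_6 : ∀ v, v < 31671 → W_6 v = v := by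
  intro v hv
  exact fixPtsF_spec W_6 31671 0 relc_6_0 v (by omega) (by omega)

set_option maxRecDepth 1000000 in
theorem walk_6 : ∀ v, walkT ctF (D.wlen 6) (D.wordP 6) v = W_6 v := by
  intro v
  simp only [W_6, forceL_eq]
  rfl

theorem relw_6 : ∀ v, v < 31671 → walkT ctF (D.wlen 6) (D.wordP 6) v = v := by
  intro v hv
  rw [walk_6]
  exact relf_6 v hv

theorem relf_7 : ∀ v, v < 31671 → W_7 v = v := by
  intro v hv
  exact fixPtsF_spec W_7 31671 0 relc_7_0 v (by omega) (by omega)

set_option maxRecDepth 1000000 in
theorem walk_7 : ∀ v, walkT ctF (D.wlen 7) (D.wordP 7) v = W_7 v := by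
  intro v
  simp only [W_7, forceL_eq]
  rfl

theorem relw_7 : ∀ v, v < 31671 → walkT ctF (D.wlen 7) (D.wordP 7) v = v := by
  intro v hv
  rw [walk_7]
  exact relf_7 v hv

theorem relf_8 : ∀ v, v < 31671 → W_8 v = v := by
  intro v hv
  exact fixPtsF_spec W_8 31671 0 relc_8_0 v (by omega) (by omega)

set_option maxRecDepth 1000000 in
theorem walk_8 : ∀ v, walkT ctF (D.wlen 8) (D.wordP 8) v = W_8 v := by
  intro v
  simp only [W_8, forceL_eq]
  rfl

theorem relw_8 : ∀ v, v < 31671 → walkT ctF (D.wlen 8) (D.wordP 8) v = v := by
  intro v hv
  rw [walk_8]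
  exact relf_8 v hv

theorem relf_9 : ∀ v, v < 31671 → W_9 v = v := by
  intro v hv
  exact fixPtsF_spec W_9 31671 0 relc_9_0 v (by omega) (by omega)

set_option maxRecDepth 1000000 in
theorem walk_9 : ∀ v, walkT ctF (D.wlen 9) (D.wordP 9) v = W_9 v := by
  intro v
  simp only [W_9, forceL_eq]
  rfl

theorem relw_9 : ∀ v, v < 31671 → walkT ctF (D.wlen 9) (D.wordP 9) v = v := by
  intro v hv
  rw [walk_9]
  exact relf_9 v hv

theorem relf_10 : ∀ v, v < 31671 → W_10 v = v := by
  intro v hv
  exact fixPtsF_spec W_10 31671 0 relc_10_0 v (by omega) (by omega)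

set_option maxRecDepth 1000000 in
theorem walk_10 : ∀ v, walkT ctF (D.wlen 10) (D.wordP 10) v = W_10 v := by
  intro v
  simp only [W_10, forceL_eq]
  rfl

theorem relw_10 : ∀ v, v < 31671 → walkT ctF (D.wlen 10) (D.wordP 10) v = v := by
  intro v hv
  rw [walk_10]
  exact relf_10 v hv

theorem relf_11 : ∀ v, v < 31671 → W_11 v = v := by
  intro v hv
  exact fixPtsF_spec W_11 31671 0 relc_11_0 v (by omega) (by omega)

set_option maxRecDepth 1000000 in
theorem walk_11 : ∀ v, walkT ctF (D.wlen 11) (D.wordP 11) v = W_11 v := by
  intro v
  simp only [W_11, forceL_eq]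
  rfl

theorem relw_11 : ∀ v, v < 31671 → walkT ctF (D.wlen 11) (D.wordP 11) v = v := by
  intro v hv
  rw [walk_11]
  exact relf_11 v hv

theorem relf_12 : ∀ v, v < 31671 → W_12 v = v := by
  intro v hv
  exact fixPtsF_spec W_12 31671 0 relc_12_0 v (by omega) (by omega)

set_option maxRecDepth 1000000 in
theorem walk_12 : ∀ v, walkT ctF (D.wlen 12) (D.wordP 12) v = W_12 v := by
  intro v
  simp only [W_12, forceL_eq]
  rfl

theorem relw_12 : ∀ v, v < 31671 → walkT ctF (D.wlen 12) (D.wordP 12) v = v := by
  intro v hv
  rw [walk_12]
  exact relf_12 v hv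

theorem relf_13 : ∀ v, v < 31671 → W_13 v = v := by
  intro v hv
  exact fixPtsF_spec W_13 31671 0 relc_13_0 v (by omega) (by omega)

set_option maxRecDepth 1000000 in
theorem walk_13 : ∀ v, walkT ctF (D.wlen 13) (D.wordP 13) v = W_13 v := by
  intro v
  simp only [W_13, forceL_eq]
  rfl

theorem relw_13 : ∀ v, v < 31671 → walkT ctF (D.wlen 13) (D.wordP 13) v = v := by
  intro v hv
  rw [walk_13]
  exact relf_13 v hv

theorem relf_14 : ∀ v, v < 31671 → W_14 v = v := by
  intro v hv
  exact fixPtsF_spec W_14 31671 0 relc_14_0 v (by omega) (by omega)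

set_option maxRecDepth 1000000 in
theorem walk_14 : ∀ v, walkT ctF (D.wlen 14) (D.wordP 14) v = W_14 v := by
  intro v
  simp only [W_14, forceL_eq]
  rfl

theorem relw_14 : ∀ v, v < 31671 → walkT ctF (D.wlen 14) (D.wordP 14) v = v := by
  intro v hv
  rw [walk_14]
  exact relf_14 v hv

theorem relf_15 : ∀ v, v < 31671 → W_15 v = v := by
  intro v hv
  exact fixPtsF_spec W_15 31671 0 relc_15_0 v (by omega) (by omega)

set_option maxRecDepth 1000000 in
theorem walk_15 : ∀ v, walkT ctF (D.wlen 15) (D.wordP 15) v = W_15 v := by
  intro v
  simp only [W_15, forceL_eq]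
  rfl

theorem relw_15 : ∀ v, v < 31671 → walkT ctF (D.wlen 15) (D.wordP 15) v = v := by
  intro v hv
  rw [walk_15]
  exact relf_15 v hv

theorem relf_16 : ∀ v, v < 31671 → W_16 v = v := by
  intro v hv
  exact fixPtsF_spec W_16 31671 0 relc_16_0 v (by omega) (by omega)

set_option maxRecDepth 1000000 in
theorem walk_16 : ∀ v, walkT ctF (D.wlen 16) (D.wordP 16) v = W_16 v := by
  intro v
  simp only [W_16, forceL_eq]
  rfl

theorem relw_16 : ∀ v, v < 31671 → walkT ctF (D.wlen 16) (D.wordP 16) v = v := by
  intro v hv
  rw [walk_16]
  exact relf_16 v hv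

theorem relf_17 : ∀ v, v < 31671 → W_17 v = v := by
  intro v hv
  exact fixPtsF_spec W_17 31671 0 relc_17_0 v (by omega) (by omega)

set_option maxRecDepth 1000000 in
theorem walk_17 : ∀ v, walkT ctF (D.wlen 17) (D.wordP 17) v = W_17 v := by
  intro v
  simp only [W_17, forceL_eq]
  rfl

theorem relw_17 : ∀ v, v < 31671 → walkT ctF (D.wlen 17) (D.wordP 17) v = v := by
  intro v hv
  rw [walk_17]
  exact relf_17 v hv

theorem relf_18 : ∀ v, v < 31671 → W_18 v = v := by
  intro v hv
  exact fixPtsF_spec W_18 31671 0 relc_18_0 v (by omega) (by omega)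

set_option maxRecDepth 1000000 in
theorem walk_18 : ∀ v, walkT ctF (D.wlen 18) (D.wordP 18) v = W_18 v := by
  intro v
  simp only [W_18, forceL_eq]
  rfl

theorem relw_18 : ∀ v, v < 31671 → walkT ctF (D.wlen 18) (D.wordP 18) v = v := by
  intro v hv
  rw [walk_18]
  exact relf_18 v hv

theorem relf_19 : ∀ v, v < 31671 → W_19 v = v := by
  intro v hv
  exact fixPtsF_spec W_19 31671 0 relc_19_0 v (by omega) (by omega)

set_option maxRecDepth 1000000 in
theorem walk_19 : ∀ v, walkT ctF (D.wlen 19) (D.wordP 19) v = W_19 v := by
  intro v
  simp only [W_19, forceL_eq]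
  rfl

theorem relw_19 : ∀ v, v < 31671 → walkT ctF (D.wlen 19) (D.wordP 19) v = v := by
  intro v hv
  rw [walk_19]
  exact relf_19 v hv

theorem relf_20 : ∀ v, v < 31671 → W_20 v = v := by
  intro v hv
  exact fixPtsF_spec W_20 31671 0 relc_20_0 v (by omega) (by omega)

set_option maxRecDepth 1000000 in
theorem walk_20 : ∀ v, walkT ctF (D.wlen 20) (D.wordP 20) v = W_20 v := by
  intro v
  simp only [W_20, forceL_eq]
  rfl

theorem relw_20 : ∀ v, v < 31671 → walkT ctF (D.wlen 20) (D.wordP 20) v = v := by
  intro v hv
  rw [walk_20]
  exact relf_20 v hv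

theorem relf_21 : ∀ v, v < 31671 → W_21 v = v := by
  intro v hv
  exact fixPtsF_spec W_21 31671 0 relc_21_0 v (by omega) (by omega)

set_option maxRecDepth 1000000 in
theorem walk_21 : ∀ v, walkT ctF (D.wlen 21) (D.wordP 21) v = W_21 v := by
  intro v
  simp only [W_21, forceL_eq]
  rfl

theorem relw_21 : ∀ v, v < 31671 → walkT ctF (D.wlen 21) (D.wordP 21) v = v := by
  intro v hv
  rw [walk_21]
  exact relf_21 v hv

theorem relf_22 : ∀ v, v < 31671 → W_22 v = v := by
  intro v hv
  exact fixPtsF_spec W_22 31671 0 relc_22_0 v (by omega) (by omega)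

set_option maxRecDepth 1000000 in
theorem walk_22 : ∀ v, walkT ctF (D.wlen 22) (D.wordP 22) v = W_22 v := by
  intro v
  simp only [W_22, forceL_eq]
  rfl

theorem relw_22 : ∀ v, v < 31671 → walkT ctF (D.wlen 22) (D.wordP 22) v = v := by
  intro v hv
  rw [walk_22]
  exact relf_22 v hv

theorem relf_23 : ∀ v, v < 31671 → W_23 v = v := by
  intro v hv
  exact fixPtsF_spec W_23 31671 0 relc_23_0 v (by omega) (by omega)

set_option maxRecDepth 1000000 in
theorem walk_23 : ∀ v, walkT ctF (D.wlen 23) (D.wordP 23) v = W_23 v := by
  intro v
  simp only [W_23, forceL_eq]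
  rfl

theorem relw_23 : ∀ v, v < 31671 → walkT ctF (D.wlen 23) (D.wordP 23) v = v := by
  intro v hv
  rw [walk_23]
  exact relf_23 v hv

theorem relf_24 : ∀ v, v < 31671 → W_24 v = v := by
  intro v hv
  exact fixPtsF_spec W_24 31671 0 relc_24_0 v (by omega) (by omega)

set_option maxRecDepth 1000000 in
theorem walk_24 : ∀ v, walkT ctF (D.wlen 24) (D.wordP 24) v = W_24 v := by
  intro v
  simp only [W_24, forceL_eq]
  rfl

theorem relw_24 : ∀ v, v < 31671 → walkT ctF (D.wlen 24) (D.wordP 24) v = v := by
  intro v hv
  rw [walk_24]
  exact relf_24 v hv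

theorem relf_25 : ∀ v, v < 31671 → W_25 v = v := by
  intro v hv
  exact fixPtsF_spec W_25 31671 0 relc_25_0 v (by omega) (by omega)

set_option maxRecDepth 1000000 in
theorem walk_25 : ∀ v, walkT ctF (D.wlen 25) (D.wordP 25) v = W_25 v := by
  intro v
  simp only [W_25, forceL_eq]
  rfl

theorem relw_25 : ∀ v, v < 31671 → walkT ctF (D.wlen 25) (D.wordP 25) v = v := by
  intro v hv
  rw [walk_25]
  exact relf_25 v hv

theorem relf_26 : ∀ v, v < 31671 → W_26 v = v := by
  intro v hv
  exact fixPtsF_spec W_26 31671 0 relc_26_0 v (by omega) (by omega)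

set_option maxRecDepth 1000000 in
theorem walk_26 : ∀ v, walkT ctF (D.wlen 26) (D.wordP 26) v = W_26 v := by
  intro v
  simp only [W_26, forceL_eq]
  rfl

theorem relw_26 : ∀ v, v < 31671 → walkT ctF (D.wlen 26) (D.wordP 26) v = v := by
  intro v hv
  rw [walk_26]
  exact relf_26 v hv

theorem relf_27 : ∀ v, v < 31671 → W_27 v = v := by
  intro v hv
  exact fixPtsF_spec W_27 31671 0 relc_27_0 v (by omega) (by omega)

set_option maxRecDepth 1000000 in
theorem walk_27 : ∀ v, walkT ctF (D.wlen 27) (D.wordP 27) v = W_27 v := by
  intro v
  simp only [W_27, forceL_eq]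
  rfl

theorem relw_27 : ∀ v, v < 31671 → walkT ctF (D.wlen 27) (D.wordP 27) v = v := by
  intro v hv
  rw [walk_27]
  exact relf_27 v hv

theorem relf_28 : ∀ v, v < 31671 → W_28 v = v := by
  intro v hv
  exact fixPtsF_spec W_28 31671 0 relc_28_0 v (by omega) (by omega)

set_option maxRecDepth 1000000 in
theorem walk_28 : ∀ v, walkT ctF (D.wlen 28) (D.wordP 28) v = W_28 v := by
  intro v
  simp only [W_28, forceL_eq]
  rfl

theorem relw_28 : ∀ v, v < 31671 → walkT ctF (D.wlen 28) (D.wordP 28) v = v := by
  intro v hv
  rw [walk_28]
  exact relf_28 v hv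

theorem relf_29 : ∀ v, v < 31671 → W_29 v = v := by
  intro v hv
  exact fixPtsF_spec W_29 31671 0 relc_29_0 v (by omega) (by omega)

set_option maxRecDepth 1000000 in
theorem walk_29 : ∀ v, walkT ctF (D.wlen 29) (D.wordP 29) v = W_29 v := by
  intro v
  simp only [W_29, forceL_eq]
  rfl

theorem relw_29 : ∀ v, v < 31671 → walkT ctF (D.wlen 29) (D.wordP 29) v = v := by
  intro v hv
  rw [walk_29]
  exact relf_29 v hv

theorem relf_30 : ∀ v, v < 31671 → W_30 v = v := by
  intro v hv
  exact fixPtsF_spec W_30 31671 0 relc_30_0 v (by omega) (by omega)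

set_option maxRecDepth 1000000 in
theorem walk_30 : ∀ v, walkT ctF (D.wlen 30) (D.wordP 30) v = W_30 v := by
  intro v
  simp only [W_30, forceL_eq]
  rfl

theorem relw_30 : ∀ v, v < 31671 → walkT ctF (D.wlen 30) (D.wordP 30) v = v := by
  intro v hv
  rw [walk_30]
  exact relf_30 v hv

theorem relf_31 : ∀ v, v < 31671 → W_31 v = v := by
  intro v hv
  exact fixPtsF_spec W_31 31671 0 relc_31_0 v (by omega) (by omega)

set_option maxRecDepth 1000000 in
theorem walk_31 : ∀ v, walkT ctF (D.wlen 31) (D.wordP 31) v = W_31 v := by
  intro v
  simp only [W_31, forceL_eq]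
  rfl

theorem relw_31 : ∀ v, v < 31671 → walkT ctF (D.wlen 31) (D.wordP 31) v = v := by
  intro v hv
  rw [walk_31]
  exact relf_31 v hv

theorem relf_32 : ∀ v, v < 31671 → W_32 v = v := by
  intro v hv
  exact fixPtsF_spec W_32 31671 0 relc_32_0 v (by omega) (by omega)

set_option maxRecDepth 1000000 in
theorem walk_32 : ∀ v, walkT ctF (D.wlen 32) (D.wordP 32) v = W_32 v := by
  intro v
  simp only [W_32, forceL_eq]
  rfl

theorem relw_32 : ∀ v, v < 31671 → walkT ctF (D.wlen 32) (D.wordP 32) v = v := by
  intro v hv
  rw [walk_32]
  exact relf_32 v hv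

theorem relf_33 : ∀ v, v < 31671 → W_33 v = v := by
  intro v hv
  exact fixPtsF_spec W_33 31671 0 relc_33_0 v (by omega) (by omega)

set_option maxRecDepth 1000000 in
theorem walk_33 : ∀ v, walkT ctF (D.wlen 33) (D.wordP 33) v = W_33 v := by
  intro v
  simp only [W_33, forceL_eq]
  rfl

theorem relw_33 : ∀ v, v < 31671 → walkT ctF (D.wlen 33) (D.wordP 33) v = v := by
  intro v hv
  rw [walk_33]
  exact relf_33 v hv

theorem relf_34 : ∀ v, v < 31671 → W_34 v = v := by
  intro v hv
  exact fixPtsF_spec W_34 31671 0 relc_34_0 v (by omega) (by omega)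

set_option maxRecDepth 1000000 in
theorem walk_34 : ∀ v, walkT ctF (D.wlen 34) (D.wordP 34) v = W_34 v := by
  intro v
  simp only [W_34, forceL_eq]
  rfl

theorem relw_34 : ∀ v, v < 31671 → walkT ctF (D.wlen 34) (D.wordP 34) v = v := by
  intro v hv
  rw [walk_34]
  exact relf_34 v hv

theorem relf_35 : ∀ v, v < 31671 → W_35 v = v := by
  intro v hv
  exact fixPtsF_spec W_35 31671 0 relc_35_0 v (by omega) (by omega)

set_option maxRecDepth 1000000 in
theorem walk_35 : ∀ v, walkT ctF (D.wlen 35) (D.wordP 35) v = W_35 v := by
  intro v
  simp only [W_35, forceL_eq]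
  rfl

theorem relw_35 : ∀ v, v < 31671 → walkT ctF (D.wlen 35) (D.wordP 35) v = v := by
  intro v hv
  rw [walk_35]
  exact relf_35 v hv

theorem relf_36 : ∀ v, v < 31671 → W_36 v = v := by
  intro v hv
  exact fixPtsF_spec W_36 31671 0 relc_36_0 v (by omega) (by omega)

set_option maxRecDepth 1000000 in
theorem walk_36 : ∀ v, walkT ctF (D.wlen 36) (D.wordP 36) v = W_36 v := by
  intro v
  simp only [W_36, forceL_eq]
  rfl

theorem relw_36 : ∀ v, v < 31671 → walkT ctF (D.wlen 36) (D.wordP 36) v = v := by
  intro v hv
  rw [walk_36]
  exact relf_36 v hv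

theorem relf_37 : ∀ v, v < 31671 → W_37 v = v := by
  intro v hv
  exact fixPtsF_spec W_37 31671 0 relc_37_0 v (by omega) (by omega)

set_option maxRecDepth 1000000 in
theorem walk_37 : ∀ v, walkT ctF (D.wlen 37) (D.wordP 37) v = W_37 v := by
  intro v
  simp only [W_37, forceL_eq]
  rfl

theorem relw_37 : ∀ v, v < 31671 → walkT ctF (D.wlen 37) (D.wordP 37) v = v := by
  intro v hv
  rw [walk_37]
  exact relf_37 v hv

theorem relf_38 : ∀ v, v < 31671 → W_38 v = v := by
  intro v hv
  exact fixPtsF_spec W_38 31671 0 relc_38_0 v (by omega) (by omega)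

set_option maxRecDepth 1000000 in
theorem walk_38 : ∀ v, walkT ctF (D.wlen 38) (D.wordP 38) v = W_38 v := by
  intro v
  simp only [W_38, forceL_eq]
  rfl

theorem relw_38 : ∀ v, v < 31671 → walkT ctF (D.wlen 38) (D.wordP 38) v = v := by
  intro v hv
  rw [walk_38]
  exact relf_38 v hv

theorem relf_39 : ∀ v, v < 31671 → W_39 v = v := by
  intro v hv
  exact fixPtsF_spec W_39 31671 0 relc_39_0 v (by omega) (by omega)

set_option maxRecDepth 1000000 in
theorem walk_39 : ∀ v, walkT ctF (D.wlen 39) (D.wordP 39) v = W_39 v := by
  intro v
  simp only [W_39, forceL_eq]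
  rfl

theorem relw_39 : ∀ v, v < 31671 → walkT ctF (D.wlen 39) (D.wordP 39) v = v := by
  intro v hv
  rw [walk_39]
  exact relf_39 v hv

theorem relf_40 : ∀ v, v < 31671 → W_40 v = v := by
  intro v hv
  exact fixPtsF_spec W_40 31671 0 relc_40_0 v (by omega) (by omega)

set_option maxRecDepth 1000000 in
theorem walk_40 : ∀ v, walkT ctF (D.wlen 40) (D.wordP 40) v = W_40 v := by
  intro v
  simp only [W_40, forceL_eq]
  rfl

theorem relw_40 : ∀ v, v < 31671 → walkT ctF (D.wlen 40) (D.wordP 40) v = v := by
  intro v hv
  rw [walk_40]
  exact relf_40 v hv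

theorem relf_41 : ∀ v, v < 31671 → W_41 v = v := by
  intro v hv
  exact fixPtsF_spec W_41 31671 0 relc_41_0 v (by omega) (by omega)

set_option maxRecDepth 1000000 in
theorem walk_41 : ∀ v, walkT ctF (D.wlen 41) (D.wordP 41) v = W_41 v := by
  intro v
  simp only [W_41, forceL_eq]
  rfl

theorem relw_41 : ∀ v, v < 31671 → walkT ctF (D.wlen 41) (D.wordP 41) v = v := by
  intro v hv
  rw [walk_41]
  exact relf_41 v hv

theorem relf_42 : ∀ v, v < 31671 → W_42 v = v := by
  intro v hv
  exact fixPtsF_spec W_42 31671 0 relc_42_0 v (by omega) (by omega)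

set_option maxRecDepth 1000000 in
theorem walk_42 : ∀ v, walkT ctF (D.wlen 42) (D.wordP 42) v = W_42 v := by
  intro v
  simp only [W_42, forceL_eq]
  rfl

theorem relw_42 : ∀ v, v < 31671 → walkT ctF (D.wlen 42) (D.wordP 42) v = v := by
  intro v hv
  rw [walk_42]
  exact relf_42 v hv

theorem relf_43 : ∀ v, v < 31671 → W_43 v = v := by
  intro v hv
  exact fixPtsF_spec W_43 31671 0 relc_43_0 v (by omega) (by omega)

set_option maxRecDepth 1000000 in
theorem walk_43 : ∀ v, walkT ctF (D.wlen 43) (D.wordP 43) v = W_43 v := by
  intro v
  simp only [W_43, forceL_eq]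
  rfl

theorem relw_43 : ∀ v, v < 31671 → walkT ctF (D.wlen 43) (D.wordP 43) v = v := by
  intro v hv
  rw [walk_43]
  exact relf_43 v hv

theorem relf_44 : ∀ v, v < 31671 → W_44 v = v := by
  intro v hv
  exact fixPtsF_spec W_44 31671 0 relc_44_0 v (by omega) (by omega)

set_option maxRecDepth 1000000 in
theorem walk_44 : ∀ v, walkT ctF (D.wlen 44) (D.wordP 44) v = W_44 v := by
  intro v
  simp only [W_44, forceL_eq]
  rfl

theorem relw_44 : ∀ v, v < 31671 → walkT ctF (D.wlen 44) (D.wordP 44) v = v := by
  intro v hv
  rw [walk_44]
  exact relf_44 v hv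

theorem relf_45 : ∀ v, v < 31671 → W_45 v = v := by
  intro v hv
  exact fixPtsF_spec W_45 31671 0 relc_45_0 v (by omega) (by omega)

set_option maxRecDepth 1000000 in
theorem walk_45 : ∀ v, walkT ctF (D.wlen 45) (D.wordP 45) v = W_45 v := by
  intro v
  simp only [W_45, forceL_eq]
  rfl

theorem relw_45 : ∀ v, v < 31671 → walkT ctF (D.wlen 45) (D.wordP 45) v = v := by
  intro v hv
  rw [walk_45]
  exact relf_45 v hv

theorem relf_46 : ∀ v, v < 31671 → W_46 v = v := by
  intro v hv
  exact fixPtsF_spec W_46 31671 0 relc_46_0 v (by omega) (by omega)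

set_option maxRecDepth 1000000 in
theorem walk_46 : ∀ v, walkT ctF (D.wlen 46) (D.wordP 46) v = W_46 v := by
  intro v
  simp only [W_46, forceL_eq]
  rfl

theorem relw_46 : ∀ v, v < 31671 → walkT ctF (D.wlen 46) (D.wordP 46) v = v := by
  intro v hv
  rw [walk_46]
  exact relf_46 v hv

theorem relf_47 : ∀ v, v < 31671 → W_47 v = v := by
  intro v hv
  exact fixPtsF_spec W_47 31671 0 relc_47_0 v (by omega) (by omega)

set_option maxRecDepth 1000000 in
theorem walk_47 : ∀ v, walkT ctF (D.wlen 47) (D.wordP 47) v = W_47 v := by
  intro v
  simp only [W_47, forceL_eq]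
  rfl

theorem relw_47 : ∀ v, v < 31671 → walkT ctF (D.wlen 47) (D.wordP 47) v = v := by
  intro v hv
  rw [walk_47]
  exact relf_47 v hv

theorem relf_48 : ∀ v, v < 31671 → W_48 v = v := by
  intro v hv
  exact fixPtsF_spec W_48 31671 0 relc_48_0 v (by omega) (by omega)

set_option maxRecDepth 1000000 in
theorem walk_48 : ∀ v, walkT ctF (D.wlen 48) (D.wordP 48) v = W_48 v := by
  intro v
  simp only [W_48, forceL_eq]
  rfl

theorem relw_48 : ∀ v, v < 31671 → walkT ctF (D.wlen 48) (D.wordP 48) v = v := by
  intro v hv
  rw [walk_48]
  exact relf_48 v hv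

theorem relf_49 : ∀ v, v < 31671 → W_49 v = v := by
  intro v hv
  exact fixPtsF_spec W_49 31671 0 relc_49_0 v (by omega) (by omega)

set_option maxRecDepth 1000000 in
theorem walk_49 : ∀ v, walkT ctF (D.wlen 49) (D.wordP 49) v = W_49 v := by
  intro v
  simp only [W_49, forceL_eq]
  rfl

theorem relw_49 : ∀ v, v < 31671 → walkT ctF (D.wlen 49) (D.wordP 49) v = v := by
  intro v hv
  rw [walk_49]
  exact relf_49 v hv

theorem relf_50 : ∀ v, v < 31671 → W_50 v = v := by
  intro v hv
  exact fixPtsF_spec W_50 31671 0 relc_50_0 v (by omega) (by omega)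

set_option maxRecDepth 1000000 in
theorem walk_50 : ∀ v, walkT ctF (D.wlen 50) (D.wordP 50) v = W_50 v := by
  intro v
  simp only [W_50, forceL_eq]
  rfl

theorem relw_50 : ∀ v, v < 31671 → walkT ctF (D.wlen 50) (D.wordP 50) v = v := by
  intro v hv
  rw [walk_50]
  exact relf_50 v hv

theorem relf_51 : ∀ v, v < 31671 → W_51 v = v := by
  intro v hv
  exact fixPtsF_spec W_51 31671 0 relc_51_0 v (by omega) (by omega)

set_option maxRecDepth 1000000 in
theorem walk_51 : ∀ v, walkT ctF (D.wlen 51) (D.wordP 51) v = W_51 v := by
  intro v
  simp only [W_51, forceL_eq]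
  rfl

theorem relw_51 : ∀ v, v < 31671 → walkT ctF (D.wlen 51) (D.wordP 51) v = v := by
  intro v hv
  rw [walk_51]
  exact relf_51 v hv

theorem relf_52 : ∀ v, v < 31671 → W_52 v = v := by
  intro v hv
  exact fixPtsF_spec W_52 31671 0 relc_52_0 v (by omega) (by omega)

set_option maxRecDepth 1000000 in
theorem walk_52 : ∀ v, walkT ctF (D.wlen 52) (D.wordP 52) v = W_52 v := by
  intro v
  simp only [W_52, forceL_eq]
  rfl

theorem relw_52 : ∀ v, v < 31671 → walkT ctF (D.wlen 52) (D.wordP 52) v = v := by
  intro v hv
  rw [walk_52]
  exact relf_52 v hv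

theorem relf_53 : ∀ v, v < 31671 → W_53 v = v := by
  intro v hv
  exact fixPtsF_spec W_53 31671 0 relc_53_0 v (by omega) (by omega)

set_option maxRecDepth 1000000 in
theorem walk_53 : ∀ v, walkT ctF (D.wlen 53) (D.wordP 53) v = W_53 v := by
  intro v
  simp only [W_53, forceL_eq]
  rfl

theorem relw_53 : ∀ v, v < 31671 → walkT ctF (D.wlen 53) (D.wordP 53) v = v := by
  intro v hv
  rw [walk_53]
  exact relf_53 v hv

theorem relf_54 : ∀ v, v < 31671 → W_54 v = v := by
  intro v hv
  exact fixPtsF_spec W_54 31671 0 relc_54_0 v (by omega) (by omega)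

set_option maxRecDepth 1000000 in
theorem walk_54 : ∀ v, walkT ctF (D.wlen 54) (D.wordP 54) v = W_54 v := by
  intro v
  simp only [W_54, forceL_eq]
  rfl

theorem relw_54 : ∀ v, v < 31671 → walkT ctF (D.wlen 54) (D.wordP 54) v = v := by
  intro v hv
  rw [walk_54]
  exact relf_54 v hv

theorem relf_55 : ∀ v, v < 31671 → W_55 v = v := by
  intro v hv
  rcases Nat.lt_or_ge v 15554 with h | h
  · rcases Nat.lt_or_ge v 6666 with h | h
    · rcases Nat.lt_or_ge v 2222 with h | h
      · exact fixPtsF_spec W_55 2222 0 relc_55_0 v (by omega) (by omega)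
      · rcases Nat.lt_or_ge v 4444 with h | h
        · exact fixPtsF_spec W_55 2222 2222 relc_55_1 v (by omega) (by omega)
        · exact fixPtsF_spec W_55 2222 4444 relc_55_2 v (by omega) (by omega)
    · rcases Nat.lt_or_ge v 11110 with h | h
      · rcases Nat.lt_or_ge v 8888 with h | h
        · exact fixPtsF_spec W_55 2222 6666 relc_55_3 v (by omega) (by omega)
        · exact fixPtsF_spec W_55 2222 8888 relc_55_4 v (by omega) (by omega)
      · rcases Nat.lt_or_ge v 13332 with h | h
        · exact fixPtsF_spec W_55 2222 11110 relc_55_5 v (by omega) (by omega)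
        · exact fixPtsF_spec W_55 2222 13332 relc_55_6 v (by omega) (by omega)
  · rcases Nat.lt_or_ge v 24442 with h | h
    · rcases Nat.lt_or_ge v 19998 with h | h
      · rcases Nat.lt_or_ge v 17776 with h | h
        · exact fixPtsF_spec W_55 2222 15554 relc_55_7 v (by omega) (by omega)
        · exact fixPtsF_spec W_55 2222 17776 relc_55_8 v (by omega) (by omega)
      · rcases Nat.lt_or_ge v 22220 with h | h
        · exact fixPtsF_spec W_55 2222 19998 relc_55_9 v (by omega) (by omega)
        · exact fixPtsF_spec W_55 2222 22220 relc_55_10 v (by omega) (by omega)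
    · rcases Nat.lt_or_ge v 28886 with h | h
      · rcases Nat.lt_or_ge v 26664 with h | h
        · exact fixPtsF_spec W_55 2222 24442 relc_55_11 v (by omega) (by omega)
        · exact fixPtsF_spec W_55 2222 26664 relc_55_12 v (by omega) (by omega)
      · rcases Nat.lt_or_ge v 31108 with h | h
        · exact fixPtsF_spec W_55 2222 28886 relc_55_13 v (by omega) (by omega)
        · exact fixPtsF_spec W_55 563 31108 relc_55_14 v (by omega) (by omega)

set_option maxRecDepth 1000000 in
theorem walk_55 : ∀ v, walkT ctF (D.wlen 55) (D.wordP 55) v = W_55 v := by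
  intro v
  simp only [W_55, forceL_eq]
  rfl

theorem relw_55 : ∀ v, v < 31671 → walkT ctF (D.wlen 55) (D.wordP 55) v = v := by
  intro v hv
  rw [walk_55]
  exact relf_55 v hv

theorem invx_0 : ∀ v, v < 31671 → ctF 0 v < 31671 ∧ ctF 0 (ctF 0 v) = v := by
  intro v hv
  exact invRowFI_spec ctF 31671 0 0 31671 0 inv_0_0 v (by omega) (by omega)

theorem invx_1 : ∀ v, v < 31671 → ctF 1 v < 31671 ∧ ctF 1 (ctF 1 v) = v := by
  intro v hv
  exact invRowFI_spec ctF 31671 1 1 31671 0 inv_1_0 v (by omega) (by omega)

theorem invx_2 : ∀ v, v < 31671 → ctF 2 v < 31671 ∧ ctF 2 (ctF 2 v) = v := by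
  intro v hv
  exact invRowFI_spec ctF 31671 2 2 31671 0 inv_2_0 v (by omega) (by omega)

theorem invx_3 : ∀ v, v < 31671 → ctF 3 v < 31671 ∧ ctF 3 (ctF 3 v) = v := by
  intro v hv
  exact invRowFI_spec ctF 31671 3 3 31671 0 inv_3_0 v (by omega) (by omega)

theorem invx_4 : ∀ v, v < 31671 → ctF 4 v < 31671 ∧ ctF 4 (ctF 4 v) = v := by
  intro v hv
  exact invRowFI_spec ctF 31671 4 4 31671 0 inv_4_0 v (by omega) (by omega)

theorem invx_5 : ∀ v, v < 31671 → ctF 5 v < 31671 ∧ ctF 5 (ctF 5 v) = v := by
  intro v hv
  exact invRowFI_spec ctF 31671 5 5 31671 0 inv_5_0 v (by omega) (by omega)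

theorem invx_6 : ∀ v, v < 31671 → ctF 6 v < 31671 ∧ ctF 6 (ctF 6 v) = v := by
  intro v hv
  exact invRowFI_spec ctF 31671 6 6 31671 0 inv_6_0 v (by omega) (by omega)

theorem invx_7 : ∀ v, v < 31671 → ctF 7 v < 31671 ∧ ctF 7 (ctF 7 v) = v := by
  intro v hv
  exact invRowFI_spec ctF 31671 7 7 31671 0 inv_7_0 v (by omega) (by omega)

theorem invx_8 : ∀ v, v < 31671 → ctF 8 v < 31671 ∧ ctF 8 (ctF 8 v) = v := by
  intro v hv
  exact invRowFI_spec ctF 31671 8 8 31671 0 inv_8_0 v (by omega) (by omega)

theorem invx_9 : ∀ v, v < 31671 → ctF 9 v < 31671 ∧ ctF 9 (ctF 9 v) = v := by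
  intro v hv
  exact invRowFI_spec ctF 31671 9 9 31671 0 inv_9_0 v (by omega) (by omega)

theorem hconn : ∀ v, v < 31671 → v ≠ 0 → ∃ x, x < E.D.k ∧ ctF x v < v := by
  intro v hv
  exact connF_spec ctF 10 31671 0 conn_0 v (by omega) (by omega)

theorem hE : ∀ v, v < E.M → ∀ x, x < E.D.k → edgeOKI iota E x v = true := by
  intro v hv x hx
  have hv' : v < 99847 := hv
  have hx' : x < 10 := hx
  interval_cases x
  · exact edgesx_0 v hv'
  · exact edgesx_1 v hv'
  · exact edgesx_2 v hv'
  · exact edgesx_3 v hv'
  · exact edgesx_4 v hv'
  · exact edgesx_5 v hv'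
  · exact edgesx_6 v hv'
  · exact edgesx_7 v hv'
  · exact edgesx_8 v hv'
  · exact edgesx_9 v hv'

theorem hA : ∀ v, v < E.M → aliasOK E v = true := fun v hv => hA0 v hv

theorem hrows : ∀ v, v < E.M → tb RS v = true → rowOK2 E RS v E.D.k = true := fun v hv => hrows0 v hv

theorem hT : ∀ x, x < E.D.k → ∀ v, v < 31671 → ctF x v < 31671 ∧ ctF (iota x) (ctF x v) = v := by
  intro x hx
  have hx' : x < 10 := hx
  interval_cases x
  · exact invx_0
  · exact invx_1
  · exact invx_2
  · exact invx_3
  · exact invx_4
  · exact invx_5
  · exact invx_6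
  · exact invx_7
  · exact invx_8
  · exact invx_9

theorem hltr : ∀ j, j < E.D.nw → lettersOK E.D.k (E.D.wlen j) (E.D.wordP j) = true :=
  wordsOK_spec D D.nw words_ok

theorem hrelT : ∀ wi, wi < E.D.nrel → ∀ v, v < 31671 →
    walkT ctF (E.D.wlen wi) (E.D.wordP wi) v = v := by
  intro wi hwi
  have hwi' : wi < 56 := hwi
  interval_cases wi
  · exact relw_0
  · exact relw_1
  · exact relw_2
  · exact relw_3
  · exact relw_4
  · exact relw_5
  · exact relw_6
  · exact relw_7
  · exact relw_8
  · exact relw_9
  · exact relw_10
  · exact relw_11
  · exact relw_12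
  · exact relw_13
  · exact relw_14
  · exact relw_15
  · exact relw_16
  · exact relw_17
  · exact relw_18
  · exact relw_19
  · exact relw_20
  · exact relw_21
  · exact relw_22
  · exact relw_23
  · exact relw_24
  · exact relw_25
  · exact relw_26
  · exact relw_27
  · exact relw_28
  · exact relw_29
  · exact relw_30
  · exact relw_31
  · exact relw_32
  · exact relw_33
  · exact relw_34
  · exact relw_35
  · exact relw_36
  · exact relw_37
  · exact relw_38
  · exact relw_39
  · exact relw_40
  · exact relw_41
  · exact relw_42
  · exact relw_43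
  · exact relw_44
  · exact relw_45
  · exact relw_46
  · exact relw_47
  · exact relw_48
  · exact relw_49
  · exact relw_50
  · exact relw_51
  · exact relw_52
  · exact relw_53
  · exact relw_54
  · exact relw_55

theorem hsubT : ∀ wi, wi < E.D.nw → E.D.nrel ≤ wi →
    walkT ctF (E.D.wlen wi) (E.D.wordP wi) 0 = 0 :=
  subAll_spec ctF D D.nw sub_ok

end Cfsg.Agent.Helper3.Y5BTC
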