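import Cfsg.Agent.Helper3.Y5CTCDatD
import Cfsg.Agent.Helper5.TCIB

/-! kernel checks of edges, aliases, rows: Y5CTC -/

set_option autoImplicit false
set_option Elab.async false

namespace Cfsg.Agent.Helper3.Y5CTC
open Cfsg.Agent.Helper5.TC Cfsg.Agent.Helper5.TCI

set_option maxRecDepth 1000000 in
theorem cnt_0 : cntFrom RS 20000 0 0 = 7745 := by decide +kernel

set_option maxRecDepth 1000000 in
theorem edges_2_0 : edgesRangeI iota E 2 2194 0 = true := by decide +kernel

set_option maxRecDepth 1000000 in
theorem edges_2_19 : edgesRangeI iota E 2 1864 55650 = true := by decide +kernel

set_option maxRecDepth 1000000 in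
theorem edges_5_16 : edgesRangeI iota E 5 2274 53206 = true := by decide +kernel

set_option maxRecDepth 1000000 in
theorem edges_7_9 : edgesRangeI iota E 7 2609 21122 = true := by decide +kernel

set_option maxRecDepth 1000000 in
theorem edges_8_22 : edgesRangeI iota E 8 1863 63167 = true := by decide +kernel

set_option maxRecDepth 1000000 in
theorem edges_2_20 : edgesRangeI iota E 2 1899 57514 = true := by decide +kernel

set_option maxRecDepth 1000000 in
theorem edges_4_12 : edgesRangeI iota E 4 3160 39620 = true := by decide +kernel

set_option maxRecDepth 1000000 in
theorem edges_6_12 : edgesRangeI iota E 6 3679 35024 = true := by decide +kernel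

set_option maxRecDepth 1000000 in
theorem aliases_12 : aliasRange E 2344 39583 = true := by decide +kernel

set_option maxRecDepth 1000000 in
theorem edges_1_20 : edgesRangeI iota E 1 1788 60100 = true := by decide +kernel

set_option maxRecDepth 1000000 in
theorem edges_6_9 : edgesRangeI iota E 6 3246 25487 = true := by decide +kernel

set_option maxRecDepth 1000000 in
theorem edges_8_7 : edgesRangeI iota E 8 3293 23879 = true := by decide +kernel

set_option maxRecDepth 1000000 in
theorem aliases_13 : aliasRange E 2299 41927 = true := by decide +kernel

set_option maxRecDepth 1000000 in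
theorem edges_1_21 : edgesRangeI iota E 1 1681 61888 = true := by decide +kernel

set_option maxRecDepth 1000000 in
theorem edges_4_2 : edgesRangeI iota E 4 3190 5575 = true := by decide +kernel

set_option maxRecDepth 1000000 in
theorem edges_6_8 : edgesRangeI iota E 6 3014 22473 = true := by decide +kernel

set_option maxRecDepth 1000000 in
theorem edges_7_8 : edgesRangeI iota E 7 2511 18611 = true := by decide +kernel

set_option maxRecDepth 1000000 in
theorem edges_0_2 : edgesRangeI iota E 0 2905 4905 = true := by decide +kernel

set_option maxRecDepth 1000000 in
theorem edges_1_2 : edgesRangeI iota E 1 2846 4537 = true := by decide +kernel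

set_option maxRecDepth 1000000 in
theorem edges_2_10 : edgesRangeI iota E 2 3113 28813 = true := by decide +kernel

set_option maxRecDepth 1000000 in
theorem edges_3_20 : edgesRangeI iota E 3 1896 61724 = true := by decide +kernel

set_option maxRecDepth 1000000 in
theorem edges_4_15 : edgesRangeI iota E 4 3032 49699 = true := by decide +kernel

set_option maxRecDepth 1000000 in
theorem edges_7_1 : edgesRangeI iota E 7 2194 2209 = true := by decide +kernel

set_option maxRecDepth 1000000 in
theorem edges_8_18 : edgesRangeI iota E 8 1764 55962 = true := by decide +kernel

set_option maxRecDepth 1000000 in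
theorem edges_0_4 : edgesRangeI iota E 0 3261 10912 = true := by decide +kernel

set_option maxRecDepth 1000000 in
theorem edges_1_1 : edgesRangeI iota E 1 2409 2128 = true := by decide +kernel

set_option maxRecDepth 1000000 in
theorem edges_1_13 : edgesRangeI iota E 1 3546 41463 = true := by decide +kernel

set_option maxRecDepth 1000000 in
theorem edges_2_14 : edgesRangeI iota E 2 3225 41778 = true := by decide +kernel

set_option maxRecDepth 1000000 in
theorem edges_3_7 : edgesRangeI iota E 3 3574 22109 = true := by decide +kernel

set_option maxRecDepth 1000000 in
theorem edges_4_7 : edgesRangeI iota E 4 3309 22071 = true := by decide +kernel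

set_option maxRecDepth 1000000 in
theorem edges_5_5 : edgesRangeI iota E 5 3416 14142 = true := by decide +kernel

set_option maxRecDepth 1000000 in
theorem edges_5_13 : edgesRangeI iota E 5 3888 42570 = true := by decide +kernel

set_option maxRecDepth 1000000 in
theorem edges_6_18 : edgesRangeI iota E 6 2228 54186 = true := by decide +kernel

set_option maxRecDepth 1000000 in
theorem edges_7_23 : edgesRangeI iota E 7 2360 58663 = true := by decide +kernel

set_option maxRecDepth 1000000 in
theorem edges_8_11 : edgesRangeI iota E 8 3356 36569 = true := by decide +kernel

set_option maxRecDepth 1000000 in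
theorem aliases_6 : aliasRange E 3188 22075 = true := by decide +kernel

set_option maxRecDepth 1000000 in
theorem edges_6_22 : edgesRangeI iota E 6 1776 63647 = true := by decide +kernel

set_option maxRecDepth 1000000 in
theorem rows_3 : rowsRange E RS 1500 4500 = true := by decide +kernel

set_option maxRecDepth 1000000 in
theorem rows_9 : rowsRange E RS 1500 13500 = true := by decide +kernel

set_option maxRecDepth 1000000 in
theorem rows_15 : rowsRange E RS 1500 22500 = true := by decide +kernel

set_option maxRecDepth 1000000 in
theorem rows_21 : rowsRange E RS 1500 31500 = true := by decide +kernel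

set_option maxRecDepth 1000000 in
theorem rows_27 : rowsRange E RS 1500 40500 = true := by decide +kernel

set_option maxRecDepth 1000000 in
theorem rows_33 : rowsRange E RS 1500 49500 = true := by decide +kernel

set_option maxRecDepth 1000000 in
theorem rows_39 : rowsRange E RS 1500 58500 = true := by decide +kernel

set_option maxRecDepth 1000000 in
theorem cnt_3 : cntFrom RS 5423 60000 0 = 5423 := by decide +kernel

set_option maxRecDepth 1000000 in
theorem edges_7_25 : edgesRangeI iota E 7 829 64594 = true := by decide +kernel

end Cfsg.Agent.Helper3.Y5CTC
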