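import Cfsg.Agent.Helper3.Y5CTCDatD
import Cfsg.Agent.Helper5.TCIB

/-! kernel checks of edges, aliases, rows: Y5CTC -/

set_option autoImplicit false
set_option Elab.async false

namespace Cfsg.Agent.Helper3.Y5CTC
open Cfsg.Agent.Helper5.TC Cfsg.Agent.Helper5.TCI

set_option maxRecDepth 1000000 in
theorem cnt_1 : cntFrom RS 20000 20000 0 = 4768 := by decide +kernel

set_option maxRecDepth 1000000 in
theorem edges_2_2 : edgesRangeI iota E 2 2772 4569 = true := by decide +kernel

set_option maxRecDepth 1000000 in
theorem edges_3_2 : edgesRangeI iota E 3 3000 5106 = true := by decide +kernel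

set_option maxRecDepth 1000000 in
theorem edges_6_5 : edgesRangeI iota E 6 2801 13106 = true := by decide +kernel

set_option maxRecDepth 1000000 in
theorem edges_7_11 : edgesRangeI iota E 7 3120 26207 = true := by decide +kernel

set_option maxRecDepth 1000000 in
theorem edges_0_12 : edgesRangeI iota E 0 3743 40465 = true := by decide +kernel

set_option maxRecDepth 1000000 in
theorem edges_1_22 : edgesRangeI iota E 1 1737 63569 = true := by decide +kernel

set_option maxRecDepth 1000000 in
theorem edges_3_15 : edgesRangeI iota E 3 2895 51087 = true := by decide +kernel

set_option maxRecDepth 1000000 in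
theorem edges_5_15 : edgesRangeI iota E 5 3464 49742 = true := by decide +kernel

set_option maxRecDepth 1000000 in
theorem aliases_10 : aliasRange E 2636 34687 = true := by decide +kernel

set_option maxRecDepth 1000000 in
theorem edges_0_15 : edgesRangeI iota E 0 2888 51287 = true := by decide +kernel

set_option maxRecDepth 1000000 in
theorem edges_5_19 : edgesRangeI iota E 5 2117 60129 = true := by decide +kernel

set_option maxRecDepth 1000000 in
theorem edges_7_7 : edgesRangeI iota E 7 2434 16177 = true := by decide +kernel

set_option maxRecDepth 1000000 in
theorem aliases_0 : aliasRange E 4275 0 = true := by decide +kernel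

set_option maxRecDepth 1000000 in
theorem edges_0_20 : edgesRangeI iota E 0 1857 62309 = true := by decide +kernel

set_option maxRecDepth 1000000 in
theorem edges_3_16 : edgesRangeI iota E 3 1951 53982 = true := by decide +kernel

set_option maxRecDepth 1000000 in
theorem edges_5_17 : edgesRangeI iota E 5 2280 55480 = true := by decide +kernel

set_option maxRecDepth 1000000 in
theorem edges_7_2 : edgesRangeI iota E 7 2281 4403 = true := by decide +kernel

set_option maxRecDepth 1000000 in
theorem edges_8_19 : edgesRangeI iota E 8 1758 57726 = true := by decide +kernel

set_option maxRecDepth 1000000 in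
theorem edges_1_8 : edgesRangeI iota E 1 3163 23963 = true := by decide +kernel

set_option maxRecDepth 1000000 in
theorem edges_2_15 : edgesRangeI iota E 2 3268 45003 = true := by decide +kernel

set_option maxRecDepth 1000000 in
theorem edges_4_1 : edgesRangeI iota E 4 2987 2588 = true := by decide +kernel

set_option maxRecDepth 1000000 in
theorem edges_4_20 : edgesRangeI iota E 4 1867 60254 = true := by decide +kernel

set_option maxRecDepth 1000000 in
theorem edges_7_10 : edgesRangeI iota E 7 2476 23731 = true := by decide +kernel

set_option maxRecDepth 1000000 in
theorem edges_8_20 : edgesRangeI iota E 8 1896 59484 = true := by decide +kernel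

set_option maxRecDepth 1000000 in
theorem edges_0_5 : edgesRangeI iota E 0 3548 14173 = true := by decide +kernel

set_option maxRecDepth 1000000 in
theorem edges_1_4 : edgesRangeI iota E 1 3242 10417 = true := by decide +kernel

set_option maxRecDepth 1000000 in
theorem edges_1_14 : edgesRangeI iota E 1 3359 45009 = true := by decide +kernel

set_option maxRecDepth 1000000 in
theorem edges_2_17 : edgesRangeI iota E 2 2606 51170 = true := by decide +kernel

set_option maxRecDepth 1000000 in
theorem edges_3_8 : edgesRangeI iota E 3 4042 25683 = true := by decide +kernel

set_option maxRecDepth 1000000 in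
theorem edges_4_8 : edgesRangeI iota E 4 3554 25380 = true := by decide +kernel

set_option maxRecDepth 1000000 in
theorem edges_5_8 : edgesRangeI iota E 5 3316 24403 = true := by decide +kernel

set_option maxRecDepth 1000000 in
theorem edges_6_0 : edgesRangeI iota E 6 1953 0 = true := by decide +kernel

set_option maxRecDepth 1000000 in
theorem edges_6_20 : edgesRangeI iota E 6 2626 58833 = true := by decide +kernel

set_option maxRecDepth 1000000 in
theorem edges_7_24 : edgesRangeI iota E 7 3571 61023 = true := by decide +kernel

set_option maxRecDepth 1000000 in
theorem edges_8_12 : edgesRangeI iota E 8 3010 39925 = true := by decide +kernel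

set_option maxRecDepth 1000000 in
theorem aliases_8 : aliasRange E 3028 28566 = true := by decide +kernel

set_option maxRecDepth 1000000 in
theorem aliases_19 : aliasRange E 7206 58217 = true := by decide +kernel

set_option maxRecDepth 1000000 in
theorem rows_2 : rowsRange E RS 1500 3000 = true := by decide +kernel

set_option maxRecDepth 1000000 in
theorem rows_8 : rowsRange E RS 1500 12000 = true := by decide +kernel

set_option maxRecDepth 1000000 in
theorem rows_14 : rowsRange E RS 1500 21000 = true := by decide +kernel

set_option maxRecDepth 1000000 in
theorem rows_20 : rowsRange E RS 1500 30000 = true := by decide +kernel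

set_option maxRecDepth 1000000 in
theorem rows_26 : rowsRange E RS 1500 39000 = true := by decide +kernel

set_option maxRecDepth 1000000 in
theorem rows_32 : rowsRange E RS 1500 48000 = true := by decide +kernel

set_option maxRecDepth 1000000 in
theorem rows_38 : rowsRange E RS 1500 57000 = true := by decide +kernel

set_option maxRecDepth 1000000 in
theorem edges_2_24 : edgesRangeI iota E 2 875 64548 = true := by decide +kernel

set_option maxRecDepth 1000000 in
theorem edges_8_23 : edgesRangeI iota E 8 393 65030 = true := by decide +kernel

end Cfsg.Agent.Helper3.Y5CTC
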