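import Cfsg.Agent.Helper3.Y5CTCDatD
import Cfsg.Agent.Helper5.TCIB

/-! kernel checks of edges, aliases, rows: Y5CTC -/

set_option autoImplicit false
set_option Elab.async false

namespace Cfsg.Agent.Helper3.Y5CTC
open Cfsg.Agent.Helper5.TC Cfsg.Agent.Helper5.TCI

set_option maxRecDepth 1000000 in
theorem cnt_2 : cntFrom RS 20000 40000 0 = 10224 := by decide +kernel

set_option maxRecDepth 1000000 in
theorem edges_2_3 : edgesRangeI iota E 2 2794 7341 = true := by decide +kernel

set_option maxRecDepth 1000000 in
theorem edges_4_14 : edgesRangeI iota E 4 3124 46575 = true := by decide +kernel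

set_option maxRecDepth 1000000 in
theorem edges_6_6 : edgesRangeI iota E 6 3253 15907 = true := by decide +kernel

set_option maxRecDepth 1000000 in
theorem edges_7_14 : edgesRangeI iota E 7 3249 34454 = true := by decide +kernel

set_option maxRecDepth 1000000 in
theorem edges_0_14 : edgesRangeI iota E 0 3098 48189 = true := by decide +kernel

set_option maxRecDepth 1000000 in
theorem edges_2_11 : edgesRangeI iota E 2 3194 31926 = true := by decide +kernel

set_option maxRecDepth 1000000 in
theorem edges_4_0 : edgesRangeI iota E 4 2588 0 = true := by decide +kernel

set_option maxRecDepth 1000000 in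
theorem edges_6_3 : edgesRangeI iota E 6 2902 7183 = true := by decide +kernel

set_option maxRecDepth 1000000 in
theorem aliases_11 : aliasRange E 2260 37323 = true := by decide +kernel

set_option maxRecDepth 1000000 in
theorem edges_1_12 : edgesRangeI iota E 1 3206 38257 = true := by decide +kernel

set_option maxRecDepth 1000000 in
theorem edges_6_4 : edgesRangeI iota E 6 3021 10085 = true := by decide +kernel

set_option maxRecDepth 1000000 in
theorem edges_7_17 : edgesRangeI iota E 7 3212 43315 = true := by decide +kernel

set_option maxRecDepth 1000000 in
theorem aliases_7 : aliasRange E 3303 25263 = true := by decide +kernel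

set_option maxRecDepth 1000000 in
theorem edges_1_9 : edgesRangeI iota E 1 3882 27126 = true := by decide +kernel

set_option maxRecDepth 1000000 in
theorem edges_3_21 : edgesRangeI iota E 3 1763 63620 = true := by decide +kernel

set_option maxRecDepth 1000000 in
theorem edges_5_20 : edgesRangeI iota E 5 1792 62246 = true := by decide +kernel

set_option maxRecDepth 1000000 in
theorem edges_7_5 : edgesRangeI iota E 7 2420 11283 = true := by decide +kernel

set_option maxRecDepth 1000000 in
theorem aliases_1 : aliasRange E 3690 4275 = true := by decide +kernel

set_option maxRecDepth 1000000 in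
theorem edges_1_16 : edgesRangeI iota E 1 2587 51574 = true := by decide +kernel

set_option maxRecDepth 1000000 in
theorem edges_3_1 : edgesRangeI iota E 3 2921 2185 = true := by decide +kernel

set_option maxRecDepth 1000000 in
theorem edges_4_3 : edgesRangeI iota E 4 3272 8765 = true := by decide +kernel

set_option maxRecDepth 1000000 in
theorem edges_5_6 : edgesRangeI iota E 5 3140 17558 = true := by decide +kernel

set_option maxRecDepth 1000000 in
theorem edges_7_12 : edgesRangeI iota E 7 2428 29327 = true := by decide +kernel

set_option maxRecDepth 1000000 in
theorem edges_8_21 : edgesRangeI iota E 8 1787 61380 = true := by decide +kernel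

set_option maxRecDepth 1000000 in
theorem edges_0_8 : edgesRangeI iota E 0 3808 24791 = true := by decide +kernel

set_option maxRecDepth 1000000 in
theorem edges_1_5 : edgesRangeI iota E 1 3452 13659 = true := by decide +kernel

set_option maxRecDepth 1000000 in
theorem edges_1_17 : edgesRangeI iota E 1 1978 54161 = true := by decide +kernel

set_option maxRecDepth 1000000 in
theorem edges_2_18 : edgesRangeI iota E 2 1874 53776 = true := by decide +kernel

set_option maxRecDepth 1000000 in
theorem edges_3_9 : edgesRangeI iota E 3 3529 29725 = true := by decide +kernel

set_option maxRecDepth 1000000 in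
theorem edges_4_11 : edgesRangeI iota E 4 3950 35670 = true := by decide +kernel

set_option maxRecDepth 1000000 in
theorem edges_5_9 : edgesRangeI iota E 5 3819 27719 = true := by decide +kernel

set_option maxRecDepth 1000000 in
theorem edges_6_1 : edgesRangeI iota E 6 2417 1953 = true := by decide +kernel

set_option maxRecDepth 1000000 in
theorem edges_7_0 : edgesRangeI iota E 7 2209 0 = true := by decide +kernel

set_option maxRecDepth 1000000 in
theorem edges_8_0 : edgesRangeI iota E 8 3630 0 = true := by decide +kernel

set_option maxRecDepth 1000000 in
theorem edges_8_13 : edgesRangeI iota E 8 3140 42935 = true := by decide +kernel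

set_option maxRecDepth 1000000 in
theorem aliases_15 : aliasRange E 2162 46189 = true := by decide +kernel

set_option maxRecDepth 1000000 in
theorem edges_5_21 : edgesRangeI iota E 5 1385 64038 = true := by decide +kernel

set_option maxRecDepth 1000000 in
theorem rows_1 : rowsRange E RS 1500 1500 = true := by decide +kernel

set_option maxRecDepth 1000000 in
theorem rows_7 : rowsRange E RS 1500 10500 = true := by decide +kernel

set_option maxRecDepth 1000000 in
theorem rows_13 : rowsRange E RS 1500 19500 = true := by decide +kernel

set_option maxRecDepth 1000000 in
theorem rows_19 : rowsRange E RS 1500 28500 = true := by decide +kernel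

set_option maxRecDepth 1000000 in
theorem rows_25 : rowsRange E RS 1500 37500 = true := by decide +kernel

set_option maxRecDepth 1000000 in
theorem rows_31 : rowsRange E RS 1500 46500 = true := by decide +kernel

set_option maxRecDepth 1000000 in
theorem rows_37 : rowsRange E RS 1500 55500 = true := by decide +kernel

set_option maxRecDepth 1000000 in
theorem rows_43 : rowsRange E RS 923 64500 = true := by decide +kernel

set_option maxRecDepth 1000000 in
theorem edges_1_23 : edgesRangeI iota E 1 117 65306 = true := by decide +kernel

set_option maxRecDepth 1000000 in
theorem edges_3_22 : edgesRangeI iota E 3 40 65383 = true := by decide +kernel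

end Cfsg.Agent.Helper3.Y5CTC
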