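import Cfsg.Agent.Helper3.Y5CTCDatD
import Cfsg.Agent.Helper5.TCIB

/-! kernel checks of edges, aliases, rows: Y5CTC -/

set_option autoImplicit false
set_option Elab.async false

namespace Cfsg.Agent.Helper3.Y5CTC
open Cfsg.Agent.Helper5.TC Cfsg.Agent.Helper5.TCI

set_option maxRecDepth 1000000 in
theorem edges_0_13 : edgesRangeI iota E 0 3981 44208 = true := by decide +kernel

set_option maxRecDepth 1000000 in
theorem edges_1_15 : edgesRangeI iota E 1 3206 48368 = true := by decide +kernel

set_option maxRecDepth 1000000 in
theorem edges_2_12 : edgesRangeI iota E 2 3690 35120 = true := by decide +kernel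

set_option maxRecDepth 1000000 in
theorem edges_5_3 : edgesRangeI iota E 5 3133 7642 = true := by decide +kernel

set_option maxRecDepth 1000000 in
theorem edges_7_4 : edgesRangeI iota E 7 2304 8979 = true := by decide +kernel

set_option maxRecDepth 1000000 in
theorem edges_8_4 : edgesRangeI iota E 8 3374 13994 = true := by decide +kernel

set_option maxRecDepth 1000000 in
theorem edges_1_18 : edgesRangeI iota E 1 1974 56139 = true := by decide +kernel

set_option maxRecDepth 1000000 in
theorem edges_3_14 : edgesRangeI iota E 3 3118 47969 = true := by decide +kernel

set_option maxRecDepth 1000000 in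
theorem edges_5_14 : edgesRangeI iota E 5 3284 46458 = true := by decide +kernel

set_option maxRecDepth 1000000 in
theorem edges_8_5 : edgesRangeI iota E 8 3316 17368 = true := by decide +kernel

set_option maxRecDepth 1000000 in
theorem edges_0_6 : edgesRangeI iota E 0 3209 17721 = true := by decide +kernel

set_option maxRecDepth 1000000 in
theorem edges_5_0 : edgesRangeI iota E 5 2063 0 = true := by decide +kernel

set_option maxRecDepth 1000000 in
theorem edges_7_3 : edgesRangeI iota E 7 2295 6684 = true := by decide +kernel

set_option maxRecDepth 1000000 in
theorem edges_8_17 : edgesRangeI iota E 8 1726 54236 = true := by decide +kernel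

set_option maxRecDepth 1000000 in
theorem edges_0_17 : edgesRangeI iota E 0 2054 56325 = true := by decide +kernel

set_option maxRecDepth 1000000 in
theorem edges_3_4 : edgesRangeI iota E 3 3481 11291 = true := by decide +kernel

set_option maxRecDepth 1000000 in
theorem edges_5_4 : edgesRangeI iota E 5 3367 10775 = true := by decide +kernel

set_option maxRecDepth 1000000 in
theorem edges_6_21 : edgesRangeI iota E 6 2188 61459 = true := by decide +kernel

set_option maxRecDepth 1000000 in
theorem edges_8_9 : edgesRangeI iota E 8 3244 30308 = true := by decide +kernel

set_option maxRecDepth 1000000 in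
theorem edges_0_18 : edgesRangeI iota E 0 2008 58379 = true := by decide +kernel

set_option maxRecDepth 1000000 in
theorem edges_2_8 : edgesRangeI iota E 2 2796 22562 = true := by decide +kernel

set_option maxRecDepth 1000000 in
theorem edges_3_18 : edgesRangeI iota E 3 1879 57839 = true := by decide +kernel

set_option maxRecDepth 1000000 in
theorem edges_4_9 : edgesRangeI iota E 4 3447 28934 = true := by decide +kernel

set_option maxRecDepth 1000000 in
theorem edges_6_13 : edgesRangeI iota E 6 3119 38703 = true := by decide +kernel

set_option maxRecDepth 1000000 in
theorem edges_8_16 : edgesRangeI iota E 8 2160 52076 = true := by decide +kernel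

set_option maxRecDepth 1000000 in
theorem aliases_9 : aliasRange E 3093 31594 = true := by decide +kernel

set_option maxRecDepth 1000000 in
theorem edges_0_19 : edgesRangeI iota E 0 1922 60387 = true := by decide +kernel

set_option maxRecDepth 1000000 in
theorem edges_1_11 : edgesRangeI iota E 1 4061 34196 = true := by decide +kernel

set_option maxRecDepth 1000000 in
theorem edges_2_13 : edgesRangeI iota E 2 2968 38810 = true := by decide +kernel

set_option maxRecDepth 1000000 in
theorem edges_3_5 : edgesRangeI iota E 3 3640 14772 = true := by decide +kernel

set_option maxRecDepth 1000000 in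
theorem edges_4_4 : edgesRangeI iota E 4 3319 12037 = true := by decide +kernel

set_option maxRecDepth 1000000 in
theorem edges_4_21 : edgesRangeI iota E 4 1847 62121 = true := by decide +kernel

set_option maxRecDepth 1000000 in
theorem edges_5_12 : edgesRangeI iota E 5 3570 39000 = true := by decide +kernel

set_option maxRecDepth 1000000 in
theorem edges_6_17 : edgesRangeI iota E 6 2655 51531 = true := by decide +kernel

set_option maxRecDepth 1000000 in
theorem edges_7_22 : edgesRangeI iota E 7 1982 56681 = true := by decide +kernel

set_option maxRecDepth 1000000 in
theorem edges_8_8 : edgesRangeI iota E 8 3136 27172 = true := by decide +kernel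

set_option maxRecDepth 1000000 in
theorem aliases_3 : aliasRange E 3632 11565 = true := by decide +kernel

set_option maxRecDepth 1000000 in
theorem aliases_18 : aliasRange E 5746 52471 = true := by decide +kernel

set_option maxRecDepth 1000000 in
theorem rows_0 : rowsRange E RS 1500 0 = true := by decide +kernel

set_option maxRecDepth 1000000 in
theorem rows_4 : rowsRange E RS 1500 6000 = true := by decide +kernel

set_option maxRecDepth 1000000 in
theorem rows_10 : rowsRange E RS 1500 15000 = true := by decide +kernel

set_option maxRecDepth 1000000 in
theorem rows_16 : rowsRange E RS 1500 24000 = true := by decide +kernel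

set_option maxRecDepth 1000000 in
theorem rows_22 : rowsRange E RS 1500 33000 = true := by decide +kernel

set_option maxRecDepth 1000000 in
theorem rows_28 : rowsRange E RS 1500 42000 = true := by decide +kernel

set_option maxRecDepth 1000000 in
theorem rows_34 : rowsRange E RS 1500 51000 = true := by decide +kernel

set_option maxRecDepth 1000000 in
theorem rows_40 : rowsRange E RS 1500 60000 = true := by decide +kernel

end Cfsg.Agent.Helper3.Y5CTC
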