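import Cfsg.Agent.Helper3.Y5CTCDatD
import Cfsg.Agent.Helper5.TCIB

/-! kernel checks of edges, aliases, rows: Y5CTC -/

set_option autoImplicit false
set_option Elab.async false

namespace Cfsg.Agent.Helper3.Y5CTC
open Cfsg.Agent.Helper5.TC Cfsg.Agent.Helper5.TCI

set_option maxRecDepth 1000000 in
theorem edges_2_23 : edgesRangeI iota E 2 1544 63004 = true := by decide +kernel

set_option maxRecDepth 1000000 in
theorem edges_1_3 : edgesRangeI iota E 1 3034 7383 = true := by decide +kernel

set_option maxRecDepth 1000000 in
theorem edges_2_4 : edgesRangeI iota E 2 3104 10135 = true := by decide +kernel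

set_option maxRecDepth 1000000 in
theorem edges_4_16 : edgesRangeI iota E 4 2067 52731 = true := by decide +kernel

set_option maxRecDepth 1000000 in
theorem edges_6_7 : edgesRangeI iota E 6 3313 19160 = true := by decide +kernel

set_option maxRecDepth 1000000 in
theorem edges_7_18 : edgesRangeI iota E 7 2832 46527 = true := by decide +kernel

set_option maxRecDepth 1000000 in
theorem edges_1_0 : edgesRangeI iota E 1 2128 0 = true := by decide +kernel

set_option maxRecDepth 1000000 in
theorem edges_3_3 : edgesRangeI iota E 3 3185 8106 = true := by decide +kernel

set_option maxRecDepth 1000000 in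
theorem edges_4_17 : edgesRangeI iota E 4 1792 54798 = true := by decide +kernel

set_option maxRecDepth 1000000 in
theorem edges_7_16 : edgesRangeI iota E 7 2902 40413 = true := by decide +kernel

set_option maxRecDepth 1000000 in
theorem edges_0_0 : edgesRangeI iota E 0 2117 0 = true := by decide +kernel

set_option maxRecDepth 1000000 in
theorem edges_3_6 : edgesRangeI iota E 3 3697 18412 = true := by decide +kernel

set_option maxRecDepth 1000000 in
theorem edges_6_10 : edgesRangeI iota E 6 3455 28733 = true := by decide +kernel

set_option maxRecDepth 1000000 in
theorem edges_8_10 : edgesRangeI iota E 8 3017 33552 = true := by decide +kernel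

set_option maxRecDepth 1000000 in
theorem aliases_14 : aliasRange E 1963 44226 = true := by decide +kernel

set_option maxRecDepth 1000000 in
theorem edges_2_16 : edgesRangeI iota E 2 2899 48271 = true := by decide +kernel

set_option maxRecDepth 1000000 in
theorem edges_5_1 : edgesRangeI iota E 5 2539 2063 = true := by decide +kernel

set_option maxRecDepth 1000000 in
theorem edges_6_19 : edgesRangeI iota E 6 2419 56414 = true := by decide +kernel

set_option maxRecDepth 1000000 in
theorem edges_8_6 : edgesRangeI iota E 8 3195 20684 = true := by decide +kernel

set_option maxRecDepth 1000000 in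
theorem edges_0_16 : edgesRangeI iota E 0 2150 54175 = true := by decide +kernel

set_option maxRecDepth 1000000 in
theorem edges_2_7 : edgesRangeI iota E 2 3472 19090 = true := by decide +kernel

set_option maxRecDepth 1000000 in
theorem edges_3_17 : edgesRangeI iota E 3 1906 55933 = true := by decide +kernel

set_option maxRecDepth 1000000 in
theorem edges_4_6 : edgesRangeI iota E 4 3341 18730 = true := by decide +kernel

set_option maxRecDepth 1000000 in
theorem edges_5_18 : edgesRangeI iota E 5 2369 57760 = true := by decide +kernel

set_option maxRecDepth 1000000 in
theorem edges_8_3 : edgesRangeI iota E 8 3349 10645 = true := by decide +kernel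

set_option maxRecDepth 1000000 in
theorem aliases_5 : aliasRange E 3421 18654 = true := by decide +kernel

set_option maxRecDepth 1000000 in
theorem edges_0_11 : edgesRangeI iota E 0 4161 36304 = true := by decide +kernel

set_option maxRecDepth 1000000 in
theorem edges_1_10 : edgesRangeI iota E 1 3188 31008 = true := by decide +kernel

set_option maxRecDepth 1000000 in
theorem edges_2_9 : edgesRangeI iota E 2 3455 25358 = true := by decide +kernel

set_option maxRecDepth 1000000 in
theorem edges_3_0 : edgesRangeI iota E 3 2185 0 = true := by decide +kernel

set_option maxRecDepth 1000000 in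
theorem edges_3_13 : edgesRangeI iota E 3 3459 44510 = true := by decide +kernel

set_option maxRecDepth 1000000 in
theorem edges_4_19 : edgesRangeI iota E 4 1908 58346 = true := by decide +kernel

set_option maxRecDepth 1000000 in
theorem edges_5_11 : edgesRangeI iota E 5 3994 35006 = true := by decide +kernel

set_option maxRecDepth 1000000 in
theorem edges_6_14 : edgesRangeI iota E 6 3174 41822 = true := by decide +kernel

set_option maxRecDepth 1000000 in
theorem edges_7_13 : edgesRangeI iota E 7 2699 31755 = true := by decide +kernel

set_option maxRecDepth 1000000 in
theorem edges_8_2 : edgesRangeI iota E 8 3401 7244 = true := by decide +kernel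

set_option maxRecDepth 1000000 in
theorem aliases_2 : aliasRange E 3600 7965 = true := by decide +kernel

set_option maxRecDepth 1000000 in
theorem aliases_17 : aliasRange E 2110 50361 = true := by decide +kernel

set_option maxRecDepth 1000000 in
theorem edges_0_21 : edgesRangeI iota E 0 1257 64166 = true := by decide +kernel

set_option maxRecDepth 1000000 in
theorem rows_5 : rowsRange E RS 1500 7500 = true := by decide +kernel

set_option maxRecDepth 1000000 in
theorem rows_11 : rowsRange E RS 1500 16500 = true := by decide +kernel

set_option maxRecDepth 1000000 in
theorem rows_17 : rowsRange E RS 1500 25500 = true := by decide +kernel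

set_option maxRecDepth 1000000 in
theorem rows_23 : rowsRange E RS 1500 34500 = true := by decide +kernel

set_option maxRecDepth 1000000 in
theorem rows_29 : rowsRange E RS 1500 43500 = true := by decide +kernel

set_option maxRecDepth 1000000 in
theorem rows_35 : rowsRange E RS 1500 52500 = true := by decide +kernel

set_option maxRecDepth 1000000 in
theorem rows_41 : rowsRange E RS 1500 61500 = true := by decide +kernel

end Cfsg.Agent.Helper3.Y5CTC
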