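import Cfsg.Agent.Helper3.Y5CTCDatD
import Cfsg.Agent.Helper5.TCIB

/-! kernel checks of edges, aliases, rows: Y5CTC -/

set_option autoImplicit false
set_option Elab.async false

namespace Cfsg.Agent.Helper3.Y5CTC
open Cfsg.Agent.Helper5.TC Cfsg.Agent.Helper5.TCI

set_option maxRecDepth 1000000 in
theorem edges_0_9 : edgesRangeI iota E 0 3871 28599 = true := by decide +kernel

set_option maxRecDepth 1000000 in
theorem edges_2_22 : edgesRangeI iota E 2 1691 61313 = true := by decide +kernel

set_option maxRecDepth 1000000 in
theorem edges_2_6 : edgesRangeI iota E 2 3204 15886 = true := by decide +kernel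

set_option maxRecDepth 1000000 in
theorem edges_5_2 : edgesRangeI iota E 5 3040 4602 = true := by decide +kernel

set_option maxRecDepth 1000000 in
theorem edges_6_11 : edgesRangeI iota E 6 2836 32188 = true := by decide +kernel

set_option maxRecDepth 1000000 in
theorem edges_7_19 : edgesRangeI iota E 7 3159 49359 = true := by decide +kernel

set_option maxRecDepth 1000000 in
theorem edges_1_7 : edgesRangeI iota E 1 3801 20162 = true := by decide +kernel

set_option maxRecDepth 1000000 in
theorem edges_3_11 : edgesRangeI iota E 3 3675 37220 = true := by decide +kernel

set_option maxRecDepth 1000000 in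
theorem edges_4_18 : edgesRangeI iota E 4 1756 56590 = true := by decide +kernel

set_option maxRecDepth 1000000 in
theorem edges_7_21 : edgesRangeI iota E 7 1913 54768 = true := by decide +kernel

set_option maxRecDepth 1000000 in
theorem edges_0_1 : edgesRangeI iota E 0 2788 2117 = true := by decide +kernel

set_option maxRecDepth 1000000 in
theorem edges_3_19 : edgesRangeI iota E 3 2006 59718 = true := by decide +kernel

set_option maxRecDepth 1000000 in
theorem edges_6_15 : edgesRangeI iota E 6 3482 44996 = true := by decide +kernel

set_option maxRecDepth 1000000 in
theorem edges_8_14 : edgesRangeI iota E 8 3168 46075 = true := by decide +kernel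

set_option maxRecDepth 1000000 in
theorem edges_0_7 : edgesRangeI iota E 0 3861 20930 = true := by decide +kernel

set_option maxRecDepth 1000000 in
theorem edges_2_1 : edgesRangeI iota E 2 2375 2194 = true := by decide +kernel

set_option maxRecDepth 1000000 in
theorem edges_4_10 : edgesRangeI iota E 4 3289 32381 = true := by decide +kernel

set_option maxRecDepth 1000000 in
theorem edges_6_16 : edgesRangeI iota E 6 3053 48478 = true := by decide +kernel

set_option maxRecDepth 1000000 in
theorem edges_7_20 : edgesRangeI iota E 7 2250 52518 = true := by decide +kernel

set_option maxRecDepth 1000000 in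
theorem edges_0_3 : edgesRangeI iota E 0 3102 7810 = true := by decide +kernel

set_option maxRecDepth 1000000 in
theorem edges_1_19 : edgesRangeI iota E 1 1987 58113 = true := by decide +kernel

set_option maxRecDepth 1000000 in
theorem edges_3_12 : edgesRangeI iota E 3 3615 40895 = true := by decide +kernel

set_option maxRecDepth 1000000 in
theorem edges_4_5 : edgesRangeI iota E 4 3374 15356 = true := by decide +kernel

set_option maxRecDepth 1000000 in
theorem edges_5_7 : edgesRangeI iota E 5 3705 20698 = true := by decide +kernel

set_option maxRecDepth 1000000 in
theorem edges_7_15 : edgesRangeI iota E 7 2710 37703 = true := by decide +kernel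

set_option maxRecDepth 1000000 in
theorem aliases_4 : aliasRange E 3457 15197 = true := by decide +kernel

set_option maxRecDepth 1000000 in
theorem edges_0_10 : edgesRangeI iota E 0 3834 32470 = true := by decide +kernel

set_option maxRecDepth 1000000 in
theorem edges_1_6 : edgesRangeI iota E 1 3051 17111 = true := by decide +kernel

set_option maxRecDepth 1000000 in
theorem edges_2_5 : edgesRangeI iota E 2 2647 13239 = true := by decide +kernel

set_option maxRecDepth 1000000 in
theorem edges_2_21 : edgesRangeI iota E 2 1900 59413 = true := by decide +kernel

set_option maxRecDepth 1000000 in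
theorem edges_3_10 : edgesRangeI iota E 3 3966 33254 = true := by decide +kernel

set_option maxRecDepth 1000000 in
theorem edges_4_13 : edgesRangeI iota E 4 3795 42780 = true := by decide +kernel

set_option maxRecDepth 1000000 in
theorem edges_5_10 : edgesRangeI iota E 5 3468 31538 = true := by decide +kernel

set_option maxRecDepth 1000000 in
theorem edges_6_2 : edgesRangeI iota E 6 2813 4370 = true := by decide +kernel

set_option maxRecDepth 1000000 in
theorem edges_7_6 : edgesRangeI iota E 7 2474 13703 = true := by decide +kernel

set_option maxRecDepth 1000000 in
theorem edges_8_1 : edgesRangeI iota E 8 3614 3630 = true := by decide +kernel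

set_option maxRecDepth 1000000 in
theorem edges_8_15 : edgesRangeI iota E 8 2833 49243 = true := by decide +kernel

set_option maxRecDepth 1000000 in
theorem aliases_16 : aliasRange E 2010 48351 = true := by decide +kernel

set_option maxRecDepth 1000000 in
theorem edges_4_22 : edgesRangeI iota E 4 1455 63968 = true := by decide +kernel

set_option maxRecDepth 1000000 in
theorem rows_6 : rowsRange E RS 1500 9000 = true := by decide +kernel

set_option maxRecDepth 1000000 in
theorem rows_12 : rowsRange E RS 1500 18000 = true := by decide +kernel

set_option maxRecDepth 1000000 in
theorem rows_18 : rowsRange E RS 1500 27000 = true := by decide +kernel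

set_option maxRecDepth 1000000 in
theorem rows_24 : rowsRange E RS 1500 36000 = true := by decide +kernel

set_option maxRecDepth 1000000 in
theorem rows_30 : rowsRange E RS 1500 45000 = true := by decide +kernel

set_option maxRecDepth 1000000 in
theorem rows_36 : rowsRange E RS 1500 54000 = true := by decide +kernel

set_option maxRecDepth 1000000 in
theorem rows_42 : rowsRange E RS 1500 63000 = true := by decide +kernel

end Cfsg.Agent.Helper3.Y5CTC
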