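import Cfsg.Agent.Helper3.Y5CTCDatD
import Cfsg.Agent.Helper3.Y5CTCDatT
import Cfsg.Agent.Helper5.TCIB

/-! kernel checks of the coset table: Y5CTC -/

set_option autoImplicit false
set_option Elab.async false

namespace Cfsg.Agent.Helper3.Y5CTC
open Cfsg.Agent.Helper5.TC Cfsg.Agent.Helper5.TCI

set_option maxRecDepth 1000000 in
theorem relc_1_0 : fixPtsF W_1 28160 0 = true := by decide +kernel

set_option maxRecDepth 1000000 in
theorem relc_22_0 : fixPtsF W_22 28160 0 = true := by decide +kernel

set_option maxRecDepth 1000000 in
theorem relc_45_0 : fixPtsF W_45 2222 0 = true := by decide +kernel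

set_option maxRecDepth 1000000 in
theorem relc_45_4 : fixPtsF W_45 2222 8888 = true := by decide +kernel

set_option maxRecDepth 1000000 in
theorem relc_45_8 : fixPtsF W_45 2222 17776 = true := by decide +kernel

set_option maxRecDepth 1000000 in
theorem relc_2_0 : fixPtsF W_2 28160 0 = true := by decide +kernel

set_option maxRecDepth 1000000 in
theorem relc_8_0 : fixPtsF W_8 28160 0 = true := by decide +kernel

set_option maxRecDepth 1000000 in
theorem relc_14_0 : fixPtsF W_14 28160 0 = true := by decide +kernel

set_option maxRecDepth 1000000 in
theorem relc_19_0 : fixPtsF W_19 28160 0 = true := by decide +kernel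

set_option maxRecDepth 1000000 in
theorem relc_26_0 : fixPtsF W_26 28160 0 = true := by decide +kernel

set_option maxRecDepth 1000000 in
theorem relc_31_0 : fixPtsF W_31 28160 0 = true := by decide +kernel

set_option maxRecDepth 1000000 in
theorem relc_38_0 : fixPtsF W_38 28160 0 = true := by decide +kernel

set_option maxRecDepth 1000000 in
theorem relc_0_0 : fixPtsF W_0 28160 0 = true := by decide +kernel

set_option maxRecDepth 1000000 in
theorem relc_30_0 : fixPtsF W_30 28160 0 = true := by decide +kernel

set_option maxRecDepth 1000000 in
theorem relc_44_0 : fixPtsF W_44 28160 0 = true := by decide +kernel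

set_option maxRecDepth 1000000 in
theorem inv_5_0 : invRowFI ctF 28160 5 5 28160 0 = true := by decide +kernel

set_option maxRecDepth 1000000 in
theorem conn_0 : connF ctF 9 28160 0 = true := by decide +kernel

end Cfsg.Agent.Helper3.Y5CTC
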