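import Cfsg.Agent.Helper3.Y5CTCDatD
import Cfsg.Agent.Helper3.Y5CTCDatT
import Cfsg.Agent.Helper5.TCIB

/-! kernel checks of the coset table: Y5CTC -/

set_option autoImplicit false
set_option Elab.async false

namespace Cfsg.Agent.Helper3.Y5CTC
open Cfsg.Agent.Helper5.TC Cfsg.Agent.Helper5.TCI

set_option maxRecDepth 1000000 in
theorem relc_3_0 : fixPtsF W_3 28160 0 = true := by decide +kernel

set_option maxRecDepth 1000000 in
theorem relc_25_0 : fixPtsF W_25 28160 0 = true := by decide +kernel

set_option maxRecDepth 1000000 in
theorem relc_45_1 : fixPtsF W_45 2222 2222 = true := by decide +kernel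

set_option maxRecDepth 1000000 in
theorem relc_45_5 : fixPtsF W_45 2222 11110 = true := by decide +kernel

set_option maxRecDepth 1000000 in
theorem relc_45_9 : fixPtsF W_45 2222 19998 = true := by decide +kernel

set_option maxRecDepth 1000000 in
theorem relc_4_0 : fixPtsF W_4 28160 0 = true := by decide +kernel

set_option maxRecDepth 1000000 in
theorem relc_11_0 : fixPtsF W_11 28160 0 = true := by decide +kernel

set_option maxRecDepth 1000000 in
theorem relc_15_0 : fixPtsF W_15 28160 0 = true := by decide +kernel

set_option maxRecDepth 1000000 in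
theorem relc_20_0 : fixPtsF W_20 28160 0 = true := by decide +kernel

set_option maxRecDepth 1000000 in
theorem relc_27_0 : fixPtsF W_27 28160 0 = true := by decide +kernel

set_option maxRecDepth 1000000 in
theorem relc_32_0 : fixPtsF W_32 28160 0 = true := by decide +kernel

set_option maxRecDepth 1000000 in
theorem relc_40_0 : fixPtsF W_40 28160 0 = true := by decide +kernel

set_option maxRecDepth 1000000 in
theorem relc_9_0 : fixPtsF W_9 28160 0 = true := by decide +kernel

set_option maxRecDepth 1000000 in
theorem relc_35_0 : fixPtsF W_35 28160 0 = true := by decide +kernel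

set_option maxRecDepth 1000000 in
theorem relc_45_12 : fixPtsF W_45 1496 26664 = true := by decide +kernel

set_option maxRecDepth 1000000 in
theorem inv_4_0 : invRowFI ctF 28160 4 4 28160 0 = true := by decide +kernel

set_option maxRecDepth 1000000 in
theorem inv_8_0 : invRowFI ctF 28160 8 8 28160 0 = true := by decide +kernel

end Cfsg.Agent.Helper3.Y5CTC
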