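import Cfsg.Agent.Helper3.Y5CTCDatD
import Cfsg.Agent.Helper3.Y5CTCDatT
import Cfsg.Agent.Helper5.TCIB

/-! kernel checks of the coset table: Y5CTC -/

set_option autoImplicit false
set_option Elab.async false

namespace Cfsg.Agent.Helper3.Y5CTC
open Cfsg.Agent.Helper5.TC Cfsg.Agent.Helper5.TCI

set_option maxRecDepth 1000000 in
theorem relc_5_0 : fixPtsF W_5 28160 0 = true := by decide +kernel

set_option maxRecDepth 1000000 in
theorem relc_34_0 : fixPtsF W_34 28160 0 = true := by decide +kernel

set_option maxRecDepth 1000000 in
theorem relc_45_2 : fixPtsF W_45 2222 4444 = true := by decide +kernel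

set_option maxRecDepth 1000000 in
theorem relc_45_6 : fixPtsF W_45 2222 13332 = true := by decide +kernel

set_option maxRecDepth 1000000 in
theorem relc_45_10 : fixPtsF W_45 2222 22220 = true := by decide +kernel

set_option maxRecDepth 1000000 in
theorem relc_6_0 : fixPtsF W_6 28160 0 = true := by decide +kernel

set_option maxRecDepth 1000000 in
theorem relc_12_0 : fixPtsF W_12 28160 0 = true := by decide +kernel

set_option maxRecDepth 1000000 in
theorem relc_16_0 : fixPtsF W_16 28160 0 = true := by decide +kernel

set_option maxRecDepth 1000000 in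
theorem relc_21_0 : fixPtsF W_21 28160 0 = true := by decide +kernel

set_option maxRecDepth 1000000 in
theorem relc_28_0 : fixPtsF W_28 28160 0 = true := by decide +kernel

set_option maxRecDepth 1000000 in
theorem relc_33_0 : fixPtsF W_33 28160 0 = true := by decide +kernel

set_option maxRecDepth 1000000 in
theorem relc_41_0 : fixPtsF W_41 28160 0 = true := by decide +kernel

set_option maxRecDepth 1000000 in
theorem relc_17_0 : fixPtsF W_17 28160 0 = true := by decide +kernel

set_option maxRecDepth 1000000 in
theorem relc_39_0 : fixPtsF W_39 28160 0 = true := by decide +kernel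

set_option maxRecDepth 1000000 in
theorem inv_0_0 : invRowFI ctF 28160 0 0 28160 0 = true := by decide +kernel

set_option maxRecDepth 1000000 in
theorem inv_2_0 : invRowFI ctF 28160 2 2 28160 0 = true := by decide +kernel

set_option maxRecDepth 1000000 in
theorem inv_6_0 : invRowFI ctF 28160 6 6 28160 0 = true := by decide +kernel

end Cfsg.Agent.Helper3.Y5CTC
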