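import Cfsg.Agent.Helper3.Y5CTCDatD
import Cfsg.Agent.Helper3.Y5CTCDatT
import Cfsg.Agent.Helper5.TCIB

/-! kernel checks of the coset table: Y5CTC -/

set_option autoImplicit false
set_option Elab.async false

namespace Cfsg.Agent.Helper3.Y5CTC
open Cfsg.Agent.Helper5.TC Cfsg.Agent.Helper5.TCI

set_option maxRecDepth 1000000 in
theorem relc_10_0 : fixPtsF W_10 28160 0 = true := by decide +kernel

set_option maxRecDepth 1000000 in
theorem relc_36_0 : fixPtsF W_36 28160 0 = true := by decide +kernel

set_option maxRecDepth 1000000 in
theorem relc_45_3 : fixPtsF W_45 2222 6666 = true := by decide +kernel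

set_option maxRecDepth 1000000 in
theorem relc_45_7 : fixPtsF W_45 2222 15554 = true := by decide +kernel

set_option maxRecDepth 1000000 in
theorem relc_45_11 : fixPtsF W_45 2222 24442 = true := by decide +kernel

set_option maxRecDepth 1000000 in
theorem relc_7_0 : fixPtsF W_7 28160 0 = true := by decide +kernel

set_option maxRecDepth 1000000 in
theorem relc_13_0 : fixPtsF W_13 28160 0 = true := by decide +kernel

set_option maxRecDepth 1000000 in
theorem relc_18_0 : fixPtsF W_18 28160 0 = true := by decide +kernel

set_option maxRecDepth 1000000 in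
theorem relc_23_0 : fixPtsF W_23 28160 0 = true := by decide +kernel

set_option maxRecDepth 1000000 in
theorem relc_29_0 : fixPtsF W_29 28160 0 = true := by decide +kernel

set_option maxRecDepth 1000000 in
theorem relc_37_0 : fixPtsF W_37 28160 0 = true := by decide +kernel

set_option maxRecDepth 1000000 in
theorem relc_43_0 : fixPtsF W_43 28160 0 = true := by decide +kernel

set_option maxRecDepth 1000000 in
theorem relc_24_0 : fixPtsF W_24 28160 0 = true := by decide +kernel

set_option maxRecDepth 1000000 in
theorem relc_42_0 : fixPtsF W_42 28160 0 = true := by decide +kernel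

set_option maxRecDepth 1000000 in
theorem inv_1_0 : invRowFI ctF 28160 1 1 28160 0 = true := by decide +kernel

set_option maxRecDepth 1000000 in
theorem inv_3_0 : invRowFI ctF 28160 3 3 28160 0 = true := by decide +kernel

set_option maxRecDepth 1000000 in
theorem inv_7_0 : invRowFI ctF 28160 7 7 28160 0 = true := by decide +kernel

end Cfsg.Agent.Helper3.Y5CTC
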