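import Cfsg.Agent.Helper3.Y5CTCChkE0
import Cfsg.Agent.Helper3.Y5CTCChkE1
import Cfsg.Agent.Helper3.Y5CTCChkE2
import Cfsg.Agent.Helper3.Y5CTCChkE3
import Cfsg.Agent.Helper3.Y5CTCChkE4
import Cfsg.Agent.Helper3.Y5CTCChkE5
import Cfsg.Agent.Helper3.Y5CTCChkR0
import Cfsg.Agent.Helper3.Y5CTCChkR1
import Cfsg.Agent.Helper3.Y5CTCChkR2
import Cfsg.Agent.Helper3.Y5CTCChkR3
import Cfsg.Agent.Helper3.Y5CTCChkA
import Cfsg.Agent.Helper5.TCIB

/-! summary of the kernel checks: Y5CTC -/

set_option autoImplicit false
set_option Elab.async false

namespace Cfsg.Agent.Helper3.Y5CTC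
open Cfsg.Agent.Helper5.TC Cfsg.Agent.Helper5.TCI

theorem edgesx_0 : ∀ v, v < 65423 → edgeOKI iota E 0 v = true := by
  intro v hv
  rcases Nat.lt_or_ge v 36304 with h | h
  · rcases Nat.lt_or_ge v 14173 with h | h
    · rcases Nat.lt_or_ge v 4905 with h | h
      · rcases Nat.lt_or_ge v 2117 with h | h
        · exact edgesRangeI_spec iota E 0 2117 0 edges_0_0 v (by omega) (by omega)
        · exact edgesRangeI_spec iota E 0 2788 2117 edges_0_1 v (by omega) (by omega)
      · rcases Nat.lt_or_ge v 7810 with h | h
        · exact edgesRangeI_spec iota E 0 2905 4905 edges_0_2 v (by omega) (by omega)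
        · rcases Nat.lt_or_ge v 10912 with h | h
          · exact edgesRangeI_spec iota E 0 3102 7810 edges_0_3 v (by omega) (by omega)
          · exact edgesRangeI_spec iota E 0 3261 10912 edges_0_4 v (by omega) (by omega)
    · rcases Nat.lt_or_ge v 24791 with h | h
      · rcases Nat.lt_or_ge v 17721 with h | h
        · exact edgesRangeI_spec iota E 0 3548 14173 edges_0_5 v (by omega) (by omega)
        · rcases Nat.lt_or_ge v 20930 with h | h
          · exact edgesRangeI_spec iota E 0 3209 17721 edges_0_6 v (by omega) (by omega)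
          · exact edgesRangeI_spec iota E 0 3861 20930 edges_0_7 v (by omega) (by omega)
      · rcases Nat.lt_or_ge v 28599 with h | h
        · exact edgesRangeI_spec iota E 0 3808 24791 edges_0_8 v (by omega) (by omega)
        · rcases Nat.lt_or_ge v 32470 with h | h
          · exact edgesRangeI_spec iota E 0 3871 28599 edges_0_9 v (by omega) (by omega)
          · exact edgesRangeI_spec iota E 0 3834 32470 edges_0_10 v (by omega) (by omega)
  · rcases Nat.lt_or_ge v 54175 with h | h
    · rcases Nat.lt_or_ge v 44208 with h | h
      · rcases Nat.lt_or_ge v 40465 with h | h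
        · exact edgesRangeI_spec iota E 0 4161 36304 edges_0_11 v (by omega) (by omega)
        · exact edgesRangeI_spec iota E 0 3743 40465 edges_0_12 v (by omega) (by omega)
      · rcases Nat.lt_or_ge v 48189 with h | h
        · exact edgesRangeI_spec iota E 0 3981 44208 edges_0_13 v (by omega) (by omega)
        · rcases Nat.lt_or_ge v 51287 with h | h
          · exact edgesRangeI_spec iota E 0 3098 48189 edges_0_14 v (by omega) (by omega)
          · exact edgesRangeI_spec iota E 0 2888 51287 edges_0_15 v (by omega) (by omega)
    · rcases Nat.lt_or_ge v 60387 with h | h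
      · rcases Nat.lt_or_ge v 56325 with h | h
        · exact edgesRangeI_spec iota E 0 2150 54175 edges_0_16 v (by omega) (by omega)
        · rcases Nat.lt_or_ge v 58379 with h | h
          · exact edgesRangeI_spec iota E 0 2054 56325 edges_0_17 v (by omega) (by omega)
          · exact edgesRangeI_spec iota E 0 2008 58379 edges_0_18 v (by omega) (by omega)
      · rcases Nat.lt_or_ge v 62309 with h | h
        · exact edgesRangeI_spec iota E 0 1922 60387 edges_0_19 v (by omega) (by omega)
        · rcases Nat.lt_or_ge v 64166 with h | h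
          · exact edgesRangeI_spec iota E 0 1857 62309 edges_0_20 v (by omega) (by omega)
          · exact edgesRangeI_spec iota E 0 1257 64166 edges_0_21 v (by omega) (by omega)

theorem edgesx_1 : ∀ v, v < 65423 → edgeOKI iota E 1 v = true := by
  intro v hv
  rcases Nat.lt_or_ge v 38257 with h | h
  · rcases Nat.lt_or_ge v 17111 with h | h
    · rcases Nat.lt_or_ge v 7383 with h | h
      · rcases Nat.lt_or_ge v 2128 with h | h
        · exact edgesRangeI_spec iota E 1 2128 0 edges_1_0 v (by omega) (by omega)
        · rcases Nat.lt_or_ge v 4537 with h | h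
          · exact edgesRangeI_spec iota E 1 2409 2128 edges_1_1 v (by omega) (by omega)
          · exact edgesRangeI_spec iota E 1 2846 4537 edges_1_2 v (by omega) (by omega)
      · rcases Nat.lt_or_ge v 10417 with h | h
        · exact edgesRangeI_spec iota E 1 3034 7383 edges_1_3 v (by omega) (by omega)
        · rcases Nat.lt_or_ge v 13659 with h | h
          · exact edgesRangeI_spec iota E 1 3242 10417 edges_1_4 v (by omega) (by omega)
          · exact edgesRangeI_spec iota E 1 3452 13659 edges_1_5 v (by omega) (by omega)
    · rcases Nat.lt_or_ge v 27126 with h | h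
      · rcases Nat.lt_or_ge v 20162 with h | h
        · exact edgesRangeI_spec iota E 1 3051 17111 edges_1_6 v (by omega) (by omega)
        · rcases Nat.lt_or_ge v 23963 with h | h
          · exact edgesRangeI_spec iota E 1 3801 20162 edges_1_7 v (by omega) (by omega)
          · exact edgesRangeI_spec iota E 1 3163 23963 edges_1_8 v (by omega) (by omega)
      · rcases Nat.lt_or_ge v 31008 with h | h
        · exact edgesRangeI_spec iota E 1 3882 27126 edges_1_9 v (by omega) (by omega)
        · rcases Nat.lt_or_ge v 34196 with h | h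
          · exact edgesRangeI_spec iota E 1 3188 31008 edges_1_10 v (by omega) (by omega)
          · exact edgesRangeI_spec iota E 1 4061 34196 edges_1_11 v (by omega) (by omega)
  · rcases Nat.lt_or_ge v 56139 with h | h
    · rcases Nat.lt_or_ge v 48368 with h | h
      · rcases Nat.lt_or_ge v 41463 with h | h
        · exact edgesRangeI_spec iota E 1 3206 38257 edges_1_12 v (by omega) (by omega)
        · rcases Nat.lt_or_ge v 45009 with h | h
          · exact edgesRangeI_spec iota E 1 3546 41463 edges_1_13 v (by omega) (by omega)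
          · exact edgesRangeI_spec iota E 1 3359 45009 edges_1_14 v (by omega) (by omega)
      · rcases Nat.lt_or_ge v 51574 with h | h
        · exact edgesRangeI_spec iota E 1 3206 48368 edges_1_15 v (by omega) (by omega)
        · rcases Nat.lt_or_ge v 54161 with h | h
          · exact edgesRangeI_spec iota E 1 2587 51574 edges_1_16 v (by omega) (by omega)
          · exact edgesRangeI_spec iota E 1 1978 54161 edges_1_17 v (by omega) (by omega)
    · rcases Nat.lt_or_ge v 61888 with h | h
      · rcases Nat.lt_or_ge v 58113 with h | h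
        · exact edgesRangeI_spec iota E 1 1974 56139 edges_1_18 v (by omega) (by omega)
        · rcases Nat.lt_or_ge v 60100 with h | h
          · exact edgesRangeI_spec iota E 1 1987 58113 edges_1_19 v (by omega) (by omega)
          · exact edgesRangeI_spec iota E 1 1788 60100 edges_1_20 v (by omega) (by omega)
      · rcases Nat.lt_or_ge v 63569 with h | h
        · exact edgesRangeI_spec iota E 1 1681 61888 edges_1_21 v (by omega) (by omega)
        · rcases Nat.lt_or_ge v 65306 with h | h
          · exact edgesRangeI_spec iota E 1 1737 63569 edges_1_22 v (by omega) (by omega)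
          · exact edgesRangeI_spec iota E 1 117 65306 edges_1_23 v (by omega) (by omega)

theorem edgesx_2 : ∀ v, v < 65423 → edgeOKI iota E 2 v = true := by
  intro v hv
  rcases Nat.lt_or_ge v 35120 with h | h
  · rcases Nat.lt_or_ge v 15886 with h | h
    · rcases Nat.lt_or_ge v 7341 with h | h
      · rcases Nat.lt_or_ge v 2194 with h | h
        · exact edgesRangeI_spec iota E 2 2194 0 edges_2_0 v (by omega) (by omega)
        · rcases Nat.lt_or_ge v 4569 with h | h
          · exact edgesRangeI_spec iota E 2 2375 2194 edges_2_1 v (by omega) (by omega)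
          · exact edgesRangeI_spec iota E 2 2772 4569 edges_2_2 v (by omega) (by omega)
      · rcases Nat.lt_or_ge v 10135 with h | h
        · exact edgesRangeI_spec iota E 2 2794 7341 edges_2_3 v (by omega) (by omega)
        · rcases Nat.lt_or_ge v 13239 with h | h
          · exact edgesRangeI_spec iota E 2 3104 10135 edges_2_4 v (by omega) (by omega)
          · exact edgesRangeI_spec iota E 2 2647 13239 edges_2_5 v (by omega) (by omega)
    · rcases Nat.lt_or_ge v 25358 with h | h
      · rcases Nat.lt_or_ge v 19090 with h | h
        · exact edgesRangeI_spec iota E 2 3204 15886 edges_2_6 v (by omega) (by omega)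
        · rcases Nat.lt_or_ge v 22562 with h | h
          · exact edgesRangeI_spec iota E 2 3472 19090 edges_2_7 v (by omega) (by omega)
          · exact edgesRangeI_spec iota E 2 2796 22562 edges_2_8 v (by omega) (by omega)
      · rcases Nat.lt_or_ge v 28813 with h | h
        · exact edgesRangeI_spec iota E 2 3455 25358 edges_2_9 v (by omega) (by omega)
        · rcases Nat.lt_or_ge v 31926 with h | h
          · exact edgesRangeI_spec iota E 2 3113 28813 edges_2_10 v (by omega) (by omega)
          · exact edgesRangeI_spec iota E 2 3194 31926 edges_2_11 v (by omega) (by omega)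
  · rcases Nat.lt_or_ge v 53776 with h | h
    · rcases Nat.lt_or_ge v 45003 with h | h
      · rcases Nat.lt_or_ge v 38810 with h | h
        · exact edgesRangeI_spec iota E 2 3690 35120 edges_2_12 v (by omega) (by omega)
        · rcases Nat.lt_or_ge v 41778 with h | h
          · exact edgesRangeI_spec iota E 2 2968 38810 edges_2_13 v (by omega) (by omega)
          · exact edgesRangeI_spec iota E 2 3225 41778 edges_2_14 v (by omega) (by omega)
      · rcases Nat.lt_or_ge v 48271 with h | h
        · exact edgesRangeI_spec iota E 2 3268 45003 edges_2_15 v (by omega) (by omega)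
        · rcases Nat.lt_or_ge v 51170 with h | h
          · exact edgesRangeI_spec iota E 2 2899 48271 edges_2_16 v (by omega) (by omega)
          · exact edgesRangeI_spec iota E 2 2606 51170 edges_2_17 v (by omega) (by omega)
    · rcases Nat.lt_or_ge v 59413 with h | h
      · rcases Nat.lt_or_ge v 55650 with h | h
        · exact edgesRangeI_spec iota E 2 1874 53776 edges_2_18 v (by omega) (by omega)
        · rcases Nat.lt_or_ge v 57514 with h | h
          · exact edgesRangeI_spec iota E 2 1864 55650 edges_2_19 v (by omega) (by omega)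
          · exact edgesRangeI_spec iota E 2 1899 57514 edges_2_20 v (by omega) (by omega)
      · rcases Nat.lt_or_ge v 63004 with h | h
        · rcases Nat.lt_or_ge v 61313 with h | h
          · exact edgesRangeI_spec iota E 2 1900 59413 edges_2_21 v (by omega) (by omega)
          · exact edgesRangeI_spec iota E 2 1691 61313 edges_2_22 v (by omega) (by omega)
        · rcases Nat.lt_or_ge v 64548 with h | h
          · exact edgesRangeI_spec iota E 2 1544 63004 edges_2_23 v (by omega) (by omega)
          · exact edgesRangeI_spec iota E 2 875 64548 edges_2_24 v (by omega) (by omega)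

theorem edgesx_3 : ∀ v, v < 65423 → edgeOKI iota E 3 v = true := by
  intro v hv
  rcases Nat.lt_or_ge v 37220 with h | h
  · rcases Nat.lt_or_ge v 14772 with h | h
    · rcases Nat.lt_or_ge v 5106 with h | h
      · rcases Nat.lt_or_ge v 2185 with h | h
        · exact edgesRangeI_spec iota E 3 2185 0 edges_3_0 v (by omega) (by omega)
        · exact edgesRangeI_spec iota E 3 2921 2185 edges_3_1 v (by omega) (by omega)
      · rcases Nat.lt_or_ge v 8106 with h | h
        · exact edgesRangeI_spec iota E 3 3000 5106 edges_3_2 v (by omega) (by omega)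
        · rcases Nat.lt_or_ge v 11291 with h | h
          · exact edgesRangeI_spec iota E 3 3185 8106 edges_3_3 v (by omega) (by omega)
          · exact edgesRangeI_spec iota E 3 3481 11291 edges_3_4 v (by omega) (by omega)
    · rcases Nat.lt_or_ge v 25683 with h | h
      · rcases Nat.lt_or_ge v 18412 with h | h
        · exact edgesRangeI_spec iota E 3 3640 14772 edges_3_5 v (by omega) (by omega)
        · rcases Nat.lt_or_ge v 22109 with h | h
          · exact edgesRangeI_spec iota E 3 3697 18412 edges_3_6 v (by omega) (by omega)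
          · exact edgesRangeI_spec iota E 3 3574 22109 edges_3_7 v (by omega) (by omega)
      · rcases Nat.lt_or_ge v 29725 with h | h
        · exact edgesRangeI_spec iota E 3 4042 25683 edges_3_8 v (by omega) (by omega)
        · rcases Nat.lt_or_ge v 33254 with h | h
          · exact edgesRangeI_spec iota E 3 3529 29725 edges_3_9 v (by omega) (by omega)
          · exact edgesRangeI_spec iota E 3 3966 33254 edges_3_10 v (by omega) (by omega)
  · rcases Nat.lt_or_ge v 55933 with h | h
    · rcases Nat.lt_or_ge v 47969 with h | h
      · rcases Nat.lt_or_ge v 40895 with h | h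
        · exact edgesRangeI_spec iota E 3 3675 37220 edges_3_11 v (by omega) (by omega)
        · rcases Nat.lt_or_ge v 44510 with h | h
          · exact edgesRangeI_spec iota E 3 3615 40895 edges_3_12 v (by omega) (by omega)
          · exact edgesRangeI_spec iota E 3 3459 44510 edges_3_13 v (by omega) (by omega)
      · rcases Nat.lt_or_ge v 51087 with h | h
        · exact edgesRangeI_spec iota E 3 3118 47969 edges_3_14 v (by omega) (by omega)
        · rcases Nat.lt_or_ge v 53982 with h | h
          · exact edgesRangeI_spec iota E 3 2895 51087 edges_3_15 v (by omega) (by omega)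
          · exact edgesRangeI_spec iota E 3 1951 53982 edges_3_16 v (by omega) (by omega)
    · rcases Nat.lt_or_ge v 61724 with h | h
      · rcases Nat.lt_or_ge v 57839 with h | h
        · exact edgesRangeI_spec iota E 3 1906 55933 edges_3_17 v (by omega) (by omega)
        · rcases Nat.lt_or_ge v 59718 with h | h
          · exact edgesRangeI_spec iota E 3 1879 57839 edges_3_18 v (by omega) (by omega)
          · exact edgesRangeI_spec iota E 3 2006 59718 edges_3_19 v (by omega) (by omega)
      · rcases Nat.lt_or_ge v 63620 with h | h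
        · exact edgesRangeI_spec iota E 3 1896 61724 edges_3_20 v (by omega) (by omega)
        · rcases Nat.lt_or_ge v 65383 with h | h
          · exact edgesRangeI_spec iota E 3 1763 63620 edges_3_21 v (by omega) (by omega)
          · exact edgesRangeI_spec iota E 3 40 65383 edges_3_22 v (by omega) (by omega)

theorem edgesx_4 : ∀ v, v < 65423 → edgeOKI iota E 4 v = true := by
  intro v hv
  rcases Nat.lt_or_ge v 35670 with h | h
  · rcases Nat.lt_or_ge v 15356 with h | h
    · rcases Nat.lt_or_ge v 5575 with h | h
      · rcases Nat.lt_or_ge v 2588 with h | h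
        · exact edgesRangeI_spec iota E 4 2588 0 edges_4_0 v (by omega) (by omega)
        · exact edgesRangeI_spec iota E 4 2987 2588 edges_4_1 v (by omega) (by omega)
      · rcases Nat.lt_or_ge v 8765 with h | h
        · exact edgesRangeI_spec iota E 4 3190 5575 edges_4_2 v (by omega) (by omega)
        · rcases Nat.lt_or_ge v 12037 with h | h
          · exact edgesRangeI_spec iota E 4 3272 8765 edges_4_3 v (by omega) (by omega)
          · exact edgesRangeI_spec iota E 4 3319 12037 edges_4_4 v (by omega) (by omega)
    · rcases Nat.lt_or_ge v 25380 with h | h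
      · rcases Nat.lt_or_ge v 18730 with h | h
        · exact edgesRangeI_spec iota E 4 3374 15356 edges_4_5 v (by omega) (by omega)
        · rcases Nat.lt_or_ge v 22071 with h | h
          · exact edgesRangeI_spec iota E 4 3341 18730 edges_4_6 v (by omega) (by omega)
          · exact edgesRangeI_spec iota E 4 3309 22071 edges_4_7 v (by omega) (by omega)
      · rcases Nat.lt_or_ge v 28934 with h | h
        · exact edgesRangeI_spec iota E 4 3554 25380 edges_4_8 v (by omega) (by omega)
        · rcases Nat.lt_or_ge v 32381 with h | h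
          · exact edgesRangeI_spec iota E 4 3447 28934 edges_4_9 v (by omega) (by omega)
          · exact edgesRangeI_spec iota E 4 3289 32381 edges_4_10 v (by omega) (by omega)
  · rcases Nat.lt_or_ge v 54798 with h | h
    · rcases Nat.lt_or_ge v 46575 with h | h
      · rcases Nat.lt_or_ge v 39620 with h | h
        · exact edgesRangeI_spec iota E 4 3950 35670 edges_4_11 v (by omega) (by omega)
        · rcases Nat.lt_or_ge v 42780 with h | h
          · exact edgesRangeI_spec iota E 4 3160 39620 edges_4_12 v (by omega) (by omega)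
          · exact edgesRangeI_spec iota E 4 3795 42780 edges_4_13 v (by omega) (by omega)
      · rcases Nat.lt_or_ge v 49699 with h | h
        · exact edgesRangeI_spec iota E 4 3124 46575 edges_4_14 v (by omega) (by omega)
        · rcases Nat.lt_or_ge v 52731 with h | h
          · exact edgesRangeI_spec iota E 4 3032 49699 edges_4_15 v (by omega) (by omega)
          · exact edgesRangeI_spec iota E 4 2067 52731 edges_4_16 v (by omega) (by omega)
    · rcases Nat.lt_or_ge v 60254 with h | h
      · rcases Nat.lt_or_ge v 56590 with h | h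
        · exact edgesRangeI_spec iota E 4 1792 54798 edges_4_17 v (by omega) (by omega)
        · rcases Nat.lt_or_ge v 58346 with h | h
          · exact edgesRangeI_spec iota E 4 1756 56590 edges_4_18 v (by omega) (by omega)
          · exact edgesRangeI_spec iota E 4 1908 58346 edges_4_19 v (by omega) (by omega)
      · rcases Nat.lt_or_ge v 62121 with h | h
        · exact edgesRangeI_spec iota E 4 1867 60254 edges_4_20 v (by omega) (by omega)
        · rcases Nat.lt_or_ge v 63968 with h | h
          · exact edgesRangeI_spec iota E 4 1847 62121 edges_4_21 v (by omega) (by omega)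
          · exact edgesRangeI_spec iota E 4 1455 63968 edges_4_22 v (by omega) (by omega)

theorem edgesx_5 : ∀ v, v < 65423 → edgeOKI iota E 5 v = true := by
  intro v hv
  rcases Nat.lt_or_ge v 35006 with h | h
  · rcases Nat.lt_or_ge v 14142 with h | h
    · rcases Nat.lt_or_ge v 4602 with h | h
      · rcases Nat.lt_or_ge v 2063 with h | h
        · exact edgesRangeI_spec iota E 5 2063 0 edges_5_0 v (by omega) (by omega)
        · exact edgesRangeI_spec iota E 5 2539 2063 edges_5_1 v (by omega) (by omega)
      · rcases Nat.lt_or_ge v 7642 with h | h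
        · exact edgesRangeI_spec iota E 5 3040 4602 edges_5_2 v (by omega) (by omega)
        · rcases Nat.lt_or_ge v 10775 with h | h
          · exact edgesRangeI_spec iota E 5 3133 7642 edges_5_3 v (by omega) (by omega)
          · exact edgesRangeI_spec iota E 5 3367 10775 edges_5_4 v (by omega) (by omega)
    · rcases Nat.lt_or_ge v 24403 with h | h
      · rcases Nat.lt_or_ge v 17558 with h | h
        · exact edgesRangeI_spec iota E 5 3416 14142 edges_5_5 v (by omega) (by omega)
        · rcases Nat.lt_or_ge v 20698 with h | h
          · exact edgesRangeI_spec iota E 5 3140 17558 edges_5_6 v (by omega) (by omega)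
          · exact edgesRangeI_spec iota E 5 3705 20698 edges_5_7 v (by omega) (by omega)
      · rcases Nat.lt_or_ge v 27719 with h | h
        · exact edgesRangeI_spec iota E 5 3316 24403 edges_5_8 v (by omega) (by omega)
        · rcases Nat.lt_or_ge v 31538 with h | h
          · exact edgesRangeI_spec iota E 5 3819 27719 edges_5_9 v (by omega) (by omega)
          · exact edgesRangeI_spec iota E 5 3468 31538 edges_5_10 v (by omega) (by omega)
  · rcases Nat.lt_or_ge v 53206 with h | h
    · rcases Nat.lt_or_ge v 42570 with h | h
      · rcases Nat.lt_or_ge v 39000 with h | h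
        · exact edgesRangeI_spec iota E 5 3994 35006 edges_5_11 v (by omega) (by omega)
        · exact edgesRangeI_spec iota E 5 3570 39000 edges_5_12 v (by omega) (by omega)
      · rcases Nat.lt_or_ge v 46458 with h | h
        · exact edgesRangeI_spec iota E 5 3888 42570 edges_5_13 v (by omega) (by omega)
        · rcases Nat.lt_or_ge v 49742 with h | h
          · exact edgesRangeI_spec iota E 5 3284 46458 edges_5_14 v (by omega) (by omega)
          · exact edgesRangeI_spec iota E 5 3464 49742 edges_5_15 v (by omega) (by omega)
    · rcases Nat.lt_or_ge v 60129 with h | h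
      · rcases Nat.lt_or_ge v 55480 with h | h
        · exact edgesRangeI_spec iota E 5 2274 53206 edges_5_16 v (by omega) (by omega)
        · rcases Nat.lt_or_ge v 57760 with h | h
          · exact edgesRangeI_spec iota E 5 2280 55480 edges_5_17 v (by omega) (by omega)
          · exact edgesRangeI_spec iota E 5 2369 57760 edges_5_18 v (by omega) (by omega)
      · rcases Nat.lt_or_ge v 62246 with h | h
        · exact edgesRangeI_spec iota E 5 2117 60129 edges_5_19 v (by omega) (by omega)
        · rcases Nat.lt_or_ge v 64038 with h | h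
          · exact edgesRangeI_spec iota E 5 1792 62246 edges_5_20 v (by omega) (by omega)
          · exact edgesRangeI_spec iota E 5 1385 64038 edges_5_21 v (by omega) (by omega)

theorem edgesx_6 : ∀ v, v < 65423 → edgeOKI iota E 6 v = true := by
  intro v hv
  rcases Nat.lt_or_ge v 32188 with h | h
  · rcases Nat.lt_or_ge v 13106 with h | h
    · rcases Nat.lt_or_ge v 4370 with h | h
      · rcases Nat.lt_or_ge v 1953 with h | h
        · exact edgesRangeI_spec iota E 6 1953 0 edges_6_0 v (by omega) (by omega)
        · exact edgesRangeI_spec iota E 6 2417 1953 edges_6_1 v (by omega) (by omega)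
      · rcases Nat.lt_or_ge v 7183 with h | h
        · exact edgesRangeI_spec iota E 6 2813 4370 edges_6_2 v (by omega) (by omega)
        · rcases Nat.lt_or_ge v 10085 with h | h
          · exact edgesRangeI_spec iota E 6 2902 7183 edges_6_3 v (by omega) (by omega)
          · exact edgesRangeI_spec iota E 6 3021 10085 edges_6_4 v (by omega) (by omega)
    · rcases Nat.lt_or_ge v 22473 with h | h
      · rcases Nat.lt_or_ge v 15907 with h | h
        · exact edgesRangeI_spec iota E 6 2801 13106 edges_6_5 v (by omega) (by omega)
        · rcases Nat.lt_or_ge v 19160 with h | h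
          · exact edgesRangeI_spec iota E 6 3253 15907 edges_6_6 v (by omega) (by omega)
          · exact edgesRangeI_spec iota E 6 3313 19160 edges_6_7 v (by omega) (by omega)
      · rcases Nat.lt_or_ge v 25487 with h | h
        · exact edgesRangeI_spec iota E 6 3014 22473 edges_6_8 v (by omega) (by omega)
        · rcases Nat.lt_or_ge v 28733 with h | h
          · exact edgesRangeI_spec iota E 6 3246 25487 edges_6_9 v (by omega) (by omega)
          · exact edgesRangeI_spec iota E 6 3455 28733 edges_6_10 v (by omega) (by omega)
  · rcases Nat.lt_or_ge v 51531 with h | h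
    · rcases Nat.lt_or_ge v 41822 with h | h
      · rcases Nat.lt_or_ge v 35024 with h | h
        · exact edgesRangeI_spec iota E 6 2836 32188 edges_6_11 v (by omega) (by omega)
        · rcases Nat.lt_or_ge v 38703 with h | h
          · exact edgesRangeI_spec iota E 6 3679 35024 edges_6_12 v (by omega) (by omega)
          · exact edgesRangeI_spec iota E 6 3119 38703 edges_6_13 v (by omega) (by omega)
      · rcases Nat.lt_or_ge v 44996 with h | h
        · exact edgesRangeI_spec iota E 6 3174 41822 edges_6_14 v (by omega) (by omega)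
        · rcases Nat.lt_or_ge v 48478 with h | h
          · exact edgesRangeI_spec iota E 6 3482 44996 edges_6_15 v (by omega) (by omega)
          · exact edgesRangeI_spec iota E 6 3053 48478 edges_6_16 v (by omega) (by omega)
    · rcases Nat.lt_or_ge v 58833 with h | h
      · rcases Nat.lt_or_ge v 54186 with h | h
        · exact edgesRangeI_spec iota E 6 2655 51531 edges_6_17 v (by omega) (by omega)
        · rcases Nat.lt_or_ge v 56414 with h | h
          · exact edgesRangeI_spec iota E 6 2228 54186 edges_6_18 v (by omega) (by omega)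
          · exact edgesRangeI_spec iota E 6 2419 56414 edges_6_19 v (by omega) (by omega)
      · rcases Nat.lt_or_ge v 61459 with h | h
        · exact edgesRangeI_spec iota E 6 2626 58833 edges_6_20 v (by omega) (by omega)
        · rcases Nat.lt_or_ge v 63647 with h | h
          · exact edgesRangeI_spec iota E 6 2188 61459 edges_6_21 v (by omega) (by omega)
          · exact edgesRangeI_spec iota E 6 1776 63647 edges_6_22 v (by omega) (by omega)

theorem edgesx_7 : ∀ v, v < 65423 → edgeOKI iota E 7 v = true := by
  intro v hv
  rcases Nat.lt_or_ge v 31755 with h | h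
  · rcases Nat.lt_or_ge v 13703 with h | h
    · rcases Nat.lt_or_ge v 6684 with h | h
      · rcases Nat.lt_or_ge v 2209 with h | h
        · exact edgesRangeI_spec iota E 7 2209 0 edges_7_0 v (by omega) (by omega)
        · rcases Nat.lt_or_ge v 4403 with h | h
          · exact edgesRangeI_spec iota E 7 2194 2209 edges_7_1 v (by omega) (by omega)
          · exact edgesRangeI_spec iota E 7 2281 4403 edges_7_2 v (by omega) (by omega)
      · rcases Nat.lt_or_ge v 8979 with h | h
        · exact edgesRangeI_spec iota E 7 2295 6684 edges_7_3 v (by omega) (by omega)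
        · rcases Nat.lt_or_ge v 11283 with h | h
          · exact edgesRangeI_spec iota E 7 2304 8979 edges_7_4 v (by omega) (by omega)
          · exact edgesRangeI_spec iota E 7 2420 11283 edges_7_5 v (by omega) (by omega)
    · rcases Nat.lt_or_ge v 21122 with h | h
      · rcases Nat.lt_or_ge v 16177 with h | h
        · exact edgesRangeI_spec iota E 7 2474 13703 edges_7_6 v (by omega) (by omega)
        · rcases Nat.lt_or_ge v 18611 with h | h
          · exact edgesRangeI_spec iota E 7 2434 16177 edges_7_7 v (by omega) (by omega)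
          · exact edgesRangeI_spec iota E 7 2511 18611 edges_7_8 v (by omega) (by omega)
      · rcases Nat.lt_or_ge v 26207 with h | h
        · rcases Nat.lt_or_ge v 23731 with h | h
          · exact edgesRangeI_spec iota E 7 2609 21122 edges_7_9 v (by omega) (by omega)
          · exact edgesRangeI_spec iota E 7 2476 23731 edges_7_10 v (by omega) (by omega)
        · rcases Nat.lt_or_ge v 29327 with h | h
          · exact edgesRangeI_spec iota E 7 3120 26207 edges_7_11 v (by omega) (by omega)
          · exact edgesRangeI_spec iota E 7 2428 29327 edges_7_12 v (by omega) (by omega)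
  · rcases Nat.lt_or_ge v 49359 with h | h
    · rcases Nat.lt_or_ge v 40413 with h | h
      · rcases Nat.lt_or_ge v 34454 with h | h
        · exact edgesRangeI_spec iota E 7 2699 31755 edges_7_13 v (by omega) (by omega)
        · rcases Nat.lt_or_ge v 37703 with h | h
          · exact edgesRangeI_spec iota E 7 3249 34454 edges_7_14 v (by omega) (by omega)
          · exact edgesRangeI_spec iota E 7 2710 37703 edges_7_15 v (by omega) (by omega)
      · rcases Nat.lt_or_ge v 43315 with h | h
        · exact edgesRangeI_spec iota E 7 2902 40413 edges_7_16 v (by omega) (by omega)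
        · rcases Nat.lt_or_ge v 46527 with h | h
          · exact edgesRangeI_spec iota E 7 3212 43315 edges_7_17 v (by omega) (by omega)
          · exact edgesRangeI_spec iota E 7 2832 46527 edges_7_18 v (by omega) (by omega)
    · rcases Nat.lt_or_ge v 56681 with h | h
      · rcases Nat.lt_or_ge v 52518 with h | h
        · exact edgesRangeI_spec iota E 7 3159 49359 edges_7_19 v (by omega) (by omega)
        · rcases Nat.lt_or_ge v 54768 with h | h
          · exact edgesRangeI_spec iota E 7 2250 52518 edges_7_20 v (by omega) (by omega)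
          · exact edgesRangeI_spec iota E 7 1913 54768 edges_7_21 v (by omega) (by omega)
      · rcases Nat.lt_or_ge v 61023 with h | h
        · rcases Nat.lt_or_ge v 58663 with h | h
          · exact edgesRangeI_spec iota E 7 1982 56681 edges_7_22 v (by omega) (by omega)
          · exact edgesRangeI_spec iota E 7 2360 58663 edges_7_23 v (by omega) (by omega)
        · rcases Nat.lt_or_ge v 64594 with h | h
          · exact edgesRangeI_spec iota E 7 3571 61023 edges_7_24 v (by omega) (by omega)
          · exact edgesRangeI_spec iota E 7 829 64594 edges_7_25 v (by omega) (by omega)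

theorem edgesx_8 : ∀ v, v < 65423 → edgeOKI iota E 8 v = true := by
  intro v hv
  rcases Nat.lt_or_ge v 39925 with h | h
  · rcases Nat.lt_or_ge v 20684 with h | h
    · rcases Nat.lt_or_ge v 10645 with h | h
      · rcases Nat.lt_or_ge v 3630 with h | h
        · exact edgesRangeI_spec iota E 8 3630 0 edges_8_0 v (by omega) (by omega)
        · rcases Nat.lt_or_ge v 7244 with h | h
          · exact edgesRangeI_spec iota E 8 3614 3630 edges_8_1 v (by omega) (by omega)
          · exact edgesRangeI_spec iota E 8 3401 7244 edges_8_2 v (by omega) (by omega)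
      · rcases Nat.lt_or_ge v 13994 with h | h
        · exact edgesRangeI_spec iota E 8 3349 10645 edges_8_3 v (by omega) (by omega)
        · rcases Nat.lt_or_ge v 17368 with h | h
          · exact edgesRangeI_spec iota E 8 3374 13994 edges_8_4 v (by omega) (by omega)
          · exact edgesRangeI_spec iota E 8 3316 17368 edges_8_5 v (by omega) (by omega)
    · rcases Nat.lt_or_ge v 30308 with h | h
      · rcases Nat.lt_or_ge v 23879 with h | h
        · exact edgesRangeI_spec iota E 8 3195 20684 edges_8_6 v (by omega) (by omega)
        · rcases Nat.lt_or_ge v 27172 with h | h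
          · exact edgesRangeI_spec iota E 8 3293 23879 edges_8_7 v (by omega) (by omega)
          · exact edgesRangeI_spec iota E 8 3136 27172 edges_8_8 v (by omega) (by omega)
      · rcases Nat.lt_or_ge v 33552 with h | h
        · exact edgesRangeI_spec iota E 8 3244 30308 edges_8_9 v (by omega) (by omega)
        · rcases Nat.lt_or_ge v 36569 with h | h
          · exact edgesRangeI_spec iota E 8 3017 33552 edges_8_10 v (by omega) (by omega)
          · exact edgesRangeI_spec iota E 8 3356 36569 edges_8_11 v (by omega) (by omega)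
  · rcases Nat.lt_or_ge v 55962 with h | h
    · rcases Nat.lt_or_ge v 49243 with h | h
      · rcases Nat.lt_or_ge v 42935 with h | h
        · exact edgesRangeI_spec iota E 8 3010 39925 edges_8_12 v (by omega) (by omega)
        · rcases Nat.lt_or_ge v 46075 with h | h
          · exact edgesRangeI_spec iota E 8 3140 42935 edges_8_13 v (by omega) (by omega)
          · exact edgesRangeI_spec iota E 8 3168 46075 edges_8_14 v (by omega) (by omega)
      · rcases Nat.lt_or_ge v 52076 with h | h
        · exact edgesRangeI_spec iota E 8 2833 49243 edges_8_15 v (by omega) (by omega)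
        · rcases Nat.lt_or_ge v 54236 with h | h
          · exact edgesRangeI_spec iota E 8 2160 52076 edges_8_16 v (by omega) (by omega)
          · exact edgesRangeI_spec iota E 8 1726 54236 edges_8_17 v (by omega) (by omega)
    · rcases Nat.lt_or_ge v 61380 with h | h
      · rcases Nat.lt_or_ge v 57726 with h | h
        · exact edgesRangeI_spec iota E 8 1764 55962 edges_8_18 v (by omega) (by omega)
        · rcases Nat.lt_or_ge v 59484 with h | h
          · exact edgesRangeI_spec iota E 8 1758 57726 edges_8_19 v (by omega) (by omega)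
          · exact edgesRangeI_spec iota E 8 1896 59484 edges_8_20 v (by omega) (by omega)
      · rcases Nat.lt_or_ge v 63167 with h | h
        · exact edgesRangeI_spec iota E 8 1787 61380 edges_8_21 v (by omega) (by omega)
        · rcases Nat.lt_or_ge v 65030 with h | h
          · exact edgesRangeI_spec iota E 8 1863 63167 edges_8_22 v (by omega) (by omega)
          · exact edgesRangeI_spec iota E 8 393 65030 edges_8_23 v (by omega) (by omega)

theorem hA0 : ∀ v, v < 65423 → aliasOK E v = true := by
  intro v hv
  rcases Nat.lt_or_ge v 34687 with h | h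
  · rcases Nat.lt_or_ge v 18654 with h | h
    · rcases Nat.lt_or_ge v 7965 with h | h
      · rcases Nat.lt_or_ge v 4275 with h | h
        · exact aliasRange_spec E 4275 0 aliases_0 v (by omega) (by omega)
        · exact aliasRange_spec E 3690 4275 aliases_1 v (by omega) (by omega)
      · rcases Nat.lt_or_ge v 11565 with h | h
        · exact aliasRange_spec E 3600 7965 aliases_2 v (by omega) (by omega)
        · rcases Nat.lt_or_ge v 15197 with h | h
          · exact aliasRange_spec E 3632 11565 aliases_3 v (by omega) (by omega)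
          · exact aliasRange_spec E 3457 15197 aliases_4 v (by omega) (by omega)
    · rcases Nat.lt_or_ge v 25263 with h | h
      · rcases Nat.lt_or_ge v 22075 with h | h
        · exact aliasRange_spec E 3421 18654 aliases_5 v (by omega) (by omega)
        · exact aliasRange_spec E 3188 22075 aliases_6 v (by omega) (by omega)
      · rcases Nat.lt_or_ge v 28566 with h | h
        · exact aliasRange_spec E 3303 25263 aliases_7 v (by omega) (by omega)
        · rcases Nat.lt_or_ge v 31594 with h | h
          · exact aliasRange_spec E 3028 28566 aliases_8 v (by omega) (by omega)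
          · exact aliasRange_spec E 3093 31594 aliases_9 v (by omega) (by omega)
  · rcases Nat.lt_or_ge v 46189 with h | h
    · rcases Nat.lt_or_ge v 39583 with h | h
      · rcases Nat.lt_or_ge v 37323 with h | h
        · exact aliasRange_spec E 2636 34687 aliases_10 v (by omega) (by omega)
        · exact aliasRange_spec E 2260 37323 aliases_11 v (by omega) (by omega)
      · rcases Nat.lt_or_ge v 41927 with h | h
        · exact aliasRange_spec E 2344 39583 aliases_12 v (by omega) (by omega)
        · rcases Nat.lt_or_ge v 44226 with h | h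
          · exact aliasRange_spec E 2299 41927 aliases_13 v (by omega) (by omega)
          · exact aliasRange_spec E 1963 44226 aliases_14 v (by omega) (by omega)
    · rcases Nat.lt_or_ge v 50361 with h | h
      · rcases Nat.lt_or_ge v 48351 with h | h
        · exact aliasRange_spec E 2162 46189 aliases_15 v (by omega) (by omega)
        · exact aliasRange_spec E 2010 48351 aliases_16 v (by omega) (by omega)
      · rcases Nat.lt_or_ge v 52471 with h | h
        · exact aliasRange_spec E 2110 50361 aliases_17 v (by omega) (by omega)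
        · rcases Nat.lt_or_ge v 58217 with h | h
          · exact aliasRange_spec E 5746 52471 aliases_18 v (by omega) (by omega)
          · exact aliasRange_spec E 7206 58217 aliases_19 v (by omega) (by omega)

theorem hrows0 : ∀ v, v < 65423 → tb RS v = true → rowOK2 E RS v E.D.k = true := by
  intro v hv
  rcases Nat.lt_or_ge v 33000 with h | h
  · rcases Nat.lt_or_ge v 16500 with h | h
    · rcases Nat.lt_or_ge v 7500 with h | h
      · rcases Nat.lt_or_ge v 3000 with h | h
        · rcases Nat.lt_or_ge v 1500 with h | h
          · exact rowsRange_spec E RS 1500 0 rows_0 v (by omega) (by omega)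
          · exact rowsRange_spec E RS 1500 1500 rows_1 v (by omega) (by omega)
        · rcases Nat.lt_or_ge v 4500 with h | h
          · exact rowsRange_spec E RS 1500 3000 rows_2 v (by omega) (by omega)
          · rcases Nat.lt_or_ge v 6000 with h | h
            · exact rowsRange_spec E RS 1500 4500 rows_3 v (by omega) (by omega)
            · exact rowsRange_spec E RS 1500 6000 rows_4 v (by omega) (by omega)
      · rcases Nat.lt_or_ge v 12000 with h | h
        · rcases Nat.lt_or_ge v 9000 with h | h
          · exact rowsRange_spec E RS 1500 7500 rows_5 v (by omega) (by omega)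
          · rcases Nat.lt_or_ge v 10500 with h | h
            · exact rowsRange_spec E RS 1500 9000 rows_6 v (by omega) (by omega)
            · exact rowsRange_spec E RS 1500 10500 rows_7 v (by omega) (by omega)
        · rcases Nat.lt_or_ge v 13500 with h | h
          · exact rowsRange_spec E RS 1500 12000 rows_8 v (by omega) (by omega)
          · rcases Nat.lt_or_ge v 15000 with h | h
            · exact rowsRange_spec E RS 1500 13500 rows_9 v (by omega) (by omega)
            · exact rowsRange_spec E RS 1500 15000 rows_10 v (by omega) (by omega)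
    · rcases Nat.lt_or_ge v 24000 with h | h
      · rcases Nat.lt_or_ge v 19500 with h | h
        · rcases Nat.lt_or_ge v 18000 with h | h
          · exact rowsRange_spec E RS 1500 16500 rows_11 v (by omega) (by omega)
          · exact rowsRange_spec E RS 1500 18000 rows_12 v (by omega) (by omega)
        · rcases Nat.lt_or_ge v 21000 with h | h
          · exact rowsRange_spec E RS 1500 19500 rows_13 v (by omega) (by omega)
          · rcases Nat.lt_or_ge v 22500 with h | h
            · exact rowsRange_spec E RS 1500 21000 rows_14 v (by omega) (by omega)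
            · exact rowsRange_spec E RS 1500 22500 rows_15 v (by omega) (by omega)
      · rcases Nat.lt_or_ge v 28500 with h | h
        · rcases Nat.lt_or_ge v 25500 with h | h
          · exact rowsRange_spec E RS 1500 24000 rows_16 v (by omega) (by omega)
          · rcases Nat.lt_or_ge v 27000 with h | h
            · exact rowsRange_spec E RS 1500 25500 rows_17 v (by omega) (by omega)
            · exact rowsRange_spec E RS 1500 27000 rows_18 v (by omega) (by omega)
        · rcases Nat.lt_or_ge v 30000 with h | h
          · exact rowsRange_spec E RS 1500 28500 rows_19 v (by omega) (by omega)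
          · rcases Nat.lt_or_ge v 31500 with h | h
            · exact rowsRange_spec E RS 1500 30000 rows_20 v (by omega) (by omega)
            · exact rowsRange_spec E RS 1500 31500 rows_21 v (by omega) (by omega)
  · rcases Nat.lt_or_ge v 49500 with h | h
    · rcases Nat.lt_or_ge v 40500 with h | h
      · rcases Nat.lt_or_ge v 36000 with h | h
        · rcases Nat.lt_or_ge v 34500 with h | h
          · exact rowsRange_spec E RS 1500 33000 rows_22 v (by omega) (by omega)
          · exact rowsRange_spec E RS 1500 34500 rows_23 v (by omega) (by omega)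
        · rcases Nat.lt_or_ge v 37500 with h | h
          · exact rowsRange_spec E RS 1500 36000 rows_24 v (by omega) (by omega)
          · rcases Nat.lt_or_ge v 39000 with h | h
            · exact rowsRange_spec E RS 1500 37500 rows_25 v (by omega) (by omega)
            · exact rowsRange_spec E RS 1500 39000 rows_26 v (by omega) (by omega)
      · rcases Nat.lt_or_ge v 45000 with h | h
        · rcases Nat.lt_or_ge v 42000 with h | h
          · exact rowsRange_spec E RS 1500 40500 rows_27 v (by omega) (by omega)
          · rcases Nat.lt_or_ge v 43500 with h | h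
            · exact rowsRange_spec E RS 1500 42000 rows_28 v (by omega) (by omega)
            · exact rowsRange_spec E RS 1500 43500 rows_29 v (by omega) (by omega)
        · rcases Nat.lt_or_ge v 46500 with h | h
          · exact rowsRange_spec E RS 1500 45000 rows_30 v (by omega) (by omega)
          · rcases Nat.lt_or_ge v 48000 with h | h
            · exact rowsRange_spec E RS 1500 46500 rows_31 v (by omega) (by omega)
            · exact rowsRange_spec E RS 1500 48000 rows_32 v (by omega) (by omega)
    · rcases Nat.lt_or_ge v 57000 with h | h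
      · rcases Nat.lt_or_ge v 52500 with h | h
        · rcases Nat.lt_or_ge v 51000 with h | h
          · exact rowsRange_spec E RS 1500 49500 rows_33 v (by omega) (by omega)
          · exact rowsRange_spec E RS 1500 51000 rows_34 v (by omega) (by omega)
        · rcases Nat.lt_or_ge v 54000 with h | h
          · exact rowsRange_spec E RS 1500 52500 rows_35 v (by omega) (by omega)
          · rcases Nat.lt_or_ge v 55500 with h | h
            · exact rowsRange_spec E RS 1500 54000 rows_36 v (by omega) (by omega)
            · exact rowsRange_spec E RS 1500 55500 rows_37 v (by omega) (by omega)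
      · rcases Nat.lt_or_ge v 61500 with h | h
        · rcases Nat.lt_or_ge v 58500 with h | h
          · exact rowsRange_spec E RS 1500 57000 rows_38 v (by omega) (by omega)
          · rcases Nat.lt_or_ge v 60000 with h | h
            · exact rowsRange_spec E RS 1500 58500 rows_39 v (by omega) (by omega)
            · exact rowsRange_spec E RS 1500 60000 rows_40 v (by omega) (by omega)
        · rcases Nat.lt_or_ge v 63000 with h | h
          · exact rowsRange_spec E RS 1500 61500 rows_41 v (by omega) (by omega)
          · rcases Nat.lt_or_ge v 64500 with h | h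
            · exact rowsRange_spec E RS 1500 63000 rows_42 v (by omega) (by omega)
            · exact rowsRange_spec E RS 923 64500 rows_43 v (by omega) (by omega)

theorem cb_0 : cntBits RS 0 = 0 := rfl

theorem cb_1 : cntBits RS 20000 = 7745 := by
  have h := cntBits_step RS 0 20000
  rw [cb_0, cnt_0] at h
  exact h

theorem cb_2 : cntBits RS 40000 = 12513 := by
  have h := cntBits_step RS 20000 20000
  rw [cb_1, cnt_1] at h
  exact h

theorem cb_3 : cntBits RS 60000 = 22737 := by
  have h := cntBits_step RS 40000 20000
  rw [cb_2, cnt_2] at h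
  exact h

theorem cb_4 : cntBits RS 65423 = 28160 := by
  have h := cntBits_step RS 60000 5423
  rw [cb_3, cnt_3] at h
  exact h

theorem set_ok : setOK 65423 28160 RS = true :=
  setOK_of_parts cb_4 set_zero set_lt

theorem relf_0 : ∀ v, v < 28160 → W_0 v = v := by
  intro v hv
  exact fixPtsF_spec W_0 28160 0 relc_0_0 v (by omega) (by omega)

set_option maxRecDepth 1000000 in
theorem walk_0 : ∀ v, walkT ctF (D.wlen 0) (D.wordP 0) v = W_0 v := by
  intro v
  simp only [W_0, forceL_eq]
  rfl

theorem relw_0 : ∀ v, v < 28160 → walkT ctF (D.wlen 0) (D.wordP 0) v = v := by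
  intro v hv
  rw [walk_0]
  exact relf_0 v hv

theorem relf_1 : ∀ v, v < 28160 → W_1 v = v := by
  intro v hv
  exact fixPtsF_spec W_1 28160 0 relc_1_0 v (by omega) (by omega)

set_option maxRecDepth 1000000 in
theorem walk_1 : ∀ v, walkT ctF (D.wlen 1) (D.wordP 1) v = W_1 v := by
  intro v
  simp only [W_1, forceL_eq]
  rfl

theorem relw_1 : ∀ v, v < 28160 → walkT ctF (D.wlen 1) (D.wordP 1) v = v := by
  intro v hv
  rw [walk_1]
  exact relf_1 v hv

theorem relf_2 : ∀ v, v < 28160 → W_2 v = v := by
  intro v hv
  exact fixPtsF_spec W_2 28160 0 relc_2_0 v (by omega) (by omega)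

set_option maxRecDepth 1000000 in
theorem walk_2 : ∀ v, walkT ctF (D.wlen 2) (D.wordP 2) v = W_2 v := by
  intro v
  simp only [W_2, forceL_eq]
  rfl

theorem relw_2 : ∀ v, v < 28160 → walkT ctF (D.wlen 2) (D.wordP 2) v = v := by
  intro v hv
  rw [walk_2]
  exact relf_2 v hv

theorem relf_3 : ∀ v, v < 28160 → W_3 v = v := by
  intro v hv
  exact fixPtsF_spec W_3 28160 0 relc_3_0 v (by omega) (by omega)

set_option maxRecDepth 1000000 in
theorem walk_3 : ∀ v, walkT ctF (D.wlen 3) (D.wordP 3) v = W_3 v := by
  intro v
  simp only [W_3, forceL_eq]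
  rfl

theorem relw_3 : ∀ v, v < 28160 → walkT ctF (D.wlen 3) (D.wordP 3) v = v := by
  intro v hv
  rw [walk_3]
  exact relf_3 v hv

theorem relf_4 : ∀ v, v < 28160 → W_4 v = v := by
  intro v hv
  exact fixPtsF_spec W_4 28160 0 relc_4_0 v (by omega) (by omega)

set_option maxRecDepth 1000000 in
theorem walk_4 : ∀ v, walkT ctF (D.wlen 4) (D.wordP 4) v = W_4 v := by
  intro v
  simp only [W_4, forceL_eq]
  rfl

theorem relw_4 : ∀ v, v < 28160 → walkT ctF (D.wlen 4) (D.wordP 4) v = v := by
  intro v hv
  rw [walk_4]
  exact relf_4 v hv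

theorem relf_5 : ∀ v, v < 28160 → W_5 v = v := by
  intro v hv
  exact fixPtsF_spec W_5 28160 0 relc_5_0 v (by omega) (by omega)

set_option maxRecDepth 1000000 in
theorem walk_5 : ∀ v, walkT ctF (D.wlen 5) (D.wordP 5) v = W_5 v := by
  intro v
  simp only [W_5, forceL_eq]
  rfl

theorem relw_5 : ∀ v, v < 28160 → walkT ctF (D.wlen 5) (D.wordP 5) v = v := by
  intro v hv
  rw [walk_5]
  exact relf_5 v hv

theorem relf_6 : ∀ v, v < 28160 → W_6 v = v := by
  intro v hv
  exact fixPtsF_spec W_6 28160 0 relc_6_0 v (by omega) (by omega)

set_option maxRecDepth 1000000 in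
theorem walk_6 : ∀ v, walkT ctF (D.wlen 6) (D.wordP 6) v = W_6 v := by
  intro v
  simp only [W_6, forceL_eq]
  rfl

theorem relw_6 : ∀ v, v < 28160 → walkT ctF (D.wlen 6) (D.wordP 6) v = v := by
  intro v hv
  rw [walk_6]
  exact relf_6 v hv

theorem relf_7 : ∀ v, v < 28160 → W_7 v = v := by
  intro v hv
  exact fixPtsF_spec W_7 28160 0 relc_7_0 v (by omega) (by omega)

set_option maxRecDepth 1000000 in
theorem walk_7 : ∀ v, walkT ctF (D.wlen 7) (D.wordP 7) v = W_7 v := by
  intro v
  simp only [W_7, forceL_eq]
  rfl

theorem relw_7 : ∀ v, v < 28160 → walkT ctF (D.wlen 7) (D.wordP 7) v = v := by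
  intro v hv
  rw [walk_7]
  exact relf_7 v hv

theorem relf_8 : ∀ v, v < 28160 → W_8 v = v := by
  intro v hv
  exact fixPtsF_spec W_8 28160 0 relc_8_0 v (by omega) (by omega)

set_option maxRecDepth 1000000 in
theorem walk_8 : ∀ v, walkT ctF (D.wlen 8) (D.wordP 8) v = W_8 v := by
  intro v
  simp only [W_8, forceL_eq]
  rfl

theorem relw_8 : ∀ v, v < 28160 → walkT ctF (D.wlen 8) (D.wordP 8) v = v := by
  intro v hv
  rw [walk_8]
  exact relf_8 v hv

theorem relf_9 : ∀ v, v < 28160 → W_9 v = v := by
  intro v hv
  exact fixPtsF_spec W_9 28160 0 relc_9_0 v (by omega) (by omega)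

set_option maxRecDepth 1000000 in
theorem walk_9 : ∀ v, walkT ctF (D.wlen 9) (D.wordP 9) v = W_9 v := by
  intro v
  simp only [W_9, forceL_eq]
  rfl

theorem relw_9 : ∀ v, v < 28160 → walkT ctF (D.wlen 9) (D.wordP 9) v = v := by
  intro v hv
  rw [walk_9]
  exact relf_9 v hv

theorem relf_10 : ∀ v, v < 28160 → W_10 v = v := by
  intro v hv
  exact fixPtsF_spec W_10 28160 0 relc_10_0 v (by omega) (by omega)

set_option maxRecDepth 1000000 in
theorem walk_10 : ∀ v, walkT ctF (D.wlen 10) (D.wordP 10) v = W_10 v := by
  intro v
  simp only [W_10, forceL_eq]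
  rfl

theorem relw_10 : ∀ v, v < 28160 → walkT ctF (D.wlen 10) (D.wordP 10) v = v := by
  intro v hv
  rw [walk_10]
  exact relf_10 v hv

theorem relf_11 : ∀ v, v < 28160 → W_11 v = v := by
  intro v hv
  exact fixPtsF_spec W_11 28160 0 relc_11_0 v (by omega) (by omega)

set_option maxRecDepth 1000000 in
theorem walk_11 : ∀ v, walkT ctF (D.wlen 11) (D.wordP 11) v = W_11 v := by
  intro v
  simp only [W_11, forceL_eq]
  rfl

theorem relw_11 : ∀ v, v < 28160 → walkT ctF (D.wlen 11) (D.wordP 11) v = v := by
  intro v hv
  rw [walk_11]
  exact relf_11 v hv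

theorem relf_12 : ∀ v, v < 28160 → W_12 v = v := by
  intro v hv
  exact fixPtsF_spec W_12 28160 0 relc_12_0 v (by omega) (by omega)

set_option maxRecDepth 1000000 in
theorem walk_12 : ∀ v, walkT ctF (D.wlen 12) (D.wordP 12) v = W_12 v := by
  intro v
  simp only [W_12, forceL_eq]
  rfl

theorem relw_12 : ∀ v, v < 28160 → walkT ctF (D.wlen 12) (D.wordP 12) v = v := by
  intro v hv
  rw [walk_12]
  exact relf_12 v hv

theorem relf_13 : ∀ v, v < 28160 → W_13 v = v := by
  intro v hv
  exact fixPtsF_spec W_13 28160 0 relc_13_0 v (by omega) (by omega)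

set_option maxRecDepth 1000000 in
theorem walk_13 : ∀ v, walkT ctF (D.wlen 13) (D.wordP 13) v = W_13 v := by
  intro v
  simp only [W_13, forceL_eq]
  rfl

theorem relw_13 : ∀ v, v < 28160 → walkT ctF (D.wlen 13) (D.wordP 13) v = v := by
  intro v hv
  rw [walk_13]
  exact relf_13 v hv

theorem relf_14 : ∀ v, v < 28160 → W_14 v = v := by
  intro v hv
  exact fixPtsF_spec W_14 28160 0 relc_14_0 v (by omega) (by omega)

set_option maxRecDepth 1000000 in
theorem walk_14 : ∀ v, walkT ctF (D.wlen 14) (D.wordP 14) v = W_14 v := by
  intro v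
  simp only [W_14, forceL_eq]
  rfl

theorem relw_14 : ∀ v, v < 28160 → walkT ctF (D.wlen 14) (D.wordP 14) v = v := by
  intro v hv
  rw [walk_14]
  exact relf_14 v hv

theorem relf_15 : ∀ v, v < 28160 → W_15 v = v := by
  intro v hv
  exact fixPtsF_spec W_15 28160 0 relc_15_0 v (by omega) (by omega)

set_option maxRecDepth 1000000 in
theorem walk_15 : ∀ v, walkT ctF (D.wlen 15) (D.wordP 15) v = W_15 v := by
  intro v
  simp only [W_15, forceL_eq]
  rfl

theorem relw_15 : ∀ v, v < 28160 → walkT ctF (D.wlen 15) (D.wordP 15) v = v := by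
  intro v hv
  rw [walk_15]
  exact relf_15 v hv

theorem relf_16 : ∀ v, v < 28160 → W_16 v = v := by
  intro v hv
  exact fixPtsF_spec W_16 28160 0 relc_16_0 v (by omega) (by omega)

set_option maxRecDepth 1000000 in
theorem walk_16 : ∀ v, walkT ctF (D.wlen 16) (D.wordP 16) v = W_16 v := by
  intro v
  simp only [W_16, forceL_eq]
  rfl

theorem relw_16 : ∀ v, v < 28160 → walkT ctF (D.wlen 16) (D.wordP 16) v = v := by
  intro v hv
  rw [walk_16]
  exact relf_16 v hv

theorem relf_17 : ∀ v, v < 28160 → W_17 v = v := by
  intro v hv
  exact fixPtsF_spec W_17 28160 0 relc_17_0 v (by omega) (by omega)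

set_option maxRecDepth 1000000 in
theorem walk_17 : ∀ v, walkT ctF (D.wlen 17) (D.wordP 17) v = W_17 v := by
  intro v
  simp only [W_17, forceL_eq]
  rfl

theorem relw_17 : ∀ v, v < 28160 → walkT ctF (D.wlen 17) (D.wordP 17) v = v := by
  intro v hv
  rw [walk_17]
  exact relf_17 v hv

theorem relf_18 : ∀ v, v < 28160 → W_18 v = v := by
  intro v hv
  exact fixPtsF_spec W_18 28160 0 relc_18_0 v (by omega) (by omega)

set_option maxRecDepth 1000000 in
theorem walk_18 : ∀ v, walkT ctF (D.wlen 18) (D.wordP 18) v = W_18 v := by
  intro v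
  simp only [W_18, forceL_eq]
  rfl

theorem relw_18 : ∀ v, v < 28160 → walkT ctF (D.wlen 18) (D.wordP 18) v = v := by
  intro v hv
  rw [walk_18]
  exact relf_18 v hv

theorem relf_19 : ∀ v, v < 28160 → W_19 v = v := by
  intro v hv
  exact fixPtsF_spec W_19 28160 0 relc_19_0 v (by omega) (by omega)

set_option maxRecDepth 1000000 in
theorem walk_19 : ∀ v, walkT ctF (D.wlen 19) (D.wordP 19) v = W_19 v := by
  intro v
  simp only [W_19, forceL_eq]
  rfl

theorem relw_19 : ∀ v, v < 28160 → walkT ctF (D.wlen 19) (D.wordP 19) v = v := by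
  intro v hv
  rw [walk_19]
  exact relf_19 v hv

theorem relf_20 : ∀ v, v < 28160 → W_20 v = v := by
  intro v hv
  exact fixPtsF_spec W_20 28160 0 relc_20_0 v (by omega) (by omega)

set_option maxRecDepth 1000000 in
theorem walk_20 : ∀ v, walkT ctF (D.wlen 20) (D.wordP 20) v = W_20 v := by
  intro v
  simp only [W_20, forceL_eq]
  rfl

theorem relw_20 : ∀ v, v < 28160 → walkT ctF (D.wlen 20) (D.wordP 20) v = v := by
  intro v hv
  rw [walk_20]
  exact relf_20 v hv

theorem relf_21 : ∀ v, v < 28160 → W_21 v = v := by
  intro v hv
  exact fixPtsF_spec W_21 28160 0 relc_21_0 v (by omega) (by omega)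

set_option maxRecDepth 1000000 in
theorem walk_21 : ∀ v, walkT ctF (D.wlen 21) (D.wordP 21) v = W_21 v := by
  intro v
  simp only [W_21, forceL_eq]
  rfl

theorem relw_21 : ∀ v, v < 28160 → walkT ctF (D.wlen 21) (D.wordP 21) v = v := by
  intro v hv
  rw [walk_21]
  exact relf_21 v hv

theorem relf_22 : ∀ v, v < 28160 → W_22 v = v := by
  intro v hv
  exact fixPtsF_spec W_22 28160 0 relc_22_0 v (by omega) (by omega)

set_option maxRecDepth 1000000 in
theorem walk_22 : ∀ v, walkT ctF (D.wlen 22) (D.wordP 22) v = W_22 v := by
  intro v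
  simp only [W_22, forceL_eq]
  rfl

theorem relw_22 : ∀ v, v < 28160 → walkT ctF (D.wlen 22) (D.wordP 22) v = v := by
  intro v hv
  rw [walk_22]
  exact relf_22 v hv

theorem relf_23 : ∀ v, v < 28160 → W_23 v = v := by
  intro v hv
  exact fixPtsF_spec W_23 28160 0 relc_23_0 v (by omega) (by omega)

set_option maxRecDepth 1000000 in
theorem walk_23 : ∀ v, walkT ctF (D.wlen 23) (D.wordP 23) v = W_23 v := by
  intro v
  simp only [W_23, forceL_eq]
  rfl

theorem relw_23 : ∀ v, v < 28160 → walkT ctF (D.wlen 23) (D.wordP 23) v = v := by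
  intro v hv
  rw [walk_23]
  exact relf_23 v hv

theorem relf_24 : ∀ v, v < 28160 → W_24 v = v := by
  intro v hv
  exact fixPtsF_spec W_24 28160 0 relc_24_0 v (by omega) (by omega)

set_option maxRecDepth 1000000 in
theorem walk_24 : ∀ v, walkT ctF (D.wlen 24) (D.wordP 24) v = W_24 v := by
  intro v
  simp only [W_24, forceL_eq]
  rfl

theorem relw_24 : ∀ v, v < 28160 → walkT ctF (D.wlen 24) (D.wordP 24) v = v := by
  intro v hv
  rw [walk_24]
  exact relf_24 v hv

theorem relf_25 : ∀ v, v < 28160 → W_25 v = v := by
  intro v hv
  exact fixPtsF_spec W_25 28160 0 relc_25_0 v (by omega) (by omega)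

set_option maxRecDepth 1000000 in
theorem walk_25 : ∀ v, walkT ctF (D.wlen 25) (D.wordP 25) v = W_25 v := by
  intro v
  simp only [W_25, forceL_eq]
  rfl

theorem relw_25 : ∀ v, v < 28160 → walkT ctF (D.wlen 25) (D.wordP 25) v = v := by
  intro v hv
  rw [walk_25]
  exact relf_25 v hv

theorem relf_26 : ∀ v, v < 28160 → W_26 v = v := by
  intro v hv
  exact fixPtsF_spec W_26 28160 0 relc_26_0 v (by omega) (by omega)

set_option maxRecDepth 1000000 in
theorem walk_26 : ∀ v, walkT ctF (D.wlen 26) (D.wordP 26) v = W_26 v := by
  intro v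
  simp only [W_26, forceL_eq]
  rfl

theorem relw_26 : ∀ v, v < 28160 → walkT ctF (D.wlen 26) (D.wordP 26) v = v := by
  intro v hv
  rw [walk_26]
  exact relf_26 v hv

theorem relf_27 : ∀ v, v < 28160 → W_27 v = v := by
  intro v hv
  exact fixPtsF_spec W_27 28160 0 relc_27_0 v (by omega) (by omega)

set_option maxRecDepth 1000000 in
theorem walk_27 : ∀ v, walkT ctF (D.wlen 27) (D.wordP 27) v = W_27 v := by
  intro v
  simp only [W_27, forceL_eq]
  rfl

theorem relw_27 : ∀ v, v < 28160 → walkT ctF (D.wlen 27) (D.wordP 27) v = v := by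
  intro v hv
  rw [walk_27]
  exact relf_27 v hv

theorem relf_28 : ∀ v, v < 28160 → W_28 v = v := by
  intro v hv
  exact fixPtsF_spec W_28 28160 0 relc_28_0 v (by omega) (by omega)

set_option maxRecDepth 1000000 in
theorem walk_28 : ∀ v, walkT ctF (D.wlen 28) (D.wordP 28) v = W_28 v := by
  intro v
  simp only [W_28, forceL_eq]
  rfl

theorem relw_28 : ∀ v, v < 28160 → walkT ctF (D.wlen 28) (D.wordP 28) v = v := by
  intro v hv
  rw [walk_28]
  exact relf_28 v hv

theorem relf_29 : ∀ v, v < 28160 → W_29 v = v := by
  intro v hv
  exact fixPtsF_spec W_29 28160 0 relc_29_0 v (by omega) (by omega)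

set_option maxRecDepth 1000000 in
theorem walk_29 : ∀ v, walkT ctF (D.wlen 29) (D.wordP 29) v = W_29 v := by
  intro v
  simp only [W_29, forceL_eq]
  rfl

theorem relw_29 : ∀ v, v < 28160 → walkT ctF (D.wlen 29) (D.wordP 29) v = v := by
  intro v hv
  rw [walk_29]
  exact relf_29 v hv

theorem relf_30 : ∀ v, v < 28160 → W_30 v = v := by
  intro v hv
  exact fixPtsF_spec W_30 28160 0 relc_30_0 v (by omega) (by omega)

set_option maxRecDepth 1000000 in
theorem walk_30 : ∀ v, walkT ctF (D.wlen 30) (D.wordP 30) v = W_30 v := by
  intro v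
  simp only [W_30, forceL_eq]
  rfl

theorem relw_30 : ∀ v, v < 28160 → walkT ctF (D.wlen 30) (D.wordP 30) v = v := by
  intro v hv
  rw [walk_30]
  exact relf_30 v hv

theorem relf_31 : ∀ v, v < 28160 → W_31 v = v := by
  intro v hv
  exact fixPtsF_spec W_31 28160 0 relc_31_0 v (by omega) (by omega)

set_option maxRecDepth 1000000 in
theorem walk_31 : ∀ v, walkT ctF (D.wlen 31) (D.wordP 31) v = W_31 v := by
  intro v
  simp only [W_31, forceL_eq]
  rfl

theorem relw_31 : ∀ v, v < 28160 → walkT ctF (D.wlen 31) (D.wordP 31) v = v := by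
  intro v hv
  rw [walk_31]
  exact relf_31 v hv

theorem relf_32 : ∀ v, v < 28160 → W_32 v = v := by
  intro v hv
  exact fixPtsF_spec W_32 28160 0 relc_32_0 v (by omega) (by omega)

set_option maxRecDepth 1000000 in
theorem walk_32 : ∀ v, walkT ctF (D.wlen 32) (D.wordP 32) v = W_32 v := by
  intro v
  simp only [W_32, forceL_eq]
  rfl

theorem relw_32 : ∀ v, v < 28160 → walkT ctF (D.wlen 32) (D.wordP 32) v = v := by
  intro v hv
  rw [walk_32]
  exact relf_32 v hv

theorem relf_33 : ∀ v, v < 28160 → W_33 v = v := by
  intro v hv
  exact fixPtsF_spec W_33 28160 0 relc_33_0 v (by omega) (by omega)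

set_option maxRecDepth 1000000 in
theorem walk_33 : ∀ v, walkT ctF (D.wlen 33) (D.wordP 33) v = W_33 v := by
  intro v
  simp only [W_33, forceL_eq]
  rfl

theorem relw_33 : ∀ v, v < 28160 → walkT ctF (D.wlen 33) (D.wordP 33) v = v := by
  intro v hv
  rw [walk_33]
  exact relf_33 v hv

theorem relf_34 : ∀ v, v < 28160 → W_34 v = v := by
  intro v hv
  exact fixPtsF_spec W_34 28160 0 relc_34_0 v (by omega) (by omega)

set_option maxRecDepth 1000000 in
theorem walk_34 : ∀ v, walkT ctF (D.wlen 34) (D.wordP 34) v = W_34 v := by
  intro v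
  simp only [W_34, forceL_eq]
  rfl

theorem relw_34 : ∀ v, v < 28160 → walkT ctF (D.wlen 34) (D.wordP 34) v = v := by
  intro v hv
  rw [walk_34]
  exact relf_34 v hv

theorem relf_35 : ∀ v, v < 28160 → W_35 v = v := by
  intro v hv
  exact fixPtsF_spec W_35 28160 0 relc_35_0 v (by omega) (by omega)

set_option maxRecDepth 1000000 in
theorem walk_35 : ∀ v, walkT ctF (D.wlen 35) (D.wordP 35) v = W_35 v := by
  intro v
  simp only [W_35, forceL_eq]
  rfl

theorem relw_35 : ∀ v, v < 28160 → walkT ctF (D.wlen 35) (D.wordP 35) v = v := by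
  intro v hv
  rw [walk_35]
  exact relf_35 v hv

theorem relf_36 : ∀ v, v < 28160 → W_36 v = v := by
  intro v hv
  exact fixPtsF_spec W_36 28160 0 relc_36_0 v (by omega) (by omega)

set_option maxRecDepth 1000000 in
theorem walk_36 : ∀ v, walkT ctF (D.wlen 36) (D.wordP 36) v = W_36 v := by
  intro v
  simp only [W_36, forceL_eq]
  rfl

theorem relw_36 : ∀ v, v < 28160 → walkT ctF (D.wlen 36) (D.wordP 36) v = v := by
  intro v hv
  rw [walk_36]
  exact relf_36 v hv

theorem relf_37 : ∀ v, v < 28160 → W_37 v = v := by
  intro v hv
  exact fixPtsF_spec W_37 28160 0 relc_37_0 v (by omega) (by omega)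

set_option maxRecDepth 1000000 in
theorem walk_37 : ∀ v, walkT ctF (D.wlen 37) (D.wordP 37) v = W_37 v := by
  intro v
  simp only [W_37, forceL_eq]
  rfl

theorem relw_37 : ∀ v, v < 28160 → walkT ctF (D.wlen 37) (D.wordP 37) v = v := by
  intro v hv
  rw [walk_37]
  exact relf_37 v hv

theorem relf_38 : ∀ v, v < 28160 → W_38 v = v := by
  intro v hv
  exact fixPtsF_spec W_38 28160 0 relc_38_0 v (by omega) (by omega)

set_option maxRecDepth 1000000 in
theorem walk_38 : ∀ v, walkT ctF (D.wlen 38) (D.wordP 38) v = W_38 v := by
  intro v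
  simp only [W_38, forceL_eq]
  rfl

theorem relw_38 : ∀ v, v < 28160 → walkT ctF (D.wlen 38) (D.wordP 38) v = v := by
  intro v hv
  rw [walk_38]
  exact relf_38 v hv

theorem relf_39 : ∀ v, v < 28160 → W_39 v = v := by
  intro v hv
  exact fixPtsF_spec W_39 28160 0 relc_39_0 v (by omega) (by omega)

set_option maxRecDepth 1000000 in
theorem walk_39 : ∀ v, walkT ctF (D.wlen 39) (D.wordP 39) v = W_39 v := by
  intro v
  simp only [W_39, forceL_eq]
  rfl

theorem relw_39 : ∀ v, v < 28160 → walkT ctF (D.wlen 39) (D.wordP 39) v = v := by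
  intro v hv
  rw [walk_39]
  exact relf_39 v hv

theorem relf_40 : ∀ v, v < 28160 → W_40 v = v := by
  intro v hv
  exact fixPtsF_spec W_40 28160 0 relc_40_0 v (by omega) (by omega)

set_option maxRecDepth 1000000 in
theorem walk_40 : ∀ v, walkT ctF (D.wlen 40) (D.wordP 40) v = W_40 v := by
  intro v
  simp only [W_40, forceL_eq]
  rfl

theorem relw_40 : ∀ v, v < 28160 → walkT ctF (D.wlen 40) (D.wordP 40) v = v := by
  intro v hv
  rw [walk_40]
  exact relf_40 v hv

theorem relf_41 : ∀ v, v < 28160 → W_41 v = v := by
  intro v hv
  exact fixPtsF_spec W_41 28160 0 relc_41_0 v (by omega) (by omega)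

set_option maxRecDepth 1000000 in
theorem walk_41 : ∀ v, walkT ctF (D.wlen 41) (D.wordP 41) v = W_41 v := by
  intro v
  simp only [W_41, forceL_eq]
  rfl

theorem relw_41 : ∀ v, v < 28160 → walkT ctF (D.wlen 41) (D.wordP 41) v = v := by
  intro v hv
  rw [walk_41]
  exact relf_41 v hv

theorem relf_42 : ∀ v, v < 28160 → W_42 v = v := by
  intro v hv
  exact fixPtsF_spec W_42 28160 0 relc_42_0 v (by omega) (by omega)

set_option maxRecDepth 1000000 in
theorem walk_42 : ∀ v, walkT ctF (D.wlen 42) (D.wordP 42) v = W_42 v := by
  intro v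
  simp only [W_42, forceL_eq]
  rfl

theorem relw_42 : ∀ v, v < 28160 → walkT ctF (D.wlen 42) (D.wordP 42) v = v := by
  intro v hv
  rw [walk_42]
  exact relf_42 v hv

theorem relf_43 : ∀ v, v < 28160 → W_43 v = v := by
  intro v hv
  exact fixPtsF_spec W_43 28160 0 relc_43_0 v (by omega) (by omega)

set_option maxRecDepth 1000000 in
theorem walk_43 : ∀ v, walkT ctF (D.wlen 43) (D.wordP 43) v = W_43 v := by
  intro v
  simp only [W_43, forceL_eq]
  rfl

theorem relw_43 : ∀ v, v < 28160 → walkT ctF (D.wlen 43) (D.wordP 43) v = v := by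
  intro v hv
  rw [walk_43]
  exact relf_43 v hv

theorem relf_44 : ∀ v, v < 28160 → W_44 v = v := by
  intro v hv
  exact fixPtsF_spec W_44 28160 0 relc_44_0 v (by omega) (by omega)

set_option maxRecDepth 1000000 in
theorem walk_44 : ∀ v, walkT ctF (D.wlen 44) (D.wordP 44) v = W_44 v := by
  intro v
  simp only [W_44, forceL_eq]
  rfl

theorem relw_44 : ∀ v, v < 28160 → walkT ctF (D.wlen 44) (D.wordP 44) v = v := by
  intro v hv
  rw [walk_44]
  exact relf_44 v hv

theorem relf_45 : ∀ v, v < 28160 → W_45 v = v := by
  intro v hv
  rcases Nat.lt_or_ge v 13332 with h | h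
  · rcases Nat.lt_or_ge v 6666 with h | h
    · rcases Nat.lt_or_ge v 2222 with h | h
      · exact fixPtsF_spec W_45 2222 0 relc_45_0 v (by omega) (by omega)
      · rcases Nat.lt_or_ge v 4444 with h | h
        · exact fixPtsF_spec W_45 2222 2222 relc_45_1 v (by omega) (by omega)
        · exact fixPtsF_spec W_45 2222 4444 relc_45_2 v (by omega) (by omega)
    · rcases Nat.lt_or_ge v 8888 with h | h
      · exact fixPtsF_spec W_45 2222 6666 relc_45_3 v (by omega) (by omega)
      · rcases Nat.lt_or_ge v 11110 with h | h
        · exact fixPtsF_spec W_45 2222 8888 relc_45_4 v (by omega) (by omega)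
        · exact fixPtsF_spec W_45 2222 11110 relc_45_5 v (by omega) (by omega)
  · rcases Nat.lt_or_ge v 19998 with h | h
    · rcases Nat.lt_or_ge v 15554 with h | h
      · exact fixPtsF_spec W_45 2222 13332 relc_45_6 v (by omega) (by omega)
      · rcases Nat.lt_or_ge v 17776 with h | h
        · exact fixPtsF_spec W_45 2222 15554 relc_45_7 v (by omega) (by omega)
        · exact fixPtsF_spec W_45 2222 17776 relc_45_8 v (by omega) (by omega)
    · rcases Nat.lt_or_ge v 24442 with h | h
      · rcases Nat.lt_or_ge v 22220 with h | h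
        · exact fixPtsF_spec W_45 2222 19998 relc_45_9 v (by omega) (by omega)
        · exact fixPtsF_spec W_45 2222 22220 relc_45_10 v (by omega) (by omega)
      · rcases Nat.lt_or_ge v 26664 with h | h
        · exact fixPtsF_spec W_45 2222 24442 relc_45_11 v (by omega) (by omega)
        · exact fixPtsF_spec W_45 1496 26664 relc_45_12 v (by omega) (by omega)

set_option maxRecDepth 1000000 in
theorem walk_45 : ∀ v, walkT ctF (D.wlen 45) (D.wordP 45) v = W_45 v := by
  intro v
  simp only [W_45, forceL_eq]
  rfl

theorem relw_45 : ∀ v, v < 28160 → walkT ctF (D.wlen 45) (D.wordP 45) v = v := by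
  intro v hv
  rw [walk_45]
  exact relf_45 v hv

theorem invx_0 : ∀ v, v < 28160 → ctF 0 v < 28160 ∧ ctF 0 (ctF 0 v) = v := by
  intro v hv
  exact invRowFI_spec ctF 28160 0 0 28160 0 inv_0_0 v (by omega) (by omega)

theorem invx_1 : ∀ v, v < 28160 → ctF 1 v < 28160 ∧ ctF 1 (ctF 1 v) = v := by
  intro v hv
  exact invRowFI_spec ctF 28160 1 1 28160 0 inv_1_0 v (by omega) (by omega)

theorem invx_2 : ∀ v, v < 28160 → ctF 2 v < 28160 ∧ ctF 2 (ctF 2 v) = v := by
  intro v hv
  exact invRowFI_spec ctF 28160 2 2 28160 0 inv_2_0 v (by omega) (by omega)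

theorem invx_3 : ∀ v, v < 28160 → ctF 3 v < 28160 ∧ ctF 3 (ctF 3 v) = v := by
  intro v hv
  exact invRowFI_spec ctF 28160 3 3 28160 0 inv_3_0 v (by omega) (by omega)

theorem invx_4 : ∀ v, v < 28160 → ctF 4 v < 28160 ∧ ctF 4 (ctF 4 v) = v := by
  intro v hv
  exact invRowFI_spec ctF 28160 4 4 28160 0 inv_4_0 v (by omega) (by omega)

theorem invx_5 : ∀ v, v < 28160 → ctF 5 v < 28160 ∧ ctF 5 (ctF 5 v) = v := by
  intro v hv
  exact invRowFI_spec ctF 28160 5 5 28160 0 inv_5_0 v (by omega) (by omega)

theorem invx_6 : ∀ v, v < 28160 → ctF 6 v < 28160 ∧ ctF 6 (ctF 6 v) = v := by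
  intro v hv
  exact invRowFI_spec ctF 28160 6 6 28160 0 inv_6_0 v (by omega) (by omega)

theorem invx_7 : ∀ v, v < 28160 → ctF 7 v < 28160 ∧ ctF 7 (ctF 7 v) = v := by
  intro v hv
  exact invRowFI_spec ctF 28160 7 7 28160 0 inv_7_0 v (by omega) (by omega)

theorem invx_8 : ∀ v, v < 28160 → ctF 8 v < 28160 ∧ ctF 8 (ctF 8 v) = v := by
  intro v hv
  exact invRowFI_spec ctF 28160 8 8 28160 0 inv_8_0 v (by omega) (by omega)

theorem hconn : ∀ v, v < 28160 → v ≠ 0 → ∃ x, x < E.D.k ∧ ctF x v < v := by
  intro v hv
  exact connF_spec ctF 9 28160 0 conn_0 v (by omega) (by omega)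

theorem hE : ∀ v, v < E.M → ∀ x, x < E.D.k → edgeOKI iota E x v = true := by
  intro v hv x hx
  have hv' : v < 65423 := hv
  have hx' : x < 9 := hx
  interval_cases x
  · exact edgesx_0 v hv'
  · exact edgesx_1 v hv'
  · exact edgesx_2 v hv'
  · exact edgesx_3 v hv'
  · exact edgesx_4 v hv'
  · exact edgesx_5 v hv'
  · exact edgesx_6 v hv'
  · exact edgesx_7 v hv'
  · exact edgesx_8 v hv'

theorem hA : ∀ v, v < E.M → aliasOK E v = true := fun v hv => hA0 v hv

theorem hrows : ∀ v, v < E.M → tb RS v = true → rowOK2 E RS v E.D.k = true := fun v hv => hrows0 v hv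

theorem hT : ∀ x, x < E.D.k → ∀ v, v < 28160 → ctF x v < 28160 ∧ ctF (iota x) (ctF x v) = v := by
  intro x hx
  have hx' : x < 9 := hx
  interval_cases x
  · exact invx_0
  · exact invx_1
  · exact invx_2
  · exact invx_3
  · exact invx_4
  · exact invx_5
  · exact invx_6
  · exact invx_7
  · exact invx_8

theorem hltr : ∀ j, j < E.D.nw → lettersOK E.D.k (E.D.wlen j) (E.D.wordP j) = true :=
  wordsOK_spec D D.nw words_ok

theorem hrelT : ∀ wi, wi < E.D.nrel → ∀ v, v < 28160 →
    walkT ctF (E.D.wlen wi) (E.D.wordP wi) v = v := by
  intro wi hwi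
  have hwi' : wi < 46 := hwi
  interval_cases wi
  · exact relw_0
  · exact relw_1
  · exact relw_2
  · exact relw_3
  · exact relw_4
  · exact relw_5
  · exact relw_6
  · exact relw_7
  · exact relw_8
  · exact relw_9
  · exact relw_10
  · exact relw_11
  · exact relw_12
  · exact relw_13
  · exact relw_14
  · exact relw_15
  · exact relw_16
  · exact relw_17
  · exact relw_18
  · exact relw_19
  · exact relw_20
  · exact relw_21
  · exact relw_22
  · exact relw_23
  · exact relw_24
  · exact relw_25
  · exact relw_26
  · exact relw_27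
  · exact relw_28
  · exact relw_29
  · exact relw_30
  · exact relw_31
  · exact relw_32
  · exact relw_33
  · exact relw_34
  · exact relw_35
  · exact relw_36
  · exact relw_37
  · exact relw_38
  · exact relw_39
  · exact relw_40
  · exact relw_41
  · exact relw_42
  · exact relw_43
  · exact relw_44
  · exact relw_45

theorem hsubT : ∀ wi, wi < E.D.nw → E.D.nrel ≤ wi →
    walkT ctF (E.D.wlen wi) (E.D.wordP wi) 0 = 0 :=
  subAll_spec ctF D D.nw sub_ok

end Cfsg.Agent.Helper3.Y5CTC
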