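import Cfsg.Agent.Helper3.Y5DTCDatD
import Cfsg.Agent.Helper5.TCIB

/-! kernel checks of edges, aliases, rows: Y5DTC -/

set_option autoImplicit false
set_option Elab.async false

namespace Cfsg.Agent.Helper3.Y5DTC
open Cfsg.Agent.Helper5.TC Cfsg.Agent.Helper5.TCI

set_option maxRecDepth 1000000 in
theorem aliases_0 : aliasRange E 3459 0 = true := by decide +kernel

set_option maxRecDepth 1000000 in
theorem edges_4_0 : edgesRangeI iota E 4 2757 0 = true := by decide +kernel

set_option maxRecDepth 1000000 in
theorem edges_6_0 : edgesRangeI iota E 6 2871 0 = true := by decide +kernel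

set_option maxRecDepth 1000000 in
theorem edges_7_0 : edgesRangeI iota E 7 3281 0 = true := by decide +kernel

set_option maxRecDepth 1000000 in
theorem edges_0_0 : edgesRangeI iota E 0 3426 0 = true := by decide +kernel

set_option maxRecDepth 1000000 in
theorem edges_1_0 : edgesRangeI iota E 1 3738 0 = true := by decide +kernel

set_option maxRecDepth 1000000 in
theorem edges_2_0 : edgesRangeI iota E 2 3616 0 = true := by decide +kernel

set_option maxRecDepth 1000000 in
theorem edges_3_0 : edgesRangeI iota E 3 2954 0 = true := by decide +kernel

set_option maxRecDepth 1000000 in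
theorem edges_5_0 : edgesRangeI iota E 5 3164 0 = true := by decide +kernel

set_option maxRecDepth 1000000 in
theorem rows_0 : rowsRange E RS 1500 0 = true := by decide +kernel

set_option maxRecDepth 1000000 in
theorem rows_1 : rowsRange E RS 1500 1500 = true := by decide +kernel

set_option maxRecDepth 1000000 in
theorem rows_2 : rowsRange E RS 1500 3000 = true := by decide +kernel

set_option maxRecDepth 1000000 in
theorem aliases_1 : aliasRange E 1198 3459 = true := by decide +kernel

set_option maxRecDepth 1000000 in
theorem edges_4_1 : edgesRangeI iota E 4 1900 2757 = true := by decide +kernel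

set_option maxRecDepth 1000000 in
theorem edges_6_1 : edgesRangeI iota E 6 1786 2871 = true := by decide +kernel

set_option maxRecDepth 1000000 in
theorem edges_7_1 : edgesRangeI iota E 7 1376 3281 = true := by decide +kernel

set_option maxRecDepth 1000000 in
theorem edges_5_1 : edgesRangeI iota E 5 1493 3164 = true := by decide +kernel

set_option maxRecDepth 1000000 in
theorem edges_3_1 : edgesRangeI iota E 3 1703 2954 = true := by decide +kernel

set_option maxRecDepth 1000000 in
theorem cnt_0 : cntFrom RS 4657 0 0 = 728 := by decide +kernel

set_option maxRecDepth 1000000 in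
theorem edges_0_1 : edgesRangeI iota E 0 1231 3426 = true := by decide +kernel

set_option maxRecDepth 1000000 in
theorem edges_2_1 : edgesRangeI iota E 2 1041 3616 = true := by decide +kernel

set_option maxRecDepth 1000000 in
theorem edges_1_1 : edgesRangeI iota E 1 919 3738 = true := by decide +kernel

set_option maxRecDepth 1000000 in
theorem rows_3 : rowsRange E RS 157 4500 = true := by decide +kernel

end Cfsg.Agent.Helper3.Y5DTC
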