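import Cfsg.Agent.Helper3.Y5DTCDatD
import Cfsg.Agent.Helper3.Y5DTCDatT
import Cfsg.Agent.Helper5.TCIB

/-! kernel checks of the coset table: Y5DTC -/

set_option autoImplicit false
set_option Elab.async false

namespace Cfsg.Agent.Helper3.Y5DTC
open Cfsg.Agent.Helper5.TC Cfsg.Agent.Helper5.TCI

set_option maxRecDepth 1000000 in
theorem relc_36_0 : fixPtsF W_36 728 0 = true := by decide +kernel

set_option maxRecDepth 1000000 in
theorem relc_1_0 : fixPtsF W_1 728 0 = true := by decide +kernel

set_option maxRecDepth 1000000 in
theorem relc_3_0 : fixPtsF W_3 728 0 = true := by decide +kernel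

set_option maxRecDepth 1000000 in
theorem relc_5_0 : fixPtsF W_5 728 0 = true := by decide +kernel

set_option maxRecDepth 1000000 in
theorem relc_9_0 : fixPtsF W_9 728 0 = true := by decide +kernel

set_option maxRecDepth 1000000 in
theorem relc_20_0 : fixPtsF W_20 728 0 = true := by decide +kernel

set_option maxRecDepth 1000000 in
theorem relc_22_0 : fixPtsF W_22 728 0 = true := by decide +kernel

set_option maxRecDepth 1000000 in
theorem relc_31_0 : fixPtsF W_31 728 0 = true := by decide +kernel

set_option maxRecDepth 1000000 in
theorem relc_2_0 : fixPtsF W_2 728 0 = true := by decide +kernel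

set_option maxRecDepth 1000000 in
theorem relc_4_0 : fixPtsF W_4 728 0 = true := by decide +kernel

set_option maxRecDepth 1000000 in
theorem relc_6_0 : fixPtsF W_6 728 0 = true := by decide +kernel

set_option maxRecDepth 1000000 in
theorem relc_7_0 : fixPtsF W_7 728 0 = true := by decide +kernel

set_option maxRecDepth 1000000 in
theorem relc_10_0 : fixPtsF W_10 728 0 = true := by decide +kernel

set_option maxRecDepth 1000000 in
theorem relc_11_0 : fixPtsF W_11 728 0 = true := by decide +kernel

set_option maxRecDepth 1000000 in
theorem relc_12_0 : fixPtsF W_12 728 0 = true := by decide +kernel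

set_option maxRecDepth 1000000 in
theorem relc_13_0 : fixPtsF W_13 728 0 = true := by decide +kernel

set_option maxRecDepth 1000000 in
theorem relc_14_0 : fixPtsF W_14 728 0 = true := by decide +kernel

set_option maxRecDepth 1000000 in
theorem relc_16_0 : fixPtsF W_16 728 0 = true := by decide +kernel

set_option maxRecDepth 1000000 in
theorem relc_17_0 : fixPtsF W_17 728 0 = true := by decide +kernel

set_option maxRecDepth 1000000 in
theorem relc_18_0 : fixPtsF W_18 728 0 = true := by decide +kernel

set_option maxRecDepth 1000000 in
theorem relc_19_0 : fixPtsF W_19 728 0 = true := by decide +kernel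

set_option maxRecDepth 1000000 in
theorem relc_23_0 : fixPtsF W_23 728 0 = true := by decide +kernel

set_option maxRecDepth 1000000 in
theorem relc_24_0 : fixPtsF W_24 728 0 = true := by decide +kernel

set_option maxRecDepth 1000000 in
theorem relc_25_0 : fixPtsF W_25 728 0 = true := by decide +kernel

set_option maxRecDepth 1000000 in
theorem relc_27_0 : fixPtsF W_27 728 0 = true := by decide +kernel

set_option maxRecDepth 1000000 in
theorem relc_28_0 : fixPtsF W_28 728 0 = true := by decide +kernel

set_option maxRecDepth 1000000 in
theorem relc_29_0 : fixPtsF W_29 728 0 = true := by decide +kernel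

set_option maxRecDepth 1000000 in
theorem relc_32_0 : fixPtsF W_32 728 0 = true := by decide +kernel

set_option maxRecDepth 1000000 in
theorem relc_34_0 : fixPtsF W_34 728 0 = true := by decide +kernel

set_option maxRecDepth 1000000 in
theorem relc_0_0 : fixPtsF W_0 728 0 = true := by decide +kernel

set_option maxRecDepth 1000000 in
theorem relc_8_0 : fixPtsF W_8 728 0 = true := by decide +kernel

set_option maxRecDepth 1000000 in
theorem relc_15_0 : fixPtsF W_15 728 0 = true := by decide +kernel

set_option maxRecDepth 1000000 in
theorem relc_21_0 : fixPtsF W_21 728 0 = true := by decide +kernel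

set_option maxRecDepth 1000000 in
theorem relc_26_0 : fixPtsF W_26 728 0 = true := by decide +kernel

set_option maxRecDepth 1000000 in
theorem relc_30_0 : fixPtsF W_30 728 0 = true := by decide +kernel

set_option maxRecDepth 1000000 in
theorem relc_33_0 : fixPtsF W_33 728 0 = true := by decide +kernel

set_option maxRecDepth 1000000 in
theorem relc_35_0 : fixPtsF W_35 728 0 = true := by decide +kernel

set_option maxRecDepth 1000000 in
theorem inv_0_0 : invRowFI ctF 728 0 0 728 0 = true := by decide +kernel

set_option maxRecDepth 1000000 in
theorem inv_1_0 : invRowFI ctF 728 1 1 728 0 = true := by decide +kernel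

set_option maxRecDepth 1000000 in
theorem inv_2_0 : invRowFI ctF 728 2 2 728 0 = true := by decide +kernel

set_option maxRecDepth 1000000 in
theorem inv_3_0 : invRowFI ctF 728 3 3 728 0 = true := by decide +kernel

set_option maxRecDepth 1000000 in
theorem inv_4_0 : invRowFI ctF 728 4 4 728 0 = true := by decide +kernel

set_option maxRecDepth 1000000 in
theorem inv_5_0 : invRowFI ctF 728 5 5 728 0 = true := by decide +kernel

set_option maxRecDepth 1000000 in
theorem inv_6_0 : invRowFI ctF 728 6 6 728 0 = true := by decide +kernel

set_option maxRecDepth 1000000 in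
theorem inv_7_0 : invRowFI ctF 728 7 7 728 0 = true := by decide +kernel

set_option maxRecDepth 1000000 in
theorem conn_0 : connF ctF 8 728 0 = true := by decide +kernel

end Cfsg.Agent.Helper3.Y5DTC
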