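import Cfsg.Agent.Helper5.TC2A

/-! generated coset table (generator 1): Y5ETC -/

set_option autoImplicit false
set_option Elab.async false

namespace Cfsg.Agent.Helper3.Y5ETC
open Cfsg.Agent.Helper5.TC

def ct1_0 : ℕ := 0xf20000ea0000f00000e50000df0000ed0000e40000dd0000f10000de0000e80000e70000d50000ef0000ec0000d60000cf0000d30000ce0000ee0000e90000eb0000cd0000cc0000da0000c70000c40000c20000e30000e60000bf0000e10000d20000c00000ba0000e20000e00000dc0000db0000b80000b70000b60000b20000d90000b00000ad0000d80000c30000d70000a80000d10000d40000be0000bd0000aa0000a30000d00000b90000cb0000ca0000c90000a000009f0000b30000c80000970000c60000990000950000c50000ac0000920000bc0000a90000c10000910000a60000a50000a40000bb0000a20000a10000b50000b400008800009d0000860000810000800000af0000980000b100007f0000ae0000940000930000ab0000a700009000007800007700008d00008c00008b00008a00008900009e00008700009c00008500006f00006b00006a00009b00009a00009600007e00006800006700007b00007a00007900008f00008e00006100006000005f00007300007200007100007000008400006e00005a00005700008300008200006900007d00007c00005300005200005100006300006200007600007500007400004d00004c00005c00005b00006d00004800004900006c00005600005500005400006600006500006400004000003f00004e00005e00005d00003c00003b00005800005900003800003900004500004400004300004200004100005000004f00003000003d00004b00004a00002e00004600004700002b00003600003500003400003300003200002c00003e00002f00003a00002300003100003700002a00002900002200002700002100002500002400002d00002800002600001a00001f00001900001800001c00001b00002000001e00001d00001200001100001500001400001300001700001600000c00000f00000e00000d00001000000800000a00000900000b000005000006000007000003000004000002000001000000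
def ctSel1 (c : ℕ) : ℕ := ct1_0
def ct1F (v : ℕ) : ℕ := Nat.rec (motive := fun _ => ℕ) 0 (fun c _ => Nat.mod (Nat.shiftRight (ctSel1 c) (Nat.mul 24 (Nat.mod v 682))) 16777216) (Nat.add (Nat.div v 682) 1)

end Cfsg.Agent.Helper3.Y5ETC
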