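import Cfsg.Agent.Helper5.TC2A

/-! generated coset table (generator 2): Y5ETC -/

set_option autoImplicit false
set_option Elab.async false

namespace Cfsg.Agent.Helper3.Y5ETC
open Cfsg.Agent.Helper5.TC

def ct2_0 : ℕ := 0xeb0000f00000f10000e00000e60000e40000ec0000f20000ea0000e90000e80000e70000ee0000d40000ed0000d00000d70000d50000ef0000d30000d20000dd0000dc0000db0000da0000c50000c80000e20000c10000e10000e50000df0000de0000c20000e30000c00000bf0000be0000bd0000cb0000ca0000c90000d80000b10000b20000d90000b00000ab0000d10000d60000cf0000ce0000cd0000cc0000a90000bb0000a80000a70000a60000a50000a40000b50000b400009a0000c60000c70000c40000980000ae0000970000960000c30000aa0000bc0000ba0000b90000b80000b70000b600009000008f00008e00008d00008c00009e00008200009c0000870000b30000990000af0000ad0000ac00007e00007d00007c0000920000910000a30000a20000a10000a000009f00007600007500007400007300009b00006e00006c00008400007000009d00008100008000007f00009500009400009300006600006500006400007800007700008b00008a00008900008800005e00005d00008300005b00008600005900008500006b00006a00006900006800006700007b00007a00007900005000004f00006100006000005f00007200007100004b00006f00004a00006d00004700005700005600005500005400005300005200005100006300006200003e00004d00004c00005c00005a00003a00003b00005800003700004500004400004300004200004100004000003f00004e00003d00003c00004800004900002d00002e00004600003600003500003400003300003200003100003000002f00003800003900002400002300002a00002900002800002700002600002500002c00002b00001c00001b00002000001f00001e00001d00002200002100001500001400001300001700001600001a00001900001800000f00000e00001000001200001100000b00000a00000d00000c000007000008000009000004000005000006000003000002000001000000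
def ctSel2 (c : ℕ) : ℕ := ct2_0
def ct2F (v : ℕ) : ℕ := Nat.rec (motive := fun _ => ℕ) 0 (fun c _ => Nat.mod (Nat.shiftRight (ctSel2 c) (Nat.mul 24 (Nat.mod v 682))) 16777216) (Nat.add (Nat.div v 682) 1)

end Cfsg.Agent.Helper3.Y5ETC
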