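import Cfsg.Agent.Helper5.TC2A

/-! generated coset table (generator 3): Y5ETC -/

set_option autoImplicit false
set_option Elab.async false

namespace Cfsg.Agent.Helper3.Y5ETC
open Cfsg.Agent.Helper5.TC

def ct3_0 : ℕ := 0xed0000f10000f00000df0000e50000f20000dd0000e40000ea0000dc0000e80000e70000d40000ee0000eb0000cf0000d60000ce0000d30000ef0000cd0000ec0000e90000ca0000da0000c40000c70000c10000e20000bf0000e60000e00000be0000ba0000c00000e30000e10000de0000b70000cb0000db0000b40000b10000d80000ad0000b00000d90000c30000a80000d70000d00000d50000d20000a50000a30000aa0000d10000b90000b80000cc00009f0000b50000c90000b30000970000c80000c50000950000990000c60000ac0000ab0000bb0000900000c20000a70000a60000bd00008c0000bc00008b0000a10000a00000b600009e00009d00008100008600009a0000ae00007e0000b20000960000af00007b0000930000920000910000a900007600008e00008d0000a40000a200007200008900008800006e00009b00008500006b00006f00008200009c00008000007f00009800006600007c00009400006300007900006100007700008f00005e00007400007300008a00005c00005b00008300008700006d00006c00008400006a00005600005300006700007d00005000006400007a00004e00007800004d00005f00007500004b00007100007000005a00005900005800005700006900004300004400006800004000005100006500003e00006200006000003c00005d00004a00004900004800004700004600003600005400005500003300003400005200003000004f00003d00004c00003b00003a00003900003800003700004500002a00004100004200002700002800003f00002f00002e00002d00002200002b00003500001f00003100003200001e00002500001c00002300002c00001900002000002900002600001600002400001400001a00002100001100001700001d00001500001b00000e00001200001800001000000f00001300000d00000c00000b00000a000006000008000004000009000003000007000005000002000001000000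
def ctSel3 (c : ℕ) : ℕ := ct3_0
def ct3F (v : ℕ) : ℕ := Nat.rec (motive := fun _ => ℕ) 0 (fun c _ => Nat.mod (Nat.shiftRight (ctSel3 c) (Nat.mul 24 (Nat.mod v 682))) 16777216) (Nat.add (Nat.div v 682) 1)

end Cfsg.Agent.Helper3.Y5ETC
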