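import Cfsg.Agent.Helper5.TC2A

/-! generated coset table (generator 4): Y5ETC -/

set_option autoImplicit false
set_option Elab.async false

namespace Cfsg.Agent.Helper3.Y5ETC
open Cfsg.Agent.Helper5.TC

def ct4_0 : ℕ := 0xf00000eb0000f20000e60000e00000ed0000ec0000f10000dd0000e90000e80000e70000ef0000d50000e40000d70000d00000d40000ee0000ce0000de0000ea0000cb0000db0000da0000c80000c50000e30000c20000e50000e10000bf0000d20000c10000e20000ba0000df0000b80000cc0000dc0000b50000c90000d90000b20000b10000d80000ad0000a90000d60000d10000a80000d30000a60000bd0000ab0000bb0000cf0000a20000cd0000a00000b60000ca00009e0000980000c70000c600009700009a0000ae0000c40000940000bc0000920000c30000c000008f0000be00008d0000a40000a30000b900008a0000b70000880000b400008700009c0000820000af0000800000b30000b000007d0000950000ac00007a0000aa0000780000900000a70000750000a500007300008b0000a100007100009f00009d00008600007000008400006c00009b00006a00009900006800007e00009600006500007b00009300006200009100006000007600008e00005d00008c00007200008900008500006f00006e00006d00008300005700008100005500007f00005200006600007c00004f00006300007900006100007700004c00005e00007400005c00005b00005a00005900005800006b00004500006900004200005300006700003f00005000006400004e00004d00005f00004b00004a00004900004800004700004600005600003500003600005400003200004000005100003e00003d00003c00003b00003a00003900003800003700004300004400002900002a00004100003100003000002f00002e00002d00002c00002b00003300003400002000001f00002600002500002400002300001a00002100002800002700001700001d00001500001b00002200001200001800001e00001000001c00000f00001300001900000c00001600001400000a00000900001100000700000e00000d00000500000b000006000008000004000003000002000001000000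
def ctSel4 (c : ℕ) : ℕ := ct4_0
def ct4F (v : ℕ) : ℕ := Nat.rec (motive := fun _ => ℕ) 0 (fun c _ => Nat.mod (Nat.shiftRight (ctSel4 c) (Nat.mul 24 (Nat.mod v 682))) 16777216) (Nat.add (Nat.div v 682) 1)

end Cfsg.Agent.Helper3.Y5ETC
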