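import Cfsg.Agent.Helper5.TC2A

/-! generated coset table (generator 5): Y5ETC -/

set_option autoImplicit false
set_option Elab.async false

namespace Cfsg.Agent.Helper3.Y5ETC
open Cfsg.Agent.Helper5.TC

def ct5_0 : ℕ := 0xf20000f10000f00000e30000e20000ed0000ec0000eb0000ea0000db0000e80000da0000d70000d60000e40000ef0000ee0000d10000d00000cf0000cc0000dd0000ca0000e90000e70000d90000d80000e60000e50000c20000c10000c00000bd0000e10000e00000df0000ba0000b70000de0000b50000dc0000c90000c80000c70000c60000c50000c40000c30000d50000d40000d30000a80000a50000d20000bc0000bb0000ce0000a10000a00000cd0000b60000cb0000b400009d0000b20000b10000b000009b00009c0000ad0000930000ab0000aa0000a90000bf00008e00008d0000be0000a40000a300008a0000b90000b800009f00009e0000b30000ae0000af00008200008100008700009700007c00008600007a0000ac0000920000770000900000750000a70000a600008c0000720000a200007900008800009800009500008500008400008300009a00009900006a00006700006e00006500009600006300009400008900006000009100005e00008f00006400007300008b00006200007000006f00007e00005800006c00006b00008000005400005200007f00005000007d00007400007b00007100004d00007800005100007600004f00004e00005b00004900004700006d00005700004400004200006900004000006800005f00006600005d00005c00006100003f00003e00003a00005a00003800005900004600003500005600003300005500004100005300004c00004b00003d00003000002e00004a00003900004800003700002a00004500003400004300003200003100003c00002500003b00002d00002c00002b00003600002900002800002700001d00002f00002400002300002200001800002000001f00001600002600001c00001300001a00001100002100001000001e00001500000e00001b00000c00001900001700000a00001400000d00001200000b00000f000009000008000007000006000005000004000003000001000002000000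
def ctSel5 (c : ℕ) : ℕ := ct5_0
def ct5F (v : ℕ) : ℕ := Nat.rec (motive := fun _ => ℕ) 0 (fun c _ => Nat.mod (Nat.shiftRight (ctSel5 c) (Nat.mul 24 (Nat.mod v 682))) 16777216) (Nat.add (Nat.div v 682) 1)

end Cfsg.Agent.Helper3.Y5ETC
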