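import Cfsg.Agent.Helper5.TC2A

/-! generated coset table (generator 6): Y5ETC -/

set_option autoImplicit false
set_option Elab.async false

namespace Cfsg.Agent.Helper3.Y5ETC
open Cfsg.Agent.Helper5.TC

def ct6_0 : ℕ := 0xf20000f10000f00000ef0000ee0000ed0000ec0000eb0000ea0000e90000da0000e70000e60000e50000e40000d90000d80000e10000e00000df0000de0000dd0000dc0000c90000e80000e30000e20000c80000c70000d50000d40000d30000d20000c60000c50000c40000ce0000cd0000b60000cb0000b40000db0000d70000d60000d10000d00000cf0000b30000b20000b10000b00000bf0000be0000a40000af0000ae0000ad0000ac0000b800009f0000cc00009e0000ca0000c30000c20000c10000c00000bc0000bb0000ba0000b900009a0000990000980000970000960000a600008c0000bd0000950000940000890000880000b70000b500009d00009c00009b0000ab0000aa0000a90000a80000a70000a30000a200007900008000007f00007e00007d0000740000730000a500007b0000710000a10000a000008700008600008500008400008300008200008100009200009100009000008f00006400008b00006200009300006800005f00006600005d00008e00008d00005c00008a00007000006f00006e00006d00006c00006b00006a00006900007800005100007600004f00007c00004e00007a00005300004c00007700004b00007500007200005b00005a00005900004600005700005600005500004100006100003f00006700003e00006500006300003c00006000005e00004a00003900004800003700005800004500003400004300003200005400003000005200005000002f00004d00003b00002d00004900002b00004700003600002900004400002700004200002600004000003d00002300003a00002100003800001f00003500001e00003300003100002500001b00002e00001900002c00001700002a00002800001d00001400002400001200002200001800002000001600000f00001c00001300001a00001100001000001500000e00000d00000c00000b00000a000009000008000007000006000005000004000003000002000000000001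
def ctSel6 (c : ℕ) : ℕ := ct6_0
def ct6F (v : ℕ) : ℕ := Nat.rec (motive := fun _ => ℕ) 0 (fun c _ => Nat.mod (Nat.shiftRight (ctSel6 c) (Nat.mul 24 (Nat.mod v 682))) 16777216) (Nat.add (Nat.div v 682) 1)

end Cfsg.Agent.Helper3.Y5ETC
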