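import Cfsg.Agent.Helper3.Y5ETCDatD
import Cfsg.Agent.Helper5.TCIB

/-! kernel checks of edges, aliases, rows: Y5ETC -/

set_option autoImplicit false
set_option Elab.async false

namespace Cfsg.Agent.Helper3.Y5ETC
open Cfsg.Agent.Helper5.TC Cfsg.Agent.Helper5.TCI

set_option maxRecDepth 1000000 in
theorem rows_0 : rowsRange E RS 769 0 = true := by decide +kernel

set_option maxRecDepth 1000000 in
theorem edges_0_0 : edgesRangeI iota E 0 769 0 = true := by decide +kernel

set_option maxRecDepth 1000000 in
theorem edges_2_0 : edgesRangeI iota E 2 769 0 = true := by decide +kernel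

set_option maxRecDepth 1000000 in
theorem edges_4_0 : edgesRangeI iota E 4 769 0 = true := by decide +kernel

set_option maxRecDepth 1000000 in
theorem edges_1_0 : edgesRangeI iota E 1 769 0 = true := by decide +kernel

set_option maxRecDepth 1000000 in
theorem edges_5_0 : edgesRangeI iota E 5 769 0 = true := by decide +kernel

set_option maxRecDepth 1000000 in
theorem edges_3_0 : edgesRangeI iota E 3 769 0 = true := by decide +kernel

set_option maxRecDepth 1000000 in
theorem edges_6_0 : edgesRangeI iota E 6 769 0 = true := by decide +kernel

set_option maxRecDepth 1000000 in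
theorem aliases_0 : aliasRange E 769 0 = true := by decide +kernel

set_option maxRecDepth 1000000 in
theorem cnt_0 : cntFrom RS 769 0 0 = 243 := by decide +kernel

end Cfsg.Agent.Helper3.Y5ETC
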