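import Cfsg.Agent.Helper3.Y5ETCDatD
import Cfsg.Agent.Helper3.Y5ETCDatT
import Cfsg.Agent.Helper5.TCIB

/-! kernel checks of the coset table: Y5ETC -/

set_option autoImplicit false
set_option Elab.async false

namespace Cfsg.Agent.Helper3.Y5ETC
open Cfsg.Agent.Helper5.TC Cfsg.Agent.Helper5.TCI

set_option maxRecDepth 1000000 in
theorem relc_28_0 : fixPtsF W_28 243 0 = true := by decide +kernel

set_option maxRecDepth 1000000 in
theorem relc_1_0 : fixPtsF W_1 243 0 = true := by decide +kernel

set_option maxRecDepth 1000000 in
theorem relc_3_0 : fixPtsF W_3 243 0 = true := by decide +kernel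

set_option maxRecDepth 1000000 in
theorem relc_5_0 : fixPtsF W_5 243 0 = true := by decide +kernel

set_option maxRecDepth 1000000 in
theorem relc_8_0 : fixPtsF W_8 243 0 = true := by decide +kernel

set_option maxRecDepth 1000000 in
theorem relc_19_0 : fixPtsF W_19 243 0 = true := by decide +kernel

set_option maxRecDepth 1000000 in
theorem relc_26_0 : fixPtsF W_26 243 0 = true := by decide +kernel

set_option maxRecDepth 1000000 in
theorem relc_2_0 : fixPtsF W_2 243 0 = true := by decide +kernel

set_option maxRecDepth 1000000 in
theorem relc_4_0 : fixPtsF W_4 243 0 = true := by decide +kernel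

set_option maxRecDepth 1000000 in
theorem relc_6_0 : fixPtsF W_6 243 0 = true := by decide +kernel

set_option maxRecDepth 1000000 in
theorem relc_9_0 : fixPtsF W_9 243 0 = true := by decide +kernel

set_option maxRecDepth 1000000 in
theorem relc_10_0 : fixPtsF W_10 243 0 = true := by decide +kernel

set_option maxRecDepth 1000000 in
theorem relc_11_0 : fixPtsF W_11 243 0 = true := by decide +kernel

set_option maxRecDepth 1000000 in
theorem relc_12_0 : fixPtsF W_12 243 0 = true := by decide +kernel

set_option maxRecDepth 1000000 in
theorem relc_14_0 : fixPtsF W_14 243 0 = true := by decide +kernel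

set_option maxRecDepth 1000000 in
theorem relc_15_0 : fixPtsF W_15 243 0 = true := by decide +kernel

set_option maxRecDepth 1000000 in
theorem relc_16_0 : fixPtsF W_16 243 0 = true := by decide +kernel

set_option maxRecDepth 1000000 in
theorem relc_17_0 : fixPtsF W_17 243 0 = true := by decide +kernel

set_option maxRecDepth 1000000 in
theorem relc_20_0 : fixPtsF W_20 243 0 = true := by decide +kernel

set_option maxRecDepth 1000000 in
theorem relc_21_0 : fixPtsF W_21 243 0 = true := by decide +kernel

set_option maxRecDepth 1000000 in
theorem relc_23_0 : fixPtsF W_23 243 0 = true := by decide +kernel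

set_option maxRecDepth 1000000 in
theorem relc_24_0 : fixPtsF W_24 243 0 = true := by decide +kernel

set_option maxRecDepth 1000000 in
theorem relc_0_0 : fixPtsF W_0 243 0 = true := by decide +kernel

set_option maxRecDepth 1000000 in
theorem relc_7_0 : fixPtsF W_7 243 0 = true := by decide +kernel

set_option maxRecDepth 1000000 in
theorem relc_13_0 : fixPtsF W_13 243 0 = true := by decide +kernel

set_option maxRecDepth 1000000 in
theorem relc_18_0 : fixPtsF W_18 243 0 = true := by decide +kernel

set_option maxRecDepth 1000000 in
theorem relc_22_0 : fixPtsF W_22 243 0 = true := by decide +kernel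

set_option maxRecDepth 1000000 in
theorem relc_25_0 : fixPtsF W_25 243 0 = true := by decide +kernel

set_option maxRecDepth 1000000 in
theorem relc_27_0 : fixPtsF W_27 243 0 = true := by decide +kernel

set_option maxRecDepth 1000000 in
theorem inv_0_0 : invRowFI ctF 243 0 0 243 0 = true := by decide +kernel

set_option maxRecDepth 1000000 in
theorem inv_1_0 : invRowFI ctF 243 1 1 243 0 = true := by decide +kernel

set_option maxRecDepth 1000000 in
theorem inv_2_0 : invRowFI ctF 243 2 2 243 0 = true := by decide +kernel

set_option maxRecDepth 1000000 in
theorem inv_3_0 : invRowFI ctF 243 3 3 243 0 = true := by decide +kernel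

set_option maxRecDepth 1000000 in
theorem inv_4_0 : invRowFI ctF 243 4 4 243 0 = true := by decide +kernel

set_option maxRecDepth 1000000 in
theorem inv_5_0 : invRowFI ctF 243 5 5 243 0 = true := by decide +kernel

set_option maxRecDepth 1000000 in
theorem inv_6_0 : invRowFI ctF 243 6 6 243 0 = true := by decide +kernel

set_option maxRecDepth 1000000 in
theorem conn_0 : connF ctF 7 243 0 = true := by decide +kernel

end Cfsg.Agent.Helper3.Y5ETC
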