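import Cfsg.Agent.Helper5.TC2A

/-! generated coset table (generator 0): Y5ETC -/

set_option autoImplicit false
set_option Elab.async false

namespace Cfsg.Agent.Helper3.Y5ETC
open Cfsg.Agent.Helper5.TC

def ct0_0 : ℕ := 0xef0000ee0000e60000f20000f10000de0000ec0000e00000dc0000e90000db0000e70000f00000e50000d20000e30000e20000e10000eb0000cd0000ed0000cb0000ea0000e80000c90000d90000d80000d70000c30000d50000d40000be0000e40000bc0000d00000b90000b80000df0000cc0000dd0000ca0000da0000c80000b30000af0000c50000ac0000d60000a90000ab0000a70000a60000d30000bd0000d10000bb0000a20000cf0000ce0000a10000b60000b50000b40000c700009800009a0000960000c60000ae0000940000c40000c10000910000c200008f0000c00000bf00008e0000a400008b0000ba0000b700008a00008900009e00009d00008400009b0000b100007f0000b200007d0000b000007b0000ad0000930000780000aa0000760000a80000a50000750000740000a30000a000009f00007100008700006d00008500009c00008300008200006900006800009900006600009700007c00009500007a00007900009200007700009000008d00008c00005d00007200008800007000005a00005900008600006c00005600005500008100008000005400007e00006500006400005800006200006100006000005f00005e00007300005c00004a00006f00006e00006300004500006b00006a00006700005300004200004100004700004f00004600003d00004c00004b00005b00004900004800005000004e00005700004400004300005200005100003100003200003700004d00002f00003b00003a00003900002c00003e00003600003500003400002800003f00004000002600003c00002400002d00003800002100002000002900003300001e00003000001d00002e00001b00002200002b00002a00001700002700002500001c00002300001a00001900001800001f00001600001500001400001300001200000d00001000000f00000b00001100000900000e00000700000c00000800000a000006000005000004000002000003000001000000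
def ctSel0 (c : ℕ) : ℕ := ct0_0
def ct0F (v : ℕ) : ℕ := Nat.rec (motive := fun _ => ℕ) 0 (fun c _ => Nat.mod (Nat.shiftRight (ctSel0 c) (Nat.mul 24 (Nat.mod v 682))) 16777216) (Nat.add (Nat.div v 682) 1)

end Cfsg.Agent.Helper3.Y5ETC
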