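import Cfsg.Agent.Helper3.Y5ETCChkE0
import Cfsg.Agent.Helper3.Y5ETCChkR0
import Cfsg.Agent.Helper3.Y5ETCChkA
import Cfsg.Agent.Helper5.TCIB

/-! summary of the kernel checks: Y5ETC -/

set_option autoImplicit false
set_option Elab.async false

namespace Cfsg.Agent.Helper3.Y5ETC
open Cfsg.Agent.Helper5.TC Cfsg.Agent.Helper5.TCI

theorem edgesx_0 : ∀ v, v < 769 → edgeOKI iota E 0 v = true := by
  intro v hv
  exact edgesRangeI_spec iota E 0 769 0 edges_0_0 v (by omega) (by omega)

theorem edgesx_1 : ∀ v, v < 769 → edgeOKI iota E 1 v = true := by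
  intro v hv
  exact edgesRangeI_spec iota E 1 769 0 edges_1_0 v (by omega) (by omega)

theorem edgesx_2 : ∀ v, v < 769 → edgeOKI iota E 2 v = true := by
  intro v hv
  exact edgesRangeI_spec iota E 2 769 0 edges_2_0 v (by omega) (by omega)

theorem edgesx_3 : ∀ v, v < 769 → edgeOKI iota E 3 v = true := by
  intro v hv
  exact edgesRangeI_spec iota E 3 769 0 edges_3_0 v (by omega) (by omega)

theorem edgesx_4 : ∀ v, v < 769 → edgeOKI iota E 4 v = true := by
  intro v hv
  exact edgesRangeI_spec iota E 4 769 0 edges_4_0 v (by omega) (by omega)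

theorem edgesx_5 : ∀ v, v < 769 → edgeOKI iota E 5 v = true := by
  intro v hv
  exact edgesRangeI_spec iota E 5 769 0 edges_5_0 v (by omega) (by omega)

theorem edgesx_6 : ∀ v, v < 769 → edgeOKI iota E 6 v = true := by
  intro v hv
  exact edgesRangeI_spec iota E 6 769 0 edges_6_0 v (by omega) (by omega)

theorem hA0 : ∀ v, v < 769 → aliasOK E v = true := by
  intro v hv
  exact aliasRange_spec E 769 0 aliases_0 v (by omega) (by omega)

theorem hrows0 : ∀ v, v < 769 → tb RS v = true → rowOK2 E RS v E.D.k = true := by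
  intro v hv
  exact rowsRange_spec E RS 769 0 rows_0 v (by omega) (by omega)

theorem cb_0 : cntBits RS 0 = 0 := rfl

theorem cb_1 : cntBits RS 769 = 243 := by
  have h := cntBits_step RS 0 769
  rw [cb_0, cnt_0] at h
  exact h

theorem set_ok : setOK 769 243 RS = true :=
  setOK_of_parts cb_1 set_zero set_lt

theorem relf_0 : ∀ v, v < 243 → W_0 v = v := by
  intro v hv
  exact fixPtsF_spec W_0 243 0 relc_0_0 v (by omega) (by omega)

set_option maxRecDepth 1000000 in
theorem walk_0 : ∀ v, walkT ctF (D.wlen 0) (D.wordP 0) v = W_0 v := by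
  intro v
  simp only [W_0, forceL_eq]
  rfl

theorem relw_0 : ∀ v, v < 243 → walkT ctF (D.wlen 0) (D.wordP 0) v = v := by
  intro v hv
  rw [walk_0]
  exact relf_0 v hv

theorem relf_1 : ∀ v, v < 243 → W_1 v = v := by
  intro v hv
  exact fixPtsF_spec W_1 243 0 relc_1_0 v (by omega) (by omega)

set_option maxRecDepth 1000000 in
theorem walk_1 : ∀ v, walkT ctF (D.wlen 1) (D.wordP 1) v = W_1 v := by
  intro v
  simp only [W_1, forceL_eq]
  rfl

theorem relw_1 : ∀ v, v < 243 → walkT ctF (D.wlen 1) (D.wordP 1) v = v := by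
  intro v hv
  rw [walk_1]
  exact relf_1 v hv

theorem relf_2 : ∀ v, v < 243 → W_2 v = v := by
  intro v hv
  exact fixPtsF_spec W_2 243 0 relc_2_0 v (by omega) (by omega)

set_option maxRecDepth 1000000 in
theorem walk_2 : ∀ v, walkT ctF (D.wlen 2) (D.wordP 2) v = W_2 v := by
  intro v
  simp only [W_2, forceL_eq]
  rfl

theorem relw_2 : ∀ v, v < 243 → walkT ctF (D.wlen 2) (D.wordP 2) v = v := by
  intro v hv
  rw [walk_2]
  exact relf_2 v hv

theorem relf_3 : ∀ v, v < 243 → W_3 v = v := by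
  intro v hv
  exact fixPtsF_spec W_3 243 0 relc_3_0 v (by omega) (by omega)

set_option maxRecDepth 1000000 in
theorem walk_3 : ∀ v, walkT ctF (D.wlen 3) (D.wordP 3) v = W_3 v := by
  intro v
  simp only [W_3, forceL_eq]
  rfl

theorem relw_3 : ∀ v, v < 243 → walkT ctF (D.wlen 3) (D.wordP 3) v = v := by
  intro v hv
  rw [walk_3]
  exact relf_3 v hv

theorem relf_4 : ∀ v, v < 243 → W_4 v = v := by
  intro v hv
  exact fixPtsF_spec W_4 243 0 relc_4_0 v (by omega) (by omega)

set_option maxRecDepth 1000000 in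
theorem walk_4 : ∀ v, walkT ctF (D.wlen 4) (D.wordP 4) v = W_4 v := by
  intro v
  simp only [W_4, forceL_eq]
  rfl

theorem relw_4 : ∀ v, v < 243 → walkT ctF (D.wlen 4) (D.wordP 4) v = v := by
  intro v hv
  rw [walk_4]
  exact relf_4 v hv

theorem relf_5 : ∀ v, v < 243 → W_5 v = v := by
  intro v hv
  exact fixPtsF_spec W_5 243 0 relc_5_0 v (by omega) (by omega)

set_option maxRecDepth 1000000 in
theorem walk_5 : ∀ v, walkT ctF (D.wlen 5) (D.wordP 5) v = W_5 v := by
  intro v
  simp only [W_5, forceL_eq]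
  rfl

theorem relw_5 : ∀ v, v < 243 → walkT ctF (D.wlen 5) (D.wordP 5) v = v := by
  intro v hv
  rw [walk_5]
  exact relf_5 v hv

theorem relf_6 : ∀ v, v < 243 → W_6 v = v := by
  intro v hv
  exact fixPtsF_spec W_6 243 0 relc_6_0 v (by omega) (by omega)

set_option maxRecDepth 1000000 in
theorem walk_6 : ∀ v, walkT ctF (D.wlen 6) (D.wordP 6) v = W_6 v := by
  intro v
  simp only [W_6, forceL_eq]
  rfl

theorem relw_6 : ∀ v, v < 243 → walkT ctF (D.wlen 6) (D.wordP 6) v = v := by
  intro v hv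
  rw [walk_6]
  exact relf_6 v hv

theorem relf_7 : ∀ v, v < 243 → W_7 v = v := by
  intro v hv
  exact fixPtsF_spec W_7 243 0 relc_7_0 v (by omega) (by omega)

set_option maxRecDepth 1000000 in
theorem walk_7 : ∀ v, walkT ctF (D.wlen 7) (D.wordP 7) v = W_7 v := by
  intro v
  simp only [W_7, forceL_eq]
  rfl

theorem relw_7 : ∀ v, v < 243 → walkT ctF (D.wlen 7) (D.wordP 7) v = v := by
  intro v hv
  rw [walk_7]
  exact relf_7 v hv

theorem relf_8 : ∀ v, v < 243 → W_8 v = v := by
  intro v hv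
  exact fixPtsF_spec W_8 243 0 relc_8_0 v (by omega) (by omega)

set_option maxRecDepth 1000000 in
theorem walk_8 : ∀ v, walkT ctF (D.wlen 8) (D.wordP 8) v = W_8 v := by
  intro v
  simp only [W_8, forceL_eq]
  rfl

theorem relw_8 : ∀ v, v < 243 → walkT ctF (D.wlen 8) (D.wordP 8) v = v := by
  intro v hv
  rw [walk_8]
  exact relf_8 v hv

theorem relf_9 : ∀ v, v < 243 → W_9 v = v := by
  intro v hv
  exact fixPtsF_spec W_9 243 0 relc_9_0 v (by omega) (by omega)

set_option maxRecDepth 1000000 in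
theorem walk_9 : ∀ v, walkT ctF (D.wlen 9) (D.wordP 9) v = W_9 v := by
  intro v
  simp only [W_9, forceL_eq]
  rfl

theorem relw_9 : ∀ v, v < 243 → walkT ctF (D.wlen 9) (D.wordP 9) v = v := by
  intro v hv
  rw [walk_9]
  exact relf_9 v hv

theorem relf_10 : ∀ v, v < 243 → W_10 v = v := by
  intro v hv
  exact fixPtsF_spec W_10 243 0 relc_10_0 v (by omega) (by omega)

set_option maxRecDepth 1000000 in
theorem walk_10 : ∀ v, walkT ctF (D.wlen 10) (D.wordP 10) v = W_10 v := by
  intro v
  simp only [W_10, forceL_eq]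
  rfl

theorem relw_10 : ∀ v, v < 243 → walkT ctF (D.wlen 10) (D.wordP 10) v = v := by
  intro v hv
  rw [walk_10]
  exact relf_10 v hv

theorem relf_11 : ∀ v, v < 243 → W_11 v = v := by
  intro v hv
  exact fixPtsF_spec W_11 243 0 relc_11_0 v (by omega) (by omega)

set_option maxRecDepth 1000000 in
theorem walk_11 : ∀ v, walkT ctF (D.wlen 11) (D.wordP 11) v = W_11 v := by
  intro v
  simp only [W_11, forceL_eq]
  rfl

theorem relw_11 : ∀ v, v < 243 → walkT ctF (D.wlen 11) (D.wordP 11) v = v := by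
  intro v hv
  rw [walk_11]
  exact relf_11 v hv

theorem relf_12 : ∀ v, v < 243 → W_12 v = v := by
  intro v hv
  exact fixPtsF_spec W_12 243 0 relc_12_0 v (by omega) (by omega)

set_option maxRecDepth 1000000 in
theorem walk_12 : ∀ v, walkT ctF (D.wlen 12) (D.wordP 12) v = W_12 v := by
  intro v
  simp only [W_12, forceL_eq]
  rfl

theorem relw_12 : ∀ v, v < 243 → walkT ctF (D.wlen 12) (D.wordP 12) v = v := by
  intro v hv
  rw [walk_12]
  exact relf_12 v hv

theorem relf_13 : ∀ v, v < 243 → W_13 v = v := by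
  intro v hv
  exact fixPtsF_spec W_13 243 0 relc_13_0 v (by omega) (by omega)

set_option maxRecDepth 1000000 in
theorem walk_13 : ∀ v, walkT ctF (D.wlen 13) (D.wordP 13) v = W_13 v := by
  intro v
  simp only [W_13, forceL_eq]
  rfl

theorem relw_13 : ∀ v, v < 243 → walkT ctF (D.wlen 13) (D.wordP 13) v = v := by
  intro v hv
  rw [walk_13]
  exact relf_13 v hv

theorem relf_14 : ∀ v, v < 243 → W_14 v = v := by
  intro v hv
  exact fixPtsF_spec W_14 243 0 relc_14_0 v (by omega) (by omega)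

set_option maxRecDepth 1000000 in
theorem walk_14 : ∀ v, walkT ctF (D.wlen 14) (D.wordP 14) v = W_14 v := by
  intro v
  simp only [W_14, forceL_eq]
  rfl

theorem relw_14 : ∀ v, v < 243 → walkT ctF (D.wlen 14) (D.wordP 14) v = v := by
  intro v hv
  rw [walk_14]
  exact relf_14 v hv

theorem relf_15 : ∀ v, v < 243 → W_15 v = v := by
  intro v hv
  exact fixPtsF_spec W_15 243 0 relc_15_0 v (by omega) (by omega)

set_option maxRecDepth 1000000 in
theorem walk_15 : ∀ v, walkT ctF (D.wlen 15) (D.wordP 15) v = W_15 v := by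
  intro v
  simp only [W_15, forceL_eq]
  rfl

theorem relw_15 : ∀ v, v < 243 → walkT ctF (D.wlen 15) (D.wordP 15) v = v := by
  intro v hv
  rw [walk_15]
  exact relf_15 v hv

theorem relf_16 : ∀ v, v < 243 → W_16 v = v := by
  intro v hv
  exact fixPtsF_spec W_16 243 0 relc_16_0 v (by omega) (by omega)

set_option maxRecDepth 1000000 in
theorem walk_16 : ∀ v, walkT ctF (D.wlen 16) (D.wordP 16) v = W_16 v := by
  intro v
  simp only [W_16, forceL_eq]
  rfl

theorem relw_16 : ∀ v, v < 243 → walkT ctF (D.wlen 16) (D.wordP 16) v = v := by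
  intro v hv
  rw [walk_16]
  exact relf_16 v hv

theorem relf_17 : ∀ v, v < 243 → W_17 v = v := by
  intro v hv
  exact fixPtsF_spec W_17 243 0 relc_17_0 v (by omega) (by omega)

set_option maxRecDepth 1000000 in
theorem walk_17 : ∀ v, walkT ctF (D.wlen 17) (D.wordP 17) v = W_17 v := by
  intro v
  simp only [W_17, forceL_eq]
  rfl

theorem relw_17 : ∀ v, v < 243 → walkT ctF (D.wlen 17) (D.wordP 17) v = v := by
  intro v hv
  rw [walk_17]
  exact relf_17 v hv

theorem relf_18 : ∀ v, v < 243 → W_18 v = v := by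
  intro v hv
  exact fixPtsF_spec W_18 243 0 relc_18_0 v (by omega) (by omega)

set_option maxRecDepth 1000000 in
theorem walk_18 : ∀ v, walkT ctF (D.wlen 18) (D.wordP 18) v = W_18 v := by
  intro v
  simp only [W_18, forceL_eq]
  rfl

theorem relw_18 : ∀ v, v < 243 → walkT ctF (D.wlen 18) (D.wordP 18) v = v := by
  intro v hv
  rw [walk_18]
  exact relf_18 v hv

theorem relf_19 : ∀ v, v < 243 → W_19 v = v := by
  intro v hv
  exact fixPtsF_spec W_19 243 0 relc_19_0 v (by omega) (by omega)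

set_option maxRecDepth 1000000 in
theorem walk_19 : ∀ v, walkT ctF (D.wlen 19) (D.wordP 19) v = W_19 v := by
  intro v
  simp only [W_19, forceL_eq]
  rfl

theorem relw_19 : ∀ v, v < 243 → walkT ctF (D.wlen 19) (D.wordP 19) v = v := by
  intro v hv
  rw [walk_19]
  exact relf_19 v hv

theorem relf_20 : ∀ v, v < 243 → W_20 v = v := by
  intro v hv
  exact fixPtsF_spec W_20 243 0 relc_20_0 v (by omega) (by omega)

set_option maxRecDepth 1000000 in
theorem walk_20 : ∀ v, walkT ctF (D.wlen 20) (D.wordP 20) v = W_20 v := by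
  intro v
  simp only [W_20, forceL_eq]
  rfl

theorem relw_20 : ∀ v, v < 243 → walkT ctF (D.wlen 20) (D.wordP 20) v = v := by
  intro v hv
  rw [walk_20]
  exact relf_20 v hv

theorem relf_21 : ∀ v, v < 243 → W_21 v = v := by
  intro v hv
  exact fixPtsF_spec W_21 243 0 relc_21_0 v (by omega) (by omega)

set_option maxRecDepth 1000000 in
theorem walk_21 : ∀ v, walkT ctF (D.wlen 21) (D.wordP 21) v = W_21 v := by
  intro v
  simp only [W_21, forceL_eq]
  rfl

theorem relw_21 : ∀ v, v < 243 → walkT ctF (D.wlen 21) (D.wordP 21) v = v := by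
  intro v hv
  rw [walk_21]
  exact relf_21 v hv

theorem relf_22 : ∀ v, v < 243 → W_22 v = v := by
  intro v hv
  exact fixPtsF_spec W_22 243 0 relc_22_0 v (by omega) (by omega)

set_option maxRecDepth 1000000 in
theorem walk_22 : ∀ v, walkT ctF (D.wlen 22) (D.wordP 22) v = W_22 v := by
  intro v
  simp only [W_22, forceL_eq]
  rfl

theorem relw_22 : ∀ v, v < 243 → walkT ctF (D.wlen 22) (D.wordP 22) v = v := by
  intro v hv
  rw [walk_22]
  exact relf_22 v hv

theorem relf_23 : ∀ v, v < 243 → W_23 v = v := by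
  intro v hv
  exact fixPtsF_spec W_23 243 0 relc_23_0 v (by omega) (by omega)

set_option maxRecDepth 1000000 in
theorem walk_23 : ∀ v, walkT ctF (D.wlen 23) (D.wordP 23) v = W_23 v := by
  intro v
  simp only [W_23, forceL_eq]
  rfl

theorem relw_23 : ∀ v, v < 243 → walkT ctF (D.wlen 23) (D.wordP 23) v = v := by
  intro v hv
  rw [walk_23]
  exact relf_23 v hv

theorem relf_24 : ∀ v, v < 243 → W_24 v = v := by
  intro v hv
  exact fixPtsF_spec W_24 243 0 relc_24_0 v (by omega) (by omega)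

set_option maxRecDepth 1000000 in
theorem walk_24 : ∀ v, walkT ctF (D.wlen 24) (D.wordP 24) v = W_24 v := by
  intro v
  simp only [W_24, forceL_eq]
  rfl

theorem relw_24 : ∀ v, v < 243 → walkT ctF (D.wlen 24) (D.wordP 24) v = v := by
  intro v hv
  rw [walk_24]
  exact relf_24 v hv

theorem relf_25 : ∀ v, v < 243 → W_25 v = v := by
  intro v hv
  exact fixPtsF_spec W_25 243 0 relc_25_0 v (by omega) (by omega)

set_option maxRecDepth 1000000 in
theorem walk_25 : ∀ v, walkT ctF (D.wlen 25) (D.wordP 25) v = W_25 v := by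
  intro v
  simp only [W_25, forceL_eq]
  rfl

theorem relw_25 : ∀ v, v < 243 → walkT ctF (D.wlen 25) (D.wordP 25) v = v := by
  intro v hv
  rw [walk_25]
  exact relf_25 v hv

theorem relf_26 : ∀ v, v < 243 → W_26 v = v := by
  intro v hv
  exact fixPtsF_spec W_26 243 0 relc_26_0 v (by omega) (by omega)

set_option maxRecDepth 1000000 in
theorem walk_26 : ∀ v, walkT ctF (D.wlen 26) (D.wordP 26) v = W_26 v := by
  intro v
  simp only [W_26, forceL_eq]
  rfl

theorem relw_26 : ∀ v, v < 243 → walkT ctF (D.wlen 26) (D.wordP 26) v = v := by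
  intro v hv
  rw [walk_26]
  exact relf_26 v hv

theorem relf_27 : ∀ v, v < 243 → W_27 v = v := by
  intro v hv
  exact fixPtsF_spec W_27 243 0 relc_27_0 v (by omega) (by omega)

set_option maxRecDepth 1000000 in
theorem walk_27 : ∀ v, walkT ctF (D.wlen 27) (D.wordP 27) v = W_27 v := by
  intro v
  simp only [W_27, forceL_eq]
  rfl

theorem relw_27 : ∀ v, v < 243 → walkT ctF (D.wlen 27) (D.wordP 27) v = v := by
  intro v hv
  rw [walk_27]
  exact relf_27 v hv

theorem relf_28 : ∀ v, v < 243 → W_28 v = v := by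
  intro v hv
  exact fixPtsF_spec W_28 243 0 relc_28_0 v (by omega) (by omega)

set_option maxRecDepth 1000000 in
theorem walk_28 : ∀ v, walkT ctF (D.wlen 28) (D.wordP 28) v = W_28 v := by
  intro v
  simp only [W_28, forceL_eq]
  rfl

theorem relw_28 : ∀ v, v < 243 → walkT ctF (D.wlen 28) (D.wordP 28) v = v := by
  intro v hv
  rw [walk_28]
  exact relf_28 v hv

theorem invx_0 : ∀ v, v < 243 → ctF 0 v < 243 ∧ ctF 0 (ctF 0 v) = v := by
  intro v hv
  exact invRowFI_spec ctF 243 0 0 243 0 inv_0_0 v (by omega) (by omega)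

theorem invx_1 : ∀ v, v < 243 → ctF 1 v < 243 ∧ ctF 1 (ctF 1 v) = v := by
  intro v hv
  exact invRowFI_spec ctF 243 1 1 243 0 inv_1_0 v (by omega) (by omega)

theorem invx_2 : ∀ v, v < 243 → ctF 2 v < 243 ∧ ctF 2 (ctF 2 v) = v := by
  intro v hv
  exact invRowFI_spec ctF 243 2 2 243 0 inv_2_0 v (by omega) (by omega)

theorem invx_3 : ∀ v, v < 243 → ctF 3 v < 243 ∧ ctF 3 (ctF 3 v) = v := by
  intro v hv
  exact invRowFI_spec ctF 243 3 3 243 0 inv_3_0 v (by omega) (by omega)

theorem invx_4 : ∀ v, v < 243 → ctF 4 v < 243 ∧ ctF 4 (ctF 4 v) = v := by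
  intro v hv
  exact invRowFI_spec ctF 243 4 4 243 0 inv_4_0 v (by omega) (by omega)

theorem invx_5 : ∀ v, v < 243 → ctF 5 v < 243 ∧ ctF 5 (ctF 5 v) = v := by
  intro v hv
  exact invRowFI_spec ctF 243 5 5 243 0 inv_5_0 v (by omega) (by omega)

theorem invx_6 : ∀ v, v < 243 → ctF 6 v < 243 ∧ ctF 6 (ctF 6 v) = v := by
  intro v hv
  exact invRowFI_spec ctF 243 6 6 243 0 inv_6_0 v (by omega) (by omega)

theorem hconn : ∀ v, v < 243 → v ≠ 0 → ∃ x, x < E.D.k ∧ ctF x v < v := by
  intro v hv
  exact connF_spec ctF 7 243 0 conn_0 v (by omega) (by omega)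

theorem hE : ∀ v, v < E.M → ∀ x, x < E.D.k → edgeOKI iota E x v = true := by
  intro v hv x hx
  have hv' : v < 769 := hv
  have hx' : x < 7 := hx
  interval_cases x
  · exact edgesx_0 v hv'
  · exact edgesx_1 v hv'
  · exact edgesx_2 v hv'
  · exact edgesx_3 v hv'
  · exact edgesx_4 v hv'
  · exact edgesx_5 v hv'
  · exact edgesx_6 v hv'

theorem hA : ∀ v, v < E.M → aliasOK E v = true := fun v hv => hA0 v hv

theorem hrows : ∀ v, v < E.M → tb RS v = true → rowOK2 E RS v E.D.k = true := fun v hv => hrows0 v hv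

theorem hT : ∀ x, x < E.D.k → ∀ v, v < 243 → ctF x v < 243 ∧ ctF (iota x) (ctF x v) = v := by
  intro x hx
  have hx' : x < 7 := hx
  interval_cases x
  · exact invx_0
  · exact invx_1
  · exact invx_2
  · exact invx_3
  · exact invx_4
  · exact invx_5
  · exact invx_6

theorem hltr : ∀ j, j < E.D.nw → lettersOK E.D.k (E.D.wlen j) (E.D.wordP j) = true :=
  wordsOK_spec D D.nw words_ok

theorem hrelT : ∀ wi, wi < E.D.nrel → ∀ v, v < 243 →
    walkT ctF (E.D.wlen wi) (E.D.wordP wi) v = v := by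
  intro wi hwi
  have hwi' : wi < 29 := hwi
  interval_cases wi
  · exact relw_0
  · exact relw_1
  · exact relw_2
  · exact relw_3
  · exact relw_4
  · exact relw_5
  · exact relw_6
  · exact relw_7
  · exact relw_8
  · exact relw_9
  · exact relw_10
  · exact relw_11
  · exact relw_12
  · exact relw_13
  · exact relw_14
  · exact relw_15
  · exact relw_16
  · exact relw_17
  · exact relw_18
  · exact relw_19
  · exact relw_20
  · exact relw_21
  · exact relw_22
  · exact relw_23
  · exact relw_24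
  · exact relw_25
  · exact relw_26
  · exact relw_27
  · exact relw_28

theorem hsubT : ∀ wi, wi < E.D.nw → E.D.nrel ≤ wi →
    walkT ctF (E.D.wlen wi) (E.D.wordP wi) 0 = 0 :=
  subAll_spec ctF D D.nw sub_ok

end Cfsg.Agent.Helper3.Y5ETC
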