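import Cfsg.Agent.Helper5.TC2A

/-! generated coset table (generator 1): Y5FTC -/

set_option autoImplicit false
set_option Elab.async false

namespace Cfsg.Agent.Helper3.Y5FTC
open Cfsg.Agent.Helper5.TC

def ct1_0 : ℕ := 0x4700004600004400004500004100004200004300003d00003f00003e00004000003c00003600003a00003900003300003700003b00003000003400003800002c00003100003500002a00002900002d00003200002500002f00002e00002200002700002600002b00002400001d00002800002100002000001c00001e00002300001f00001b00001700001600001800001a00001900001100001000001300001200001500001400000b00000e00000d00000c00000f00000700000900000800000a000004000005000006000002000003000001000000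
def ctSel1 (c : ℕ) : ℕ := ct1_0
def ct1F (v : ℕ) : ℕ := Nat.rec (motive := fun _ => ℕ) 0 (fun c _ => Nat.mod (Nat.shiftRight (ctSel1 c) (Nat.mul 24 (Nat.mod v 682))) 16777216) (Nat.add (Nat.div v 682) 1)

end Cfsg.Agent.Helper3.Y5FTC
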