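import Cfsg.Agent.Helper5.TC2A

/-! generated coset table (generator 2): Y5FTC -/

set_option autoImplicit false
set_option Elab.async false

namespace Cfsg.Agent.Helper3.Y5FTC
open Cfsg.Agent.Helper5.TC

def ct2_0 : ℕ := 0x4700004600004500004200004300004400003f00004000004100003b00003a00003800003e00003d00003500003c00003200003600003900002f00003300003700002b00003000003400002800002d00002c00003100002a00002300002e00002700002600002500002400002900001d00002100002000001f00001e00002200001800001b00001a00001900001c00001300001200001500001400001700001600000e00000d00000f00001100001000000a00000900000c00000b000006000007000008000003000004000005000002000001000000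
def ctSel2 (c : ℕ) : ℕ := ct2_0
def ct2F (v : ℕ) : ℕ := Nat.rec (motive := fun _ => ℕ) 0 (fun c _ => Nat.mod (Nat.shiftRight (ctSel2 c) (Nat.mul 24 (Nat.mod v 682))) 16777216) (Nat.add (Nat.div v 682) 1)

end Cfsg.Agent.Helper3.Y5FTC
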