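import Cfsg.Agent.Helper5.TC2A

/-! generated coset table (generator 4): Y5FTC -/

set_option autoImplicit false
set_option Elab.async false

namespace Cfsg.Agent.Helper3.Y5FTC
open Cfsg.Agent.Helper5.TC

def ct4_0 : ℕ := 0x4700004600004500004400004000004200003d00004300003a00003900004100003700003500003f00003e00003200003c00003000003b00003400002c00003800003100003600002f00002e00002600003300002b00002a00002900002800002100002d00002500002400002300002200002700001b00001f00001e00001d00001c00002000001500001900001800001100001600001a00000f00000e00001200001700000b00001400001300000900000800001000000600000d00000c00000400000a000005000007000003000002000001000000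
def ctSel4 (c : ℕ) : ℕ := ct4_0
def ct4F (v : ℕ) : ℕ := Nat.rec (motive := fun _ => ℕ) 0 (fun c _ => Nat.mod (Nat.shiftRight (ctSel4 c) (Nat.mul 24 (Nat.mod v 682))) 16777216) (Nat.add (Nat.div v 682) 1)

end Cfsg.Agent.Helper3.Y5FTC
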