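import Cfsg.Agent.Helper5.TC2A

/-! generated coset table (generator 5): Y5FTC -/

set_option autoImplicit false
set_option Elab.async false

namespace Cfsg.Agent.Helper3.Y5FTC
open Cfsg.Agent.Helper5.TC

def ct5_0 : ℕ := 0x4600004700004500004400004300004200004100004000003f00003c00003d00003e00003800003a00003700003b00003900003300003200003100003600003500003400002c00002b00002e00002d00003000002f00002500002900002800002700002600002a00001e00002300002200002100002000001900002400001d00001600001b00001400001f00001200001000001c00000f00001a00000d00001800000b00001700001500000900001300000c00001100000a00000e000008000007000006000005000004000003000002000000000001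
def ctSel5 (c : ℕ) : ℕ := ct5_0
def ct5F (v : ℕ) : ℕ := Nat.rec (motive := fun _ => ℕ) 0 (fun c _ => Nat.mod (Nat.shiftRight (ctSel5 c) (Nat.mul 24 (Nat.mod v 682))) 16777216) (Nat.add (Nat.div v 682) 1)

end Cfsg.Agent.Helper3.Y5FTC
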