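import Cfsg.Agent.Helper3.Y5FTCDatD
import Cfsg.Agent.Helper3.Y5FTCDatT
import Cfsg.Agent.Helper5.TCIB

/-! kernel checks of the coset table: Y5FTC -/

set_option autoImplicit false
set_option Elab.async false

namespace Cfsg.Agent.Helper3.Y5FTC
open Cfsg.Agent.Helper5.TC Cfsg.Agent.Helper5.TCI

set_option maxRecDepth 1000000 in
theorem relc_1_0 : fixPtsF W_1 72 0 = true := by decide +kernel

set_option maxRecDepth 1000000 in
theorem relc_3_0 : fixPtsF W_3 72 0 = true := by decide +kernel

set_option maxRecDepth 1000000 in
theorem relc_5_0 : fixPtsF W_5 72 0 = true := by decide +kernel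

set_option maxRecDepth 1000000 in
theorem relc_7_0 : fixPtsF W_7 72 0 = true := by decide +kernel

set_option maxRecDepth 1000000 in
theorem relc_16_0 : fixPtsF W_16 72 0 = true := by decide +kernel

set_option maxRecDepth 1000000 in
theorem relc_2_0 : fixPtsF W_2 72 0 = true := by decide +kernel

set_option maxRecDepth 1000000 in
theorem relc_4_0 : fixPtsF W_4 72 0 = true := by decide +kernel

set_option maxRecDepth 1000000 in
theorem relc_8_0 : fixPtsF W_8 72 0 = true := by decide +kernel

set_option maxRecDepth 1000000 in
theorem relc_9_0 : fixPtsF W_9 72 0 = true := by decide +kernel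

set_option maxRecDepth 1000000 in
theorem relc_10_0 : fixPtsF W_10 72 0 = true := by decide +kernel

set_option maxRecDepth 1000000 in
theorem relc_12_0 : fixPtsF W_12 72 0 = true := by decide +kernel

set_option maxRecDepth 1000000 in
theorem relc_13_0 : fixPtsF W_13 72 0 = true := by decide +kernel

set_option maxRecDepth 1000000 in
theorem relc_14_0 : fixPtsF W_14 72 0 = true := by decide +kernel

set_option maxRecDepth 1000000 in
theorem relc_17_0 : fixPtsF W_17 72 0 = true := by decide +kernel

set_option maxRecDepth 1000000 in
theorem relc_19_0 : fixPtsF W_19 72 0 = true := by decide +kernel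

set_option maxRecDepth 1000000 in
theorem relc_0_0 : fixPtsF W_0 72 0 = true := by decide +kernel

set_option maxRecDepth 1000000 in
theorem relc_6_0 : fixPtsF W_6 72 0 = true := by decide +kernel

set_option maxRecDepth 1000000 in
theorem relc_11_0 : fixPtsF W_11 72 0 = true := by decide +kernel

set_option maxRecDepth 1000000 in
theorem relc_15_0 : fixPtsF W_15 72 0 = true := by decide +kernel

set_option maxRecDepth 1000000 in
theorem relc_18_0 : fixPtsF W_18 72 0 = true := by decide +kernel

set_option maxRecDepth 1000000 in
theorem relc_20_0 : fixPtsF W_20 72 0 = true := by decide +kernel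

set_option maxRecDepth 1000000 in
theorem inv_0_0 : invRowFI ctF 72 0 0 72 0 = true := by decide +kernel

set_option maxRecDepth 1000000 in
theorem inv_1_0 : invRowFI ctF 72 1 1 72 0 = true := by decide +kernel

set_option maxRecDepth 1000000 in
theorem inv_2_0 : invRowFI ctF 72 2 2 72 0 = true := by decide +kernel

set_option maxRecDepth 1000000 in
theorem inv_3_0 : invRowFI ctF 72 3 3 72 0 = true := by decide +kernel

set_option maxRecDepth 1000000 in
theorem inv_4_0 : invRowFI ctF 72 4 4 72 0 = true := by decide +kernel

set_option maxRecDepth 1000000 in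
theorem inv_5_0 : invRowFI ctF 72 5 5 72 0 = true := by decide +kernel

set_option maxRecDepth 1000000 in
theorem conn_0 : connF ctF 6 72 0 = true := by decide +kernel

end Cfsg.Agent.Helper3.Y5FTC
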