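import Cfsg.Agent.Helper5.TC2A

/-! generated certificate data (A): Y5FTC -/

set_option autoImplicit false
set_option Elab.async false

namespace Cfsg.Agent.Helper3.Y5FTC
open Cfsg.Agent.Helper5.TC

def par_0 : ℕ := 0x4600004500004300004100004000003f00003d00003d00003a00003900003900003700003500003500003400003200003100003000002f00002f00002c00002b00002b00002a00002a00002800002600002500002500002400002300002200002100002000001f00001e00001d00001c00001b00001a00001900001900001800001600001500001400001400001200001000001000000f00000f00000d00000d00000b00000b00000b000009000009000008000008000006000006000005000004000003000003000002000002000001000000000000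
def parSel (c : ℕ) : ℕ := par_0
def parF (v : ℕ) : ℕ := Nat.rec (motive := fun _ => ℕ) 0 (fun c _ => Nat.mod (Nat.shiftRight (parSel c) (Nat.mul 24 (Nat.mod v 682))) 16777216) (Nat.add (Nat.div v 682) 1)
def gen_0 : ℕ := 0x500000003000300040003000400010004000400000004000400000003000400030004000300020004000300020003000100020004000300010000000200010004000300000005000100000003000000050000000000050000000500030005000500030005000400050003000500040001000500040004000000040000000300040003000200030001000000050000
def genSel (c : ℕ) : ℕ := gen_0
def genF (v : ℕ) : ℕ := Nat.rec (motive := fun _ => ℕ) 0 (fun c _ => Nat.mod (Nat.shiftRight (genSel c) (Nat.mul 16 (Nat.mod v 1024))) 65536) (Nat.add (Nat.div v 1024) 1)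

end Cfsg.Agent.Helper3.Y5FTC
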