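import Cfsg.Agent.Helper5.TC2A

/-! generated certificate data (events 0): Y5FTC -/

set_option autoImplicit false
set_option Elab.async false

namespace Cfsg.Agent.Helper3.Y5FTC
open Cfsg.Agent.Helper5.TC

def ev_0 : ℕ := 0x118044d0000011804450000011804390000011804290000011804150000011408110000010c080d0000011408090000011008050000010c08450000010008410000010c04310000010c0421000001040845000000f4084100000104043100000104040d00000100084d000001000435000001000425000001000411000000fc0845000000e80841000000fc0421000000fc040d000000f4084d000000f40435000000f40411000000f40829000000f40821000000e8081d000000f40405000000e8084d000000e80425000000e80411000000dc084d000000e40441000000e40435000000e40425000000dc0815000000d0080d000000d40809000000dc0441000000dc0435000000dc0425000000dc0411000000c8084d000000d40441000000d40425000000c80815000000bc080d000000c00805000000c40845000000d00431000000d00421000000c80441000000c80425000000c80411000000c40431000000c40421000000c4040d000000b0084d000000c00441000000c00435000000c00411000000ac0845000000bc0421000000ac0839000000bc0835000000bc041d000000bc0409000000b00441000000b00435000000b00411000000ac0421000000ac040d000000ac0835000000ac041d000000ac0409000000940845000000a80431000000a8040d000000940829000000a80825000000a80405000000a00839000000a00835000000a00831000000a0041d00000098084d00000098044100000098043500000098042500000094043100000094040d0000009408250000009404050000007808150000009008110000009008090000008c08390000008c08350000008c08310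000008c040900000088082900000088082500000088082100000084084d0000008404350000008404250000008404110000008008450000008004310000008004210000007c08110000007c080900000078044d0000007804450000007804390000007804290000007408290000007408250000007408210000007404050000005808150000007008110000005c080d0000006008090000006c08450000006c04310000006c04210000006c040d0000005008150000005408110000006808090000005c080500000064044d00000064044500000064043900000064042900000064081100000050080d0000006408090000005808050000004808150000006008110000004c080d00000058044d0000005804450000005804390000003c081500000054080900000044080500000050044d0000005004390000005004290000003c084100000050043100000050042100000048044d00000048044500000048042900000040044d0000004004390000004004150000002c084100000040043100000040040d0000003c04450000003c04390000003c04290000003c04350000003c04250000003c041100000034044d00000034042900000034041500000024084100000034042100000034040d0000002c04450000002c04390000002c04150000002c04350000002c04110000002c082100000024081d0000002c040500000024044500000024042900000024041500000024042500000024041100000020084d00000020044100000020043500000020042500000014080d00000018080900000018084d0000001804410000001804250000000c080d00000010080500000014084500000014043100000014042100000010084d0000001004410000001004350000001004110000000c08450000000c04210000000c08390000000c08350000000c041d0000000c040900000008084500000008043100000008040d00000008082900000008082500000008040500000000081500000004081100000004080900000000044d00000000044500000000043900000000042900000000006500000000006100000000005d000000000059000000000055000000000000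
def evSel0 (c : ℕ) : ℕ := ev_0

end Cfsg.Agent.Helper3.Y5FTC
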