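import Cfsg.Agent.Helper5.TC2A

/-! generated certificate data (ranks of generator 0): Y5FTC -/

set_option autoImplicit false
set_option Elab.async false

namespace Cfsg.Agent.Helper3.Y5FTC
open Cfsg.Agent.Helper5.TC

def rk0_0 : ℕ := 0x1ce0000000000000001b60001ae0001a60001a00001980001920001a100000000017c00019300000000000000016400015e00015600000000014a00014400014000013a00013400012e00013b00014500011a0001160000000001080001170000fa00011b0000000000000000e00000000000d000000000000000000000000000000000000000000000000000000000008e00008800000000007c00007600007000006a00006600006000005a00005600006700000000005700000000000000003200000000002600002000001a000000000000000002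
def rkSel0 (c : ℕ) : ℕ := rk0_0
def rk0F (v : ℕ) : ℕ := Nat.rec (motive := fun _ => ℕ) 0 (fun c _ => Nat.mod (Nat.shiftRight (rkSel0 c) (Nat.mul 24 (Nat.mod v 682))) 16777216) (Nat.add (Nat.div v 682) 1)

end Cfsg.Agent.Helper3.Y5FTC
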