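import Cfsg.Agent.Helper5.TC2A

/-! generated certificate data (ranks of generator 1): Y5FTC -/

set_option autoImplicit false
set_option Elab.async false

namespace Cfsg.Agent.Helper3.Y5FTC
open Cfsg.Agent.Helper5.TC

def rk1_0 : ℕ := 0x1d00001c60001be0001bf0001b00001a80001b100000000019400018a00000000017e00017600017000016a00016600016000017700015200014c00016700014200013c00015300000000012600011e0001430000000000000001270000000000fc0000f40000000000e80000000000000000d20000c80000c00000b80000000000c10000a60000a000009a0000940000a100009b00008200007e00007800007200008300007f00000000005c00005800004e00000000004400004000003a00004500002e00002800002f00000000000000000c000004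
def rkSel1 (c : ℕ) : ℕ := rk1_0
def rk1F (v : ℕ) : ℕ := Nat.rec (motive := fun _ => ℕ) 0 (fun c _ => Nat.mod (Nat.shiftRight (rkSel1 c) (Nat.mul 24 (Nat.mod v 682))) 16777216) (Nat.add (Nat.div v 682) 1)

end Cfsg.Agent.Helper3.Y5FTC
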