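import Cfsg.Agent.Helper5.TC2A

/-! generated certificate data (ranks of generator 2): Y5FTC -/

set_option autoImplicit false
set_option Elab.async false

namespace Cfsg.Agent.Helper3.Y5FTC
open Cfsg.Agent.Helper5.TC

def rk2_0 : ℕ := 0x1d20001c80001c00001b80001b20001b90001a200019a0001a300018c00018400018000018d00018500016c00018100016200015800016d00000000014600016300000000013600000000000000012000011c0000000001100000000000000000fe0000f60000f00000ea0000000000d80000d40000ca0000c20000ba0000d90000ac0000a80000a200009c0000ad00009000008a00008400008000009100008b00006c00006800006200006d00006900005000004a00005100004b00003c00003400003d00000000002200000000001400000e000006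
def rkSel2 (c : ℕ) : ℕ := rk2_0
def rk2F (v : ℕ) : ℕ := Nat.rec (motive := fun _ => ℕ) 0 (fun c _ => Nat.mod (Nat.shiftRight (rkSel2 c) (Nat.mul 24 (Nat.mod v 682))) 16777216) (Nat.add (Nat.div v 682) 1)

end Cfsg.Agent.Helper3.Y5FTC
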