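import Cfsg.Agent.Helper5.TC2A

/-! generated certificate data (ranks of generator 3): Y5FTC -/

set_option autoImplicit false
set_option Elab.async false

namespace Cfsg.Agent.Helper3.Y5FTC
open Cfsg.Agent.Helper5.TC

def rk3_0 : ℕ := 0x1d40001ca00000000000000000000000000000000019c00000000018e00018600018200017800017200000000016800000000015a00000000000000014800000000000000000000000000012800012200000000000000000000010a0001020001230000000000000000ec0000e20000da0000000000000000c40000bc0000b20000ae0000000000c50000000000960000af00000000008600000000009700000000006e00000000006400005e00000000005200004c000046000042000000000036000000000000000000000000000000000010000008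
def rkSel3 (c : ℕ) : ℕ := rk3_0
def rk3F (v : ℕ) : ℕ := Nat.rec (motive := fun _ => ℕ) 0 (fun c _ => Nat.mod (Nat.shiftRight (rkSel3 c) (Nat.mul 24 (Nat.mod v 682))) 16777216) (Nat.add (Nat.div v 682) 1)

end Cfsg.Agent.Helper3.Y5FTC
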