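import Cfsg.Agent.Helper5.TC2A

/-! generated certificate data (ranks of generator 4): Y5FTC -/

set_option autoImplicit false
set_option Elab.async false

namespace Cfsg.Agent.Helper3.Y5FTC
open Cfsg.Agent.Helper5.TC

def rk4_0 : ℕ := 0x1d60001cc0001c20001ba0000000001aa00000000000000000000000000000000000000000000000000000000000000000000000000000000014e00000000000000013e00000000013000012a00000000000000011800011200010c0001040000000000000000f20000ee0000e40000dc0000000000cc0000c60000be0000b40000b00000cd0000a400009e00009800009200008c0000a500000000007a00007400009300000000000000007b00000000000000000000000000000000000000000000000000002a00000000001c00001600001200000a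
def rkSel4 (c : ℕ) : ℕ := rk4_0
def rk4F (v : ℕ) : ℕ := Nat.rec (motive := fun _ => ℕ) 0 (fun c _ => Nat.mod (Nat.shiftRight (rkSel4 c) (Nat.mul 24 (Nat.mod v 682))) 16777216) (Nat.add (Nat.div v 682) 1)

end Cfsg.Agent.Helper3.Y5FTC
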