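import Cfsg.Agent.Helper5.TC2A

/-! generated certificate data (ranks of generator 5): Y5FTC -/

set_option autoImplicit false
set_option Elab.async false

namespace Cfsg.Agent.Helper3.Y5FTC
open Cfsg.Agent.Helper5.TC

def rk5_0 : ℕ := 0x1c40001bc0001b40001ac0001a400019e00019600019000018800019100017a00017400016e00017b00016f00015c00015400015000015d00015500015100013800013200012c00012400013900013300011400010e0001060001000000f80001150000000000e60000de0000d60000ce0000000000000000b60000000000aa00000000000000000000000000000000000000000000000000000000000000000000000000000000000000005400000000004800000000003e00003800003000002c00002400001e000018000000000000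
def rkSel5 (c : ℕ) : ℕ := rk5_0
def rk5F (v : ℕ) : ℕ := Nat.rec (motive := fun _ => ℕ) 0 (fun c _ => Nat.mod (Nat.shiftRight (rkSel5 c) (Nat.mul 24 (Nat.mod v 682))) 16777216) (Nat.add (Nat.div v 682) 1)

end Cfsg.Agent.Helper3.Y5FTC
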