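import Cfsg.Agent.Helper5.TC2A

/-! generated certificate data (targets of generator 3): Y5FTC -/

set_option autoImplicit false
set_option Elab.async false

namespace Cfsg.Agent.Helper3.Y5FTC
open Cfsg.Agent.Helper5.TC

def tg3_0 : ℕ := 0x4700004600004300004100004500003f00004400004000004200003e00003d00003c00003b00003a00003400003800003100003600002f00003900003300002b00003700002a00003500002e00002700002500003200003000002900002800002d00002000002c00002400002300002200001b00002600001a00001e00001d00001700002100001f00001400001300001c00001000001500001900001800000d00001100001600000f00000e00001200000c00000b00000a000009000005000007000003000008000002000006000004000001000000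
def tgSel3 (c : ℕ) : ℕ := tg3_0
def tg3F (v : ℕ) : ℕ := Nat.rec (motive := fun _ => ℕ) 0 (fun c _ => Nat.mod (Nat.shiftRight (tgSel3 c) (Nat.mul 24 (Nat.mod v 682))) 16777216) (Nat.add (Nat.div v 682) 1)

end Cfsg.Agent.Helper3.Y5FTC
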