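import Cfsg.Agent.Helper5.TC2A

/-! generated certificate data (targets of generator 0): Y5FTC -/

set_option autoImplicit false
set_option Elab.async false

namespace Cfsg.Agent.Helper3.Y5FTC
open Cfsg.Agent.Helper5.TC

def tg0_0 : ℕ := 0x4700004500004600004400004300004200003e00004000003b00004100003900003c00003f00003500003d00003800003700003600003a00003400002d00003200002e00003000002f00003100003300002600002800002400002900002b00002700002c00001f00002a00002300001c00002100001a00002500001900001800002200001500002000001e00001d00001700001600001b00001400001300001200001100000c00000f00000e00000a00001000000800000d00000600000b000007000009000005000004000003000001000002000000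
def tgSel0 (c : ℕ) : ℕ := tg0_0
def tg0F (v : ℕ) : ℕ := Nat.rec (motive := fun _ => ℕ) 0 (fun c _ => Nat.mod (Nat.shiftRight (tgSel0 c) (Nat.mul 24 (Nat.mod v 682))) 16777216) (Nat.add (Nat.div v 682) 1)

end Cfsg.Agent.Helper3.Y5FTC
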