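import Cfsg.Agent.Helper3.Y5HTCDatD
import Cfsg.Agent.Helper3.Y5HTCDatT
import Cfsg.Agent.Helper5.TCIB

/-! kernel checks of the coset table: Y5HTC -/

set_option autoImplicit false
set_option Elab.async false

namespace Cfsg.Agent.Helper3.Y5HTC
open Cfsg.Agent.Helper5.TC Cfsg.Agent.Helper5.TCI

set_option maxRecDepth 1000000 in
theorem relc_1_0 : fixPtsF W_1 5 0 = true := by decide +kernel

set_option maxRecDepth 1000000 in
theorem relc_3_0 : fixPtsF W_3 5 0 = true := by decide +kernel

set_option maxRecDepth 1000000 in
theorem relc_5_0 : fixPtsF W_5 5 0 = true := by decide +kernel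

set_option maxRecDepth 1000000 in
theorem relc_2_0 : fixPtsF W_2 5 0 = true := by decide +kernel

set_option maxRecDepth 1000000 in
theorem relc_6_0 : fixPtsF W_6 5 0 = true := by decide +kernel

set_option maxRecDepth 1000000 in
theorem relc_8_0 : fixPtsF W_8 5 0 = true := by decide +kernel

set_option maxRecDepth 1000000 in
theorem relc_0_0 : fixPtsF W_0 5 0 = true := by decide +kernel

set_option maxRecDepth 1000000 in
theorem relc_4_0 : fixPtsF W_4 5 0 = true := by decide +kernel

set_option maxRecDepth 1000000 in
theorem relc_7_0 : fixPtsF W_7 5 0 = true := by decide +kernel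

set_option maxRecDepth 1000000 in
theorem relc_9_0 : fixPtsF W_9 5 0 = true := by decide +kernel

set_option maxRecDepth 1000000 in
theorem inv_0_0 : invRowFI ctF 5 0 0 5 0 = true := by decide +kernel

set_option maxRecDepth 1000000 in
theorem inv_1_0 : invRowFI ctF 5 1 1 5 0 = true := by decide +kernel

set_option maxRecDepth 1000000 in
theorem inv_2_0 : invRowFI ctF 5 2 2 5 0 = true := by decide +kernel

set_option maxRecDepth 1000000 in
theorem inv_3_0 : invRowFI ctF 5 3 3 5 0 = true := by decide +kernel

set_option maxRecDepth 1000000 in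
theorem conn_0 : connF ctF 4 5 0 = true := by decide +kernel

end Cfsg.Agent.Helper3.Y5HTC
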