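import Cfsg.Agent.Helper3.Y5HTCChkE0
import Cfsg.Agent.Helper3.Y5HTCChkR0
import Cfsg.Agent.Helper3.Y5HTCChkA
import Cfsg.Agent.Helper5.TCIB

/-! summary of the kernel checks: Y5HTC -/

set_option autoImplicit false
set_option Elab.async false

namespace Cfsg.Agent.Helper3.Y5HTC
open Cfsg.Agent.Helper5.TC Cfsg.Agent.Helper5.TCI

theorem edgesx_0 : ∀ v, v < 5 → edgeOKI iota E 0 v = true := by
  intro v hv
  exact edgesRangeI_spec iota E 0 5 0 edges_0_0 v (by omega) (by omega)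

theorem edgesx_1 : ∀ v, v < 5 → edgeOKI iota E 1 v = true := by
  intro v hv
  exact edgesRangeI_spec iota E 1 5 0 edges_1_0 v (by omega) (by omega)

theorem edgesx_2 : ∀ v, v < 5 → edgeOKI iota E 2 v = true := by
  intro v hv
  exact edgesRangeI_spec iota E 2 5 0 edges_2_0 v (by omega) (by omega)

theorem edgesx_3 : ∀ v, v < 5 → edgeOKI iota E 3 v = true := by
  intro v hv
  exact edgesRangeI_spec iota E 3 5 0 edges_3_0 v (by omega) (by omega)

theorem hA0 : ∀ v, v < 5 → aliasOK E v = true := by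
  intro v hv
  exact aliasRange_spec E 5 0 aliases_0 v (by omega) (by omega)

theorem hrows0 : ∀ v, v < 5 → tb RS v = true → rowOK2 E RS v E.D.k = true := by
  intro v hv
  exact rowsRange_spec E RS 5 0 rows_0 v (by omega) (by omega)

theorem cb_0 : cntBits RS 0 = 0 := rfl

theorem cb_1 : cntBits RS 5 = 5 := by
  have h := cntBits_step RS 0 5
  rw [cb_0, cnt_0] at h
  exact h

theorem set_ok : setOK 5 5 RS = true :=
  setOK_of_parts cb_1 set_zero set_lt

theorem relf_0 : ∀ v, v < 5 → W_0 v = v := by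
  intro v hv
  exact fixPtsF_spec W_0 5 0 relc_0_0 v (by omega) (by omega)

set_option maxRecDepth 1000000 in
theorem walk_0 : ∀ v, walkT ctF (D.wlen 0) (D.wordP 0) v = W_0 v := by
  intro v
  simp only [W_0, forceL_eq]
  rfl

theorem relw_0 : ∀ v, v < 5 → walkT ctF (D.wlen 0) (D.wordP 0) v = v := by
  intro v hv
  rw [walk_0]
  exact relf_0 v hv

theorem relf_1 : ∀ v, v < 5 → W_1 v = v := by
  intro v hv
  exact fixPtsF_spec W_1 5 0 relc_1_0 v (by omega) (by omega)

set_option maxRecDepth 1000000 in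
theorem walk_1 : ∀ v, walkT ctF (D.wlen 1) (D.wordP 1) v = W_1 v := by
  intro v
  simp only [W_1, forceL_eq]
  rfl

theorem relw_1 : ∀ v, v < 5 → walkT ctF (D.wlen 1) (D.wordP 1) v = v := by
  intro v hv
  rw [walk_1]
  exact relf_1 v hv

theorem relf_2 : ∀ v, v < 5 → W_2 v = v := by
  intro v hv
  exact fixPtsF_spec W_2 5 0 relc_2_0 v (by omega) (by omega)

set_option maxRecDepth 1000000 in
theorem walk_2 : ∀ v, walkT ctF (D.wlen 2) (D.wordP 2) v = W_2 v := by
  intro v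
  simp only [W_2, forceL_eq]
  rfl

theorem relw_2 : ∀ v, v < 5 → walkT ctF (D.wlen 2) (D.wordP 2) v = v := by
  intro v hv
  rw [walk_2]
  exact relf_2 v hv

theorem relf_3 : ∀ v, v < 5 → W_3 v = v := by
  intro v hv
  exact fixPtsF_spec W_3 5 0 relc_3_0 v (by omega) (by omega)

set_option maxRecDepth 1000000 in
theorem walk_3 : ∀ v, walkT ctF (D.wlen 3) (D.wordP 3) v = W_3 v := by
  intro v
  simp only [W_3, forceL_eq]
  rfl

theorem relw_3 : ∀ v, v < 5 → walkT ctF (D.wlen 3) (D.wordP 3) v = v := by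
  intro v hv
  rw [walk_3]
  exact relf_3 v hv

theorem relf_4 : ∀ v, v < 5 → W_4 v = v := by
  intro v hv
  exact fixPtsF_spec W_4 5 0 relc_4_0 v (by omega) (by omega)

set_option maxRecDepth 1000000 in
theorem walk_4 : ∀ v, walkT ctF (D.wlen 4) (D.wordP 4) v = W_4 v := by
  intro v
  simp only [W_4, forceL_eq]
  rfl

theorem relw_4 : ∀ v, v < 5 → walkT ctF (D.wlen 4) (D.wordP 4) v = v := by
  intro v hv
  rw [walk_4]
  exact relf_4 v hv

theorem relf_5 : ∀ v, v < 5 → W_5 v = v := by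
  intro v hv
  exact fixPtsF_spec W_5 5 0 relc_5_0 v (by omega) (by omega)

set_option maxRecDepth 1000000 in
theorem walk_5 : ∀ v, walkT ctF (D.wlen 5) (D.wordP 5) v = W_5 v := by
  intro v
  simp only [W_5, forceL_eq]
  rfl

theorem relw_5 : ∀ v, v < 5 → walkT ctF (D.wlen 5) (D.wordP 5) v = v := by
  intro v hv
  rw [walk_5]
  exact relf_5 v hv

theorem relf_6 : ∀ v, v < 5 → W_6 v = v := by
  intro v hv
  exact fixPtsF_spec W_6 5 0 relc_6_0 v (by omega) (by omega)

set_option maxRecDepth 1000000 in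
theorem walk_6 : ∀ v, walkT ctF (D.wlen 6) (D.wordP 6) v = W_6 v := by
  intro v
  simp only [W_6, forceL_eq]
  rfl

theorem relw_6 : ∀ v, v < 5 → walkT ctF (D.wlen 6) (D.wordP 6) v = v := by
  intro v hv
  rw [walk_6]
  exact relf_6 v hv

theorem relf_7 : ∀ v, v < 5 → W_7 v = v := by
  intro v hv
  exact fixPtsF_spec W_7 5 0 relc_7_0 v (by omega) (by omega)

set_option maxRecDepth 1000000 in
theorem walk_7 : ∀ v, walkT ctF (D.wlen 7) (D.wordP 7) v = W_7 v := by
  intro v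
  simp only [W_7, forceL_eq]
  rfl

theorem relw_7 : ∀ v, v < 5 → walkT ctF (D.wlen 7) (D.wordP 7) v = v := by
  intro v hv
  rw [walk_7]
  exact relf_7 v hv

theorem relf_8 : ∀ v, v < 5 → W_8 v = v := by
  intro v hv
  exact fixPtsF_spec W_8 5 0 relc_8_0 v (by omega) (by omega)

set_option maxRecDepth 1000000 in
theorem walk_8 : ∀ v, walkT ctF (D.wlen 8) (D.wordP 8) v = W_8 v := by
  intro v
  simp only [W_8, forceL_eq]
  rfl

theorem relw_8 : ∀ v, v < 5 → walkT ctF (D.wlen 8) (D.wordP 8) v = v := by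
  intro v hv
  rw [walk_8]
  exact relf_8 v hv

theorem relf_9 : ∀ v, v < 5 → W_9 v = v := by
  intro v hv
  exact fixPtsF_spec W_9 5 0 relc_9_0 v (by omega) (by omega)

set_option maxRecDepth 1000000 in
theorem walk_9 : ∀ v, walkT ctF (D.wlen 9) (D.wordP 9) v = W_9 v := by
  intro v
  simp only [W_9, forceL_eq]
  rfl

theorem relw_9 : ∀ v, v < 5 → walkT ctF (D.wlen 9) (D.wordP 9) v = v := by
  intro v hv
  rw [walk_9]
  exact relf_9 v hv

theorem invx_0 : ∀ v, v < 5 → ctF 0 v < 5 ∧ ctF 0 (ctF 0 v) = v := by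
  intro v hv
  exact invRowFI_spec ctF 5 0 0 5 0 inv_0_0 v (by omega) (by omega)

theorem invx_1 : ∀ v, v < 5 → ctF 1 v < 5 ∧ ctF 1 (ctF 1 v) = v := by
  intro v hv
  exact invRowFI_spec ctF 5 1 1 5 0 inv_1_0 v (by omega) (by omega)

theorem invx_2 : ∀ v, v < 5 → ctF 2 v < 5 ∧ ctF 2 (ctF 2 v) = v := by
  intro v hv
  exact invRowFI_spec ctF 5 2 2 5 0 inv_2_0 v (by omega) (by omega)

theorem invx_3 : ∀ v, v < 5 → ctF 3 v < 5 ∧ ctF 3 (ctF 3 v) = v := by
  intro v hv
  exact invRowFI_spec ctF 5 3 3 5 0 inv_3_0 v (by omega) (by omega)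

theorem hconn : ∀ v, v < 5 → v ≠ 0 → ∃ x, x < E.D.k ∧ ctF x v < v := by
  intro v hv
  exact connF_spec ctF 4 5 0 conn_0 v (by omega) (by omega)

theorem hE : ∀ v, v < E.M → ∀ x, x < E.D.k → edgeOKI iota E x v = true := by
  intro v hv x hx
  have hv' : v < 5 := hv
  have hx' : x < 4 := hx
  interval_cases x
  · exact edgesx_0 v hv'
  · exact edgesx_1 v hv'
  · exact edgesx_2 v hv'
  · exact edgesx_3 v hv'

theorem hA : ∀ v, v < E.M → aliasOK E v = true := fun v hv => hA0 v hv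

theorem hrows : ∀ v, v < E.M → tb RS v = true → rowOK2 E RS v E.D.k = true := fun v hv => hrows0 v hv

theorem hT : ∀ x, x < E.D.k → ∀ v, v < 5 → ctF x v < 5 ∧ ctF (iota x) (ctF x v) = v := by
  intro x hx
  have hx' : x < 4 := hx
  interval_cases x
  · exact invx_0
  · exact invx_1
  · exact invx_2
  · exact invx_3

theorem hltr : ∀ j, j < E.D.nw → lettersOK E.D.k (E.D.wlen j) (E.D.wordP j) = true :=
  wordsOK_spec D D.nw words_ok

theorem hrelT : ∀ wi, wi < E.D.nrel → ∀ v, v < 5 →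
    walkT ctF (E.D.wlen wi) (E.D.wordP wi) v = v := by
  intro wi hwi
  have hwi' : wi < 10 := hwi
  interval_cases wi
  · exact relw_0
  · exact relw_1
  · exact relw_2
  · exact relw_3
  · exact relw_4
  · exact relw_5
  · exact relw_6
  · exact relw_7
  · exact relw_8
  · exact relw_9

theorem hsubT : ∀ wi, wi < E.D.nw → E.D.nrel ≤ wi →
    walkT ctF (E.D.wlen wi) (E.D.wordP wi) 0 = 0 :=
  subAll_spec ctF D D.nw sub_ok

end Cfsg.Agent.Helper3.Y5HTC
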