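import Mathlib
import Cfsg.Agent.Helper5.LPW
import Cfsg.Agent.Helper5.LPE
import Cfsg.Agent.Helper3.Y5ATCSum
import Cfsg.Agent.Helper3.Y5BTCSum
import Cfsg.Agent.Helper3.Y5CTCSum
import Cfsg.Agent.Helper3.Y5DTCSum
import Cfsg.Agent.Helper3.Y5ETCSum
import Cfsg.Agent.Helper3.Y5FTCSum
import Cfsg.Agent.Helper3.Y5GTCSum
import Cfsg.Agent.Helper3.Y5HTCSum
import Cfsg.Agent.Helper3.Y5ITCSum
import Cfsg.Agent.Helper3.Y5JTCSum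

/-! generated: the relators of the `Y₅₃₂` presentation with the spider relator (letters
`a b1 c1 b2 c2 b3 c3 d1 d2 e1 f1`), the certified indices of the parabolic subgroups, the upper bound
for the order of `Y₄₃₂`, and the redundancy of `f1` -/

set_option autoImplicit false

namespace Cfsg.Agent.Helper3.Y5LP

open Cfsg.Agent.Helper5.TC Cfsg.Agent.Helper5.TCI Cfsg.Agent.Helper5.LP

/-- relator words on the first 11 letters. -/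
def R11 : List (List ℕ) := [[0, 0], [0, 1, 0, 1, 0, 1], [0, 2, 0, 2], [0, 3, 0, 3, 0, 3], [0, 4, 0, 4], [0, 5, 0, 5, 0, 5], [0, 6, 0, 6], [0, 7, 0, 7], [0, 8, 0, 8], [0, 9, 0, 9], [0, 10, 0, 10], [1, 1], [1, 2, 1, 2, 1, 2], [1, 3, 1, 3], [1, 4, 1, 4], [1, 5, 1, 5], [1, 6, 1, 6], [1, 7, 1, 7], [1, 8, 1, 8], [1, 9, 1, 9], [1, 10, 1, 10], [2, 2], [2, 3, 2, 3], [2, 4, 2, 4], [2, 5, 2, 5], [2, 6, 2, 6], [2, 7, 2, 7, 2, 7], [2, 8, 2, 8], [2, 9, 2, 9], [2, 10, 2, 10], [3, 3], [3, 4, 3, 4, 3, 4], [3, 5, 3, 5], [3, 6, 3, 6], [3, 7, 3, 7], [3, 8, 3, 8], [3, 9, 3, 9], [3, 10, 3, 10], [4, 4], [4, 5, 4, 5], [4, 6, 4, 6], [4, 7, 4, 7], [4, 8, 4, 8, 4, 8], [4, 9, 4, 9], [4, 10, 4, 10], [5, 5], [5, 6, 5, 6, 5, 6], [5, 7, 5, 7], [5, 8, 5, 8], [5, 9, 5, 9], [5, 10, 5, 10], [6, 6], [6, 7, 6, 7], [6, 8, 6, 8], [6, 9, 6,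 9], [6, 10, 6, 10], [7, 7], [7, 8, 7, 8], [7, 9, 7, 9, 7, 9], [7, 10, 7, 10], [8, 8], [8, 9, 8, 9], [8, 10, 8, 10], [9, 9], [9, 10, 9, 10, 9, 10], [10, 10], [0, 1, 2, 0, 3, 4, 0, 5, 6, 0, 1, 2, 0, 3, 4, 0, 5, 6, 0, 1, 2, 0, 3, 4, 0, 5, 6, 0, 1, 2, 0, 3, 4, 0, 5, 6, 0, 1, 2, 0, 3, 4, 0, 5, 6, 0, 1, 2, 0, 3, 4, 0, 5, 6, 0, 1, 2, 0, 3, 4, 0, 5, 6, 0, 1, 2, 0, 3, 4, 0, 5, 6, 0, 1, 2, 0, 3, 4, 0, 5, 6, 0, 1, 2, 0, 3, 4, 0, 5, 6]]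

/-- relator words on the first 10 letters. -/
def R10 : List (List ℕ) := [[0, 0], [0, 1, 0, 1, 0, 1], [0, 2, 0, 2], [0, 3, 0, 3, 0, 3], [0, 4, 0, 4], [0, 5, 0, 5, 0, 5], [0, 6, 0, 6], [0, 7, 0, 7], [0, 8, 0, 8], [0, 9, 0, 9], [1, 1], [1, 2, 1, 2, 1, 2], [1, 3, 1, 3], [1, 4, 1, 4], [1, 5, 1, 5], [1, 6, 1, 6], [1, 7, 1, 7], [1, 8, 1, 8], [1, 9, 1, 9], [2, 2], [2, 3, 2, 3], [2, 4, 2, 4], [2, 5, 2, 5], [2, 6, 2, 6], [2, 7, 2, 7, 2, 7], [2, 8, 2, 8], [2, 9, 2, 9], [3, 3], [3, 4, 3, 4, 3, 4], [3, 5, 3, 5], [3, 6, 3, 6], [3, 7, 3, 7], [3, 8, 3, 8], [3, 9, 3, 9], [4, 4], [4, 5, 4, 5], [4, 6, 4, 6], [4, 7, 4, 7], [4, 8, 4, 8, 4, 8], [4, 9, 4, 9], [5, 5], [5, 6, 5, 6, 5, 6], [5, 7, 5, 7], [5, 8, 5, 8], [5, 9, 5, 9], [6, 6], [6, 7, 6, 7], [6, 8, 6, 8], [6, 9, 6, 9], [7, 7], [7, 8, 7, 8], [7, 9, 7, 9, 7, 9], [8,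 8], [8, 9, 8, 9], [9, 9], [0, 1, 2, 0, 3, 4, 0, 5, 6, 0, 1, 2, 0, 3, 4, 0, 5, 6, 0, 1, 2, 0, 3, 4, 0, 5, 6, 0, 1, 2, 0, 3, 4, 0, 5, 6, 0, 1, 2, 0, 3, 4, 0, 5, 6, 0, 1, 2, 0, 3, 4, 0, 5, 6, 0, 1, 2, 0, 3, 4, 0, 5, 6, 0, 1, 2, 0, 3, 4, 0, 5, 6, 0, 1, 2, 0, 3, 4, 0, 5, 6, 0, 1, 2, 0, 3, 4, 0, 5, 6]]

/-- relator words on the first 9 letters. -/
def R9 : List (List ℕ) := [[0, 0], [0, 1, 0, 1, 0, 1], [0, 2, 0, 2], [0, 3, 0, 3, 0, 3], [0, 4, 0, 4], [0, 5, 0, 5, 0, 5], [0, 6, 0, 6], [0, 7, 0, 7], [0, 8, 0, 8], [1, 1], [1, 2, 1, 2, 1, 2], [1, 3, 1, 3], [1, 4, 1, 4], [1, 5, 1, 5], [1, 6, 1, 6], [1, 7, 1, 7], [1, 8, 1, 8], [2, 2], [2, 3, 2, 3], [2, 4, 2, 4], [2, 5, 2, 5], [2, 6, 2, 6], [2, 7, 2, 7, 2, 7], [2, 8, 2, 8], [3, 3], [3, 4, 3, 4, 3, 4], [3, 5, 3, 5], [3, 6, 3, 6], [3, 7, 3, 7], [3, 8, 3, 8], [4, 4],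 [4, 5, 4, 5], [4, 6, 4, 6], [4, 7, 4, 7], [4, 8, 4, 8, 4, 8], [5, 5], [5, 6, 5, 6, 5, 6], [5, 7, 5, 7], [5, 8, 5, 8], [6, 6], [6, 7, 6, 7], [6, 8, 6, 8], [7, 7], [7, 8, 7, 8], [8, 8], [0, 1, 2, 0, 3, 4, 0, 5, 6, 0, 1, 2, 0, 3, 4, 0, 5, 6, 0, 1, 2, 0, 3, 4, 0, 5, 6, 0, 1, 2, 0, 3, 4, 0, 5, 6, 0, 1, 2, 0, 3, 4, 0, 5, 6, 0, 1, 2, 0, 3, 4, 0, 5, 6, 0, 1, 2, 0, 3, 4, 0, 5, 6, 0, 1, 2, 0, 3, 4, 0, 5, 6, 0, 1, 2, 0, 3, 4, 0, 5, 6, 0, 1, 2, 0, 3, 4, 0, 5, 6]]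

/-- relator words on the first 8 letters. -/
def R8 : List (List ℕ) := [[0, 0], [0, 1, 0, 1, 0, 1], [0, 2, 0, 2], [0, 3, 0, 3, 0, 3], [0, 4, 0, 4], [0, 5, 0, 5, 0, 5], [0, 6, 0, 6], [0, 7, 0, 7], [1, 1], [1, 2, 1, 2, 1, 2], [1, 3, 1, 3], [1, 4, 1, 4], [1, 5, 1, 5], [1, 6, 1, 6], [1, 7, 1, 7], [2, 2], [2, 3, 2, 3], [2, 4, 2, 4], [2, 5, 2, 5], [2, 6, 2, 6], [2, 7, 2, 7, 2, 7], [3, 3], [3, 4, 3, 4, 3, 4], [3, 5, 3, 5], [3, 6, 3, 6], [3, 7, 3, 7], [4, 4], [4, 5, 4, 5], [4, 6, 4, 6], [4, 7, 4, 7], [5, 5], [5, 6, 5, 6, 5, 6], [5, 7, 5, 7], [6, 6], [6, 7, 6, 7], [7, 7], [0, 1, 2, 0, 3, 4, 0, 5, 6, 0, 1, 2, 0, 3, 4, 0, 5, 6, 0, 1, 2, 0, 3, 4, 0, 5, 6, 0, 1, 2, 0, 3, 4, 0, 5, 6, 0, 1, 2, 0, 3, 4, 0, 5, 6, 0, 1, 2, 0, 3, 4, 0, 5, 6, 0, 1, 2, 0, 3, 4, 0, 5, 6, 0, 1, 2, 0, 3, 4, 0, 5, 6, 0, 1, 2, 0, 3, 4, 0, 5,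 6, 0, 1, 2, 0, 3, 4, 0, 5, 6]]

/-- relator words on the first 7 letters. -/
def R7 : List (List ℕ) := [[0, 0], [0, 1, 0, 1, 0, 1], [0, 2, 0, 2], [0, 3, 0, 3, 0, 3], [0, 4, 0, 4], [0, 5, 0, 5, 0, 5], [0, 6, 0, 6], [1, 1], [1, 2, 1, 2, 1, 2], [1, 3, 1, 3], [1, 4, 1, 4], [1, 5, 1, 5], [1, 6, 1, 6], [2, 2], [2, 3, 2, 3], [2, 4, 2, 4], [2, 5, 2, 5], [2, 6, 2, 6], [3, 3], [3, 4, 3, 4, 3, 4], [3, 5, 3, 5], [3, 6, 3, 6], [4, 4], [4, 5, 4, 5], [4, 6, 4, 6], [5, 5], [5, 6, 5, 6, 5, 6], [6, 6], [0, 1, 2, 0, 3, 4, 0, 5, 6, 0, 1, 2, 0, 3, 4, 0, 5, 6, 0, 1, 2, 0, 3, 4, 0, 5, 6, 0, 1, 2, 0, 3, 4, 0, 5, 6, 0, 1, 2, 0, 3, 4, 0, 5, 6, 0, 1, 2, 0, 3, 4, 0, 5, 6, 0, 1, 2, 0, 3, 4, 0, 5, 6, 0, 1, 2, 0, 3, 4, 0, 5, 6, 0, 1, 2, 0, 3, 4, 0, 5, 6, 0, 1, 2, 0, 3, 4, 0, 5, 6]]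

/-- relator words on the first 6 letters. -/
def R6 : List (List ℕ) := [[0, 0], [0, 1, 0, 1, 0, 1], [0, 2, 0, 2], [0, 3, 0, 3, 0, 3], [0, 4, 0, 4], [0, 5, 0, 5, 0, 5], [1, 1], [1, 2, 1, 2, 1, 2], [1, 3, 1, 3], [1, 4, 1, 4], [1, 5, 1, 5], [2, 2], [2, 3, 2, 3], [2, 4, 2, 4], [2, 5, 2, 5], [3, 3], [3, 4, 3, 4, 3, 4], [3, 5, 3, 5], [4, 4], [4, 5, 4, 5], [5, 5]]

/-- relator words on the first 5 letters. -/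
def R5 : List (List ℕ) := [[0, 0], [0, 1, 0, 1, 0, 1], [0, 2, 0, 2], [0, 3, 0, 3, 0, 3], [0, 4, 0, 4], [1, 1], [1, 2, 1, 2, 1, 2], [1, 3, 1, 3], [1, 4, 1, 4], [2, 2], [2, 3, 2, 3], [2, 4, 2, 4], [3, 3], [3, 4, 3, 4, 3, 4], [4, 4]]

/-- relator words on the first 4 letters. -/
def R4 : List (List ℕ) := [[0, 0], [0, 1, 0, 1, 0, 1], [0, 2, 0, 2], [0, 3, 0, 3, 0, 3], [1, 1], [1, 2, 1, 2, 1, 2], [1, 3, 1, 3], [2, 2], [2, 3, 2, 3], [3, 3]]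

/-- relator words on the first 3 letters. -/
def R3 : List (List ℕ) := [[0, 0], [0, 1, 0, 1, 0, 1], [0, 2, 0, 2], [1, 1], [1, 2, 1, 2, 1, 2], [2, 2]]

/-- relator words on the first 2 letters. -/
def R2 : List (List ℕ) := [[0, 0], [0, 1, 0, 1, 0, 1], [1, 1]]

theorem wordsA : ∀ i (hi : i < (R11 ++ letterWords 10).length),
    unpack (Y5ATC.E.D.wlen i) (Y5ATC.E.D.wordP i) = ((R11 ++ letterWords 10)[i]).reverse :=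
  wordsMatchB_spec0 _ _ _ (by decide +kernel)

theorem idxA : (para 11 (R11) 10).index = 1 :=
  lp_index (by decide +kernel) (letterWords 10) Y5ATC.E Y5ATC.iota (fun _ => rfl) rfl rfl rfl
    (by decide +kernel) wordsA Y5ATC.rev_ok Y5ATC.hE Y5ATC.hA Y5ATC.set_ok Y5ATC.hrows
    (by norm_num) Y5ATC.hT Y5ATC.hltr Y5ATC.hrelT Y5ATC.hsubT Y5ATC.hconn

theorem wordsB : ∀ i (hi : i < (R10 ++ letterWords 9).length),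
    unpack (Y5BTC.E.D.wlen i) (Y5BTC.E.D.wordP i) = ((R10 ++ letterWords 9)[i]).reverse :=
  wordsMatchB_spec0 _ _ _ (by decide +kernel)

theorem idxB : (para 10 (R10) 9).index = 31671 :=
  lp_index (by decide +kernel) (letterWords 9) Y5BTC.E Y5BTC.iota (fun _ => rfl) rfl rfl rfl
    (by decide +kernel) wordsB Y5BTC.rev_ok Y5BTC.hE Y5BTC.hA Y5BTC.set_ok Y5BTC.hrows
    (by norm_num) Y5BTC.hT Y5BTC.hltr Y5BTC.hrelT Y5BTC.hsubT Y5BTC.hconn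

theorem wordsC : ∀ i (hi : i < (R9 ++ letterWords 8).length),
    unpack (Y5CTC.E.D.wlen i) (Y5CTC.E.D.wordP i) = ((R9 ++ letterWords 8)[i]).reverse :=
  wordsMatchB_spec0 _ _ _ (by decide +kernel)

theorem idxC : (para 9 (R9) 8).index = 28160 :=
  lp_index (by decide +kernel) (letterWords 8) Y5CTC.E Y5CTC.iota (fun _ => rfl) rfl rfl rfl
    (by decide +kernel) wordsC Y5CTC.rev_ok Y5CTC.hE Y5CTC.hA Y5CTC.set_ok Y5CTC.hrows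
    (by norm_num) Y5CTC.hT Y5CTC.hltr Y5CTC.hrelT Y5CTC.hsubT Y5CTC.hconn

theorem wordsD : ∀ i (hi : i < (R8 ++ letterWords 7).length),
    unpack (Y5DTC.E.D.wlen i) (Y5DTC.E.D.wordP i) = ((R8 ++ letterWords 7)[i]).reverse :=
  wordsMatchB_spec0 _ _ _ (by decide +kernel)

theorem idxD : (para 8 (R8) 7).index = 728 :=
  lp_index (by decide +kernel) (letterWords 7) Y5DTC.E Y5DTC.iota (fun _ => rfl) rfl rfl rfl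
    (by decide +kernel) wordsD Y5DTC.rev_ok Y5DTC.hE Y5DTC.hA Y5DTC.set_ok Y5DTC.hrows
    (by norm_num) Y5DTC.hT Y5DTC.hltr Y5DTC.hrelT Y5DTC.hsubT Y5DTC.hconn

theorem wordsE : ∀ i (hi : i < (R7 ++ letterWords 6).length),
    unpack (Y5ETC.E.D.wlen i) (Y5ETC.E.D.wordP i) = ((R7 ++ letterWords 6)[i]).reverse :=
  wordsMatchB_spec0 _ _ _ (by decide +kernel)

theorem idxE : (para 7 (R7) 6).index = 243 :=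
  lp_index (by decide +kernel) (letterWords 6) Y5ETC.E Y5ETC.iota (fun _ => rfl) rfl rfl rfl
    (by decide +kernel) wordsE Y5ETC.rev_ok Y5ETC.hE Y5ETC.hA Y5ETC.set_ok Y5ETC.hrows
    (by norm_num) Y5ETC.hT Y5ETC.hltr Y5ETC.hrelT Y5ETC.hsubT Y5ETC.hconn

theorem wordsF : ∀ i (hi : i < (R6 ++ letterWords 5).length),
    unpack (Y5FTC.E.D.wlen i) (Y5FTC.E.D.wordP i) = ((R6 ++ letterWords 5)[i]).reverse :=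
  wordsMatchB_spec0 _ _ _ (by decide +kernel)

theorem idxF : (para 6 (R6) 5).index = 72 :=
  lp_index (by decide +kernel) (letterWords 5) Y5FTC.E Y5FTC.iota (fun _ => rfl) rfl rfl rfl
    (by decide +kernel) wordsF Y5FTC.rev_ok Y5FTC.hE Y5FTC.hA Y5FTC.set_ok Y5FTC.hrows
    (by norm_num) Y5FTC.hT Y5FTC.hltr Y5FTC.hrelT Y5FTC.hsubT Y5FTC.hconn

theorem wordsG : ∀ i (hi : i < (R5 ++ letterWords 4).length),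
    unpack (Y5GTC.E.D.wlen i) (Y5GTC.E.D.wordP i) = ((R5 ++ letterWords 4)[i]).reverse :=
  wordsMatchB_spec0 _ _ _ (by decide +kernel)

theorem idxG : (para 5 (R5) 4).index = 6 :=
  lp_index (by decide +kernel) (letterWords 4) Y5GTC.E Y5GTC.iota (fun _ => rfl) rfl rfl rfl
    (by decide +kernel) wordsG Y5GTC.rev_ok Y5GTC.hE Y5GTC.hA Y5GTC.set_ok Y5GTC.hrows
    (by norm_num) Y5GTC.hT Y5GTC.hltr Y5GTC.hrelT Y5GTC.hsubT Y5GTC.hconn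

theorem wordsH : ∀ i (hi : i < (R4 ++ letterWords 3).length),
    unpack (Y5HTC.E.D.wlen i) (Y5HTC.E.D.wordP i) = ((R4 ++ letterWords 3)[i]).reverse :=
  wordsMatchB_spec0 _ _ _ (by decide +kernel)

theorem idxH : (para 4 (R4) 3).index = 5 :=
  lp_index (by decide +kernel) (letterWords 3) Y5HTC.E Y5HTC.iota (fun _ => rfl) rfl rfl rfl
    (by decide +kernel) wordsH Y5HTC.rev_ok Y5HTC.hE Y5HTC.hA Y5HTC.set_ok Y5HTC.hrows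
    (by norm_num) Y5HTC.hT Y5HTC.hltr Y5HTC.hrelT Y5HTC.hsubT Y5HTC.hconn

theorem wordsI : ∀ i (hi : i < (R3 ++ letterWords 2).length),
    unpack (Y5ITC.E.D.wlen i) (Y5ITC.E.D.wordP i) = ((R3 ++ letterWords 2)[i]).reverse :=
  wordsMatchB_spec0 _ _ _ (by decide +kernel)

theorem idxI : (para 3 (R3) 2).index = 4 :=
  lp_index (by decide +kernel) (letterWords 2) Y5ITC.E Y5ITC.iota (fun _ => rfl) rfl rfl rfl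
    (by decide +kernel) wordsI Y5ITC.rev_ok Y5ITC.hE Y5ITC.hA Y5ITC.set_ok Y5ITC.hrows
    (by norm_num) Y5ITC.hT Y5ITC.hltr Y5ITC.hrelT Y5ITC.hsubT Y5ITC.hconn

theorem wordsJ : ∀ i (hi : i < (R2 ++ letterWords 1).length),
    unpack (Y5JTC.E.D.wlen i) (Y5JTC.E.D.wordP i) = ((R2 ++ letterWords 1)[i]).reverse :=
  wordsMatchB_spec0 _ _ _ (by decide +kernel)

theorem idxJ : (para 2 (R2) 1).index = 3 :=
  lp_index (by decide +kernel) (letterWords 1) Y5JTC.E Y5JTC.iota (fun _ => rfl) rfl rfl rfl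
    (by decide +kernel) wordsJ Y5JTC.rev_ok Y5JTC.hE Y5JTC.hA Y5JTC.set_ok Y5JTC.hrows
    (by norm_num) Y5JTC.hT Y5JTC.hltr Y5JTC.hrelT Y5JTC.hsubT Y5JTC.hconn

theorem ubJ : Finite (LPG 2 R2) ∧ Nat.card (LPG 2 R2) ≤ 3 * 2 :=
  card_le_base (by decide +kernel) (by norm_num) idxJ

theorem ubI : Finite (LPG 3 R3) ∧ Nat.card (LPG 3 R3) ≤ 4 * (3 * 2) :=
  card_le_step (k' := 2) (R' := R2) (by decide +kernel) (subListB_spec (by decide +kernel))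
    (by norm_num) idxI ubJ.1 ubJ.2

theorem ubH : Finite (LPG 4 R4) ∧ Nat.card (LPG 4 R4) ≤ 5 * (4 * (3 * 2)) :=
  card_le_step (k' := 3) (R' := R3) (by decide +kernel) (subListB_spec (by decide +kernel))
    (by norm_num) idxH ubI.1 ubI.2

theorem ubG : Finite (LPG 5 R5) ∧ Nat.card (LPG 5 R5) ≤ 6 * (5 * (4 * (3 * 2))) :=
  card_le_step (k' := 4) (R' := R4) (by decide +kernel) (subListB_spec (by decide +kernel))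
    (by norm_num) idxG ubH.1 ubH.2

theorem ubF : Finite (LPG 6 R6) ∧ Nat.card (LPG 6 R6) ≤ 72 * (6 * (5 * (4 * (3 * 2)))) :=
  card_le_step (k' := 5) (R' := R5) (by decide +kernel) (subListB_spec (by decide +kernel))
    (by norm_num) idxF ubG.1 ubG.2

theorem ubE : Finite (LPG 7 R7) ∧ Nat.card (LPG 7 R7) ≤ 243 * (72 * (6 * (5 * (4 * (3 * 2))))) :=
  card_le_step (k' := 6) (R' := R6) (by decide +kernel) (subListB_spec (by decide +kernel))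
    (by norm_num) idxE ubF.1 ubF.2

theorem ubD : Finite (LPG 8 R8) ∧ Nat.card (LPG 8 R8) ≤ 728 * (243 * (72 * (6 * (5 * (4 * (3 * 2)))))) :=
  card_le_step (k' := 7) (R' := R7) (by decide +kernel) (subListB_spec (by decide +kernel))
    (by norm_num) idxD ubE.1 ubE.2

theorem ubC : Finite (LPG 9 R9) ∧ Nat.card (LPG 9 R9) ≤ 28160 * (728 * (243 * (72 * (6 * (5 * (4 * (3 * 2))))))) :=
  card_le_step (k' := 8) (R' := R8) (by decide +kernel) (subListB_spec (by decide +kernel))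
    (by norm_num) idxC ubD.1 ubD.2

theorem ubB : Finite (LPG 10 R10) ∧ Nat.card (LPG 10 R10) ≤ 31671 * (28160 * (728 * (243 * (72 * (6 * (5 * (4 * (3 * 2)))))))) :=
  card_le_step (k' := 9) (R' := R9) (by decide +kernel) (subListB_spec (by decide +kernel))
    (by norm_num) idxB ubC.1 ubC.2

end Cfsg.Agent.Helper3.Y5LP
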