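import Mathlib
import Cfsg.Agent.Helper3.Y5LPA
import Cfsg.Agent.Helper3.Y5LPB

/-!
# `Y₅₃₂` with the spider relator: the end node `f1` is the ninth power of a Coxeter element of `E₇`

Letters `a b1 c1 b2 c2 b3 c3 d1 d2 e1 f1` (numbered `0, …, 10`).  The group `Y₄₃₂` on the first ten
letters has order at most `2·|Fi₂₃|` (tower of coset enumerations) and acts faithfully on
`31671 + 2` points (stabiliser chain); `Y₅₃₂` is generated by its first ten letters (a coset
enumeration of index one).  Hence `f1` is the element of `Y₄₃₂` satisfying its relations.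
-/

set_option autoImplicit false

namespace Cfsg.Agent.Helper3.Y5LP

open Cfsg.Agent.Helper5.TC Cfsg.Agent.Helper5.TCI Cfsg.Agent.Helper5.LP Cfsg.Agent.Helper3.Y5

theorem lettersB : LettersLt 10 R10 := by decide +kernel

theorem lettersA : LettersLt 11 R11 := by decide +kernel

theorem tableB : TableOK 10 31671 Y5BTC.ctF :=
  tableOK_of_cert Y5BTC.iota (fun _ => rfl) rfl Y5BTC.hT

theorem relsB : RelsFix R10 31671 Y5BTC.ctF :=
  relsFix_of_cert (letterWords 9) rfl wordsB Y5BTC.hrelT

theorem tableB2 : TableOK 10 31673 T2 := tableOK_ext2 tableB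

theorem relsB2 : RelsFix R10 31673 T2 :=
  relsFix_ext2 tableB lettersB relsB (by decide +kernel)

/-- the permutation representation of `Y₄₃₂` on `31671 + 2` points. -/
noncomputable def rho : LPG 10 R10 →* Equiv.Perm (Fin 31673) := tableHom lettersB tableB2 relsB2

theorem actsB : ActsOn rho (ev 10 R10) 10 T2 :=
  ⟨fun l hl v => tableHom_ev lettersB tableB2 relsB2 l hl v⟩

instance finiteB : Finite (LPG 10 R10) := ubB.1

theorem cardB_le : Nat.card (LPG 10 R10) ≤ chainProd levels := by
  rw [chain_prod]
  exact le_trans ubB.2 (by norm_num)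

/-- the Coxeter word of the first `E₇` diagram. -/
def c1w : List ℕ := [0, 1, 3, 5, 2, 4, 7]

/-- the Coxeter word of the second `E₇` diagram. -/
def c2w : List ℕ := [0, 1, 5, 3, 2, 6, 7]

/-- the ninth power of the first Coxeter word. -/
def z1 : List ℕ := (List.replicate 9 c1w).flatten

/-- the ninth power of the second Coxeter word. -/
def z2 : List ℕ := (List.replicate 9 c2w).flatten

theorem z1_lt : ∀ c ∈ z1, c < 10 := by decide

theorem z2_lt : ∀ c ∈ z2, c < 10 := by decide

set_option maxRecDepth 1000000 in
theorem check1 : substFixF T2 10 z1 base R11 = true := by decide +kernel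

set_option maxRecDepth 1000000 in
theorem check2 : substFixF T2 10 z2 base R11 = true := by decide +kernel

theorem rel_of_check {z : List ℕ} (hz : ∀ c ∈ z, c < 10) (h : substFixF T2 10 z base R11 = true) :
    ∀ l ∈ R11, ev 10 R10 (subst 10 z l) = 1 := by
  intro l hl
  apply ev_eq_one_of_base actsB levels chain_ok cardB_le _ (subst_lt hz l (lettersA l hl))
  rw [chainBase_eq]
  exact substFixF_spec h l hl

theorem subBA : ∀ l ∈ R10, l ∈ R11 := subListB_spec (by decide +kernel)

/-- **`f1` is the ninth power of the first Coxeter element.** -/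
theorem f1_eq_z1 : ev 11 R11 [10] = ev 11 R11 z1 :=
  letter_eq_word lettersB lettersA subBA idxA z1 z1_lt (rel_of_check z1_lt check1)

/-- **`f1` is the ninth power of the second Coxeter element.** -/
theorem f1_eq_z2 : ev 11 R11 [10] = ev 11 R11 z2 :=
  letter_eq_word lettersB lettersA subBA idxA z2 z2_lt (rel_of_check z2_lt check2)

end Cfsg.Agent.Helper3.Y5LP
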