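import Mathlib
import Cfsg.Prelude.Def_Spor_M
import Cfsg.Agent.Helper5.LPL
import Cfsg.Agent.Helper3.Y5Main

/-!
# The `Y₅₅₅` diagram with the spider relator: the six `E₇` relations

The group on the sixteen letters `a b1 c1 b2 c2 b3 c3 d1 d2 e1 f1 d3 e2 f2 e3 f3` with the Coxeter
relators of `Y₅₅₅` and the spider relator; the three rotations of the arms map the relators of `Y₅₃₂`
to relators (the spider word to a rotation of itself).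
-/

set_option autoImplicit false

namespace Cfsg.Agent.Helper3.Y5LP

open Cfsg.Agent.Helper5.TC Cfsg.Agent.Helper5.TCI Cfsg.Agent.Helper5.LP Cfsg.Agent.Helper3.Y5 Cfsg.Spor

/-- relator words on the sixteen letters. -/
def R16 : List (List ℕ) := [[0, 0], [0, 1, 0, 1, 0, 1], [0, 2, 0, 2], [0, 3, 0, 3, 0, 3], [0, 4, 0, 4], [0, 5, 0, 5, 0, 5], [0, 6, 0, 6], [0, 7, 0, 7], [0, 8, 0, 8], [0, 9, 0, 9], [0, 10, 0, 10], [0, 11, 0, 11], [0, 12, 0, 12], [0, 13, 0, 13], [0, 14, 0, 14], [0, 15, 0, 15], [1, 1], [1, 2, 1, 2, 1, 2], [1, 3, 1, 3], [1, 4, 1, 4], [1, 5, 1, 5], [1, 6, 1, 6], [1, 7, 1, 7], [1, 8, 1, 8], [1, 9, 1, 9], [1, 10, 1, 10], [1, 11, 1, 11], [1, 12, 1, 12], [1, 13, 1, 13], [1, 14, 1, 14], [1, 15, 1, 15], [2, 2], [2, 3, 2, 3], [2, 4, 2, 4], [2, 5, 2, 5], [2, 6, 2, 6], [2, 7, 2, 7, 2, 7], [2, 8, 2, 8], [2, 9, 2, 9], [2, 10, 2, 10], [2, 11, 2, 11], [2, 12, 2,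 12], [2, 13, 2, 13], [2, 14, 2, 14], [2, 15, 2, 15], [3, 3], [3, 4, 3, 4, 3, 4], [3, 5, 3, 5], [3, 6, 3, 6], [3, 7, 3, 7], [3, 8, 3, 8], [3, 9, 3, 9], [3, 10, 3, 10], [3, 11, 3, 11], [3, 12, 3, 12], [3, 13, 3, 13], [3, 14, 3, 14], [3, 15, 3, 15], [4, 4], [4, 5, 4, 5], [4, 6, 4, 6], [4, 7, 4, 7], [4, 8, 4, 8, 4, 8], [4, 9, 4, 9], [4, 10, 4, 10], [4, 11, 4, 11], [4, 12, 4, 12], [4, 13, 4, 13], [4, 14, 4, 14], [4, 15, 4, 15], [5, 5], [5, 6, 5, 6, 5, 6], [5, 7, 5, 7], [5, 8, 5, 8], [5, 9, 5, 9], [5, 10, 5, 10], [5, 11, 5, 11], [5, 12, 5, 12], [5, 13, 5, 13], [5, 14, 5, 14], [5, 15, 5, 15], [6, 6], [6, 7, 6, 7], [6, 8, 6, 8], [6, 9, 6, 9], [6, 10, 6, 10], [6, 11, 6, 11, 6, 11], [6, 12, 6, 12], [6, 13, 6, 13], [6, 14, 6, 14], [6, 15, 6, 15], [7, 7], [7, 8, 7, 8], [7, 9, 7, 9, 7, 9], [7, 10, 7, 10], [7, 11, 7, 11], [7, 12, 7, 12], [7, 13, 7, 13], [7, 14, 7, 14], [7,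 15, 7, 15], [8, 8], [8, 9, 8, 9], [8, 10, 8, 10], [8, 11, 8, 11], [8, 12, 8, 12, 8, 12], [8, 13, 8, 13], [8, 14, 8, 14], [8, 15, 8, 15], [9, 9], [9, 10, 9, 10, 9, 10], [9, 11, 9, 11], [9, 12, 9, 12], [9, 13, 9, 13], [9, 14, 9, 14], [9, 15, 9, 15], [10, 10], [10, 11, 10, 11], [10, 12, 10, 12], [10, 13, 10, 13], [10, 14, 10, 14], [10, 15, 10, 15], [11, 11], [11, 12, 11, 12], [11, 13, 11, 13], [11, 14, 11, 14, 11, 14], [11, 15, 11, 15], [12, 12], [12, 13, 12, 13, 12, 13], [12, 14, 12, 14], [12, 15, 12, 15], [13, 13], [13, 14, 13, 14], [13, 15, 13, 15], [14, 14], [14, 15, 14, 15, 14, 15], [15, 15], [0, 1, 2, 0, 3, 4, 0, 5, 6, 0, 1, 2, 0, 3, 4, 0, 5, 6, 0, 1, 2, 0, 3, 4, 0, 5, 6, 0, 1, 2, 0, 3, 4, 0, 5, 6, 0, 1, 2, 0, 3, 4, 0, 5, 6, 0, 1, 2, 0, 3, 4, 0, 5, 6, 0, 1, 2, 0, 3, 4, 0, 5, 6, 0, 1, 2, 0, 3, 4, 0, 5, 6, 0, 1, 2, 0, 3, 4, 0, 5, 6, 0, 1, 2, 0, 3, 4, 0, 5, 6]]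

/-- numbering of the generators. -/
def idx : Bimonster.Gen → ℕ
  | .a => 0
  | .b1 => 1
  | .c1 => 2
  | .d1 => 7
  | .e1 => 9
  | .f1 => 10
  | .b2 => 3
  | .c2 => 4
  | .d2 => 8
  | .e2 => 12
  | .f2 => 13
  | .b3 => 5
  | .c3 => 6
  | .d3 => 11
  | .e3 => 14
  | .f3 => 15

/-- the generator with a given number. -/
def gen : ℕ → Bimonster.Gen
  | 0 => .a
  | 1 => .b1
  | 2 => .c1
  | 3 => .b2
  | 4 => .c2
  | 5 => .b3
  | 6 => .c3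
  | 7 => .d1
  | 8 => .d2
  | 9 => .e1
  | 10 => .f1
  | 11 => .d3
  | 12 => .e2
  | 13 => .f2
  | 14 => .e3
  | _ => .f3

/-- a rotation of the arms, on the letters. -/
def phi0 : ℕ → ℕ
  | 0 => 0
  | 1 => 1
  | 2 => 2
  | 3 => 3
  | 4 => 4
  | 5 => 5
  | 6 => 6
  | 7 => 7
  | 8 => 8
  | 9 => 9
  | 10 => 10
  | _ => 0

/-- a rotation of the arms, on the letters. -/
def phi1 : ℕ → ℕ
  | 0 => 0
  | 1 => 3
  | 2 => 4
  | 3 => 5
  | 4 => 6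
  | 5 => 1
  | 6 => 2
  | 7 => 8
  | 8 => 11
  | 9 => 12
  | 10 => 13
  | _ => 0

/-- a rotation of the arms, on the letters. -/
def phi2 : ℕ → ℕ
  | 0 => 0
  | 1 => 5
  | 2 => 6
  | 3 => 1
  | 4 => 2
  | 5 => 3
  | 6 => 4
  | 7 => 11
  | 8 => 7
  | 9 => 14
  | 10 => 15
  | _ => 0

theorem letters16 : LettersLt 16 R16 := by decide +kernel

theorem invol16 : Invol 16 R16 := by decide +kernel

/-- the spider word. -/
abbrev spider : FreeGroup Bimonster.Gen :=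
  (Bimonster.a * Bimonster.b1 * Bimonster.c1 * Bimonster.a * Bimonster.b2 * Bimonster.c2 *
    Bimonster.a * Bimonster.b3 * Bimonster.c3) ^ 10

theorem y555_equiv : ∃ e : CoxPresented Bimonster.Gen Bimonster.edges [spider] ≃* LPG 16 R16,
    ∀ x, e (PresentedGroup.of x) = ev 16 R16 [idx x] :=
  cox_equiv_spec Bimonster.edges [spider] 16 R16 idx gen (by intro x; cases x <;> rfl)
    (by intro x; cases x <;> decide) (by intro c hc; interval_cases c <;> rfl)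
    (by intro x; cases x <;> decide) letters16 invol16 (by decide +kernel)
    (by decide +kernel) (by decide +kernel)

theorem rel0 : R11.all (fun l => relOK R16 (l.map phi0)) = true := by decide +kernel

theorem rel1 : R11.all (fun l => relOK R16 (l.map phi1)) = true := by decide +kernel

theorem rel2 : R11.all (fun l => relOK R16 (l.map phi2)) = true := by decide +kernel

theorem e7_0 : ev 16 R16 [10] = ev 16 R16 (z1.map phi0) :=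
  ev_map_eq invol16 phi0 lettersA rel0 [10] z1 (by decide) (by decide) f1_eq_z1

theorem e7_1 : ev 16 R16 [10] = ev 16 R16 (z2.map phi0) :=
  ev_map_eq invol16 phi0 lettersA rel0 [10] z2 (by decide) (by decide) f1_eq_z2

theorem e7_2 : ev 16 R16 [13] = ev 16 R16 (z1.map phi1) :=
  ev_map_eq invol16 phi1 lettersA rel1 [10] z1 (by decide) (by decide) f1_eq_z1

theorem e7_3 : ev 16 R16 [13] = ev 16 R16 (z2.map phi1) :=
  ev_map_eq invol16 phi1 lettersA rel1 [10] z2 (by decide) (by decide) f1_eq_z2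

theorem e7_4 : ev 16 R16 [15] = ev 16 R16 (z1.map phi2) :=
  ev_map_eq invol16 phi2 lettersA rel2 [10] z1 (by decide) (by decide) f1_eq_z1

theorem e7_5 : ev 16 R16 [15] = ev 16 R16 (z2.map phi2) :=
  ev_map_eq invol16 phi2 lettersA rel2 [10] z2 (by decide) (by decide) f1_eq_z2

end Cfsg.Agent.Helper3.Y5LP
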