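import Cfsg.Agent.Helper5.TC2A

/-! generated certificate data (events 0): Y5GTC -/

set_option autoImplicit false
set_option Elab.async false

namespace Cfsg.Agent.Helper3.Y5GTC
open Cfsg.Agent.Helper5.TC

def ev_0 : ℕ := 0x10082d0000001008290000001004190000001004090000000c08210000000c081d0000000c040500000008081100000004080d00000008080900000000083500000004042900000004041d00000000042d00000000042100000000041100000000004900000000004500000000004100000000003d000000000000
def evSel0 (c : ℕ) : ℕ := ev_0

end Cfsg.Agent.Helper3.Y5GTC
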