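import Cfsg.Agent.Helper5.TC2A

/-! generated certificate data (events 0): Y5HTC -/

set_option autoImplicit false
set_option Elab.async false

namespace Cfsg.Agent.Helper3.Y5HTC
open Cfsg.Agent.Helper5.TC

def ev_0 : ℕ := 0xc08210000000c04150000000c040900000008081900000008040500000000080d00000004080900000000042100000000041900000000003100000000002d000000000029000000000000
def evSel0 (c : ℕ) : ℕ := ev_0

end Cfsg.Agent.Helper3.Y5HTC
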