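import Cfsg.Agent.Helper3.Y5HTCTg0
import Cfsg.Agent.Helper3.Y5HTCTg1
import Cfsg.Agent.Helper3.Y5HTCTg2
import Cfsg.Agent.Helper3.Y5HTCTg3
import Cfsg.Agent.Helper3.Y5HTCRk0
import Cfsg.Agent.Helper3.Y5HTCRk1
import Cfsg.Agent.Helper3.Y5HTCRk2
import Cfsg.Agent.Helper3.Y5HTCRk3
import Cfsg.Agent.Helper3.Y5HTCEv0
import Cfsg.Agent.Helper3.Y5HTCDatA
import Cfsg.Agent.Helper3.Y5HTCDatB

/-! generated certificate data (D): Y5HTC -/

set_option autoImplicit false
set_option Elab.async false

namespace Cfsg.Agent.Helper3.Y5HTC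
open Cfsg.Agent.Helper5.TC

def tgF (x v : ℕ) : ℕ := (Bool.rec (motive := fun _ => ℕ) (Bool.rec (motive := fun _ => ℕ) (tg0F v) (tg1F v) (Nat.ble 1 x)) (Bool.rec (motive := fun _ => ℕ) (tg2F v) (tg3F v) (Nat.ble 3 x)) (Nat.ble 2 x))
def rkF (x v : ℕ) : ℕ := (Bool.rec (motive := fun _ => ℕ) (Bool.rec (motive := fun _ => ℕ) (rk0F v) (rk1F v) (Nat.ble 1 x)) (Bool.rec (motive := fun _ => ℕ) (rk2F v) (rk3F v) (Nat.ble 3 x)) (Nat.ble 2 x))
def evSel (c : ℕ) : ℕ := (evSel0 c)
def evF (v : ℕ) : ℕ := Nat.rec (motive := fun _ => ℕ) 0 (fun c _ => Nat.mod (Nat.shiftRight (evSel c) (Nat.mul 48 (Nat.mod v 341))) 281474976710656) (Nat.add (Nat.div v 341) 1)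
def iota (x : ℕ) : ℕ := x
def D : Dat where
  k := 4
  tgt := tgF
  par := parF
  gen := genF
  ali := aliF
  wordP := fun wi => Nat.mod (Nat.shiftRight wtT (Nat.mul 1024 wi)) 179769313486231590772930519078902473361797697894230657273430081157732675805500963132708477322407536021120113879871393357658789768814416622492847430639474124377767893424865485276302219601246094119453082952085005768838150682342462881473913110540827237163350510684586298239947245938479716304835356329624224137216
  wordR := fun wi => Nat.mod (Nat.shiftRight wrT (Nat.mul 1024 wi)) 179769313486231590772930519078902473361797697894230657273430081157732675805500963132708477322407536021120113879871393357658789768814416622492847430639474124377767893424865485276302219601246094119453082952085005768838150682342462881473913110540827237163350510684586298239947245938479716304835356329624224137216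
  wlen := fun wi => Nat.mod (Nat.shiftRight wlT (Nat.mul 8 wi)) 256
  nrel := 10
  nw := 13
  fuel := 2

def E : Dat2 where
  D := D
  rank := rkF
  arank := arkF
  ev := evF
  M := 5

def RS : ℕ := 0x1f

end Cfsg.Agent.Helper3.Y5HTC
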