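import Cfsg.Agent.Helper3.Y5JTCDatD
import Cfsg.Agent.Helper3.Y5JTCDatT
import Cfsg.Agent.Helper5.TCIB

/-! kernel checks of the coset table: Y5JTC -/

set_option autoImplicit false
set_option Elab.async false

namespace Cfsg.Agent.Helper3.Y5JTC
open Cfsg.Agent.Helper5.TC Cfsg.Agent.Helper5.TCI

set_option maxRecDepth 1000000 in
theorem relc_1_0 : fixPtsF W_1 3 0 = true := by decide +kernel

set_option maxRecDepth 1000000 in
theorem relc_0_0 : fixPtsF W_0 3 0 = true := by decide +kernel

set_option maxRecDepth 1000000 in
theorem relc_2_0 : fixPtsF W_2 3 0 = true := by decide +kernel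

set_option maxRecDepth 1000000 in
theorem inv_0_0 : invRowFI ctF 3 0 0 3 0 = true := by decide +kernel

set_option maxRecDepth 1000000 in
theorem inv_1_0 : invRowFI ctF 3 1 1 3 0 = true := by decide +kernel

set_option maxRecDepth 1000000 in
theorem conn_0 : connF ctF 2 3 0 = true := by decide +kernel

end Cfsg.Agent.Helper3.Y5JTC
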